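import Cfsg.Agent.InvChar.Coset.Fi23Order
import Cfsg.Prelude.Def_Sporadic

/-!
# Simplicity of the presented Fi23, its class of three-transpositions and the orbits of the point stabiliser
-/

set_option autoImplicit false
set_option linter.all false
set_option maxRecDepth 100000

noncomputable section

namespace Cfsg.Agent.InvChar.Coset.Fi23G

open Cfsg.Agent.CosetCert TreePerm

theorem counts : countLabel orbits 0 31671 = 1 ∧ countLabel orbits 1 31671 = 28160 ∧ countLabel orbits 2 31671 = 3510 := by
  decide +kernel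

theorem class_card (l : ℕ) :
    ((Finset.univ : Finset (Fin 31671)).filter fun c : Fin 31671 => orbits.label c = l).card = countLabel orbits l 31671 := by
  rw [countLabel_eq]
  refine Finset.card_bij (fun c _ => (c : ℕ)) (fun c hc => ?_) (fun a _ b _ h => Fin.ext h) fun b hb => ?_
  · simp only [Finset.mem_filter, Finset.mem_range]
    exact ⟨c.2, (Finset.mem_filter.mp hc).2⟩
  · simp only [Finset.mem_filter, Finset.mem_range] at hb
    exact ⟨⟨b, hb.1⟩, by simpa using hb.2, rfl⟩

theorem label_invariant {h : GG} (hh : h ∈ HH) : ∀ c : Fin 31671, orbits.label (φ h c) = orbits.label c := by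
  induction hh using Subgroup.closure_induction with
  | mem g hg =>
    obtain ⟨y, hy, rfl⟩ := hg
    intro c
    have h := orbit_row c.2
    simp only [orbitRow, Bool.and_eq_true] at h
    have key : ∀ l : List ℕ, labelsKept c l = true → ∀ y ∈ l,
        orbits.label (rd (nthT permList y) c) = orbits.label c := by
      intro l
      induction l with
      | nil => intro _ y hy; simp at hy
      | cons a l ihl =>
        intro hl y hy
        simp only [labelsKept, Bool.and_eq_true] at hl
        rcases List.mem_cons.mp hy with rfl | hy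
        · exact Nat.eq_of_beq_eq_true hl.1
        · exact ihl hl.2 y hy
    have e := φ_point (w := [y]) (by simpa using top_lt y hy) c
    rw [show el [y] = data.gen y from one_mul _] at e
    rw [e]
    exact key top h.1.1 y hy
  | one => intro c; rw [map_one]; rfl
  | mul a b _ _ iha ihb => intro c; rw [map_mul, Equiv.Perm.mul_apply, iha, ihb]
  | inv a _ ih =>
    intro c
    conv_rhs => rw [show c = φ a (φ a⁻¹ c) by rw [← Equiv.Perm.mul_apply, ← map_mul, mul_inv_cancel, map_one]; rfl]
    rw [ih]

theorem maximal {K : Subgroup GG} (hK : HH ≤ K) : K = HH ∨ K = ⊤ := by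
  classical
  let A : Finset (Fin 31671) := Finset.univ.filter fun c => ∃ k ∈ K, φ k base0 = c
  have hclass : ∀ c c' : Fin 31671, orbits.label c = orbits.label c' → c ∈ A → c' ∈ A := by
    intro c c' hl hc
    obtain ⟨h, hh, hhc⟩ := reach_root c
    obtain ⟨h', hh', hhc'⟩ := reach_root c'
    obtain ⟨k, hk, hkc⟩ := (Finset.mem_filter.mp hc).2
    refine Finset.mem_filter.mpr ⟨Finset.mem_univ _, h' * h⁻¹ * k, mul_mem (mul_mem (hK hh') (inv_mem (hK hh))) hk, ?_⟩
    rw [map_mul, map_mul, Equiv.Perm.mul_apply, Equiv.Perm.mul_apply, hkc, map_inv,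
      Equiv.Perm.inv_eq_iff_eq.mpr hhc.symm, hl, hhc']
  let T := A.image fun c : Fin 31671 => orbits.label c
  have hAT : A.card = ∑ l ∈ T, countLabel orbits l 31671 := by
    rw [Finset.card_eq_sum_card_image (fun c : Fin 31671 => orbits.label c) A]
    refine Finset.sum_congr rfl fun l hl => ?_
    obtain ⟨c₀, hc₀, rfl⟩ := Finset.mem_image.mp hl
    rw [← class_card]
    refine congrArg Finset.card (Finset.ext fun c => ?_)
    simp only [Finset.mem_filter, Finset.mem_univ, true_and]
    exact ⟨fun h => h.2, fun h => ⟨hclass c₀ c h.symm hc₀, h⟩⟩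
  have hcard : A.card = HH.relIndex K := by
    rw [Subgroup.relIndex, Subgroup.index_eq_card, ← Nat.card_eq_finsetCard]
    symm
    refine Nat.card_eq_of_bijective (fun p => Quotient.liftOn' p (fun k : K =>
      (⟨φ k base0, Finset.mem_filter.mpr ⟨Finset.mem_univ _, k, k.2, rfl⟩⟩ : A)) fun a b hab => ?_) ⟨?_, ?_⟩
    · rw [QuotientGroup.leftRel_apply, Subgroup.mem_subgroupOf] at hab
      refine Subtype.ext ?_
      show φ a base0 = φ b base0
      exact congrArg (fun q => point q) (QuotientGroup.eq.mpr hab : (QuotientGroup.mk (a : GG) : GG ⧸ HH) = QuotientGroup.mk (b : GG))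
    · intro p p'
      refine QuotientGroup.induction_on p (fun a => QuotientGroup.induction_on p' fun b h => ?_)
      have h' : φ (a : GG) base0 = φ (b : GG) base0 := congrArg Subtype.val h
      rw [QuotientGroup.eq, Subgroup.mem_subgroupOf]
      exact QuotientGroup.eq.mp (point_bijective.1 h' :
        (QuotientGroup.mk (a : GG) : GG ⧸ HH) = QuotientGroup.mk (b : GG))
    · rintro ⟨c, hc⟩
      obtain ⟨k, hk, rfl⟩ := (Finset.mem_filter.mp hc).2
      exact ⟨QuotientGroup.mk ⟨k, hk⟩, rfl⟩
  have h0 : 0 ∈ T := Finset.mem_image.mpr ⟨base0,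
    Finset.mem_filter.mpr ⟨Finset.mem_univ _, 1, one_mem K, by rw [map_one]; rfl⟩, by decide +kernel⟩
  have hT : T ∈ (Finset.range 3).powerset := Finset.mem_powerset.mpr fun l hl => by
    obtain ⟨c, -, rfl⟩ := Finset.mem_image.mp hl
    exact Finset.mem_range.mpr (label_lt c.2)
  have hdvd : HH.relIndex K ∣ 31671 := by
    rw [← index_H]
    exact Dvd.intro _ (Subgroup.relIndex_mul_index hK)
  have hkey : ∀ T ∈ (Finset.range 3).powerset, 0 ∈ T →
      (∑ l ∈ T, if l = 0 then 1 else if l = 1 then 28160 else 3510) ∣ 31671 →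
      (∑ l ∈ T, if l = 0 then 1 else if l = 1 then 28160 else 3510) = 1 ∨
      (∑ l ∈ T, if l = 0 then 1 else if l = 1 then 28160 else 3510) = 31671 := by decide +kernel
  have hsum : A.card = ∑ l ∈ T, if l = 0 then 1 else if l = 1 then 28160 else 3510 := by
    rw [hAT]
    refine Finset.sum_congr rfl fun l hl => ?_
    have := Finset.mem_range.mp (Finset.mem_powerset.mp hT hl)
    interval_cases l
    exacts [counts.1, counts.2.1, counts.2.2]
  rcases hkey T hT h0 (by rw [← hsum, hcard]; exact hdvd) with h | h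
  · left
    rw [← hsum, hcard, Subgroup.relIndex_eq_one] at h
    exact le_antisymm h hK
  · right
    rw [← hsum, hcard] at h
    have h2 := Subgroup.relIndex_mul_index hK
    rw [h, index_H] at h2
    exact Subgroup.index_eq_one.mp (by omega)

/-! ### Simplicity -/

theorem pow_word (u : List ℕ) {i1 i2 i4 i8 i16 : ℕ} (hu : ∀ y ∈ u, y < 10)
    (hl : ([i1, i2, i4, i8, i16].all fun y => Nat.blt y 30) = true)
    (e1 : ([i1], u) ∈ eqns) (e2 : ([i2], [i1, i1]) ∈ eqns) (e4 : ([i4], [i2, i2]) ∈ eqns)
    (e8 : ([i8], [i4, i4]) ∈ eqns) (e16 : ([i16], [i8, i8]) ∈ eqns) (e23 : ([i16, i4, i2, i1], []) ∈ eqns) :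
    el u ^ 23 = 1 := by
  have hu30 : ∀ k, ∀ y ∈ (List.replicate k u).flatten, y < 30 := fun k y hy => by
    obtain ⟨v, hv, hyv⟩ := List.mem_flatten.mp hy
    rw [List.eq_of_mem_replicate hv] at hyv
    have := hu y hyv
    omega
  have r1 : Same permList 31671 (List.replicate 1 u).flatten [i1] := by
    rw [List.replicate_one, List.flatten_singleton]
    exact (same_eqn e1).symm
  have dbl : ∀ {k i j : ℕ}, Same permList 31671 (List.replicate k u).flatten [i] → ([j], [i, i]) ∈ eqns →
      Same permList 31671 (List.replicate (k + k) u).flatten [j] := fun {k i j} h e => by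
    rw [rep_add]
    exact (TreePerm.Same.app below (hu30 _) h h).trans (same_eqn e).symm
  have r2 := dbl r1 e2
  have r4 := dbl r2 e4
  have r8 := dbl r4 e8
  have r16 := dbl r8 e16
  have r23 : Same permList 31671 (List.replicate 23 u).flatten [i16, i4, i2, i1] := by
    rw [show 23 = 16 + (4 + (2 + 1)) from rfl, rep_add, rep_add, rep_add]
    exact TreePerm.Same.app below (hu30 _) r16 (TreePerm.Same.app below (hu30 _) r4
      (TreePerm.Same.app below (hu30 _) r2 r1))
  apply φ_injective
  rw [← wprod_pow, map_one]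
  have hlet : ∀ y ∈ (List.replicate 23 u).flatten, y < 10 := fun y hy => by
    obtain ⟨v, hv, hyv⟩ := List.mem_flatten.mp hy
    rw [List.eq_of_mem_replicate hv] at hyv
    exact hu y hyv
  rw [φ_same (b := []) hlet (by simp) (r23.trans (same_eqn e23))]
  exact map_one φ

theorem simple : IsSimpleGroup GG := by
  haveI : Nontrivial GG := ⟨z, 1, z_ne⟩
  refine ⟨fun N hN => ?_⟩
  rcases eq_or_ne N ⊥ with h | h
  · exact Or.inl h
  right
  have hNH : ¬ N ≤ HH := by
    intro hle
    refine h ((Subgroup.eq_bot_iff_forall N).mpr fun g hg => φ_injective (Equiv.ext fun c => ?_))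
    rw [map_one]
    obtain ⟨a, rfl⟩ := transitive c
    have hm : a⁻¹ * g * a ∈ HH := hle (by simpa using hN.conj_mem g hg a⁻¹)
    have := H_fix0 hm
    rw [map_mul, map_mul, map_inv, Equiv.Perm.mul_apply, Equiv.Perm.mul_apply, Equiv.Perm.inv_eq_iff_eq] at this
    exact this
  have htop : N ⊔ HH = ⊤ := by
    rcases maximal (le_sup_right : HH ≤ N ⊔ HH) with h1 | h1
    · exact absurd (le_sup_left.trans h1.le) hNH
    · exact h1
  have hdiv : N.index ∣ Nat.card HH := by
    have h1 : N.index = N.relIndex HH := by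
      rw [← Subgroup.relIndex_top_right, ← htop, Subgroup.relIndex_sup_left]
    rw [h1]
    exact Subgroup.relIndex_dvd_card N HH
  have hp : ∀ {x : GG}, x ^ 23 = 1 → x ∈ N := fun {x} hx => by
    rw [← QuotientGroup.eq_one_iff]
    have h1 : orderOf (x : GG ⧸ N) ∣ 23 := orderOf_dvd_of_pow_eq_one (by rw [← QuotientGroup.mk_pow, hx]; rfl)
    have h2 : orderOf (x : GG ⧸ N) ∣ N.index := Subgroup.index_eq_card N ▸ orderOf_dvd_natCard _
    rcases (Nat.dvd_prime (by norm_num)).mp h1 with h3 | h3
    · exact orderOf_eq_one_iff.mp h3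
    · exfalso
      have h4 := (h3 ▸ h2).trans hdiv
      rw [card_H] at h4
      norm_num at h4
  have hu : el wordU ∈ N := hp (pow_word wordU (i1 := 20) (i2 := 21) (i4 := 22) (i8 := 23) (i16 := 24)
    (by decide +kernel) (by decide) (by decide +kernel) (by decide +kernel) (by decide +kernel) (by decide +kernel)
    (by decide +kernel) (by decide +kernel))
  have hv : el (0 :: wordU.reverse) ∈ N := hp (pow_word _ (i1 := 25) (i2 := 26) (i4 := 27) (i8 := 28) (i16 := 29)
    (by decide +kernel) (by decide) (by decide +kernel) (by decide +kernel) (by decide +kernel) (by decide +kernel)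
    (by decide +kernel) (by decide +kernel))
  have h0 : data.gen 0 ∈ N := by
    have := mul_mem hu hv
    rwa [el, el, wprod, wprod_reverse data.gen data.gen_sq, mul_inv_cancel_left] at this
  have hjoin : ∀ x y, [y, x, y, x, y, x] ∈ table.C.W → data.gen y ∈ N → data.gen x ∈ N := by
    intro x y hw hy
    have hr := data.gen_rel _ hw
    simp only [wprod, one_mul] at hr
    rw [← QuotientGroup.eq_one_iff] at hy ⊢
    have h1 := congrArg (QuotientGroup.mk' N) hr
    have h2 := congrArg (QuotientGroup.mk' N) (data.gen_sq x)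
    simp only [map_mul, map_one, QuotientGroup.mk'_apply, hy, one_mul, mul_one] at h1 h2
    rwa [h2, one_mul] at h1
  have g1 := hjoin 1 0 (by decide +kernel) h0
  have g2 := hjoin 2 1 (by decide +kernel) g1
  have g3 := hjoin 3 2 (by decide +kernel) g2
  have g4 := hjoin 4 3 (by decide +kernel) g3
  have g5 := hjoin 5 4 (by decide +kernel) g4
  have g6 := hjoin 6 5 (by decide +kernel) g5
  have g7 := hjoin 7 6 (by decide +kernel) g6
  have g8 := hjoin 8 3 (by decide +kernel) g3
  have g9 := hjoin 9 8 (by decide +kernel) g8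
  rw [eq_top_iff, ← data.gen_top, Subgroup.closure_le]
  rintro _ ⟨x, hx, rfl⟩
  have hx' : x < 10 := K_eq ▸ hx
  interval_cases x
  exacts [h0, g1, g2, g3, g4, g5, g6, g7, g8, g9]

theorem is_Fi23 : Cfsg.IsFi23 GG := ⟨simple, card_GG⟩

theorem transfer_cover {A B : Type} [Group A] [Group B] {K : Type} [Group K] (e : A ≃* B)
    (h : Cfsg.IsNonsplitDoubleCover A K) : Cfsg.IsNonsplitDoubleCover B K := by
  obtain ⟨h1, ⟨i⟩, h3⟩ := h
  have hc : (Subgroup.center A).map e.toMonoidHom = Subgroup.center B := by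
    ext b
    simp only [Subgroup.mem_map, Subgroup.mem_center_iff, MulEquiv.coe_toMonoidHom]
    constructor
    · rintro ⟨a, ha, rfl⟩ g
      obtain ⟨g, rfl⟩ := e.surjective g
      rw [← map_mul, ← map_mul, ha]
    · intro hb
      exact ⟨e.symm b, fun g => e.injective (by rw [map_mul, map_mul, e.apply_symm_apply, hb]), e.apply_symm_apply b⟩
  refine ⟨?_, ⟨(QuotientGroup.congr _ _ e hc).symm.trans i⟩, fun L hL => ?_⟩
  · rw [← hc, Subgroup.card_map_of_injective e.injective, h1]
  · refine h3 (L.map e.symm.toMonoidHom) ?_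
    have hd : Subgroup.center A = (Subgroup.center B).map e.symm.toMonoidHom := by
      rw [← hc, Subgroup.map_map]
      ext x
      simp [Subgroup.mem_map]
    rw [hd]
    refine Subgroup.isComplement'_of_disjoint_and_mul_eq_univ ?_ ?_
    · rw [disjoint_iff, ← Subgroup.map_inf _ _ _ e.symm.injective, hL.disjoint.eq_bot, Subgroup.map_bot]
    · ext x
      simp only [Set.mem_univ, iff_true, Set.mem_mul, SetLike.mem_coe]
      obtain ⟨⟨p, q⟩, hpq, -⟩ := hL.existsUnique (e x)
      exact ⟨e.symm p, Subgroup.mem_map_of_mem _ p.2, e.symm q, Subgroup.mem_map_of_mem _ q.2, by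
        rw [← map_mul]
        simp only at hpq
        rw [hpq, e.symm_apply_apply]⟩

theorem double_cover_HH : Cfsg.IsNonsplitDoubleCover HH Cfsg.Spor.Fi22 := transfer_cover isoH.symm double_cover_AH

/-! ### The class of three-transpositions -/

theorem conj_z {h : GG} (hh : h ∈ HH) : h * z * h⁻¹ = z := by rw [← z_comm hh, mul_inv_cancel_right]

theorem centralizer_z : Subgroup.centralizer ({z} : Set GG) = HH := by
  rcases maximal (K := Subgroup.centralizer ({z} : Set GG))
    (fun h hh => Subgroup.mem_centralizer_singleton_iff.mpr (z_comm hh).symm) with h | h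
  · exact h
  · exfalso
    haveI := simple
    have hmem : z ∈ Subgroup.center GG := Subgroup.mem_center_iff.mpr fun g =>
      Subgroup.mem_centralizer_singleton_iff.mp (h ▸ Subgroup.mem_top g : g ∈ Subgroup.centralizer ({z} : Set GG))
    rcases IsSimpleGroup.eq_bot_or_eq_top_of_normal (Subgroup.center GG) inferInstance with h1 | h1
    · rw [h1, Subgroup.mem_bot] at hmem
      exact z_ne hmem
    · letI : CommGroup GG :=
        { (inferInstance : Group GG) with
          mul_comm := fun a b => (Subgroup.mem_center_iff.mp (h1 ▸ Subgroup.mem_top a) b).symm }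
      have hp := IsSimpleGroup.prime_card (α := GG)
      rw [card_GG] at hp
      norm_num at hp

theorem card_class : Nat.card (conjugatesOf z) = 31671 := by
  rw [← index_H, ← centralizer_z, Subgroup.index_eq_card]
  symm
  refine Nat.card_eq_of_bijective (fun p => Quotient.liftOn' p
    (fun g => (⟨g * z * g⁻¹, isConj_iff.mpr ⟨g, rfl⟩⟩ : conjugatesOf z)) fun a b hab => ?_) ⟨?_, ?_⟩
  · rw [QuotientGroup.leftRel_apply, Subgroup.mem_centralizer_singleton_iff] at hab
    refine Subtype.ext ?_
    show a * z * a⁻¹ = b * z * b⁻¹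
    have key : a⁻¹ * b * z * (a⁻¹ * b)⁻¹ = z := mul_inv_eq_iff_eq_mul.mpr hab
    calc a * z * a⁻¹ = a * (a⁻¹ * b * z * (a⁻¹ * b)⁻¹) * a⁻¹ := by rw [key]
      _ = b * z * b⁻¹ := by group
  · intro p p'
    refine QuotientGroup.induction_on p (fun a => QuotientGroup.induction_on p' fun b h => ?_)
    have h' : a * z * a⁻¹ = b * z * b⁻¹ := congrArg Subtype.val h
    rw [QuotientGroup.eq, Subgroup.mem_centralizer_singleton_iff]
    calc a⁻¹ * b * z = a⁻¹ * (b * z * b⁻¹) * b := by group
      _ = a⁻¹ * (a * z * a⁻¹) * b := by rw [h']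
      _ = z * (a⁻¹ * b) := by group
  · rintro ⟨d, hd⟩
    obtain ⟨g, rfl⟩ := isConj_iff.mp hd
    exact ⟨QuotientGroup.mk g, rfl⟩

/-- The product of the involution with its conjugate by a root word. -/
def pairW (l : ℕ) : List ℕ := zW ++ ((rootWord l).reverse ++ (zW ++ rootWord l))

theorem pair_lt (l : ℕ) : ∀ y ∈ pairW l, y < 10 := fun y hy => by
  simp only [pairW, List.mem_append, List.mem_reverse] at hy
  rcases hy with hy | hy | hy | hy
  exacts [zW_lt y hy, rootWord_lt l y hy, zW_lt y hy, rootWord_lt l y hy]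

theorem pair_eq (l : ℕ) : el (pairW l) = el (rootWord l) * z * (el (rootWord l))⁻¹ * z := by
  simp only [pairW, el, CosetCert.wprod_append, wprod_reverse data.gen data.gen_sq, z]

theorem pair_same (l : ℕ) : Same permList 31671 (pairW l) ([17] ++ ((rootWord l).reverse ++ ([17] ++ rootWord l))) := by
  have hz : ∀ y ∈ zW, y < 30 := fun y hy => (zW_lt y hy).trans (by norm_num)
  refine TreePerm.Same.app below hz z_same (TreePerm.Same.app below
    (fun y hy => (rootWord_lt l y (List.mem_reverse.mp hy)).trans (by norm_num)) (fun _ _ => rfl) ?_)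
  exact TreePerm.Same.app below hz z_same fun _ _ => rfl

theorem pair_pow {l : ℕ} (hl : l < 3) : el (pairW l) ^ 2 = 1 ∨ el (pairW l) ^ 3 = 1 := by
  have hp30 : ∀ y ∈ pairW l, y < 30 := fun y hy => (pair_lt l y hy).trans (by norm_num)
  have fin : ∀ k i, (k = 2 ∨ k = 3) → Same permList 31671 (pairW l) [i] →
      ((List.replicate k [i]).flatten, []) ∈ eqns → el (pairW l) ^ k = 1 := fun k i _ hs he => by
    apply φ_injective
    rw [← wprod_pow, map_one, φ_same (b := []) (fun y hy => ?_) (by simp)
      ((TreePerm.Same.rep below hp30 hs k).trans (same_eqn he))]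
    · exact map_one φ
    · obtain ⟨v, hv, hyv⟩ := List.mem_flatten.mp hy
      rw [List.eq_of_mem_replicate hv] at hyv
      exact pair_lt l y hyv
  interval_cases l
  · left
    have : el (pairW 0) = 1 := by
      rw [pair_eq, show el (rootWord 0) = 1 from rfl, one_mul, inv_one, mul_one, z_sq]
    rw [this, one_pow]
  · exact Or.inr (fin 3 18 (Or.inr rfl) ((pair_same 1).trans (same_eqn (by decide +kernel)).symm) (by decide +kernel))
  · exact Or.inl (fin 2 19 (Or.inl rfl) ((pair_same 2).trans (same_eqn (by decide +kernel)).symm) (by decide +kernel))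

theorem base_pair (x : GG) : (z * (x * z * x⁻¹)) ^ 2 = 1 ∨ (z * (x * z * x⁻¹)) ^ 3 = 1 := by
  set c := φ x base0 with hc
  obtain ⟨h, hh, hhc⟩ := reach_root c
  set R := el (rootWord (orbits.label c)) with hR
  have hmem : (h * R)⁻¹ * x ∈ HH := by
    rw [mem_H_iff, map_mul, Equiv.Perm.mul_apply, ← hc, map_inv, Equiv.Perm.inv_eq_iff_eq, map_mul,
      Equiv.Perm.mul_apply, hR, rootWord_run (label_lt c.2), hhc]
  have hconj : x * z * x⁻¹ = h * (R * z * R⁻¹) * h⁻¹ := by
    calc x * z * x⁻¹ = (h * R) * (((h * R)⁻¹ * x) * z * ((h * R)⁻¹ * x)⁻¹) * (h * R)⁻¹ := by group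
      _ = _ := by rw [conj_z hmem]; group
  have hprod : z * (x * z * x⁻¹) = h * z * el (pairW (orbits.label c)) * (h * z)⁻¹ := by
    rw [hconj, pair_eq, ← hR, mul_inv_rev, inv_eq_of_mul_eq_one_right z_sq]
    calc z * (h * (R * z * R⁻¹) * h⁻¹) = h * z * (R * z * R⁻¹) * h⁻¹ := by
          rw [← mul_assoc z, ← mul_assoc z, z_comm hh]
      _ = _ := by
          simp only [mul_assoc]
          rw [← mul_assoc z z, z_sq, one_mul]
  rw [hprod, conj_pow, conj_pow, conj_eq_one_iff, conj_eq_one_iff]
  exact pair_pow (label_lt c.2)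

theorem transposition_class : Cfsg.IsThreeTranspositionClass (conjugatesOf z) := by
  refine ⟨⟨fun d hd => ?_, fun d hd e he => ?_⟩, ⟨z, mem_conjugatesOf_self, rfl⟩, ?_⟩
  · obtain ⟨g, rfl⟩ := isConj_iff.mp hd
    have hz : orderOf z = 2 := orderOf_eq_prime (by rw [pow_two]; exact z_sq) z_ne
    rw [← MulAut.conj_apply, ← hz]
    exact orderOf_injective (MulAut.conj g).toMonoidHom (MulAut.conj g).injective z
  · obtain ⟨g, rfl⟩ := isConj_iff.mp hd
    obtain ⟨k, rfl⟩ := isConj_iff.mp he
    have hprod : g * z * g⁻¹ * (k * z * k⁻¹) = g * (z * ((g⁻¹ * k) * z * (g⁻¹ * k)⁻¹)) * g⁻¹ := by group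
    rw [hprod, conj_pow, conj_pow, conj_eq_one_iff, conj_eq_one_iff]
    exact base_pair _
  · haveI := simple
    have h : Subgroup.closure (conjugatesOf z) = Subgroup.normalClosure {z} := by
      rw [Subgroup.normalClosure]
      congr 1
      ext d
      simp [Group.conjugatesOfSet]
    rw [h]
    rcases IsSimpleGroup.eq_bot_or_eq_top_of_normal (Subgroup.normalClosure ({z} : Set GG)) inferInstance with h1 | h1
    · exfalso
      have := Subgroup.subset_normalClosure (Set.mem_singleton z)
      rw [h1] at this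
      exact z_ne (Subgroup.mem_bot.mp this)
    · exact h1

theorem exists_transposition_group : ∃ (G : Type) (_ : Group G) (_ : Finite G), Cfsg.IsFi23 G ∧ ∃ D : Set G,
    Cfsg.IsThreeTranspositionClass D ∧ Nat.card D = 31671 ∧ ∀ d ∈ D, ∃ (K : Type) (_ : Group K),
      Cfsg.IsFi22 K ∧ Cfsg.IsNonsplitDoubleCover (Subgroup.centralizer ({d} : Set G)) K := by
  refine ⟨GG, inferInstance, finite_GG, is_Fi23, conjugatesOf z, transposition_class, card_class, fun d hd => ?_⟩
  obtain ⟨g, rfl⟩ := isConj_iff.mp hd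
  refine ⟨Cfsg.Spor.Fi22, inferInstance, ⟨Fi22B.simple_and_card.1, Fi22B.simple_and_card.2⟩,
    transfer_cover ?_ double_cover_HH⟩
  refine (HH.equivMapOfInjective (MulAut.conj g).toMonoidHom (MulAut.conj g).injective).trans
    (MulEquiv.subgroupCongr ?_)
  rw [← centralizer_z]
  ext y
  simp only [Subgroup.mem_map, Subgroup.mem_centralizer_singleton_iff, MulEquiv.coe_toMonoidHom, MulAut.conj_apply]
  constructor
  · rintro ⟨x, hx, rfl⟩
    calc g * x * g⁻¹ * (g * z * g⁻¹) = g * (x * z) * g⁻¹ := by group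
      _ = g * (z * x) * g⁻¹ := by rw [hx]
      _ = _ := by group
  · intro hy
    refine ⟨g⁻¹ * y * g, ?_, by group⟩
    calc g⁻¹ * y * g * z = g⁻¹ * (y * (g * z * g⁻¹)) * g := by group
      _ = g⁻¹ * (g * z * g⁻¹ * y) * g := by rw [hy]
      _ = _ := by group

/-- The suborbits. -/
theorem suborbit (l : ℕ) (hl : l < 3) :
    ∃ q : GG ⧸ HH, (MulAction.orbit HH q).ncard = countLabel orbits l 31671 := by
  classical
  refine ⟨QuotientGroup.mk (el (rootWord l)), ?_⟩
  let e : GG ⧸ HH ≃ Fin 31671 := Equiv.ofBijective point point_bijective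
  have himg : e '' MulAction.orbit HH (QuotientGroup.mk (el (rootWord l)) : GG ⧸ HH) =
      {c : Fin 31671 | orbits.label c = l} := by
    ext c
    simp only [Set.mem_image, Set.mem_setOf_eq]
    constructor
    · rintro ⟨_, ⟨h, rfl⟩, rfl⟩
      show orbits.label (φ ((h : GG) * el (rootWord l)) base0) = l
      rw [map_mul, Equiv.Perm.mul_apply, rootWord_run hl, label_invariant h.2]
      interval_cases l <;> decide +kernel
    · intro hc
      obtain ⟨h, hh, hhc⟩ := reach_root c
      refine ⟨_, ⟨⟨h, hh⟩, rfl⟩, ?_⟩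
      show φ (h * el (rootWord l)) base0 = c
      rw [map_mul, Equiv.Perm.mul_apply, rootWord_run hl, ← hc, hhc]
  rw [← class_card, ← Set.ncard_image_of_injective _ e.injective, himg, Set.ncard_eq_toFinset_card']
  refine congrArg Finset.card (Finset.ext fun c => ?_)
  simp

end Cfsg.Agent.InvChar.Coset.Fi23G
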