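import Cfsg.Agent.InvChar.Coset.FiOutCent
import Cfsg.Prelude.Def_KGroupFacts

/-!
# The outer automorphism group of the presented group Fi22 has order two

An automorphism carries the generators to transpositions with the same commutation graph; there are exactly two
orbits of such configurations.
-/

set_option autoImplicit false
set_option linter.all false
set_option maxRecDepth 100000

noncomputable section

namespace Cfsg.Agent.InvChar.Coset.FiOut

open Cfsg.Agent.CosetCert Fi22B FiUnit

theorem rels_spec {w : List ℕ} (hw : w ∈ table.C.W) :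
    wprod data.gen (w.flatMap fun y => dword (other y)) = 1 := by
  have h := List.all_eq_true.mp rels_ok w hw
  simp only [relOne, Bool.and_eq_true] at h
  exact eq_one_of_word h.1 h.2

theorem wprod_flatMap (f : ℕ → List ℕ) : ∀ w : List ℕ,
    wprod data.gen (w.flatMap f) = wprod (fun y => wprod data.gen (f y)) w
  | [] => rfl
  | y :: w => by rw [List.flatMap_cons, CosetCert.wprod_append, wprod_flatMap f w]; rfl

theorem other_facts : scan (fun l => Nat.blt (other l) 3510) 9 = true ∧
    scan (fun k => Nat.beq (other (lt' k)) (nthNat pts' k)) 9 = true ∧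
    scan (fun k => Nat.beq (nthNat pts' k) (pt k)) 4 = true := by decide +kernel

/-- The second configuration. -/
def op (k : Fin 9) : Fin table.n :=
  ⟨nthNat pts' k, n_eq ▸ by simpa [Nat.blt_eq] using scan_spec _ pt_zero.2.2.2 k k.2⟩

theorem op_small {j : Fin 9} (hj : (j : ℕ) < 4) : op j = cp j :=
  Fin.ext (Nat.eq_of_beq_eq_true (scan_spec _ other_facts.2.2 j hj))

theorem ta_eq_dd {k : Fin table.n} (h : (k : ℕ) = 0) : dd k = ta := by
  rw [ta_dd]; exact congrArg dd (Fin.ext h)

theorem dd_sq (c : Fin table.n) : dd c * dd c = 1 := by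
  rw [dd_eq]
  calc rp c * ta * (rp c)⁻¹ * (rp c * ta * (rp c)⁻¹) = rp c * (ta * ta) * (rp c)⁻¹ := by group
    _ = 1 := by rw [ta_sq, mul_one, mul_inv_cancel]

theorem other_lt (x : Cfsg.Spor.Fi22.Gen) : other (data.idx x) < table.n := by
  rw [n_eq]
  simpa [Nat.blt_eq] using scan_spec _ other_facts.1 _ (K_eq ▸ data.lt x)

/-- The endomorphism given by the second configuration. -/
def psiHom : FiG →* FiG :=
  PresentedGroup.toGroup (f := fun x => dd ⟨other (data.idx x), other_lt x⟩) fun r hr => by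
    obtain ⟨w, hw, e⟩ := (data.relator (fun x => dd ⟨other (data.idx x), other_lt x⟩)
      (fun y => wprod data.gen (dword (other y))) (fun x => dd_sq _) (fun x => rfl)).1 r hr
    rw [e, ← wprod_flatMap, rels_spec hw]

theorem psiHom_gen {l : ℕ} (hl : l < 9) :
    psiHom (data.gen l) = wprod data.gen (dword (other l)) := by
  have hK : l < table.C.K := K_eq.symm ▸ hl
  rw [CoxData.gen, if_pos hK, psiHom, PresentedGroup.toGroup.of]
  show wprod data.gen (dword (other (data.idx (data.ofIdx l)))) = _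
  rw [data.right l hK]

theorem psiHom_cg (k : Fin 9) : psiHom (cg k) = dd (op k) := by
  rw [cg_gen, psiHom_gen (gens_spec k.2).2]
  show _ = wprod data.gen (dword (nthNat pts' k))
  rw [Nat.eq_of_beq_eq_true (scan_spec _ other_facts.2.1 k k.2)]

theorem psiHom_bijective : Function.Bijective psiHom := by
  haveI := simple_and_card.1
  haveI := finite_Fi
  refine Finite.injective_iff_bijective.mp ?_
  rcases IsSimpleGroup.eq_bot_or_eq_top_of_normal psiHom.ker inferInstance with h | h
  · exact (MonoidHom.ker_eq_bot_iff _).mp h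
  · exfalso
    have h1 : psiHom (data.gen 0) = 1 := MonoidHom.mem_ker.mp (h ▸ Subgroup.mem_top _)
    rw [psiHom_gen (by norm_num)] at h1
    have h0 : dd P0 = 1 := by
      rw [← h1, pt_zero.2.1]
      rfl
    exact ta_ne_one (ta_dd.trans h0)

/-- The outer automorphism. -/
def psi : MulAut FiG := MulEquiv.ofBijective psiHom psiHom_bijective

theorem psi_cg (k : Fin 9) : psi (cg k) = dd (op k) := psiHom_cg k

theorem aut_ext {α β : MulAut FiG} (h : ∀ k, α (cg k) = β (cg k)) : α = β := by
  have h' : α.toMonoidHom = β.toMonoidHom :=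
    MonoidHom.eq_of_eqOn_dense cg_closure (by rintro _ ⟨k, rfl⟩; exact h k)
  exact MulEquiv.ext fun x => DFunLike.congr_fun h' x

/-! ### Configurations -/

theorem exists_point (g : FiG) : ∃ c : Fin table.n, g * ta * g⁻¹ = dd c :=
  ⟨φ g P0, by rw [ta_dd, conj_dd]⟩

theorem exists_image (α : MulAut FiG) (c : Fin table.n) : ∃ e : Fin table.n, α (dd c) = dd e := by
  obtain ⟨k, hk⟩ := image_ta α
  obtain ⟨e, he⟩ := exists_point (α (rp c) * k)
  refine ⟨e, ?_⟩
  rw [← he, dd_eq, map_mul, map_mul, map_inv, hk]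
  group

/-- A configuration with the commutation graph of the generators. -/
structure Config (q : Fin 9 → Fin table.n) : Prop where
  inj : Function.Injective q
  comm : ∀ k j, Commute (dd (q k)) (dd (q j)) ↔ Commute (dd (cp k)) (dd (cp j))

theorem cp_injective : Function.Injective cp := by
  have key : ∀ k j : Fin 9, (j : ℕ) < k → cp k ≠ cp j := fun k j hjk e => by
    have h := scan_spec _ (scan_spec _ pts_nodup k k.2) j hjk
    simp only [Bool.not_eq_true'] at h
    have e' : pt k = pt j := congrArg Fin.val e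
    rw [e', Nat.beq_refl] at h
    simp at h
  intro a b hab
  rcases lt_trichotomy (a : ℕ) b with h | h | h
  · exact absurd hab.symm (key b a h)
  · exact Fin.ext h
  · exact absurd hab (key a b h)

theorem config_of_aut (α : MulAut FiG) : ∃ q, Config q ∧ ∀ k, α (cg k) = dd (q k) := by
  choose q hq using fun k => exists_image α (cp k)
  refine ⟨q, ⟨fun a b h => cp_injective (dd_injective (α.injective ((hq a).trans ((congrArg dd h).trans (hq b).symm)))),
    fun k j => ?_⟩, fun k => cg_eq k ▸ hq k⟩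
  rw [← hq, ← hq]
  refine ⟨fun h => ?_, fun h => h.map α.toMonoidHom⟩
  simpa using h.map α.symm.toMonoidHom

theorem Config.move {q : Fin 9 → Fin table.n} (h : Config q) (g : FiG) : Config fun k => φ g (q k) :=
  ⟨fun a b e => h.inj ((φ g).injective e), fun k j => by rw [← conj_dd, ← conj_dd, commute_conj, h.comm]⟩

theorem near_of {q : Fin 9 → Fin table.n} (h : Config q) (k : Fin 9) : ∀ m, m ≤ 9 →
    (∀ j : Fin 9, (j : ℕ) < m → q j = cp j ∧ j ≠ k) → near (q k) k m = true
  | 0, _, _ => rfl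
  | m + 1, hm, hq => by
    obtain ⟨hqj, hjk⟩ := hq ⟨m, by omega⟩ (Nat.lt_succ_self m)
    simp only [near, Bool.and_eq_true]
    refine ⟨?_, ?_, near_of h k m (by omega) fun j hj => hq j (by omega)⟩
    · rw [Bool.not_eq_true', ← Bool.not_eq_true, Nat.beq_eq]
      intro e
      exact hjk (h.inj (hqj.trans (Fin.ext e.symm)))
    · have : Nat.beq (table.tgt (q k : ℕ) (lt' m)) (q k : ℕ) = pat k (⟨m, by omega⟩ : Fin 9) := by
        rw [Bool.eq_iff_iff, pat_iff, ← h.comm, hqj, Nat.beq_eq, ← phi_cg ⟨m, by omega⟩, ← Fin.ext_iff,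
          ← commute_dd_iff, cg_eq]
        exact ⟨fun e => e.symm, fun e => e.symm⟩
      rw [this]
      cases pat k m <;> rfl

theorem trans_spec {x : Fin table.n} (m : Fin 9) (hm : 1 ≤ (m : ℕ)) (hm' : (m : ℕ) ≤ 3)
    (hn : near x m m = true) : ∃ t : FiG, φ t (cp m) = x ∧ ∀ j : Fin 9, (j : ℕ) < m → φ t (cp j) = cp j := by
  have hs : scan (transOne m) 3510 = true := by
    obtain ⟨v, hv⟩ := m
    simp only at hm hm' ⊢
    interval_cases v
    · exact trans_one
    · exact trans_two
    · exact trans_three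
  have h := scan_spec _ hs x (lt_n x)
  rw [transOne, hn, cond_true] at h
  simp only [Bool.and_eq_true] at h
  obtain ⟨hl, he, hf⟩ := h
  exact ⟨wprod data.gen (transWord m x), Fin.ext (by rw [phi_word hl]; exact Nat.eq_of_beq_eq_true he),
    fun j hj => Fin.ext (by rw [phi_word hl]; exact fixPts_spec _ hf j hj)⟩

theorem normalise {q : Fin 9 → Fin table.n} (h : Config q) :
    ∀ m, m ≤ 4 → ∃ g : FiG, ∀ j : Fin 9, (j : ℕ) < m → φ g (cp j) = q j
  | 0, _ => ⟨1, fun j hj => absurd hj (by omega)⟩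
  | m + 1, hm => by
    obtain ⟨g, hg⟩ := normalise h m (by omega)
    by_cases hm0 : m = 0
    · refine ⟨rp (q 0), fun j hj => ?_⟩
      obtain rfl : j = 0 := Fin.ext (show (j : ℕ) = 0 by omega)
      rw [show cp 0 = P0 from Fin.ext pt_zero.1, phi_rp]
    have h' := h.move g⁻¹
    have hfix : ∀ j : Fin 9, (j : ℕ) < m → φ g⁻¹ (q j) = cp j := fun j hj => by
      rw [map_inv, Equiv.Perm.inv_eq_iff_eq, hg j hj]
    let M : Fin 9 := ⟨m, by omega⟩
    have hn := near_of h' M m (by omega) fun j hj => ⟨hfix j hj, fun e => by rw [e] at hj; exact lt_irrefl _ hj⟩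
    obtain ⟨t, ht, htf⟩ := trans_spec M (by show 1 ≤ m; omega) (by show m ≤ 3; omega) hn
    refine ⟨g * t, fun j hj => ?_⟩
    rw [map_mul, Equiv.Perm.mul_apply]
    rcases Nat.lt_succ_iff_lt_or_eq.mp hj with hj | hj
    · rw [htf j hj, hg j hj]
    · rw [show j = M from Fin.ext hj, ht, map_inv, Equiv.Perm.coe_inv, Equiv.apply_symm_apply]

theorem mem_tailList {q : Fin 9 → Fin table.n} (h : Config q) (h4 : ∀ j : Fin 9, (j : ℕ) < 4 → q j = cp j)
    (k : Fin 9) (hk : 4 ≤ (k : ℕ)) : (q k : ℕ) ∈ tailList k := by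
  have hn := near_of h k 4 (by norm_num) fun j hj => ⟨h4 j hj, fun e => by rw [e] at hj; omega⟩
  have hl := scan_spec _ lists_ok _ (lt_n (q k))
  simp only [Bool.and_eq_true] at hl
  have : listOne k (q k : ℕ) = true := by
    obtain ⟨v, hv⟩ := k
    simp only at hk ⊢
    interval_cases v
    exacts [hl.1, hl.2.1, hl.2.2.1, hl.2.2.2.1, hl.2.2.2.2]
  rw [listOne, hn, cond_true, memB_iff] at this
  exact this

theorem pc_of {q : Fin 9 → Fin table.n} (h : Config q) (k j : Fin 9) (hkj : k ≠ j) :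
    pc (q k) (q j) k j = true := by
  simp only [pc, Bool.and_eq_true]
  refine ⟨?_, ?_⟩
  · rw [Bool.not_eq_true', ← Bool.not_eq_true, Nat.beq_eq]
    exact fun e => hkj (h.inj (Fin.ext e))
  · have : meets (q k : ℕ) (q j : ℕ) = pat k j := by rw [Bool.eq_iff_iff, pat_iff, meets_iff, h.comm]
    rw [this]
    cases pat k j <;> rfl

theorem mem_tails {q : Fin 9 → Fin table.n} (h : Config q) (h4 : ∀ j : Fin 9, (j : ℕ) < 4 → q j = cp j) :
    List.ofFn (fun k => (q k : ℕ)) ∈ tails := by
  have hm := mem_tailList h h4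
  have hp := pc_of h
  simp only [tails, List.mem_flatMap, List.mem_filter, List.mem_map, Bool.and_eq_true]
  refine ⟨q 4, hm 4 le_rfl, q 5, ⟨hm 5 (by decide), hp 5 4 (by decide)⟩,
    q 6, ⟨hm 6 (by decide), hp 6 4 (by decide), hp 6 5 (by decide)⟩,
    q 7, ⟨hm 7 (by decide), hp 7 4 (by decide), hp 7 5 (by decide), hp 7 6 (by decide)⟩,
    q 8, ⟨hm 8 (by decide), hp 8 4 (by decide), hp 8 5 (by decide), hp 8 6 (by decide), hp 8 7 (by decide)⟩, ?_⟩
  have e : ∀ j : Fin 9, (j : ℕ) < 4 → (q j : ℕ) = pt j := fun j hj => congrArg Fin.val (h4 j hj)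
  simp [List.ofFn_succ, e 0 (by decide), e 1 (by decide), e 2 (by decide), e 3 (by decide)]

theorem tailsMatch_spec : ∀ {l : List (List ℕ)} {m : List ℕ}, tailsMatch l m = true →
    ∀ q ∈ l, ∃ c, tailOne q c = true
  | [], [], _, q, hq => by simp at hq
  | [], _ :: _, h, _, _ => by simp [tailsMatch] at h
  | _ :: _, [], h, _, _ => by simp [tailsMatch] at h
  | q :: l, c :: m, h, r, hr => by
    simp only [tailsMatch, Bool.and_eq_true] at h
    rcases List.mem_cons.mp hr with rfl | hr
    · exact ⟨c, h.1⟩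
    · exact tailsMatch_spec h.2 r hr

theorem nthNat_map (f : ℕ → ℕ) : ∀ (l : List ℕ) (k : ℕ), k < l.length → nthNat (l.map f) k = f (nthNat l k)
  | [], k, hk => absurd hk (by simp)
  | a :: l, 0, _ => rfl
  | a :: l, k + 1, hk => by
    show nthNat (l.map f) k = f (nthNat l k)
    exact nthNat_map f l k (by simpa using hk)

/-- The element of a tail code maps one of the two configurations to the tuple. -/
theorem tail_spec {l : List ℕ} (hl : l ∈ tails) : ∃ (s : FiG) (P : Fin 9 → Fin table.n), (P = cp ∨ P = op) ∧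
    ∀ k : Fin 9, (φ s (P k) : ℕ) = nthNat l k := by
  obtain ⟨c, hc⟩ := tailsMatch_spec tails_match l hl
  simp only [tailOne, Bool.and_eq_true] at hc
  have hmap := beqList_eq hc.2
  refine ⟨wprod data.gen (tailWord c), if Nat.beq (Nat.land c 1) 0 then cp else op, ?_, fun k => ?_⟩
  · cases Nat.beq (Nat.land c 1) 0
    · exact Or.inr (if_neg (by simp))
    · exact Or.inl (if_pos rfl)
  · rw [phi_word hc.1, ← hmap]
    cases hb : Nat.beq (Nat.land c 1) 0
    · rw [if_neg (by simp), tailSrc, hb, cond_false, nthNat_map _ _ _ (by simp [pts'])]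
      rfl
    · rw [if_pos rfl, tailSrc, hb, cond_true, nthNat_map _ _ _ (by simp [pts])]
      rfl

theorem nthNat_ofFn (q : Fin 9 → ℕ) (k : Fin 9) : nthNat (List.ofFn q) k = q k := by
  fin_cases k <;> simp [List.ofFn_succ] <;> rfl

theorem classify (α : MulAut FiG) : ∃ g : FiG, α = MulAut.conj g ∨ α = MulAut.conj g * psi := by
  obtain ⟨q, hq, hα⟩ := config_of_aut α
  obtain ⟨g, hg⟩ := normalise hq 4 le_rfl
  have h' := hq.move g⁻¹
  obtain ⟨s, P, hP, hs⟩ := tail_spec (mem_tails h' fun j hj => by rw [map_inv, Equiv.Perm.inv_eq_iff_eq, hg j hj])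
  have key : ∀ k, α (cg k) = MulAut.conj (g * s) (dd (P k)) := fun k => by
    have e : φ s (P k) = φ g⁻¹ (q k) := Fin.ext (by rw [hs, nthNat_ofFn])
    rw [hα, MulAut.conj_apply, conj_dd, map_mul, Equiv.Perm.mul_apply, e, map_inv, Equiv.Perm.coe_inv, Equiv.apply_symm_apply]
  refine ⟨g * s, ?_⟩
  rcases hP with rfl | rfl
  · exact Or.inl (aut_ext fun k => by rw [key, cg_eq])
  · exact Or.inr (aut_ext fun k => by rw [key, MulAut.mul_apply, psi_cg])

/-! ### The outer automorphism is not inner -/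

/-- The pointwise stabiliser of the first chosen points. -/
def stab (m : ℕ) : Subgroup FiG where
  carrier := {g | ∀ j : Fin 9, (j : ℕ) < m → φ g (cp j) = cp j}
  one_mem' j _ := by rw [map_one]; rfl
  mul_mem' ha hb j hj := by rw [map_mul, Equiv.Perm.mul_apply, hb j hj, ha j hj]
  inv_mem' ha j hj := by rw [map_inv, Equiv.Perm.inv_eq_iff_eq, ha j hj]

theorem countB_eq (f : ℕ → Bool) : ∀ n, Nat.card {x : Fin n // f x = true} = countB f n := by
  intro n
  have h : ∀ n, countB f n = ((Finset.range n).filter fun c => f c = true).card := by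
    intro n
    induction n with
    | zero => rfl
    | succ n ih =>
      rw [countB, Finset.range_add_one, Finset.filter_insert, ih]
      cases hf : f n
      · rw [if_neg (by simp), cond_false]
      · rw [if_pos rfl, Finset.card_insert_of_notMem (by simp), cond_true]
  rw [Nat.card_eq_fintype_card, Fintype.card_subtype, h]
  refine Finset.card_bij (fun c _ => (c : ℕ)) (fun c hc => ?_) (fun a _ b _ e => Fin.ext e) fun b hb => ?_
  · simp only [Finset.mem_filter] at hc
    simp [c.2, hc.2]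
  · simp only [Finset.mem_filter, Finset.mem_range] at hb
    exact ⟨⟨b, hb.1⟩, by simpa using hb.2, rfl⟩

theorem stab_step (m : Fin 9) {N : ℕ} (f : ℕ → Bool) (hN : countB f 3510 = N)
    (hf : ∀ x : Fin table.n, f x = true → ∃ t ∈ stab m, φ t (cp m) = x) :
    N * Nat.card (stab (m + 1)) ≤ Nat.card (stab m) := by
  haveI := finite_Fi
  rw [← hN, ← n_eq, ← countB_eq, ← Nat.card_prod]
  choose t ht ht' using hf
  refine Nat.card_le_card_of_injective (fun p => (⟨t p.1.1 p.1.2 * p.2.1, mul_mem (ht _ _) fun j hj =>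
    p.2.2 j (Nat.lt_succ_of_lt hj)⟩ : stab m)) ?_
  rintro ⟨⟨x, hx⟩, s, hs⟩ ⟨⟨y, hy⟩, r, hr⟩ e
  have e1 : t x hx * s = t y hy * r := congrArg Subtype.val e
  have e2 : ∀ (z : Fin table.n) (hz : f z = true) (u : FiG), u ∈ stab (m + 1) → φ (t z hz * u) (cp m) = z :=
    fun z hz u hu => by rw [map_mul, Equiv.Perm.mul_apply, hu m (Nat.lt_succ_self _), ht']
  obtain rfl : x = y := by rw [← e2 x hx s hs, e1, e2 y hy r hr]
  obtain rfl : s = r := mul_left_cancel e1
  rfl

theorem stab_four : Nat.card (stab 4) ≤ 120 := by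
  have h0 : countB (fun _ => true) 3510 = 3510 := by decide +kernel
  have s0 := stab_step 0 _ h0 fun x _ => ⟨rp x, fun j hj => absurd hj (by simp), by
    rw [show cp 0 = P0 from Fin.ext pt_zero.1, phi_rp]⟩
  have step : ∀ m : Fin 9, 1 ≤ (m : ℕ) → (m : ℕ) ≤ 3 → ∀ x : Fin table.n, near x m m = true →
      ∃ t ∈ stab m, φ t (cp m) = x := fun m h1 h3 x hx => by
    obtain ⟨t, ht, htf⟩ := trans_spec m h1 h3 hx
    exact ⟨t, htf, ht⟩
  have s1 := stab_step 1 _ count_ok.1 (step 1 (by decide) (by decide))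
  have s2 := stab_step 2 _ count_ok.2.1 (step 2 (by decide) (by decide))
  have s3 := stab_step 3 _ count_ok.2.2 (step 3 (by decide) (by decide))
  have h := simple_and_card.2
  haveI := finite_Fi
  have hle : Nat.card (stab 0) ≤ 64561751654400 := h ▸ Subgroup.card_le_card_group (stab 0)
  simp only [show ((0 : Fin 9) : ℕ) = 0 from rfl, show ((1 : Fin 9) : ℕ) = 1 from rfl,
    show ((2 : Fin 9) : ℕ) = 2 from rfl, show ((3 : Fin 9) : ℕ) = 3 from rfl, Nat.reduceAdd] at s0 s1 s2 s3
  omega

theorem nodupB_spec : ∀ {l : List (List ℕ)}, nodupB l = true → l.Nodup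
  | [], _ => List.nodup_nil
  | q :: l, h => by
    simp only [nodupB, Bool.and_eq_true, List.all_eq_true] at h
    refine List.nodup_cons.mpr ⟨fun hq => ?_, nodupB_spec h.2⟩
    have := h.1 q hq
    rw [beqList_self] at this
    simp at this

theorem tails_shape {l : List ℕ} (hl : l ∈ tails) : l.length = 9 ∧ ∀ j < 4, nthNat l j = pt j := by
  simp only [tails, List.mem_flatMap, List.mem_filter, List.mem_map] at hl
  obtain ⟨a, -, b, -, c, -, d, -, e, -, rfl⟩ := hl
  refine ⟨rfl, fun j hj => ?_⟩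
  interval_cases j <;> rfl

theorem ext_nthNat : ∀ {l m : List ℕ}, l.length = m.length → (∀ k < l.length, nthNat l k = nthNat m k) → l = m
  | [], [], _, _ => rfl
  | [], _ :: _, h, _ => by simp at h
  | _ :: _, [], h, _ => by simp at h
  | a :: l, b :: m, h, hk => by
    have e0 : a = b := hk 0 (by simp)
    rw [e0, ext_nthNat (l := l) (m := m) (by simpa using h) fun k hk' => hk (k + 1) (by simpa using hk')]

theorem psi_not_inner (g : FiG) : MulAut.conj g ≠ psi := by
  intro hg
  haveI := finite_Fi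
  have hgo : ∀ k, φ g (cp k) = op k := fun k => dd_injective (by
    rw [← conj_dd, ← cg_eq, ← MulAut.conj_apply, hg, psi_cg])
  have hex : ∀ l : {l // l ∈ tails}, ∃ s : stab 4, ∀ k : Fin 9, (φ (s : FiG) (cp k) : ℕ) = nthNat l.1 k := by
    rintro ⟨l, hl⟩
    obtain ⟨s, P, hP, hs⟩ := tail_spec hl
    have h4 : ∀ j : Fin 9, (j : ℕ) < 4 → ∀ u : FiG, (φ u (cp j) : ℕ) = nthNat l j → φ u (cp j) = cp j :=
      fun j hj u hu => Fin.ext (by rw [hu, (tails_shape hl).2 j hj]; rfl)
    rcases hP with rfl | rfl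
    · exact ⟨⟨s, fun j hj => h4 j hj s (hs j)⟩, hs⟩
    · have hsg : ∀ k, (φ (s * g) (cp k) : ℕ) = nthNat l k := fun k => by
        rw [map_mul, Equiv.Perm.mul_apply, hgo, hs]
      exact ⟨⟨s * g, fun j hj => h4 j hj _ (hsg j)⟩, hsg⟩
  choose f hf using hex
  have hinj : Function.Injective f := fun l m e => Subtype.ext (ext_nthNat
    ((tails_shape l.2).1.trans (tails_shape m.2).1.symm) fun k hk => by
      rw [(tails_shape l.2).1] at hk
      rw [← hf l ⟨k, hk⟩, e, hf m ⟨k, hk⟩])
  have h := (Nat.card_le_card_of_injective f hinj).trans stab_four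
  rw [Nat.card_eq_fintype_card, Fintype.card_of_subtype tails.toFinset (by simp),
    List.toFinset_card_of_nodup (nodupB_spec tails_nodup), tails_length] at h
  omega

theorem card_out : Nat.card (Cfsg.Out FiG) = 2 := by
  rw [Nat.card_eq_two_iff' (QuotientGroup.mk (1 : MulAut FiG) : Cfsg.Out FiG)]
  refine ⟨QuotientGroup.mk psi, ?_, ?_⟩
  · intro h
    rw [QuotientGroup.eq, mul_one, inv_mem_iff] at h
    obtain ⟨g, hg⟩ := h
    exact psi_not_inner g hg
  · intro y
    refine QuotientGroup.induction_on y fun α hne => ?_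
    obtain ⟨g, hg | hg⟩ := classify α
    · refine absurd ?_ hne
      rw [QuotientGroup.eq, mul_one, inv_mem_iff, hg]
      exact ⟨g, rfl⟩
    · rw [hg, QuotientGroup.eq, mul_inv_rev, mul_assoc]
      refine (MulAut.conj_normal_range psi g)
where
  MulAut.conj_normal_range (p : MulAut FiG) (g : FiG) : p⁻¹ * ((MulAut.conj g)⁻¹ * p) ∈ Cfsg.Inn FiG := by
    refine ⟨p⁻¹ g⁻¹, MulEquiv.ext fun x => ?_⟩
    simp [MulAut.conj_apply, MulAut.mul_apply]

end Cfsg.Agent.InvChar.Coset.FiOut
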