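import Cfsg.Agent.Lib.CosetCert.Finish
import Cfsg.Agent.InvChar.Coset.Fi3159Data

/-!
# Chain of orbits and witnesses
-/

set_option autoImplicit false
set_option linter.all false

namespace Cfsg.Agent.InvChar.Coset.Fi3159

open Cfsg.Agent.CosetCert

noncomputable def lvO0_0 : Tree :=
  .node 64 (.node 32 (.node 16 (.node 8 (.node 4 (.node 2 (.node 1 (.leaf (nat_lit 0x10000000)) (.leaf (nat_lit 0x20000007))) (.node 1 (.leaf (nat_lit 0x30000106)) (.leaf (nat_lit 0x40000202)))) (.node 2 (.node 1 (.leaf (nat_lit 0x50000301)) (.leaf (nat_lit 0x50000303))) (.node 1 (.leaf (nat_lit 0x60000400)) (.leaf (nat_lit 0x60000403))))) (.node 4 (.node 2 (.node 1 (.leaf (nat_lit 0x60000504)) (.leaf (nat_lit 0x70000603))) (.node 1 (.leaf (nat_lit 0x70000702)) (.leaf (nat_lit 0x70000704)))) (.node 2 (.node 1 (.leaf (nat_lit 0x70000805)) (.leaf (nat_lit 0x80000902))) (.node 1 (.leaf (nat_lit 0x80000904)) (.leaf (nat_lit 0x80000a04))))))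 (.node 8 (.node 4 (.node 2 (.node 1 (.leaf (nat_lit 0x80000a06)) (.leaf (nat_lit 0x80000b05))) (.node 1 (.leaf (nat_lit 0x90000d01)) (.leaf (nat_lit 0x90000d04)))) (.node 2 (.node 1 (.leaf (nat_lit 0x90000d06)) (.leaf (nat_lit 0x90000e05))) (.node 1 (.leaf (nat_lit 0x90000f03)) (.leaf (nat_lit 0x90000f05))))) (.node 4 (.node 2 (.node 1 (.leaf (nat_lit 0x90000f06)) (.leaf (nat_lit 0x90001007))) (.node 1 (.leaf (nat_lit 0xa0001204)) (.leaf (nat_lit 0xa0001206)))) (.node 2 (.node 1 (.leaf (nat_lit 0xa0001303)) (.leaf (nat_lit 0xa0001305))) (.node 1 (.leaf (nat_lit 0xa0001306)) (.leaf (nat_lit 0xa0001407))))))) (.node 16 (.node 8 (.node 4 (.node 2 (.node 1 (.leaf (nat_lit 0xa0001605)) (.leaf (nat_lit 0xa0001606))) (.node 1 (.leaf (nat_lit 0xa0001706)) (.leaf (nat_lit 0xa0001807)))) (.node 2 (.node 1 (.leaf (nat_lit 0xb0001a03)) (.leaf (nat_lit 0xb0001a05))) (.node 1 (.leaf (nat_lit 0xb0001a06)) (.leaf (nat_lit 0xb0001b02)))))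 (.node 4 (.node 2 (.node 1 (.leaf (nat_lit 0xb0001b07)) (.leaf (nat_lit 0xb0001c05))) (.node 1 (.leaf (nat_lit 0xb0001c06)) (.leaf (nat_lit 0xb0001d06)))) (.node 2 (.node 1 (.leaf (nat_lit 0xb0001e07)) (.leaf (nat_lit 0xb0002004))) (.node 1 (.leaf (nat_lit 0xb0002006)) (.leaf (nat_lit 0xb0002102)))))) (.node 8 (.node 4 (.node 2 (.node 1 (.leaf (nat_lit 0xb0002107)) (.leaf (nat_lit 0xb0002207))) (.node 1 (.leaf (nat_lit 0xc0002402)) (.leaf (nat_lit 0xc0002405)))) (.node 2 (.node 1 (.leaf (nat_lit 0xc0002406)) (.leaf (nat_lit 0xc0002506))) (.node 1 (.leaf (nat_lit 0xc0002602)) (.leaf (nat_lit 0xc0002607))))) (.node 4 (.node 2 (.node 1 (.leaf (nat_lit 0xc0002703)) (.leaf (nat_lit 0xc0002707))) (.node 1 (.leaf (nat_lit 0xc0002904)) (.leaf (nat_lit 0xc0002906)))) (.node 2 (.node 1 (.leaf (nat_lit 0xc0002a02)) (.leaf (nat_lit 0xc0002a07))) (.node 1 (.leaf (nat_lit 0xc0002b07)) (.leaf (nat_lit 0xc0002d06)))))))) (.node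 32 (.node 16 (.node 8 (.node 4 (.node 2 (.node 1 (.leaf (nat_lit 0xc0002e02)) (.leaf (nat_lit 0xc0002e07))) (.node 1 (.leaf (nat_lit 0xc0002f01)) (.leaf (nat_lit 0xc0002f07)))) (.node 2 (.node 1 (.leaf (nat_lit 0xd0003205)) (.leaf (nat_lit 0xd0003206))) (.node 1 (.leaf (nat_lit 0xd0003304)) (.leaf (nat_lit 0xd0003306))))) (.node 4 (.node 2 (.node 1 (.leaf (nat_lit 0xd0003402)) (.leaf (nat_lit 0xd0003407))) (.node 1 (.leaf (nat_lit 0xd0003502)) (.leaf (nat_lit 0xd0003507)))) (.node 2 (.node 1 (.leaf (nat_lit 0xd0003603)) (.leaf (nat_lit 0xd0003607))) (.node 1 (.leaf (nat_lit 0xd0003804)) (.leaf (nat_lit 0xd0003807)))))) (.node 8 (.node 4 (.node 2 (.node 1 (.leaf (nat_lit 0xd0003906)) (.leaf (nat_lit 0xd0003a06))) (.node 1 (.leaf (nat_lit 0xd0003b02)) (.leaf (nat_lit 0xd0003b07)))) (.node 2 (.node 1 (.leaf (nat_lit 0xd0003c01)) (.leaf (nat_lit 0xd0003c07))) (.node 1 (.leaf (nat_lit 0xd0003f02)) (.leaf (nat_lit 0xd0003f07)))))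 (.node 4 (.node 2 (.node 1 (.leaf (nat_lit 0xd0004001)) (.leaf (nat_lit 0xd0004007))) (.node 1 (.leaf (nat_lit 0xd0004200)) (.leaf (nat_lit 0xd0004207)))) (.node 2 (.node 1 (.leaf (nat_lit 0xd0004306)) (.leaf (nat_lit 0xe0004404))) (.node 1 (.leaf (nat_lit 0xe0004406)) (.leaf (nat_lit 0xe0004502))))))) (.node 16 (.node 8 (.node 4 (.node 2 (.node 1 (.leaf (nat_lit 0xe0004507)) (.leaf (nat_lit 0xe0004606))) (.node 1 (.leaf (nat_lit 0xe0004702)) (.leaf (nat_lit 0xe0004707)))) (.node 2 (.node 1 (.leaf (nat_lit 0xe0004801)) (.leaf (nat_lit 0xe0004803))) (.node 1 (.leaf (nat_lit 0xe0004807)) (.leaf (nat_lit 0xe0004a03))))) (.node 4 (.node 2 (.node 1 (.leaf (nat_lit 0xe0004a07)) (.leaf (nat_lit 0xe0004c04))) (.node 1 (.leaf (nat_lit 0xe0004c07)) (.leaf (nat_lit 0xe0004d06)))) (.node 2 (.node 1 (.leaf (nat_lit 0xe0004e05)) (.leaf (nat_lit 0xe0004e07))) (.node 1 (.leaf (nat_lit 0xe0004f06)) (.leaf (nat_lit 0xe0005102))))))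 (.node 8 (.node 4 (.node 2 (.node 1 (.leaf (nat_lit 0xe0005107)) (.leaf (nat_lit 0xe0005201))) (.node 1 (.leaf (nat_lit 0xe0005207)) (.leaf (nat_lit 0xe0005400)))) (.node 2 (.node 1 (.leaf (nat_lit 0xe0005407)) (.leaf (nat_lit 0xe0005506))) (.node 1 (.leaf (nat_lit 0xe0005601)) (.leaf (nat_lit 0xe0005603))))) (.node 4 (.node 2 (.node 1 (.leaf (nat_lit 0xe0005607)) (.leaf (nat_lit 0xe0005800))) (.node 1 (.leaf (nat_lit 0xe0005807)) (.leaf (nat_lit 0xe0005906)))) (.node 2 (.node 1 (.leaf (nat_lit 0xe0005a07)) (.leaf (nat_lit 0xe0005b06))) (.node 1 (.leaf (nat_lit 0xf0005d03)) (.leaf (nat_lit 0xf0005d06))))))))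

noncomputable def lvO0_1 : Tree :=
  .node 64 (.node 32 (.node 16 (.node 8 (.node 4 (.node 2 (.node 1 (.leaf (nat_lit 0xf0005e02)) (.leaf (nat_lit 0xf0005e07))) (.node 1 (.leaf (nat_lit 0xf0005f01)) (.leaf (nat_lit 0xf0005f03)))) (.node 2 (.node 1 (.leaf (nat_lit 0xf0005f07)) (.leaf (nat_lit 0xf0006102))) (.node 1 (.leaf (nat_lit 0xf0006107)) (.leaf (nat_lit 0xf0006201))))) (.node 4 (.node 2 (.node 1 (.leaf (nat_lit 0xf0006203)) (.leaf (nat_lit 0xf0006207))) (.node 1 (.leaf (nat_lit 0xf0006400)) (.leaf (nat_lit 0xf0006403)))) (.node 2 (.node 1 (.leaf (nat_lit 0xf0006407)) (.leaf (nat_lit 0xf0006504))) (.node 1 (.leaf (nat_lit 0xf0006507)) (.leaf (nat_lit 0xf0006606)))))) (.node 8 (.node 4 (.node 2 (.node 1 (.leaf (nat_lit 0xf0006704)) (.leaf (nat_lit 0xf0006707))) (.node 1 (.leaf (nat_lit 0xf0006806)) (.leaf (nat_lit 0xf0006905)))) (.node 2 (.node 1 (.leaf (nat_lit 0xf0006907)) (.leaf (nat_lit 0xf0006a06))) (.node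 1 (.leaf (nat_lit 0xf0006c07)) (.leaf (nat_lit 0xf0006d06))))) (.node 4 (.node 2 (.node 1 (.leaf (nat_lit 0xf0006e02)) (.leaf (nat_lit 0xf0006f01))) (.node 1 (.leaf (nat_lit 0xf0006f03)) (.leaf (nat_lit 0xf0006f07)))) (.node 2 (.node 1 (.leaf (nat_lit 0xf0007100)) (.leaf (nat_lit 0xf0007107))) (.node 1 (.leaf (nat_lit 0xf0007206)) (.leaf (nat_lit 0xf0007307))))))) (.node 16 (.node 8 (.node 4 (.node 2 (.node 1 (.leaf (nat_lit 0xf0007406)) (.leaf (nat_lit 0xf0007600))) (.node 1 (.leaf (nat_lit 0xf0007603)) (.leaf (nat_lit 0xf0007607)))) (.node 2 (.node 1 (.leaf (nat_lit 0xf0007707)) (.leaf (nat_lit 0xf0007806))) (.node 1 (.leaf (nat_lit 0xf0007907)) (.leaf (nat_lit 0xf0007a06))))) (.node 4 (.node 2 (.node 1 (.leaf (nat_lit 0xf0007c06)) (.leaf (nat_lit 0xf0007d02))) (.node 1 (.leaf (nat_lit 0x100007e06)) (.leaf (nat_lit 0x100007f02)))) (.node 2 (.node 1 (.leaf (nat_lit 0x100007f07)) (.leaf (nat_lit 0x100008001))) (.node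 1 (.leaf (nat_lit 0x100008003)) (.leaf (nat_lit 0x100008007)))))) (.node 8 (.node 4 (.node 2 (.node 1 (.leaf (nat_lit 0x100008200)) (.leaf (nat_lit 0x100008203))) (.node 1 (.leaf (nat_lit 0x100008207)) (.leaf (nat_lit 0x100008304)))) (.node 2 (.node 1 (.leaf (nat_lit 0x100008307)) (.leaf (nat_lit 0x100008406))) (.node 1 (.leaf (nat_lit 0x100008501)) (.leaf (nat_lit 0x100008503))))) (.node 4 (.node 2 (.node 1 (.leaf (nat_lit 0x100008507)) (.leaf (nat_lit 0x100008700))) (.node 1 (.leaf (nat_lit 0x100008703)) (.leaf (nat_lit 0x100008707)))) (.node 2 (.node 1 (.leaf (nat_lit 0x100008804)) (.leaf (nat_lit 0x100008807))) (.node 1 (.leaf (nat_lit 0x100008906)) (.leaf (nat_lit 0x100008a03)))))))) (.node 32 (.node 16 (.node 8 (.node 4 (.node 2 (.node 1 (.leaf (nat_lit 0x100008a07)) (.leaf (nat_lit 0x100008b04))) (.node 1 (.leaf (nat_lit 0x100008b07)) (.leaf (nat_lit 0x100008c06)))) (.node 2 (.node 1 (.leaf (nat_lit 0x100008d05))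 (.leaf (nat_lit 0x100008d07))) (.node 1 (.leaf (nat_lit 0x100008e06)) (.leaf (nat_lit 0x100009005))))) (.node 4 (.node 2 (.node 1 (.leaf (nat_lit 0x100009007)) (.leaf (nat_lit 0x100009106))) (.node 1 (.leaf (nat_lit 0x100009307)) (.leaf (nat_lit 0x100009406)))) (.node 2 (.node 1 (.leaf (nat_lit 0x100009502)) (.leaf (nat_lit 0x100009606))) (.node 1 (.leaf (nat_lit 0x100009702)) (.leaf (nat_lit 0x100009801)))))) (.node 8 (.node 4 (.node 2 (.node 1 (.leaf (nat_lit 0x100009900)) (.leaf (nat_lit 0x100009903))) (.node 1 (.leaf (nat_lit 0x100009907)) (.leaf (nat_lit 0x100009a07)))) (.node 2 (.node 1 (.leaf (nat_lit 0x100009b06)) (.leaf (nat_lit 0x100009c07))) (.node 1 (.leaf (nat_lit 0x100009d06)) (.leaf (nat_lit 0x100009f06))))) (.node 4 (.node 2 (.node 1 (.leaf (nat_lit 0x10000a002)) (.leaf (nat_lit 0x10000a103))) (.node 1 (.leaf (nat_lit 0x10000a107)) (.leaf (nat_lit 0x10000a202)))) (.node 2 (.node 1 (.leaf (nat_lit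 0x10000a207)) (.leaf (nat_lit 0x10000a306))) (.node 1 (.leaf (nat_lit 0x10000a406)) (.leaf (nat_lit 0x10000a606))))))) (.node 16 (.node 8 (.node 4 (.node 2 (.node 1 (.leaf (nat_lit 0x10000a702)) (.leaf (nat_lit 0x10000a802))) (.node 1 (.leaf (nat_lit 0x10000a903)) (.leaf (nat_lit 0x11000aa02)))) (.node 2 (.node 1 (.leaf (nat_lit 0x11000aa07)) (.leaf (nat_lit 0x11000ab01))) (.node 1 (.leaf (nat_lit 0x11000ab03)) (.leaf (nat_lit 0x11000ab07))))) (.node 4 (.node 2 (.node 1 (.leaf (nat_lit 0x11000ad00)) (.leaf (nat_lit 0x11000ad03))) (.node 1 (.leaf (nat_lit 0x11000ad07)) (.leaf (nat_lit 0x11000ae04)))) (.node 2 (.node 1 (.leaf (nat_lit 0x11000ae07)) (.leaf (nat_lit 0x11000af06))) (.node 1 (.leaf (nat_lit 0x11000b003)) (.leaf (nat_lit 0x11000b007)))))) (.node 8 (.node 4 (.node 2 (.node 1 (.leaf (nat_lit 0x11000b102)) (.leaf (nat_lit 0x11000b104))) (.node 1 (.leaf (nat_lit 0x11000b107)) (.leaf (nat_lit 0x11000b206))))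 (.node 2 (.node 1 (.leaf (nat_lit 0x11000b305)) (.leaf (nat_lit 0x11000b307))) (.node 1 (.leaf (nat_lit 0x11000b406)) (.leaf (nat_lit 0x11000b600))))) (.node 4 (.node 2 (.node 1 (.leaf (nat_lit 0x11000b603)) (.leaf (nat_lit 0x11000b607))) (.node 1 (.leaf (nat_lit 0x11000b704)) (.leaf (nat_lit 0x11000b707)))) (.node 2 (.node 1 (.leaf (nat_lit 0x11000b806)) (.leaf (nat_lit 0x11000b903))) (.node 1 (.leaf (nat_lit 0x11000b907)) (.leaf (nat_lit 0x11000ba04))))))))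

noncomputable def lvO0_2 : Tree :=
  .node 64 (.node 32 (.node 16 (.node 8 (.node 4 (.node 2 (.node 1 (.leaf (nat_lit 0x11000ba07)) (.leaf (nat_lit 0x11000bb06))) (.node 1 (.leaf (nat_lit 0x11000bc05)) (.leaf (nat_lit 0x11000bc07)))) (.node 2 (.node 1 (.leaf (nat_lit 0x11000bd06)) (.leaf (nat_lit 0x11000bf04))) (.node 1 (.leaf (nat_lit 0x11000bf07)) (.leaf (nat_lit 0x11000c006))))) (.node 4 (.node 2 (.node 1 (.leaf (nat_lit 0x11000c105)) (.leaf (nat_lit 0x11000c107))) (.node 1 (.leaf (nat_lit 0x11000c206)) (.leaf (nat_lit 0x11000c302)))) (.node 2 (.node 1 (.leaf (nat_lit 0x11000c407)) (.leaf (nat_lit 0x11000c506))) (.node 1 (.leaf (nat_lit 0x11000c602)) (.leaf (nat_lit 0x11000c707)))))) (.node 8 (.node 4 (.node 2 (.node 1 (.leaf (nat_lit 0x11000c806)) (.leaf (nat_lit 0x11000c902))) (.node 1 (.leaf (nat_lit 0x11000ca06)) (.leaf (nat_lit 0x11000cb02)))) (.node 2 (.node 1 (.leaf (nat_lit 0x11000cc01)) (.leaf (nat_lit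 0x11000cd02))) (.node 1 (.leaf (nat_lit 0x11000ce01)) (.leaf (nat_lit 0x11000ce03))))) (.node 4 (.node 2 (.node 1 (.leaf (nat_lit 0x11000cf00)) (.leaf (nat_lit 0x11000d003))) (.node 1 (.leaf (nat_lit 0x11000d007)) (.leaf (nat_lit 0x11000d102)))) (.node 2 (.node 1 (.leaf (nat_lit 0x11000d107)) (.leaf (nat_lit 0x11000d206))) (.node 1 (.leaf (nat_lit 0x11000d306)) (.leaf (nat_lit 0x11000d506))))))) (.node 16 (.node 8 (.node 4 (.node 2 (.node 1 (.leaf (nat_lit 0x11000d602)) (.leaf (nat_lit 0x11000d702))) (.node 1 (.leaf (nat_lit 0x11000d803)) (.leaf (nat_lit 0x11000d902)))) (.node 2 (.node 1 (.leaf (nat_lit 0x11000d907)) (.leaf (nat_lit 0x11000da06))) (.node 1 (.leaf (nat_lit 0x11000db06)) (.leaf (nat_lit 0x11000db07))))) (.node 4 (.node 2 (.node 1 (.leaf (nat_lit 0x11000dc06)) (.leaf (nat_lit 0x11000dd02))) (.node 1 (.leaf (nat_lit 0x11000de02)) (.leaf (nat_lit 0x11000df02)))) (.node 2 (.node 1 (.leaf (nat_lit 0x11000e003))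 (.leaf (nat_lit 0x12000e301))) (.node 1 (.leaf (nat_lit 0x12000e303)) (.leaf (nat_lit 0x12000e307)))))) (.node 8 (.node 4 (.node 2 (.node 1 (.leaf (nat_lit 0x12000e500)) (.leaf (nat_lit 0x12000e503))) (.node 1 (.leaf (nat_lit 0x12000e507)) (.leaf (nat_lit 0x12000e604)))) (.node 2 (.node 1 (.leaf (nat_lit 0x12000e607)) (.leaf (nat_lit 0x12000e706))) (.node 1 (.leaf (nat_lit 0x12000e803)) (.leaf (nat_lit 0x12000e807))))) (.node 4 (.node 2 (.node 1 (.leaf (nat_lit 0x12000e902)) (.leaf (nat_lit 0x12000e904))) (.node 1 (.leaf (nat_lit 0x12000e907)) (.leaf (nat_lit 0x12000ea06)))) (.node 2 (.node 1 (.leaf (nat_lit 0x12000eb05)) (.leaf (nat_lit 0x12000eb07))) (.node 1 (.leaf (nat_lit 0x12000ec06)) (.leaf (nat_lit 0x12000ee02)))))))) (.node 32 (.node 16 (.node 8 (.node 4 (.node 2 (.node 1 (.leaf (nat_lit 0x12000ee04)) (.leaf (nat_lit 0x12000ee07))) (.node 1 (.leaf (nat_lit 0x12000ef06)) (.leaf (nat_lit 0x12000f004)))) (.node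 2 (.node 1 (.leaf (nat_lit 0x12000f007)) (.leaf (nat_lit 0x12000f105))) (.node 1 (.leaf (nat_lit 0x12000f107)) (.leaf (nat_lit 0x12000f206))))) (.node 4 (.node 2 (.node 1 (.leaf (nat_lit 0x12000f302)) (.leaf (nat_lit 0x12000f407))) (.node 1 (.leaf (nat_lit 0x12000f506)) (.leaf (nat_lit 0x12000f602)))) (.node 2 (.node 1 (.leaf (nat_lit 0x12000f703)) (.leaf (nat_lit 0x12000f707))) (.node 1 (.leaf (nat_lit 0x12000f802)) (.leaf (nat_lit 0x12000f804)))))) (.node 8 (.node 4 (.node 2 (.node 1 (.leaf (nat_lit 0x12000f807)) (.leaf (nat_lit 0x12000f906))) (.node 1 (.leaf (nat_lit 0x12000fa05)) (.leaf (nat_lit 0x12000fa07)))) (.node 2 (.node 1 (.leaf (nat_lit 0x12000fb06)) (.leaf (nat_lit 0x12000fd04))) (.node 1 (.leaf (nat_lit 0x12000fd07)) (.leaf (nat_lit 0x12000fe06))))) (.node 4 (.node 2 (.node 1 (.leaf (nat_lit 0x12000ff05)) (.leaf (nat_lit 0x12000ff07))) (.node 1 (.leaf (nat_lit 0x120010006)) (.leaf (nat_lit 0x120010102))))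 (.node 2 (.node 1 (.leaf (nat_lit 0x120010207)) (.leaf (nat_lit 0x120010306))) (.node 1 (.leaf (nat_lit 0x120010402)) (.leaf (nat_lit 0x120010505))))))) (.node 16 (.node 8 (.node 4 (.node 2 (.node 1 (.leaf (nat_lit 0x120010507)) (.leaf (nat_lit 0x120010606))) (.node 1 (.leaf (nat_lit 0x120010702)) (.leaf (nat_lit 0x120010807)))) (.node 2 (.node 1 (.leaf (nat_lit 0x120010906)) (.leaf (nat_lit 0x120010a02))) (.node 1 (.leaf (nat_lit 0x120010b03)) (.leaf (nat_lit 0x120010c06))))) (.node 4 (.node 2 (.node 1 (.leaf (nat_lit 0x120010d02)) (.leaf (nat_lit 0x120010e01))) (.node 1 (.leaf (nat_lit 0x120010f06)) (.leaf (nat_lit 0x120011002)))) (.node 2 (.node 1 (.leaf (nat_lit 0x120011101)) (.leaf (nat_lit 0x120011202))) (.node 1 (.leaf (nat_lit 0x120011301)) (.leaf (nat_lit 0x120011303)))))) (.node 8 (.node 4 (.node 2 (.node 1 (.leaf (nat_lit 0x120011400)) (.leaf (nat_lit 0x120011501))) (.node 1 (.leaf (nat_lit 0x120011503))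 (.leaf (nat_lit 0x120011902)))) (.node 2 (.node 1 (.leaf (nat_lit 0x120011907)) (.leaf (nat_lit 0x120011a06))) (.node 1 (.leaf (nat_lit 0x120011b06)) (.leaf (nat_lit 0x120011b07))))) (.node 4 (.node 2 (.node 1 (.leaf (nat_lit 0x120011c06)) (.leaf (nat_lit 0x120011d02))) (.node 1 (.leaf (nat_lit 0x120011e02)) (.leaf (nat_lit 0x120011f02)))) (.node 2 (.node 1 (.leaf (nat_lit 0x120012003)) (.leaf (nat_lit 0x120012301))) (.node 1 (.leaf (nat_lit 0x120012306)) (.leaf (nat_lit 0x120012307))))))))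

noncomputable def lvO0_3 : Tree :=
  .node 64 (.node 32 (.node 16 (.node 8 (.node 4 (.node 2 (.node 1 (.leaf (nat_lit 0x120012406)) (.leaf (nat_lit 0x120012502))) (.node 1 (.leaf (nat_lit 0x130012d00)) (.leaf (nat_lit 0x130012d03)))) (.node 2 (.node 1 (.leaf (nat_lit 0x130012d07)) (.leaf (nat_lit 0x130012e04))) (.node 1 (.leaf (nat_lit 0x130012e07)) (.leaf (nat_lit 0x130012f06))))) (.node 4 (.node 2 (.node 1 (.leaf (nat_lit 0x130013003)) (.leaf (nat_lit 0x130013007))) (.node 1 (.leaf (nat_lit 0x130013102)) (.leaf (nat_lit 0x130013104)))) (.node 2 (.node 1 (.leaf (nat_lit 0x130013107)) (.leaf (nat_lit 0x130013206))) (.node 1 (.leaf (nat_lit 0x130013305)) (.leaf (nat_lit 0x130013307)))))) (.node 8 (.node 4 (.node 2 (.node 1 (.leaf (nat_lit 0x130013406)) (.leaf (nat_lit 0x130013602))) (.node 1 (.leaf (nat_lit 0x130013604)) (.leaf (nat_lit 0x130013607)))) (.node 2 (.node 1 (.leaf (nat_lit 0x130013706)) (.leaf (nat_lit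 0x130013804))) (.node 1 (.leaf (nat_lit 0x130013807)) (.leaf (nat_lit 0x130013905))))) (.node 4 (.node 2 (.node 1 (.leaf (nat_lit 0x130013907)) (.leaf (nat_lit 0x130013a06))) (.node 1 (.leaf (nat_lit 0x130013b02)) (.leaf (nat_lit 0x130013c07)))) (.node 2 (.node 1 (.leaf (nat_lit 0x130013d06)) (.leaf (nat_lit 0x130013e02))) (.node 1 (.leaf (nat_lit 0x130013f01)) (.leaf (nat_lit 0x130013f04))))))) (.node 16 (.node 8 (.node 4 (.node 2 (.node 1 (.leaf (nat_lit 0x130013f07)) (.leaf (nat_lit 0x130014005))) (.node 1 (.leaf (nat_lit 0x130014007)) (.leaf (nat_lit 0x130014106)))) (.node 2 (.node 1 (.leaf (nat_lit 0x130014202)) (.leaf (nat_lit 0x130014303))) (.node 1 (.leaf (nat_lit 0x130014305)) (.leaf (nat_lit 0x130014307))))) (.node 4 (.node 2 (.node 1 (.leaf (nat_lit 0x130014406)) (.leaf (nat_lit 0x130014507))) (.node 1 (.leaf (nat_lit 0x130014606)) (.leaf (nat_lit 0x130014702)))) (.node 2 (.node 1 (.leaf (nat_lit 0x130014803))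 (.leaf (nat_lit 0x130014906))) (.node 1 (.leaf (nat_lit 0x130014a02)) (.leaf (nat_lit 0x130014b01)))))) (.node 8 (.node 4 (.node 2 (.node 1 (.leaf (nat_lit 0x130014c02)) (.leaf (nat_lit 0x130014c04))) (.node 1 (.leaf (nat_lit 0x130014c07)) (.leaf (nat_lit 0x130014d06)))) (.node 2 (.node 1 (.leaf (nat_lit 0x130014e04)) (.leaf (nat_lit 0x130014e06))) (.node 1 (.leaf (nat_lit 0x130014e07)) (.leaf (nat_lit 0x130014f05))))) (.node 4 (.node 2 (.node 1 (.leaf (nat_lit 0x130014f07)) (.leaf (nat_lit 0x130015006))) (.node 1 (.leaf (nat_lit 0x130015102)) (.leaf (nat_lit 0x130015207)))) (.node 2 (.node 1 (.leaf (nat_lit 0x130015306)) (.leaf (nat_lit 0x130015402))) (.node 1 (.leaf (nat_lit 0x130015505)) (.leaf (nat_lit 0x130015507)))))))) (.node 32 (.node 16 (.node 8 (.node 4 (.node 2 (.node 1 (.leaf (nat_lit 0x130015606)) (.leaf (nat_lit 0x130015702))) (.node 1 (.leaf (nat_lit 0x130015807)) (.leaf (nat_lit 0x130015906)))) (.node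 2 (.node 1 (.leaf (nat_lit 0x130015a02)) (.leaf (nat_lit 0x130015b03))) (.node 1 (.leaf (nat_lit 0x130015c06)) (.leaf (nat_lit 0x130015d02))))) (.node 4 (.node 2 (.node 1 (.leaf (nat_lit 0x130015e01)) (.leaf (nat_lit 0x130015f07))) (.node 1 (.leaf (nat_lit 0x130016006)) (.leaf (nat_lit 0x130016102)))) (.node 2 (.node 1 (.leaf (nat_lit 0x130016201)) (.leaf (nat_lit 0x130016203))) (.node 1 (.leaf (nat_lit 0x130016306)) (.leaf (nat_lit 0x130016402)))))) (.node 8 (.node 4 (.node 2 (.node 1 (.leaf (nat_lit 0x130016501)) (.leaf (nat_lit 0x130016503))) (.node 1 (.leaf (nat_lit 0x130016604)) (.leaf (nat_lit 0x130016702)))) (.node 2 (.node 1 (.leaf (nat_lit 0x130016a02)) (.leaf (nat_lit 0x130016b01))) (.node 1 (.leaf (nat_lit 0x130016b03)) (.leaf (nat_lit 0x130016c00))))) (.node 4 (.node 2 (.node 1 (.leaf (nat_lit 0x130016d01)) (.leaf (nat_lit 0x130016d03))) (.node 1 (.leaf (nat_lit 0x130017204)) (.leaf (nat_lit 0x130017301))))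 (.node 2 (.node 1 (.leaf (nat_lit 0x130017306)) (.leaf (nat_lit 0x130017307))) (.node 1 (.leaf (nat_lit 0x130017406)) (.leaf (nat_lit 0x130017502))))))) (.node 16 (.node 8 (.node 4 (.node 2 (.node 1 (.leaf (nat_lit 0x130017607)) (.leaf (nat_lit 0x130017706))) (.node 1 (.leaf (nat_lit 0x130017802)) (.leaf (nat_lit 0x130017903)))) (.node 2 (.node 1 (.leaf (nat_lit 0x130017a01)) (.leaf (nat_lit 0x130017c04))) (.node 1 (.leaf (nat_lit 0x130017d06)) (.leaf (nat_lit 0x130017d07))))) (.node 4 (.node 2 (.node 1 (.leaf (nat_lit 0x140018203)) (.leaf (nat_lit 0x140018207))) (.node 1 (.leaf (nat_lit 0x140018302)) (.leaf (nat_lit 0x140018304)))) (.node 2 (.node 1 (.leaf (nat_lit 0x140018307)) (.leaf (nat_lit 0x140018406))) (.node 1 (.leaf (nat_lit 0x140018505)) (.leaf (nat_lit 0x140018507)))))) (.node 8 (.node 4 (.node 2 (.node 1 (.leaf (nat_lit 0x140018606)) (.leaf (nat_lit 0x140018802))) (.node 1 (.leaf (nat_lit 0x140018804))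 (.leaf (nat_lit 0x140018807)))) (.node 2 (.node 1 (.leaf (nat_lit 0x140018906)) (.leaf (nat_lit 0x140018a04))) (.node 1 (.leaf (nat_lit 0x140018a06)) (.leaf (nat_lit 0x140018a07))))) (.node 4 (.node 2 (.node 1 (.leaf (nat_lit 0x140018b05)) (.leaf (nat_lit 0x140018b07))) (.node 1 (.leaf (nat_lit 0x140018c06)) (.leaf (nat_lit 0x140018d02)))) (.node 2 (.node 1 (.leaf (nat_lit 0x140018e07)) (.leaf (nat_lit 0x140018f06))) (.node 1 (.leaf (nat_lit 0x140019002)) (.leaf (nat_lit 0x140019101))))))))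

noncomputable def lvO0_4 : Tree :=
  .node 64 (.node 32 (.node 16 (.node 8 (.node 4 (.node 2 (.node 1 (.leaf (nat_lit 0x140019104)) (.leaf (nat_lit 0x140019107))) (.node 1 (.leaf (nat_lit 0x140019205)) (.leaf (nat_lit 0x140019207)))) (.node 2 (.node 1 (.leaf (nat_lit 0x140019306)) (.leaf (nat_lit 0x140019402))) (.node 1 (.leaf (nat_lit 0x140019503)) (.leaf (nat_lit 0x140019505))))) (.node 4 (.node 2 (.node 1 (.leaf (nat_lit 0x140019507)) (.leaf (nat_lit 0x140019606))) (.node 1 (.leaf (nat_lit 0x140019707)) (.leaf (nat_lit 0x140019806)))) (.node 2 (.node 1 (.leaf (nat_lit 0x140019902)) (.leaf (nat_lit 0x140019a03))) (.node 1 (.leaf (nat_lit 0x140019b06)) (.leaf (nat_lit 0x140019c02)))))) (.node 8 (.node 4 (.node 2 (.node 1 (.leaf (nat_lit 0x140019d01)) (.leaf (nat_lit 0x140019e04))) (.node 1 (.leaf (nat_lit 0x140019e07)) (.leaf (nat_lit 0x140019f03)))) (.node 2 (.node 1 (.leaf (nat_lit 0x140019f05)) (.leaf (nat_lit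 0x140019f07))) (.node 1 (.leaf (nat_lit 0x14001a006)) (.leaf (nat_lit 0x14001a107))))) (.node 4 (.node 2 (.node 1 (.leaf (nat_lit 0x14001a206)) (.leaf (nat_lit 0x14001a302))) (.node 1 (.leaf (nat_lit 0x14001a401)) (.leaf (nat_lit 0x14001a403)))) (.node 2 (.node 1 (.leaf (nat_lit 0x14001a505)) (.leaf (nat_lit 0x14001a507))) (.node 1 (.leaf (nat_lit 0x14001a607)) (.leaf (nat_lit 0x14001a706))))))) (.node 16 (.node 8 (.node 4 (.node 2 (.node 1 (.leaf (nat_lit 0x14001a802)) (.leaf (nat_lit 0x14001a906))) (.node 1 (.leaf (nat_lit 0x14001aa02)) (.leaf (nat_lit 0x14001ab01)))) (.node 2 (.node 1 (.leaf (nat_lit 0x14001ab03)) (.leaf (nat_lit 0x14001ac04))) (.node 1 (.leaf (nat_lit 0x14001ad02)) (.leaf (nat_lit 0x14001b001))))) (.node 4 (.node 2 (.node 1 (.leaf (nat_lit 0x14001b004)) (.leaf (nat_lit 0x14001b006))) (.node 1 (.leaf (nat_lit 0x14001b007)) (.leaf (nat_lit 0x14001b105)))) (.node 2 (.node 1 (.leaf (nat_lit 0x14001b107))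 (.leaf (nat_lit 0x14001b206))) (.node 1 (.leaf (nat_lit 0x14001b302)) (.leaf (nat_lit 0x14001b405)))))) (.node 8 (.node 4 (.node 2 (.node 1 (.leaf (nat_lit 0x14001b406)) (.leaf (nat_lit 0x14001b407))) (.node 1 (.leaf (nat_lit 0x14001b507)) (.leaf (nat_lit 0x14001b606)))) (.node 2 (.node 1 (.leaf (nat_lit 0x14001b707)) (.leaf (nat_lit 0x14001b806))) (.node 1 (.leaf (nat_lit 0x14001b902)) (.leaf (nat_lit 0x14001ba03))))) (.node 4 (.node 2 (.node 1 (.leaf (nat_lit 0x14001bb06)) (.leaf (nat_lit 0x14001bc02))) (.node 1 (.leaf (nat_lit 0x14001bd01)) (.leaf (nat_lit 0x14001be07)))) (.node 2 (.node 1 (.leaf (nat_lit 0x14001bf06)) (.leaf (nat_lit 0x14001c002))) (.node 1 (.leaf (nat_lit 0x14001c101)) (.leaf (nat_lit 0x14001c103)))))))) (.node 32 (.node 16 (.node 8 (.node 4 (.node 2 (.node 1 (.leaf (nat_lit 0x14001c206)) (.leaf (nat_lit 0x14001c302))) (.node 1 (.leaf (nat_lit 0x14001c401)) (.leaf (nat_lit 0x14001c403)))) (.node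 2 (.node 1 (.leaf (nat_lit 0x14001c504)) (.leaf (nat_lit 0x14001c602))) (.node 1 (.leaf (nat_lit 0x14001c701)) (.leaf (nat_lit 0x14001c703))))) (.node 4 (.node 2 (.node 1 (.leaf (nat_lit 0x14001c800)) (.leaf (nat_lit 0x14001c906))) (.node 1 (.leaf (nat_lit 0x14001ca02)) (.leaf (nat_lit 0x14001cb01)))) (.node 2 (.node 1 (.leaf (nat_lit 0x14001cb03)) (.leaf (nat_lit 0x14001ce02))) (.node 1 (.leaf (nat_lit 0x14001d000)) (.leaf (nat_lit 0x14001d003)))))) (.node 8 (.node 4 (.node 2 (.node 1 (.leaf (nat_lit 0x14001d401)) (.leaf (nat_lit 0x14001d403))) (.node 1 (.leaf (nat_lit 0x14001d500)) (.leaf (nat_lit 0x14001d503)))) (.node 2 (.node 1 (.leaf (nat_lit 0x14001d904)) (.leaf (nat_lit 0x14001db06))) (.node 1 (.leaf (nat_lit 0x14001db07)) (.leaf (nat_lit 0x14001dc07))))) (.node 4 (.node 2 (.node 1 (.leaf (nat_lit 0x14001dd06)) (.leaf (nat_lit 0x14001de02))) (.node 1 (.leaf (nat_lit 0x14001df03)) (.leaf (nat_lit 0x14001e006))))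 (.node 2 (.node 1 (.leaf (nat_lit 0x14001e102)) (.leaf (nat_lit 0x14001e201))) (.node 1 (.leaf (nat_lit 0x14001e203)) (.leaf (nat_lit 0x14001e304))))))) (.node 16 (.node 8 (.node 4 (.node 2 (.node 1 (.leaf (nat_lit 0x14001e602)) (.leaf (nat_lit 0x15001e802))) (.node 1 (.leaf (nat_lit 0x15001e804)) (.leaf (nat_lit 0x15001e807)))) (.node 2 (.node 1 (.leaf (nat_lit 0x15001e906)) (.leaf (nat_lit 0x15001ea04))) (.node 1 (.leaf (nat_lit 0x15001ea06)) (.leaf (nat_lit 0x15001ea07))))) (.node 4 (.node 2 (.node 1 (.leaf (nat_lit 0x15001eb05)) (.leaf (nat_lit 0x15001eb07))) (.node 1 (.leaf (nat_lit 0x15001ec06)) (.leaf (nat_lit 0x15001ed02)))) (.node 2 (.node 1 (.leaf (nat_lit 0x15001ee07)) (.leaf (nat_lit 0x15001ef06))) (.node 1 (.leaf (nat_lit 0x15001f002)) (.leaf (nat_lit 0x15001f101)))))) (.node 8 (.node 4 (.node 2 (.node 1 (.leaf (nat_lit 0x15001f104)) (.leaf (nat_lit 0x15001f106))) (.node 1 (.leaf (nat_lit 0x15001f107))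 (.leaf (nat_lit 0x15001f205)))) (.node 2 (.node 1 (.leaf (nat_lit 0x15001f207)) (.leaf (nat_lit 0x15001f306))) (.node 1 (.leaf (nat_lit 0x15001f402)) (.leaf (nat_lit 0x15001f503))))) (.node 4 (.node 2 (.node 1 (.leaf (nat_lit 0x15001f505)) (.leaf (nat_lit 0x15001f506))) (.node 1 (.leaf (nat_lit 0x15001f507)) (.leaf (nat_lit 0x15001f607)))) (.node 2 (.node 1 (.leaf (nat_lit 0x15001f706)) (.leaf (nat_lit 0x15001f807))) (.node 1 (.leaf (nat_lit 0x15001f906)) (.leaf (nat_lit 0x15001fa02))))))))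

noncomputable def lvO0_5 : Tree :=
  .node 64 (.node 32 (.node 16 (.node 8 (.node 4 (.node 2 (.node 1 (.leaf (nat_lit 0x15001fb03)) (.leaf (nat_lit 0x15001fc06))) (.node 1 (.leaf (nat_lit 0x15001fd02)) (.leaf (nat_lit 0x15001fe01)))) (.node 2 (.node 1 (.leaf (nat_lit 0x15001ff04)) (.leaf (nat_lit 0x15001ff07))) (.node 1 (.leaf (nat_lit 0x150020003)) (.leaf (nat_lit 0x150020005))))) (.node 4 (.node 2 (.node 1 (.leaf (nat_lit 0x150020007)) (.leaf (nat_lit 0x150020106))) (.node 1 (.leaf (nat_lit 0x150020207)) (.leaf (nat_lit 0x150020306)))) (.node 2 (.node 1 (.leaf (nat_lit 0x150020402)) (.leaf (nat_lit 0x150020501))) (.node 1 (.leaf (nat_lit 0x150020503)) (.leaf (nat_lit 0x150020605)))))) (.node 8 (.node 4 (.node 2 (.node 1 (.leaf (nat_lit 0x150020607)) (.leaf (nat_lit 0x150020707))) (.node 1 (.leaf (nat_lit 0x150020806)) (.leaf (nat_lit 0x150020902)))) (.node 2 (.node 1 (.leaf (nat_lit 0x150020a06)) (.leaf (nat_lit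 0x150020b02))) (.node 1 (.leaf (nat_lit 0x150020c01)) (.leaf (nat_lit 0x150020c03))))) (.node 4 (.node 2 (.node 1 (.leaf (nat_lit 0x150020d04)) (.leaf (nat_lit 0x150020e02))) (.node 1 (.leaf (nat_lit 0x150020f01)) (.leaf (nat_lit 0x150020f03)))) (.node 2 (.node 1 (.leaf (nat_lit 0x150021000)) (.leaf (nat_lit 0x150021103))) (.node 1 (.leaf (nat_lit 0x150021105)) (.leaf (nat_lit 0x150021107))))))) (.node 16 (.node 8 (.node 4 (.node 2 (.node 1 (.leaf (nat_lit 0x150021206)) (.leaf (nat_lit 0x150021305))) (.node 1 (.leaf (nat_lit 0x150021307)) (.leaf (nat_lit 0x150021407)))) (.node 2 (.node 1 (.leaf (nat_lit 0x150021506)) (.leaf (nat_lit 0x150021602))) (.node 1 (.leaf (nat_lit 0x150021706)) (.leaf (nat_lit 0x150021802))))) (.node 4 (.node 2 (.node 1 (.leaf (nat_lit 0x150021901)) (.leaf (nat_lit 0x150021903))) (.node 1 (.leaf (nat_lit 0x150021c04)) (.leaf (nat_lit 0x150021c07)))) (.node 2 (.node 1 (.leaf (nat_lit 0x150021d06))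 (.leaf (nat_lit 0x150021e06))) (.node 1 (.leaf (nat_lit 0x150021f02)) (.leaf (nat_lit 0x150022001)))))) (.node 8 (.node 4 (.node 2 (.node 1 (.leaf (nat_lit 0x150022003)) (.leaf (nat_lit 0x150022102))) (.node 1 (.leaf (nat_lit 0x150022300)) (.leaf (nat_lit 0x150022303)))) (.node 2 (.node 1 (.leaf (nat_lit 0x150022704)) (.leaf (nat_lit 0x150022706))) (.node 1 (.leaf (nat_lit 0x150022707)) (.leaf (nat_lit 0x150022805))))) (.node 4 (.node 2 (.node 1 (.leaf (nat_lit 0x150022806)) (.leaf (nat_lit 0x150022807))) (.node 1 (.leaf (nat_lit 0x150022907)) (.leaf (nat_lit 0x150022a06)))) (.node 2 (.node 1 (.leaf (nat_lit 0x150022b07)) (.leaf (nat_lit 0x150022c06))) (.node 1 (.leaf (nat_lit 0x150022d02)) (.leaf (nat_lit 0x150022e01)))))))) (.node 32 (.node 16 (.node 8 (.node 4 (.node 2 (.node 1 (.leaf (nat_lit 0x150022e03)) (.leaf (nat_lit 0x150022f06))) (.node 1 (.leaf (nat_lit 0x150022f07)) (.leaf (nat_lit 0x150023007)))) (.node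 2 (.node 1 (.leaf (nat_lit 0x150023106)) (.leaf (nat_lit 0x150023206))) (.node 1 (.leaf (nat_lit 0x150023302)) (.leaf (nat_lit 0x150023406))))) (.node 4 (.node 2 (.node 1 (.leaf (nat_lit 0x150023502)) (.leaf (nat_lit 0x150023601))) (.node 1 (.leaf (nat_lit 0x150023603)) (.leaf (nat_lit 0x150023704)))) (.node 2 (.node 1 (.leaf (nat_lit 0x150023802)) (.leaf (nat_lit 0x150023901))) (.node 1 (.leaf (nat_lit 0x150023903)) (.leaf (nat_lit 0x150023a00)))))) (.node 8 (.node 4 (.node 2 (.node 1 (.leaf (nat_lit 0x150023b06)) (.leaf (nat_lit 0x150023c02))) (.node 1 (.leaf (nat_lit 0x150023d01)) (.leaf (nat_lit 0x150023d03)))) (.node 2 (.node 1 (.leaf (nat_lit 0x150023f04)) (.leaf (nat_lit 0x150024002))) (.node 1 (.leaf (nat_lit 0x150024101)) (.leaf (nat_lit 0x150024103))))) (.node 4 (.node 2 (.node 1 (.leaf (nat_lit 0x150024200)) (.leaf (nat_lit 0x150024203))) (.node 1 (.leaf (nat_lit 0x150024304)) (.leaf (nat_lit 0x150024405))))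 (.node 2 (.node 1 (.leaf (nat_lit 0x150024503)) (.leaf (nat_lit 0x150024603))) (.node 1 (.leaf (nat_lit 0x150024902)) (.leaf (nat_lit 0x150024a01))))))) (.node 16 (.node 8 (.node 4 (.node 2 (.node 1 (.leaf (nat_lit 0x150024a03)) (.leaf (nat_lit 0x150025003))) (.node 1 (.leaf (nat_lit 0x150025104)) (.leaf (nat_lit 0x150025203)))) (.node 2 (.node 1 (.leaf (nat_lit 0x150025302)) (.leaf (nat_lit 0x150025502))) (.node 1 (.leaf (nat_lit 0x150025507)) (.leaf (nat_lit 0x150025606))))) (.node 4 (.node 2 (.node 1 (.leaf (nat_lit 0x150025706)) (.leaf (nat_lit 0x150025802))) (.node 1 (.leaf (nat_lit 0x150025903)) (.leaf (nat_lit 0x150025b02)))) (.node 2 (.node 1 (.leaf (nat_lit 0x150025c01)) (.leaf (nat_lit 0x150025c03))) (.node 1 (.leaf (nat_lit 0x150025d03)) (.leaf (nat_lit 0x150025e04)))))) (.node 8 (.node 4 (.node 2 (.node 1 (.leaf (nat_lit 0x150026003)) (.leaf (nat_lit 0x160026101))) (.node 1 (.leaf (nat_lit 0x160026104))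 (.leaf (nat_lit 0x160026106)))) (.node 2 (.node 1 (.leaf (nat_lit 0x160026107)) (.leaf (nat_lit 0x160026205))) (.node 1 (.leaf (nat_lit 0x160026207)) (.leaf (nat_lit 0x160026306))))) (.node 4 (.node 2 (.node 1 (.leaf (nat_lit 0x160026402)) (.leaf (nat_lit 0x160026503))) (.node 1 (.leaf (nat_lit 0x160026505)) (.leaf (nat_lit 0x160026506)))) (.node 2 (.node 1 (.leaf (nat_lit 0x160026507)) (.leaf (nat_lit 0x160026607))) (.node 1 (.leaf (nat_lit 0x160026706)) (.leaf (nat_lit 0x160026807))))))))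

noncomputable def lvO0_6 : Tree :=
  .node 64 (.node 32 (.node 16 (.node 8 (.node 4 (.node 2 (.node 1 (.leaf (nat_lit 0x160026906)) (.leaf (nat_lit 0x160026a02))) (.node 1 (.leaf (nat_lit 0x160026b03)) (.leaf (nat_lit 0x160026c06)))) (.node 2 (.node 1 (.leaf (nat_lit 0x160026d02)) (.leaf (nat_lit 0x160026e01))) (.node 1 (.leaf (nat_lit 0x160026f04)) (.leaf (nat_lit 0x160026f06))))) (.node 4 (.node 2 (.node 1 (.leaf (nat_lit 0x160026f07)) (.leaf (nat_lit 0x160027003))) (.node 1 (.leaf (nat_lit 0x160027005)) (.leaf (nat_lit 0x160027006)))) (.node 2 (.node 1 (.leaf (nat_lit 0x160027007)) (.leaf (nat_lit 0x160027107))) (.node 1 (.leaf (nat_lit 0x160027206)) (.leaf (nat_lit 0x160027307)))))) (.node 8 (.node 4 (.node 2 (.node 1 (.leaf (nat_lit 0x160027406)) (.leaf (nat_lit 0x160027502))) (.node 1 (.leaf (nat_lit 0x160027601)) (.leaf (nat_lit 0x160027603)))) (.node 2 (.node 1 (.leaf (nat_lit 0x160027705)) (.leaf (nat_lit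 0x160027706))) (.node 1 (.leaf (nat_lit 0x160027707)) (.leaf (nat_lit 0x160027806))))) (.node 4 (.node 2 (.node 1 (.leaf (nat_lit 0x160027807)) (.leaf (nat_lit 0x160027907))) (.node 1 (.leaf (nat_lit 0x160027a06)) (.leaf (nat_lit 0x160027b06)))) (.node 2 (.node 1 (.leaf (nat_lit 0x160027c02)) (.leaf (nat_lit 0x160027d06))) (.node 1 (.leaf (nat_lit 0x160027e02)) (.leaf (nat_lit 0x160027f01))))))) (.node 16 (.node 8 (.node 4 (.node 2 (.node 1 (.leaf (nat_lit 0x160027f03)) (.leaf (nat_lit 0x160028004))) (.node 1 (.leaf (nat_lit 0x160028102)) (.leaf (nat_lit 0x160028201)))) (.node 2 (.node 1 (.leaf (nat_lit 0x160028203)) (.leaf (nat_lit 0x160028300))) (.node 1 (.leaf (nat_lit 0x160028403)) (.leaf (nat_lit 0x160028405))))) (.node 4 (.node 2 (.node 1 (.leaf (nat_lit 0x160028407)) (.leaf (nat_lit 0x160028506))) (.node 1 (.leaf (nat_lit 0x160028605)) (.leaf (nat_lit 0x160028607)))) (.node 2 (.node 1 (.leaf (nat_lit 0x160028707))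 (.leaf (nat_lit 0x160028806))) (.node 1 (.leaf (nat_lit 0x160028902)) (.leaf (nat_lit 0x160028a06)))))) (.node 8 (.node 4 (.node 2 (.node 1 (.leaf (nat_lit 0x160028b02)) (.leaf (nat_lit 0x160028c01))) (.node 1 (.leaf (nat_lit 0x160028c03)) (.leaf (nat_lit 0x160028e04)))) (.node 2 (.node 1 (.leaf (nat_lit 0x160028f04)) (.leaf (nat_lit 0x160028f07))) (.node 1 (.leaf (nat_lit 0x160029006)) (.leaf (nat_lit 0x160029106))))) (.node 4 (.node 2 (.node 1 (.leaf (nat_lit 0x160029202)) (.leaf (nat_lit 0x160029301))) (.node 1 (.leaf (nat_lit 0x160029303)) (.leaf (nat_lit 0x160029402)))) (.node 2 (.node 1 (.leaf (nat_lit 0x160029501)) (.leaf (nat_lit 0x160029503))) (.node 1 (.leaf (nat_lit 0x160029600)) (.leaf (nat_lit 0x160029603)))))))) (.node 32 (.node 16 (.node 8 (.node 4 (.node 2 (.node 1 (.leaf (nat_lit 0x160029704)) (.leaf (nat_lit 0x160029805))) (.node 1 (.leaf (nat_lit 0x160029903)) (.leaf (nat_lit 0x160029a03)))) (.node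 2 (.node 1 (.leaf (nat_lit 0x160029d02)) (.leaf (nat_lit 0x160029d05))) (.node 1 (.leaf (nat_lit 0x160029d07)) (.leaf (nat_lit 0x160029e07))))) (.node 4 (.node 2 (.node 1 (.leaf (nat_lit 0x160029f06)) (.leaf (nat_lit 0x16002a002))) (.node 1 (.leaf (nat_lit 0x16002a104)) (.leaf (nat_lit 0x16002a107)))) (.node 2 (.node 1 (.leaf (nat_lit 0x16002a206)) (.leaf (nat_lit 0x16002a306))) (.node 1 (.leaf (nat_lit 0x16002a402)) (.leaf (nat_lit 0x16002a501)))))) (.node 8 (.node 4 (.node 2 (.node 1 (.leaf (nat_lit 0x16002a503)) (.leaf (nat_lit 0x16002a602))) (.node 1 (.leaf (nat_lit 0x16002a701)) (.leaf (nat_lit 0x16002a703)))) (.node 2 (.node 1 (.leaf (nat_lit 0x16002aa07)) (.leaf (nat_lit 0x16002ab06))) (.node 1 (.leaf (nat_lit 0x16002ac02)) (.leaf (nat_lit 0x16002ad02))))) (.node 4 (.node 2 (.node 1 (.leaf (nat_lit 0x16002af00)) (.leaf (nat_lit 0x16002af03))) (.node 1 (.leaf (nat_lit 0x16002b405)) (.leaf (nat_lit 0x16002b406))))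 (.node 2 (.node 1 (.leaf (nat_lit 0x16002b407)) (.leaf (nat_lit 0x16002b502))) (.node 1 (.leaf (nat_lit 0x16002b507)) (.leaf (nat_lit 0x16002b606))))))) (.node 16 (.node 8 (.node 4 (.node 2 (.node 1 (.leaf (nat_lit 0x16002b706)) (.leaf (nat_lit 0x16002b707))) (.node 1 (.leaf (nat_lit 0x16002b807)) (.leaf (nat_lit 0x16002b906)))) (.node 2 (.node 1 (.leaf (nat_lit 0x16002ba06)) (.leaf (nat_lit 0x16002bb02))) (.node 1 (.leaf (nat_lit 0x16002bc06)) (.leaf (nat_lit 0x16002bd02))))) (.node 4 (.node 2 (.node 1 (.leaf (nat_lit 0x16002be01)) (.leaf (nat_lit 0x16002be03))) (.node 1 (.leaf (nat_lit 0x16002bf03)) (.leaf (nat_lit 0x16002c004)))) (.node 2 (.node 1 (.leaf (nat_lit 0x16002c107)) (.leaf (nat_lit 0x16002c206))) (.node 1 (.leaf (nat_lit 0x16002c306)) (.leaf (nat_lit 0x16002c402)))))) (.node 8 (.node 4 (.node 2 (.node 1 (.leaf (nat_lit 0x16002c502)) (.leaf (nat_lit 0x16002c601))) (.node 1 (.leaf (nat_lit 0x16002c603))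 (.leaf (nat_lit 0x16002c702)))) (.node 2 (.node 1 (.leaf (nat_lit 0x16002c801)) (.leaf (nat_lit 0x16002c803))) (.node 1 (.leaf (nat_lit 0x16002c900)) (.leaf (nat_lit 0x16002c903))))) (.node 4 (.node 2 (.node 1 (.leaf (nat_lit 0x16002ca04)) (.leaf (nat_lit 0x16002cb05))) (.node 1 (.leaf (nat_lit 0x16002cc01)) (.leaf (nat_lit 0x16002cc03)))) (.node 2 (.node 1 (.leaf (nat_lit 0x16002cd00)) (.leaf (nat_lit 0x16002cd03))) (.node 1 (.leaf (nat_lit 0x16002d002)) (.leaf (nat_lit 0x16002d101))))))))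

noncomputable def lvO0_7 : Tree :=
  .node 64 (.node 32 (.node 16 (.node 8 (.node 4 (.node 2 (.node 1 (.leaf (nat_lit 0x16002d103)) (.leaf (nat_lit 0x16002d200))) (.node 1 (.leaf (nat_lit 0x16002d304)) (.leaf (nat_lit 0x16002d503)))) (.node 2 (.node 1 (.leaf (nat_lit 0x16002d600)) (.leaf (nat_lit 0x16002d603))) (.node 1 (.leaf (nat_lit 0x16002d704)) (.leaf (nat_lit 0x16002d803))))) (.node 4 (.node 2 (.node 1 (.leaf (nat_lit 0x16002d904)) (.leaf (nat_lit 0x16002dd02))) (.node 1 (.leaf (nat_lit 0x16002e102)) (.leaf (nat_lit 0x16002e302)))) (.node 2 (.node 1 (.leaf (nat_lit 0x16002e406)) (.leaf (nat_lit 0x16002e503))) (.node 1 (.leaf (nat_lit 0x16002e507)) (.leaf (nat_lit 0x16002e606)))))) (.node 8 (.node 4 (.node 2 (.node 1 (.leaf (nat_lit 0x16002e802)) (.leaf (nat_lit 0x16002e903))) (.node 1 (.leaf (nat_lit 0x16002eb01)) (.leaf (nat_lit 0x16002eb03)))) (.node 2 (.node 1 (.leaf (nat_lit 0x16002ec03)) (.leaf (nat_lit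 0x16002ed04))) (.node 1 (.leaf (nat_lit 0x16002ee04)) (.leaf (nat_lit 0x16002f004))))) (.node 4 (.node 2 (.node 1 (.leaf (nat_lit 0x17002f104)) (.leaf (nat_lit 0x17002f106))) (.node 1 (.leaf (nat_lit 0x17002f107)) (.leaf (nat_lit 0x17002f203)))) (.node 2 (.node 1 (.leaf (nat_lit 0x17002f205)) (.leaf (nat_lit 0x17002f206))) (.node 1 (.leaf (nat_lit 0x17002f207)) (.leaf (nat_lit 0x17002f307))))))) (.node 16 (.node 8 (.node 4 (.node 2 (.node 1 (.leaf (nat_lit 0x17002f406)) (.leaf (nat_lit 0x17002f507))) (.node 1 (.leaf (nat_lit 0x17002f606)) (.leaf (nat_lit 0x17002f702)))) (.node 2 (.node 1 (.leaf (nat_lit 0x17002f801)) (.leaf (nat_lit 0x17002f803))) (.node 1 (.leaf (nat_lit 0x17002f907)) (.leaf (nat_lit 0x17002fa07))))) (.node 4 (.node 2 (.node 1 (.leaf (nat_lit 0x17002fb07)) (.leaf (nat_lit 0x17002fc06))) (.node 1 (.leaf (nat_lit 0x17002fd06)) (.leaf (nat_lit 0x17002fe02)))) (.node 2 (.node 1 (.leaf (nat_lit 0x17002ff06))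 (.leaf (nat_lit 0x170030002))) (.node 1 (.leaf (nat_lit 0x170030101)) (.leaf (nat_lit 0x170030103)))))) (.node 8 (.node 4 (.node 2 (.node 1 (.leaf (nat_lit 0x170030204)) (.leaf (nat_lit 0x170030302))) (.node 1 (.leaf (nat_lit 0x170030401)) (.leaf (nat_lit 0x170030403)))) (.node 2 (.node 1 (.leaf (nat_lit 0x170030500)) (.leaf (nat_lit 0x170030603))) (.node 1 (.leaf (nat_lit 0x170030605)) (.leaf (nat_lit 0x170030606))))) (.node 4 (.node 2 (.node 1 (.leaf (nat_lit 0x170030607)) (.leaf (nat_lit 0x170030702))) (.node 1 (.leaf (nat_lit 0x170030707)) (.leaf (nat_lit 0x170030806)))) (.node 2 (.node 1 (.leaf (nat_lit 0x170030907)) (.leaf (nat_lit 0x170030a07))) (.node 1 (.leaf (nat_lit 0x170030b07)) (.leaf (nat_lit 0x170030c06)))))))) (.node 32 (.node 16 (.node 8 (.node 4 (.node 2 (.node 1 (.leaf (nat_lit 0x170030d06)) (.leaf (nat_lit 0x170030e02))) (.node 1 (.leaf (nat_lit 0x170030f06)) (.leaf (nat_lit 0x170031002)))) (.node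 2 (.node 1 (.leaf (nat_lit 0x170031101)) (.leaf (nat_lit 0x170031103))) (.node 1 (.leaf (nat_lit 0x170031203)) (.leaf (nat_lit 0x170031304))))) (.node 4 (.node 2 (.node 1 (.leaf (nat_lit 0x170031407)) (.leaf (nat_lit 0x170031507))) (.node 1 (.leaf (nat_lit 0x170031606)) (.leaf (nat_lit 0x170031707)))) (.node 2 (.node 1 (.leaf (nat_lit 0x170031806)) (.leaf (nat_lit 0x170031906))) (.node 1 (.leaf (nat_lit 0x170031a02)) (.leaf (nat_lit 0x170031b02)))))) (.node 8 (.node 4 (.node 2 (.node 1 (.leaf (nat_lit 0x170031c01)) (.leaf (nat_lit 0x170031c03))) (.node 1 (.leaf (nat_lit 0x170031d02)) (.leaf (nat_lit 0x170031e01)))) (.node 2 (.node 1 (.leaf (nat_lit 0x170031e03)) (.leaf (nat_lit 0x170031f00))) (.node 1 (.leaf (nat_lit 0x170031f03)) (.leaf (nat_lit 0x170032004))))) (.node 4 (.node 2 (.node 1 (.leaf (nat_lit 0x170032105)) (.leaf (nat_lit 0x170032201))) (.node 1 (.leaf (nat_lit 0x170032203)) (.leaf (nat_lit 0x170032300))))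 (.node 2 (.node 1 (.leaf (nat_lit 0x170032303)) (.leaf (nat_lit 0x170032602))) (.node 1 (.leaf (nat_lit 0x170032605)) (.leaf (nat_lit 0x170032607))))))) (.node 16 (.node 8 (.node 4 (.node 2 (.node 1 (.leaf (nat_lit 0x170032707)) (.leaf (nat_lit 0x170032806))) (.node 1 (.leaf (nat_lit 0x170032902)) (.leaf (nat_lit 0x170032a07)))) (.node 2 (.node 1 (.leaf (nat_lit 0x170032b06)) (.leaf (nat_lit 0x170032c06))) (.node 1 (.leaf (nat_lit 0x170032d02)) (.leaf (nat_lit 0x170032e01))))) (.node 4 (.node 2 (.node 1 (.leaf (nat_lit 0x170032e03)) (.leaf (nat_lit 0x170032f02))) (.node 1 (.leaf (nat_lit 0x170033001)) (.leaf (nat_lit 0x170033003)))) (.node 2 (.node 1 (.leaf (nat_lit 0x170033100)) (.leaf (nat_lit 0x170033204))) (.node 1 (.leaf (nat_lit 0x170033407)) (.leaf (nat_lit 0x170033506)))))) (.node 8 (.node 4 (.node 2 (.node 1 (.leaf (nat_lit 0x170033602)) (.leaf (nat_lit 0x170033702))) (.node 1 (.leaf (nat_lit 0x170033801))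 (.leaf (nat_lit 0x170033803)))) (.node 2 (.node 1 (.leaf (nat_lit 0x170033900)) (.leaf (nat_lit 0x170033903))) (.node 1 (.leaf (nat_lit 0x170033a04)) (.leaf (nat_lit 0x170033b03))))) (.node 4 (.node 2 (.node 1 (.leaf (nat_lit 0x170033c00)) (.leaf (nat_lit 0x170033c03))) (.node 1 (.leaf (nat_lit 0x170033d04)) (.leaf (nat_lit 0x170033e03)))) (.node 2 (.node 1 (.leaf (nat_lit 0x170033f04)) (.leaf (nat_lit 0x170034302))) (.node 1 (.leaf (nat_lit 0x170034405)) (.leaf (nat_lit 0x170034406))))))))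

noncomputable def lvO0_8 : Tree :=
  .node 64 (.node 32 (.node 16 (.node 8 (.node 4 (.node 2 (.node 1 (.leaf (nat_lit 0x170034407)) (.leaf (nat_lit 0x170034504))) (.node 1 (.leaf (nat_lit 0x170034507)) (.leaf (nat_lit 0x170034606)))) (.node 2 (.node 1 (.leaf (nat_lit 0x170034706)) (.leaf (nat_lit 0x170034802))) (.node 1 (.leaf (nat_lit 0x170034901)) (.leaf (nat_lit 0x170034903))))) (.node 4 (.node 2 (.node 1 (.leaf (nat_lit 0x170034a07)) (.leaf (nat_lit 0x170034b06))) (.node 1 (.leaf (nat_lit 0x170034c02)) (.leaf (nat_lit 0x170034d02)))) (.node 2 (.node 1 (.leaf (nat_lit 0x170034e01)) (.leaf (nat_lit 0x170034e03))) (.node 1 (.leaf (nat_lit 0x170035406)) (.leaf (nat_lit 0x170035502)))))) (.node 8 (.node 4 (.node 2 (.node 1 (.leaf (nat_lit 0x170035902)) (.leaf (nat_lit 0x170035a07))) (.node 1 (.leaf (nat_lit 0x170035b07)) (.leaf (nat_lit 0x170035c06)))) (.node 2 (.node 1 (.leaf (nat_lit 0x170035d07)) (.leaf (nat_lit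 0x170035e06))) (.node 1 (.leaf (nat_lit 0x170035f02)) (.leaf (nat_lit 0x170036007))))) (.node 4 (.node 2 (.node 1 (.leaf (nat_lit 0x170036106)) (.leaf (nat_lit 0x170036206))) (.node 1 (.leaf (nat_lit 0x170036302)) (.leaf (nat_lit 0x170036402)))) (.node 2 (.node 1 (.leaf (nat_lit 0x170036501)) (.leaf (nat_lit 0x170036503))) (.node 1 (.leaf (nat_lit 0x170036602)) (.leaf (nat_lit 0x170036701))))))) (.node 16 (.node 8 (.node 4 (.node 2 (.node 1 (.leaf (nat_lit 0x170036703)) (.leaf (nat_lit 0x170036800))) (.node 1 (.leaf (nat_lit 0x170036803)) (.leaf (nat_lit 0x170036904)))) (.node 2 (.node 1 (.leaf (nat_lit 0x170036a02)) (.leaf (nat_lit 0x170036c06))) (.node 1 (.leaf (nat_lit 0x170036d02)) (.leaf (nat_lit 0x170036e02))))) (.node 4 (.node 2 (.node 1 (.leaf (nat_lit 0x170036f01)) (.leaf (nat_lit 0x170036f03))) (.node 1 (.leaf (nat_lit 0x170037001)) (.leaf (nat_lit 0x170037003)))) (.node 2 (.node 1 (.leaf (nat_lit 0x170037100))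 (.leaf (nat_lit 0x170037103))) (.node 1 (.leaf (nat_lit 0x170037204)) (.leaf (nat_lit 0x170037301)))))) (.node 8 (.node 4 (.node 2 (.node 1 (.leaf (nat_lit 0x170037303)) (.leaf (nat_lit 0x170037400))) (.node 1 (.leaf (nat_lit 0x170037403)) (.leaf (nat_lit 0x170037504)))) (.node 2 (.node 1 (.leaf (nat_lit 0x170037603)) (.leaf (nat_lit 0x170037704))) (.node 1 (.leaf (nat_lit 0x170037805)) (.leaf (nat_lit 0x170037a00))))) (.node 4 (.node 2 (.node 1 (.leaf (nat_lit 0x170037a03)) (.leaf (nat_lit 0x170037c03))) (.node 1 (.leaf (nat_lit 0x170037d02)) (.leaf (nat_lit 0x170037e01)))) (.node 2 (.node 1 (.leaf (nat_lit 0x170037e03)) (.leaf (nat_lit 0x170037f00))) (.node 1 (.leaf (nat_lit 0x170037f03)) (.leaf (nat_lit 0x170038004)))))))) (.node 32 (.node 16 (.node 8 (.node 4 (.node 2 (.node 1 (.leaf (nat_lit 0x170038403)) (.leaf (nat_lit 0x170038502))) (.node 1 (.leaf (nat_lit 0x170038504)) (.leaf (nat_lit 0x170038906)))) (.node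 2 (.node 1 (.leaf (nat_lit 0x170038a06)) (.leaf (nat_lit 0x170038b01))) (.node 1 (.leaf (nat_lit 0x170038b06)) (.leaf (nat_lit 0x170038c07))))) (.node 4 (.node 2 (.node 1 (.leaf (nat_lit 0x170038d07)) (.leaf (nat_lit 0x170039003))) (.node 1 (.leaf (nat_lit 0x170039203)) (.leaf (nat_lit 0x170039304)))) (.node 2 (.node 1 (.leaf (nat_lit 0x170039402)) (.leaf (nat_lit 0x170039404))) (.node 1 (.leaf (nat_lit 0x180039807)) (.leaf (nat_lit 0x180039907)))))) (.node 8 (.node 4 (.node 2 (.node 1 (.leaf (nat_lit 0x180039a06)) (.leaf (nat_lit 0x180039b07))) (.node 1 (.leaf (nat_lit 0x180039c07)) (.leaf (nat_lit 0x180039d07)))) (.node 2 (.node 1 (.leaf (nat_lit 0x180039e06)) (.leaf (nat_lit 0x180039f06))) (.node 1 (.leaf (nat_lit 0x18003a002)) (.leaf (nat_lit 0x18003a106))))) (.node 4 (.node 2 (.node 1 (.leaf (nat_lit 0x18003a202)) (.leaf (nat_lit 0x18003a301))) (.node 1 (.leaf (nat_lit 0x18003a303)) (.leaf (nat_lit 0x18003a403))))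 (.node 2 (.node 1 (.leaf (nat_lit 0x18003a504)) (.leaf (nat_lit 0x18003a606))) (.node 1 (.leaf (nat_lit 0x18003a706)) (.leaf (nat_lit 0x18003a806))))))) (.node 16 (.node 8 (.node 4 (.node 2 (.node 1 (.leaf (nat_lit 0x18003a902)) (.leaf (nat_lit 0x18003aa02))) (.node 1 (.leaf (nat_lit 0x18003ab01)) (.leaf (nat_lit 0x18003ab03)))) (.node 2 (.node 1 (.leaf (nat_lit 0x18003ac02)) (.leaf (nat_lit 0x18003ad01))) (.node 1 (.leaf (nat_lit 0x18003ad03)) (.leaf (nat_lit 0x18003ae00))))) (.node 4 (.node 2 (.node 1 (.leaf (nat_lit 0x18003ae03)) (.leaf (nat_lit 0x18003af04))) (.node 1 (.leaf (nat_lit 0x18003b005)) (.leaf (nat_lit 0x18003b101)))) (.node 2 (.node 1 (.leaf (nat_lit 0x18003b103)) (.leaf (nat_lit 0x18003b200))) (.node 1 (.leaf (nat_lit 0x18003b203)) (.leaf (nat_lit 0x18003b507)))))) (.node 8 (.node 4 (.node 2 (.node 1 (.leaf (nat_lit 0x18003b607)) (.leaf (nat_lit 0x18003b707))) (.node 1 (.leaf (nat_lit 0x18003b806))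 (.leaf (nat_lit 0x18003b907)))) (.node 2 (.node 1 (.leaf (nat_lit 0x18003ba06)) (.leaf (nat_lit 0x18003bb02))) (.node 1 (.leaf (nat_lit 0x18003bc06)) (.leaf (nat_lit 0x18003bd06))))) (.node 4 (.node 2 (.node 1 (.leaf (nat_lit 0x18003be06)) (.leaf (nat_lit 0x18003bf02))) (.node 1 (.leaf (nat_lit 0x18003c002)) (.leaf (nat_lit 0x18003c101)))) (.node 2 (.node 1 (.leaf (nat_lit 0x18003c103)) (.leaf (nat_lit 0x18003c202))) (.node 1 (.leaf (nat_lit 0x18003c301)) (.leaf (nat_lit 0x18003c303))))))))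

noncomputable def lvO0_9 : Tree :=
  .node 64 (.node 32 (.node 16 (.node 8 (.node 4 (.node 2 (.node 1 (.leaf (nat_lit 0x18003c400)) (.leaf (nat_lit 0x18003c403))) (.node 1 (.leaf (nat_lit 0x18003c504)) (.leaf (nat_lit 0x18003c602)))) (.node 2 (.node 1 (.leaf (nat_lit 0x18003c806)) (.leaf (nat_lit 0x18003c906))) (.node 1 (.leaf (nat_lit 0x18003ca02)) (.leaf (nat_lit 0x18003cb06))))) (.node 4 (.node 2 (.node 1 (.leaf (nat_lit 0x18003cc02)) (.leaf (nat_lit 0x18003cd02))) (.node 1 (.leaf (nat_lit 0x18003ce01)) (.leaf (nat_lit 0x18003ce03)))) (.node 2 (.node 1 (.leaf (nat_lit 0x18003cf01)) (.leaf (nat_lit 0x18003cf03))) (.node 1 (.leaf (nat_lit 0x18003d000)) (.leaf (nat_lit 0x18003d003)))))) (.node 8 (.node 4 (.node 2 (.node 1 (.leaf (nat_lit 0x18003d104)) (.leaf (nat_lit 0x18003d201))) (.node 1 (.leaf (nat_lit 0x18003d203)) (.leaf (nat_lit 0x18003d300)))) (.node 2 (.node 1 (.leaf (nat_lit 0x18003d303)) (.leaf (nat_lit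 0x18003d404))) (.node 1 (.leaf (nat_lit 0x18003d503)) (.leaf (nat_lit 0x18003d604))))) (.node 4 (.node 2 (.node 1 (.leaf (nat_lit 0x18003d705)) (.leaf (nat_lit 0x18003d900))) (.node 1 (.leaf (nat_lit 0x18003d903)) (.leaf (nat_lit 0x18003db03)))) (.node 2 (.node 1 (.leaf (nat_lit 0x18003dc02)) (.leaf (nat_lit 0x18003dd07))) (.node 1 (.leaf (nat_lit 0x18003de07)) (.leaf (nat_lit 0x18003df06))))))) (.node 16 (.node 8 (.node 4 (.node 2 (.node 1 (.leaf (nat_lit 0x18003e006)) (.leaf (nat_lit 0x18003e102))) (.node 1 (.leaf (nat_lit 0x18003e201)) (.leaf (nat_lit 0x18003e203)))) (.node 2 (.node 1 (.leaf (nat_lit 0x18003e306)) (.leaf (nat_lit 0x18003e402))) (.node 1 (.leaf (nat_lit 0x18003e502)) (.leaf (nat_lit 0x18003e601))))) (.node 4 (.node 2 (.node 1 (.leaf (nat_lit 0x18003e603)) (.leaf (nat_lit 0x18003e700))) (.node 1 (.leaf (nat_lit 0x18003e804)) (.leaf (nat_lit 0x18003e901)))) (.node 2 (.node 1 (.leaf (nat_lit 0x18003e903))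 (.leaf (nat_lit 0x18003ea00))) (.node 1 (.leaf (nat_lit 0x18003ea03)) (.leaf (nat_lit 0x18003eb04)))))) (.node 8 (.node 4 (.node 2 (.node 1 (.leaf (nat_lit 0x18003ee06)) (.leaf (nat_lit 0x18003ef02))) (.node 1 (.leaf (nat_lit 0x18003f001)) (.leaf (nat_lit 0x18003f003)))) (.node 2 (.node 1 (.leaf (nat_lit 0x18003f103)) (.leaf (nat_lit 0x18003f200))) (.node 1 (.leaf (nat_lit 0x18003f203)) (.leaf (nat_lit 0x18003f304))))) (.node 4 (.node 2 (.node 1 (.leaf (nat_lit 0x18003f403)) (.leaf (nat_lit 0x18003f502))) (.node 1 (.leaf (nat_lit 0x18003f504)) (.leaf (nat_lit 0x18003f803)))) (.node 2 (.node 1 (.leaf (nat_lit 0x18003f902)) (.leaf (nat_lit 0x18003f904))) (.node 1 (.leaf (nat_lit 0x18003fd06)) (.leaf (nat_lit 0x18003fe07)))))))) (.node 32 (.node 16 (.node 8 (.node 4 (.node 2 (.node 1 (.leaf (nat_lit 0x180040107)) (.leaf (nat_lit 0x180040206))) (.node 1 (.leaf (nat_lit 0x180040402)) (.leaf (nat_lit 0x180040501)))) (.node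 2 (.node 1 (.leaf (nat_lit 0x180040600)) (.leaf (nat_lit 0x180040806))) (.node 1 (.leaf (nat_lit 0x180040902)) (.leaf (nat_lit 0x180040e02))))) (.node 4 (.node 2 (.node 1 (.leaf (nat_lit 0x180041106)) (.leaf (nat_lit 0x180041206))) (.node 1 (.leaf (nat_lit 0x180041302)) (.leaf (nat_lit 0x180041406)))) (.node 2 (.node 1 (.leaf (nat_lit 0x180041502)) (.leaf (nat_lit 0x180041601))) (.node 1 (.leaf (nat_lit 0x180041706)) (.leaf (nat_lit 0x180041802)))))) (.node 8 (.node 4 (.node 2 (.node 1 (.leaf (nat_lit 0x180041902)) (.leaf (nat_lit 0x180041a01))) (.node 1 (.leaf (nat_lit 0x180041a03)) (.leaf (nat_lit 0x180041b01)))) (.node 2 (.node 1 (.leaf (nat_lit 0x180041b03)) (.leaf (nat_lit 0x180041c00))) (.node 1 (.leaf (nat_lit 0x180041c03)) (.leaf (nat_lit 0x180041d04))))) (.node 4 (.node 2 (.node 1 (.leaf (nat_lit 0x180041e01)) (.leaf (nat_lit 0x180041e03))) (.node 1 (.leaf (nat_lit 0x180041f00)) (.leaf (nat_lit 0x180041f03))))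 (.node 2 (.node 1 (.leaf (nat_lit 0x180042004)) (.leaf (nat_lit 0x180042103))) (.node 1 (.leaf (nat_lit 0x180042202)) (.leaf (nat_lit 0x180042204))))))) (.node 16 (.node 8 (.node 4 (.node 2 (.node 1 (.leaf (nat_lit 0x180042502)) (.leaf (nat_lit 0x180042601))) (.node 1 (.leaf (nat_lit 0x180042603)) (.leaf (nat_lit 0x180042701)))) (.node 2 (.node 1 (.leaf (nat_lit 0x180042703)) (.leaf (nat_lit 0x180042800))) (.node 1 (.leaf (nat_lit 0x180042803)) (.leaf (nat_lit 0x180042904))))) (.node 4 (.node 2 (.node 1 (.leaf (nat_lit 0x180042a00)) (.leaf (nat_lit 0x180042a03))) (.node 1 (.leaf (nat_lit 0x180042b04)) (.leaf (nat_lit 0x180042c03)))) (.node 2 (.node 1 (.leaf (nat_lit 0x180042d02)) (.leaf (nat_lit 0x180042d04))) (.node 1 (.leaf (nat_lit 0x180042e05)) (.leaf (nat_lit 0x180042f00)))))) (.node 8 (.node 4 (.node 2 (.node 1 (.leaf (nat_lit 0x180042f03)) (.leaf (nat_lit 0x180043004))) (.node 1 (.leaf (nat_lit 0x180043103))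 (.leaf (nat_lit 0x180043202)))) (.node 2 (.node 1 (.leaf (nat_lit 0x180043204)) (.leaf (nat_lit 0x180043305))) (.node 1 (.leaf (nat_lit 0x180043404)) (.leaf (nat_lit 0x180043505))))) (.node 4 (.node 2 (.node 1 (.leaf (nat_lit 0x180043703)) (.leaf (nat_lit 0x180043902))) (.node 1 (.leaf (nat_lit 0x180043a06)) (.leaf (nat_lit 0x180043b03)))) (.node 2 (.node 1 (.leaf (nat_lit 0x180043c04)) (.leaf (nat_lit 0x180044104))) (.node 1 (.leaf (nat_lit 0x180044106)) (.leaf (nat_lit 0x180044307))))))))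

noncomputable def lvO0_10 : Tree :=
  .node 64 (.node 32 (.node 16 (.node 8 (.node 4 (.node 2 (.node 1 (.leaf (nat_lit 0x180044407)) (.leaf (nat_lit 0x180044506))) (.node 1 (.leaf (nat_lit 0x180044607)) (.leaf (nat_lit 0x180044a02)))) (.node 2 (.node 1 (.leaf (nat_lit 0x180044a04)) (.leaf (nat_lit 0x180044c04))) (.node 1 (.leaf (nat_lit 0x190044e06)) (.leaf (nat_lit 0x190044f06))))) (.node 4 (.node 2 (.node 1 (.leaf (nat_lit 0x190045002)) (.leaf (nat_lit 0x190045106))) (.node 1 (.leaf (nat_lit 0x190045206)) (.leaf (nat_lit 0x190045306)))) (.node 2 (.node 1 (.leaf (nat_lit 0x190045402)) (.leaf (nat_lit 0x190045502))) (.node 1 (.leaf (nat_lit 0x190045601)) (.leaf (nat_lit 0x190045603)))))) (.node 8 (.node 4 (.node 2 (.node 1 (.leaf (nat_lit 0x190045702)) (.leaf (nat_lit 0x190045801))) (.node 1 (.leaf (nat_lit 0x190045803)) (.leaf (nat_lit 0x190045900)))) (.node 2 (.node 1 (.leaf (nat_lit 0x190045903)) (.leaf (nat_lit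 0x190045a04))) (.node 1 (.leaf (nat_lit 0x190045b02)) (.leaf (nat_lit 0x190045b04))))) (.node 4 (.node 2 (.node 1 (.leaf (nat_lit 0x190045c05)) (.leaf (nat_lit 0x190045d02))) (.node 1 (.leaf (nat_lit 0x190045e02)) (.leaf (nat_lit 0x190045f02)))) (.node 2 (.node 1 (.leaf (nat_lit 0x190046001)) (.leaf (nat_lit 0x190046003))) (.node 1 (.leaf (nat_lit 0x190046101)) (.leaf (nat_lit 0x190046103))))))) (.node 16 (.node 8 (.node 4 (.node 2 (.node 1 (.leaf (nat_lit 0x190046200)) (.leaf (nat_lit 0x190046203))) (.node 1 (.leaf (nat_lit 0x190046304)) (.leaf (nat_lit 0x190046401)))) (.node 2 (.node 1 (.leaf (nat_lit 0x190046403)) (.leaf (nat_lit 0x190046500))) (.node 1 (.leaf (nat_lit 0x190046503)) (.leaf (nat_lit 0x190046604))))) (.node 4 (.node 2 (.node 1 (.leaf (nat_lit 0x190046703)) (.leaf (nat_lit 0x190046804))) (.node 1 (.leaf (nat_lit 0x190046905)) (.leaf (nat_lit 0x190046b00)))) (.node 2 (.node 1 (.leaf (nat_lit 0x190046b03))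 (.leaf (nat_lit 0x190046c04))) (.node 1 (.leaf (nat_lit 0x190046d03)) (.leaf (nat_lit 0x190046e02)))))) (.node 8 (.node 4 (.node 2 (.node 1 (.leaf (nat_lit 0x190046f06)) (.leaf (nat_lit 0x190047006))) (.node 1 (.leaf (nat_lit 0x190047106)) (.leaf (nat_lit 0x190047202)))) (.node 2 (.node 1 (.leaf (nat_lit 0x190047306)) (.leaf (nat_lit 0x190047402))) (.node 1 (.leaf (nat_lit 0x190047501)) (.leaf (nat_lit 0x190047503))))) (.node 4 (.node 2 (.node 1 (.leaf (nat_lit 0x190047602)) (.leaf (nat_lit 0x190047702))) (.node 1 (.leaf (nat_lit 0x190047802)) (.leaf (nat_lit 0x190047901)))) (.node 2 (.node 1 (.leaf (nat_lit 0x190047903)) (.leaf (nat_lit 0x190047a01))) (.node 1 (.leaf (nat_lit 0x190047a03)) (.leaf (nat_lit 0x190047b00)))))))) (.node 32 (.node 16 (.node 8 (.node 4 (.node 2 (.node 1 (.leaf (nat_lit 0x190047b03)) (.leaf (nat_lit 0x190047c04))) (.node 1 (.leaf (nat_lit 0x190047d01)) (.leaf (nat_lit 0x190047d03)))) (.node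 2 (.node 1 (.leaf (nat_lit 0x190047e00)) (.leaf (nat_lit 0x190047e03))) (.node 1 (.leaf (nat_lit 0x190047f04)) (.leaf (nat_lit 0x190048003))))) (.node 4 (.node 2 (.node 1 (.leaf (nat_lit 0x190048102)) (.leaf (nat_lit 0x190048104))) (.node 1 (.leaf (nat_lit 0x190048402)) (.leaf (nat_lit 0x190048502)))) (.node 2 (.node 1 (.leaf (nat_lit 0x190048601)) (.leaf (nat_lit 0x190048603))) (.node 1 (.leaf (nat_lit 0x190048702)) (.leaf (nat_lit 0x190048801)))))) (.node 8 (.node 4 (.node 2 (.node 1 (.leaf (nat_lit 0x190048803)) (.leaf (nat_lit 0x190048901))) (.node 1 (.leaf (nat_lit 0x190048903)) (.leaf (nat_lit 0x190048a00)))) (.node 2 (.node 1 (.leaf (nat_lit 0x190048a03)) (.leaf (nat_lit 0x190048b04))) (.node 1 (.leaf (nat_lit 0x190048c00)) (.leaf (nat_lit 0x190048c03))))) (.node 4 (.node 2 (.node 1 (.leaf (nat_lit 0x190048d04)) (.leaf (nat_lit 0x190048e03))) (.node 1 (.leaf (nat_lit 0x190048f02)) (.leaf (nat_lit 0x190048f04))))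 (.node 2 (.node 1 (.leaf (nat_lit 0x190049005)) (.leaf (nat_lit 0x190049100))) (.node 1 (.leaf (nat_lit 0x190049103)) (.leaf (nat_lit 0x190049204))))))) (.node 16 (.node 8 (.node 4 (.node 2 (.node 1 (.leaf (nat_lit 0x190049303)) (.leaf (nat_lit 0x190049402))) (.node 1 (.leaf (nat_lit 0x190049404)) (.leaf (nat_lit 0x190049505)))) (.node 2 (.node 1 (.leaf (nat_lit 0x190049604)) (.leaf (nat_lit 0x190049705))) (.node 1 (.leaf (nat_lit 0x190049903)) (.leaf (nat_lit 0x190049b02))))) (.node 4 (.node 2 (.node 1 (.leaf (nat_lit 0x190049c06)) (.leaf (nat_lit 0x190049d06))) (.node 1 (.leaf (nat_lit 0x190049e06)) (.leaf (nat_lit 0x190049f02)))) (.node 2 (.node 1 (.leaf (nat_lit 0x19004a002)) (.leaf (nat_lit 0x19004a101))) (.node 1 (.leaf (nat_lit 0x19004a103)) (.leaf (nat_lit 0x19004a200)))))) (.node 8 (.node 4 (.node 2 (.node 1 (.leaf (nat_lit 0x19004a304)) (.leaf (nat_lit 0x19004a402))) (.node 1 (.leaf (nat_lit 0x19004a501))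 (.leaf (nat_lit 0x19004a503)))) (.node 2 (.node 1 (.leaf (nat_lit 0x19004a601)) (.leaf (nat_lit 0x19004a603))) (.node 1 (.leaf (nat_lit 0x19004a700)) (.leaf (nat_lit 0x19004a703))))) (.node 4 (.node 2 (.node 1 (.leaf (nat_lit 0x19004a804)) (.leaf (nat_lit 0x19004ab03))) (.node 1 (.leaf (nat_lit 0x19004ac04)) (.leaf (nat_lit 0x19004b002)))) (.node 2 (.node 1 (.leaf (nat_lit 0x19004b101)) (.leaf (nat_lit 0x19004b103))) (.node 1 (.leaf (nat_lit 0x19004b200)) (.leaf (nat_lit 0x19004b203))))))))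

noncomputable def lvO0_11 : Tree :=
  .node 64 (.node 32 (.node 16 (.node 8 (.node 4 (.node 2 (.node 1 (.leaf (nat_lit 0x19004b304)) (.leaf (nat_lit 0x19004b503))) (.node 1 (.leaf (nat_lit 0x19004b602)) (.leaf (nat_lit 0x19004b604)))) (.node 2 (.node 1 (.leaf (nat_lit 0x19004b802)) (.leaf (nat_lit 0x19004b904))) (.node 1 (.leaf (nat_lit 0x19004bc04)) (.leaf (nat_lit 0x19004bc06))))) (.node 4 (.node 2 (.node 1 (.leaf (nat_lit 0x19004be07)) (.leaf (nat_lit 0x19004c006))) (.node 1 (.leaf (nat_lit 0x19004c502)) (.leaf (nat_lit 0x19004c703)))) (.node 2 (.node 1 (.leaf (nat_lit 0x19004c802)) (.leaf (nat_lit 0x19004c902))) (.node 1 (.leaf (nat_lit 0x19004ca01)) (.leaf (nat_lit 0x19004ca03)))))) (.node 8 (.node 4 (.node 2 (.node 1 (.leaf (nat_lit 0x19004cb02)) (.leaf (nat_lit 0x19004cc01))) (.node 1 (.leaf (nat_lit 0x19004cd00)) (.leaf (nat_lit 0x19004ce02)))) (.node 2 (.node 1 (.leaf (nat_lit 0x19004cf01)) (.leaf (nat_lit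 0x19004cf03))) (.node 1 (.leaf (nat_lit 0x19004d001)) (.leaf (nat_lit 0x19004d003))))) (.node 4 (.node 2 (.node 1 (.leaf (nat_lit 0x19004d100)) (.leaf (nat_lit 0x19004d103))) (.node 1 (.leaf (nat_lit 0x19004d204)) (.leaf (nat_lit 0x19004d300)))) (.node 2 (.node 1 (.leaf (nat_lit 0x19004d303)) (.leaf (nat_lit 0x19004d404))) (.node 1 (.leaf (nat_lit 0x19004d503)) (.leaf (nat_lit 0x19004d604))))))) (.node 16 (.node 8 (.node 4 (.node 2 (.node 1 (.leaf (nat_lit 0x19004d800)) (.leaf (nat_lit 0x19004d803))) (.node 1 (.leaf (nat_lit 0x19004d904)) (.leaf (nat_lit 0x19004da03)))) (.node 2 (.node 1 (.leaf (nat_lit 0x19004db02)) (.leaf (nat_lit 0x19004db04))) (.node 1 (.leaf (nat_lit 0x19004dd02)) (.leaf (nat_lit 0x19004dd04))))) (.node 4 (.node 2 (.node 1 (.leaf (nat_lit 0x19004e001)) (.leaf (nat_lit 0x19004e003))) (.node 1 (.leaf (nat_lit 0x19004e100)) (.leaf (nat_lit 0x19004e103)))) (.node 2 (.node 1 (.leaf (nat_lit 0x19004e204))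 (.leaf (nat_lit 0x19004e300))) (.node 1 (.leaf (nat_lit 0x19004e303)) (.leaf (nat_lit 0x19004e404)))))) (.node 8 (.node 4 (.node 2 (.node 1 (.leaf (nat_lit 0x19004e503)) (.leaf (nat_lit 0x19004e602))) (.node 1 (.leaf (nat_lit 0x19004e604)) (.leaf (nat_lit 0x19004e705)))) (.node 2 (.node 1 (.leaf (nat_lit 0x19004e803)) (.leaf (nat_lit 0x19004e902))) (.node 1 (.leaf (nat_lit 0x19004e904)) (.leaf (nat_lit 0x19004ea05))))) (.node 4 (.node 2 (.node 1 (.leaf (nat_lit 0x19004eb02)) (.leaf (nat_lit 0x19004eb04))) (.node 1 (.leaf (nat_lit 0x19004ec04)) (.leaf (nat_lit 0x19004ed05)))) (.node 2 (.node 1 (.leaf (nat_lit 0x19004ef03)) (.leaf (nat_lit 0x19004f105))) (.node 1 (.leaf (nat_lit 0x19004f202)) (.leaf (nat_lit 0x19004f204)))))))) (.node 32 (.node 16 (.node 8 (.node 4 (.node 2 (.node 1 (.leaf (nat_lit 0x19004f304)) (.leaf (nat_lit 0x19004f306))) (.node 1 (.leaf (nat_lit 0x19004f405)) (.leaf (nat_lit 0x19004f605)))) (.node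 2 (.node 1 (.leaf (nat_lit 0x19004f906)) (.leaf (nat_lit 0x19004fa07))) (.node 1 (.leaf (nat_lit 0x19004fd06)) (.leaf (nat_lit 0x19004fe07))))) (.node 4 (.node 2 (.node 1 (.leaf (nat_lit 0x190050102)) (.leaf (nat_lit 0x190050107))) (.node 1 (.leaf (nat_lit 0x190050304)) (.leaf (nat_lit 0x190050306)))) (.node 2 (.node 1 (.leaf (nat_lit 0x190050503)) (.leaf (nat_lit 0x1a0050602))) (.node 1 (.leaf (nat_lit 0x1a0050702)) (.leaf (nat_lit 0x1a0050801)))))) (.node 8 (.node 4 (.node 2 (.node 1 (.leaf (nat_lit 0x1a0050803)) (.leaf (nat_lit 0x1a0050902))) (.node 1 (.leaf (nat_lit 0x1a0050a02)) (.leaf (nat_lit 0x1a0050b02)))) (.node 2 (.node 1 (.leaf (nat_lit 0x1a0050c01)) (.leaf (nat_lit 0x1a0050c03))) (.node 1 (.leaf (nat_lit 0x1a0050d01)) (.leaf (nat_lit 0x1a0050d03))))) (.node 4 (.node 2 (.node 1 (.leaf (nat_lit 0x1a0050e00)) (.leaf (nat_lit 0x1a0050e03))) (.node 1 (.leaf (nat_lit 0x1a0050f04)) (.leaf (nat_lit 0x1a0051001))))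 (.node 2 (.node 1 (.leaf (nat_lit 0x1a0051003)) (.leaf (nat_lit 0x1a0051100))) (.node 1 (.leaf (nat_lit 0x1a0051103)) (.leaf (nat_lit 0x1a0051204))))))) (.node 16 (.node 8 (.node 4 (.node 2 (.node 1 (.leaf (nat_lit 0x1a0051303)) (.leaf (nat_lit 0x1a0051402))) (.node 1 (.leaf (nat_lit 0x1a0051404)) (.leaf (nat_lit 0x1a0051505)))) (.node 2 (.node 1 (.leaf (nat_lit 0x1a0051604)) (.leaf (nat_lit 0x1a0051606))) (.node 1 (.leaf (nat_lit 0x1a0051705)) (.leaf (nat_lit 0x1a0051901))))) (.node 4 (.node 2 (.node 1 (.leaf (nat_lit 0x1a0051903)) (.leaf (nat_lit 0x1a0051a01))) (.node 1 (.leaf (nat_lit 0x1a0051a03)) (.leaf (nat_lit 0x1a0051b01)))) (.node 2 (.node 1 (.leaf (nat_lit 0x1a0051b03)) (.leaf (nat_lit 0x1a0051c00))) (.node 1 (.leaf (nat_lit 0x1a0051c03)) (.leaf (nat_lit 0x1a0051d04)))))) (.node 8 (.node 4 (.node 2 (.node 1 (.leaf (nat_lit 0x1a0051e00)) (.leaf (nat_lit 0x1a0051e03))) (.node 1 (.leaf (nat_lit 0x1a0051f04))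 (.leaf (nat_lit 0x1a0052003)))) (.node 2 (.node 1 (.leaf (nat_lit 0x1a0052102)) (.leaf (nat_lit 0x1a0052104))) (.node 1 (.leaf (nat_lit 0x1a0052205)) (.leaf (nat_lit 0x1a0052300))))) (.node 4 (.node 2 (.node 1 (.leaf (nat_lit 0x1a0052303)) (.leaf (nat_lit 0x1a0052404))) (.node 1 (.leaf (nat_lit 0x1a0052503)) (.leaf (nat_lit 0x1a0052602)))) (.node 2 (.node 1 (.leaf (nat_lit 0x1a0052604)) (.leaf (nat_lit 0x1a0052705))) (.node 1 (.leaf (nat_lit 0x1a0052804)) (.leaf (nat_lit 0x1a0052905))))))))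

noncomputable def lvO0_12 : Tree :=
  .node 64 (.node 32 (.node 16 (.node 8 (.node 4 (.node 2 (.node 1 (.leaf (nat_lit 0x1a0052b03)) (.leaf (nat_lit 0x1a0052c02))) (.node 1 (.leaf (nat_lit 0x1a0052c04)) (.leaf (nat_lit 0x1a0052e02)))) (.node 2 (.node 1 (.leaf (nat_lit 0x1a0052f06)) (.leaf (nat_lit 0x1a0053002))) (.node 1 (.leaf (nat_lit 0x1a0053102)) (.leaf (nat_lit 0x1a0053202))))) (.node 4 (.node 2 (.node 1 (.leaf (nat_lit 0x1a0053301)) (.leaf (nat_lit 0x1a0053303))) (.node 1 (.leaf (nat_lit 0x1a0053402)) (.leaf (nat_lit 0x1a0053501)))) (.node 2 (.node 1 (.leaf (nat_lit 0x1a0053503)) (.leaf (nat_lit 0x1a0053600))) (.node 1 (.leaf (nat_lit 0x1a0053603)) (.leaf (nat_lit 0x1a0053704)))))) (.node 8 (.node 4 (.node 2 (.node 1 (.leaf (nat_lit 0x1a0053801)) (.leaf (nat_lit 0x1a0053803))) (.node 1 (.leaf (nat_lit 0x1a0053901)) (.leaf (nat_lit 0x1a0053903)))) (.node 2 (.node 1 (.leaf (nat_lit 0x1a0053a01)) (.leaf (nat_lit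 0x1a0053a03))) (.node 1 (.leaf (nat_lit 0x1a0053b00)) (.leaf (nat_lit 0x1a0053b03))))) (.node 4 (.node 2 (.node 1 (.leaf (nat_lit 0x1a0053c04)) (.leaf (nat_lit 0x1a0053d00))) (.node 1 (.leaf (nat_lit 0x1a0053d03)) (.leaf (nat_lit 0x1a0053e04)))) (.node 2 (.node 1 (.leaf (nat_lit 0x1a0053f03)) (.leaf (nat_lit 0x1a0054002))) (.node 1 (.leaf (nat_lit 0x1a0054004)) (.leaf (nat_lit 0x1a0054200))))))) (.node 16 (.node 8 (.node 4 (.node 2 (.node 1 (.leaf (nat_lit 0x1a0054203)) (.leaf (nat_lit 0x1a0054304))) (.node 1 (.leaf (nat_lit 0x1a0054403)) (.leaf (nat_lit 0x1a0054502)))) (.node 2 (.node 1 (.leaf (nat_lit 0x1a0054504)) (.leaf (nat_lit 0x1a0054702))) (.node 1 (.leaf (nat_lit 0x1a0054704)) (.leaf (nat_lit 0x1a0054a01))))) (.node 4 (.node 2 (.node 1 (.leaf (nat_lit 0x1a0054a03)) (.leaf (nat_lit 0x1a0054b01))) (.node 1 (.leaf (nat_lit 0x1a0054b03)) (.leaf (nat_lit 0x1a0054c00)))) (.node 2 (.node 1 (.leaf (nat_lit 0x1a0054c03))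 (.leaf (nat_lit 0x1a0054d04))) (.node 1 (.leaf (nat_lit 0x1a0054e01)) (.leaf (nat_lit 0x1a0054e03)))))) (.node 8 (.node 4 (.node 2 (.node 1 (.leaf (nat_lit 0x1a0054f00)) (.leaf (nat_lit 0x1a0054f03))) (.node 1 (.leaf (nat_lit 0x1a0055004)) (.leaf (nat_lit 0x1a0055100)))) (.node 2 (.node 1 (.leaf (nat_lit 0x1a0055103)) (.leaf (nat_lit 0x1a0055204))) (.node 1 (.leaf (nat_lit 0x1a0055303)) (.leaf (nat_lit 0x1a0055402))))) (.node 4 (.node 2 (.node 1 (.leaf (nat_lit 0x1a0055404)) (.leaf (nat_lit 0x1a0055505))) (.node 1 (.leaf (nat_lit 0x1a0055603)) (.leaf (nat_lit 0x1a0055702)))) (.node 2 (.node 1 (.leaf (nat_lit 0x1a0055704)) (.leaf (nat_lit 0x1a0055805))) (.node 1 (.leaf (nat_lit 0x1a0055902)) (.leaf (nat_lit 0x1a0055904)))))))) (.node 32 (.node 16 (.node 8 (.node 4 (.node 2 (.node 1 (.leaf (nat_lit 0x1a0055a04)) (.leaf (nat_lit 0x1a0055b05))) (.node 1 (.leaf (nat_lit 0x1a0055d03)) (.leaf (nat_lit 0x1a0055f05)))) (.node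 2 (.node 1 (.leaf (nat_lit 0x1a0056002)) (.leaf (nat_lit 0x1a0056004))) (.node 1 (.leaf (nat_lit 0x1a0056104)) (.leaf (nat_lit 0x1a0056106))))) (.node 4 (.node 2 (.node 1 (.leaf (nat_lit 0x1a0056205)) (.leaf (nat_lit 0x1a0056405))) (.node 1 (.leaf (nat_lit 0x1a0056706)) (.leaf (nat_lit 0x1a0056807)))) (.node 2 (.node 1 (.leaf (nat_lit 0x1a0056902)) (.leaf (nat_lit 0x1a0056a02))) (.node 1 (.leaf (nat_lit 0x1a0056b01)) (.leaf (nat_lit 0x1a0056b03)))))) (.node 8 (.node 4 (.node 2 (.node 1 (.leaf (nat_lit 0x1a0056c01)) (.leaf (nat_lit 0x1a0056c03))) (.node 1 (.leaf (nat_lit 0x1a0056d00)) (.leaf (nat_lit 0x1a0056d03)))) (.node 2 (.node 1 (.leaf (nat_lit 0x1a0056e04)) (.leaf (nat_lit 0x1a0057101))) (.node 1 (.leaf (nat_lit 0x1a0057103)) (.leaf (nat_lit 0x1a0057200))))) (.node 4 (.node 2 (.node 1 (.leaf (nat_lit 0x1a0057203)) (.leaf (nat_lit 0x1a0057304))) (.node 1 (.leaf (nat_lit 0x1a0057403)) (.leaf (nat_lit 0x1a0057504))))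 (.node 2 (.node 1 (.leaf (nat_lit 0x1a0057702)) (.leaf (nat_lit 0x1a0057b01))) (.node 1 (.leaf (nat_lit 0x1a0057b03)) (.leaf (nat_lit 0x1a0057c00))))))) (.node 16 (.node 8 (.node 4 (.node 2 (.node 1 (.leaf (nat_lit 0x1a0057c03)) (.leaf (nat_lit 0x1a0057e03))) (.node 1 (.leaf (nat_lit 0x1a0057f02)) (.leaf (nat_lit 0x1a0057f04)))) (.node 2 (.node 1 (.leaf (nat_lit 0x1a0058005)) (.leaf (nat_lit 0x1a0058204))) (.node 1 (.leaf (nat_lit 0x1a0058206)) (.leaf (nat_lit 0x1a0058503))))) (.node 4 (.node 2 (.node 1 (.leaf (nat_lit 0x1a0058606)) (.leaf (nat_lit 0x1a0058707))) (.node 1 (.leaf (nat_lit 0x1a0058a03)) (.leaf (nat_lit 0x1a0058c01)))) (.node 2 (.node 1 (.leaf (nat_lit 0x1a0058c03)) (.leaf (nat_lit 0x1a0058d01))) (.node 1 (.leaf (nat_lit 0x1a0058d03)) (.leaf (nat_lit 0x1a0058e00)))))) (.node 8 (.node 4 (.node 2 (.node 1 (.leaf (nat_lit 0x1a0058e03)) (.leaf (nat_lit 0x1a0059001))) (.node 1 (.leaf (nat_lit 0x1a0059100))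 (.leaf (nat_lit 0x1a0059301)))) (.node 2 (.node 1 (.leaf (nat_lit 0x1a0059303)) (.leaf (nat_lit 0x1a0059400))) (.node 1 (.leaf (nat_lit 0x1a0059403)) (.leaf (nat_lit 0x1a0059504))))) (.node 4 (.node 2 (.node 1 (.leaf (nat_lit 0x1a0059600)) (.leaf (nat_lit 0x1a0059603))) (.node 1 (.leaf (nat_lit 0x1a0059704)) (.leaf (nat_lit 0x1a0059803)))) (.node 2 (.node 1 (.leaf (nat_lit 0x1a0059902)) (.leaf (nat_lit 0x1a0059904))) (.node 1 (.leaf (nat_lit 0x1a0059b03)) (.leaf (nat_lit 0x1a0059c04))))))))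

noncomputable def lvO0_13 : Tree :=
  .node 64 (.node 32 (.node 16 (.node 8 (.node 4 (.node 2 (.node 1 (.leaf (nat_lit 0x1a0059e04)) (.leaf (nat_lit 0x1a005a003))) (.node 1 (.leaf (nat_lit 0x1a005a102)) (.leaf (nat_lit 0x1a005a104)))) (.node 2 (.node 1 (.leaf (nat_lit 0x1a005a302)) (.leaf (nat_lit 0x1a005a304))) (.node 1 (.leaf (nat_lit 0x1a005a406)) (.leaf (nat_lit 0x1a005a800))))) (.node 4 (.node 2 (.node 1 (.leaf (nat_lit 0x1a005a803)) (.leaf (nat_lit 0x1a005a904))) (.node 1 (.leaf (nat_lit 0x1a005aa03)) (.leaf (nat_lit 0x1a005ab02)))) (.node 2 (.node 1 (.leaf (nat_lit 0x1a005ac05)) (.leaf (nat_lit 0x1a005ad03))) (.node 1 (.leaf (nat_lit 0x1a005ae02)) (.leaf (nat_lit 0x1a005ae04)))))) (.node 8 (.node 4 (.node 2 (.node 1 (.leaf (nat_lit 0x1a005af05)) (.leaf (nat_lit 0x1a005b002))) (.node 1 (.leaf (nat_lit 0x1a005b004)) (.leaf (nat_lit 0x1a005b104)))) (.node 2 (.node 1 (.leaf (nat_lit 0x1a005b106)) (.leaf (nat_lit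 0x1a005b205))) (.node 1 (.leaf (nat_lit 0x1a005b402)) (.leaf (nat_lit 0x1a005b404))))) (.node 4 (.node 2 (.node 1 (.leaf (nat_lit 0x1a005b504)) (.leaf (nat_lit 0x1a005b506))) (.node 1 (.leaf (nat_lit 0x1a005b605)) (.leaf (nat_lit 0x1a005b804)))) (.node 2 (.node 1 (.leaf (nat_lit 0x1a005b905)) (.leaf (nat_lit 0x1a005ba03))) (.node 1 (.leaf (nat_lit 0x1a005ba05)) (.leaf (nat_lit 0x1a005be01))))))) (.node 16 (.node 8 (.node 4 (.node 2 (.node 1 (.leaf (nat_lit 0x1a005be04)) (.leaf (nat_lit 0x1a005be06))) (.node 1 (.leaf (nat_lit 0x1a005c006)) (.leaf (nat_lit 0x1a005c107)))) (.node 2 (.node 1 (.leaf (nat_lit 0x1a005c407)) (.leaf (nat_lit 0x1a005c607))) (.node 1 (.leaf (nat_lit 0x1a005c803)) (.leaf (nat_lit 0x1a005c807))))) (.node 4 (.node 2 (.node 1 (.leaf (nat_lit 0x1a005ca03)) (.leaf (nat_lit 0x1a005ca06))) (.node 1 (.leaf (nat_lit 0x1b005cd01)) (.leaf (nat_lit 0x1b005cd03)))) (.node 2 (.node 1 (.leaf (nat_lit 0x1b005ce01))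 (.leaf (nat_lit 0x1b005ce03))) (.node 1 (.leaf (nat_lit 0x1b005cf00)) (.leaf (nat_lit 0x1b005cf03)))))) (.node 8 (.node 4 (.node 2 (.node 1 (.leaf (nat_lit 0x1b005d004)) (.leaf (nat_lit 0x1b005d101))) (.node 1 (.leaf (nat_lit 0x1b005d103)) (.leaf (nat_lit 0x1b005d201)))) (.node 2 (.node 1 (.leaf (nat_lit 0x1b005d203)) (.leaf (nat_lit 0x1b005d301))) (.node 1 (.leaf (nat_lit 0x1b005d303)) (.leaf (nat_lit 0x1b005d400))))) (.node 4 (.node 2 (.node 1 (.leaf (nat_lit 0x1b005d403)) (.leaf (nat_lit 0x1b005d504))) (.node 1 (.leaf (nat_lit 0x1b005d600)) (.leaf (nat_lit 0x1b005d603)))) (.node 2 (.node 1 (.leaf (nat_lit 0x1b005d704)) (.leaf (nat_lit 0x1b005d803))) (.node 1 (.leaf (nat_lit 0x1b005d902)) (.leaf (nat_lit 0x1b005d904)))))))) (.node 32 (.node 16 (.node 8 (.node 4 (.node 2 (.node 1 (.leaf (nat_lit 0x1b005da05)) (.leaf (nat_lit 0x1b005db00))) (.node 1 (.leaf (nat_lit 0x1b005db03)) (.leaf (nat_lit 0x1b005dc04)))) (.node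 2 (.node 1 (.leaf (nat_lit 0x1b005dd03)) (.leaf (nat_lit 0x1b005de02))) (.node 1 (.leaf (nat_lit 0x1b005de04)) (.leaf (nat_lit 0x1b005df05))))) (.node 4 (.node 2 (.node 1 (.leaf (nat_lit 0x1b005e002)) (.leaf (nat_lit 0x1b005e004))) (.node 1 (.leaf (nat_lit 0x1b005e104)) (.leaf (nat_lit 0x1b005e106)))) (.node 2 (.node 1 (.leaf (nat_lit 0x1b005e205)) (.leaf (nat_lit 0x1b005e403))) (.node 1 (.leaf (nat_lit 0x1b005e405)) (.leaf (nat_lit 0x1b005e406)))))) (.node 8 (.node 4 (.node 2 (.node 1 (.leaf (nat_lit 0x1b005e507)) (.leaf (nat_lit 0x1b005e700))) (.node 1 (.leaf (nat_lit 0x1b005e703)) (.leaf (nat_lit 0x1b005e804)))) (.node 2 (.node 1 (.leaf (nat_lit 0x1b005e900)) (.leaf (nat_lit 0x1b005e903))) (.node 1 (.leaf (nat_lit 0x1b005ea04)) (.leaf (nat_lit 0x1b005eb00))))) (.node 4 (.node 2 (.node 1 (.leaf (nat_lit 0x1b005eb03)) (.leaf (nat_lit 0x1b005ec04))) (.node 1 (.leaf (nat_lit 0x1b005ed03)) (.leaf (nat_lit 0x1b005ee02))))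 (.node 2 (.node 1 (.leaf (nat_lit 0x1b005ee04)) (.leaf (nat_lit 0x1b005ef05))) (.node 1 (.leaf (nat_lit 0x1b005f003)) (.leaf (nat_lit 0x1b005f102))))))) (.node 16 (.node 8 (.node 4 (.node 2 (.node 1 (.leaf (nat_lit 0x1b005f104)) (.leaf (nat_lit 0x1b005f205))) (.node 1 (.leaf (nat_lit 0x1b005f302)) (.leaf (nat_lit 0x1b005f304)))) (.node 2 (.node 1 (.leaf (nat_lit 0x1b005f404)) (.leaf (nat_lit 0x1b005f505))) (.node 1 (.leaf (nat_lit 0x1b005f703)) (.leaf (nat_lit 0x1b005f802))))) (.node 4 (.node 2 (.node 1 (.leaf (nat_lit 0x1b005f804)) (.leaf (nat_lit 0x1b005f905))) (.node 1 (.leaf (nat_lit 0x1b005fa02)) (.leaf (nat_lit 0x1b005fa04)))) (.node 2 (.node 1 (.leaf (nat_lit 0x1b005fb04)) (.leaf (nat_lit 0x1b005fb06))) (.node 1 (.leaf (nat_lit 0x1b005fc05)) (.leaf (nat_lit 0x1b005fe05)))))) (.node 8 (.node 4 (.node 2 (.node 1 (.leaf (nat_lit 0x1b0060002)) (.leaf (nat_lit 0x1b0060004))) (.node 1 (.leaf (nat_lit 0x1b0060104))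 (.leaf (nat_lit 0x1b0060106)))) (.node 2 (.node 1 (.leaf (nat_lit 0x1b0060301)) (.leaf (nat_lit 0x1b0060306))) (.node 1 (.leaf (nat_lit 0x1b0060407)) (.leaf (nat_lit 0x1b0060501))))) (.node 4 (.node 2 (.node 1 (.leaf (nat_lit 0x1b0060503)) (.leaf (nat_lit 0x1b0060601))) (.node 1 (.leaf (nat_lit 0x1b0060603)) (.leaf (nat_lit 0x1b0060701)))) (.node 2 (.node 1 (.leaf (nat_lit 0x1b0060703)) (.leaf (nat_lit 0x1b0060800))) (.node 1 (.leaf (nat_lit 0x1b0060803)) (.leaf (nat_lit 0x1b0060904))))))))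

noncomputable def lvO0_14 : Tree :=
  .node 64 (.node 32 (.node 16 (.node 8 (.node 4 (.node 2 (.node 1 (.leaf (nat_lit 0x1b0060a01)) (.leaf (nat_lit 0x1b0060a03))) (.node 1 (.leaf (nat_lit 0x1b0060b00)) (.leaf (nat_lit 0x1b0060b03)))) (.node 2 (.node 1 (.leaf (nat_lit 0x1b0060c04)) (.leaf (nat_lit 0x1b0060d03))) (.node 1 (.leaf (nat_lit 0x1b0060e02)) (.leaf (nat_lit 0x1b0060e04))))) (.node 4 (.node 2 (.node 1 (.leaf (nat_lit 0x1b0060f05)) (.leaf (nat_lit 0x1b0061000))) (.node 1 (.leaf (nat_lit 0x1b0061003)) (.leaf (nat_lit 0x1b0061104)))) (.node 2 (.node 1 (.leaf (nat_lit 0x1b0061200)) (.leaf (nat_lit 0x1b0061203))) (.node 1 (.leaf (nat_lit 0x1b0061304)) (.leaf (nat_lit 0x1b0061400)))))) (.node 8 (.node 4 (.node 2 (.node 1 (.leaf (nat_lit 0x1b0061403)) (.leaf (nat_lit 0x1b0061504))) (.node 1 (.leaf (nat_lit 0x1b0061603)) (.leaf (nat_lit 0x1b0061702)))) (.node 2 (.node 1 (.leaf (nat_lit 0x1b0061704)) (.leaf (nat_lit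 0x1b0061903))) (.node 1 (.leaf (nat_lit 0x1b0061a02)) (.leaf (nat_lit 0x1b0061a04))))) (.node 4 (.node 2 (.node 1 (.leaf (nat_lit 0x1b0061c02)) (.leaf (nat_lit 0x1b0061c04))) (.node 1 (.leaf (nat_lit 0x1b0061f03)) (.leaf (nat_lit 0x1b0062002)))) (.node 2 (.node 1 (.leaf (nat_lit 0x1b0062004)) (.leaf (nat_lit 0x1b0062202))) (.node 1 (.leaf (nat_lit 0x1b0062204)) (.leaf (nat_lit 0x1b0062306))))))) (.node 16 (.node 8 (.node 4 (.node 2 (.node 1 (.leaf (nat_lit 0x1b0062700)) (.leaf (nat_lit 0x1b0062703))) (.node 1 (.leaf (nat_lit 0x1b0062804)) (.leaf (nat_lit 0x1b0062900)))) (.node 2 (.node 1 (.leaf (nat_lit 0x1b0062903)) (.leaf (nat_lit 0x1b0062a04))) (.node 1 (.leaf (nat_lit 0x1b0062b03)) (.leaf (nat_lit 0x1b0062c02))))) (.node 4 (.node 2 (.node 1 (.leaf (nat_lit 0x1b0062c04)) (.leaf (nat_lit 0x1b0062d05))) (.node 1 (.leaf (nat_lit 0x1b0062e00)) (.leaf (nat_lit 0x1b0062e03)))) (.node 2 (.node 1 (.leaf (nat_lit 0x1b0062f04))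 (.leaf (nat_lit 0x1b0063003))) (.node 1 (.leaf (nat_lit 0x1b0063102)) (.leaf (nat_lit 0x1b0063205)))))) (.node 8 (.node 4 (.node 2 (.node 1 (.leaf (nat_lit 0x1b0063303)) (.leaf (nat_lit 0x1b0063402))) (.node 1 (.leaf (nat_lit 0x1b0063404)) (.leaf (nat_lit 0x1b0063505)))) (.node 2 (.node 1 (.leaf (nat_lit 0x1b0063602)) (.leaf (nat_lit 0x1b0063604))) (.node 1 (.leaf (nat_lit 0x1b0063704)) (.leaf (nat_lit 0x1b0063706))))) (.node 4 (.node 2 (.node 1 (.leaf (nat_lit 0x1b0063805)) (.leaf (nat_lit 0x1b0063a02))) (.node 1 (.leaf (nat_lit 0x1b0063a04)) (.leaf (nat_lit 0x1b0063b04)))) (.node 2 (.node 1 (.leaf (nat_lit 0x1b0063b06)) (.leaf (nat_lit 0x1b0063c05))) (.node 1 (.leaf (nat_lit 0x1b0063e01)) (.leaf (nat_lit 0x1b0063e04)))))))) (.node 32 (.node 16 (.node 8 (.node 4 (.node 2 (.node 1 (.leaf (nat_lit 0x1b0063f05)) (.leaf (nat_lit 0x1b0064003))) (.node 1 (.leaf (nat_lit 0x1b0064005)) (.leaf (nat_lit 0x1b0064401)))) (.node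 2 (.node 1 (.leaf (nat_lit 0x1b0064404)) (.leaf (nat_lit 0x1b0064406))) (.node 1 (.leaf (nat_lit 0x1b0064606)) (.leaf (nat_lit 0x1b0064707))))) (.node 4 (.node 2 (.node 1 (.leaf (nat_lit 0x1b0064a07)) (.leaf (nat_lit 0x1b0064c01))) (.node 1 (.leaf (nat_lit 0x1b0064c03)) (.leaf (nat_lit 0x1b0064d01)))) (.node 2 (.node 1 (.leaf (nat_lit 0x1b0064d03)) (.leaf (nat_lit 0x1b0064e00))) (.node 1 (.leaf (nat_lit 0x1b0064e03)) (.leaf (nat_lit 0x1b0064f04)))))) (.node 8 (.node 4 (.node 2 (.node 1 (.leaf (nat_lit 0x1b0065003)) (.leaf (nat_lit 0x1b0065203))) (.node 1 (.leaf (nat_lit 0x1b0065302)) (.leaf (nat_lit 0x1b0065500)))) (.node 2 (.node 1 (.leaf (nat_lit 0x1b0065503)) (.leaf (nat_lit 0x1b0065604))) (.node 1 (.leaf (nat_lit 0x1b0065703)) (.leaf (nat_lit 0x1b0065802))))) (.node 4 (.node 2 (.node 1 (.leaf (nat_lit 0x1b0065804)) (.leaf (nat_lit 0x1b0065a02))) (.node 1 (.leaf (nat_lit 0x1b0065d00)) (.leaf (nat_lit 0x1b0065d03))))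 (.node 2 (.node 1 (.leaf (nat_lit 0x1b0065f03)) (.leaf (nat_lit 0x1b0066102))) (.node 1 (.leaf (nat_lit 0x1b0066104)) (.leaf (nat_lit 0x1b0066204))))))) (.node 16 (.node 8 (.node 4 (.node 2 (.node 1 (.leaf (nat_lit 0x1b0066206)) (.leaf (nat_lit 0x1b0066305))) (.node 1 (.leaf (nat_lit 0x1b0066503)) (.leaf (nat_lit 0x1b0066506)))) (.node 2 (.node 1 (.leaf (nat_lit 0x1b0066607)) (.leaf (nat_lit 0x1b0066807))) (.node 1 (.leaf (nat_lit 0x1b0066b00)) (.leaf (nat_lit 0x1b0066b03))))) (.node 4 (.node 2 (.node 1 (.leaf (nat_lit 0x1b0066c04)) (.leaf (nat_lit 0x1b0066d00))) (.node 1 (.leaf (nat_lit 0x1b0066d03)) (.leaf (nat_lit 0x1b0066f03)))) (.node 2 (.node 1 (.leaf (nat_lit 0x1b0067002)) (.leaf (nat_lit 0x1b0067100))) (.node 1 (.leaf (nat_lit 0x1b0067300)) (.leaf (nat_lit 0x1b0067303)))))) (.node 8 (.node 4 (.node 2 (.node 1 (.leaf (nat_lit 0x1b0067404)) (.leaf (nat_lit 0x1b0067503))) (.node 1 (.leaf (nat_lit 0x1b0067602))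 (.leaf (nat_lit 0x1b0067604)))) (.node 2 (.node 1 (.leaf (nat_lit 0x1b0067803)) (.leaf (nat_lit 0x1b0067902))) (.node 1 (.leaf (nat_lit 0x1b0067904)) (.leaf (nat_lit 0x1b0067b02))))) (.node 4 (.node 2 (.node 1 (.leaf (nat_lit 0x1b0067b04)) (.leaf (nat_lit 0x1b0067c04))) (.node 1 (.leaf (nat_lit 0x1b0067c06)) (.leaf (nat_lit 0x1b0067e04)))) (.node 2 (.node 1 (.leaf (nat_lit 0x1b0068102)) (.leaf (nat_lit 0x1b0068104))) (.node 1 (.leaf (nat_lit 0x1b0068206)) (.leaf (nat_lit 0x1b0068406))))))))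

noncomputable def lvO0_15 : Tree :=
  .node 64 (.node 32 (.node 16 (.node 8 (.node 4 (.node 2 (.node 1 (.leaf (nat_lit 0x1b0068607)) (.leaf (nat_lit 0x1b0068703))) (.node 1 (.leaf (nat_lit 0x1b0068802)) (.leaf (nat_lit 0x1b0068905)))) (.node 2 (.node 1 (.leaf (nat_lit 0x1b0068a02)) (.leaf (nat_lit 0x1b0068d02))) (.node 1 (.leaf (nat_lit 0x1b0068d04)) (.leaf (nat_lit 0x1b0068e04))))) (.node 4 (.node 2 (.node 1 (.leaf (nat_lit 0x1b0068e06)) (.leaf (nat_lit 0x1b0068f05))) (.node 1 (.leaf (nat_lit 0x1b0069101)) (.leaf (nat_lit 0x1b0069104)))) (.node 2 (.node 1 (.leaf (nat_lit 0x1b0069106)) (.leaf (nat_lit 0x1b0069205))) (.node 1 (.leaf (nat_lit 0x1b0069303)) (.leaf (nat_lit 0x1b0069305)))))) (.node 8 (.node 4 (.node 2 (.node 1 (.leaf (nat_lit 0x1b0069306)) (.leaf (nat_lit 0x1b0069407))) (.node 1 (.leaf (nat_lit 0x1b0069604)) (.leaf (nat_lit 0x1b0069606)))) (.node 2 (.node 1 (.leaf (nat_lit 0x1b0069705)) (.leaf (nat_lit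 0x1b0069803))) (.node 1 (.leaf (nat_lit 0x1b0069805)) (.leaf (nat_lit 0x1b0069806))))) (.node 4 (.node 2 (.node 1 (.leaf (nat_lit 0x1b0069b03)) (.leaf (nat_lit 0x1b0069b05))) (.node 1 (.leaf (nat_lit 0x1b0069d05)) (.leaf (nat_lit 0x1b006a006)))) (.node 2 (.node 1 (.leaf (nat_lit 0x1b006a107)) (.leaf (nat_lit 0x1b006a207))) (.node 1 (.leaf (nat_lit 0x1c006aa00)) (.leaf (nat_lit 0x1c006aa03))))))) (.node 16 (.node 8 (.node 4 (.node 2 (.node 1 (.leaf (nat_lit 0x1c006ab04)) (.leaf (nat_lit 0x1c006ac00))) (.node 1 (.leaf (nat_lit 0x1c006ac03)) (.leaf (nat_lit 0x1c006ad04)))) (.node 2 (.node 1 (.leaf (nat_lit 0x1c006ae03)) (.leaf (nat_lit 0x1c006af02))) (.node 1 (.leaf (nat_lit 0x1c006af04)) (.leaf (nat_lit 0x1c006b005))))) (.node 4 (.node 2 (.node 1 (.leaf (nat_lit 0x1c006b100)) (.leaf (nat_lit 0x1c006b103))) (.node 1 (.leaf (nat_lit 0x1c006b204)) (.leaf (nat_lit 0x1c006b300)))) (.node 2 (.node 1 (.leaf (nat_lit 0x1c006b303))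 (.leaf (nat_lit 0x1c006b404))) (.node 1 (.leaf (nat_lit 0x1c006b500)) (.leaf (nat_lit 0x1c006b503)))))) (.node 8 (.node 4 (.node 2 (.node 1 (.leaf (nat_lit 0x1c006b604)) (.leaf (nat_lit 0x1c006b703))) (.node 1 (.leaf (nat_lit 0x1c006b802)) (.leaf (nat_lit 0x1c006b804)))) (.node 2 (.node 1 (.leaf (nat_lit 0x1c006b905)) (.leaf (nat_lit 0x1c006ba03))) (.node 1 (.leaf (nat_lit 0x1c006bb02)) (.leaf (nat_lit 0x1c006bb04))))) (.node 4 (.node 2 (.node 1 (.leaf (nat_lit 0x1c006bc05)) (.leaf (nat_lit 0x1c006bd02))) (.node 1 (.leaf (nat_lit 0x1c006bd04)) (.leaf (nat_lit 0x1c006be04)))) (.node 2 (.node 1 (.leaf (nat_lit 0x1c006be06)) (.leaf (nat_lit 0x1c006bf05))) (.node 1 (.leaf (nat_lit 0x1c006c103)) (.leaf (nat_lit 0x1c006c202)))))))) (.node 32 (.node 16 (.node 8 (.node 4 (.node 2 (.node 1 (.leaf (nat_lit 0x1c006c204)) (.leaf (nat_lit 0x1c006c305))) (.node 1 (.leaf (nat_lit 0x1c006c402)) (.leaf (nat_lit 0x1c006c404)))) (.node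 2 (.node 1 (.leaf (nat_lit 0x1c006c504)) (.leaf (nat_lit 0x1c006c506))) (.node 1 (.leaf (nat_lit 0x1c006c605)) (.leaf (nat_lit 0x1c006c804))))) (.node 4 (.node 2 (.node 1 (.leaf (nat_lit 0x1c006c806)) (.leaf (nat_lit 0x1c006c905))) (.node 1 (.leaf (nat_lit 0x1c006ca03)) (.leaf (nat_lit 0x1c006ca05)))) (.node 2 (.node 1 (.leaf (nat_lit 0x1c006ca06)) (.leaf (nat_lit 0x1c006cb07))) (.node 1 (.leaf (nat_lit 0x1c006d103)) (.leaf (nat_lit 0x1c006d202)))))) (.node 8 (.node 4 (.node 2 (.node 1 (.leaf (nat_lit 0x1c006d204)) (.leaf (nat_lit 0x1c006d305))) (.node 1 (.leaf (nat_lit 0x1c006d403)) (.leaf (nat_lit 0x1c006d502)))) (.node 2 (.node 1 (.leaf (nat_lit 0x1c006d504)) (.leaf (nat_lit 0x1c006d605))) (.node 1 (.leaf (nat_lit 0x1c006d703)) (.leaf (nat_lit 0x1c006d802))))) (.node 4 (.node 2 (.node 1 (.leaf (nat_lit 0x1c006d804)) (.leaf (nat_lit 0x1c006d905))) (.node 1 (.leaf (nat_lit 0x1c006da02)) (.leaf (nat_lit 0x1c006da04))))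 (.node 2 (.node 1 (.leaf (nat_lit 0x1c006db04)) (.leaf (nat_lit 0x1c006db06))) (.node 1 (.leaf (nat_lit 0x1c006dc05)) (.leaf (nat_lit 0x1c006de02))))))) (.node 16 (.node 8 (.node 4 (.node 2 (.node 1 (.leaf (nat_lit 0x1c006de04)) (.leaf (nat_lit 0x1c006df04))) (.node 1 (.leaf (nat_lit 0x1c006df06)) (.leaf (nat_lit 0x1c006e005)))) (.node 2 (.node 1 (.leaf (nat_lit 0x1c006e201)) (.leaf (nat_lit 0x1c006e204))) (.node 1 (.leaf (nat_lit 0x1c006e305)) (.leaf (nat_lit 0x1c006e403))))) (.node 4 (.node 2 (.node 1 (.leaf (nat_lit 0x1c006e405)) (.leaf (nat_lit 0x1c006e602))) (.node 1 (.leaf (nat_lit 0x1c006e604)) (.leaf (nat_lit 0x1c006e704)))) (.node 2 (.node 1 (.leaf (nat_lit 0x1c006e706)) (.leaf (nat_lit 0x1c006e805))) (.node 1 (.leaf (nat_lit 0x1c006ea01)) (.leaf (nat_lit 0x1c006ea04)))))) (.node 8 (.node 4 (.node 2 (.node 1 (.leaf (nat_lit 0x1c006ea06)) (.leaf (nat_lit 0x1c006eb05))) (.node 1 (.leaf (nat_lit 0x1c006ec05))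 (.leaf (nat_lit 0x1c006ec06)))) (.node 2 (.node 1 (.leaf (nat_lit 0x1c006ed07)) (.leaf (nat_lit 0x1c006f001))) (.node 1 (.leaf (nat_lit 0x1c006f004)) (.leaf (nat_lit 0x1c006f006))))) (.node 4 (.node 2 (.node 1 (.leaf (nat_lit 0x1c006f203)) (.leaf (nat_lit 0x1c006f307))) (.node 1 (.leaf (nat_lit 0x1c006f406)) (.leaf (nat_lit 0x1c006f507)))) (.node 2 (.node 1 (.leaf (nat_lit 0x1c006f700)) (.leaf (nat_lit 0x1c006f703))) (.node 1 (.leaf (nat_lit 0x1c006f804)) (.leaf (nat_lit 0x1c006f900))))))))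

noncomputable def lvO0_16 : Tree :=
  .node 64 (.node 32 (.node 16 (.node 8 (.node 4 (.node 2 (.node 1 (.leaf (nat_lit 0x1c006f903)) (.leaf (nat_lit 0x1c006fa04))) (.node 1 (.leaf (nat_lit 0x1c006fb00)) (.leaf (nat_lit 0x1c006fb03)))) (.node 2 (.node 1 (.leaf (nat_lit 0x1c006fc04)) (.leaf (nat_lit 0x1c006fd03))) (.node 1 (.leaf (nat_lit 0x1c006fe02)) (.leaf (nat_lit 0x1c006fe04))))) (.node 4 (.node 2 (.node 1 (.leaf (nat_lit 0x1c006ff05)) (.leaf (nat_lit 0x1c0070000))) (.node 1 (.leaf (nat_lit 0x1c0070003)) (.leaf (nat_lit 0x1c0070104)))) (.node 2 (.node 1 (.leaf (nat_lit 0x1c0070203)) (.leaf (nat_lit 0x1c0070302))) (.node 1 (.leaf (nat_lit 0x1c0070304)) (.leaf (nat_lit 0x1c0070405)))))) (.node 8 (.node 4 (.node 2 (.node 1 (.leaf (nat_lit 0x1c0070502)) (.leaf (nat_lit 0x1c0070504))) (.node 1 (.leaf (nat_lit 0x1c0070604)) (.leaf (nat_lit 0x1c0070705)))) (.node 2 (.node 1 (.leaf (nat_lit 0x1c0070903)) (.leaf (nat_lit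 0x1c0070a02))) (.node 1 (.leaf (nat_lit 0x1c0070a04)) (.leaf (nat_lit 0x1c0070c03))))) (.node 4 (.node 2 (.node 1 (.leaf (nat_lit 0x1c0070d02)) (.leaf (nat_lit 0x1c0070d04))) (.node 1 (.leaf (nat_lit 0x1c0070f03)) (.leaf (nat_lit 0x1c0071002)))) (.node 2 (.node 1 (.leaf (nat_lit 0x1c0071004)) (.leaf (nat_lit 0x1c0071202))) (.node 1 (.leaf (nat_lit 0x1c0071204)) (.leaf (nat_lit 0x1c0071304))))))) (.node 16 (.node 8 (.node 4 (.node 2 (.node 1 (.leaf (nat_lit 0x1c0071306)) (.leaf (nat_lit 0x1c0071502))) (.node 1 (.leaf (nat_lit 0x1c0071504)) (.leaf (nat_lit 0x1c0071801)))) (.node 2 (.node 1 (.leaf (nat_lit 0x1c0071a02)) (.leaf (nat_lit 0x1c0071a04))) (.node 1 (.leaf (nat_lit 0x1c0071b06)) (.leaf (nat_lit 0x1c0071d06))))) (.node 4 (.node 2 (.node 1 (.leaf (nat_lit 0x1c0071f07)) (.leaf (nat_lit 0x1c0072003))) (.node 1 (.leaf (nat_lit 0x1c0072102)) (.leaf (nat_lit 0x1c0072104)))) (.node 2 (.node 1 (.leaf (nat_lit 0x1c0072205))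 (.leaf (nat_lit 0x1c0072303))) (.node 1 (.leaf (nat_lit 0x1c0072402)) (.leaf (nat_lit 0x1c0072404)))))) (.node 8 (.node 4 (.node 2 (.node 1 (.leaf (nat_lit 0x1c0072505)) (.leaf (nat_lit 0x1c0072602))) (.node 1 (.leaf (nat_lit 0x1c0072604)) (.leaf (nat_lit 0x1c0072704)))) (.node 2 (.node 1 (.leaf (nat_lit 0x1c0072706)) (.leaf (nat_lit 0x1c0072805))) (.node 1 (.leaf (nat_lit 0x1c0072a03)) (.leaf (nat_lit 0x1c0072b02))))) (.node 4 (.node 2 (.node 1 (.leaf (nat_lit 0x1c0072c05)) (.leaf (nat_lit 0x1c0072d02))) (.node 1 (.leaf (nat_lit 0x1c0073002)) (.leaf (nat_lit 0x1c0073004)))) (.node 2 (.node 1 (.leaf (nat_lit 0x1c0073104)) (.leaf (nat_lit 0x1c0073106))) (.node 1 (.leaf (nat_lit 0x1c0073205)) (.leaf (nat_lit 0x1c0073401)))))))) (.node 32 (.node 16 (.node 8 (.node 4 (.node 2 (.node 1 (.leaf (nat_lit 0x1c0073404)) (.leaf (nat_lit 0x1c0073406))) (.node 1 (.leaf (nat_lit 0x1c0073505)) (.leaf (nat_lit 0x1c0073603)))) (.node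 2 (.node 1 (.leaf (nat_lit 0x1c0073605)) (.leaf (nat_lit 0x1c0073606))) (.node 1 (.leaf (nat_lit 0x1c0073707)) (.leaf (nat_lit 0x1c0073901))))) (.node 4 (.node 2 (.node 1 (.leaf (nat_lit 0x1c0073904)) (.leaf (nat_lit 0x1c0073906))) (.node 1 (.leaf (nat_lit 0x1c0073a05)) (.leaf (nat_lit 0x1c0073b03)))) (.node 2 (.node 1 (.leaf (nat_lit 0x1c0073b05)) (.leaf (nat_lit 0x1c0073b06))) (.node 1 (.leaf (nat_lit 0x1c0073e04)) (.leaf (nat_lit 0x1c0073f03)))))) (.node 8 (.node 4 (.node 2 (.node 1 (.leaf (nat_lit 0x1c0073f05)) (.leaf (nat_lit 0x1c0074105))) (.node 1 (.leaf (nat_lit 0x1c0074406)) (.leaf (nat_lit 0x1c0074507)))) (.node 2 (.node 1 (.leaf (nat_lit 0x1c0074607)) (.leaf (nat_lit 0x1c0074900))) (.node 1 (.leaf (nat_lit 0x1c0074903)) (.leaf (nat_lit 0x1c0074a04))))) (.node 4 (.node 2 (.node 1 (.leaf (nat_lit 0x1c0074b00)) (.leaf (nat_lit 0x1c0074b03))) (.node 1 (.leaf (nat_lit 0x1c0074d03)) (.leaf (nat_lit 0x1c0074e02))))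 (.node 2 (.node 1 (.leaf (nat_lit 0x1c0074e04)) (.leaf (nat_lit 0x1c0075002))) (.node 1 (.leaf (nat_lit 0x1c0075303)) (.leaf (nat_lit 0x1c0075402))))))) (.node 16 (.node 8 (.node 4 (.node 2 (.node 1 (.leaf (nat_lit 0x1c0075404)) (.leaf (nat_lit 0x1c0075602))) (.node 1 (.leaf (nat_lit 0x1c0075604)) (.leaf (nat_lit 0x1c0075a03)))) (.node 2 (.node 1 (.leaf (nat_lit 0x1c0075d01)) (.leaf (nat_lit 0x1c0075d04))) (.node 1 (.leaf (nat_lit 0x1c0075d06)) (.leaf (nat_lit 0x1c0075f03))))) (.node 4 (.node 2 (.node 1 (.leaf (nat_lit 0x1c0075f06)) (.leaf (nat_lit 0x1c0076007))) (.node 1 (.leaf (nat_lit 0x1c0076603)) (.leaf (nat_lit 0x1c0076702)))) (.node 2 (.node 1 (.leaf (nat_lit 0x1c0076704)) (.leaf (nat_lit 0x1c0076903))) (.node 1 (.leaf (nat_lit 0x1c0076a02)) (.leaf (nat_lit 0x1c0076b02)))))) (.node 8 (.node 4 (.node 2 (.node 1 (.leaf (nat_lit 0x1c0076c06)) (.leaf (nat_lit 0x1c0076e03))) (.node 1 (.leaf (nat_lit 0x1c0076f02))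 (.leaf (nat_lit 0x1c0076f04)))) (.node 2 (.node 1 (.leaf (nat_lit 0x1c0077102)) (.leaf (nat_lit 0x1c0077104))) (.node 1 (.leaf (nat_lit 0x1c0077204)) (.leaf (nat_lit 0x1c0077206))))) (.node 4 (.node 2 (.node 1 (.leaf (nat_lit 0x1c0077402)) (.leaf (nat_lit 0x1c0077404))) (.node 1 (.leaf (nat_lit 0x1c0077504)) (.leaf (nat_lit 0x1c0077506)))) (.node 2 (.node 1 (.leaf (nat_lit 0x1c0077701)) (.leaf (nat_lit 0x1c0077704))) (.node 1 (.leaf (nat_lit 0x1c0077706)) (.leaf (nat_lit 0x1c0077a07))))))))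

noncomputable def lvO0_17 : Tree :=
  .node 64 (.node 32 (.node 16 (.node 8 (.node 4 (.node 2 (.node 1 (.leaf (nat_lit 0x1c0077c06)) (.leaf (nat_lit 0x1c0077e07))) (.node 1 (.leaf (nat_lit 0x1c0077f07)) (.leaf (nat_lit 0x1c0078102)))) (.node 2 (.node 1 (.leaf (nat_lit 0x1c0078206)) (.leaf (nat_lit 0x1c0078401))) (.node 1 (.leaf (nat_lit 0x1c0078501)) (.leaf (nat_lit 0x1c0078504))))) (.node 4 (.node 2 (.node 1 (.leaf (nat_lit 0x1c0078506)) (.leaf (nat_lit 0x1c0078605))) (.node 1 (.leaf (nat_lit 0x1c0078703)) (.leaf (nat_lit 0x1c0078705)))) (.node 2 (.node 1 (.leaf (nat_lit 0x1c0078706)) (.leaf (nat_lit 0x1c0078807))) (.node 1 (.leaf (nat_lit 0x1c0078a04)) (.leaf (nat_lit 0x1c0078a06)))))) (.node 8 (.node 4 (.node 2 (.node 1 (.leaf (nat_lit 0x1c0078b03)) (.leaf (nat_lit 0x1c0078b05))) (.node 1 (.leaf (nat_lit 0x1c0078b06)) (.leaf (nat_lit 0x1c0078c07)))) (.node 2 (.node 1 (.leaf (nat_lit 0x1c0078e05)) (.leaf (nat_lit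 0x1c0078e06))) (.node 1 (.leaf (nat_lit 0x1c0079007)) (.leaf (nat_lit 0x1c0079203))))) (.node 4 (.node 2 (.node 1 (.leaf (nat_lit 0x1c0079205)) (.leaf (nat_lit 0x1c0079206))) (.node 1 (.leaf (nat_lit 0x1c0079805)) (.leaf (nat_lit 0x1c0079b07)))) (.node 2 (.node 1 (.leaf (nat_lit 0x1d0079e03)) (.leaf (nat_lit 0x1d0079f02))) (.node 1 (.leaf (nat_lit 0x1d0079f04)) (.leaf (nat_lit 0x1d007a005))))))) (.node 16 (.node 8 (.node 4 (.node 2 (.node 1 (.leaf (nat_lit 0x1d007a103)) (.leaf (nat_lit 0x1d007a202))) (.node 1 (.leaf (nat_lit 0x1d007a204)) (.leaf (nat_lit 0x1d007a305)))) (.node 2 (.node 1 (.leaf (nat_lit 0x1d007a402)) (.leaf (nat_lit 0x1d007a404))) (.node 1 (.leaf (nat_lit 0x1d007a504)) (.leaf (nat_lit 0x1d007a506))))) (.node 4 (.node 2 (.node 1 (.leaf (nat_lit 0x1d007a605)) (.leaf (nat_lit 0x1d007a803))) (.node 1 (.leaf (nat_lit 0x1d007a902)) (.leaf (nat_lit 0x1d007a904)))) (.node 2 (.node 1 (.leaf (nat_lit 0x1d007aa05))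 (.leaf (nat_lit 0x1d007ab03))) (.node 1 (.leaf (nat_lit 0x1d007ac02)) (.leaf (nat_lit 0x1d007ac04)))))) (.node 8 (.node 4 (.node 2 (.node 1 (.leaf (nat_lit 0x1d007ad05)) (.leaf (nat_lit 0x1d007ae03))) (.node 1 (.leaf (nat_lit 0x1d007af02)) (.leaf (nat_lit 0x1d007af04)))) (.node 2 (.node 1 (.leaf (nat_lit 0x1d007b005)) (.leaf (nat_lit 0x1d007b102))) (.node 1 (.leaf (nat_lit 0x1d007b104)) (.leaf (nat_lit 0x1d007b204))))) (.node 4 (.node 2 (.node 1 (.leaf (nat_lit 0x1d007b206)) (.leaf (nat_lit 0x1d007b305))) (.node 1 (.leaf (nat_lit 0x1d007b502)) (.leaf (nat_lit 0x1d007b504)))) (.node 2 (.node 1 (.leaf (nat_lit 0x1d007b604)) (.leaf (nat_lit 0x1d007b606))) (.node 1 (.leaf (nat_lit 0x1d007b705)) (.leaf (nat_lit 0x1d007b901)))))))) (.node 32 (.node 16 (.node 8 (.node 4 (.node 2 (.node 1 (.leaf (nat_lit 0x1d007b904)) (.leaf (nat_lit 0x1d007b906))) (.node 1 (.leaf (nat_lit 0x1d007ba05)) (.leaf (nat_lit 0x1d007bb03)))) (.node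 2 (.node 1 (.leaf (nat_lit 0x1d007bb05)) (.leaf (nat_lit 0x1d007bb06))) (.node 1 (.leaf (nat_lit 0x1d007bc07)) (.leaf (nat_lit 0x1d007be02))))) (.node 4 (.node 2 (.node 1 (.leaf (nat_lit 0x1d007be04)) (.leaf (nat_lit 0x1d007bf04))) (.node 1 (.leaf (nat_lit 0x1d007bf06)) (.leaf (nat_lit 0x1d007c005)))) (.node 2 (.node 1 (.leaf (nat_lit 0x1d007c201)) (.leaf (nat_lit 0x1d007c204))) (.node 1 (.leaf (nat_lit 0x1d007c206)) (.leaf (nat_lit 0x1d007c305)))))) (.node 8 (.node 4 (.node 2 (.node 1 (.leaf (nat_lit 0x1d007c403)) (.leaf (nat_lit 0x1d007c405))) (.node 1 (.leaf (nat_lit 0x1d007c406)) (.leaf (nat_lit 0x1d007c507)))) (.node 2 (.node 1 (.leaf (nat_lit 0x1d007c703)) (.leaf (nat_lit 0x1d007c705))) (.node 1 (.leaf (nat_lit 0x1d007c706)) (.leaf (nat_lit 0x1d007c807))))) (.node 4 (.node 2 (.node 1 (.leaf (nat_lit 0x1d007ce02)) (.leaf (nat_lit 0x1d007ce04))) (.node 1 (.leaf (nat_lit 0x1d007cf04)) (.leaf (nat_lit 0x1d007cf06))))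 (.node 2 (.node 1 (.leaf (nat_lit 0x1d007d005)) (.leaf (nat_lit 0x1d007d202))) (.node 1 (.leaf (nat_lit 0x1d007d204)) (.leaf (nat_lit 0x1d007d304))))))) (.node 16 (.node 8 (.node 4 (.node 2 (.node 1 (.leaf (nat_lit 0x1d007d306)) (.leaf (nat_lit 0x1d007d405))) (.node 1 (.leaf (nat_lit 0x1d007d602)) (.leaf (nat_lit 0x1d007d604)))) (.node 2 (.node 1 (.leaf (nat_lit 0x1d007d704)) (.leaf (nat_lit 0x1d007d706))) (.node 1 (.leaf (nat_lit 0x1d007d805)) (.leaf (nat_lit 0x1d007da01))))) (.node 4 (.node 2 (.node 1 (.leaf (nat_lit 0x1d007da04)) (.leaf (nat_lit 0x1d007da06))) (.node 1 (.leaf (nat_lit 0x1d007db05)) (.leaf (nat_lit 0x1d007dc03)))) (.node 2 (.node 1 (.leaf (nat_lit 0x1d007dc05)) (.leaf (nat_lit 0x1d007dc06))) (.node 1 (.leaf (nat_lit 0x1d007dd07)) (.leaf (nat_lit 0x1d007df01)))))) (.node 8 (.node 4 (.node 2 (.node 1 (.leaf (nat_lit 0x1d007df04)) (.leaf (nat_lit 0x1d007df06))) (.node 1 (.leaf (nat_lit 0x1d007e005))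 (.leaf (nat_lit 0x1d007e103)))) (.node 2 (.node 1 (.leaf (nat_lit 0x1d007e105)) (.leaf (nat_lit 0x1d007e106))) (.node 1 (.leaf (nat_lit 0x1d007e404)) (.leaf (nat_lit 0x1d007e503))))) (.node 4 (.node 2 (.node 1 (.leaf (nat_lit 0x1d007e505)) (.leaf (nat_lit 0x1d007e705))) (.node 1 (.leaf (nat_lit 0x1d007e901)) (.leaf (nat_lit 0x1d007e904)))) (.node 2 (.node 1 (.leaf (nat_lit 0x1d007e906)) (.leaf (nat_lit 0x1d007ea05))) (.node 1 (.leaf (nat_lit 0x1d007eb03)) (.leaf (nat_lit 0x1d007eb05))))))))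

noncomputable def lvO0_18 : Tree :=
  .node 64 (.node 32 (.node 16 (.node 8 (.node 4 (.node 2 (.node 1 (.leaf (nat_lit 0x1d007eb06)) (.leaf (nat_lit 0x1d007ec07))) (.node 1 (.leaf (nat_lit 0x1d007ee04)) (.leaf (nat_lit 0x1d007ee06)))) (.node 2 (.node 1 (.leaf (nat_lit 0x1d007ef05)) (.leaf (nat_lit 0x1d007ef06))) (.node 1 (.leaf (nat_lit 0x1d007f007)) (.leaf (nat_lit 0x1d007f206))))) (.node 4 (.node 2 (.node 1 (.leaf (nat_lit 0x1d007f307)) (.leaf (nat_lit 0x1d007f504))) (.node 1 (.leaf (nat_lit 0x1d007f506)) (.leaf (nat_lit 0x1d007f603)))) (.node 2 (.node 1 (.leaf (nat_lit 0x1d007f707)) (.leaf (nat_lit 0x1d007fa02))) (.node 1 (.leaf (nat_lit 0x1d007fa07)) (.leaf (nat_lit 0x1d007fc03)))))) (.node 8 (.node 4 (.node 2 (.node 1 (.leaf (nat_lit 0x1d007fd02)) (.leaf (nat_lit 0x1d007fd04))) (.node 1 (.leaf (nat_lit 0x1d007ff03)) (.leaf (nat_lit 0x1d0080002)))) (.node 2 (.node 1 (.leaf (nat_lit 0x1d0080004)) (.leaf (nat_lit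 0x1d0080203))) (.node 1 (.leaf (nat_lit 0x1d0080302)) (.leaf (nat_lit 0x1d0080304))))) (.node 4 (.node 2 (.node 1 (.leaf (nat_lit 0x1d0080502)) (.leaf (nat_lit 0x1d0080504))) (.node 1 (.leaf (nat_lit 0x1d0080604)) (.leaf (nat_lit 0x1d0080606)))) (.node 2 (.node 1 (.leaf (nat_lit 0x1d0080705)) (.leaf (nat_lit 0x1d0080903))) (.node 1 (.leaf (nat_lit 0x1d0080a04)) (.leaf (nat_lit 0x1d0080c02))))))) (.node 16 (.node 8 (.node 4 (.node 2 (.node 1 (.leaf (nat_lit 0x1d0080c04)) (.leaf (nat_lit 0x1d0080d04))) (.node 1 (.leaf (nat_lit 0x1d0080e05)) (.leaf (nat_lit 0x1d0081001)))) (.node 2 (.node 1 (.leaf (nat_lit 0x1d0081004)) (.leaf (nat_lit 0x1d0081105))) (.node 1 (.leaf (nat_lit 0x1d0081205)) (.leaf (nat_lit 0x1d0081402))))) (.node 4 (.node 2 (.node 1 (.leaf (nat_lit 0x1d0081404)) (.leaf (nat_lit 0x1d0081504))) (.node 1 (.leaf (nat_lit 0x1d0081506)) (.leaf (nat_lit 0x1d0081702)))) (.node 2 (.node 1 (.leaf (nat_lit 0x1d0081704))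 (.leaf (nat_lit 0x1d0081804))) (.node 1 (.leaf (nat_lit 0x1d0081806)) (.leaf (nat_lit 0x1d0081a02)))))) (.node 8 (.node 4 (.node 2 (.node 1 (.leaf (nat_lit 0x1d0081a04)) (.leaf (nat_lit 0x1d0081b04))) (.node 1 (.leaf (nat_lit 0x1d0081b06)) (.leaf (nat_lit 0x1d0081d01)))) (.node 2 (.node 1 (.leaf (nat_lit 0x1d0081d04)) (.leaf (nat_lit 0x1d0081d06))) (.node 1 (.leaf (nat_lit 0x1d0082007)) (.leaf (nat_lit 0x1d0082101))))) (.node 4 (.node 2 (.node 1 (.leaf (nat_lit 0x1d0082406)) (.leaf (nat_lit 0x1d0082607))) (.node 1 (.leaf (nat_lit 0x1d0082707)) (.leaf (nat_lit 0x1d0082902)))) (.node 2 (.node 1 (.leaf (nat_lit 0x1d0082904)) (.leaf (nat_lit 0x1d0082b05))) (.node 1 (.leaf (nat_lit 0x1d0082d02)) (.leaf (nat_lit 0x1d0082d04)))))))) (.node 32 (.node 16 (.node 8 (.node 4 (.node 2 (.node 1 (.leaf (nat_lit 0x1d0082e04)) (.leaf (nat_lit 0x1d0082e06))) (.node 1 (.leaf (nat_lit 0x1d0082f05)) (.leaf (nat_lit 0x1d0083101)))) (.node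 2 (.node 1 (.leaf (nat_lit 0x1d0083104)) (.leaf (nat_lit 0x1d0083106))) (.node 1 (.leaf (nat_lit 0x1d0083205)) (.leaf (nat_lit 0x1d0083303))))) (.node 4 (.node 2 (.node 1 (.leaf (nat_lit 0x1d0083305)) (.leaf (nat_lit 0x1d0083306))) (.node 1 (.leaf (nat_lit 0x1d0083407)) (.leaf (nat_lit 0x1d0083602)))) (.node 2 (.node 1 (.leaf (nat_lit 0x1d0083706)) (.leaf (nat_lit 0x1d0083901))) (.node 1 (.leaf (nat_lit 0x1d0083a01)) (.leaf (nat_lit 0x1d0083a04)))))) (.node 8 (.node 4 (.node 2 (.node 1 (.leaf (nat_lit 0x1d0083a06)) (.leaf (nat_lit 0x1d0083b05))) (.node 1 (.leaf (nat_lit 0x1d0083c03)) (.leaf (nat_lit 0x1d0083c05)))) (.node 2 (.node 1 (.leaf (nat_lit 0x1d0083c06)) (.leaf (nat_lit 0x1d0083d07))) (.node 1 (.leaf (nat_lit 0x1d0083f04)) (.leaf (nat_lit 0x1d0083f06))))) (.node 4 (.node 2 (.node 1 (.leaf (nat_lit 0x1d0084003)) (.leaf (nat_lit 0x1d0084005))) (.node 1 (.leaf (nat_lit 0x1d0084006)) (.leaf (nat_lit 0x1d0084107))))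 (.node 2 (.node 1 (.leaf (nat_lit 0x1d0084305)) (.leaf (nat_lit 0x1d0084306))) (.node 1 (.leaf (nat_lit 0x1d0084507)) (.leaf (nat_lit 0x1d0084704))))))) (.node 16 (.node 8 (.node 4 (.node 2 (.node 1 (.leaf (nat_lit 0x1d0084706)) (.leaf (nat_lit 0x1d0084803))) (.node 1 (.leaf (nat_lit 0x1d0084805)) (.leaf (nat_lit 0x1d0084806)))) (.node 2 (.node 1 (.leaf (nat_lit 0x1d0084e03)) (.leaf (nat_lit 0x1d0084f05))) (.node 1 (.leaf (nat_lit 0x1d0085207)) (.leaf (nat_lit 0x1d0085503))))) (.node 4 (.node 2 (.node 1 (.leaf (nat_lit 0x1d0085602)) (.leaf (nat_lit 0x1d0085604))) (.node 1 (.leaf (nat_lit 0x1d0085803)) (.leaf (nat_lit 0x1d0085902)))) (.node 2 (.node 1 (.leaf (nat_lit 0x1d0085a02)) (.leaf (nat_lit 0x1d0085a04))) (.node 1 (.leaf (nat_lit 0x1d0085e02)) (.leaf (nat_lit 0x1d0085e04)))))) (.node 8 (.node 4 (.node 2 (.node 1 (.leaf (nat_lit 0x1d0086503)) (.leaf (nat_lit 0x1d0086506))) (.node 1 (.leaf (nat_lit 0x1d0086607))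 (.leaf (nat_lit 0x1d0086a02)))) (.node 2 (.node 1 (.leaf (nat_lit 0x1d0086a04)) (.leaf (nat_lit 0x1d0086b04))) (.node 1 (.leaf (nat_lit 0x1d0086b06)) (.leaf (nat_lit 0x1d0086d02))))) (.node 4 (.node 2 (.node 1 (.leaf (nat_lit 0x1d0086e06)) (.leaf (nat_lit 0x1d0086f01))) (.node 1 (.leaf (nat_lit 0x1d0086f06)) (.leaf (nat_lit 0x1d0087007)))) (.node 2 (.node 1 (.leaf (nat_lit 0x1d0087102)) (.leaf (nat_lit 0x1d0087104))) (.node 1 (.leaf (nat_lit 0x1d0087204)) (.leaf (nat_lit 0x1d0087206))))))))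

noncomputable def lvO0_19 : Tree :=
  .node 64 (.node 32 (.node 16 (.node 8 (.node 4 (.node 2 (.node 1 (.leaf (nat_lit 0x1d0087401)) (.leaf (nat_lit 0x1d0087404))) (.node 1 (.leaf (nat_lit 0x1d0087406)) (.leaf (nat_lit 0x1d0087603)))) (.node 2 (.node 1 (.leaf (nat_lit 0x1d0087707)) (.leaf (nat_lit 0x1d0087801))) (.node 1 (.leaf (nat_lit 0x1d0087804)) (.leaf (nat_lit 0x1d0087806))))) (.node 4 (.node 2 (.node 1 (.leaf (nat_lit 0x1d0087a06)) (.leaf (nat_lit 0x1d0087b07))) (.node 1 (.leaf (nat_lit 0x1d0087c04)) (.leaf (nat_lit 0x1d0087c06)))) (.node 2 (.node 1 (.leaf (nat_lit 0x1d0087e07)) (.leaf (nat_lit 0x1d0088007))) (.node 1 (.leaf (nat_lit 0x1d0088301)) (.leaf (nat_lit 0x1d0088306)))))) (.node 8 (.node 4 (.node 2 (.node 1 (.leaf (nat_lit 0x1d0088604)) (.leaf (nat_lit 0x1d0088606))) (.node 1 (.leaf (nat_lit 0x1d0088703)) (.leaf (nat_lit 0x1d0088705)))) (.node 2 (.node 1 (.leaf (nat_lit 0x1d0088706)) (.leaf (nat_lit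 0x1d0088807))) (.node 1 (.leaf (nat_lit 0x1d0088c07)) (.leaf (nat_lit 0x1d0088e03))))) (.node 4 (.node 2 (.node 1 (.leaf (nat_lit 0x1d0088e05)) (.leaf (nat_lit 0x1d0088e06))) (.node 1 (.leaf (nat_lit 0x1d0088f07)) (.leaf (nat_lit 0x1d0089005)))) (.node 2 (.node 1 (.leaf (nat_lit 0x1d0089006)) (.leaf (nat_lit 0x1d0089207))) (.node 1 (.leaf (nat_lit 0x1d0089507)) (.leaf (nat_lit 0x1e0089c02))))))) (.node 16 (.node 8 (.node 4 (.node 2 (.node 1 (.leaf (nat_lit 0x1e0089c04)) (.leaf (nat_lit 0x1e0089d04))) (.node 1 (.leaf (nat_lit 0x1e0089d06)) (.leaf (nat_lit 0x1e0089e05)))) (.node 2 (.node 1 (.leaf (nat_lit 0x1e008a002)) (.leaf (nat_lit 0x1e008a004))) (.node 1 (.leaf (nat_lit 0x1e008a104)) (.leaf (nat_lit 0x1e008a106))))) (.node 4 (.node 2 (.node 1 (.leaf (nat_lit 0x1e008a205)) (.leaf (nat_lit 0x1e008a401))) (.node 1 (.leaf (nat_lit 0x1e008a404)) (.leaf (nat_lit 0x1e008a406)))) (.node 2 (.node 1 (.leaf (nat_lit 0x1e008a505))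 (.leaf (nat_lit 0x1e008a603))) (.node 1 (.leaf (nat_lit 0x1e008a605)) (.leaf (nat_lit 0x1e008a606)))))) (.node 8 (.node 4 (.node 2 (.node 1 (.leaf (nat_lit 0x1e008a707)) (.leaf (nat_lit 0x1e008a902))) (.node 1 (.leaf (nat_lit 0x1e008a904)) (.leaf (nat_lit 0x1e008aa04)))) (.node 2 (.node 1 (.leaf (nat_lit 0x1e008aa06)) (.leaf (nat_lit 0x1e008ab05))) (.node 1 (.leaf (nat_lit 0x1e008ad02)) (.leaf (nat_lit 0x1e008ad04))))) (.node 4 (.node 2 (.node 1 (.leaf (nat_lit 0x1e008ae04)) (.leaf (nat_lit 0x1e008ae06))) (.node 1 (.leaf (nat_lit 0x1e008af05)) (.leaf (nat_lit 0x1e008b102)))) (.node 2 (.node 1 (.leaf (nat_lit 0x1e008b104)) (.leaf (nat_lit 0x1e008b204))) (.node 1 (.leaf (nat_lit 0x1e008b206)) (.leaf (nat_lit 0x1e008b305)))))))) (.node 32 (.node 16 (.node 8 (.node 4 (.node 2 (.node 1 (.leaf (nat_lit 0x1e008b501)) (.leaf (nat_lit 0x1e008b504))) (.node 1 (.leaf (nat_lit 0x1e008b506)) (.leaf (nat_lit 0x1e008b605)))) (.node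 2 (.node 1 (.leaf (nat_lit 0x1e008b703)) (.leaf (nat_lit 0x1e008b705))) (.node 1 (.leaf (nat_lit 0x1e008b706)) (.leaf (nat_lit 0x1e008b807))))) (.node 4 (.node 2 (.node 1 (.leaf (nat_lit 0x1e008ba01)) (.leaf (nat_lit 0x1e008ba04))) (.node 1 (.leaf (nat_lit 0x1e008ba06)) (.leaf (nat_lit 0x1e008bb05)))) (.node 2 (.node 1 (.leaf (nat_lit 0x1e008bc03)) (.leaf (nat_lit 0x1e008bc05))) (.node 1 (.leaf (nat_lit 0x1e008bc06)) (.leaf (nat_lit 0x1e008bd07)))))) (.node 8 (.node 4 (.node 2 (.node 1 (.leaf (nat_lit 0x1e008bf04)) (.leaf (nat_lit 0x1e008bf06))) (.node 1 (.leaf (nat_lit 0x1e008c003)) (.leaf (nat_lit 0x1e008c005)))) (.node 2 (.node 1 (.leaf (nat_lit 0x1e008c006)) (.leaf (nat_lit 0x1e008c107))) (.node 1 (.leaf (nat_lit 0x1e008c701)) (.leaf (nat_lit 0x1e008c704))))) (.node 4 (.node 2 (.node 1 (.leaf (nat_lit 0x1e008c706)) (.leaf (nat_lit 0x1e008c805))) (.node 1 (.leaf (nat_lit 0x1e008c903)) (.leaf (nat_lit 0x1e008c905))))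 (.node 2 (.node 1 (.leaf (nat_lit 0x1e008c906)) (.leaf (nat_lit 0x1e008ca07))) (.node 1 (.leaf (nat_lit 0x1e008cc04)) (.leaf (nat_lit 0x1e008cc06))))))) (.node 16 (.node 8 (.node 4 (.node 2 (.node 1 (.leaf (nat_lit 0x1e008cd03)) (.leaf (nat_lit 0x1e008cd05))) (.node 1 (.leaf (nat_lit 0x1e008cd06)) (.leaf (nat_lit 0x1e008ce07)))) (.node 2 (.node 1 (.leaf (nat_lit 0x1e008d801)) (.leaf (nat_lit 0x1e008d804))) (.node 1 (.leaf (nat_lit 0x1e008d806)) (.leaf (nat_lit 0x1e008d905))))) (.node 4 (.node 2 (.node 1 (.leaf (nat_lit 0x1e008da03)) (.leaf (nat_lit 0x1e008da05))) (.node 1 (.leaf (nat_lit 0x1e008da06)) (.leaf (nat_lit 0x1e008db07)))) (.node 2 (.node 1 (.leaf (nat_lit 0x1e008dd01)) (.leaf (nat_lit 0x1e008dd04))) (.node 1 (.leaf (nat_lit 0x1e008dd06)) (.leaf (nat_lit 0x1e008de05)))))) (.node 8 (.node 4 (.node 2 (.node 1 (.leaf (nat_lit 0x1e008df03)) (.leaf (nat_lit 0x1e008df05))) (.node 1 (.leaf (nat_lit 0x1e008df06))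 (.leaf (nat_lit 0x1e008e007)))) (.node 2 (.node 1 (.leaf (nat_lit 0x1e008e201)) (.leaf (nat_lit 0x1e008e204))) (.node 1 (.leaf (nat_lit 0x1e008e206)) (.leaf (nat_lit 0x1e008e305))))) (.node 4 (.node 2 (.node 1 (.leaf (nat_lit 0x1e008e403)) (.leaf (nat_lit 0x1e008e405))) (.node 1 (.leaf (nat_lit 0x1e008e406)) (.leaf (nat_lit 0x1e008e507)))) (.node 2 (.node 1 (.leaf (nat_lit 0x1e008e704)) (.leaf (nat_lit 0x1e008e706))) (.node 1 (.leaf (nat_lit 0x1e008e803)) (.leaf (nat_lit 0x1e008e805))))))))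

noncomputable def lvO0_20 : Tree :=
  .node 64 (.node 32 (.node 16 (.node 8 (.node 4 (.node 2 (.node 1 (.leaf (nat_lit 0x1e008e806)) (.leaf (nat_lit 0x1e008e907))) (.node 1 (.leaf (nat_lit 0x1e008eb05)) (.leaf (nat_lit 0x1e008eb06)))) (.node 2 (.node 1 (.leaf (nat_lit 0x1e008ec06)) (.leaf (nat_lit 0x1e008ed07))) (.node 1 (.leaf (nat_lit 0x1e008ef04)) (.leaf (nat_lit 0x1e008ef06))))) (.node 4 (.node 2 (.node 1 (.leaf (nat_lit 0x1e008f003)) (.leaf (nat_lit 0x1e008f005))) (.node 1 (.leaf (nat_lit 0x1e008f006)) (.leaf (nat_lit 0x1e008f603)))) (.node 2 (.node 1 (.leaf (nat_lit 0x1e008f605)) (.leaf (nat_lit 0x1e008f705))) (.node 1 (.leaf (nat_lit 0x1e008fa04)) (.leaf (nat_lit 0x1e008fa06)))))) (.node 8 (.node 4 (.node 2 (.node 1 (.leaf (nat_lit 0x1e008fb03)) (.leaf (nat_lit 0x1e008fb05))) (.node 1 (.leaf (nat_lit 0x1e008fb06)) (.leaf (nat_lit 0x1e008fc07)))) (.node 2 (.node 1 (.leaf (nat_lit 0x1e008fe05)) (.leaf (nat_lit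 0x1e008ff06))) (.node 1 (.leaf (nat_lit 0x1e0090007)) (.leaf (nat_lit 0x1e0090205))))) (.node 4 (.node 2 (.node 1 (.leaf (nat_lit 0x1e0090206)) (.leaf (nat_lit 0x1e0090302))) (.node 1 (.leaf (nat_lit 0x1e0090307)) (.leaf (nat_lit 0x1e0090406)))) (.node 2 (.node 1 (.leaf (nat_lit 0x1e0090507)) (.leaf (nat_lit 0x1e0090707))) (.node 1 (.leaf (nat_lit 0x1e0090903)) (.leaf (nat_lit 0x1e0090a07))))))) (.node 16 (.node 8 (.node 4 (.node 2 (.node 1 (.leaf (nat_lit 0x1e0090d03)) (.leaf (nat_lit 0x1e0090d07))) (.node 1 (.leaf (nat_lit 0x1e0090f02)) (.leaf (nat_lit 0x1e0090f04)))) (.node 2 (.node 1 (.leaf (nat_lit 0x1e0091004)) (.leaf (nat_lit 0x1e0091006))) (.node 1 (.leaf (nat_lit 0x1e0091202)) (.leaf (nat_lit 0x1e0091204))))) (.node 4 (.node 2 (.node 1 (.leaf (nat_lit 0x1e0091304)) (.leaf (nat_lit 0x1e0091306))) (.node 1 (.leaf (nat_lit 0x1e0091502)) (.leaf (nat_lit 0x1e0091504)))) (.node 2 (.node 1 (.leaf (nat_lit 0x1e0091604))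 (.leaf (nat_lit 0x1e0091606))) (.node 1 (.leaf (nat_lit 0x1e0091801)) (.leaf (nat_lit 0x1e0091804)))))) (.node 8 (.node 4 (.node 2 (.node 1 (.leaf (nat_lit 0x1e0091806)) (.leaf (nat_lit 0x1e0091905))) (.node 1 (.leaf (nat_lit 0x1e0091a05)) (.leaf (nat_lit 0x1e0091b07)))) (.node 2 (.node 1 (.leaf (nat_lit 0x1e0091d04)) (.leaf (nat_lit 0x1e0091f01))) (.node 1 (.leaf (nat_lit 0x1e0091f04)) (.leaf (nat_lit 0x1e0092005))))) (.node 4 (.node 2 (.node 1 (.leaf (nat_lit 0x1e0092105)) (.leaf (nat_lit 0x1e0092304))) (.node 1 (.leaf (nat_lit 0x1e0092405)) (.leaf (nat_lit 0x1e0092701)))) (.node 2 (.node 1 (.leaf (nat_lit 0x1e0092704)) (.leaf (nat_lit 0x1e0092706))) (.node 1 (.leaf (nat_lit 0x1e0092b01)) (.leaf (nat_lit 0x1e0092b04)))))))) (.node 32 (.node 16 (.node 8 (.node 4 (.node 2 (.node 1 (.leaf (nat_lit 0x1e0092b06)) (.leaf (nat_lit 0x1e0092d03))) (.node 1 (.leaf (nat_lit 0x1e0092e07)) (.leaf (nat_lit 0x1e0092f01)))) (.node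 2 (.node 1 (.leaf (nat_lit 0x1e0092f04)) (.leaf (nat_lit 0x1e0092f06))) (.node 1 (.leaf (nat_lit 0x1e0093106)) (.leaf (nat_lit 0x1e0093207))))) (.node 4 (.node 2 (.node 1 (.leaf (nat_lit 0x1e0093304)) (.leaf (nat_lit 0x1e0093306))) (.node 1 (.leaf (nat_lit 0x1e0093507)) (.leaf (nat_lit 0x1e0093807)))) (.node 2 (.node 1 (.leaf (nat_lit 0x1e0093b01)) (.leaf (nat_lit 0x1e0093c05))) (.node 1 (.leaf (nat_lit 0x1e0093e01)) (.leaf (nat_lit 0x1e0093e04)))))) (.node 8 (.node 4 (.node 2 (.node 1 (.leaf (nat_lit 0x1e0093e06)) (.leaf (nat_lit 0x1e0093f05))) (.node 1 (.leaf (nat_lit 0x1e0094003)) (.leaf (nat_lit 0x1e0094005)))) (.node 2 (.node 1 (.leaf (nat_lit 0x1e0094006)) (.leaf (nat_lit 0x1e0094107))) (.node 1 (.leaf (nat_lit 0x1e0094304)) (.leaf (nat_lit 0x1e0094306))))) (.node 4 (.node 2 (.node 1 (.leaf (nat_lit 0x1e0094403)) (.leaf (nat_lit 0x1e0094405))) (.node 1 (.leaf (nat_lit 0x1e0094406)) (.leaf (nat_lit 0x1e0094507))))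 (.node 2 (.node 1 (.leaf (nat_lit 0x1e0094705)) (.leaf (nat_lit 0x1e0094706))) (.node 1 (.leaf (nat_lit 0x1e0094b01)) (.leaf (nat_lit 0x1e0094b06))))))) (.node 16 (.node 8 (.node 4 (.node 2 (.node 1 (.leaf (nat_lit 0x1e0094e04)) (.leaf (nat_lit 0x1e0094e06))) (.node 1 (.leaf (nat_lit 0x1e0094f03)) (.leaf (nat_lit 0x1e0094f05)))) (.node 2 (.node 1 (.leaf (nat_lit 0x1e0094f06)) (.leaf (nat_lit 0x1e0095007))) (.node 1 (.leaf (nat_lit 0x1e0095407)) (.leaf (nat_lit 0x1e0095603))))) (.node 4 (.node 2 (.node 1 (.leaf (nat_lit 0x1e0095605)) (.leaf (nat_lit 0x1e0095606))) (.node 1 (.leaf (nat_lit 0x1e0095707)) (.leaf (nat_lit 0x1e0095805)))) (.node 2 (.node 1 (.leaf (nat_lit 0x1e0095806)) (.leaf (nat_lit 0x1e0095a07))) (.node 1 (.leaf (nat_lit 0x1e0095d07)) (.leaf (nat_lit 0x1e0095f03)))))) (.node 8 (.node 4 (.node 2 (.node 1 (.leaf (nat_lit 0x1e0095f06)) (.leaf (nat_lit 0x1e0096402))) (.node 1 (.leaf (nat_lit 0x1e0096702))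 (.leaf (nat_lit 0x1e0096704)))) (.node 2 (.node 1 (.leaf (nat_lit 0x1e0096a02)) (.leaf (nat_lit 0x1e0097301))) (.node 1 (.leaf (nat_lit 0x1e0097304)) (.leaf (nat_lit 0x1e0097306))))) (.node 4 (.node 2 (.node 1 (.leaf (nat_lit 0x1e0097701)) (.leaf (nat_lit 0x1e0097706))) (.node 1 (.leaf (nat_lit 0x1e0097906)) (.leaf (nat_lit 0x1e0097a07)))) (.node 2 (.node 1 (.leaf (nat_lit 0x1e0097c01)) (.leaf (nat_lit 0x1e0097c04))) (.node 1 (.leaf (nat_lit 0x1e0097c06)) (.leaf (nat_lit 0x1e0098004))))))))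

noncomputable def lvO0_21 : Tree :=
  .node 64 (.node 32 (.node 16 (.node 8 (.node 4 (.node 2 (.node 1 (.leaf (nat_lit 0x1e0098006)) (.leaf (nat_lit 0x1e0098103))) (.node 1 (.leaf (nat_lit 0x1e0098207)) (.leaf (nat_lit 0x1e0098504)))) (.node 2 (.node 1 (.leaf (nat_lit 0x1e0098506)) (.leaf (nat_lit 0x1e0098606))) (.node 1 (.leaf (nat_lit 0x1e0098707)) (.leaf (nat_lit 0x1e0098b07))))) (.node 4 (.node 2 (.node 1 (.leaf (nat_lit 0x1e0098e06)) (.leaf (nat_lit 0x1e0099003))) (.node 1 (.leaf (nat_lit 0x1e0099005)) (.leaf (nat_lit 0x1e0099006)))) (.node 2 (.node 1 (.leaf (nat_lit 0x1e0099102)) (.leaf (nat_lit 0x1e0099107))) (.node 1 (.leaf (nat_lit 0x1e0099407)) (.leaf (nat_lit 0x1e0099705)))))) (.node 8 (.node 4 (.node 2 (.node 1 (.leaf (nat_lit 0x1e0099706)) (.leaf (nat_lit 0x1e0099907))) (.node 1 (.leaf (nat_lit 0x1e0099c07)) (.leaf (nat_lit 0x1f0099f01)))) (.node 2 (.node 1 (.leaf (nat_lit 0x1f0099f04)) (.leaf (nat_lit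 0x1f0099f06))) (.node 1 (.leaf (nat_lit 0x1f009a005)) (.leaf (nat_lit 0x1f009a103))))) (.node 4 (.node 2 (.node 1 (.leaf (nat_lit 0x1f009a105)) (.leaf (nat_lit 0x1f009a106))) (.node 1 (.leaf (nat_lit 0x1f009a207)) (.leaf (nat_lit 0x1f009a401)))) (.node 2 (.node 1 (.leaf (nat_lit 0x1f009a404)) (.leaf (nat_lit 0x1f009a406))) (.node 1 (.leaf (nat_lit 0x1f009a505)) (.leaf (nat_lit 0x1f009a904))))))) (.node 16 (.node 8 (.node 4 (.node 2 (.node 1 (.leaf (nat_lit 0x1f009a906)) (.leaf (nat_lit 0x1f009aa03))) (.node 1 (.leaf (nat_lit 0x1f009aa05)) (.leaf (nat_lit 0x1f009aa06)))) (.node 2 (.node 1 (.leaf (nat_lit 0x1f009ab07)) (.leaf (nat_lit 0x1f009b101))) (.node 1 (.leaf (nat_lit 0x1f009b104)) (.leaf (nat_lit 0x1f009b106))))) (.node 4 (.node 2 (.node 1 (.leaf (nat_lit 0x1f009b205)) (.leaf (nat_lit 0x1f009b303))) (.node 1 (.leaf (nat_lit 0x1f009b305)) (.leaf (nat_lit 0x1f009b306)))) (.node 2 (.node 1 (.leaf (nat_lit 0x1f009b407))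 (.leaf (nat_lit 0x1f009b601))) (.node 1 (.leaf (nat_lit 0x1f009b604)) (.leaf (nat_lit 0x1f009b606)))))) (.node 8 (.node 4 (.node 2 (.node 1 (.leaf (nat_lit 0x1f009b705)) (.leaf (nat_lit 0x1f009b803))) (.node 1 (.leaf (nat_lit 0x1f009b805)) (.leaf (nat_lit 0x1f009b806)))) (.node 2 (.node 1 (.leaf (nat_lit 0x1f009b907)) (.leaf (nat_lit 0x1f009bb01))) (.node 1 (.leaf (nat_lit 0x1f009bb04)) (.leaf (nat_lit 0x1f009bb06))))) (.node 4 (.node 2 (.node 1 (.leaf (nat_lit 0x1f009bc05)) (.leaf (nat_lit 0x1f009bd03))) (.node 1 (.leaf (nat_lit 0x1f009bd05)) (.leaf (nat_lit 0x1f009bd06)))) (.node 2 (.node 1 (.leaf (nat_lit 0x1f009be07)) (.leaf (nat_lit 0x1f009c004))) (.node 1 (.leaf (nat_lit 0x1f009c006)) (.leaf (nat_lit 0x1f009c103)))))))) (.node 32 (.node 16 (.node 8 (.node 4 (.node 2 (.node 1 (.leaf (nat_lit 0x1f009c105)) (.leaf (nat_lit 0x1f009c106))) (.node 1 (.leaf (nat_lit 0x1f009c207)) (.leaf (nat_lit 0x1f009c804)))) (.node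 2 (.node 1 (.leaf (nat_lit 0x1f009c806)) (.leaf (nat_lit 0x1f009c903))) (.node 1 (.leaf (nat_lit 0x1f009c905)) (.leaf (nat_lit 0x1f009c906))))) (.node 4 (.node 2 (.node 1 (.leaf (nat_lit 0x1f009ca07)) (.leaf (nat_lit 0x1f009d003))) (.node 1 (.leaf (nat_lit 0x1f009d005)) (.leaf (nat_lit 0x1f009d006)))) (.node 2 (.node 1 (.leaf (nat_lit 0x1f009d107)) (.leaf (nat_lit 0x1f009d604))) (.node 1 (.leaf (nat_lit 0x1f009d606)) (.leaf (nat_lit 0x1f009d703)))))) (.node 8 (.node 4 (.node 2 (.node 1 (.leaf (nat_lit 0x1f009d705)) (.leaf (nat_lit 0x1f009d706))) (.node 1 (.leaf (nat_lit 0x1f009d807)) (.leaf (nat_lit 0x1f009de03)))) (.node 2 (.node 1 (.leaf (nat_lit 0x1f009de05)) (.leaf (nat_lit 0x1f009de06))) (.node 1 (.leaf (nat_lit 0x1f009df02)) (.leaf (nat_lit 0x1f009df07))))) (.node 4 (.node 2 (.node 1 (.leaf (nat_lit 0x1f009e404)) (.leaf (nat_lit 0x1f009e406))) (.node 1 (.leaf (nat_lit 0x1f009e503)) (.leaf (nat_lit 0x1f009e505))))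 (.node 2 (.node 1 (.leaf (nat_lit 0x1f009e506)) (.leaf (nat_lit 0x1f009e607))) (.node 1 (.leaf (nat_lit 0x1f009e805)) (.leaf (nat_lit 0x1f009e806))))))) (.node 16 (.node 8 (.node 4 (.node 2 (.node 1 (.leaf (nat_lit 0x1f009e906)) (.leaf (nat_lit 0x1f009ea07))) (.node 1 (.leaf (nat_lit 0x1f009ec04)) (.leaf (nat_lit 0x1f009ec06)))) (.node 2 (.node 1 (.leaf (nat_lit 0x1f009ed03)) (.leaf (nat_lit 0x1f009ed05))) (.node 1 (.leaf (nat_lit 0x1f009ed06)) (.leaf (nat_lit 0x1f009ee07))))) (.node 4 (.node 2 (.node 1 (.leaf (nat_lit 0x1f009f005)) (.leaf (nat_lit 0x1f009f106))) (.node 1 (.leaf (nat_lit 0x1f009f207)) (.leaf (nat_lit 0x1f009f404)))) (.node 2 (.node 1 (.leaf (nat_lit 0x1f009f406)) (.leaf (nat_lit 0x1f009f503))) (.node 1 (.leaf (nat_lit 0x1f009f505)) (.leaf (nat_lit 0x1f009f506)))))) (.node 8 (.node 4 (.node 2 (.node 1 (.leaf (nat_lit 0x1f009f607)) (.leaf (nat_lit 0x1f009fc03))) (.node 1 (.leaf (nat_lit 0x1f009fc05))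 (.leaf (nat_lit 0x1f009fc06)))) (.node 2 (.node 1 (.leaf (nat_lit 0x1f009fd02)) (.leaf (nat_lit 0x1f009fd07))) (.node 1 (.leaf (nat_lit 0x1f009fe05)) (.leaf (nat_lit 0x1f009fe06))))) (.node 4 (.node 2 (.node 1 (.leaf (nat_lit 0x1f009ff06)) (.leaf (nat_lit 0x1f00a0007))) (.node 1 (.leaf (nat_lit 0x1f00a0603)) (.leaf (nat_lit 0x1f00a0605)))) (.node 2 (.node 1 (.leaf (nat_lit 0x1f00a0606)) (.leaf (nat_lit 0x1f00a0702))) (.node 1 (.leaf (nat_lit 0x1f00a0b02)) (.leaf (nat_lit 0x1f00a0b05))))))))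

noncomputable def lvO0_22 : Tree :=
  .node 64 (.node 32 (.node 16 (.node 8 (.node 4 (.node 2 (.node 1 (.leaf (nat_lit 0x1f00a0e03)) (.leaf (nat_lit 0x1f00a0e05))) (.node 1 (.leaf (nat_lit 0x1f00a0e06)) (.leaf (nat_lit 0x1f00a0f02)))) (.node 2 (.node 1 (.leaf (nat_lit 0x1f00a0f07)) (.leaf (nat_lit 0x1f00a1005))) (.node 1 (.leaf (nat_lit 0x1f00a1106)) (.leaf (nat_lit 0x1f00a1207))))) (.node 4 (.node 2 (.node 1 (.leaf (nat_lit 0x1f00a1507)) (.leaf (nat_lit 0x1f00a1706))) (.node 1 (.leaf (nat_lit 0x1f00a1802)) (.leaf (nat_lit 0x1f00a1807)))) (.node 2 (.node 1 (.leaf (nat_lit 0x1f00a1903)) (.leaf (nat_lit 0x1f00a1907))) (.node 1 (.leaf (nat_lit 0x1f00a1b07)) (.leaf (nat_lit 0x1f00a1e02)))))) (.node 8 (.node 4 (.node 2 (.node 1 (.leaf (nat_lit 0x1f00a2201)) (.leaf (nat_lit 0x1f00a2204))) (.node 1 (.leaf (nat_lit 0x1f00a2206)) (.leaf (nat_lit 0x1f00a2601)))) (.node 2 (.node 1 (.leaf (nat_lit 0x1f00a2604)) (.leaf (nat_lit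 0x1f00a2606))) (.node 1 (.leaf (nat_lit 0x1f00a2a01)) (.leaf (nat_lit 0x1f00a2a04))))) (.node 4 (.node 2 (.node 1 (.leaf (nat_lit 0x1f00a2a06)) (.leaf (nat_lit 0x1f00a2e04))) (.node 1 (.leaf (nat_lit 0x1f00a2e06)) (.leaf (nat_lit 0x1f00a2f05)))) (.node 2 (.node 1 (.leaf (nat_lit 0x1f00a3007)) (.leaf (nat_lit 0x1f00a3504))) (.node 1 (.leaf (nat_lit 0x1f00a3605)) (.leaf (nat_lit 0x1f00a3905))))))) (.node 16 (.node 8 (.node 4 (.node 2 (.node 1 (.leaf (nat_lit 0x1f00a3b04)) (.leaf (nat_lit 0x1f00a3b06))) (.node 1 (.leaf (nat_lit 0x1f00a3e04)) (.leaf (nat_lit 0x1f00a3e06)))) (.node 2 (.node 1 (.leaf (nat_lit 0x1f00a3f03)) (.leaf (nat_lit 0x1f00a4007))) (.node 1 (.leaf (nat_lit 0x1f00a4304)) (.leaf (nat_lit 0x1f00a4306))))) (.node 4 (.node 2 (.node 1 (.leaf (nat_lit 0x1f00a4406)) (.leaf (nat_lit 0x1f00a4507))) (.node 1 (.leaf (nat_lit 0x1f00a4907)) (.leaf (nat_lit 0x1f00a4e04)))) (.node 2 (.node 1 (.leaf (nat_lit 0x1f00a4e06))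 (.leaf (nat_lit 0x1f00a4f03))) (.node 1 (.leaf (nat_lit 0x1f00a4f05)) (.leaf (nat_lit 0x1f00a4f06)))))) (.node 8 (.node 4 (.node 2 (.node 1 (.leaf (nat_lit 0x1f00a5007)) (.leaf (nat_lit 0x1f00a5603))) (.node 1 (.leaf (nat_lit 0x1f00a5605)) (.leaf (nat_lit 0x1f00a5606)))) (.node 2 (.node 1 (.leaf (nat_lit 0x1f00a5707)) (.leaf (nat_lit 0x1f00a5805))) (.node 1 (.leaf (nat_lit 0x1f00a5806)) (.leaf (nat_lit 0x1f00a5e06))))) (.node 4 (.node 2 (.node 1 (.leaf (nat_lit 0x1f00a6003)) (.leaf (nat_lit 0x1f00a6005))) (.node 1 (.leaf (nat_lit 0x1f00a6006)) (.leaf (nat_lit 0x1f00a6102)))) (.node 2 (.node 1 (.leaf (nat_lit 0x1f00a6107)) (.leaf (nat_lit 0x1f00a6407))) (.node 1 (.leaf (nat_lit 0x1f00a6702)) (.leaf (nat_lit 0x1f00a6705)))))))) (.node 32 (.node 16 (.node 8 (.node 4 (.node 2 (.node 1 (.leaf (nat_lit 0x1f00a6706)) (.leaf (nat_lit 0x1f00a6907))) (.node 1 (.leaf (nat_lit 0x1f00a6c07)) (.leaf (nat_lit 0x1f00a6f02)))) (.node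 2 (.node 1 (.leaf (nat_lit 0x1f00a7106)) (.leaf (nat_lit 0x1f00a7201))) (.node 1 (.leaf (nat_lit 0x1f00a7504)) (.leaf (nat_lit 0x1f00a7506))))) (.node 4 (.node 2 (.node 1 (.leaf (nat_lit 0x1f00a7806)) (.leaf (nat_lit 0x1f00a7a02))) (.node 1 (.leaf (nat_lit 0x1f00a7a07)) (.leaf (nat_lit 0x1f00a7c04)))) (.node 2 (.node 1 (.leaf (nat_lit 0x1f00a7c06)) (.leaf (nat_lit 0x1f00a7f03))) (.node 1 (.leaf (nat_lit 0x1f00a8007)) (.leaf (nat_lit 0x1f00a8306)))))) (.node 8 (.node 4 (.node 2 (.node 1 (.leaf (nat_lit 0x1f00a8402)) (.leaf (nat_lit 0x1f00a8407))) (.node 1 (.leaf (nat_lit 0x1f00a8802)) (.leaf (nat_lit 0x1f00a8b02)))) (.node 2 (.node 1 (.leaf (nat_lit 0x1f00a8b07)) (.leaf (nat_lit 0x1f00a8c03))) (.node 1 (.leaf (nat_lit 0x1f00a8c07)) (.leaf (nat_lit 0x1f00a9002))))) (.node 4 (.node 2 (.node 1 (.leaf (nat_lit 0x1f00a9007)) (.leaf (nat_lit 0x2000a9304))) (.node 1 (.leaf (nat_lit 0x2000a9306)) (.leaf (nat_lit 0x2000a9403))))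 (.node 2 (.node 1 (.leaf (nat_lit 0x2000a9405)) (.leaf (nat_lit 0x2000a9406))) (.node 1 (.leaf (nat_lit 0x2000a9507)) (.leaf (nat_lit 0x2000a9b04))))))) (.node 16 (.node 8 (.node 4 (.node 2 (.node 1 (.leaf (nat_lit 0x2000a9b06)) (.leaf (nat_lit 0x2000a9f03))) (.node 1 (.leaf (nat_lit 0x2000a9f05)) (.leaf (nat_lit 0x2000a9f06)))) (.node 2 (.node 1 (.leaf (nat_lit 0x2000aa002)) (.leaf (nat_lit 0x2000aa007))) (.node 1 (.leaf (nat_lit 0x2000aa504)) (.leaf (nat_lit 0x2000aa506))))) (.node 4 (.node 2 (.node 1 (.leaf (nat_lit 0x2000aa603)) (.leaf (nat_lit 0x2000aa605))) (.node 1 (.leaf (nat_lit 0x2000aa606)) (.leaf (nat_lit 0x2000aa707)))) (.node 2 (.node 1 (.leaf (nat_lit 0x2000aad04)) (.leaf (nat_lit 0x2000aad06))) (.node 1 (.leaf (nat_lit 0x2000aae03)) (.leaf (nat_lit 0x2000aae05)))))) (.node 8 (.node 4 (.node 2 (.node 1 (.leaf (nat_lit 0x2000aae06)) (.leaf (nat_lit 0x2000aaf07))) (.node 1 (.leaf (nat_lit 0x2000ab504))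 (.leaf (nat_lit 0x2000ab506)))) (.node 2 (.node 1 (.leaf (nat_lit 0x2000ab603)) (.leaf (nat_lit 0x2000ab605))) (.node 1 (.leaf (nat_lit 0x2000ab606)) (.leaf (nat_lit 0x2000ab707))))) (.node 4 (.node 2 (.node 1 (.leaf (nat_lit 0x2000abd03)) (.leaf (nat_lit 0x2000abd05))) (.node 1 (.leaf (nat_lit 0x2000abd06)) (.leaf (nat_lit 0x2000abe02)))) (.node 2 (.node 1 (.leaf (nat_lit 0x2000abe07)) (.leaf (nat_lit 0x2000ac303))) (.node 1 (.leaf (nat_lit 0x2000ac305)) (.leaf (nat_lit 0x2000ac306))))))))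

noncomputable def lvO0_23 : Tree :=
  .node 64 (.node 32 (.node 16 (.node 8 (.node 4 (.node 2 (.node 1 (.leaf (nat_lit 0x2000ac402)) (.leaf (nat_lit 0x2000ac407))) (.node 1 (.leaf (nat_lit 0x2000ac902)) (.leaf (nat_lit 0x2000acd03)))) (.node 2 (.node 1 (.leaf (nat_lit 0x2000acd05)) (.leaf (nat_lit 0x2000acd06))) (.node 1 (.leaf (nat_lit 0x2000ace02)) (.leaf (nat_lit 0x2000ace07))))) (.node 4 (.node 2 (.node 1 (.leaf (nat_lit 0x2000ad502)) (.leaf (nat_lit 0x2000ad603))) (.node 1 (.leaf (nat_lit 0x2000ad607)) (.leaf (nat_lit 0x2000ad803)))) (.node 2 (.node 1 (.leaf (nat_lit 0x2000ad805)) (.leaf (nat_lit 0x2000ad806))) (.node 1 (.leaf (nat_lit 0x2000ad902)) (.leaf (nat_lit 0x2000ad907)))))) (.node 8 (.node 4 (.node 2 (.node 1 (.leaf (nat_lit 0x2000ada05)) (.leaf (nat_lit 0x2000ada06))) (.node 1 (.leaf (nat_lit 0x2000adb06)) (.leaf (nat_lit 0x2000adc07)))) (.node 2 (.node 1 (.leaf (nat_lit 0x2000ae203)) (.leaf (nat_lit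 0x2000ae205))) (.node 1 (.leaf (nat_lit 0x2000ae206)) (.leaf (nat_lit 0x2000ae302))))) (.node 4 (.node 2 (.node 1 (.leaf (nat_lit 0x2000ae307)) (.leaf (nat_lit 0x2000ae405))) (.node 1 (.leaf (nat_lit 0x2000ae506)) (.leaf (nat_lit 0x2000ae607)))) (.node 2 (.node 1 (.leaf (nat_lit 0x2000aeb03)) (.leaf (nat_lit 0x2000aeb05))) (.node 1 (.leaf (nat_lit 0x2000aeb06)) (.leaf (nat_lit 0x2000aec02))))))) (.node 16 (.node 8 (.node 4 (.node 2 (.node 1 (.leaf (nat_lit 0x2000aec07)) (.leaf (nat_lit 0x2000af102))) (.node 1 (.leaf (nat_lit 0x2000af105)) (.leaf (nat_lit 0x2000af106)))) (.node 2 (.node 1 (.leaf (nat_lit 0x2000af206)) (.leaf (nat_lit 0x2000af302))) (.node 1 (.leaf (nat_lit 0x2000af307)) (.leaf (nat_lit 0x2000af403))))) (.node 4 (.node 2 (.node 1 (.leaf (nat_lit 0x2000af407)) (.leaf (nat_lit 0x2000afa02))) (.node 1 (.leaf (nat_lit 0x2000afc02)) (.leaf (nat_lit 0x2000afe05)))) (.node 2 (.node 1 (.leaf (nat_lit 0x2000afe06))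 (.leaf (nat_lit 0x2000b0002))) (.node 1 (.leaf (nat_lit 0x2000b0005)) (.leaf (nat_lit 0x2000b0106)))))) (.node 8 (.node 4 (.node 2 (.node 1 (.leaf (nat_lit 0x2000b0202)) (.leaf (nat_lit 0x2000b0207))) (.node 1 (.leaf (nat_lit 0x2000b0307)) (.leaf (nat_lit 0x2000b0607)))) (.node 2 (.node 1 (.leaf (nat_lit 0x2000b0902)) (.leaf (nat_lit 0x2000b0907))) (.node 1 (.leaf (nat_lit 0x2000b0a03)) (.leaf (nat_lit 0x2000b0a07))))) (.node 4 (.node 2 (.node 1 (.leaf (nat_lit 0x2000b1004)) (.leaf (nat_lit 0x2000b1006))) (.node 1 (.leaf (nat_lit 0x2000b1304)) (.leaf (nat_lit 0x2000b1306)))) (.node 2 (.node 1 (.leaf (nat_lit 0x2000b1604)) (.leaf (nat_lit 0x2000b1606))) (.node 1 (.leaf (nat_lit 0x2000b1905)) (.leaf (nat_lit 0x2000b1a02)))))))) (.node 32 (.node 16 (.node 8 (.node 4 (.node 2 (.node 1 (.leaf (nat_lit 0x2000b1a07)) (.leaf (nat_lit 0x2000b1d05))) (.node 1 (.leaf (nat_lit 0x2000b2203)) (.leaf (nat_lit 0x2000b2307)))) (.node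 2 (.node 1 (.leaf (nat_lit 0x2000b2606)) (.leaf (nat_lit 0x2000b2702))) (.node 1 (.leaf (nat_lit 0x2000b2707)) (.leaf (nat_lit 0x2000b2b03))))) (.node 4 (.node 2 (.node 1 (.leaf (nat_lit 0x2000b2b05)) (.leaf (nat_lit 0x2000b2b06))) (.node 1 (.leaf (nat_lit 0x2000b2c02)) (.leaf (nat_lit 0x2000b2c07)))) (.node 2 (.node 1 (.leaf (nat_lit 0x2000b3102)) (.leaf (nat_lit 0x2000b3105))) (.node 1 (.leaf (nat_lit 0x2000b3106)) (.leaf (nat_lit 0x2000b3702)))))) (.node 8 (.node 4 (.node 2 (.node 1 (.leaf (nat_lit 0x2000b3802)) (.leaf (nat_lit 0x2000b3a02))) (.node 1 (.leaf (nat_lit 0x2000b3a07)) (.leaf (nat_lit 0x2000b3b03)))) (.node 2 (.node 1 (.leaf (nat_lit 0x2000b3b07)) (.leaf (nat_lit 0x2000b3e06))) (.node 1 (.leaf (nat_lit 0x2000b4002)) (.leaf (nat_lit 0x2000b4007))))) (.node 4 (.node 2 (.node 1 (.leaf (nat_lit 0x2000b4407)) (.leaf (nat_lit 0x2000b4702))) (.node 1 (.leaf (nat_lit 0x2000b4903)) (.leaf (nat_lit 0x2000b4907))))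 (.node 2 (.node 1 (.leaf (nat_lit 0x2000b4c02)) (.leaf (nat_lit 0x2000b4f02))) (.node 1 (.leaf (nat_lit 0x2000b5003)) (.leaf (nat_lit 0x2000b5007))))))) (.node 16 (.node 8 (.node 4 (.node 2 (.node 1 (.leaf (nat_lit 0x2000b5203)) (.leaf (nat_lit 0x2000b5307))) (.node 1 (.leaf (nat_lit 0x2000b5707)) (.leaf (nat_lit 0x2100b5903)))) (.node 2 (.node 1 (.leaf (nat_lit 0x2100b5905)) (.leaf (nat_lit 0x2100b5906))) (.node 1 (.leaf (nat_lit 0x2100b5a02)) (.leaf (nat_lit 0x2100b5a07))))) (.node 4 (.node 2 (.node 1 (.leaf (nat_lit 0x2100b6102)) (.leaf (nat_lit 0x2100b6302))) (.node 1 (.leaf (nat_lit 0x2100b6407)) (.leaf (nat_lit 0x2100b6603)))) (.node 2 (.node 1 (.leaf (nat_lit 0x2100b6605)) (.leaf (nat_lit 0x2100b6606))) (.node 1 (.leaf (nat_lit 0x2100b6702)) (.leaf (nat_lit 0x2100b6707)))))) (.node 8 (.node 4 (.node 2 (.node 1 (.leaf (nat_lit 0x2100b6c03)) (.leaf (nat_lit 0x2100b6c05))) (.node 1 (.leaf (nat_lit 0x2100b6c06))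 (.leaf (nat_lit 0x2100b6d02)))) (.node 2 (.node 1 (.leaf (nat_lit 0x2100b6d07)) (.leaf (nat_lit 0x2100b7203))) (.node 1 (.leaf (nat_lit 0x2100b7205)) (.leaf (nat_lit 0x2100b7206))))) (.node 4 (.node 2 (.node 1 (.leaf (nat_lit 0x2100b7302)) (.leaf (nat_lit 0x2100b7307))) (.node 1 (.leaf (nat_lit 0x2100b7802)) (.leaf (nat_lit 0x2100b7a02)))) (.node 2 (.node 1 (.leaf (nat_lit 0x2100b7b03)) (.leaf (nat_lit 0x2100b7b07))) (.node 1 (.leaf (nat_lit 0x2100b7d02)) (.leaf (nat_lit 0x2100b7f02))))))))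

noncomputable def lvO0_24 : Tree :=
  .node 43 (.node 21 (.node 10 (.node 5 (.node 2 (.node 1 (.leaf (nat_lit 0x2100b8007)) (.leaf (nat_lit 0x2100b8302))) (.node 1 (.leaf (nat_lit 0x2100b8502)) (.node 1 (.leaf (nat_lit 0x2100b8607)) (.leaf (nat_lit 0x2100b8904))))) (.node 2 (.node 1 (.leaf (nat_lit 0x2100b8907)) (.leaf (nat_lit 0x2100b8b02))) (.node 1 (.leaf (nat_lit 0x2100b8b05)) (.node 1 (.leaf (nat_lit 0x2100b8b06)) (.leaf (nat_lit 0x2100b8c06)))))) (.node 5 (.node 2 (.node 1 (.leaf (nat_lit 0x2100b8d02)) (.leaf (nat_lit 0x2100b8d07))) (.node 1 (.leaf (nat_lit 0x2100b8e03)) (.node 1 (.leaf (nat_lit 0x2100b8e07)) (.leaf (nat_lit 0x2100b9402))))) (.node 3 (.node 1 (.leaf (nat_lit 0x2100b9405)) (.node 1 (.leaf (nat_lit 0x2100b9506)) (.leaf (nat_lit 0x2100b9602)))) (.node 1 (.leaf (nat_lit 0x2100b9607)) (.node 1 (.leaf (nat_lit 0x2100b9707)) (.leaf (nat_lit 0x2100b9c02))))))) (.node 11 (.node 5 (.node 2 (.node 1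 (.leaf (nat_lit 0x2100b9e02)) (.leaf (nat_lit 0x2100b9f03))) (.node 1 (.leaf (nat_lit 0x2100b9f07)) (.node 1 (.leaf (nat_lit 0x2100ba105)) (.leaf (nat_lit 0x2100ba106))))) (.node 3 (.node 1 (.leaf (nat_lit 0x2100ba302)) (.node 1 (.leaf (nat_lit 0x2100ba402)) (.leaf (nat_lit 0x2100ba503)))) (.node 1 (.leaf (nat_lit 0x2100ba507)) (.node 1 (.leaf (nat_lit 0x2100ba906)) (.leaf (nat_lit 0x2100baa03)))))) (.node 5 (.node 2 (.node 1 (.leaf (nat_lit 0x2100bab06)) (.leaf (nat_lit 0x2100baf07))) (.node 1 (.leaf (nat_lit 0x2100bb007)) (.node 1 (.leaf (nat_lit 0x2100bb206)) (.leaf (nat_lit 0x2100bb407))))) (.node 3 (.node 1 (.leaf (nat_lit 0x2100bb902)) (.node 1 (.leaf (nat_lit 0x2100bbb02)) (.leaf (nat_lit 0x2100bbf03)))) (.node 1 (.leaf (nat_lit 0x2100bbf07)) (.node 1 (.leaf (nat_lit 0x2100bc402)) (.leaf (nat_lit 0x2100bc503)))))))) (.node 22 (.node 11 (.node 5 (.node 2 (.node 1 (.leaf (nat_lit 0x2100bc507)) (.leaf (nat_lit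 0x2100bc702))) (.node 1 (.leaf (nat_lit 0x2100bc902)) (.node 1 (.leaf (nat_lit 0x2100bca03)) (.leaf (nat_lit 0x2100bca07))))) (.node 3 (.node 1 (.leaf (nat_lit 0x2100bcf03)) (.node 1 (.leaf (nat_lit 0x2100bd107)) (.leaf (nat_lit 0x2100bd304)))) (.node 1 (.leaf (nat_lit 0x2100bd607)) (.node 1 (.leaf (nat_lit 0x2200be302)) (.leaf (nat_lit 0x2200be502)))))) (.node 5 (.node 2 (.node 1 (.leaf (nat_lit 0x2200be603)) (.leaf (nat_lit 0x2200be607))) (.node 1 (.leaf (nat_lit 0x2200beb02)) (.node 1 (.leaf (nat_lit 0x2200bed02)) (.leaf (nat_lit 0x2200bee03))))) (.node 3 (.node 1 (.leaf (nat_lit 0x2200bee07)) (.node 1 (.leaf (nat_lit 0x2200bf002)) (.leaf (nat_lit 0x2200bf202)))) (.node 1 (.leaf (nat_lit 0x2200bf307)) (.node 1 (.leaf (nat_lit 0x2200bf502)) (.leaf (nat_lit 0x2200bf702))))))) (.node 11 (.node 5 (.node 2 (.node 1 (.leaf (nat_lit 0x2200bf807)) (.leaf (nat_lit 0x2200bfc04))) (.node 1 (.leaf (nat_lit 0x2200bfc07))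 (.node 1 (.leaf (nat_lit 0x2200c0306)) (.leaf (nat_lit 0x2200c0605))))) (.node 3 (.node 1 (.leaf (nat_lit 0x2200c0606)) (.node 1 (.leaf (nat_lit 0x2200c0802)) (.leaf (nat_lit 0x2200c0902)))) (.node 1 (.leaf (nat_lit 0x2200c0a03)) (.node 1 (.leaf (nat_lit 0x2200c0a07)) (.leaf (nat_lit 0x2200c0e05)))))) (.node 5 (.node 2 (.node 1 (.leaf (nat_lit 0x2200c1002)) (.leaf (nat_lit 0x2200c1107))) (.node 1 (.leaf (nat_lit 0x2200c1306)) (.node 1 (.leaf (nat_lit 0x2200c1607)) (.leaf (nat_lit 0x2200c1706))))) (.node 3 (.node 1 (.leaf (nat_lit 0x2200c1806)) (.node 1 (.leaf (nat_lit 0x2300c3604)) (.leaf (nat_lit 0x2300c3607)))) (.node 1 (.leaf (nat_lit 0x2300c3a04)) (.node 1 (.leaf (nat_lit 0x2300c3a07)) (.leaf (nat_lit 0x2300c3e06))))))))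

noncomputable def lvO0 : Tree :=
  .node 1536 (.node 768 (.node 384 (.node 128 (lvO0_0) (.node 128 (lvO0_1) (lvO0_2))) (.node 128 (lvO0_3) (.node 128 (lvO0_4) (lvO0_5)))) (.node 384 (.node 128 (lvO0_6) (.node 128 (lvO0_7) (lvO0_8))) (.node 128 (lvO0_9) (.node 128 (lvO0_10) (lvO0_11))))) (.node 768 (.node 384 (.node 128 (lvO0_12) (.node 128 (lvO0_13) (lvO0_14))) (.node 128 (lvO0_15) (.node 128 (lvO0_16) (lvO0_17)))) (.node 384 (.node 128 (lvO0_18) (.node 128 (lvO0_19) (lvO0_20))) (.node 256 (.node 128 (lvO0_21) (lvO0_22)) (.node 128 (lvO0_23) (lvO0_24)))))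

noncomputable def lvP0_0 : ℕ := nat_lit 0x4150026d002690026e0026700304004c900362002fc008cf006310081600300004cc002fe0035e0030d003050038f001f0001ec001f70065900492003640065800632001ef009040067100474001fe008fd00623006110071f002ba0070a007f1003c000893002830027c0055e00a91002820070b009d900a8d009c3002e6003a6007c900be2003b3003ac0054f0026a0058d003a900412003be003b2004190089b00758005500027a009e1005730072e009290055f0059100a17003ad00590003ab00414003ae003ba0018700184002e80057200569001270026c003d20018600a110074b005320018c00a4b005780092a003f70041b008530075700721007220018f00a1b00700003d0005350012a004170053800190009ef00545007140053c004ce00610006ef0049100b5800324008c2003030038c0036d00257008200099a0079c004780099d00815003230031a008ea00b4e00ad40098d0047a009950031f0060b0031c0062400b54001fd0061700ad000c010061800ab00081f00be80096100b56001fa00ac0004af001ed0066e0038e0045d00be900316008d5004a5005e9004640049d004700046e002ff004880066d00b01003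010064d004600049e0046500471004d000966006600082b0062800963007d3009be001f900951004a80082a004ae0046600463004c000468004d300b09004cb00462004730012f00b050085900390007480064e0045e0064c00477000dc005c9001fc006730031d0013400b06006550048a0060700132004aa00a250033b00b25004b4004d40085b00627007a30095b0065c0013d0080a0048f0060c00af80060a000de005180046f0046b00476006cd00992001350047e0061e0047900ae50047f00593002c20053100a92006f7003dc007e6003d900b7e0029b0053000443009d300281003b1002e400b83004260012800a89006a4003ca0091b0071300a8a00b8400889009100053a00a8e003d3006fb003ce009ff00b6300a700053d00b6100a6f00a820053e003d600703003d100a650027f00546005490019c00be10027e0053b00a0a00b8200a0800a6200b5b0052300bad0089700541008e000b6f003eb00bb00084800c3400bac0018d00bd400a64003ed00b79005e6004480076a00bae0026b0074c0051900b6400899006d500524002900084a003e40051a003df0052f003bd00502003a700749003cc003af0051d003e0005260059600baf0056a0051c003e3005970057c008a2005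4a00a6d0057d00849008df00abb00198003e6008b2003ea00a6300577005270052200402005290059c00589005210040800bb400534000e400a3a0096b0054c008a3004490074e0050b0074a007fb0056b000a4005420056800539000a30019b0076f00294006a70027d000e70075400554006fc00b9a00571000ea003e800ab9002b10097f00b5d003f100bc30059d0075b006ac006ad006b500a010075200a6a000ec0091e0055b007040055a00b930070100ba4000a5003b80052c003bf005e3003bc00a0e005e400887007ca000ed003c400540003c1006f300b99003c300b95006740060500234004fa007fd0060600ac60049c00612004be008f8003220049a0020f00afb0034300472004fe0037300389009940020e00aca0046c0025300acd00acf004e2000dd004e1008fb005170099000794004b200486009f00080600acb00afc0061400ac900afa0099300a240061500494008030048b00b3d0031e00af600af200aa0009600061a00a9f0095f00aa300b4300aa10061b004970080e004900080d00af00032000b3c00b0200be3006080048200aed00abf004810013e00c020020b00c310047b008f100afe008f000bfa0094f00a9400b38005f80032b00b0f00b0000792008d0007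7b0047c009f2007ec00aef0033000bf100b03007390073a00c1100b440013b001fb00c1900950003320033300b3a009a800c1f00336006ce004bf00302005e80086e00b1f00651005e700793007d4005f9002080032d005ea00328009620049f005fb006040030f004530085600484005b70031800469005ef00347005fc00679004a0005ee0032c00c1e004a40067a0065d007a2005ce009a600b42004b100b410013a0032e009bd00331007af00ac1004a700b390067f004c1005f50034b005f400c23004c500c1b000ac0085f0062c0082c009250085d005000085c0045500857005d3009060064f0090e00078006200064700613006c00047d0007a00149008730022100872006cf0020a00796000af0086000638008040063700b1b0065600c10009cc00a95003570033700be5005d600af90065e0065300af50064000add0080b0066a00c0b0007b00308006020030e00601006c70030c006cc008fa005160078500786006ca0061d00b30003110031000c0f00770006f8001c2005c1006f9002c70043a001bb00911006fa005610070d00587009cb003fd00a0d00a0c00533003da002dd002cc005480019d00b850029a00a09003bb005c600430004410042f00888001ad0029900a8b005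2d001d5001d6009d6009d7005ac000a700129005ab0071600a3900a100082200a120045c00879007e9007ea0045b0088600a83006fe00baa008980057f0093d0054d0063d003f00091a009d100a0700710009d000a06009d400ba9009d2007110056200917005550091600b75003d400bd200b7800b7100ba200717009a900847009ab00a1f00bb2009aa00bd00092100b90003d70028000ba000a0f0083b00b59003c70053600a0b0084c003c5009f5009c100b9c00b86001990029500c3d00a71007df007e000ba10083a0099f009a000a60006e8006e700288007cb00a1e0069600697007c40067e005df00900009f60028c0028b00b9e0063a00b9700b960019a00bd500c4f0028e00a6100bd10097800bdb00292006a9009e0006a8003b0006d3007750056c006d200b62007500019600289006d600285006b6009e2003e100a21006ec006ed0028a003c20039f00969005070096800690003c80069a0077600404006dc002a3006db00bdf003e500c4c008a100b920057b003ef00bd7008b3009c2003e70056d00b7a006e400be0004090058a00c4e000570071b007600072f000810076100728007290072700a3100759009ac0050d00a1c0074f0056e00a1a000590071c007460070e007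37007b400543007bd0097e005e5001a900291007cc0073600a5b007550057500bbe008bc002ad00b5a00c35006bb0058b00ba600ba8007410075100b8f00c4a006f2007c10027200274007c6007f50068d005e1005e2007060027500bcb00c4b0060900694006620082600666007fe00163006a20080000240004f30015c0037d00238008010064600819006680081800ab8004bc008f20037a00ad200aff00342004750038300483002460037b0024700ace002100033c00ad1004f1004fd00385004f0002260099100b530016c0016b008c7008c8000e0006860068b007f9009230090b00b04009240090c00515009190093000715008fc00ae6006f0003a50077400986006e6008de003a40098500b4f008070081b008f600afd00bff008d6008d400663008350062d00a2d00733004b30073d0081c008bf008ef008c100ac300bfe008c000c1400a2c00adb004950033d00bf600abd0060e00bf400c180093700c22008a4008a500c1300a160032100c0700c170090a0073000a9300b1900313008e300964008bb008f70079500338008d2008e2008b5008b600aeb0020c00bf300bf2006de00b3e00af10089c0094e00b26007eb00201002030079700909005b4006c5006c60059b00512006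b9008120020400aec00c150055600ae300ae20020d00c2e00c1a0020500b3b00c290087b00b4a00209005cb008cd005ca00ad30087a004c2007d0007cf00b510065000aa2007b0008ce00329004a100ad5007f300217007dd0032f008c4009a7007830044f0033500789007dc00b520034d004a600c2b007b6004b000c0900c33007b7004a200abe00bfb007e7004c600c3000c540004100648008680063900834008ac006430083300972006640065a00a96005d70065400b0b00b0d00845008b000621004ac008b9009ce0021e006cb008c5008430065b00b3400be40035500be600c0e004c700c1d00c1c0065200c0d00c55007f8001f3008cb008d1005ad00514006bf001f400c2f00c28006ff00913002d500790005b10010f0075f00738007630092e008300058200914001ce005c00010c00432002cd001c6002ce0092d009e700586003f9009f7004380053700b8700bab003c6002d60043e002d70043f003f2001c800424002dc001c700296009d800b7000442005a4005a50028d00a8c00bdd007aa0011100110007be009b70012c0077a00779007070090100823007f60082100bb1008100081100a1300a2f0045a005da007f7008050081a00a4400619009ee009ed0067800672006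00002f80087800a85005f7007d200a7800a840093200931007e400b7d007e5009c900b80007c800b7f007c70088a009480083800580003f30083e009c800bdc007b9007ba00c3f00aea003fa00b8c00b9d0084e009c0009fc0027600c3e00c5100a35007a400c4d00b980029800c4500c500063300a2e00b94007d6007db009bc007b50084f009fe007c30069800293007c5009c6007b1009f400b720029700b6d00b6c005f000a6700ba30079e00a4300bc4008fe00193006990084d004e8005de007b300458005d50019400b9f00c4000a48009ec00bca00bd600bd300bc50098800a8700a7b007c20050300504009de008db008da00a88005840057400a86006bc003e2009df00b88008ed002a6003e90088c008bd003ee008810088b008eb0040b00bcf00bc60040e00c4800c3c0040f00b7b00ba50056f00c3a00c3b0003100565009220055c00949007d90056300579009b5009470058100a5100b5c0057000bb700bb60095d0057a009ba009c5002ab007bc007bb0057600bc800bc000c3600bbf00c4200c4300c3900c4900189009db0084b00459005d900c4600c38008670080f00641008950060f00a2900a280024d00374003820037500693000ca004e60016a008440089f00665004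b600942004f40023a00167002450023900a41004bd00aa800aee0037f004de004df0031200c0300c20002420036b002410038600380004dc002510033900aab0036a0015e0015d0033f00aaf00aae00388004db0067d00b5500b50008ab006b2000c9000c8006c1008ad008700067c003a2009f30073e006f100b1d007180091f0070500b0700ae70091800ae4003a30050f0070f0070200719006fd0092f00b2800934008dd00264007690076d0052b005660097700987006d400b4800a4600b4b00ac7008ba00b4c006e2006e300ac50073f008e800ac4006c8006c90078700a5c004b7009390095300a9b006bd00c2500bf50034000bec00bf0006d7008e700af300c3200c56006ae00c1200bef00c2d00c530093300b1a006eb0044b006da008b100ab6006ba0095800af7006c4005b5005b60033a008b8008b7006b700ab500bf700b2c00aad0095600b4000b1600b27001370073c0073b00511006b80050c00c1600bf80094d00c2600c2a0098e0098c0044a008cc00902009ea004ab009e8004b80098f00b29004a300ad600b0a00a030035100788009540035400984008c3004a900b3700b2a00c5200c2c00bfc00af400bee00c0c00a38006e10049800a5d004bb008e600aaa004b500b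2e00b1c00c0400c05004ad00ab200952008a7006be00bed00beb00c2700bfd00c0a008f5008f30050e00c0600096007a700762007420078e00abc002d200a9a004280042900433002c9002d3002d4002c8002d100423005b200112001d400c000095c00583009a300a5300435001d3001bd001bc003fc00b6900b6e002d9004220059f00bd800c44002e100974002c0001c4001c3002da004200059a002e200b46003f5009b4009b3002bf001040010300a50009b60041f0059900bde00bea007a9005d10009200091007ab0076c002f7002f60045100aac00b5f0063e00625008f90061c00a360080c0060d00b9b00b6b0081d00a3000456007a10063f0061600802008090081e0062600a2a00a4500839001e9009070086d008580049900a790063000bc100a7c00a7d007ef009ca005fe009a4005f300a7e00b74007ae007da00a0000b60005e00068e0068f003f600a42009c4005d800bb900bb800bc900bc70083f009fd00c4700bbc00bcd00c3700a49005fa00393004ea005ed009bb00b760084000a6c005dd004e90063c009a2007b200a4c00b7300a4e00a6900bbd007e20063b005d40045400bcc00a3e00bbb00bce008830088200392007ee00a1800adf003fb00a54003f400a5f00a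4a00b8900a19003ec0083d0083c009af009ad00b6700a5e00c4100ba700b8e00b08003d8007e3003f8009f900a5200b6a00b6800b8a009fa009f8007a500b6600bc200b7c00b8d007e1005cf00b8b000cd00667008a8008510069d004b9009c7003770023d002440023c003710036f0038a004e700250003780023f00236002350024300369004d7004ed0016d00bda00b81004ba00a9800aa90023e001540015300b2f00b2d00368004d600c240025a0086a00a760022e0015a0015900367004d20025400a7500b650094c008aa000be000bd0093e004d100c2100bd9006b10050900068007230067000263007f20039e00218004c4007e8005ff003cb0046a00b450055900a9c008a000547009dd00a020053f009200091d0071200b1700b3500935003a000553007200075a00735005640054400a0400915007530071e00b180072d00a1400a150096a0055d00a9e0070c00b1e0097c0097d006ea0090500a9d00528005af0052000b1200b1100734008e900513005ae0073200a9900a9700b2100b1000b2b0095700c0800b3200be700b22002eb005250042b005580093b00ab70095a0042a005570089d00b2000b1300b2300b33006df006aa0050600b310092b00b1500b36007810093a006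f40090300a1d0033e009410094000aa70094b00b0c008e500731008a600aa500bf900b3f00ad900341008f400ab300ab100aa600ad7008e4006af00ad800b2400ac200adc006e00050800ada0011500b4900585009ae008840036c008d3005ba005cc001da0042d001c0002ca002cb001b3001c5001e5002bd001bf002c6002c4002ea004440042e001d800ac8001c1001b9001b8002be0041d001d900b4d00acc00a4700a33000fc000fb00a4f0041c00bb500766001df0097300aa400101001000041a0098000b4700837000890082d0058e00bb300b570062e004870004b007ff0058f00410008ff002f4002a70040d008ec001a2006ee0044e000ef001a30040a006e5002a20052a0022b00400000420001100a720049600ade0048e009a500863006360048000ab400ae100a2b00a340062200a5900827004500049300ae0008290065f0064500ae800ae90085e0064200a4d008170092600a740061f00a370011b000e30087100a2300603007f000a7300467004e40063500a3d00a2200841004e300634009a100a3b00bba00a6800b9100a5700b5e00a3f0046d0025b003700048d00a3c008520048c0079f00a5600a2600a4000a5a005f1005cd0020200a58000f8000e5000e60082f006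8700836007fa0029c009b90082e009b100a20007d7007a6009e400b7700a6b009e6009dc009da009b8009b2009e3007d8005d0009e5000ff000e9000eb005f200214000fa0000c001710017200a7a009890097b0088500782005a800425002b7004ec00505001810037200156009b000157002370025f0022d0014d009cf0015b0017c0022c00233002310025900391003950017b00a81009d500151001500036500a7f00a8f00936000b80093f004cd00b0e00175006750087400a77000bb0036300a800072b0006300912004ca0012e00a900054e002730003e000d10012d0035900353009f100141007ed0039a0035200358009e900350002190034e007de00215005fd001be001420034c005f600346000170002f009670052e0096d003d5009fb00a050093c0096c0056000a55009eb0096f0071d009460092c001a1003db00a6600a6e0075c0074400a320096e0071a009710014e008130097000176000aa007250076e0090f006f5003b400427005520092700745005510089e0094300b14009590013300945000ad0014f002c5001e0003cf00928009380051e006ab00944000b600131000ab0051f00287000b7007240072a0090d008ca008ae008a900965006d8006b0008d8000ba001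39000ae008c9008af008d900138006d9002a1000bc0029e0035a0012b0097a0098b009790087f007840098a0068800997004e0003600044c0044d005aa001250004f00050008c6002ed001de002ef000fe0097600975001ba001e3001b20011a0078f0098300120002b9008d7001e1001b6002e90011f009810099b000f9002bb00998008280008600a27004160018500771005a0009820009d00413009990062f0005300099001830099c0030a0009a002b0002b200aba002af002b3002a5008e1001a0006e90015f002ae002a80040c008dc002a9002a4006dd0029f00020001a400403000220002100908008550085a0049b0032500955008ee00861006440094a008640082500866001b4009960099e0095e00862008240091c00865001b50007f007080007e0062a007fc0064a0036e004890081400842005eb007a000831000870018b00080002320031b008320018a004610032a000850032700629007a800850007bf007ac007ce00195005ec0034a00088007c0007ad0009000345003dd000df0087e0086f0087c007800068a0087d0088e005a900890003b5004ef003940039600180000da0006b0003900894000cb0006d0006e007cd0086c0025c0025e00174000d5008770086b001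790022a00695004f700876000d60035c0089a00177002580087500891000d20035f0088f0072c0007000071001eb006810088000072001ea00892003b70006f003b6009cd0022500220002240034f009bf0022300216007d5002120002d0021f0021d00222004c3007d10021b003480002e000180021a00016007f40074d005670088d008460075600743008690075d002300005e00896008540075e001f6008080005d0006c0054b0070900740002c3003cd00726001f50051b003b9000620027b003aa00061003de006b3006d100206006c2006b40006700401006c3003fe0079800326000a60076b0077f007770078a00689005bc007780078b00306003090043700436005b300768002ec002ee00124005bb00028000950004d000970079a00113001cc0009400098006d000767001e2001dd0077e007720011d002b6005c2007730009e00266007990011c002e70077d0078d0009b002650078c00307000520077c0079b000510030b001ac002ac008be001a8001ab00406008b4001af002a00003f00010001a7001aa0040500040001ae0000f001a5006f600657006490079100747006610027900764000440079d007650004600093004850062b00277003190045f000470035d002fd003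5b005db005d20004a005dc0038d00397004f8006800069b00284002860068c004f50066f006840067b006910026f00685006920027000379002520001f001620016e004ee0066c0025d0017f000370016f0069e000cc0006a000ce006a600168000c5000cf000580066b00178002560068200676000d4002fb00683006770003a0069c000d3002f90069f006a10003b00271006a0002b80014800356007b8001440014700349000560014b0000a001460014a0000b001430064b0057e00315006a30066900033000c7006a5000c4003c90050a00035003a8002b5002b400510002e5002f0001d7002db00592005a60059e005b8001ff005a7005b90020000114001cd005bd0044000598005a3005b0001f1005bf001f2001180010700106002e30002c00121004460058c001e4001e70004900117005c80010e0008e00116000760010d0010900008005940011e0039c005a10059500029005a200108005c3005c40002b005be0022900228000f30040700077000f2000f600007000f0000f5000f1005c50058800025005c700102000f4004520025500227004570026000160001610024800384004d5004dd004eb00191004f600192001690024c004fb004fc004da004e5004f200188001b1000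e2000c00038b0003d000d700501004c80017a002f500066000e1000a2000c6000c20000500164000b3004d8004cf0001d004d90015800145004f9001dc001b0000b2000b500004000b4000b1000c1004ff001520013c003a1001db001e6001ca001cb002d80043d004210042c004340013600155001d0001cf0043b0043c001a600431001300014c000a90009f0044500055000a8000db0041100418000150008f0008c000030010a000830008d0041e001b700197004390017300084000820008b004470018e0017d0017e0024a0024b00387003810021c00376000e8000fd0024f00165000690037e002070037c000f70007d0007c00126000750007400002003610022f000c30005f0006500366001f8001190006000064001ee00123002e0002df0004e002de002aa002cf000b9001d10004c002d00028f000d00005b0005c00001000a000045002bc002c10010b0004800278000d900054002680024e0003800249003340009c0023b001660003600314000a100043003ff000d8000320031700034002fa0003c001c9001d20002700399000790012200398000260039d0003000344000240039b0002a00170002f10001b002f3000230001a002f20001e0029d0001c0001900012002610001400262002110001300213001e80019e0000d0000e0019f00182000090013f0014000006000ee00105000b0000bf0008a000730005a00000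

noncomputable def lvP0_1 : ℕ := nat_lit 0x62e007a8007ce00629005ec0072a0072300912008d800727008e70089c008a9006b1006d80054e006ab00724005a8006b3006b40051b006fd007340072b0092f006d7006d1006d2006b2006aa0054b006b6008b100b16007d60062f00a43007cf0079f008000062a005eb007da00605007fc0079e005d30060600637004e0009e600834004ce0068700a20009fd007ac007ab009e4007ff00a26008360082d00609008050083f008310062c00a2a009c00099f007ae007a9005e7009b1005d1007d7004870082e005cd005db005dc0068800a4500bc1005b80085000841005d2005ea007d200a3e0045f00608006160083a00636008370081b0081a00a2e006330062b005e8005d500634005d40059200bb300bbd00485007af009bb007b100a4c00c2100b27008db008e9005930076e007370090d004ec004cd005a9008e2006f90091300b13006f80094e0090f00943006db005300054c005330089d006fa00552006b800551006da006f70070900ab50050b00569006b7006b5008b5005380054d00531003cd0055400553006c2006c10042500ad900417009450076000b1800af400b0c00b1e00b15007810096500957008ad0051a008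ae006d400aa50070c0094b0092b0093e006fe0091800730009330057f00abe00a9500726009160091500a930072000aa7008e5003cb00941008aa005190050900731005060051000524006e600782009320098700b3f00b4800b23004eb007420074000b50007450050a006d5008dd00b100094d003a80054400950005600053b007120094c0077400b1a005ad007100070f0057e00512005ae005110051d0050c004d500b0800b360090300b330055c00587003c900ab7006c400b20008b20093b00bde0041600bbb0067400bc500871007dd007f0006730085500bce0042d006470064a007fa0044c0064c0041c0059e004be00a2900a57009f6009f4006120045e0081800a6100a4e007fd00a22009ec00a3b005ee0046f004b2007b2004760048600472009a2004e4005de004e30061500489005ed005fa00657006100081400b730045300477004840048b0047900a190049d00666005dd009c20062700829004a5004b30061100470003190047800494004930048a00a380036c007be00464007bf005f700b8e005180066200b7b00b890086600a2d00a4d00ba700a370088300a400085100a6b00a8400a68009b900b670061f00a5f009b6005e90063000a5e0081700a5000a300068d00a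49008060081d00733003e7003e8006610085e00b5a0065f0080300802003f4003ec0052a003fb009b4004510083d0044e0045d0045400457005f8007e900bcd007f5008840087800bc200a780087b00a790042c00a6c00a7c00a69004340064900a8c00644006410084200452009ee00bb900a48007d300839005c700ae8002b100aba008880047e0062200617003f50045a005d90045900bbf006790067800614005880067e005e0004e80068e0046600458004600042100a58007ee00a5600a5d00a5a0049f00498004bc00639005c50048d004e90048c007c2009be00a3c0082a00b5500c2a0035f0037100b3b00c260076f0097c00b4000b45006ed006f5006ea0074d007490096700b31003770036500372005610056700568006f4003940056b0074a00368004dd004d6003e1003d8003fd0092e00b3500b320033100aec00542003a700aad00539003cc0070d0033200b2c00b1200ae300b210091000927005260051c005e30063d008b8003bc003f0003b8003ca003bf0033a00528005b400513006c500597004270053a003e40053c00bf8005250054a006fc0042b0064b00572007560070a0055700690003bd003c800532003d4003c3003ce00ad600971005e6003df0058200729003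f20042a0032e008ce0057c0075c007210084a0083e003f300573006a4006a3002c3003be00b7500a66003db003d3008fa003ac00946009220046a008ca00bee008c7005230052b00c0c00830004a2004a30075d0096e00bfc009700093d00a9e0098f0098e0093800b240098500b220095c009590033e004a9005f6004b800aaf0055d00b370071a0054f0072d0033f0050f005140050e007850091b00935007130066900a320035700a6e00be60075400753006fb00339005ff00351005fd00788003a60039e003a9003a1008fc00c120090a006e7006f0004b9003a5006af003a400c27007750097700978003760095800b4c009560095d0095a00381007b800226009bf00991005650074300738004ff00715006bd0055600c25008e0009340072e0022100b99009f10071d00545006be003af003a30076900596006c80059c0059b003a2003ad003870051f0044a0051e008cc00947009440094900a21007e3009f7003f900563005b50053e003cf00928009290028d00bd3002b6002c900bd6002bb002c6002e70028e00bca00a7e00a6700b5f0087200a72005fb0060400bcc00603002ed002e900393006f60064e0085a00856005f1002d2002be002ca0041d00ab8008be0049b0049c003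92002ee002ec0090e0064f002d9002d8005a600422007c50032b00328003380032d003410033c00ad5004a1008f4008f20034300b9f002ff0082600b9b00a0f00bbc00a5c00a590028c006c0005b700b6d0047d0031800620004880061300297005f30063a005d800b9700a2500a3d0081500607004d40046500293006cc0073d006c700336003160030c0031a0069600468004670036e004d0009620033d0047f0046d0063b0030f0083500370004b10065600628007480074700861006580079400789003350047100bf600c0f003100031e003e2009df0086500868006ce00942004b60066400aab004b50028900b420095e00862006600095300951004a8007910079c003620099600b3d00323009d60030300864008670082c0080f0029c0056f009d80049900c3a0046b00600007640091c0040f0070800c360085f00a74009a80058400a880082400852005d00045b005cf0088600a4100a3f0084400296006e50040b006dd00bcf004910064200631005e100463004560082700820002ad00b1b00ae90085800655002a6006ef006ee002f6002fc002cf0084f00bb10084e0044700821007a400a3500c4d007ec007f700601007a500302002f80086d0086e002de007b5007e4005f000b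dc008430084000845001ad006e1008b40082500648007b90061a006190081e0081f001a9008e100ae500623007bc002f7003010066d007c800672004d30030000503005d700461008320083300ad300aee008e6004bb006990031b0047a0081600c160023a00b070096400b1d00205006a60024d00c2e0022a002360025600233002580020d006e2006de0073e00b3e0097f00a9c0096800391004490052f0052e006df0022d002eb0025e002590025c007fb007f40096c0074e002430023d0023700369009cd009cb003dc0066c0025d00a1a0056e0024800242004de00209007cb006a9002900028800292003f80028b00295009c6009e2003e6009de009dc00b700029a00b880056d009da00a090029b0020400bf3003c2005020026c0071b0072f0070500937006ae00b0300aea00b17009480020c007bd0069a007b40027d003d200543005500073900521005200093c0092a005710073c0041b003b20084c007c9007c6002740027a00793003b4003ae00419009e000b9d00b95003eb002c5003ef00898002910028a007630096f0076100bd700bbe005750057d0084600853007570088b00889003e300c4b00bd20027e00329008080075e0075f006a800a5300a5100581009b300b6a005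76002010085400a6d00758009c400a63005770088d00893004120089600a8e0028200ace003b100869007a70075900762008a300210007e8004c600c30003d9005660052c0035500a31008130096a0096b004c2007d100b5200744007460051600537005080092c0092d0034d007e6007de0071e0055e006cb003a0003ab0071f0021e00a1500b9a0074b00217007f2007f10026900249008ba0092300a9b00c22007410073f008a4007160091f00719006f3008a7002640026b0076a008bf006bb006ba007350073600149007d5007d90071c008c1007020053d00714007ed009ef0055f002630026a0058d0076d005910026d005cb003aa0050d0072800b6e009f90057a0027b003c00070b0019400bd5001b2001ce001bd001e700810009c80082300a7100a1600a360019a0079a002d3005c8001b9001b6001dd001e1007df005f40063e009a5009a6002ea007e2003900046e0025b001e3001c5001ba001b300a340076700766001de001e2008ee009060085b001c0001c4002c00099e00ac600324006520058c001e400b0d00653001d7001c800424001930019600795005ca008d2008d50079700203002080033000ab3004ad008cd00c1500bf20020b008b700ac1004a700aae008ab009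02008c900ad10020f00b0a00bfb00acf00afb00b8600199008c40031d0032f0020a005c9008ac001fc0064300668008470060e0060d00a2b00a2c00796008c2008b9004ac00492008490048e004620082b008d400c10004a4002320036400304008d0008d1008cf001f90032500305004c900bf000bf1004ae00c33004a600337008c5008d60032c0065a006650094a009720086000be400b41004b4009550095b0065c008c3009930049e00c2800c31001fd00285007650089f0066300aa900b2e0065b00aa600bed0079d009660065900abf00b39009950099a0099d00b540019d003220046c00a96008a8006670085d00be000409008f8008f9006260049a002ab00926009250085900404008dc0064500646005e5004500047500819002a3008ec008ea00624002f4002fe00632008ff00b060064d0090700904001ef001c9009ca00a1e00b60009a9007b6009a40063f00640009ab0080c0080d0061e001e9001ed0066e009d1007a1005d600638006e9008b000621008090060b00618008fd00ab0001ec001f000671004cc002fd004550062d00ab100ab20030d004740090b0090900ac4001630013700b440013b00894001500014d001510016700501001540017f008ef0070600718009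20009210023f0089a0069e0017400177008f1005590055a008a20017c0086a0025a001e0002e8003b30086b0017500179001570015b0022e00180009eb0091e006750066b00178009fb00a0100752001560015a0036a00a9200b7e0075100c39004c80017a00bb600ba80016c0015e009b20013a0088a005040089700698007c40084d008990019800b9e003ea009b8009fa00b6c007b3007c300c4000c3d0019c009c100b7a007c0009b7007aa00a18007ef009d700b8500ba500b830013e002810019b007cc009d30088c003e900294007c7003e5006a7009b50057900586009600053f0053600917007ca009c5009c3003f7003d5003d00072200c3c00c4c0056a002ba004150084b009e10018f002830026e00b9c00b6f005740058500bc600c35003f1007bb009d4003e000b5c009a30058300a5500a5b0075500bc000bc30057800a6500a6a009d200a8a00c3400be1006a5008380058000b6800bc800b660089b00a4b00b7800a8d00a9100a0c003da009ae009ac00750004c1005640034b00a0200a0d0054900a1400a3a0074c00347009e9009e7005620039a003bb0070e00a04009ff00546002670027c00a1100baf00a1b00a1700b0f008bd00a9d00aa0008a0008a10055b0091d007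030054100184001870075a006ac00555007c1009ba0070000535009d900186005900039f00507009f8003ba00445007f8007f600b800010c000ea00983000ed000fb000fc001c10099b0078f0011a000f900120001df001d300446001240012700a070061c0061d0080e001d8005bb007990011c004960048f007a30097600973002e2002570038f001250012900771007720011d000fe00101002bf005aa0012800ab400add0080b005a0005940011e00af000af5001000010400b580012a00c0d00c0a004110041800c1c00111008af008d900adc000ec00992007870044b006ec005b600792006c60073b009630013d00aeb00aef008e4006bf006c900bf700ae2006b9008b6006eb00c1100c0200abd006c3006d3008c8008de0090500acd00af300c0100aca0020e00650006cf004ab006ca00954009940033b00c0e00c2b004a0006cd00aaa00aa8004bd004800047b008040095200ac0004af0031f0031c00c1400c1e0035e0096100ad4001fe00aed00b2900989004ba00b2a00be5004aa008c000acb00b1c00a98004b700b3000b3400be300b2500b3c00ac900be8007830093900beb00ad80098d00bfa00b5600b4e00aff003420097b00aa2006510040200ade0049700ae100af6004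8200b0500b1f00ae000adb00495003080030e00af800af2001f700b0100b0900b6400a73009a700863007a2004900080a0060c0012f0065d005ce008cb0060a00ad000134004cb0044f008f3004730038b006f1006f200afd000ca009dd000af00a8100876000d5000d600a8f000b8001810023e000da0017b0069500891000d20087700874002540016d004ee0038c000dc005470054000704004f70069c000d3003d6003d100a7700a75002e60068a0068b000dd0068100676000d4000bb000be004ef004e1000de00b7100b8f004d8004cf00ba0000bd00be20036d00c4900b8d0036100c50000c9007ad007d0009e5004c300218007f3009ea00b9100a1d00a890068f00887005e2004ea00500005fc0063c00697005df00b720084800a70009f5007d800bb800b94005da007ba005fe00b76005ef00b96009ed007db00bb0009fc005f9007d4007ea00a0000a0e00ba300bad00a8b0029900a860056c005e400a54003fc0083c00a64003ed00c3f00bdf00a5200b69003fa003c4003c100a6200b790027f00ba90041400a6f0019000a080087f00a4a00a47003f600b5900b5d009d000a3300a4200bcb00b5b00bd400b8200b610088100c3800b8b00a8200ba100bac00b6300bab003c700a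7b00b62004bf00a0500b90003d700b9300ba200bae00b9200b8c0027200ba40018c00b8400bb40096d009690075b006ad00701000e40057b009db0053400a0a000e700589003ee007e100408002e3002e4006250060200ad200b0e0008100112000960043700b4d00773009810011f0077c0077e000a60009d0009e009980008600784001da001d9005b3000a3005c20078d0009b00982009800043600443000a4004810047c005c3005c40032000b470038e00779005bc005ab000a5005a100595000890042f0042600bf40041e00c170009100be9002c200c5600c08002bc00c1a0009200410006d6006d90040c002a7006dc00405008da00ada000f5001aa001a2008ed0029f00adf001ea0040000038001e800990005af0052900732007860051500bf5005580059d005270073a0077b00ab60095f008e3006e000b110052200b1900ae4006e300abb008df00ae6008e800b0200af1006e8008fb00af700b00001f10026000b53003330098c00b51005170094000b2f003400094f00b3a00bfe00b2d00bec0031100b38001fa00afa004c000b4300135008f00093a007800093600a9900a94008f600a9700c2f00aa100c1900afe00a9f0098400c06001f600aa30022900227002550032100c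2000c1800b4a0090800af900c0700c0b00c1f00c09001f300c1b0013200afc00c230085c008570065e0066a000ac004b0008f5004c5000290010200025003540002e0002b00182002520037900253005480052d0037a00b8700c4400bb50018300bda000cd004f800a7f006770007b0068300875000df00880006a00007a006820068c000720088f000700087d0088500172004f5004fe000780069f006a100a8000389004fa003c5004f90028000bd900448006850067d004f0004e2004d9000630037300c3e0036600c4f00068002e50023400c470018a0023b00188002f00035900352009bd0014a007b0005f20035800353005f500350002220034e007dc00348009e800266001460021500a0300346002610002700a83008820045c006350067a004690083b0087900b740061b0067f00822009bc00a1f007e00004000a2300a24009f000a2f007e5009f200a12009fe00a3900271007eb00a100026f001e60029800bdd00bd100a870082f00a4f00bc900a6000b7d00bc70027500bd00018d00a060003500bb20013c0003b0082800689009a1009a000a0b009ad00c46009aa001b0002b5001db009af001b5001dc00c4500c5100bdb00a1c00ba600c4a00baa00c480018900c4e00158000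33001520074f0058b0058a000c70040e000200001d000220012d002db001d5002dd001d60048300438002cc00c03001bb00c240012e00b49001150059f005a70005c0005b000590098b007780012b005a2005ac000a70077d0077f0079b005bf005c0005c6005bd00053000570078a0078c0098a0044000441005c1005be009990043a0031300439001fb00b570004a005a50059a004300043c0004b002c700c32002d00014c0038d001c20013100130002af002b200ab9002b3002b0002a9008b3001ae006bc00058002a5002a80040d006e4002ae002a4008eb00403002f3001a7002a2002f10001b003b000b4f009860097d0072500711007760093000ac5007170090c008bb00b040005200911007700091a00919008f70090000924003070017d008fe0017e00c2d00c2900b4b0093f00b2b00b2600ac300c2c001f400c1300197000470018e0072c0089e008a50035d008a60014e001730017600c5300c5500bff00b0b00c1d00c540004400c52001be001b700654004c70001500017000e300384002460016b00247003c6004df0037b0023800bd80015c000e6004d700a7a0017100680004f60007500043006a2000d70007c0007d00041000e00087c0087e00692004fc004f100686006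8400892004f4004e7004fd004fb0003e00694006910088e00385004f3004f200a900037d002760037c0020700067004dc003830037e0040100240000f8000f7000e50087300225002230022000219009cc002240021b007b70021a0007900216002120034f004c4007e70021f0034c00399000120021d000140087a00a8500a7d008010081c00a44009c9007f900a1300071001ee007fe0080700811003b900812001230012600c3700bc400b7f00a2700bba00b980006200c4100202001f8007a0007a6001190011b00c4300c3b0005e00bb700c420022f0022b00570000110010f000aa0043d00110002d6001c7002ce0031200423002dc001c6000b7000ab004440042e004350012c009790097a005b9005b20003000055000a00009f0079000121001cc000a8000a9000310077a007770078b0043e005a4005a30099c00433004420043b0034a005b1005b000997002d7004320043100088002cd002870028f0043f002d5000d0000b6001a8001a00097e001af001ab001a3008bc001ac001a40009c0019e002a0004060040a00334002ac0000d000100098800b2800ac7009140093100ae7000870090100268006ff00707000d9000db00be700bef0008000b1400bf90027800273006b0000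d100c0500bfd002c100c04002b70000c0038a002510016a0007e0007f0037f00378000c8002410015d00239003270036b0024500085003950039600023001680016e004ed008700086f0069b000d800162006930003d00074000c0008950016f000e1000e2002aa0067c0067b0089000380004db004da000ba0038600388000a1004e6004e5000ae0037500374003140032a00382000990014400141009ce0014b0014700142000b9001480013f0034900356000090000a00a4600b6b000ad00a28009f3002fa002f50060f000a200b5e00b7c0031700b770030a0009a00b8a003600035a00768002ef00bea0097400b4600c000006c002e1001d40005d0002c00113002d1002cb00103001c3001bc003de002d400061001180010d001090044d00122001cd005ba0076c0076b007980010b001070078e000490008c00106000fd0011700116000060059900598000e9004200041f0039d002da00076004290042800398002c8003b70006f000f2000ef000e8000f6000f3000ee000f0004070000700a9a00aac0039b00abc0039c0007700ac2003b5003b600ad7003dd000cf000c50086c0025f00b6500a7600b8100093002500004600037000cb0023c002440015900153002350035b00051001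600016400505001660024c0069d006700066f00138000c3001610013600066000c2000b0000ce00004004d2004d1002f200367002fb000560036f003060030b000b4000b2000bf000b5000b100005009c7002f900315009e30030900326000980009400975001e500aa400acc00ac8000c40003a0004d00097001bf002bd0003f001b8002b4002b8001ca001cf005cc001d1001cb001910058f0058e002620008f0010a0008a0008e00082000030041a0026500279002c400270000840008b00083008d30027700286002840006e0006d009b0009cf0002d009d5000f4001080006b0006a000020022c0023000231002280024a0024b001ff0024f0016500073004ca001eb000c6000640005f00363001f5001f2000600006500206002000004f0005000001008c60015f008d7001450009500045002b9001b4001b1002df002e00005a001d00005400413001850010e000480018b001920004c0019500039003ff007cd001a1001a60035c000cc000320014f001550024e00042001690003c00133000340013900036006d00002800344002140021c00114000fa00024000ff001d20002f0002a000eb000260001f0029e0029d002a1001700001c000bc0001a000210001e0001900213003450021100090000160001300018003fe001a50019f0000e0000f0039700140001430000b00105000f100008000c1000b30008d000690004e00000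

noncomputable def lvP0_2 : ℕ := nat_lit 0xc4200c4f00c5000c4600c4900c1900c5400c5500c1c00c2a00c1100c0e00c1a00c5200c0a00c1d00c5300c0600c0400c3200c5600c0d00c3300c3100bfd00c1400c1500c1700c1600c2c00c2d00c2f00c2e00c2800c2b00c4000c4300c3f00bd300c3700c3600c3800c3900c3400c4d00bd400c3500bd600bbf00bc500bb700bb600bde00bb100bac00bad00bb000c4700c4e00ba500c4a00c5100ba100c3b00c3a00c3c00c3d00ba800bce00c4c00b9600b9400c4b00c4100bcc00ba300c4800b8d00ba600b8b00c4500bd800c4400b8a00ba900baa00c0000be200be100c3e00bd500bd000bd100b8f00b8e00bd700b7200bd200b7c00b7b00b9c00b6c00b9e00ba000b9f00bc700b6600bc900bea00bdb00bdf00bcb00bca00bc000b5900bc600bff00bfe00b5500be800c2200b5600b5000be900b5700b4900c0500bf700c2700bfc00c2900c3000bf500bfa00bfb00b3b00c1200b3100c0c00be700be600beb00b2b00bed00be300c2500b3c00b2a00b4000b1d00be500c2600b1900b2100b3300b1a00b3400b2700b4100c2400c2300b0b00b0a00b0700b0d00c2100c1e00b0200b0000c1f00c2000afe00c0100c0200c1300b3e00c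0800c1b00af300c0b00af100c1800bef00bee00bf000aeb00bf200b3600ae600ae400af500af400c1000ae200c0f00af700adc00af900ada00bf900bf800c0900ad800c0700c0300b4400b4300ad700ad600afa00acd00afc00b5300b8100b8000b5800ac300b5400bf400bf300b3800abd00b3a00add00b4200ab600b3d00ad900bf600ac200aed00aae00aef00abe00bf100af000b2d00aa600b2f00aec00bec00b6500b6400b4a00a9f00b5100b6000b4800b3000b1c00a9400b2900b2c00be400b7f00bda00bdd00be000b7d00b8200a8c00b6100bdc00a8d00a8700a9000a8400a9100b6300bd900b5f00a7a00b4600a7800b8900b8800b7600bb800bc200a6700ba700b7400bc400bcf00b7800a6000b7a00a6100b9b00a5800bba00bbc00a5600bcd00b5e00b6800a4f00b6a00b5a00bc800bc300b5b00a6500bb900a6a00a4a00a6c00a4900a6900bbd00a5700a3900a3600bc100b5d00a2f00bbb00bbe00a3d00a5a00a3b00a3000a5b00a2e00a4500a6d00a4300b0f00a1c00bb200a7100bb500bb400a1800a1600bb300a1200a1000a1a00a1900baf00a0e00bae00a0b00bab00afd00b8300a0600b8500b9100a0000b93009fe00b9800b9700ba4009fc00ba200b6b00b6e009f500b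7000b6700b9d00a5d009f2009f000a0100b9a009ed00b99009fd00b9500a03009ea00a05009e800b7700b92009e500b9000b7300b8c00b8700b8600a6f009de00a70009e300a08009d700a0a009df00b8400acc00a89009d000a8b00ac800a92009c900a8e00ac400b7e00b7100a62009c100a6400b6d00b79009eb00a6e009bd00a66009bc009e600b75009e4009c7009f8009b8009fa009b7009c200b6f009c0009fb00a52009b300a54009b2009f600b69009f400aa400a7b009aa00a8600aa000b62009a500a9d00a7900a9b00a5500a33009a100a47009a000a5000b5c00a4e00ac700b4b00b4d0099700ac500b4f00b5200ac90099000acb0099100b4e00aa10099500b4c0099a0098c0099c0098b00999009870099d0098500aa300b4700a9c00b450097a00a76009790096c00a730097700b0c00ad300ad500abb00b1100b240095800b2600b220095600b3f00ab900b2800abf0094f00ac100b3700b39009500094e00aea0094700b1400b170094400b3500b2000b3200a9a00aa90094000aab0093f00a9500b2e00a930093c009430093a00b2500b230095700a970095500b120095b00b10009360095d009350095a0093300b180094500b160092400b1f009210092000b1e00a35009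7000a990091a0091900b1500b1b00b130092a0094900971009270091b0094a0097200918009320095e009660092f0095f009640090e00a1e0090800b0e0090500b0400b0300b090090200b0800900008fe0090600b06008fb00b050090300b01008f7008f600aff00acf008f000ad100a0700afb00adf008ed00ae1008eb00ae700af8008e800af600ae300af200aac00ab1008e400ab3008e300aa700aee00aa5008ee00ae9008df00ae8008de008e900ae5008e700abc00ae0008da00ade008d900ab700adb00ab500ad200961008cd0096300ace00ad4008d3008f3008c9008f5008c8008ce00ad0008cc009d500992008c000994009d100aca009cf0099e008bc00996008bb009ca00ac6009c800ab400952008b700954008b600aaf00ac000aad008b3008db00aba00ab8008d8008af008b800ab200ab0008b5008ab008e500aaa00aa8008e2009b00097b008a600989008a5009ab00aa2009a9008a2009a70097800a9e009a40089e0094100a9800a960093e009ce00a7d00a810089000a8300a7f0088e00a8f009cc00a85009d200887009d400a8800a8a00888008860088200a8200a800088f009ad0088d00a7e0089300a7c0087f008950087e008920087c0087b008960089b00878009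af00a7700a75009a600a720087000975009740086f00a2700a2b00a3400865008610096d00a740085b0085a009690086e0086d00a230084f00a20009e000848009e20096000a2100a2400a410084300a4400a3f0084000a6b00a4800a6800a46009c40083c009c60083b00a5f00a6300a5e0083f0083d0083a00a2800a2c0083300a5c0083200a3c00a5900a4c0082f009a200a5300a510099f0082b00a4d0083100a4b00828008270093700a4200a400084100a3e00a25008460085300a220082000845008520081d00a2d008340086600a2a008120081100a3a009230080e00a3800a370091f008670091d0080700a2900a3200a3100a26008680081500814008690080600805008540081b0081a00a1f0084e007fb0090b007fa0090900a1d007f300a1300a1b007ef00a0f00a17007f400a15007eb00a14007ea007f000a11007ee007e7007e500a0d00a0c009da007e1009dc007e0008f100a09008ef009f300a04007dc00a02007db009ee009ff009ec007d8009b4009f9009f7009b1007d4007dd009f1009ef007da007d0009be009e9009e7009bb008d700897007c700899009dd0084b007c40084d007c3009d8009e1009d6007c0007c5009db009d9007c2008c60088a007bb0088c007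ba008c1009d3008bf007b7008bd009cd009cb008ba007b3009b9009c5009c3009b6007b0009bf007cf007ce007ad009ba007b2007b1007aa009b5007d7007d6007a6008a7009ae009ac008a4007a3009a8008a1008a0007a0009a30082e0082d0097d00798008d400792008d60097e009830078e00986009810078b0099b0098a0099800988008c300787008c5007860098f009930098e0078a00788007850098d007800077f00984009820078c009800097f007910079c0097c0077a007900079b007770079d0077500774009760097300968009670086c0076c0076b00914009170091e009280096f0075e008630075d0096e0075f0075700756007520085c0096b0096a0074e0074d008570076a0076900911009300092c007410073f009650090d008d00073b008d20073a008490096200847009310092d007360095c0073500934009590094d007320094c00953009510094b007340072c0073100730007280092900948009460093b00725009420089d0089c007220093d007270072600939009380071f007440071d0082300748008210092e00737007450092b00747009100090f0074600713007120076000916009150070700926009250081000704009220080d0080c007620080a008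09006ff0091c0091300912007630070a0070900764006fe006fd00765007100070f0090c0090a006f6007f8006f5007f6006f40090100907006ec006eb008fc00904008fa006e8006ed008ff008fd006ea006e4008f9006e3008f8007e4006e0007e2008f4008f2007df006dc008e0008ec008ea008dd006d9008e6008aa008a9006d6008e1006db006da006d3008dc008b2008b1007cd00795006ca00797006c9007c8008d5006c6008ca008d1008cf008c7006c3008cb006c5006c4006bf007bc008c4008c2007b9006bc008be007b6007b5006b9008b9008ae008ad008b4006d2006d1008b0006b8006b7008ac006d8006d7006b0008a8007a5007a4008a3007a2007a10089f00724007230087300879008750069d0069b0089a007ca00698007cc0069700793008980087a008760069300894006920087d00891008850068f008840088b008890088300691006890068e0068d008810088000686006a000684006a40087700694006a100874006a30087200871006a20067c0067b006a500679006780076d0086b0086a008560085500768006700066f007fe00801008040080b0066300816008600086400862006610075b0075a0065c006620085f0085e0066500658006570085d00667006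530074f00859008580064f0064e0066e0066d008220081c008190081e008250064500640008510063f008500073e0063c0073c0084c0084a00739006380081f008440084200839006350083e00837008360063200637006360083800634006330062d008350082a00829008300079f0079e0082c0062c0062b0082600644008240064600623006220064a007180064b007160071500647008180081700669007fd007fc0066800617006160066600803008020060f0081300706007050080f007030070200701007000080800800007ff006110061000609006080061500614007f9007f7007f500604006f2006f100603005fe005fc007ec007f2007f1007e9005f9007ed005fb005fa005f5007e8007e6006e2005f2007e3006df006de005ef007de007d3007d2007d9007a9007a8007d5005ee005ed007d1007af007ae006d0006a8005e4006a9005e2006cb007cb007c9006c8005df007c6007bf007be007c1005de005dd005da007bd006be006bd007b8006bb006ba007b4007ac007ab005e8005e7005d5005d4005ec005eb007a7006af006ae006ad006ac0062a00629006cd006cf005ca005cc007700077b0077600773007780077d005bf005ba0079a005b900799005b60069900796007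9400696005b2007790078f0078d00784005af007890078200781005ac005b1005b000783005ae005ad0077e005be0077c005c0005a4005a3005c4005c50067e005c10077200771005c70076f0076e005c600599005980059700596006720067100767007660074a007490058f0058e0066a007110070e007510070b007550058000761007580075c0057f0057e0065e0065d00759005830057700582007540075300573005720065400750005850056e0056d0074c0074b0056b0058d00717007190056400562007140071c007430071e0055f005600055b00742007400063e005580073d0063b0063a00555007380072e0072d007330072b0072a0072f00554005530055200551007290072100720006ab006aa0054d0054c0056700625005610071b0071a005860054500544005680061d0061c005880061a00619005870070d0070c006f8006f70053c0053b006fc006fb007080060e0060d0060c0060b0060a006fa006f900538005330053a006f3006f0006020052f0052e00529006ef00527006ee006e7006e6006e9005260052500522006e5005f4005f3006e1005f1005f0006dd006d5006d4006b2006b10051d0051c006b6006b500517005e5006ce00515006cc005e1005e0006c7006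c2006c10051200511006c0005d9005d8005d7005d6006b4006b3005190050c0051b005d0005cf005ce0054b006a6005cb006a700504005050067a006770067f00680004f6004f40067d006830069f00685004f1004f2004ed0069e0069c005b8004ea0069a005b5005b4004e7006950068b0068a0069000688006870068c004e6004e5004e4004e3004f9005a6004f30068200681004fd004db004da004fa0059e004ff0059c0059b004fe00676006750067400673004d2004d1004d00059200591005900066c0066b0064c004ca0058b0058a005890061b006180062100652004c30065b00659004b700664006600065f004b3004b20057b004bd004ae004b60065a004ba004a8004a70065600655004a500570004c40065100650004a10064d0049f004c90061e006260049b00497006490049500648006240064200643004940049300490006410055a005590063d00557005560063900631006300062f0062e0048b0048a004890062800627005cd004860049c0054800547004bc006200061f0047f0047e004be005400053f0053e0053d0061300612006050047900607005370053600535005340060600476004720047800601006000052d0046e0046d00469005ff00528005fd005f8005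f70046600465005f600521005200051f0051e005ea005e9005d100460005d30045c005e600516005e30051400513005dc005db004580050f0050e0050d005d20045d004540045f005080050700485005c8005c9005030044b0044d004470059d0059a005a2004420043e0059f005a70043900435005c300433005c2005a5005bc005bd00432004310042e005bb004ec004eb005b7004e9004e8005b3005ab005aa005a9005a80042900428004270043a004de004dd00441005a1005a0004200041f00443004d6004d5004d4004d30059500594005930041a00419004cd004cc004cb0058c0056900413004c70040a004c50056f005840040500403004c000400005410057a00546003fa00576004100040c0058100578003f6003f30057d0057c003f0004b0003f900579003fc003eb003ea003f20040d0057500574003e600571003e400407004060056c003e10056a003df004120054900566003dc003db003d70056500496005630055e0055d003d4003d30055c0048f0048e0048d0048c005500054f0054e003ce003cd0054a00506003ca00483003fd00481004800054300542003c30047c0047b0047a0053900530003bf0053200475004740047300531003bc003b8003be0052c0052b003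b3003b2003b00052a00468004670052400523003ad0046300462004610051a00509003a90050b005180045b0045a0045900510003a200456004550050a003a60039e003a8004500044f003c9005010044c005020044a00449004480050000395003960038c004d7004fc004dc0038600385004fb00388003800037f004df004f80037d0037c00378004f700434004f5004f0004ef0037500374004ee0042d0042c0042b0042a004e2004e1004e00036f0036e00424003890042200421004d9004d8003670041d0041c0041b004cf004ce0036300362004160041500414004c80049d0035c004b9003560040e004a9004b80034e004c60034c00408004a3004a2004c200348004c10034600401004bf003970034400482004ad00352004bb004af003400033d004b50035900358004b4004aa00338004b100336003ee0033c00353004ac004ab00330003500034f004a60032d004a40032b00349004a0003280049e003260035b0049a0049900324003230032100498003d6003d500492004910031e003d1003d0003cf00488004870031a00319004840044e0031600343003c6003c5003c40047d00310003c1003c0004770046f0030c00471003bb003ba003b90047000309003060030b003b4004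6c0046b003040046a003af003ae0046400300003ab003aa0045e00451002fc00453003a5003a4003a300457002f6003a00039f00452002f9002f2002fb0039a0039900315003ff004450044600394003930039200391003900038f0038e0038d00444002ef002e4004230043d002df004400043f002da002d7002d6002e00043c0043b002d10043800437002ce002cd002cb004360037700376004300042f002c80037200371003700042600425002c4002c3002dd0036a00369003680041e002bd00365003640041800417002b9002b80035f0035e0035d00411003dd002b4003f5003f4002ae0040f002ac00354003ec003fb002a7003e8003e70040b002a400409002a20034a003e2004040029f004020029d003fe003c70029b00298003f8002b3002b2003f7003ed00295002b0002af003f100292003ef00290003340029a002a9002a8003e90028b002a5003e500288003e300286002a0003e000284003de00325003da003d900282003d8003200031f003d20027e0031c0031b003cc003cb0027a00279003c80039800277003130031200311003c2002740030e0030d003bd003b500270003b70030800307003b600305003b10026d0030200301003ac00269002fe002fd003a70039b002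650039d002f8002f7003a100262002f4002f30039c002f1002f00038b002ee002ed002ec002eb002ea002e9002e8002e7002e6002e50038a0025f002e20025300381003870024a0036b0024700244003840024f0024e003830038200241002460024c0024b0037e0023c002cf0037b0037a0023900379002ca002c90037300235002c6002c50036d0036c0023100230002c0002bf002be003660022c002bb002ba003610036000228002b6002b50035a0033f0033e002220033a00339003570021f003550021d002aa003320033100351002180032e0034d002150034b00213003290034700211003450022500342003330020f0034100224002230033b0020b00220003370020800335002060021b0021a002190032f00203002160032c002000032a00212003270028300322001fd002800027f0031d001f90027c0027b0031800317001f50031400276002750030f001f200272002710030a0026f0026e00303001ef0026b0026a002ff001eb0026700266002fa0026400263002f50026100260002e30025e0025d0025c0025b0025a002590025800257002560025500254002e1001e5001d6001d5002d9002d8001cf002d3002d2002de001ca001d2002dc002d4001c7002db001d1001d0002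d5001c3001cd001cc001cb002d0001bf0023a002cc001bc0023700236002c7001b80023300232002c2002c1001b40022e0022d002bc001b10022a00229002b700227001ae0029c0029700296002b1001aa00293002ad001a7002ab001a50028e0028d0028c002a6001a200289002a30019f002a1002850029e001af002990019c001ac001ab0029400198001a800291001950028f001a4001a30028a00192001a0002870019e001fe002810018f001fb001fa0027d0018b001f7001f600278001f4001f300273001f1001f00026c00185001ed001ec00268001ea001e9001e8001e7001e600252001e4001e3001e2001e1001e0001df001de001dd001dc001db001da0016f0016e0017000251002500016b001680024800243002420024d001640023f0023e0023d002490016000169002450015d0016600165002400015900162001610023b00155001bd0023800153001ba001b9002340014f001b6001b50022f001b3001b20022b001b000210002260014a0020d0020c0022100146002090021e001430021c002050020400217001400020100214001ff0014b0020e0013d00148001470020a0013900144002070014200141002020013f00190001fc001330018d0018c001f80018a00189001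880018700186001ee00184001830018200181001800017f0017e0017d00122001210017a001790017800177001760017500174001730011700116001d7001d9001d80011300114001d400110001c8001d30010d001c5001c4001ce00109001c1001c0001c9001050010e001c6001030010b0010a001c2000ff0010700106001be00154001bb000fa0015100150001b70014e0014d0014c0019d001ad000f50019a00199001a9000f100196001a60019400193001a100191000f60019b000eb000f3000f200197000f0000ef000ee00135001340018e0013200131001300012f0012e0012d000e2000e10012a001290012800127001260012500124001230017c0017b000d8000d70011e0011d0011c0011b0011a00119001180017200171000ce0016c0016d000cb000cc0016a000c80015e00167000c50015b0015a00163000c100157001560015f000c60015c000bc000c3000c200158000c0000bf000fc000fb00152000f9000f8000f70013e00149000b30013b0013a00145001380013700136000b5000b40013c000b2000b1000b0000e7000e6000e5000e4000e30012c0012b000a9000a8000de000dd000dc000db000da000d9001200011f000a00009f000d4000d3000d2000d1000d0000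cf0011500097001110011200094000950010f00090001040010c0008d001010010000108000fe000fd0008f0008e001020008c0008b0008a000b8000b7000b6000ed000ec000f4000ea000e9000e8000840008300082000ac000ab000aa000e0000df0007d0007c000a5000a4000a3000a2000a1000d6000d50007500074000730009b0009a0009900098000cd0006d000c9000ca000690006b0006a000c7000be000bd000c4000bb000ba000b90006600065000640008600085000af000ae000ad000600005f0007f0007e000a7000a60005c0005b0005a0007800077000760009e0009d0009c0005500054000700006f0006e000960004e0009200091000930004d0004c0008900088000870004900048000610008100080000450005d0007b0007a000790004300042000570005600072000710003d0003c00051000500004f0006c00068000670003700036000630006200034000460005e000320005900058000300002f0003f0002c00053000520002a0003a00039000380004b0004a00026000470002400044000230004100040000210002d0003e0001e0003b0001c0002800027000350001a0003300031000180002e000160001f0002b00013000290001b0002500019000220000f000200000e000140001d000120000b0001000017000150000d00008000110000a000090000c0000700006000050000400003000020000100000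

noncomputable def lvP0_3 : ℕ := nat_lit 0x454004870045e004850045d005060050a005300050b006b7006b5006f90051a00509005190050c00531006f7003a0003cd003a9006d4006d1006fd0053a0053b0070c0054e003cc0054f007090054b003ca0054c00720005e70047800608004840060600476006100063000627005d4005cd0062b007ab006290079e0045600455005d8005d9004500026b005d6004600045f005d3005d2004720061400605004770061200616005ed007b1007ae007af00800007ff005e90062e005ea005d1005e8005d5007fd007fc0031b002fe0047a0047b00264002ec002eb0060d004890031a0048a00802007d2007a8007ce008060080500615004790061700818008170062f00488006310081500814002e7002e8007a10062a004860062c0082a00829003900053600507006ac0050e00508006ae0025b0025c00258003c0006d2006b3003bf0053300532006fe006fb005530054a006b80072b0072a006fa005380070a0072e0072d00721006aa006ab00727008ad006be0072600723008b20089d008b500724008dd0089c008d8003ab003aa0050f0050d006bf00520006bd006ba006bb00302002f8003bb0053d001ed0053f0051c00551005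1d0051b006b6006b4007100070f006f8005390070d0071300712008b6008b300914006da006d7008b10091300912006d6006d3006b900911006d5006b1006b2009100090f003cf0027c003d00053e003c10054000301002f700702003940039200393007060070500552003ce005540091600915008de008d90091a00919008a90091800711007140092d0092c0053c0092b0072c0071f009290092800550009270035f0038f00364008a1008a000503008a400725007280092a0093c0054d0093b00449002e900475004740060e0060b005ce007a2005cf005d00041b002ed007a40042b002c5001e1007a5002bb0044c005b50030e0048e007d0007cf007ac006340063300807006090060700803006370063600628007b300828007d3007b20083700836008010081600820008270061100839008310082b007a00079f007da00833009b70082e009b60099f009b1007b6007bb007b900832009bd0082d009bb009a1009c1009c00082f009ed009ec009a0009e5009e4003a4005da004620048c0046300461005d7007bd007ba007b7003b0005f3005f0007b5003af003a50061a00619001870026a0061d0061c005ef007b0007ad0081c005ee005eb005ec0081b0081a007fe008190081f008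1e006130081d009c3009bf00869007db009bc00a2800a27007d600a26007d5007d1007b400854007d4007aa00a2400a23007a900a220048d0031c0048f003ae003b40061b0061e003ad003a20047c003a300416005910080d0080c0044d0044b00812008110044a00810006350063800a2c00a2b0048b00a2a009ef009e700a3200a31009f2009b200a2f00a2e0066900647008450085200a410061800a3f00a3e00838008260083400866009be0063200a3c00a3b0041300419009a6009a500415009a4009ad005ca009aa009a9008300083500a2d00a4d00a250062d00a3d00a4c00500004d400391004cd00707005370053500703004d300672006ad00370008a2006b0006af0067e004d0003950036500372008a5004ea004e90036e00233008a6006960036300505004ec0021f006a800698005560030500559008dc008da008af00732006db008ae00731007300091c006ff009170073600735006fc007340072200943008b900939008df008b7009360093a008aa0094b00764007600092e009380091b0070b009350094d00a9700a9300947009440093e008e20093d0089f0089e008e8008e70094800ab00094000aae00aad00a9400aa600aa5008bc008ba008c4008c3008c0008bf002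160094600aba00ab90093f00ab600ab500a9800ac000abf00abd0094200ae500ae400ae200a9600adb00ada00ad80055a00557006e20045b006c000522006bc005210051e0051f00468008c2008be0046a006e3008bb004690045c006de0045a00717007160071500300006f300719001f000718006dd008b4008b000747006dc006d90093100930006d80092f00765007460073700745008e00070e0093400933008ea00ab80094a0097200abc008e300b1400b13008e1008ac0095e0096600abb008ab00b1100b10005580055b004650046d003d1004670058800568004640045700466005410045800459004ca0066d0092100920004cc0091f00501005020092600925009000050400924009230073300738009490097100aea0055500b1700b1600ae900aa800b1b00ae600b190095d005870095a00b2400b22008db0072f0094500ab700b20004c8004ce0097800a9e0097f004c900a9c00a9b00989006a700aa200aa100a9f009320072900b1800b1200b21004470059d004440058e0059c0041d0041c00592008130060f0080e00596007690060c0059b007a30042a0059700427002c60059e009a8007a7007a60077b005b400593004460041a0042e0042d009ac005b7005af005b6004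25002c4005b8009ae0079200418005c8005cc005ba009f0009c4001a8002a5002ae00403002a4002ad002ac006cf0079600795009e80063c0063a003b2006400063f0026e0063e009e9009ba0083e007dc009b80083c0083b007d70083a008080086800844008420084300804008400083f00a4e0082c00a56009f1009c500a4200a4b00a33009b300a4a00a5e00a290066600a4000a3000a4900a4700b5b00b5900a5800a5c00a52007e400a5900a4f009f5009f4009a3009ff009fe009fc00a5300b6f00b6e00b6c00b5c00b6900b6800b66009cd009cc009c9009c80088c009d3009d2009d000289002a000a6600a5100b7500b7400b7200a6400b7900b7800b9900b9500b9400b9000b8c00b8b005f40063b007e500517007df00516005f6007b8005f5005f200529005f100528007e6009cb0052a0051800527007e000515005140064b007f90082200821003ac006040064a007ec0026d007f700823007de007d90084600853009f3007d800a4400a43007dd0066800841009ee00a48009eb009f700a5b00b7700bba00a6e009b500a6d00b7600bb80058f0076a0052f0052e0063d00641005230052b0052600490005250051300524004be0051000512005110058c0074900a3800a3700a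160058d00a3600a3500a15005c900a3a00a1200a3900a5d0063900a5a00b9b00bbc00a0400b9a00bbe00b9600a0300a6c00a6900bc2009ea009e600a5700b730087b0056900a7900a7e00b5f0088400a8600b6200b6100a4600a4500bbd00bb90067a006700046e0086e0086d004ff0038c0066b0067f004d7004d10066f004d6004d500708009220067300855006790070400678004e800371008a3004e3004e400674004d2004e00036f00680004eb008a8006a40087900697004cf004ee004e7004ed006900069a0068f0036d0069b0089800897006a60069e0069d00ae8009540020900aa9002200035000348003580034e0032e003570034f00337004c10034d0034c0035500356005e5007cc0088a00ade008eb00ab10073d0073b0073a007390046b007420074000741003040073f0073e008ec00ab2009530095100952008e40094f0094e0095c0076300959009580095600b2b00aac00b3200b3100a9900aaa00b2500b1c00b2a00a9a00b1500b2300b1a0094c00b2900be400be300b3500b2d00aab0035300352008ef008f7008f600b2e00aee00aed00aeb00af600af200af100aef00bf100bf000b2f00bec00beb0099600ac600ac500ac3007880099400aca00ac90032d00329003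490095500b3d00bf600bf50095000b3a00bfa00b3000c0f00c0e00af000c0700c06006e4006df008f8005e6008f0005e4005e1006e5006e1005ff005fc006e0005fe005e0005fd008f2005e3005df005e2006f600748009010090c00937006ed00303006f5008fc0090a008ee008e60095b00ae700b26008ed008e90095700ae300ae100add00b3400bf900ae000b4200b4100bf70066c008560060100600005fb0066e00603005f80055c005f7005fa005dd005f9005dc005db005de00b080064c00b1e00b0700b1d0090700b0600b1f00b0200adf00b3600b3300c1200af800c1000c1100af700b4000c2700adc00ad900bf8009880098700b4800b4c0098f00b5100be800b2800b2700c25005c7007760059a007670076c0076b0052c009680096700775003b300977005c5004430059400766005990059f005980042c0076f0080f0076e00774005ad0042800770005a8005ae005a90042900595002e0002df0098600426005c400778005b90079c0079400786005b3005bb005b2007830078900787004070079900798008d600992006d00079a0078e009fb00a550083d00292003e800a5400293002b0002af0040c0040400405003f1003f40040b0040d003e6003e700406003e5003e4003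ef00589004090040a0040e0040f006cb008c5007e700a02009fa009f8002a8002a70084c0084a0084b008480084700851003b1008500084f0084e009c6009f900a6300a6200a60009c700a6b00a6800a67009b400bc800bc700b6b00bcd00bcc009a200b5d00bc300bc000b5e00bbb00bbf00a5f00bc600c3400b6a001ab002b3003ec003fb002b200a0800a0600a0d00a0c00a0b00b7000b9d00b9c00b7100ba200ba1009f600b9e00c3c00a5000bc900c380088d00a8e00b7e00b7d0088800a8b00b82003e1003e200a6500bd200c3f00a6100bd100bcb00c4b00ba000c45007e8007e1006c800a09006ce006cd006ca006ec006ee007e3006ef006eb006c9006e9006c7006cc006c6007f4007fb00a1300a1f007f3007f0007fa00a0f00a0500a0100a6a00b9800a00009fd00b9700b9300b8f00c4100b9200bd700c400076800969006f2006f1006e70074a006f0006ea006f4006e8006e6006c1006c4006c3006c2006c500a1d00bb300bc100bb100a1b00baf00bb000b9100bce00c4d00ba400c4c00ba300bd600b8d00b8e00a8500a8400bdc00a8800bdf00bc400bc50060200a73009a70086c006a50087a006a3004fe0067d0024b0024a0086b0086a0067c0086f008720046c00a72008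7800a7800676004fa006750067b004e50087300871006870068d00677004e1004e600689006880068e004e2001650024f00381003870024e0087d0089300a83006a10069c006920089b00889008870068c0069500693008810088b00a89004a30089a00890007c8009d4007cd008940049f00ab4008e5003360094100338004aa0033a0033900359004b8004c3004a0004c2004a6004a8004b4004b5004a9004c4004a7004a2004cb004a4004a5004b0004b1004c5004c6004c7007bc008f9008f3002180035100ab3003310022200219004ab00224008d200962009610095f008d3009650090d00964008b800ac100b3900b3800ac200b3f00b3e00aa700bed00c2c00bef00c0c00a9500be500c2800be700c2600b3700c2b00147000b50020c0033f00223004ad0033e0022500ad100afb00afa00ad200aff00afe00aaf00bf200c1400bf400c1800aec00c1500b2c00c2d0099500b5400bfe0099100b53004a100b3c00c3100b3b00c2f00c17008f4007c7006a9007cb007ca007f2007ef007ed007f1007c9007c3007c1007c6007c400908009060090e00b04009050090300b0300af900af500c1300af300af400c0b00c0d00c0900c33007f800857007f6007eb007e9007f5007ee007ea007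be007c2007c0007bf00b0e00c2100c2200b0900c1e00c0800c2a00c1b00c1a00c0a00b4f00b5000b5200c29009740052d00a9d008bd009750079d005c60079100779001ca002de005c1002d2001cf001cb0043b001d1007720097300777009790097e0097c00b45009850077300771005aa005b00097d0078100785005ac005ab005b100780007820010a0008f001c4002d9001d00043d002d8001d20078c0098a0099d0099a009900079b0078d0078b0098d009930077e0078f009840099700acb00570008d70099b008c1008c60056a0056b0074f009dd009b9003ea003f00057c003f3003f200578003f6003f50041000574005840056c0057a00579005810057500573005770057d005760056f0056d005900057200534005710057b0058a0058b008a7009dc001a3000f3002a6001aa003e9002b10028c002a9003fc00297001ac007c5009e200a2100a6f009e300a2000a71009c200b7a00bd000b7c00ba700b6700c3900c3b00b5a00c3500c3700bcf00199000ed000f60029500296001af003f80029c009d800b8500ba900b8700bab00b6d00c3d00c3e00b9f00bca00a8d00be100a8c0056e00bd400bd300c4600c4f008d5008d4005cb00797008d0008ff0090400902008fd008cf008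cd008cb008d100a1c00a1a00bb200a1800a1900ba600ba800ba500c4a00c48008fe0090b00909008fb008fa008cc008c8008c7008c900bb500bde00bb400c4700c4e00c5000c4900bdd00be000c5100a76009ca00b60009ce009cf00a9200896006a20037f004fc004fb0069400161000c300249001640037e0024d0023d0024c003880024300166008760087400a750087c00a7d00a7c00886008750068a006910088200883006860068b0087f0015a000be000c60024100242001690038400248008920088f0088e00a9100a8a008800089100a8200877009af00a8f009d100654009d5009ab009b00064d0064e0064f006570065f0065d0085c0018600184008ca004ae00330004ac004b3004b200660004b7004b6006590065a004ba004b900650006510033d004bd00621004bb0064300664006580065b006560065c006520065300671006550060a0065e0066a0018c0018900204001420013b001480032f002210014a0033b003320021b003400020d008ce00ad500b4300ad700b0c00abe00bfb00bfd00bee00c5500be600c5300c30001350020b0013e0014b0033c002100034100ace00c0200c0300bf300c3200c1600c2e00b5600b550018f00c1900198001960019300899009e0006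990084d00a1400a1100a17009de009d9009e1009db00b0b00b0d00b0a00c1d00c1c00c5400c5200a1000a1e00a0e009d6009d7009da00c2400c2300c56001a9001a7001a200c200019b001a000ac800b4600ac700ac400b580012f0099e00983001180099c007900043e002d10043c002d700442005a200440005bd001c000107001010010b002d0001ce0010d002d5002d3001cd002da001c500981009800078a00b4b0098e0077f007840098c0077a0097b000fc001c3001040010e002d6001c8002db009990099800b4e0098200aa3009760013700acc00aa00013400aa400132000190057e0074b0074c007560075c007570074d0074e001ef0076d007530075a0075b0096d001ec0012e001e9001260012d0028b0055f0071b003f7003eb00543003fa005800057f007580058300582007590058500750001fc003d40071c003f900586005630076100754007550075200751001f90070000701001f7001f3001310013000194001a40018d0019a003c200294001ad001ae003ed0028e00298009df00b8800b8a00b7b00c4300c3a0014100c36001440020a0027e001900019c0019d0029a003d800b8600bd800bd50013a002080020300bac0013d001330020100139001380013600ad3007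93009630073c00b0500b0100ad400ad0008f500bb700bb600c42001460021e0021700b0000b0f00acd00acf0021d00c440014900215001450014300140002120013c0013f0017e000cf00a8100b8100b7f00b8000a9000be200b64000e4000e300895000e2001710023c004f1006820038300380004d900386003750068300385004fd004f50015700162001510015b00366002400016700168003820023f0024400a7f0088500a870087e00a7b00870000ef00235001540015d0015e002460037900a8000b6300a77000ea00023000e800b65000e7000e60001f000e50001000661008620085f00858008590026c008250082400648008640085e008610085b0085a002690018500809008630026700263001830018200310001fa0047d004920062300620004af0047f004950066300662006650085d006670027d0018e0031e0049400646004bc00498008600080b0027a002740018b0080a002720018a001880021a001f400205001fb0031d0020e00226003330032100ad600c0500bfc000f200291000ee0028a000f000197001fd001fe0020f003430029000b44000ec00288000e9001950019200285000eb0019100a7000849007e200bae00b8400a0a002ab00c04000f5002a3000f1001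a6001a100bad00b83002a2001a50029f000f40019f0019e001e6001160009800b4d00c0000bff0011500b5700be900bea000ac000aa0012c000a9001da0012b0077d0077c005c2002bd001b90041e00430005a4005a10043f0042000433002c800432005c00044100436001cc001b3001c1001ba002c7001c6001d3002d4002cb0098b00b4a0097a000b200031000b0001bc001bd001c7002dd0003000b47000af0002c000ad0001800028000ab000140071d0071a005620075e0075d0096e0096b0096a002ff001ee005600074400743005650096f0096c002fc002f6001eb0091d002f4001ea001e80054200275003c30027f003d20055e0054500546003d70075f00762003180030f001f8003d30028300561003fd003160091e0030c001f5001f200308001f10028d00276002800028100299003c70033500b89000b40032c000b10020700202002820029b0032b0020600328000ae00200001ff00960008f10035400c1f00afc0034b0021c00347000b30021400c0100346002130021100260000e1000ce0006e00bda00bdb00172000cd00bd900081000390007f00254000e00007d00181000df0068400681004f4004f2006a00069f004f7004d80022d003670023600373004f0004db004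dc00378003740023a004f300389000430023e0022e0023700238002450036b0004100a7a000840003e000820002200239002470003d0002100037000800001e0001b0031f0061f006420062200645004970086500a74003a7003a10026800493003250064400649003a600a340039e00265002620039a002610047e0031100320004910062400482003c800867003bd0027800273003230049c003bc00277003b8002700026f0031200313003ee0032200342003e30028f003e0000830028700324003df002860028400a0700408002aa00baa00402002a10029e004000029d0004f002f0000a800050001170009700b4900060001d9001120004d0005e00027002e2001df0011f0005c00129000a700125002c9005a0005bc005a3005bf0043500431002cf005be005c30005b0041f002be002ca0042f005a50042300059002cd0043a000550002f002bf002c000057002cc002dc000530002e0004b0005f0002b002ce000490002a0002600544003d5003d60055d0071e00564004530097000452002fa002f5003db0056700451002f90044e002f2002f1003c4003c50044f003d9005490047100314004700030a003dc0046f0030900306003c60047300334003da0049e0032a003270049d003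2600afd004c00034a004bf0034500344002510016a0006d0039700038000d70017b0006b0016f000cb00068000450016d0006a000360025a0038a0007500179000d6001750007b000dd00180004da0037600377004ef00685004f60007a0037c004f90007c000420036800369000780037a004df00072000400037d000740003c0036a000700003f0037b000630003b00035000660003400480004960039f0049900626003a80039d003c90039c0049b003cb0039b0039800481003ba003990049a003be003b7003b600417003b50048300414003b900412003de003dd0044800401003fe002e4002e100092001d60011000096003ff001d4000940004e000a00012000121001d80009500113000910004a0008e0004c00445001e3002ef002ea0009e0011d001de000a500128000a40042100434000a300437005a7000a600058004390009f0005a004220009b00056004380009d000520008c0005400424000860005100089000470004800547002fd002f30056600319002fb003150036c00317005480030d00307003620030b003600035e0035d0035b0038e0038d0038b0025f0025300250000c90016b000ca0006c000c500069000d80017c0016e000c2000cc000c8000bd0006700065003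960025e00259000d400178000dc000de000d300077004dd000da00076004f8000d500079000c000073004de000d20006f000bb0007100064000b80006100062006250027b00266002c300279002c1002ba00271002b8002e6002b5002e5002e3001e5001d500109001110010f0010c000930008d001220010600114001000008b001030009000088002ee001e2001270011e00124000a20012a0011c0009a005a60011a000a1000fe0009c0008a000f90009900087000fb0008500232001f6002300025700229002550000200252001600016c00163000c10015c000c7000c40017000156000bf00159000ba00153000bc0025d0017f000db0017a00174000d900177000d10014d000d0000b900150000b6000b7001e0001b5001dc00003001d7001c900105001c200108001bb00102001bf000fd001b8000ff000fa001e4001e700123001dd00119001b60011b001b2000f7000f80000500176000040023b0015f002340015800152002310022c001550014f00008002560017d0022a001730014e0014c0000700006002c2002bc001be001b70000c002b9001b4001b10000b002b6001db001b00000a00009003610022f0022b000110035c002280000f0000e002270000d00411002b7000170001500016002b40001300012000200035a0001d0001c0001a0002d0002900025000240003a000330003200046000440005d0007e0000100000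

noncomputable def lv0 : Level := ⟨0, 3159, lvO0, [lvP0_0, lvP0_1, lvP0_2, lvP0_3], [[7, 6, 2, 1, 0, 3, 2, 1, 4, 3, 2, 6, 2, 3, 4, 5, 7, 6, 2, 1, 3, 2, 6, 7, 0, 1, 2, 6, 5, 2, 3, 4, 1, 2, 3, 0, 1, 2, 6, 7], [7, 6, 2, 1, 0, 3, 2, 1, 4, 3, 2, 5, 6, 2, 1, 0, 7, 6, 2, 3, 1, 2, 6, 7, 5, 4, 3, 2, 6, 2, 3, 4, 1, 2, 3, 0, 1, 2, 6, 7], [7, 6, 2, 1, 0, 3, 2, 1, 4, 3, 2, 5, 4, 3, 6, 2, 1, 3, 4, 5, 7, 6, 2, 1, 3, 4, 5, 7, 5, 4, 3, 1, 2, 6, 7, 5, 4, 3, 1, 2, 6, 3, 4, 5, 2, 3, 4, 1, 2, 3, 0, 1, 2, 6, 7], [7, 6, 2, 1, 0, 3, 2, 1, 4, 3, 2, 5, 4, 6, 2, 1, 0, 3, 2, 4, 5, 7, 6, 2, 1, 0, 3, 2, 1, 4, 7, 4, 1, 2, 3, 0, 1, 2, 6, 7, 3, 4, 1, 2, 3, 0, 1, 2, 6, 4, 5, 2, 3, 4, 1, 2, 3, 0, 1, 2, 6, 7]]⟩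

noncomputable def lvO1_0 : Tree :=
  .node 64 (.node 32 (.node 16 (.node 8 (.node 4 (.node 2 (.node 1 (.leaf (nat_lit 0x0)) (.leaf (nat_lit 0x10000000))) (.node 1 (.leaf (nat_lit 0x70006900)) (.leaf (nat_lit 0x50005d03)))) (.node 2 (.node 1 (.leaf (nat_lit 0x70004403)) (.leaf (nat_lit 0x5000c100))) (.node 1 (.leaf (nat_lit 0x40010501)) (.leaf (nat_lit 0x9000ee01))))) (.node 4 (.node 2 (.node 1 (.leaf (nat_lit 0x40010500)) (.leaf (nat_lit 0xa0014001))) (.node 1 (.leaf (nat_lit 0x70013f01)) (.leaf (nat_lit 0xa0001102)))) (.node 2 (.node 1 (.leaf (nat_lit 0x50002d03)) (.leaf (nat_lit 0xa0001a03))) (.node 1 (.leaf (nat_lit 0x90001502)) (.leaf (nat_lit 0xb0001702)))))) (.node 8 (.node 4 (.node 2 (.node 1 (.leaf (nat_lit 0x6001a500)) (.leaf (nat_lit 0x90002003))) (.node 1 (.leaf (nat_lit 0x90021301)) (.leaf (nat_lit 0xb0001d02)))) (.node 2 (.node 1 (.leaf (nat_lit 0x9002b403)) (.leaf (nat_lit 0x80026201))) (.node 1 (.leaf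 (nat_lit 0x90001503)) (.leaf (nat_lit 0xa0026101))))) (.node 4 (.node 2 (.node 1 (.leaf (nat_lit 0x80002202)) (.leaf (nat_lit 0x0))) (.node 1 (.leaf (nat_lit 0x90002502)) (.leaf (nat_lit 0x90022703)))) (.node 2 (.node 1 (.leaf (nat_lit 0xa0000e03)) (.leaf (nat_lit 0xa002f201))) (.node 1 (.leaf (nat_lit 0x90002b02)) (.leaf (nat_lit 0x0))))))) (.node 16 (.node 8 (.node 4 (.node 2 (.node 1 (.leaf (nat_lit 0x8002a100)) (.leaf (nat_lit 0xa0022b03))) (.node 1 (.leaf (nat_lit 0x7002f101)) (.leaf (nat_lit 0x0)))) (.node 2 (.node 1 (.leaf (nat_lit 0xb0003302)) (.leaf (nat_lit 0x80000a03))) (.node 1 (.leaf (nat_lit 0xa001b003)) (.leaf (nat_lit 0x80034401))))) (.node 4 (.node 2 (.node 1 (.leaf (nat_lit 0x0)) (.leaf (nat_lit 0x9000ff00))) (.node 1 (.leaf (nat_lit 0xb001b103)) (.leaf (nat_lit 0x80039801)))) (.node 2 (.node 1 (.leaf (nat_lit 0x0)) (.leaf (nat_lit 0x40007901))) (.node 1 (.leaf (nat_lit 0xa0039901)) (.leaf (nat_lit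 0x80034400)))))) (.node 8 (.node 4 (.node 2 (.node 1 (.leaf (nat_lit 0x0)) (.leaf (nat_lit 0x0))) (.node 1 (.leaf (nat_lit 0x50000603)) (.leaf (nat_lit 0xa002fa01)))) (.node 2 (.node 1 (.leaf (nat_lit 0x90004702)) (.leaf (nat_lit 0xa0031701))) (.node 1 (.leaf (nat_lit 0x60003201)) (.leaf (nat_lit 0x0))))) (.node 4 (.node 2 (.node 1 (.leaf (nat_lit 0x60004200)) (.leaf (nat_lit 0x0))) (.node 1 (.leaf (nat_lit 0x50000803)) (.leaf (nat_lit 0xb0031401)))) (.node 2 (.node 1 (.leaf (nat_lit 0x60003200)) (.leaf (nat_lit 0x0))) (.node 1 (.leaf (nat_lit 0x0)) (.leaf (nat_lit 0x9001a600)))))))) (.node 32 (.node 16 (.node 8 (.node 4 (.node 2 (.node 1 (.leaf (nat_lit 0x90002f02)) (.leaf (nat_lit 0x0))) (.node 1 (.leaf (nat_lit 0x50015f03)) (.leaf (nat_lit 0x0)))) (.node 2 (.node 1 (.leaf (nat_lit 0x60026801)) (.leaf (nat_lit 0x70017603))) (.node 1 (.leaf (nat_lit 0x60000503)) (.leaf (nat_lit 0x80027801))))) (.node 4 (.node 2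 (.node 1 (.leaf (nat_lit 0x80006202)) (.leaf (nat_lit 0x0))) (.node 1 (.leaf (nat_lit 0x7002c101)) (.leaf (nat_lit 0x0)))) (.node 2 (.node 1 (.leaf (nat_lit 0x80006702)) (.leaf (nat_lit 0x0))) (.node 1 (.leaf (nat_lit 0x20000101)) (.leaf (nat_lit 0x0)))))) (.node 8 (.node 4 (.node 2 (.node 1 (.leaf (nat_lit 0x0)) (.leaf (nat_lit 0x9000fa03))) (.node 1 (.leaf (nat_lit 0x70003c02)) (.leaf (nat_lit 0x0)))) (.node 2 (.node 1 (.leaf (nat_lit 0x7000fd03)) (.leaf (nat_lit 0x0))) (.node 1 (.leaf (nat_lit 0x8000b901)) (.leaf (nat_lit 0x0))))) (.node 4 (.node 2 (.node 1 (.leaf (nat_lit 0x50015f00)) (.leaf (nat_lit 0x0))) (.node 1 (.leaf (nat_lit 0x20000100)) (.leaf (nat_lit 0x0)))) (.node 2 (.node 1 (.leaf (nat_lit 0x0)) (.leaf (nat_lit 0x40012301))) (.node 1 (.leaf (nat_lit 0x7001ee01)) (.leaf (nat_lit 0x7001b503))))))) (.node 16 (.node 8 (.node 4 (.node 2 (.node 1 (.leaf (nat_lit 0x0)) (.leaf (nat_lit 0x8000b703))) (.node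 1 (.leaf (nat_lit 0x7001f500)) (.leaf (nat_lit 0x0)))) (.node 2 (.node 1 (.leaf (nat_lit 0x80005f00)) (.leaf (nat_lit 0x80005f01))) (.node 1 (.leaf (nat_lit 0x0)) (.leaf (nat_lit 0x7001eb00))))) (.node 4 (.node 2 (.node 1 (.leaf (nat_lit 0x0)) (.leaf (nat_lit 0x60009302))) (.node 1 (.leaf (nat_lit 0x0)) (.leaf (nat_lit 0x0)))) (.node 2 (.node 1 (.leaf (nat_lit 0x30004e02)) (.leaf (nat_lit 0x0))) (.node 1 (.leaf (nat_lit 0x0)) (.leaf (nat_lit 0xa000f701)))))) (.node 8 (.node 4 (.node 2 (.node 1 (.leaf (nat_lit 0x0)) (.leaf (nat_lit 0x80020701))) (.node 1 (.leaf (nat_lit 0x0)) (.leaf (nat_lit 0x70006901)))) (.node 2 (.node 1 (.leaf (nat_lit 0x0)) (.leaf (nat_lit 0x0))) (.node 1 (.leaf (nat_lit 0x60010800)) (.leaf (nat_lit 0x7000e801))))) (.node 4 (.node 2 (.node 1 (.leaf (nat_lit 0x0)) (.leaf (nat_lit 0x30005a02))) (.node 1 (.leaf (nat_lit 0x0)) (.leaf (nat_lit 0x0)))) (.node 2 (.node 1 (.leaf (nat_lit 0x0)) (.leaf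 (nat_lit 0x0))) (.node 1 (.leaf (nat_lit 0x80017e01)) (.leaf (nat_lit 0x80017d01))))))))

noncomputable def lvO1_1 : Tree :=
  .node 64 (.node 32 (.node 16 (.node 8 (.node 4 (.node 2 (.node 1 (.leaf (nat_lit 0x80005f02)) (.leaf (nat_lit 0x0))) (.node 1 (.leaf (nat_lit 0x80023003)) (.leaf (nat_lit 0x90008201)))) (.node 2 (.node 1 (.leaf (nat_lit 0x0)) (.leaf (nat_lit 0x60027000))) (.node 1 (.leaf (nat_lit 0x0)) (.leaf (nat_lit 0x90006402))))) (.node 4 (.node 2 (.node 1 (.leaf (nat_lit 0x90006502)) (.leaf (nat_lit 0x0))) (.node 1 (.leaf (nat_lit 0x60000300)) (.leaf (nat_lit 0x90008200)))) (.node 2 (.node 1 (.leaf (nat_lit 0x0)) (.leaf (nat_lit 0x60000301))) (.node 1 (.leaf (nat_lit 0x0)) (.leaf (nat_lit 0x0)))))) (.node 8 (.node 4 (.node 2 (.node 1 (.leaf (nat_lit 0x8000c702)) (.leaf (nat_lit 0x0))) (.node 1 (.leaf (nat_lit 0x0)) (.leaf (nat_lit 0x5000db01)))) (.node 2 (.node 1 (.leaf (nat_lit 0x0)) (.leaf (nat_lit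 0x0))) (.node 1 (.leaf (nat_lit 0x0)) (.leaf (nat_lit 0x0))))) (.node 4 (.node 2 (.node 1 (.leaf (nat_lit 0x0)) (.leaf (nat_lit 0x9002b800))) (.node 1 (.leaf (nat_lit 0x9002b400)) (.leaf (nat_lit 0x0)))) (.node 2 (.node 1 (.leaf (nat_lit 0x80007302)) (.leaf (nat_lit 0x0))) (.node 1 (.leaf (nat_lit 0x0)) (.leaf (nat_lit 0x0))))))) (.node 16 (.node 8 (.node 4 (.node 2 (.node 1 (.leaf (nat_lit 0x0)) (.leaf (nat_lit 0x60003a00))) (.node 1 (.leaf (nat_lit 0x60009303)) (.leaf (nat_lit 0x0)))) (.node 2 (.node 1 (.leaf (nat_lit 0x0)) (.leaf (nat_lit 0x0))) (.node 1 (.leaf (nat_lit 0x0)) (.leaf (nat_lit 0x0))))) (.node 4 (.node 2 (.node 1 (.leaf (nat_lit 0x0)) (.leaf (nat_lit 0x0))) (.node 1 (.leaf (nat_lit 0x9002e503)) (.leaf (nat_lit 0x8002b503)))) (.node 2 (.node 1 (.leaf (nat_lit 0x0)) (.leaf (nat_lit 0x9002b803))) (.node 1 (.leaf (nat_lit 0xa0008302)) (.leaf (nat_lit 0x0)))))) (.node 8 (.node 4 (.node 2 (.node 1 (.leaf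 (nat_lit 0x5000c101)) (.leaf (nat_lit 0xa000e902))) (.node 1 (.leaf (nat_lit 0x0)) (.leaf (nat_lit 0x80000401)))) (.node 2 (.node 1 (.leaf (nat_lit 0x0)) (.leaf (nat_lit 0x0))) (.node 1 (.leaf (nat_lit 0x80006203)) (.leaf (nat_lit 0x70030600))))) (.node 4 (.node 2 (.node 1 (.leaf (nat_lit 0x0)) (.leaf (nat_lit 0x70008a02))) (.node 1 (.leaf (nat_lit 0x90007103)) (.leaf (nat_lit 0x0)))) (.node 2 (.node 1 (.leaf (nat_lit 0xa0010202)) (.leaf (nat_lit 0x0))) (.node 1 (.leaf (nat_lit 0x0)) (.leaf (nat_lit 0x7000fd02)))))))) (.node 32 (.node 16 (.node 8 (.node 4 (.node 2 (.node 1 (.leaf (nat_lit 0x0)) (.leaf (nat_lit 0x40007903))) (.node 1 (.leaf (nat_lit 0x0)) (.leaf (nat_lit 0x0)))) (.node 2 (.node 1 (.leaf (nat_lit 0x70007603)) (.leaf (nat_lit 0x0))) (.node 1 (.leaf (nat_lit 0x0)) (.leaf (nat_lit 0x7002f501))))) (.node 4 (.node 2 (.node 1 (.leaf (nat_lit 0x0)) (.leaf (nat_lit 0x0))) (.node 1 (.leaf (nat_lit 0x0)) (.leaf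 (nat_lit 0x0)))) (.node 2 (.node 1 (.leaf (nat_lit 0x0)) (.leaf (nat_lit 0x0))) (.node 1 (.leaf (nat_lit 0x0)) (.leaf (nat_lit 0x0)))))) (.node 8 (.node 4 (.node 2 (.node 1 (.leaf (nat_lit 0x90006503)) (.leaf (nat_lit 0x80006703))) (.node 1 (.leaf (nat_lit 0x0)) (.leaf (nat_lit 0x0)))) (.node 2 (.node 1 (.leaf (nat_lit 0x0)) (.leaf (nat_lit 0x0))) (.node 1 (.leaf (nat_lit 0x0)) (.leaf (nat_lit 0x0))))) (.node 4 (.node 2 (.node 1 (.leaf (nat_lit 0x0)) (.leaf (nat_lit 0x70004600))) (.node 1 (.leaf (nat_lit 0x0)) (.leaf (nat_lit 0x40006c03)))) (.node 2 (.node 1 (.leaf (nat_lit 0x0)) (.leaf (nat_lit 0x0))) (.node 1 (.leaf (nat_lit 0x0)) (.leaf (nat_lit 0x0))))))) (.node 16 (.node 8 (.node 4 (.node 2 (.node 1 (.leaf (nat_lit 0x0)) (.leaf (nat_lit 0x0))) (.node 1 (.leaf (nat_lit 0x0)) (.leaf (nat_lit 0xb003dd00)))) (.node 2 (.node 1 (.leaf (nat_lit 0x0)) (.leaf (nat_lit 0x8003b600))) (.node 1 (.leaf (nat_lit 0x90035d03))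 (.leaf (nat_lit 0x0))))) (.node 4 (.node 2 (.node 1 (.leaf (nat_lit 0x6000b002)) (.leaf (nat_lit 0x90039c00))) (.node 1 (.leaf (nat_lit 0x0)) (.leaf (nat_lit 0x70030703)))) (.node 2 (.node 1 (.leaf (nat_lit 0x0)) (.leaf (nat_lit 0x0))) (.node 1 (.leaf (nat_lit 0x80013602)) (.leaf (nat_lit 0x0)))))) (.node 8 (.node 4 (.node 2 (.node 1 (.leaf (nat_lit 0x80013802)) (.leaf (nat_lit 0x9000ee00))) (.node 1 (.leaf (nat_lit 0x0)) (.leaf (nat_lit 0x0)))) (.node 2 (.node 1 (.leaf (nat_lit 0x7000e800)) (.leaf (nat_lit 0x0))) (.node 1 (.leaf (nat_lit 0x0)) (.leaf (nat_lit 0x90004803))))) (.node 4 (.node 2 (.node 1 (.leaf (nat_lit 0x90004703)) (.leaf (nat_lit 0x0))) (.node 1 (.leaf (nat_lit 0x80039800)) (.leaf (nat_lit 0x0)))) (.node 2 (.node 1 (.leaf (nat_lit 0x0)) (.leaf (nat_lit 0x60010801))) (.node 1 (.leaf (nat_lit 0x0)) (.leaf (nat_lit 0x80005203))))))))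

noncomputable def lvO1_2 : Tree :=
  .node 64 (.node 32 (.node 16 (.node 8 (.node 4 (.node 2 (.node 1 (.leaf (nat_lit 0x0)) (.leaf (nat_lit 0x0))) (.node 1 (.leaf (nat_lit 0x90039c01)) (.leaf (nat_lit 0x0)))) (.node 2 (.node 1 (.leaf (nat_lit 0x0)) (.leaf (nat_lit 0x30005a03))) (.node 1 (.leaf (nat_lit 0x0)) (.leaf (nat_lit 0x0))))) (.node 4 (.node 2 (.node 1 (.leaf (nat_lit 0x5000c102)) (.leaf (nat_lit 0x0))) (.node 1 (.leaf (nat_lit 0x0)) (.leaf (nat_lit 0x0)))) (.node 2 (.node 1 (.leaf (nat_lit 0x0)) (.leaf (nat_lit 0x0))) (.node 1 (.leaf (nat_lit 0x0)) (.leaf (nat_lit 0x0)))))) (.node 8 (.node 4 (.node 2 (.node 1 (.leaf (nat_lit 0x0)) (.leaf (nat_lit 0x0))) (.node 1 (.leaf (nat_lit 0x0)) (.leaf (nat_lit 0x0)))) (.node 2 (.node 1 (.leaf (nat_lit 0x0)) (.leaf (nat_lit 0x0))) (.node 1 (.leaf (nat_lit 0x0)) (.leaf (nat_lit 0x0))))) (.node 4 (.node 2 (.node 1 (.leaf (nat_lit 0x0)) (.leaf (nat_lit 0x90004c03))) (.node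 1 (.leaf (nat_lit 0x0)) (.leaf (nat_lit 0x80004a03)))) (.node 2 (.node 1 (.leaf (nat_lit 0x0)) (.leaf (nat_lit 0x0))) (.node 1 (.leaf (nat_lit 0x0)) (.leaf (nat_lit 0x0))))))) (.node 16 (.node 8 (.node 4 (.node 2 (.node 1 (.leaf (nat_lit 0x0)) (.leaf (nat_lit 0x0))) (.node 1 (.leaf (nat_lit 0x0)) (.leaf (nat_lit 0x30004e03)))) (.node 2 (.node 1 (.leaf (nat_lit 0x0)) (.leaf (nat_lit 0x0))) (.node 1 (.leaf (nat_lit 0x40006c00)) (.leaf (nat_lit 0x0))))) (.node 4 (.node 2 (.node 1 (.leaf (nat_lit 0x0)) (.leaf (nat_lit 0x0))) (.node 1 (.leaf (nat_lit 0x0)) (.leaf (nat_lit 0x0)))) (.node 2 (.node 1 (.leaf (nat_lit 0x0)) (.leaf (nat_lit 0x80035a00))) (.node 1 (.leaf (nat_lit 0x80036000)) (.leaf (nat_lit 0x0)))))) (.node 8 (.node 4 (.node 2 (.node 1 (.leaf (nat_lit 0x9002b401)) (.leaf (nat_lit 0x70030a00))) (.node 1 (.leaf (nat_lit 0x0)) (.leaf (nat_lit 0xa003b903)))) (.node 2 (.node 1 (.leaf (nat_lit 0x0)) (.leaf (nat_lit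 0x0))) (.node 1 (.leaf (nat_lit 0x7000a200)) (.leaf (nat_lit 0x0))))) (.node 4 (.node 2 (.node 1 (.leaf (nat_lit 0x7002f500)) (.leaf (nat_lit 0xa003b703))) (.node 1 (.leaf (nat_lit 0x0)) (.leaf (nat_lit 0x0)))) (.node 2 (.node 1 (.leaf (nat_lit 0x8000eb02)) (.leaf (nat_lit 0x0))) (.node 1 (.leaf (nat_lit 0x0)) (.leaf (nat_lit 0x60019102)))))))) (.node 32 (.node 16 (.node 8 (.node 4 (.node 2 (.node 1 (.leaf (nat_lit 0x90039b03)) (.leaf (nat_lit 0x0))) (.node 1 (.leaf (nat_lit 0x0)) (.leaf (nat_lit 0x70013f00)))) (.node 2 (.node 1 (.leaf (nat_lit 0x0)) (.leaf (nat_lit 0x8000b900))) (.node 1 (.leaf (nat_lit 0x0)) (.leaf (nat_lit 0x0))))) (.node 4 (.node 2 (.node 1 (.leaf (nat_lit 0x0)) (.leaf (nat_lit 0x0))) (.node 1 (.leaf (nat_lit 0x0)) (.leaf (nat_lit 0x0)))) (.node 2 (.node 1 (.leaf (nat_lit 0x9002b801)) (.leaf (nat_lit 0x0))) (.node 1 (.leaf (nat_lit 0xa0032a00)) (.leaf (nat_lit 0xb0031400)))))) (.node 8 (.node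 4 (.node 2 (.node 1 (.leaf (nat_lit 0x0)) (.leaf (nat_lit 0x0))) (.node 1 (.leaf (nat_lit 0x9000fa02)) (.leaf (nat_lit 0x0)))) (.node 2 (.node 1 (.leaf (nat_lit 0x0)) (.leaf (nat_lit 0x60003a01))) (.node 1 (.leaf (nat_lit 0x0)) (.leaf (nat_lit 0x0))))) (.node 4 (.node 2 (.node 1 (.leaf (nat_lit 0x9000ff02)) (.leaf (nat_lit 0x0))) (.node 1 (.leaf (nat_lit 0x0)) (.leaf (nat_lit 0x0)))) (.node 2 (.node 1 (.leaf (nat_lit 0x0)) (.leaf (nat_lit 0x0))) (.node 1 (.leaf (nat_lit 0x0)) (.leaf (nat_lit 0x40010502))))))) (.node 16 (.node 8 (.node 4 (.node 2 (.node 1 (.leaf (nat_lit 0x0)) (.leaf (nat_lit 0x0))) (.node 1 (.leaf (nat_lit 0x0)) (.leaf (nat_lit 0x0)))) (.node 2 (.node 1 (.leaf (nat_lit 0x0)) (.leaf (nat_lit 0x0))) (.node 1 (.leaf (nat_lit 0x0)) (.leaf (nat_lit 0x0))))) (.node 4 (.node 2 (.node 1 (.leaf (nat_lit 0x0)) (.leaf (nat_lit 0x0))) (.node 1 (.leaf (nat_lit 0x0)) (.leaf (nat_lit 0x0)))) (.node 2 (.node 1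 (.leaf (nat_lit 0x0)) (.leaf (nat_lit 0x0))) (.node 1 (.leaf (nat_lit 0x0)) (.leaf (nat_lit 0x0)))))) (.node 8 (.node 4 (.node 2 (.node 1 (.leaf (nat_lit 0x0)) (.leaf (nat_lit 0x0))) (.node 1 (.leaf (nat_lit 0x0)) (.leaf (nat_lit 0x60027001)))) (.node 2 (.node 1 (.leaf (nat_lit 0x0)) (.leaf (nat_lit 0x0))) (.node 1 (.leaf (nat_lit 0x60026f01)) (.leaf (nat_lit 0x0))))) (.node 4 (.node 2 (.node 1 (.leaf (nat_lit 0x0)) (.leaf (nat_lit 0x0))) (.node 1 (.leaf (nat_lit 0x0)) (.leaf (nat_lit 0x0)))) (.node 2 (.node 1 (.leaf (nat_lit 0x0)) (.leaf (nat_lit 0x70003803))) (.node 1 (.leaf (nat_lit 0x70039703)) (.leaf (nat_lit 0x0))))))))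

noncomputable def lvO1_3 : Tree :=
  .node 64 (.node 32 (.node 16 (.node 8 (.node 4 (.node 2 (.node 1 (.leaf (nat_lit 0x0)) (.leaf (nat_lit 0x0))) (.node 1 (.leaf (nat_lit 0x60000c00)) (.leaf (nat_lit 0xa002b700)))) (.node 2 (.node 1 (.leaf (nat_lit 0x0)) (.leaf (nat_lit 0x7002c100))) (.node 1 (.leaf (nat_lit 0x0)) (.leaf (nat_lit 0x0))))) (.node 4 (.node 2 (.node 1 (.leaf (nat_lit 0x9000d100)) (.leaf (nat_lit 0x0))) (.node 1 (.leaf (nat_lit 0x70032703)) (.leaf (nat_lit 0x8001f802)))) (.node 2 (.node 1 (.leaf (nat_lit 0x0)) (.leaf (nat_lit 0x0))) (.node 1 (.leaf (nat_lit 0x90008000)) (.leaf (nat_lit 0x0)))))) (.node 8 (.node 4 (.node 2 (.node 1 (.leaf (nat_lit 0x0)) (.leaf (nat_lit 0x5000db00))) (.node 1 (.leaf (nat_lit 0x70004601)) (.leaf (nat_lit 0x0)))) (.node 2 (.node 1 (.leaf (nat_lit 0x0)) (.leaf (nat_lit 0x60026800))) (.node 1 (.leaf (nat_lit 0x0)) (.leaf (nat_lit 0xa0008700))))) (.node 4 (.node 2 (.node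 1 (.leaf (nat_lit 0x0)) (.leaf (nat_lit 0x0))) (.node 1 (.leaf (nat_lit 0x0)) (.leaf (nat_lit 0x0)))) (.node 2 (.node 1 (.leaf (nat_lit 0x0)) (.leaf (nat_lit 0x0))) (.node 1 (.leaf (nat_lit 0x5001ff02)) (.leaf (nat_lit 0xa002f203))))))) (.node 16 (.node 8 (.node 4 (.node 2 (.node 1 (.leaf (nat_lit 0x0)) (.leaf (nat_lit 0xa0004001))) (.node 1 (.leaf (nat_lit 0x0)) (.leaf (nat_lit 0x0)))) (.node 2 (.node 1 (.leaf (nat_lit 0x0)) (.leaf (nat_lit 0x50021c02))) (.node 1 (.leaf (nat_lit 0x80014302)) (.leaf (nat_lit 0x0))))) (.node 4 (.node 2 (.node 1 (.leaf (nat_lit 0x0)) (.leaf (nat_lit 0x0))) (.node 1 (.leaf (nat_lit 0x0)) (.leaf (nat_lit 0x0)))) (.node 2 (.node 1 (.leaf (nat_lit 0x0)) (.leaf (nat_lit 0x0))) (.node 1 (.leaf (nat_lit 0x0)) (.leaf (nat_lit 0x0)))))) (.node 8 (.node 4 (.node 2 (.node 1 (.leaf (nat_lit 0x9000b600)) (.leaf (nat_lit 0xa0022b02))) (.node 1 (.leaf (nat_lit 0x0)) (.leaf (nat_lit 0x0)))) (.node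 2 (.node 1 (.leaf (nat_lit 0x80022f02)) (.leaf (nat_lit 0x60028700))) (.node 1 (.leaf (nat_lit 0x0)) (.leaf (nat_lit 0xa0008800))))) (.node 4 (.node 2 (.node 1 (.leaf (nat_lit 0x0)) (.leaf (nat_lit 0x0))) (.node 1 (.leaf (nat_lit 0x0)) (.leaf (nat_lit 0x0)))) (.node 2 (.node 1 (.leaf (nat_lit 0x0)) (.leaf (nat_lit 0x0))) (.node 1 (.leaf (nat_lit 0x70015502)) (.leaf (nat_lit 0x0)))))))) (.node 32 (.node 16 (.node 8 (.node 4 (.node 2 (.node 1 (.leaf (nat_lit 0x0)) (.leaf (nat_lit 0x0))) (.node 1 (.leaf (nat_lit 0x0)) (.leaf (nat_lit 0x0)))) (.node 2 (.node 1 (.leaf (nat_lit 0x0)) (.leaf (nat_lit 0x0))) (.node 1 (.leaf (nat_lit 0x0)) (.leaf (nat_lit 0x0))))) (.node 4 (.node 2 (.node 1 (.leaf (nat_lit 0x0)) (.leaf (nat_lit 0x0))) (.node 1 (.leaf (nat_lit 0x0)) (.leaf (nat_lit 0x0)))) (.node 2 (.node 1 (.leaf (nat_lit 0x0)) (.leaf (nat_lit 0x0))) (.node 1 (.leaf (nat_lit 0x0)) (.leaf (nat_lit 0x0)))))) (.node 8 (.node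 4 (.node 2 (.node 1 (.leaf (nat_lit 0x0)) (.leaf (nat_lit 0x0))) (.node 1 (.leaf (nat_lit 0x0)) (.leaf (nat_lit 0x0)))) (.node 2 (.node 1 (.leaf (nat_lit 0x0)) (.leaf (nat_lit 0x0))) (.node 1 (.leaf (nat_lit 0x0)) (.leaf (nat_lit 0x0))))) (.node 4 (.node 2 (.node 1 (.leaf (nat_lit 0x0)) (.leaf (nat_lit 0x0))) (.node 1 (.leaf (nat_lit 0x0)) (.leaf (nat_lit 0x90002703)))) (.node 2 (.node 1 (.leaf (nat_lit 0x70030601)) (.leaf (nat_lit 0x0))) (.node 1 (.leaf (nat_lit 0x0)) (.leaf (nat_lit 0x0))))))) (.node 16 (.node 8 (.node 4 (.node 2 (.node 1 (.leaf (nat_lit 0x0)) (.leaf (nat_lit 0x0))) (.node 1 (.leaf (nat_lit 0x0)) (.leaf (nat_lit 0x0)))) (.node 2 (.node 1 (.leaf (nat_lit 0x0)) (.leaf (nat_lit 0x0))) (.node 1 (.leaf (nat_lit 0x9002f003)) (.leaf (nat_lit 0x0))))) (.node 4 (.node 2 (.node 1 (.leaf (nat_lit 0x9003fe01)) (.leaf (nat_lit 0x0))) (.node 1 (.leaf (nat_lit 0x80029e03)) (.leaf (nat_lit 0x60026802)))) (.node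 2 (.node 1 (.leaf (nat_lit 0x0)) (.leaf (nat_lit 0x0))) (.node 1 (.leaf (nat_lit 0x6002aa03)) (.leaf (nat_lit 0x0)))))) (.node 8 (.node 4 (.node 2 (.node 1 (.leaf (nat_lit 0x0)) (.leaf (nat_lit 0x80028403))) (.node 1 (.leaf (nat_lit 0x90027302)) (.leaf (nat_lit 0x0)))) (.node 2 (.node 1 (.leaf (nat_lit 0x0)) (.leaf (nat_lit 0x60028703))) (.node 1 (.leaf (nat_lit 0x90020200)) (.leaf (nat_lit 0x0))))) (.node 4 (.node 2 (.node 1 (.leaf (nat_lit 0x7001f501)) (.leaf (nat_lit 0x0))) (.node 1 (.leaf (nat_lit 0x0)) (.leaf (nat_lit 0x0)))) (.node 2 (.node 1 (.leaf (nat_lit 0x0)) (.leaf (nat_lit 0x0))) (.node 1 (.leaf (nat_lit 0x0)) (.leaf (nat_lit 0x40006c01))))))))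

noncomputable def lvO1_4 : Tree :=
  .node 64 (.node 32 (.node 16 (.node 8 (.node 4 (.node 2 (.node 1 (.leaf (nat_lit 0x40012300)) (.leaf (nat_lit 0x0))) (.node 1 (.leaf (nat_lit 0x80019202)) (.leaf (nat_lit 0x0)))) (.node 2 (.node 1 (.leaf (nat_lit 0x0)) (.leaf (nat_lit 0x0))) (.node 1 (.leaf (nat_lit 0x7001ee00)) (.leaf (nat_lit 0x70019502))))) (.node 4 (.node 2 (.node 1 (.leaf (nat_lit 0x0)) (.leaf (nat_lit 0x0))) (.node 1 (.leaf (nat_lit 0x0)) (.leaf (nat_lit 0x0)))) (.node 2 (.node 1 (.leaf (nat_lit 0x0)) (.leaf (nat_lit 0x0))) (.node 1 (.leaf (nat_lit 0x0)) (.leaf (nat_lit 0x0)))))) (.node 8 (.node 4 (.node 2 (.node 1 (.leaf (nat_lit 0x0)) (.leaf (nat_lit 0x80029e02))) (.node 1 (.leaf (nat_lit 0x0)) (.leaf (nat_lit 0x80026203)))) (.node 2 (.node 1 (.leaf (nat_lit 0xa0039900)) (.leaf (nat_lit 0x0))) (.node 1 (.leaf (nat_lit 0x0)) (.leaf (nat_lit 0x0))))) (.node 4 (.node 2 (.node 1 (.leaf (nat_lit 0x0)) (.leaf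 (nat_lit 0x0))) (.node 1 (.leaf (nat_lit 0x0)) (.leaf (nat_lit 0x0)))) (.node 2 (.node 1 (.leaf (nat_lit 0x40007900)) (.leaf (nat_lit 0x0))) (.node 1 (.leaf (nat_lit 0x0)) (.leaf (nat_lit 0x0))))))) (.node 16 (.node 8 (.node 4 (.node 2 (.node 1 (.leaf (nat_lit 0x0)) (.leaf (nat_lit 0x0))) (.node 1 (.leaf (nat_lit 0x0)) (.leaf (nat_lit 0x0)))) (.node 2 (.node 1 (.leaf (nat_lit 0x0)) (.leaf (nat_lit 0x0))) (.node 1 (.leaf (nat_lit 0x0)) (.leaf (nat_lit 0x8003b601))))) (.node 4 (.node 2 (.node 1 (.leaf (nat_lit 0xa002b702)) (.leaf (nat_lit 0x90008003))) (.node 1 (.leaf (nat_lit 0x0)) (.leaf (nat_lit 0x9001ea01)))) (.node 2 (.node 1 (.leaf (nat_lit 0x0)) (.leaf (nat_lit 0x0))) (.node 1 (.leaf (nat_lit 0x0)) (.leaf (nat_lit 0x7001eb01)))))) (.node 8 (.node 4 (.node 2 (.node 1 (.leaf (nat_lit 0x7002c102)) (.leaf (nat_lit 0x0))) (.node 1 (.leaf (nat_lit 0x0)) (.leaf (nat_lit 0x0)))) (.node 2 (.node 1 (.leaf (nat_lit 0x0))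 (.leaf (nat_lit 0x0))) (.node 1 (.leaf (nat_lit 0x0)) (.leaf (nat_lit 0x0))))) (.node 4 (.node 2 (.node 1 (.leaf (nat_lit 0x0)) (.leaf (nat_lit 0x0))) (.node 1 (.leaf (nat_lit 0x0)) (.leaf (nat_lit 0x0)))) (.node 2 (.node 1 (.leaf (nat_lit 0x0)) (.leaf (nat_lit 0x0))) (.node 1 (.leaf (nat_lit 0x0)) (.leaf (nat_lit 0x0)))))))) (.node 32 (.node 16 (.node 8 (.node 4 (.node 2 (.node 1 (.leaf (nat_lit 0x0)) (.leaf (nat_lit 0x0))) (.node 1 (.leaf (nat_lit 0x0)) (.leaf (nat_lit 0x0)))) (.node 2 (.node 1 (.leaf (nat_lit 0x0)) (.leaf (nat_lit 0x0))) (.node 1 (.leaf (nat_lit 0x0)) (.leaf (nat_lit 0x0))))) (.node 4 (.node 2 (.node 1 (.leaf (nat_lit 0x0)) (.leaf (nat_lit 0x0))) (.node 1 (.leaf (nat_lit 0x0)) (.leaf (nat_lit 0x0)))) (.node 2 (.node 1 (.leaf (nat_lit 0x0)) (.leaf (nat_lit 0x0))) (.node 1 (.leaf (nat_lit 0x0)) (.leaf (nat_lit 0x0)))))) (.node 8 (.node 4 (.node 2 (.node 1 (.leaf (nat_lit 0x0)) (.leaf (nat_lit 0x0)))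 (.node 1 (.leaf (nat_lit 0x0)) (.leaf (nat_lit 0x0)))) (.node 2 (.node 1 (.leaf (nat_lit 0x0)) (.leaf (nat_lit 0x90007f03))) (.node 1 (.leaf (nat_lit 0x0)) (.leaf (nat_lit 0x0))))) (.node 4 (.node 2 (.node 1 (.leaf (nat_lit 0x0)) (.leaf (nat_lit 0x0))) (.node 1 (.leaf (nat_lit 0x0)) (.leaf (nat_lit 0x0)))) (.node 2 (.node 1 (.leaf (nat_lit 0x0)) (.leaf (nat_lit 0x0))) (.node 1 (.leaf (nat_lit 0x0)) (.leaf (nat_lit 0x0))))))) (.node 16 (.node 8 (.node 4 (.node 2 (.node 1 (.leaf (nat_lit 0xb003dd01)) (.leaf (nat_lit 0x90021103))) (.node 1 (.leaf (nat_lit 0x7002f502)) (.leaf (nat_lit 0x0)))) (.node 2 (.node 1 (.leaf (nat_lit 0x0)) (.leaf (nat_lit 0xa002fa02))) (.node 1 (.leaf (nat_lit 0x8001be00)) (.leaf (nat_lit 0x0))))) (.node 4 (.node 2 (.node 1 (.leaf (nat_lit 0x50021c03)) (.leaf (nat_lit 0x0))) (.node 1 (.leaf (nat_lit 0x0)) (.leaf (nat_lit 0x0)))) (.node 2 (.node 1 (.leaf (nat_lit 0x0)) (.leaf (nat_lit 0x0)))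 (.node 1 (.leaf (nat_lit 0x0)) (.leaf (nat_lit 0x5001ff03)))))) (.node 8 (.node 4 (.node 2 (.node 1 (.leaf (nat_lit 0x50020003)) (.leaf (nat_lit 0xa0032a01))) (.node 1 (.leaf (nat_lit 0x0)) (.leaf (nat_lit 0x80020603)))) (.node 2 (.node 1 (.leaf (nat_lit 0x0)) (.leaf (nat_lit 0x0))) (.node 1 (.leaf (nat_lit 0x0)) (.leaf (nat_lit 0x90020203))))) (.node 4 (.node 2 (.node 1 (.leaf (nat_lit 0x7001f502)) (.leaf (nat_lit 0xa0031702))) (.node 1 (.leaf (nat_lit 0x0)) (.leaf (nat_lit 0x0)))) (.node 2 (.node 1 (.leaf (nat_lit 0x0)) (.leaf (nat_lit 0x0))) (.node 1 (.leaf (nat_lit 0x0)) (.leaf (nat_lit 0x0))))))))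

noncomputable def lvO1_5 : Tree :=
  .node 64 (.node 32 (.node 16 (.node 8 (.node 4 (.node 2 (.node 1 (.leaf (nat_lit 0x0)) (.leaf (nat_lit 0x0))) (.node 1 (.leaf (nat_lit 0x0)) (.leaf (nat_lit 0x0)))) (.node 2 (.node 1 (.leaf (nat_lit 0x70032702)) (.leaf (nat_lit 0x0))) (.node 1 (.leaf (nat_lit 0x80017d00)) (.leaf (nat_lit 0x50020002))))) (.node 4 (.node 2 (.node 1 (.leaf (nat_lit 0x0)) (.leaf (nat_lit 0x0))) (.node 1 (.leaf (nat_lit 0x0)) (.leaf (nat_lit 0x0)))) (.node 2 (.node 1 (.leaf (nat_lit 0x0)) (.leaf (nat_lit 0x0))) (.node 1 (.leaf (nat_lit 0x0)) (.leaf (nat_lit 0x80005200)))))) (.node 8 (.node 4 (.node 2 (.node 1 (.leaf (nat_lit 0x0)) (.leaf (nat_lit 0x0))) (.node 1 (.leaf (nat_lit 0x0)) (.leaf (nat_lit 0x0)))) (.node 2 (.node 1 (.leaf (nat_lit 0x0)) (.leaf (nat_lit 0x0))) (.node 1 (.leaf (nat_lit 0x0)) (.leaf (nat_lit 0x0))))) (.node 4 (.node 2 (.node 1 (.leaf (nat_lit 0x0)) (.leaf (nat_lit 0x0))) (.node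 1 (.leaf (nat_lit 0x0)) (.leaf (nat_lit 0x0)))) (.node 2 (.node 1 (.leaf (nat_lit 0x0)) (.leaf (nat_lit 0xa001e803))) (.node 1 (.leaf (nat_lit 0x7002f100)) (.leaf (nat_lit 0x0))))))) (.node 16 (.node 8 (.node 4 (.node 2 (.node 1 (.leaf (nat_lit 0x0)) (.leaf (nat_lit 0x7001eb03))) (.node 1 (.leaf (nat_lit 0x0)) (.leaf (nat_lit 0x0)))) (.node 2 (.node 1 (.leaf (nat_lit 0x0)) (.leaf (nat_lit 0x0))) (.node 1 (.leaf (nat_lit 0x0)) (.leaf (nat_lit 0x0))))) (.node 4 (.node 2 (.node 1 (.leaf (nat_lit 0x0)) (.leaf (nat_lit 0x0))) (.node 1 (.leaf (nat_lit 0x50015f01)) (.leaf (nat_lit 0x0)))) (.node 2 (.node 1 (.leaf (nat_lit 0x0)) (.leaf (nat_lit 0x0))) (.node 1 (.leaf (nat_lit 0x0)) (.leaf (nat_lit 0x0)))))) (.node 8 (.node 4 (.node 2 (.node 1 (.leaf (nat_lit 0x0)) (.leaf (nat_lit 0x0))) (.node 1 (.leaf (nat_lit 0x0)) (.leaf (nat_lit 0x0)))) (.node 2 (.node 1 (.leaf (nat_lit 0x80035a02)) (.leaf (nat_lit 0x70030a01))) (.node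 1 (.leaf (nat_lit 0x0)) (.leaf (nat_lit 0x90001803))))) (.node 4 (.node 2 (.node 1 (.leaf (nat_lit 0x80036002)) (.leaf (nat_lit 0x0))) (.node 1 (.leaf (nat_lit 0x0)) (.leaf (nat_lit 0x0)))) (.node 2 (.node 1 (.leaf (nat_lit 0x0)) (.leaf (nat_lit 0x0))) (.node 1 (.leaf (nat_lit 0x0)) (.leaf (nat_lit 0x0)))))))) (.node 32 (.node 16 (.node 8 (.node 4 (.node 2 (.node 1 (.leaf (nat_lit 0x0)) (.leaf (nat_lit 0x6000b003))) (.node 1 (.leaf (nat_lit 0x0)) (.leaf (nat_lit 0x0)))) (.node 2 (.node 1 (.leaf (nat_lit 0x0)) (.leaf (nat_lit 0x0))) (.node 1 (.leaf (nat_lit 0x0)) (.leaf (nat_lit 0x0))))) (.node 4 (.node 2 (.node 1 (.leaf (nat_lit 0x0)) (.leaf (nat_lit 0x0))) (.node 1 (.leaf (nat_lit 0x0)) (.leaf (nat_lit 0x0)))) (.node 2 (.node 1 (.leaf (nat_lit 0x0)) (.leaf (nat_lit 0x0))) (.node 1 (.leaf (nat_lit 0x0)) (.leaf (nat_lit 0x0)))))) (.node 8 (.node 4 (.node 2 (.node 1 (.leaf (nat_lit 0x0)) (.leaf (nat_lit 0x0))) (.node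 1 (.leaf (nat_lit 0x0)) (.leaf (nat_lit 0x0)))) (.node 2 (.node 1 (.leaf (nat_lit 0x0)) (.leaf (nat_lit 0x0))) (.node 1 (.leaf (nat_lit 0x0)) (.leaf (nat_lit 0x0))))) (.node 4 (.node 2 (.node 1 (.leaf (nat_lit 0x0)) (.leaf (nat_lit 0x0))) (.node 1 (.leaf (nat_lit 0x0)) (.leaf (nat_lit 0x0)))) (.node 2 (.node 1 (.leaf (nat_lit 0x0)) (.leaf (nat_lit 0x0))) (.node 1 (.leaf (nat_lit 0x0)) (.leaf (nat_lit 0x0))))))) (.node 16 (.node 8 (.node 4 (.node 2 (.node 1 (.leaf (nat_lit 0x0)) (.leaf (nat_lit 0x0))) (.node 1 (.leaf (nat_lit 0x0)) (.leaf (nat_lit 0x0)))) (.node 2 (.node 1 (.leaf (nat_lit 0x0)) (.leaf (nat_lit 0x80036001))) (.node 1 (.leaf (nat_lit 0x0)) (.leaf (nat_lit 0x0))))) (.node 4 (.node 2 (.node 1 (.leaf (nat_lit 0x0)) (.leaf (nat_lit 0x0))) (.node 1 (.leaf (nat_lit 0x0)) (.leaf (nat_lit 0x0)))) (.node 2 (.node 1 (.leaf (nat_lit 0x0)) (.leaf (nat_lit 0x0))) (.node 1 (.leaf (nat_lit 0x0)) (.leaf (nat_lit 0x0))))))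 (.node 8 (.node 4 (.node 2 (.node 1 (.leaf (nat_lit 0x80035a01)) (.leaf (nat_lit 0x60019e03))) (.node 1 (.leaf (nat_lit 0x90039c02)) (.leaf (nat_lit 0x8002a101)))) (.node 2 (.node 1 (.leaf (nat_lit 0x0)) (.leaf (nat_lit 0x6001a503))) (.node 1 (.leaf (nat_lit 0x0)) (.leaf (nat_lit 0x0))))) (.node 4 (.node 2 (.node 1 (.leaf (nat_lit 0x0)) (.leaf (nat_lit 0xa0039d02))) (.node 1 (.leaf (nat_lit 0x9001a603)) (.leaf (nat_lit 0x90039b02)))) (.node 2 (.node 1 (.leaf (nat_lit 0x0)) (.leaf (nat_lit 0x0))) (.node 1 (.leaf (nat_lit 0x0)) (.leaf (nat_lit 0x0))))))))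

noncomputable def lvO1_6 : Tree :=
  .node 64 (.node 32 (.node 16 (.node 8 (.node 4 (.node 2 (.node 1 (.leaf (nat_lit 0x0)) (.leaf (nat_lit 0x0))) (.node 1 (.leaf (nat_lit 0x0)) (.leaf (nat_lit 0x0)))) (.node 2 (.node 1 (.leaf (nat_lit 0x0)) (.leaf (nat_lit 0x0))) (.node 1 (.leaf (nat_lit 0x60019103)) (.leaf (nat_lit 0x60028701))))) (.node 4 (.node 2 (.node 1 (.leaf (nat_lit 0x0)) (.leaf (nat_lit 0x80019203))) (.node 1 (.leaf (nat_lit 0x60027002)) (.leaf (nat_lit 0x9003b502)))) (.node 2 (.node 1 (.leaf (nat_lit 0x0)) (.leaf (nat_lit 0x0))) (.node 1 (.leaf (nat_lit 0x0)) (.leaf (nat_lit 0x0)))))) (.node 8 (.node 4 (.node 2 (.node 1 (.leaf (nat_lit 0x0)) (.leaf (nat_lit 0x0))) (.node 1 (.leaf (nat_lit 0x0)) (.leaf (nat_lit 0x0)))) (.node 2 (.node 1 (.leaf (nat_lit 0xa0027702)) (.leaf (nat_lit 0x80039802))) (.node 1 (.leaf (nat_lit 0x0)) (.leaf (nat_lit 0x9000ee03))))) (.node 4 (.node 2 (.node 1 (.leaf (nat_lit 0x0))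 (.leaf (nat_lit 0x0))) (.node 1 (.leaf (nat_lit 0x0)) (.leaf (nat_lit 0x0)))) (.node 2 (.node 1 (.leaf (nat_lit 0x0)) (.leaf (nat_lit 0x0))) (.node 1 (.leaf (nat_lit 0x0)) (.leaf (nat_lit 0x0))))))) (.node 16 (.node 8 (.node 4 (.node 2 (.node 1 (.leaf (nat_lit 0x0)) (.leaf (nat_lit 0x0))) (.node 1 (.leaf (nat_lit 0x0)) (.leaf (nat_lit 0x0)))) (.node 2 (.node 1 (.leaf (nat_lit 0x0)) (.leaf (nat_lit 0x0))) (.node 1 (.leaf (nat_lit 0x9003de02)) (.leaf (nat_lit 0x60026f00))))) (.node 4 (.node 2 (.node 1 (.leaf (nat_lit 0x0)) (.leaf (nat_lit 0x0))) (.node 1 (.leaf (nat_lit 0x90028602)) (.leaf (nat_lit 0x0)))) (.node 2 (.node 1 (.leaf (nat_lit 0x0)) (.leaf (nat_lit 0x0))) (.node 1 (.leaf (nat_lit 0x0)) (.leaf (nat_lit 0x0)))))) (.node 8 (.node 4 (.node 2 (.node 1 (.leaf (nat_lit 0x0)) (.leaf (nat_lit 0x0))) (.node 1 (.leaf (nat_lit 0x0)) (.leaf (nat_lit 0x0)))) (.node 2 (.node 1 (.leaf (nat_lit 0xa0004000)) (.leaf (nat_lit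 0x0))) (.node 1 (.leaf (nat_lit 0x0)) (.leaf (nat_lit 0x0))))) (.node 4 (.node 2 (.node 1 (.leaf (nat_lit 0x0)) (.leaf (nat_lit 0x0))) (.node 1 (.leaf (nat_lit 0x0)) (.leaf (nat_lit 0x0)))) (.node 2 (.node 1 (.leaf (nat_lit 0x0)) (.leaf (nat_lit 0x0))) (.node 1 (.leaf (nat_lit 0x0)) (.leaf (nat_lit 0x0)))))))) (.node 32 (.node 16 (.node 8 (.node 4 (.node 2 (.node 1 (.leaf (nat_lit 0x0)) (.leaf (nat_lit 0x0))) (.node 1 (.leaf (nat_lit 0x0)) (.leaf (nat_lit 0x0)))) (.node 2 (.node 1 (.leaf (nat_lit 0x70018203)) (.leaf (nat_lit 0xa0026100))) (.node 1 (.leaf (nat_lit 0x0)) (.leaf (nat_lit 0x0))))) (.node 4 (.node 2 (.node 1 (.leaf (nat_lit 0x0)) (.leaf (nat_lit 0x0))) (.node 1 (.leaf (nat_lit 0x80018503)) (.leaf (nat_lit 0x0)))) (.node 2 (.node 1 (.leaf (nat_lit 0x0)) (.leaf (nat_lit 0x0))) (.node 1 (.leaf (nat_lit 0x0)) (.leaf (nat_lit 0x0)))))) (.node 8 (.node 4 (.node 2 (.node 1 (.leaf (nat_lit 0x0)) (.leaf (nat_lit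 0x0))) (.node 1 (.leaf (nat_lit 0x0)) (.leaf (nat_lit 0x0)))) (.node 2 (.node 1 (.leaf (nat_lit 0x0)) (.leaf (nat_lit 0x0))) (.node 1 (.leaf (nat_lit 0x0)) (.leaf (nat_lit 0x0))))) (.node 4 (.node 2 (.node 1 (.leaf (nat_lit 0x0)) (.leaf (nat_lit 0x0))) (.node 1 (.leaf (nat_lit 0x70001003)) (.leaf (nat_lit 0x9000d101)))) (.node 2 (.node 1 (.leaf (nat_lit 0x0)) (.leaf (nat_lit 0x80018a00))) (.node 1 (.leaf (nat_lit 0x0)) (.leaf (nat_lit 0x0))))))) (.node 16 (.node 8 (.node 4 (.node 2 (.node 1 (.leaf (nat_lit 0x7000e803)) (.leaf (nat_lit 0x0))) (.node 1 (.leaf (nat_lit 0x0)) (.leaf (nat_lit 0x0)))) (.node 2 (.node 1 (.leaf (nat_lit 0x0)) (.leaf (nat_lit 0x0))) (.node 1 (.leaf (nat_lit 0x0)) (.leaf (nat_lit 0x0))))) (.node 4 (.node 2 (.node 1 (.leaf (nat_lit 0x0)) (.leaf (nat_lit 0x0))) (.node 1 (.leaf (nat_lit 0x0)) (.leaf (nat_lit 0x0)))) (.node 2 (.node 1 (.leaf (nat_lit 0x0)) (.leaf (nat_lit 0x0))) (.node 1 (.leaf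 (nat_lit 0x0)) (.leaf (nat_lit 0x0)))))) (.node 8 (.node 4 (.node 2 (.node 1 (.leaf (nat_lit 0x0)) (.leaf (nat_lit 0x0))) (.node 1 (.leaf (nat_lit 0x0)) (.leaf (nat_lit 0x0)))) (.node 2 (.node 1 (.leaf (nat_lit 0x0)) (.leaf (nat_lit 0x0))) (.node 1 (.leaf (nat_lit 0x0)) (.leaf (nat_lit 0x0))))) (.node 4 (.node 2 (.node 1 (.leaf (nat_lit 0x0)) (.leaf (nat_lit 0x0))) (.node 1 (.leaf (nat_lit 0x0)) (.leaf (nat_lit 0x0)))) (.node 2 (.node 1 (.leaf (nat_lit 0x0)) (.leaf (nat_lit 0x0))) (.node 1 (.leaf (nat_lit 0x0)) (.leaf (nat_lit 0x0))))))))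

noncomputable def lvO1_7 : Tree :=
  .node 64 (.node 32 (.node 16 (.node 8 (.node 4 (.node 2 (.node 1 (.leaf (nat_lit 0x0)) (.leaf (nat_lit 0x0))) (.node 1 (.leaf (nat_lit 0x0)) (.leaf (nat_lit 0x0)))) (.node 2 (.node 1 (.leaf (nat_lit 0x0)) (.leaf (nat_lit 0x0))) (.node 1 (.leaf (nat_lit 0x0)) (.leaf (nat_lit 0x0))))) (.node 4 (.node 2 (.node 1 (.leaf (nat_lit 0x0)) (.leaf (nat_lit 0x0))) (.node 1 (.leaf (nat_lit 0x0)) (.leaf (nat_lit 0x0)))) (.node 2 (.node 1 (.leaf (nat_lit 0x0)) (.leaf (nat_lit 0xa002b701))) (.node 1 (.leaf (nat_lit 0x0)) (.leaf (nat_lit 0x0)))))) (.node 8 (.node 4 (.node 2 (.node 1 (.leaf (nat_lit 0x0)) (.leaf (nat_lit 0x0))) (.node 1 (.leaf (nat_lit 0x0)) (.leaf (nat_lit 0x0)))) (.node 2 (.node 1 (.leaf (nat_lit 0x0)) (.leaf (nat_lit 0x0))) (.node 1 (.leaf (nat_lit 0x0)) (.leaf (nat_lit 0x60000c01))))) (.node 4 (.node 2 (.node 1 (.leaf (nat_lit 0x70013f03)) (.leaf (nat_lit 0x90013c03))) (.node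 1 (.leaf (nat_lit 0x0)) (.leaf (nat_lit 0x8000eb01)))) (.node 2 (.node 1 (.leaf (nat_lit 0x80014303)) (.leaf (nat_lit 0x9000ff01))) (.node 1 (.leaf (nat_lit 0x0)) (.leaf (nat_lit 0x0))))))) (.node 16 (.node 8 (.node 4 (.node 2 (.node 1 (.leaf (nat_lit 0x0)) (.leaf (nat_lit 0x0))) (.node 1 (.leaf (nat_lit 0x0)) (.leaf (nat_lit 0x0)))) (.node 2 (.node 1 (.leaf (nat_lit 0x0)) (.leaf (nat_lit 0x0))) (.node 1 (.leaf (nat_lit 0x0)) (.leaf (nat_lit 0x0))))) (.node 4 (.node 2 (.node 1 (.leaf (nat_lit 0x0)) (.leaf (nat_lit 0x0))) (.node 1 (.leaf (nat_lit 0x0)) (.leaf (nat_lit 0x0)))) (.node 2 (.node 1 (.leaf (nat_lit 0x0)) (.leaf (nat_lit 0x0))) (.node 1 (.leaf (nat_lit 0x0)) (.leaf (nat_lit 0x0)))))) (.node 8 (.node 4 (.node 2 (.node 1 (.leaf (nat_lit 0x0)) (.leaf (nat_lit 0x0))) (.node 1 (.leaf (nat_lit 0x0)) (.leaf (nat_lit 0x0)))) (.node 2 (.node 1 (.leaf (nat_lit 0x0)) (.leaf (nat_lit 0x80013603))) (.node 1 (.leaf (nat_lit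 0x70030602)) (.leaf (nat_lit 0x90030902))))) (.node 4 (.node 2 (.node 1 (.leaf (nat_lit 0x0)) (.leaf (nat_lit 0x90020201))) (.node 1 (.leaf (nat_lit 0x0)) (.leaf (nat_lit 0x0)))) (.node 2 (.node 1 (.leaf (nat_lit 0x0)) (.leaf (nat_lit 0x0))) (.node 1 (.leaf (nat_lit 0x0)) (.leaf (nat_lit 0x0)))))))) (.node 32 (.node 16 (.node 8 (.node 4 (.node 2 (.node 1 (.leaf (nat_lit 0x0)) (.leaf (nat_lit 0x0))) (.node 1 (.leaf (nat_lit 0x0)) (.leaf (nat_lit 0x0)))) (.node 2 (.node 1 (.leaf (nat_lit 0x0)) (.leaf (nat_lit 0x0))) (.node 1 (.leaf (nat_lit 0x0)) (.leaf (nat_lit 0x0))))) (.node 4 (.node 2 (.node 1 (.leaf (nat_lit 0x0)) (.leaf (nat_lit 0x0))) (.node 1 (.leaf (nat_lit 0x0)) (.leaf (nat_lit 0x0)))) (.node 2 (.node 1 (.leaf (nat_lit 0x0)) (.leaf (nat_lit 0x0))) (.node 1 (.leaf (nat_lit 0x0)) (.leaf (nat_lit 0x0)))))) (.node 8 (.node 4 (.node 2 (.node 1 (.leaf (nat_lit 0x0)) (.leaf (nat_lit 0x0))) (.node 1 (.leaf (nat_lit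 0x0)) (.leaf (nat_lit 0x0)))) (.node 2 (.node 1 (.leaf (nat_lit 0x0)) (.leaf (nat_lit 0x0))) (.node 1 (.leaf (nat_lit 0x0)) (.leaf (nat_lit 0x0))))) (.node 4 (.node 2 (.node 1 (.leaf (nat_lit 0x0)) (.leaf (nat_lit 0x0))) (.node 1 (.leaf (nat_lit 0x0)) (.leaf (nat_lit 0x0)))) (.node 2 (.node 1 (.leaf (nat_lit 0x0)) (.leaf (nat_lit 0xa0013003))) (.node 1 (.leaf (nat_lit 0x80013103)) (.leaf (nat_lit 0x0))))))) (.node 16 (.node 8 (.node 4 (.node 2 (.node 1 (.leaf (nat_lit 0x0)) (.leaf (nat_lit 0x0))) (.node 1 (.leaf (nat_lit 0x0)) (.leaf (nat_lit 0x0)))) (.node 2 (.node 1 (.leaf (nat_lit 0x0)) (.leaf (nat_lit 0x0))) (.node 1 (.leaf (nat_lit 0x0)) (.leaf (nat_lit 0x0))))) (.node 4 (.node 2 (.node 1 (.leaf (nat_lit 0x0)) (.leaf (nat_lit 0x0))) (.node 1 (.leaf (nat_lit 0x0)) (.leaf (nat_lit 0x0)))) (.node 2 (.node 1 (.leaf (nat_lit 0x0)) (.leaf (nat_lit 0x0))) (.node 1 (.leaf (nat_lit 0x0)) (.leaf (nat_lit 0x0)))))) (.node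 8 (.node 4 (.node 2 (.node 1 (.leaf (nat_lit 0x0)) (.leaf (nat_lit 0x0))) (.node 1 (.leaf (nat_lit 0x0)) (.leaf (nat_lit 0x0)))) (.node 2 (.node 1 (.leaf (nat_lit 0x0)) (.leaf (nat_lit 0x0))) (.node 1 (.leaf (nat_lit 0x0)) (.leaf (nat_lit 0x0))))) (.node 4 (.node 2 (.node 1 (.leaf (nat_lit 0x0)) (.leaf (nat_lit 0x0))) (.node 1 (.leaf (nat_lit 0x0)) (.leaf (nat_lit 0x0)))) (.node 2 (.node 1 (.leaf (nat_lit 0x0)) (.leaf (nat_lit 0x0))) (.node 1 (.leaf (nat_lit 0x80034402)) (.leaf (nat_lit 0x50012603))))))))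

noncomputable def lvO1_8 : Tree :=
  .node 64 (.node 32 (.node 16 (.node 8 (.node 4 (.node 2 (.node 1 (.leaf (nat_lit 0x0)) (.leaf (nat_lit 0x90012e03))) (.node 1 (.leaf (nat_lit 0x0)) (.leaf (nat_lit 0x0)))) (.node 2 (.node 1 (.leaf (nat_lit 0x0)) (.leaf (nat_lit 0x0))) (.node 1 (.leaf (nat_lit 0x0)) (.leaf (nat_lit 0x0))))) (.node 4 (.node 2 (.node 1 (.leaf (nat_lit 0x0)) (.leaf (nat_lit 0x0))) (.node 1 (.leaf (nat_lit 0x0)) (.leaf (nat_lit 0x0)))) (.node 2 (.node 1 (.leaf (nat_lit 0x0)) (.leaf (nat_lit 0x0))) (.node 1 (.leaf (nat_lit 0x0)) (.leaf (nat_lit 0x0)))))) (.node 8 (.node 4 (.node 2 (.node 1 (.leaf (nat_lit 0x0)) (.leaf (nat_lit 0x0))) (.node 1 (.leaf (nat_lit 0x0)) (.leaf (nat_lit 0x0)))) (.node 2 (.node 1 (.leaf (nat_lit 0x0)) (.leaf (nat_lit 0x0))) (.node 1 (.leaf (nat_lit 0x0)) (.leaf (nat_lit 0x0))))) (.node 4 (.node 2 (.node 1 (.leaf (nat_lit 0x0)) (.leaf (nat_lit 0x0))) (.node 1 (.leaf (nat_lit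 0x0)) (.leaf (nat_lit 0x0)))) (.node 2 (.node 1 (.leaf (nat_lit 0x0)) (.leaf (nat_lit 0x0))) (.node 1 (.leaf (nat_lit 0x0)) (.leaf (nat_lit 0x0))))))) (.node 16 (.node 8 (.node 4 (.node 2 (.node 1 (.leaf (nat_lit 0x0)) (.leaf (nat_lit 0x0))) (.node 1 (.leaf (nat_lit 0x0)) (.leaf (nat_lit 0x0)))) (.node 2 (.node 1 (.leaf (nat_lit 0x0)) (.leaf (nat_lit 0x0))) (.node 1 (.leaf (nat_lit 0x0)) (.leaf (nat_lit 0x0))))) (.node 4 (.node 2 (.node 1 (.leaf (nat_lit 0x0)) (.leaf (nat_lit 0x0))) (.node 1 (.leaf (nat_lit 0x0)) (.leaf (nat_lit 0x0)))) (.node 2 (.node 1 (.leaf (nat_lit 0x0)) (.leaf (nat_lit 0x0))) (.node 1 (.leaf (nat_lit 0x0)) (.leaf (nat_lit 0x0)))))) (.node 8 (.node 4 (.node 2 (.node 1 (.leaf (nat_lit 0x0)) (.leaf (nat_lit 0x0))) (.node 1 (.leaf (nat_lit 0x0)) (.leaf (nat_lit 0x0)))) (.node 2 (.node 1 (.leaf (nat_lit 0x0)) (.leaf (nat_lit 0x0))) (.node 1 (.leaf (nat_lit 0x0)) (.leaf (nat_lit 0x0))))) (.node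 4 (.node 2 (.node 1 (.leaf (nat_lit 0x0)) (.leaf (nat_lit 0x0))) (.node 1 (.leaf (nat_lit 0x0)) (.leaf (nat_lit 0x0)))) (.node 2 (.node 1 (.leaf (nat_lit 0x0)) (.leaf (nat_lit 0x0))) (.node 1 (.leaf (nat_lit 0x0)) (.leaf (nat_lit 0x0)))))))) (.node 32 (.node 16 (.node 8 (.node 4 (.node 2 (.node 1 (.leaf (nat_lit 0x0)) (.leaf (nat_lit 0x0))) (.node 1 (.leaf (nat_lit 0x0)) (.leaf (nat_lit 0x0)))) (.node 2 (.node 1 (.leaf (nat_lit 0x0)) (.leaf (nat_lit 0x0))) (.node 1 (.leaf (nat_lit 0x0)) (.leaf (nat_lit 0x0))))) (.node 4 (.node 2 (.node 1 (.leaf (nat_lit 0x0)) (.leaf (nat_lit 0x0))) (.node 1 (.leaf (nat_lit 0x0)) (.leaf (nat_lit 0x0)))) (.node 2 (.node 1 (.leaf (nat_lit 0x0)) (.leaf (nat_lit 0x0))) (.node 1 (.leaf (nat_lit 0x0)) (.leaf (nat_lit 0x0)))))) (.node 8 (.node 4 (.node 2 (.node 1 (.leaf (nat_lit 0x0)) (.leaf (nat_lit 0x0))) (.node 1 (.leaf (nat_lit 0x0)) (.leaf (nat_lit 0x0)))) (.node 2 (.node 1 (.leaf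 (nat_lit 0x0)) (.leaf (nat_lit 0x0))) (.node 1 (.leaf (nat_lit 0x0)) (.leaf (nat_lit 0x0))))) (.node 4 (.node 2 (.node 1 (.leaf (nat_lit 0x0)) (.leaf (nat_lit 0x0))) (.node 1 (.leaf (nat_lit 0x0)) (.leaf (nat_lit 0x0)))) (.node 2 (.node 1 (.leaf (nat_lit 0x0)) (.leaf (nat_lit 0x0))) (.node 1 (.leaf (nat_lit 0x0)) (.leaf (nat_lit 0x0))))))) (.node 16 (.node 8 (.node 4 (.node 2 (.node 1 (.leaf (nat_lit 0x0)) (.leaf (nat_lit 0x0))) (.node 1 (.leaf (nat_lit 0x0)) (.leaf (nat_lit 0x0)))) (.node 2 (.node 1 (.leaf (nat_lit 0x0)) (.leaf (nat_lit 0x0))) (.node 1 (.leaf (nat_lit 0x0)) (.leaf (nat_lit 0x0))))) (.node 4 (.node 2 (.node 1 (.leaf (nat_lit 0x0)) (.leaf (nat_lit 0x0))) (.node 1 (.leaf (nat_lit 0x0)) (.leaf (nat_lit 0x0)))) (.node 2 (.node 1 (.leaf (nat_lit 0x0)) (.leaf (nat_lit 0x0))) (.node 1 (.leaf (nat_lit 0x0)) (.leaf (nat_lit 0x0)))))) (.node 8 (.node 4 (.node 2 (.node 1 (.leaf (nat_lit 0x0)) (.leaf (nat_lit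 0x0))) (.node 1 (.leaf (nat_lit 0x0)) (.leaf (nat_lit 0x0)))) (.node 2 (.node 1 (.leaf (nat_lit 0x0)) (.leaf (nat_lit 0x0))) (.node 1 (.leaf (nat_lit 0x0)) (.leaf (nat_lit 0x0))))) (.node 4 (.node 2 (.node 1 (.leaf (nat_lit 0x0)) (.leaf (nat_lit 0x0))) (.node 1 (.leaf (nat_lit 0x0)) (.leaf (nat_lit 0x0)))) (.node 2 (.node 1 (.leaf (nat_lit 0x0)) (.leaf (nat_lit 0x0))) (.node 1 (.leaf (nat_lit 0x0)) (.leaf (nat_lit 0x0))))))))

noncomputable def lvO1_9 : Tree :=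
  .node 64 (.node 32 (.node 16 (.node 8 (.node 4 (.node 2 (.node 1 (.leaf (nat_lit 0x0)) (.leaf (nat_lit 0x0))) (.node 1 (.leaf (nat_lit 0x0)) (.leaf (nat_lit 0x0)))) (.node 2 (.node 1 (.leaf (nat_lit 0x0)) (.leaf (nat_lit 0x0))) (.node 1 (.leaf (nat_lit 0x0)) (.leaf (nat_lit 0x0))))) (.node 4 (.node 2 (.node 1 (.leaf (nat_lit 0x0)) (.leaf (nat_lit 0x0))) (.node 1 (.leaf (nat_lit 0x0)) (.leaf (nat_lit 0x0)))) (.node 2 (.node 1 (.leaf (nat_lit 0x0)) (.leaf (nat_lit 0x0))) (.node 1 (.leaf (nat_lit 0x0)) (.leaf (nat_lit 0x0)))))) (.node 8 (.node 4 (.node 2 (.node 1 (.leaf (nat_lit 0x0)) (.leaf (nat_lit 0x0))) (.node 1 (.leaf (nat_lit 0x0)) (.leaf (nat_lit 0x0)))) (.node 2 (.node 1 (.leaf (nat_lit 0x0)) (.leaf (nat_lit 0x0))) (.node 1 (.leaf (nat_lit 0x0)) (.leaf (nat_lit 0x0))))) (.node 4 (.node 2 (.node 1 (.leaf (nat_lit 0x0)) (.leaf (nat_lit 0x0))) (.node 1 (.leaf (nat_lit 0x0)) (.leaf (nat_lit 0x0)))) (.node 2 (.node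 1 (.leaf (nat_lit 0x0)) (.leaf (nat_lit 0x0))) (.node 1 (.leaf (nat_lit 0x0)) (.leaf (nat_lit 0x0))))))) (.node 16 (.node 8 (.node 4 (.node 2 (.node 1 (.leaf (nat_lit 0x0)) (.leaf (nat_lit 0x0))) (.node 1 (.leaf (nat_lit 0x0)) (.leaf (nat_lit 0x0)))) (.node 2 (.node 1 (.leaf (nat_lit 0x0)) (.leaf (nat_lit 0x0))) (.node 1 (.leaf (nat_lit 0x0)) (.leaf (nat_lit 0x0))))) (.node 4 (.node 2 (.node 1 (.leaf (nat_lit 0x0)) (.leaf (nat_lit 0x0))) (.node 1 (.leaf (nat_lit 0x0)) (.leaf (nat_lit 0x0)))) (.node 2 (.node 1 (.leaf (nat_lit 0x0)) (.leaf (nat_lit 0x0))) (.node 1 (.leaf (nat_lit 0x0)) (.leaf (nat_lit 0x0)))))) (.node 8 (.node 4 (.node 2 (.node 1 (.leaf (nat_lit 0x0)) (.leaf (nat_lit 0x0))) (.node 1 (.leaf (nat_lit 0x0)) (.leaf (nat_lit 0x0)))) (.node 2 (.node 1 (.leaf (nat_lit 0x0)) (.leaf (nat_lit 0x0))) (.node 1 (.leaf (nat_lit 0x0)) (.leaf (nat_lit 0x0))))) (.node 4 (.node 2 (.node 1 (.leaf (nat_lit 0x0)) (.leaf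 (nat_lit 0x0))) (.node 1 (.leaf (nat_lit 0x0)) (.leaf (nat_lit 0x0)))) (.node 2 (.node 1 (.leaf (nat_lit 0x0)) (.leaf (nat_lit 0x0))) (.node 1 (.leaf (nat_lit 0x0)) (.leaf (nat_lit 0x0)))))))) (.node 32 (.node 16 (.node 8 (.node 4 (.node 2 (.node 1 (.leaf (nat_lit 0x0)) (.leaf (nat_lit 0x0))) (.node 1 (.leaf (nat_lit 0x0)) (.leaf (nat_lit 0x0)))) (.node 2 (.node 1 (.leaf (nat_lit 0x0)) (.leaf (nat_lit 0x0))) (.node 1 (.leaf (nat_lit 0x0)) (.leaf (nat_lit 0x0))))) (.node 4 (.node 2 (.node 1 (.leaf (nat_lit 0x0)) (.leaf (nat_lit 0x0))) (.node 1 (.leaf (nat_lit 0x0)) (.leaf (nat_lit 0x0)))) (.node 2 (.node 1 (.leaf (nat_lit 0x0)) (.leaf (nat_lit 0x0))) (.node 1 (.leaf (nat_lit 0x0)) (.leaf (nat_lit 0x0)))))) (.node 8 (.node 4 (.node 2 (.node 1 (.leaf (nat_lit 0x0)) (.leaf (nat_lit 0x0))) (.node 1 (.leaf (nat_lit 0x0)) (.leaf (nat_lit 0x0)))) (.node 2 (.node 1 (.leaf (nat_lit 0x0)) (.leaf (nat_lit 0x0))) (.node 1 (.leaf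 (nat_lit 0x0)) (.leaf (nat_lit 0x0))))) (.node 4 (.node 2 (.node 1 (.leaf (nat_lit 0x0)) (.leaf (nat_lit 0x0))) (.node 1 (.leaf (nat_lit 0x0)) (.leaf (nat_lit 0x0)))) (.node 2 (.node 1 (.leaf (nat_lit 0x0)) (.leaf (nat_lit 0x0))) (.node 1 (.leaf (nat_lit 0x0)) (.leaf (nat_lit 0x0))))))) (.node 16 (.node 8 (.node 4 (.node 2 (.node 1 (.leaf (nat_lit 0x0)) (.leaf (nat_lit 0x0))) (.node 1 (.leaf (nat_lit 0x0)) (.leaf (nat_lit 0x0)))) (.node 2 (.node 1 (.leaf (nat_lit 0x0)) (.leaf (nat_lit 0x0))) (.node 1 (.leaf (nat_lit 0x0)) (.leaf (nat_lit 0x0))))) (.node 4 (.node 2 (.node 1 (.leaf (nat_lit 0x0)) (.leaf (nat_lit 0x0))) (.node 1 (.leaf (nat_lit 0x0)) (.leaf (nat_lit 0x0)))) (.node 2 (.node 1 (.leaf (nat_lit 0x0)) (.leaf (nat_lit 0x0))) (.node 1 (.leaf (nat_lit 0x0)) (.leaf (nat_lit 0x0)))))) (.node 8 (.node 4 (.node 2 (.node 1 (.leaf (nat_lit 0x0)) (.leaf (nat_lit 0x0))) (.node 1 (.leaf (nat_lit 0x0)) (.leaf (nat_lit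 0x0)))) (.node 2 (.node 1 (.leaf (nat_lit 0x0)) (.leaf (nat_lit 0x0))) (.node 1 (.leaf (nat_lit 0x0)) (.leaf (nat_lit 0x0))))) (.node 4 (.node 2 (.node 1 (.leaf (nat_lit 0x0)) (.leaf (nat_lit 0x0))) (.node 1 (.leaf (nat_lit 0x0)) (.leaf (nat_lit 0x0)))) (.node 2 (.node 1 (.leaf (nat_lit 0x0)) (.leaf (nat_lit 0x0))) (.node 1 (.leaf (nat_lit 0x0)) (.leaf (nat_lit 0x0))))))))

noncomputable def lvO1_10 : Tree :=
  .node 64 (.node 32 (.node 16 (.node 8 (.node 4 (.node 2 (.node 1 (.leaf (nat_lit 0x0)) (.leaf (nat_lit 0x0))) (.node 1 (.leaf (nat_lit 0x0)) (.leaf (nat_lit 0x0)))) (.node 2 (.node 1 (.leaf (nat_lit 0x0)) (.leaf (nat_lit 0x0))) (.node 1 (.leaf (nat_lit 0x0)) (.leaf (nat_lit 0x0))))) (.node 4 (.node 2 (.node 1 (.leaf (nat_lit 0x0)) (.leaf (nat_lit 0x0))) (.node 1 (.leaf (nat_lit 0x0)) (.leaf (nat_lit 0x0)))) (.node 2 (.node 1 (.leaf (nat_lit 0x0)) (.leaf (nat_lit 0x0))) (.node 1 (.leaf (nat_lit 0x0)) (.leaf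 (nat_lit 0x0)))))) (.node 8 (.node 4 (.node 2 (.node 1 (.leaf (nat_lit 0x0)) (.leaf (nat_lit 0x0))) (.node 1 (.leaf (nat_lit 0x0)) (.leaf (nat_lit 0x0)))) (.node 2 (.node 1 (.leaf (nat_lit 0x0)) (.leaf (nat_lit 0x0))) (.node 1 (.leaf (nat_lit 0x0)) (.leaf (nat_lit 0x0))))) (.node 4 (.node 2 (.node 1 (.leaf (nat_lit 0x0)) (.leaf (nat_lit 0x0))) (.node 1 (.leaf (nat_lit 0x0)) (.leaf (nat_lit 0x0)))) (.node 2 (.node 1 (.leaf (nat_lit 0x0)) (.leaf (nat_lit 0x0))) (.node 1 (.leaf (nat_lit 0x0)) (.leaf (nat_lit 0x0))))))) (.node 16 (.node 8 (.node 4 (.node 2 (.node 1 (.leaf (nat_lit 0x0)) (.leaf (nat_lit 0x0))) (.node 1 (.leaf (nat_lit 0x0)) (.leaf (nat_lit 0x0)))) (.node 2 (.node 1 (.leaf (nat_lit 0x0)) (.leaf (nat_lit 0x0))) (.node 1 (.leaf (nat_lit 0x0)) (.leaf (nat_lit 0x0))))) (.node 4 (.node 2 (.node 1 (.leaf (nat_lit 0x0)) (.leaf (nat_lit 0x0))) (.node 1 (.leaf (nat_lit 0x0)) (.leaf (nat_lit 0x0)))) (.node 2 (.node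 1 (.leaf (nat_lit 0x0)) (.leaf (nat_lit 0x0))) (.node 1 (.leaf (nat_lit 0x0)) (.leaf (nat_lit 0x0)))))) (.node 8 (.node 4 (.node 2 (.node 1 (.leaf (nat_lit 0x0)) (.leaf (nat_lit 0x0))) (.node 1 (.leaf (nat_lit 0x0)) (.leaf (nat_lit 0x0)))) (.node 2 (.node 1 (.leaf (nat_lit 0x0)) (.leaf (nat_lit 0x0))) (.node 1 (.leaf (nat_lit 0x0)) (.leaf (nat_lit 0x0))))) (.node 4 (.node 2 (.node 1 (.leaf (nat_lit 0x0)) (.leaf (nat_lit 0x0))) (.node 1 (.leaf (nat_lit 0x0)) (.leaf (nat_lit 0x0)))) (.node 2 (.node 1 (.leaf (nat_lit 0x0)) (.leaf (nat_lit 0x0))) (.node 1 (.leaf (nat_lit 0x0)) (.leaf (nat_lit 0x0)))))))) (.node 32 (.node 16 (.node 8 (.node 4 (.node 2 (.node 1 (.leaf (nat_lit 0x0)) (.leaf (nat_lit 0x0))) (.node 1 (.leaf (nat_lit 0x0)) (.leaf (nat_lit 0x0)))) (.node 2 (.node 1 (.leaf (nat_lit 0x0)) (.leaf (nat_lit 0x0))) (.node 1 (.leaf (nat_lit 0x0)) (.leaf (nat_lit 0x0))))) (.node 4 (.node 2 (.node 1 (.leaf (nat_lit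 0x0)) (.leaf (nat_lit 0x0))) (.node 1 (.leaf (nat_lit 0x0)) (.leaf (nat_lit 0x0)))) (.node 2 (.node 1 (.leaf (nat_lit 0x0)) (.leaf (nat_lit 0x0))) (.node 1 (.leaf (nat_lit 0x0)) (.leaf (nat_lit 0x0)))))) (.node 8 (.node 4 (.node 2 (.node 1 (.leaf (nat_lit 0x0)) (.leaf (nat_lit 0x0))) (.node 1 (.leaf (nat_lit 0x0)) (.leaf (nat_lit 0x0)))) (.node 2 (.node 1 (.leaf (nat_lit 0x0)) (.leaf (nat_lit 0x0))) (.node 1 (.leaf (nat_lit 0x0)) (.leaf (nat_lit 0x0))))) (.node 4 (.node 2 (.node 1 (.leaf (nat_lit 0x0)) (.leaf (nat_lit 0x0))) (.node 1 (.leaf (nat_lit 0x0)) (.leaf (nat_lit 0x0)))) (.node 2 (.node 1 (.leaf (nat_lit 0x0)) (.leaf (nat_lit 0x0))) (.node 1 (.leaf (nat_lit 0x0)) (.leaf (nat_lit 0x0))))))) (.node 16 (.node 8 (.node 4 (.node 2 (.node 1 (.leaf (nat_lit 0x0)) (.leaf (nat_lit 0x0))) (.node 1 (.leaf (nat_lit 0x0)) (.leaf (nat_lit 0x0)))) (.node 2 (.node 1 (.leaf (nat_lit 0x0)) (.leaf (nat_lit 0x0))) (.node 1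 (.leaf (nat_lit 0x0)) (.leaf (nat_lit 0x0))))) (.node 4 (.node 2 (.node 1 (.leaf (nat_lit 0x0)) (.leaf (nat_lit 0x0))) (.node 1 (.leaf (nat_lit 0x0)) (.leaf (nat_lit 0x0)))) (.node 2 (.node 1 (.leaf (nat_lit 0x0)) (.leaf (nat_lit 0x0))) (.node 1 (.leaf (nat_lit 0x0)) (.leaf (nat_lit 0x0)))))) (.node 8 (.node 4 (.node 2 (.node 1 (.leaf (nat_lit 0x0)) (.leaf (nat_lit 0x0))) (.node 1 (.leaf (nat_lit 0x0)) (.leaf (nat_lit 0x0)))) (.node 2 (.node 1 (.leaf (nat_lit 0x0)) (.leaf (nat_lit 0x0))) (.node 1 (.leaf (nat_lit 0x0)) (.leaf (nat_lit 0x0))))) (.node 4 (.node 2 (.node 1 (.leaf (nat_lit 0x0)) (.leaf (nat_lit 0x0))) (.node 1 (.leaf (nat_lit 0x0)) (.leaf (nat_lit 0x0)))) (.node 2 (.node 1 (.leaf (nat_lit 0x0)) (.leaf (nat_lit 0x0))) (.node 1 (.leaf (nat_lit 0x0)) (.leaf (nat_lit 0x0))))))))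

noncomputable def lvO1_11 : Tree :=
  .node 64 (.node 32 (.node 16 (.node 8 (.node 4 (.node 2 (.node 1 (.leaf (nat_lit 0x0)) (.leaf (nat_lit 0x0))) (.node 1 (.leaf (nat_lit 0x0)) (.leaf (nat_lit 0x0)))) (.node 2 (.node 1 (.leaf (nat_lit 0x0)) (.leaf (nat_lit 0x0))) (.node 1 (.leaf (nat_lit 0x0)) (.leaf (nat_lit 0x0))))) (.node 4 (.node 2 (.node 1 (.leaf (nat_lit 0x0)) (.leaf (nat_lit 0x0))) (.node 1 (.leaf (nat_lit 0x0)) (.leaf (nat_lit 0x0)))) (.node 2 (.node 1 (.leaf (nat_lit 0x0)) (.leaf (nat_lit 0x0))) (.node 1 (.leaf (nat_lit 0x0)) (.leaf (nat_lit 0x0)))))) (.node 8 (.node 4 (.node 2 (.node 1 (.leaf (nat_lit 0x0)) (.leaf (nat_lit 0x0))) (.node 1 (.leaf (nat_lit 0x0)) (.leaf (nat_lit 0x0)))) (.node 2 (.node 1 (.leaf (nat_lit 0x0)) (.leaf (nat_lit 0x0))) (.node 1 (.leaf (nat_lit 0x0)) (.leaf (nat_lit 0x0))))) (.node 4 (.node 2 (.node 1 (.leaf (nat_lit 0x0)) (.leaf (nat_lit 0x0))) (.node 1 (.leaf (nat_lit 0x0))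 (.leaf (nat_lit 0x0)))) (.node 2 (.node 1 (.leaf (nat_lit 0x0)) (.leaf (nat_lit 0x0))) (.node 1 (.leaf (nat_lit 0x0)) (.leaf (nat_lit 0x0))))))) (.node 16 (.node 8 (.node 4 (.node 2 (.node 1 (.leaf (nat_lit 0x0)) (.leaf (nat_lit 0x0))) (.node 1 (.leaf (nat_lit 0x0)) (.leaf (nat_lit 0x0)))) (.node 2 (.node 1 (.leaf (nat_lit 0x0)) (.leaf (nat_lit 0x0))) (.node 1 (.leaf (nat_lit 0x0)) (.leaf (nat_lit 0x0))))) (.node 4 (.node 2 (.node 1 (.leaf (nat_lit 0x0)) (.leaf (nat_lit 0x0))) (.node 1 (.leaf (nat_lit 0x0)) (.leaf (nat_lit 0x0)))) (.node 2 (.node 1 (.leaf (nat_lit 0x0)) (.leaf (nat_lit 0x0))) (.node 1 (.leaf (nat_lit 0x0)) (.leaf (nat_lit 0x0)))))) (.node 8 (.node 4 (.node 2 (.node 1 (.leaf (nat_lit 0x0)) (.leaf (nat_lit 0x0))) (.node 1 (.leaf (nat_lit 0x0)) (.leaf (nat_lit 0x0)))) (.node 2 (.node 1 (.leaf (nat_lit 0x0)) (.leaf (nat_lit 0x0))) (.node 1 (.leaf (nat_lit 0x0)) (.leaf (nat_lit 0x0))))) (.node 4 (.node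 2 (.node 1 (.leaf (nat_lit 0x0)) (.leaf (nat_lit 0x0))) (.node 1 (.leaf (nat_lit 0x0)) (.leaf (nat_lit 0x0)))) (.node 2 (.node 1 (.leaf (nat_lit 0x0)) (.leaf (nat_lit 0x0))) (.node 1 (.leaf (nat_lit 0x0)) (.leaf (nat_lit 0x0)))))))) (.node 32 (.node 16 (.node 8 (.node 4 (.node 2 (.node 1 (.leaf (nat_lit 0x0)) (.leaf (nat_lit 0x0))) (.node 1 (.leaf (nat_lit 0x0)) (.leaf (nat_lit 0x0)))) (.node 2 (.node 1 (.leaf (nat_lit 0x0)) (.leaf (nat_lit 0x0))) (.node 1 (.leaf (nat_lit 0x0)) (.leaf (nat_lit 0x0))))) (.node 4 (.node 2 (.node 1 (.leaf (nat_lit 0x0)) (.leaf (nat_lit 0x0))) (.node 1 (.leaf (nat_lit 0x0)) (.leaf (nat_lit 0x0)))) (.node 2 (.node 1 (.leaf (nat_lit 0x0)) (.leaf (nat_lit 0x0))) (.node 1 (.leaf (nat_lit 0x0)) (.leaf (nat_lit 0x0)))))) (.node 8 (.node 4 (.node 2 (.node 1 (.leaf (nat_lit 0x0)) (.leaf (nat_lit 0x0))) (.node 1 (.leaf (nat_lit 0x0)) (.leaf (nat_lit 0x0)))) (.node 2 (.node 1 (.leaf (nat_lit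 0x0)) (.leaf (nat_lit 0x0))) (.node 1 (.leaf (nat_lit 0x0)) (.leaf (nat_lit 0x0))))) (.node 4 (.node 2 (.node 1 (.leaf (nat_lit 0x0)) (.leaf (nat_lit 0x0))) (.node 1 (.leaf (nat_lit 0x0)) (.leaf (nat_lit 0x0)))) (.node 2 (.node 1 (.leaf (nat_lit 0x0)) (.leaf (nat_lit 0x0))) (.node 1 (.leaf (nat_lit 0x0)) (.leaf (nat_lit 0x0))))))) (.node 16 (.node 8 (.node 4 (.node 2 (.node 1 (.leaf (nat_lit 0x0)) (.leaf (nat_lit 0x0))) (.node 1 (.leaf (nat_lit 0x0)) (.leaf (nat_lit 0x0)))) (.node 2 (.node 1 (.leaf (nat_lit 0x0)) (.leaf (nat_lit 0x0))) (.node 1 (.leaf (nat_lit 0x0)) (.leaf (nat_lit 0x0))))) (.node 4 (.node 2 (.node 1 (.leaf (nat_lit 0x0)) (.leaf (nat_lit 0x0))) (.node 1 (.leaf (nat_lit 0x0)) (.leaf (nat_lit 0x0)))) (.node 2 (.node 1 (.leaf (nat_lit 0x0)) (.leaf (nat_lit 0x0))) (.node 1 (.leaf (nat_lit 0x0)) (.leaf (nat_lit 0x0)))))) (.node 8 (.node 4 (.node 2 (.node 1 (.leaf (nat_lit 0x0)) (.leaf (nat_lit 0x0)))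 (.node 1 (.leaf (nat_lit 0x0)) (.leaf (nat_lit 0x0)))) (.node 2 (.node 1 (.leaf (nat_lit 0x0)) (.leaf (nat_lit 0x0))) (.node 1 (.leaf (nat_lit 0x0)) (.leaf (nat_lit 0x0))))) (.node 4 (.node 2 (.node 1 (.leaf (nat_lit 0x0)) (.leaf (nat_lit 0x0))) (.node 1 (.leaf (nat_lit 0x0)) (.leaf (nat_lit 0x0)))) (.node 2 (.node 1 (.leaf (nat_lit 0x0)) (.leaf (nat_lit 0x0))) (.node 1 (.leaf (nat_lit 0x0)) (.leaf (nat_lit 0x0))))))))

noncomputable def lvO1_12 : Tree :=
  .node 64 (.node 32 (.node 16 (.node 8 (.node 4 (.node 2 (.node 1 (.leaf (nat_lit 0x0)) (.leaf (nat_lit 0x0))) (.node 1 (.leaf (nat_lit 0x0)) (.leaf (nat_lit 0x0)))) (.node 2 (.node 1 (.leaf (nat_lit 0x0)) (.leaf (nat_lit 0x0))) (.node 1 (.leaf (nat_lit 0x0)) (.leaf (nat_lit 0x0))))) (.node 4 (.node 2 (.node 1 (.leaf (nat_lit 0x0)) (.leaf (nat_lit 0x0))) (.node 1 (.leaf (nat_lit 0x0)) (.leaf (nat_lit 0x0)))) (.node 2 (.node 1 (.leaf (nat_lit 0x0)) (.leaf (nat_lit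 0x0))) (.node 1 (.leaf (nat_lit 0x0)) (.leaf (nat_lit 0x0)))))) (.node 8 (.node 4 (.node 2 (.node 1 (.leaf (nat_lit 0x0)) (.leaf (nat_lit 0x0))) (.node 1 (.leaf (nat_lit 0x0)) (.leaf (nat_lit 0x0)))) (.node 2 (.node 1 (.leaf (nat_lit 0x0)) (.leaf (nat_lit 0x0))) (.node 1 (.leaf (nat_lit 0x0)) (.leaf (nat_lit 0x0))))) (.node 4 (.node 2 (.node 1 (.leaf (nat_lit 0x0)) (.leaf (nat_lit 0x0))) (.node 1 (.leaf (nat_lit 0x0)) (.leaf (nat_lit 0x0)))) (.node 2 (.node 1 (.leaf (nat_lit 0x0)) (.leaf (nat_lit 0x0))) (.node 1 (.leaf (nat_lit 0x0)) (.leaf (nat_lit 0x0))))))) (.node 16 (.node 8 (.node 4 (.node 2 (.node 1 (.leaf (nat_lit 0x0)) (.leaf (nat_lit 0x0))) (.node 1 (.leaf (nat_lit 0x0)) (.leaf (nat_lit 0x0)))) (.node 2 (.node 1 (.leaf (nat_lit 0x0)) (.leaf (nat_lit 0x0))) (.node 1 (.leaf (nat_lit 0x0)) (.leaf (nat_lit 0x0))))) (.node 4 (.node 2 (.node 1 (.leaf (nat_lit 0x0)) (.leaf (nat_lit 0x0))) (.node 1 (.leaf (nat_lit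 0x0)) (.leaf (nat_lit 0x0)))) (.node 2 (.node 1 (.leaf (nat_lit 0x0)) (.leaf (nat_lit 0x0))) (.node 1 (.leaf (nat_lit 0x0)) (.leaf (nat_lit 0x0)))))) (.node 8 (.node 4 (.node 2 (.node 1 (.leaf (nat_lit 0x0)) (.leaf (nat_lit 0x0))) (.node 1 (.leaf (nat_lit 0x0)) (.leaf (nat_lit 0x0)))) (.node 2 (.node 1 (.leaf (nat_lit 0x0)) (.leaf (nat_lit 0x0))) (.node 1 (.leaf (nat_lit 0x0)) (.leaf (nat_lit 0x0))))) (.node 4 (.node 2 (.node 1 (.leaf (nat_lit 0x0)) (.leaf (nat_lit 0x0))) (.node 1 (.leaf (nat_lit 0x0)) (.leaf (nat_lit 0x0)))) (.node 2 (.node 1 (.leaf (nat_lit 0x0)) (.leaf (nat_lit 0x0))) (.node 1 (.leaf (nat_lit 0x0)) (.leaf (nat_lit 0x0)))))))) (.node 32 (.node 16 (.node 8 (.node 4 (.node 2 (.node 1 (.leaf (nat_lit 0x0)) (.leaf (nat_lit 0x0))) (.node 1 (.leaf (nat_lit 0x0)) (.leaf (nat_lit 0x0)))) (.node 2 (.node 1 (.leaf (nat_lit 0x0)) (.leaf (nat_lit 0x0))) (.node 1 (.leaf (nat_lit 0x0)) (.leaf (nat_lit 0x0)))))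 (.node 4 (.node 2 (.node 1 (.leaf (nat_lit 0x0)) (.leaf (nat_lit 0x0))) (.node 1 (.leaf (nat_lit 0x0)) (.leaf (nat_lit 0x0)))) (.node 2 (.node 1 (.leaf (nat_lit 0x0)) (.leaf (nat_lit 0x0))) (.node 1 (.leaf (nat_lit 0x0)) (.leaf (nat_lit 0x0)))))) (.node 8 (.node 4 (.node 2 (.node 1 (.leaf (nat_lit 0x0)) (.leaf (nat_lit 0x0))) (.node 1 (.leaf (nat_lit 0x0)) (.leaf (nat_lit 0x0)))) (.node 2 (.node 1 (.leaf (nat_lit 0x0)) (.leaf (nat_lit 0x0))) (.node 1 (.leaf (nat_lit 0x0)) (.leaf (nat_lit 0x0))))) (.node 4 (.node 2 (.node 1 (.leaf (nat_lit 0x0)) (.leaf (nat_lit 0x0))) (.node 1 (.leaf (nat_lit 0x0)) (.leaf (nat_lit 0x0)))) (.node 2 (.node 1 (.leaf (nat_lit 0x0)) (.leaf (nat_lit 0x0))) (.node 1 (.leaf (nat_lit 0x0)) (.leaf (nat_lit 0x0))))))) (.node 16 (.node 8 (.node 4 (.node 2 (.node 1 (.leaf (nat_lit 0x0)) (.leaf (nat_lit 0x0))) (.node 1 (.leaf (nat_lit 0x0)) (.leaf (nat_lit 0x0)))) (.node 2 (.node 1 (.leaf (nat_lit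 0x0)) (.leaf (nat_lit 0x0))) (.node 1 (.leaf (nat_lit 0x0)) (.leaf (nat_lit 0x0))))) (.node 4 (.node 2 (.node 1 (.leaf (nat_lit 0x0)) (.leaf (nat_lit 0x0))) (.node 1 (.leaf (nat_lit 0x0)) (.leaf (nat_lit 0x0)))) (.node 2 (.node 1 (.leaf (nat_lit 0x0)) (.leaf (nat_lit 0x0))) (.node 1 (.leaf (nat_lit 0x0)) (.leaf (nat_lit 0x0)))))) (.node 8 (.node 4 (.node 2 (.node 1 (.leaf (nat_lit 0x0)) (.leaf (nat_lit 0x0))) (.node 1 (.leaf (nat_lit 0x0)) (.leaf (nat_lit 0x0)))) (.node 2 (.node 1 (.leaf (nat_lit 0x0)) (.leaf (nat_lit 0x0))) (.node 1 (.leaf (nat_lit 0x0)) (.leaf (nat_lit 0x0))))) (.node 4 (.node 2 (.node 1 (.leaf (nat_lit 0x0)) (.leaf (nat_lit 0x0))) (.node 1 (.leaf (nat_lit 0x0)) (.leaf (nat_lit 0x0)))) (.node 2 (.node 1 (.leaf (nat_lit 0x0)) (.leaf (nat_lit 0x0))) (.node 1 (.leaf (nat_lit 0x0)) (.leaf (nat_lit 0x0))))))))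

noncomputable def lvO1_13 : Tree :=
  .node 64 (.node 32 (.node 16 (.node 8 (.node 4 (.node 2 (.node 1 (.leaf (nat_lit 0x0)) (.leaf (nat_lit 0x0))) (.node 1 (.leaf (nat_lit 0x0)) (.leaf (nat_lit 0x0)))) (.node 2 (.node 1 (.leaf (nat_lit 0x0)) (.leaf (nat_lit 0x0))) (.node 1 (.leaf (nat_lit 0x0)) (.leaf (nat_lit 0x0))))) (.node 4 (.node 2 (.node 1 (.leaf (nat_lit 0x0)) (.leaf (nat_lit 0x0))) (.node 1 (.leaf (nat_lit 0x0)) (.leaf (nat_lit 0x0)))) (.node 2 (.node 1 (.leaf (nat_lit 0x0)) (.leaf (nat_lit 0x0))) (.node 1 (.leaf (nat_lit 0x0)) (.leaf (nat_lit 0x0)))))) (.node 8 (.node 4 (.node 2 (.node 1 (.leaf (nat_lit 0x0)) (.leaf (nat_lit 0x0))) (.node 1 (.leaf (nat_lit 0x0)) (.leaf (nat_lit 0x0)))) (.node 2 (.node 1 (.leaf (nat_lit 0x0)) (.leaf (nat_lit 0x0))) (.node 1 (.leaf (nat_lit 0x0)) (.leaf (nat_lit 0x0))))) (.node 4 (.node 2 (.node 1 (.leaf (nat_lit 0x0)) (.leaf (nat_lit 0x0))) (.node 1 (.leaf (nat_lit 0x0))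 (.leaf (nat_lit 0x0)))) (.node 2 (.node 1 (.leaf (nat_lit 0x0)) (.leaf (nat_lit 0x0))) (.node 1 (.leaf (nat_lit 0x0)) (.leaf (nat_lit 0x0))))))) (.node 16 (.node 8 (.node 4 (.node 2 (.node 1 (.leaf (nat_lit 0x0)) (.leaf (nat_lit 0x0))) (.node 1 (.leaf (nat_lit 0x0)) (.leaf (nat_lit 0x0)))) (.node 2 (.node 1 (.leaf (nat_lit 0x0)) (.leaf (nat_lit 0x0))) (.node 1 (.leaf (nat_lit 0x0)) (.leaf (nat_lit 0x0))))) (.node 4 (.node 2 (.node 1 (.leaf (nat_lit 0x0)) (.leaf (nat_lit 0x0))) (.node 1 (.leaf (nat_lit 0x0)) (.leaf (nat_lit 0x0)))) (.node 2 (.node 1 (.leaf (nat_lit 0x0)) (.leaf (nat_lit 0x0))) (.node 1 (.leaf (nat_lit 0x0)) (.leaf (nat_lit 0x0)))))) (.node 8 (.node 4 (.node 2 (.node 1 (.leaf (nat_lit 0x0)) (.leaf (nat_lit 0x0))) (.node 1 (.leaf (nat_lit 0x0)) (.leaf (nat_lit 0x0)))) (.node 2 (.node 1 (.leaf (nat_lit 0x0)) (.leaf (nat_lit 0x0))) (.node 1 (.leaf (nat_lit 0x0)) (.leaf (nat_lit 0x0))))) (.node 4 (.node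 2 (.node 1 (.leaf (nat_lit 0x0)) (.leaf (nat_lit 0x0))) (.node 1 (.leaf (nat_lit 0x0)) (.leaf (nat_lit 0x0)))) (.node 2 (.node 1 (.leaf (nat_lit 0x0)) (.leaf (nat_lit 0x0))) (.node 1 (.leaf (nat_lit 0x0)) (.leaf (nat_lit 0x0)))))))) (.node 32 (.node 16 (.node 8 (.node 4 (.node 2 (.node 1 (.leaf (nat_lit 0x0)) (.leaf (nat_lit 0x0))) (.node 1 (.leaf (nat_lit 0x0)) (.leaf (nat_lit 0x0)))) (.node 2 (.node 1 (.leaf (nat_lit 0x0)) (.leaf (nat_lit 0x0))) (.node 1 (.leaf (nat_lit 0x0)) (.leaf (nat_lit 0x0))))) (.node 4 (.node 2 (.node 1 (.leaf (nat_lit 0x0)) (.leaf (nat_lit 0x0))) (.node 1 (.leaf (nat_lit 0x0)) (.leaf (nat_lit 0x0)))) (.node 2 (.node 1 (.leaf (nat_lit 0x0)) (.leaf (nat_lit 0x0))) (.node 1 (.leaf (nat_lit 0x0)) (.leaf (nat_lit 0x0)))))) (.node 8 (.node 4 (.node 2 (.node 1 (.leaf (nat_lit 0x0)) (.leaf (nat_lit 0x0))) (.node 1 (.leaf (nat_lit 0x0)) (.leaf (nat_lit 0x0)))) (.node 2 (.node 1 (.leaf (nat_lit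 0x0)) (.leaf (nat_lit 0x0))) (.node 1 (.leaf (nat_lit 0x0)) (.leaf (nat_lit 0x0))))) (.node 4 (.node 2 (.node 1 (.leaf (nat_lit 0x0)) (.leaf (nat_lit 0x0))) (.node 1 (.leaf (nat_lit 0x0)) (.leaf (nat_lit 0x0)))) (.node 2 (.node 1 (.leaf (nat_lit 0x0)) (.leaf (nat_lit 0x0))) (.node 1 (.leaf (nat_lit 0x0)) (.leaf (nat_lit 0x0))))))) (.node 16 (.node 8 (.node 4 (.node 2 (.node 1 (.leaf (nat_lit 0x0)) (.leaf (nat_lit 0x0))) (.node 1 (.leaf (nat_lit 0x0)) (.leaf (nat_lit 0x0)))) (.node 2 (.node 1 (.leaf (nat_lit 0x0)) (.leaf (nat_lit 0x0))) (.node 1 (.leaf (nat_lit 0x0)) (.leaf (nat_lit 0x0))))) (.node 4 (.node 2 (.node 1 (.leaf (nat_lit 0x0)) (.leaf (nat_lit 0x0))) (.node 1 (.leaf (nat_lit 0x0)) (.leaf (nat_lit 0x0)))) (.node 2 (.node 1 (.leaf (nat_lit 0x0)) (.leaf (nat_lit 0x0))) (.node 1 (.leaf (nat_lit 0x0)) (.leaf (nat_lit 0x0)))))) (.node 8 (.node 4 (.node 2 (.node 1 (.leaf (nat_lit 0x0)) (.leaf (nat_lit 0x0)))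 (.node 1 (.leaf (nat_lit 0x0)) (.leaf (nat_lit 0x0)))) (.node 2 (.node 1 (.leaf (nat_lit 0x0)) (.leaf (nat_lit 0x0))) (.node 1 (.leaf (nat_lit 0x0)) (.leaf (nat_lit 0x0))))) (.node 4 (.node 2 (.node 1 (.leaf (nat_lit 0x0)) (.leaf (nat_lit 0x0))) (.node 1 (.leaf (nat_lit 0x0)) (.leaf (nat_lit 0x0)))) (.node 2 (.node 1 (.leaf (nat_lit 0x0)) (.leaf (nat_lit 0x0))) (.node 1 (.leaf (nat_lit 0x0)) (.leaf (nat_lit 0x0))))))))

noncomputable def lvO1_14 : Tree :=
  .node 64 (.node 32 (.node 16 (.node 8 (.node 4 (.node 2 (.node 1 (.leaf (nat_lit 0x0)) (.leaf (nat_lit 0x0))) (.node 1 (.leaf (nat_lit 0x0)) (.leaf (nat_lit 0x0)))) (.node 2 (.node 1 (.leaf (nat_lit 0x0)) (.leaf (nat_lit 0x0))) (.node 1 (.leaf (nat_lit 0x0)) (.leaf (nat_lit 0x0))))) (.node 4 (.node 2 (.node 1 (.leaf (nat_lit 0x0)) (.leaf (nat_lit 0x0))) (.node 1 (.leaf (nat_lit 0x0)) (.leaf (nat_lit 0x0)))) (.node 2 (.node 1 (.leaf (nat_lit 0x0)) (.leaf (nat_lit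 0x0))) (.node 1 (.leaf (nat_lit 0x0)) (.leaf (nat_lit 0x0)))))) (.node 8 (.node 4 (.node 2 (.node 1 (.leaf (nat_lit 0x0)) (.leaf (nat_lit 0x0))) (.node 1 (.leaf (nat_lit 0x0)) (.leaf (nat_lit 0x0)))) (.node 2 (.node 1 (.leaf (nat_lit 0x0)) (.leaf (nat_lit 0x0))) (.node 1 (.leaf (nat_lit 0x0)) (.leaf (nat_lit 0x0))))) (.node 4 (.node 2 (.node 1 (.leaf (nat_lit 0x0)) (.leaf (nat_lit 0x0))) (.node 1 (.leaf (nat_lit 0x0)) (.leaf (nat_lit 0x0)))) (.node 2 (.node 1 (.leaf (nat_lit 0x0)) (.leaf (nat_lit 0x0))) (.node 1 (.leaf (nat_lit 0x0)) (.leaf (nat_lit 0x0))))))) (.node 16 (.node 8 (.node 4 (.node 2 (.node 1 (.leaf (nat_lit 0x0)) (.leaf (nat_lit 0x0))) (.node 1 (.leaf (nat_lit 0x0)) (.leaf (nat_lit 0x0)))) (.node 2 (.node 1 (.leaf (nat_lit 0x0)) (.leaf (nat_lit 0x0))) (.node 1 (.leaf (nat_lit 0x0)) (.leaf (nat_lit 0x0))))) (.node 4 (.node 2 (.node 1 (.leaf (nat_lit 0x0)) (.leaf (nat_lit 0x0))) (.node 1 (.leaf (nat_lit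 0x0)) (.leaf (nat_lit 0x0)))) (.node 2 (.node 1 (.leaf (nat_lit 0x0)) (.leaf (nat_lit 0x0))) (.node 1 (.leaf (nat_lit 0x0)) (.leaf (nat_lit 0x0)))))) (.node 8 (.node 4 (.node 2 (.node 1 (.leaf (nat_lit 0x0)) (.leaf (nat_lit 0x0))) (.node 1 (.leaf (nat_lit 0x0)) (.leaf (nat_lit 0x0)))) (.node 2 (.node 1 (.leaf (nat_lit 0x0)) (.leaf (nat_lit 0x0))) (.node 1 (.leaf (nat_lit 0x0)) (.leaf (nat_lit 0x0))))) (.node 4 (.node 2 (.node 1 (.leaf (nat_lit 0x0)) (.leaf (nat_lit 0x0))) (.node 1 (.leaf (nat_lit 0x0)) (.leaf (nat_lit 0x0)))) (.node 2 (.node 1 (.leaf (nat_lit 0x0)) (.leaf (nat_lit 0x0))) (.node 1 (.leaf (nat_lit 0x0)) (.leaf (nat_lit 0x0)))))))) (.node 32 (.node 16 (.node 8 (.node 4 (.node 2 (.node 1 (.leaf (nat_lit 0x0)) (.leaf (nat_lit 0x0))) (.node 1 (.leaf (nat_lit 0x0)) (.leaf (nat_lit 0x0)))) (.node 2 (.node 1 (.leaf (nat_lit 0x0)) (.leaf (nat_lit 0x0))) (.node 1 (.leaf (nat_lit 0x0)) (.leaf (nat_lit 0x0)))))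 (.node 4 (.node 2 (.node 1 (.leaf (nat_lit 0x0)) (.leaf (nat_lit 0x0))) (.node 1 (.leaf (nat_lit 0x0)) (.leaf (nat_lit 0x0)))) (.node 2 (.node 1 (.leaf (nat_lit 0x0)) (.leaf (nat_lit 0x0))) (.node 1 (.leaf (nat_lit 0x0)) (.leaf (nat_lit 0x0)))))) (.node 8 (.node 4 (.node 2 (.node 1 (.leaf (nat_lit 0x0)) (.leaf (nat_lit 0x0))) (.node 1 (.leaf (nat_lit 0x0)) (.leaf (nat_lit 0x0)))) (.node 2 (.node 1 (.leaf (nat_lit 0x0)) (.leaf (nat_lit 0x0))) (.node 1 (.leaf (nat_lit 0x0)) (.leaf (nat_lit 0x0))))) (.node 4 (.node 2 (.node 1 (.leaf (nat_lit 0x0)) (.leaf (nat_lit 0x0))) (.node 1 (.leaf (nat_lit 0x0)) (.leaf (nat_lit 0x0)))) (.node 2 (.node 1 (.leaf (nat_lit 0x0)) (.leaf (nat_lit 0x0))) (.node 1 (.leaf (nat_lit 0x0)) (.leaf (nat_lit 0x0))))))) (.node 16 (.node 8 (.node 4 (.node 2 (.node 1 (.leaf (nat_lit 0x0)) (.leaf (nat_lit 0x0))) (.node 1 (.leaf (nat_lit 0x0)) (.leaf (nat_lit 0x0)))) (.node 2 (.node 1 (.leaf (nat_lit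 0x0)) (.leaf (nat_lit 0x0))) (.node 1 (.leaf (nat_lit 0x0)) (.leaf (nat_lit 0x0))))) (.node 4 (.node 2 (.node 1 (.leaf (nat_lit 0x0)) (.leaf (nat_lit 0x0))) (.node 1 (.leaf (nat_lit 0x0)) (.leaf (nat_lit 0x0)))) (.node 2 (.node 1 (.leaf (nat_lit 0x0)) (.leaf (nat_lit 0x0))) (.node 1 (.leaf (nat_lit 0x0)) (.leaf (nat_lit 0x0)))))) (.node 8 (.node 4 (.node 2 (.node 1 (.leaf (nat_lit 0x0)) (.leaf (nat_lit 0x0))) (.node 1 (.leaf (nat_lit 0x0)) (.leaf (nat_lit 0x0)))) (.node 2 (.node 1 (.leaf (nat_lit 0x0)) (.leaf (nat_lit 0x0))) (.node 1 (.leaf (nat_lit 0x0)) (.leaf (nat_lit 0x0))))) (.node 4 (.node 2 (.node 1 (.leaf (nat_lit 0x0)) (.leaf (nat_lit 0x0))) (.node 1 (.leaf (nat_lit 0x0)) (.leaf (nat_lit 0x0)))) (.node 2 (.node 1 (.leaf (nat_lit 0x0)) (.leaf (nat_lit 0x0))) (.node 1 (.leaf (nat_lit 0x0)) (.leaf (nat_lit 0x0))))))))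

noncomputable def lvO1_15 : Tree :=
  .node 64 (.node 32 (.node 16 (.node 8 (.node 4 (.node 2 (.node 1 (.leaf (nat_lit 0x0)) (.leaf (nat_lit 0x0))) (.node 1 (.leaf (nat_lit 0x0)) (.leaf (nat_lit 0x0)))) (.node 2 (.node 1 (.leaf (nat_lit 0x0)) (.leaf (nat_lit 0x0))) (.node 1 (.leaf (nat_lit 0x0)) (.leaf (nat_lit 0x0))))) (.node 4 (.node 2 (.node 1 (.leaf (nat_lit 0x0)) (.leaf (nat_lit 0x0))) (.node 1 (.leaf (nat_lit 0x0)) (.leaf (nat_lit 0x0)))) (.node 2 (.node 1 (.leaf (nat_lit 0x0)) (.leaf (nat_lit 0x0))) (.node 1 (.leaf (nat_lit 0x0)) (.leaf (nat_lit 0x0)))))) (.node 8 (.node 4 (.node 2 (.node 1 (.leaf (nat_lit 0x0)) (.leaf (nat_lit 0x0))) (.node 1 (.leaf (nat_lit 0x0)) (.leaf (nat_lit 0x0)))) (.node 2 (.node 1 (.leaf (nat_lit 0x0)) (.leaf (nat_lit 0x0))) (.node 1 (.leaf (nat_lit 0x0)) (.leaf (nat_lit 0x0))))) (.node 4 (.node 2 (.node 1 (.leaf (nat_lit 0x0)) (.leaf (nat_lit 0x0))) (.node 1 (.leaf (nat_lit 0x0))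 (.leaf (nat_lit 0x0)))) (.node 2 (.node 1 (.leaf (nat_lit 0x0)) (.leaf (nat_lit 0x0))) (.node 1 (.leaf (nat_lit 0x0)) (.leaf (nat_lit 0x0))))))) (.node 16 (.node 8 (.node 4 (.node 2 (.node 1 (.leaf (nat_lit 0x0)) (.leaf (nat_lit 0x0))) (.node 1 (.leaf (nat_lit 0x0)) (.leaf (nat_lit 0x0)))) (.node 2 (.node 1 (.leaf (nat_lit 0x0)) (.leaf (nat_lit 0x0))) (.node 1 (.leaf (nat_lit 0x0)) (.leaf (nat_lit 0x0))))) (.node 4 (.node 2 (.node 1 (.leaf (nat_lit 0x0)) (.leaf (nat_lit 0x0))) (.node 1 (.leaf (nat_lit 0x0)) (.leaf (nat_lit 0x0)))) (.node 2 (.node 1 (.leaf (nat_lit 0x0)) (.leaf (nat_lit 0x0))) (.node 1 (.leaf (nat_lit 0x0)) (.leaf (nat_lit 0x0)))))) (.node 8 (.node 4 (.node 2 (.node 1 (.leaf (nat_lit 0x0)) (.leaf (nat_lit 0x0))) (.node 1 (.leaf (nat_lit 0x0)) (.leaf (nat_lit 0x0)))) (.node 2 (.node 1 (.leaf (nat_lit 0x0)) (.leaf (nat_lit 0x0))) (.node 1 (.leaf (nat_lit 0x0)) (.leaf (nat_lit 0x0))))) (.node 4 (.node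 2 (.node 1 (.leaf (nat_lit 0x0)) (.leaf (nat_lit 0x0))) (.node 1 (.leaf (nat_lit 0x0)) (.leaf (nat_lit 0x0)))) (.node 2 (.node 1 (.leaf (nat_lit 0x0)) (.leaf (nat_lit 0x0))) (.node 1 (.leaf (nat_lit 0x0)) (.leaf (nat_lit 0x0)))))))) (.node 32 (.node 16 (.node 8 (.node 4 (.node 2 (.node 1 (.leaf (nat_lit 0x0)) (.leaf (nat_lit 0x0))) (.node 1 (.leaf (nat_lit 0x0)) (.leaf (nat_lit 0x0)))) (.node 2 (.node 1 (.leaf (nat_lit 0x0)) (.leaf (nat_lit 0x0))) (.node 1 (.leaf (nat_lit 0x0)) (.leaf (nat_lit 0x0))))) (.node 4 (.node 2 (.node 1 (.leaf (nat_lit 0x0)) (.leaf (nat_lit 0x0))) (.node 1 (.leaf (nat_lit 0x0)) (.leaf (nat_lit 0x0)))) (.node 2 (.node 1 (.leaf (nat_lit 0x0)) (.leaf (nat_lit 0x0))) (.node 1 (.leaf (nat_lit 0x0)) (.leaf (nat_lit 0x0)))))) (.node 8 (.node 4 (.node 2 (.node 1 (.leaf (nat_lit 0x0)) (.leaf (nat_lit 0x0))) (.node 1 (.leaf (nat_lit 0x0)) (.leaf (nat_lit 0x0)))) (.node 2 (.node 1 (.leaf (nat_lit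 0x0)) (.leaf (nat_lit 0x0))) (.node 1 (.leaf (nat_lit 0x0)) (.leaf (nat_lit 0x0))))) (.node 4 (.node 2 (.node 1 (.leaf (nat_lit 0x0)) (.leaf (nat_lit 0x0))) (.node 1 (.leaf (nat_lit 0x0)) (.leaf (nat_lit 0x0)))) (.node 2 (.node 1 (.leaf (nat_lit 0x0)) (.leaf (nat_lit 0x0))) (.node 1 (.leaf (nat_lit 0x0)) (.leaf (nat_lit 0x0))))))) (.node 16 (.node 8 (.node 4 (.node 2 (.node 1 (.leaf (nat_lit 0x0)) (.leaf (nat_lit 0x0))) (.node 1 (.leaf (nat_lit 0x0)) (.leaf (nat_lit 0x0)))) (.node 2 (.node 1 (.leaf (nat_lit 0x0)) (.leaf (nat_lit 0x0))) (.node 1 (.leaf (nat_lit 0x0)) (.leaf (nat_lit 0x0))))) (.node 4 (.node 2 (.node 1 (.leaf (nat_lit 0x0)) (.leaf (nat_lit 0x0))) (.node 1 (.leaf (nat_lit 0x0)) (.leaf (nat_lit 0x0)))) (.node 2 (.node 1 (.leaf (nat_lit 0x0)) (.leaf (nat_lit 0x0))) (.node 1 (.leaf (nat_lit 0x0)) (.leaf (nat_lit 0x0)))))) (.node 8 (.node 4 (.node 2 (.node 1 (.leaf (nat_lit 0x0)) (.leaf (nat_lit 0x0)))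 (.node 1 (.leaf (nat_lit 0x0)) (.leaf (nat_lit 0x0)))) (.node 2 (.node 1 (.leaf (nat_lit 0x0)) (.leaf (nat_lit 0x0))) (.node 1 (.leaf (nat_lit 0x0)) (.leaf (nat_lit 0x0))))) (.node 4 (.node 2 (.node 1 (.leaf (nat_lit 0x0)) (.leaf (nat_lit 0x0))) (.node 1 (.leaf (nat_lit 0x0)) (.leaf (nat_lit 0x0)))) (.node 2 (.node 1 (.leaf (nat_lit 0x0)) (.leaf (nat_lit 0x0))) (.node 1 (.leaf (nat_lit 0x0)) (.leaf (nat_lit 0x0))))))))

noncomputable def lvO1_16 : Tree :=
  .node 64 (.node 32 (.node 16 (.node 8 (.node 4 (.node 2 (.node 1 (.leaf (nat_lit 0x0)) (.leaf (nat_lit 0x0))) (.node 1 (.leaf (nat_lit 0x0)) (.leaf (nat_lit 0x0)))) (.node 2 (.node 1 (.leaf (nat_lit 0x0)) (.leaf (nat_lit 0x0))) (.node 1 (.leaf (nat_lit 0x0)) (.leaf (nat_lit 0x0))))) (.node 4 (.node 2 (.node 1 (.leaf (nat_lit 0x0)) (.leaf (nat_lit 0x0))) (.node 1 (.leaf (nat_lit 0x0)) (.leaf (nat_lit 0x0)))) (.node 2 (.node 1 (.leaf (nat_lit 0x0)) (.leaf (nat_lit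 0x0))) (.node 1 (.leaf (nat_lit 0x0)) (.leaf (nat_lit 0x0)))))) (.node 8 (.node 4 (.node 2 (.node 1 (.leaf (nat_lit 0x0)) (.leaf (nat_lit 0x0))) (.node 1 (.leaf (nat_lit 0x0)) (.leaf (nat_lit 0x0)))) (.node 2 (.node 1 (.leaf (nat_lit 0x0)) (.leaf (nat_lit 0x0))) (.node 1 (.leaf (nat_lit 0x0)) (.leaf (nat_lit 0x0))))) (.node 4 (.node 2 (.node 1 (.leaf (nat_lit 0x0)) (.leaf (nat_lit 0x0))) (.node 1 (.leaf (nat_lit 0x0)) (.leaf (nat_lit 0x0)))) (.node 2 (.node 1 (.leaf (nat_lit 0x0)) (.leaf (nat_lit 0x0))) (.node 1 (.leaf (nat_lit 0x0)) (.leaf (nat_lit 0x0))))))) (.node 16 (.node 8 (.node 4 (.node 2 (.node 1 (.leaf (nat_lit 0x0)) (.leaf (nat_lit 0x0))) (.node 1 (.leaf (nat_lit 0x0)) (.leaf (nat_lit 0x0)))) (.node 2 (.node 1 (.leaf (nat_lit 0x0)) (.leaf (nat_lit 0x0))) (.node 1 (.leaf (nat_lit 0x0)) (.leaf (nat_lit 0x0))))) (.node 4 (.node 2 (.node 1 (.leaf (nat_lit 0x0)) (.leaf (nat_lit 0x0))) (.node 1 (.leaf (nat_lit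 0x0)) (.leaf (nat_lit 0x0)))) (.node 2 (.node 1 (.leaf (nat_lit 0x0)) (.leaf (nat_lit 0x0))) (.node 1 (.leaf (nat_lit 0x0)) (.leaf (nat_lit 0x0)))))) (.node 8 (.node 4 (.node 2 (.node 1 (.leaf (nat_lit 0x0)) (.leaf (nat_lit 0x0))) (.node 1 (.leaf (nat_lit 0x0)) (.leaf (nat_lit 0x0)))) (.node 2 (.node 1 (.leaf (nat_lit 0x0)) (.leaf (nat_lit 0x0))) (.node 1 (.leaf (nat_lit 0x0)) (.leaf (nat_lit 0x0))))) (.node 4 (.node 2 (.node 1 (.leaf (nat_lit 0x0)) (.leaf (nat_lit 0x0))) (.node 1 (.leaf (nat_lit 0x0)) (.leaf (nat_lit 0x0)))) (.node 2 (.node 1 (.leaf (nat_lit 0x0)) (.leaf (nat_lit 0x0))) (.node 1 (.leaf (nat_lit 0x0)) (.leaf (nat_lit 0x0)))))))) (.node 32 (.node 16 (.node 8 (.node 4 (.node 2 (.node 1 (.leaf (nat_lit 0x0)) (.leaf (nat_lit 0x0))) (.node 1 (.leaf (nat_lit 0x0)) (.leaf (nat_lit 0x0)))) (.node 2 (.node 1 (.leaf (nat_lit 0x0)) (.leaf (nat_lit 0x0))) (.node 1 (.leaf (nat_lit 0x0)) (.leaf (nat_lit 0x0)))))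 (.node 4 (.node 2 (.node 1 (.leaf (nat_lit 0x0)) (.leaf (nat_lit 0x0))) (.node 1 (.leaf (nat_lit 0x0)) (.leaf (nat_lit 0x0)))) (.node 2 (.node 1 (.leaf (nat_lit 0x0)) (.leaf (nat_lit 0x0))) (.node 1 (.leaf (nat_lit 0x0)) (.leaf (nat_lit 0x0)))))) (.node 8 (.node 4 (.node 2 (.node 1 (.leaf (nat_lit 0x0)) (.leaf (nat_lit 0x0))) (.node 1 (.leaf (nat_lit 0x0)) (.leaf (nat_lit 0x0)))) (.node 2 (.node 1 (.leaf (nat_lit 0x0)) (.leaf (nat_lit 0x0))) (.node 1 (.leaf (nat_lit 0x0)) (.leaf (nat_lit 0x0))))) (.node 4 (.node 2 (.node 1 (.leaf (nat_lit 0x0)) (.leaf (nat_lit 0x0))) (.node 1 (.leaf (nat_lit 0x0)) (.leaf (nat_lit 0x0)))) (.node 2 (.node 1 (.leaf (nat_lit 0x0)) (.leaf (nat_lit 0x0))) (.node 1 (.leaf (nat_lit 0x0)) (.leaf (nat_lit 0x0))))))) (.node 16 (.node 8 (.node 4 (.node 2 (.node 1 (.leaf (nat_lit 0x0)) (.leaf (nat_lit 0x0))) (.node 1 (.leaf (nat_lit 0x0)) (.leaf (nat_lit 0x0)))) (.node 2 (.node 1 (.leaf (nat_lit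 0x0)) (.leaf (nat_lit 0x0))) (.node 1 (.leaf (nat_lit 0x0)) (.leaf (nat_lit 0x0))))) (.node 4 (.node 2 (.node 1 (.leaf (nat_lit 0x0)) (.leaf (nat_lit 0x0))) (.node 1 (.leaf (nat_lit 0x0)) (.leaf (nat_lit 0x0)))) (.node 2 (.node 1 (.leaf (nat_lit 0x0)) (.leaf (nat_lit 0x0))) (.node 1 (.leaf (nat_lit 0x0)) (.leaf (nat_lit 0x0)))))) (.node 8 (.node 4 (.node 2 (.node 1 (.leaf (nat_lit 0x0)) (.leaf (nat_lit 0x0))) (.node 1 (.leaf (nat_lit 0x0)) (.leaf (nat_lit 0x0)))) (.node 2 (.node 1 (.leaf (nat_lit 0x0)) (.leaf (nat_lit 0x0))) (.node 1 (.leaf (nat_lit 0x0)) (.leaf (nat_lit 0x0))))) (.node 4 (.node 2 (.node 1 (.leaf (nat_lit 0x0)) (.leaf (nat_lit 0x0))) (.node 1 (.leaf (nat_lit 0x0)) (.leaf (nat_lit 0x0)))) (.node 2 (.node 1 (.leaf (nat_lit 0x0)) (.leaf (nat_lit 0x0))) (.node 1 (.leaf (nat_lit 0x0)) (.leaf (nat_lit 0x0))))))))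

noncomputable def lvO1_17 : Tree :=
  .node 64 (.node 32 (.node 16 (.node 8 (.node 4 (.node 2 (.node 1 (.leaf (nat_lit 0x0)) (.leaf (nat_lit 0x0))) (.node 1 (.leaf (nat_lit 0x0)) (.leaf (nat_lit 0x0)))) (.node 2 (.node 1 (.leaf (nat_lit 0x0)) (.leaf (nat_lit 0x0))) (.node 1 (.leaf (nat_lit 0x0)) (.leaf (nat_lit 0x0))))) (.node 4 (.node 2 (.node 1 (.leaf (nat_lit 0x0)) (.leaf (nat_lit 0x0))) (.node 1 (.leaf (nat_lit 0x0)) (.leaf (nat_lit 0x0)))) (.node 2 (.node 1 (.leaf (nat_lit 0x0)) (.leaf (nat_lit 0x0))) (.node 1 (.leaf (nat_lit 0x0)) (.leaf (nat_lit 0x0)))))) (.node 8 (.node 4 (.node 2 (.node 1 (.leaf (nat_lit 0x0)) (.leaf (nat_lit 0x0))) (.node 1 (.leaf (nat_lit 0x0)) (.leaf (nat_lit 0x0)))) (.node 2 (.node 1 (.leaf (nat_lit 0x0)) (.leaf (nat_lit 0x0))) (.node 1 (.leaf (nat_lit 0x0)) (.leaf (nat_lit 0x0))))) (.node 4 (.node 2 (.node 1 (.leaf (nat_lit 0x0)) (.leaf (nat_lit 0x0))) (.node 1 (.leaf (nat_lit 0x0))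 (.leaf (nat_lit 0x0)))) (.node 2 (.node 1 (.leaf (nat_lit 0x0)) (.leaf (nat_lit 0x0))) (.node 1 (.leaf (nat_lit 0x0)) (.leaf (nat_lit 0x0))))))) (.node 16 (.node 8 (.node 4 (.node 2 (.node 1 (.leaf (nat_lit 0x0)) (.leaf (nat_lit 0x0))) (.node 1 (.leaf (nat_lit 0x0)) (.leaf (nat_lit 0x0)))) (.node 2 (.node 1 (.leaf (nat_lit 0x0)) (.leaf (nat_lit 0x0))) (.node 1 (.leaf (nat_lit 0x0)) (.leaf (nat_lit 0x0))))) (.node 4 (.node 2 (.node 1 (.leaf (nat_lit 0x0)) (.leaf (nat_lit 0x0))) (.node 1 (.leaf (nat_lit 0x0)) (.leaf (nat_lit 0x0)))) (.node 2 (.node 1 (.leaf (nat_lit 0x0)) (.leaf (nat_lit 0x0))) (.node 1 (.leaf (nat_lit 0x0)) (.leaf (nat_lit 0x0)))))) (.node 8 (.node 4 (.node 2 (.node 1 (.leaf (nat_lit 0x0)) (.leaf (nat_lit 0x0))) (.node 1 (.leaf (nat_lit 0x0)) (.leaf (nat_lit 0x0)))) (.node 2 (.node 1 (.leaf (nat_lit 0x0)) (.leaf (nat_lit 0x0))) (.node 1 (.leaf (nat_lit 0x0)) (.leaf (nat_lit 0x0))))) (.node 4 (.node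 2 (.node 1 (.leaf (nat_lit 0x0)) (.leaf (nat_lit 0x0))) (.node 1 (.leaf (nat_lit 0x0)) (.leaf (nat_lit 0x0)))) (.node 2 (.node 1 (.leaf (nat_lit 0x0)) (.leaf (nat_lit 0x0))) (.node 1 (.leaf (nat_lit 0x0)) (.leaf (nat_lit 0x0)))))))) (.node 32 (.node 16 (.node 8 (.node 4 (.node 2 (.node 1 (.leaf (nat_lit 0x0)) (.leaf (nat_lit 0x0))) (.node 1 (.leaf (nat_lit 0x0)) (.leaf (nat_lit 0x0)))) (.node 2 (.node 1 (.leaf (nat_lit 0x0)) (.leaf (nat_lit 0x0))) (.node 1 (.leaf (nat_lit 0x0)) (.leaf (nat_lit 0x0))))) (.node 4 (.node 2 (.node 1 (.leaf (nat_lit 0x0)) (.leaf (nat_lit 0x0))) (.node 1 (.leaf (nat_lit 0x0)) (.leaf (nat_lit 0x0)))) (.node 2 (.node 1 (.leaf (nat_lit 0x0)) (.leaf (nat_lit 0x0))) (.node 1 (.leaf (nat_lit 0x0)) (.leaf (nat_lit 0x0)))))) (.node 8 (.node 4 (.node 2 (.node 1 (.leaf (nat_lit 0x0)) (.leaf (nat_lit 0x0))) (.node 1 (.leaf (nat_lit 0x0)) (.leaf (nat_lit 0x0)))) (.node 2 (.node 1 (.leaf (nat_lit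 0x0)) (.leaf (nat_lit 0x0))) (.node 1 (.leaf (nat_lit 0x0)) (.leaf (nat_lit 0x0))))) (.node 4 (.node 2 (.node 1 (.leaf (nat_lit 0x0)) (.leaf (nat_lit 0x0))) (.node 1 (.leaf (nat_lit 0x0)) (.leaf (nat_lit 0x0)))) (.node 2 (.node 1 (.leaf (nat_lit 0x0)) (.leaf (nat_lit 0x0))) (.node 1 (.leaf (nat_lit 0x0)) (.leaf (nat_lit 0x0))))))) (.node 16 (.node 8 (.node 4 (.node 2 (.node 1 (.leaf (nat_lit 0x0)) (.leaf (nat_lit 0x0))) (.node 1 (.leaf (nat_lit 0x0)) (.leaf (nat_lit 0x0)))) (.node 2 (.node 1 (.leaf (nat_lit 0x0)) (.leaf (nat_lit 0x0))) (.node 1 (.leaf (nat_lit 0x0)) (.leaf (nat_lit 0x0))))) (.node 4 (.node 2 (.node 1 (.leaf (nat_lit 0x0)) (.leaf (nat_lit 0x0))) (.node 1 (.leaf (nat_lit 0x0)) (.leaf (nat_lit 0x0)))) (.node 2 (.node 1 (.leaf (nat_lit 0x0)) (.leaf (nat_lit 0x0))) (.node 1 (.leaf (nat_lit 0x0)) (.leaf (nat_lit 0x0)))))) (.node 8 (.node 4 (.node 2 (.node 1 (.leaf (nat_lit 0x0)) (.leaf (nat_lit 0x0)))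 (.node 1 (.leaf (nat_lit 0x0)) (.leaf (nat_lit 0x0)))) (.node 2 (.node 1 (.leaf (nat_lit 0x0)) (.leaf (nat_lit 0x0))) (.node 1 (.leaf (nat_lit 0x0)) (.leaf (nat_lit 0x0))))) (.node 4 (.node 2 (.node 1 (.leaf (nat_lit 0x0)) (.leaf (nat_lit 0x0))) (.node 1 (.leaf (nat_lit 0x0)) (.leaf (nat_lit 0x0)))) (.node 2 (.node 1 (.leaf (nat_lit 0x0)) (.leaf (nat_lit 0x0))) (.node 1 (.leaf (nat_lit 0x0)) (.leaf (nat_lit 0x0))))))))

noncomputable def lvO1_18 : Tree :=
  .node 64 (.node 32 (.node 16 (.node 8 (.node 4 (.node 2 (.node 1 (.leaf (nat_lit 0x0)) (.leaf (nat_lit 0x0))) (.node 1 (.leaf (nat_lit 0x0)) (.leaf (nat_lit 0x0)))) (.node 2 (.node 1 (.leaf (nat_lit 0x0)) (.leaf (nat_lit 0x0))) (.node 1 (.leaf (nat_lit 0x0)) (.leaf (nat_lit 0x0))))) (.node 4 (.node 2 (.node 1 (.leaf (nat_lit 0x0)) (.leaf (nat_lit 0x0))) (.node 1 (.leaf (nat_lit 0x0)) (.leaf (nat_lit 0x0)))) (.node 2 (.node 1 (.leaf (nat_lit 0x0)) (.leaf (nat_lit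 0x0))) (.node 1 (.leaf (nat_lit 0x0)) (.leaf (nat_lit 0x0)))))) (.node 8 (.node 4 (.node 2 (.node 1 (.leaf (nat_lit 0x0)) (.leaf (nat_lit 0x0))) (.node 1 (.leaf (nat_lit 0x0)) (.leaf (nat_lit 0x0)))) (.node 2 (.node 1 (.leaf (nat_lit 0x0)) (.leaf (nat_lit 0x0))) (.node 1 (.leaf (nat_lit 0x0)) (.leaf (nat_lit 0x0))))) (.node 4 (.node 2 (.node 1 (.leaf (nat_lit 0x0)) (.leaf (nat_lit 0x0))) (.node 1 (.leaf (nat_lit 0x0)) (.leaf (nat_lit 0x0)))) (.node 2 (.node 1 (.leaf (nat_lit 0x0)) (.leaf (nat_lit 0x0))) (.node 1 (.leaf (nat_lit 0x0)) (.leaf (nat_lit 0x0))))))) (.node 16 (.node 8 (.node 4 (.node 2 (.node 1 (.leaf (nat_lit 0x0)) (.leaf (nat_lit 0x0))) (.node 1 (.leaf (nat_lit 0x0)) (.leaf (nat_lit 0x0)))) (.node 2 (.node 1 (.leaf (nat_lit 0x0)) (.leaf (nat_lit 0x0))) (.node 1 (.leaf (nat_lit 0x0)) (.leaf (nat_lit 0x0))))) (.node 4 (.node 2 (.node 1 (.leaf (nat_lit 0x0)) (.leaf (nat_lit 0x0))) (.node 1 (.leaf (nat_lit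 0x0)) (.leaf (nat_lit 0x0)))) (.node 2 (.node 1 (.leaf (nat_lit 0x0)) (.leaf (nat_lit 0x0))) (.node 1 (.leaf (nat_lit 0x0)) (.leaf (nat_lit 0x0)))))) (.node 8 (.node 4 (.node 2 (.node 1 (.leaf (nat_lit 0x0)) (.leaf (nat_lit 0x0))) (.node 1 (.leaf (nat_lit 0x0)) (.leaf (nat_lit 0x0)))) (.node 2 (.node 1 (.leaf (nat_lit 0x0)) (.leaf (nat_lit 0x0))) (.node 1 (.leaf (nat_lit 0x0)) (.leaf (nat_lit 0x0))))) (.node 4 (.node 2 (.node 1 (.leaf (nat_lit 0x0)) (.leaf (nat_lit 0x0))) (.node 1 (.leaf (nat_lit 0x0)) (.leaf (nat_lit 0x0)))) (.node 2 (.node 1 (.leaf (nat_lit 0x0)) (.leaf (nat_lit 0x0))) (.node 1 (.leaf (nat_lit 0x0)) (.leaf (nat_lit 0x0)))))))) (.node 32 (.node 16 (.node 8 (.node 4 (.node 2 (.node 1 (.leaf (nat_lit 0x0)) (.leaf (nat_lit 0x0))) (.node 1 (.leaf (nat_lit 0x0)) (.leaf (nat_lit 0x0)))) (.node 2 (.node 1 (.leaf (nat_lit 0x0)) (.leaf (nat_lit 0x0))) (.node 1 (.leaf (nat_lit 0x0)) (.leaf (nat_lit 0x0)))))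 (.node 4 (.node 2 (.node 1 (.leaf (nat_lit 0x0)) (.leaf (nat_lit 0x0))) (.node 1 (.leaf (nat_lit 0x0)) (.leaf (nat_lit 0x0)))) (.node 2 (.node 1 (.leaf (nat_lit 0x0)) (.leaf (nat_lit 0x0))) (.node 1 (.leaf (nat_lit 0x0)) (.leaf (nat_lit 0x0)))))) (.node 8 (.node 4 (.node 2 (.node 1 (.leaf (nat_lit 0x0)) (.leaf (nat_lit 0x0))) (.node 1 (.leaf (nat_lit 0x0)) (.leaf (nat_lit 0x0)))) (.node 2 (.node 1 (.leaf (nat_lit 0x0)) (.leaf (nat_lit 0x0))) (.node 1 (.leaf (nat_lit 0x0)) (.leaf (nat_lit 0x0))))) (.node 4 (.node 2 (.node 1 (.leaf (nat_lit 0x0)) (.leaf (nat_lit 0x0))) (.node 1 (.leaf (nat_lit 0x0)) (.leaf (nat_lit 0x0)))) (.node 2 (.node 1 (.leaf (nat_lit 0x0)) (.leaf (nat_lit 0x0))) (.node 1 (.leaf (nat_lit 0x0)) (.leaf (nat_lit 0x0))))))) (.node 16 (.node 8 (.node 4 (.node 2 (.node 1 (.leaf (nat_lit 0x0)) (.leaf (nat_lit 0x0))) (.node 1 (.leaf (nat_lit 0x0)) (.leaf (nat_lit 0x0)))) (.node 2 (.node 1 (.leaf (nat_lit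 0x0)) (.leaf (nat_lit 0x0))) (.node 1 (.leaf (nat_lit 0x0)) (.leaf (nat_lit 0x0))))) (.node 4 (.node 2 (.node 1 (.leaf (nat_lit 0x0)) (.leaf (nat_lit 0x0))) (.node 1 (.leaf (nat_lit 0x0)) (.leaf (nat_lit 0x0)))) (.node 2 (.node 1 (.leaf (nat_lit 0x0)) (.leaf (nat_lit 0x0))) (.node 1 (.leaf (nat_lit 0x0)) (.leaf (nat_lit 0x0)))))) (.node 8 (.node 4 (.node 2 (.node 1 (.leaf (nat_lit 0x0)) (.leaf (nat_lit 0x0))) (.node 1 (.leaf (nat_lit 0x0)) (.leaf (nat_lit 0x0)))) (.node 2 (.node 1 (.leaf (nat_lit 0x0)) (.leaf (nat_lit 0x0))) (.node 1 (.leaf (nat_lit 0x0)) (.leaf (nat_lit 0x0))))) (.node 4 (.node 2 (.node 1 (.leaf (nat_lit 0x0)) (.leaf (nat_lit 0x0))) (.node 1 (.leaf (nat_lit 0x0)) (.leaf (nat_lit 0x0)))) (.node 2 (.node 1 (.leaf (nat_lit 0x0)) (.leaf (nat_lit 0x0))) (.node 1 (.leaf (nat_lit 0x0)) (.leaf (nat_lit 0x0))))))))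

noncomputable def lvO1_19 : Tree :=
  .node 64 (.node 32 (.node 16 (.node 8 (.node 4 (.node 2 (.node 1 (.leaf (nat_lit 0x0)) (.leaf (nat_lit 0x0))) (.node 1 (.leaf (nat_lit 0x0)) (.leaf (nat_lit 0x0)))) (.node 2 (.node 1 (.leaf (nat_lit 0x0)) (.leaf (nat_lit 0x0))) (.node 1 (.leaf (nat_lit 0x0)) (.leaf (nat_lit 0x0))))) (.node 4 (.node 2 (.node 1 (.leaf (nat_lit 0x0)) (.leaf (nat_lit 0x0))) (.node 1 (.leaf (nat_lit 0x0)) (.leaf (nat_lit 0x0)))) (.node 2 (.node 1 (.leaf (nat_lit 0x0)) (.leaf (nat_lit 0x0))) (.node 1 (.leaf (nat_lit 0x0)) (.leaf (nat_lit 0x0)))))) (.node 8 (.node 4 (.node 2 (.node 1 (.leaf (nat_lit 0x0)) (.leaf (nat_lit 0x0))) (.node 1 (.leaf (nat_lit 0x0)) (.leaf (nat_lit 0x0)))) (.node 2 (.node 1 (.leaf (nat_lit 0x0)) (.leaf (nat_lit 0x0))) (.node 1 (.leaf (nat_lit 0x0)) (.leaf (nat_lit 0x0))))) (.node 4 (.node 2 (.node 1 (.leaf (nat_lit 0x0)) (.leaf (nat_lit 0x0))) (.node 1 (.leaf (nat_lit 0x0))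 (.leaf (nat_lit 0x0)))) (.node 2 (.node 1 (.leaf (nat_lit 0x0)) (.leaf (nat_lit 0x0))) (.node 1 (.leaf (nat_lit 0x0)) (.leaf (nat_lit 0x0))))))) (.node 16 (.node 8 (.node 4 (.node 2 (.node 1 (.leaf (nat_lit 0x0)) (.leaf (nat_lit 0x0))) (.node 1 (.leaf (nat_lit 0x0)) (.leaf (nat_lit 0x0)))) (.node 2 (.node 1 (.leaf (nat_lit 0x0)) (.leaf (nat_lit 0x0))) (.node 1 (.leaf (nat_lit 0x0)) (.leaf (nat_lit 0x0))))) (.node 4 (.node 2 (.node 1 (.leaf (nat_lit 0x0)) (.leaf (nat_lit 0x0))) (.node 1 (.leaf (nat_lit 0x0)) (.leaf (nat_lit 0x0)))) (.node 2 (.node 1 (.leaf (nat_lit 0x0)) (.leaf (nat_lit 0x0))) (.node 1 (.leaf (nat_lit 0x0)) (.leaf (nat_lit 0x0)))))) (.node 8 (.node 4 (.node 2 (.node 1 (.leaf (nat_lit 0x0)) (.leaf (nat_lit 0x0))) (.node 1 (.leaf (nat_lit 0x0)) (.leaf (nat_lit 0x0)))) (.node 2 (.node 1 (.leaf (nat_lit 0x0)) (.leaf (nat_lit 0x0))) (.node 1 (.leaf (nat_lit 0x0)) (.leaf (nat_lit 0x0))))) (.node 4 (.node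 2 (.node 1 (.leaf (nat_lit 0x0)) (.leaf (nat_lit 0x0))) (.node 1 (.leaf (nat_lit 0x0)) (.leaf (nat_lit 0x0)))) (.node 2 (.node 1 (.leaf (nat_lit 0x0)) (.leaf (nat_lit 0x0))) (.node 1 (.leaf (nat_lit 0x0)) (.leaf (nat_lit 0x0)))))))) (.node 32 (.node 16 (.node 8 (.node 4 (.node 2 (.node 1 (.leaf (nat_lit 0x0)) (.leaf (nat_lit 0x0))) (.node 1 (.leaf (nat_lit 0x0)) (.leaf (nat_lit 0x0)))) (.node 2 (.node 1 (.leaf (nat_lit 0x0)) (.leaf (nat_lit 0x0))) (.node 1 (.leaf (nat_lit 0x0)) (.leaf (nat_lit 0x0))))) (.node 4 (.node 2 (.node 1 (.leaf (nat_lit 0x0)) (.leaf (nat_lit 0x0))) (.node 1 (.leaf (nat_lit 0x0)) (.leaf (nat_lit 0x0)))) (.node 2 (.node 1 (.leaf (nat_lit 0x0)) (.leaf (nat_lit 0x0))) (.node 1 (.leaf (nat_lit 0x0)) (.leaf (nat_lit 0x0)))))) (.node 8 (.node 4 (.node 2 (.node 1 (.leaf (nat_lit 0x0)) (.leaf (nat_lit 0x0))) (.node 1 (.leaf (nat_lit 0x0)) (.leaf (nat_lit 0x0)))) (.node 2 (.node 1 (.leaf (nat_lit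 0x0)) (.leaf (nat_lit 0x0))) (.node 1 (.leaf (nat_lit 0x0)) (.leaf (nat_lit 0x0))))) (.node 4 (.node 2 (.node 1 (.leaf (nat_lit 0x0)) (.leaf (nat_lit 0x0))) (.node 1 (.leaf (nat_lit 0x0)) (.leaf (nat_lit 0x0)))) (.node 2 (.node 1 (.leaf (nat_lit 0x0)) (.leaf (nat_lit 0x0))) (.node 1 (.leaf (nat_lit 0x0)) (.leaf (nat_lit 0x0))))))) (.node 16 (.node 8 (.node 4 (.node 2 (.node 1 (.leaf (nat_lit 0x0)) (.leaf (nat_lit 0x0))) (.node 1 (.leaf (nat_lit 0x0)) (.leaf (nat_lit 0x0)))) (.node 2 (.node 1 (.leaf (nat_lit 0x0)) (.leaf (nat_lit 0x0))) (.node 1 (.leaf (nat_lit 0x0)) (.leaf (nat_lit 0x0))))) (.node 4 (.node 2 (.node 1 (.leaf (nat_lit 0x0)) (.leaf (nat_lit 0x0))) (.node 1 (.leaf (nat_lit 0x0)) (.leaf (nat_lit 0x0)))) (.node 2 (.node 1 (.leaf (nat_lit 0x0)) (.leaf (nat_lit 0x0))) (.node 1 (.leaf (nat_lit 0x0)) (.leaf (nat_lit 0x0)))))) (.node 8 (.node 4 (.node 2 (.node 1 (.leaf (nat_lit 0x0)) (.leaf (nat_lit 0x0)))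 (.node 1 (.leaf (nat_lit 0x0)) (.leaf (nat_lit 0x0)))) (.node 2 (.node 1 (.leaf (nat_lit 0x0)) (.leaf (nat_lit 0x0))) (.node 1 (.leaf (nat_lit 0x0)) (.leaf (nat_lit 0x0))))) (.node 4 (.node 2 (.node 1 (.leaf (nat_lit 0x0)) (.leaf (nat_lit 0x0))) (.node 1 (.leaf (nat_lit 0x0)) (.leaf (nat_lit 0x0)))) (.node 2 (.node 1 (.leaf (nat_lit 0x0)) (.leaf (nat_lit 0x0))) (.node 1 (.leaf (nat_lit 0x0)) (.leaf (nat_lit 0x0))))))))

noncomputable def lvO1_20 : Tree :=
  .node 64 (.node 32 (.node 16 (.node 8 (.node 4 (.node 2 (.node 1 (.leaf (nat_lit 0x0)) (.leaf (nat_lit 0x0))) (.node 1 (.leaf (nat_lit 0x0)) (.leaf (nat_lit 0x0)))) (.node 2 (.node 1 (.leaf (nat_lit 0x0)) (.leaf (nat_lit 0x0))) (.node 1 (.leaf (nat_lit 0x0)) (.leaf (nat_lit 0x0))))) (.node 4 (.node 2 (.node 1 (.leaf (nat_lit 0x0)) (.leaf (nat_lit 0x0))) (.node 1 (.leaf (nat_lit 0x0)) (.leaf (nat_lit 0x0)))) (.node 2 (.node 1 (.leaf (nat_lit 0x0)) (.leaf (nat_lit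 0x0))) (.node 1 (.leaf (nat_lit 0x0)) (.leaf (nat_lit 0x0)))))) (.node 8 (.node 4 (.node 2 (.node 1 (.leaf (nat_lit 0x0)) (.leaf (nat_lit 0x0))) (.node 1 (.leaf (nat_lit 0x0)) (.leaf (nat_lit 0x0)))) (.node 2 (.node 1 (.leaf (nat_lit 0x0)) (.leaf (nat_lit 0x0))) (.node 1 (.leaf (nat_lit 0x0)) (.leaf (nat_lit 0x0))))) (.node 4 (.node 2 (.node 1 (.leaf (nat_lit 0x0)) (.leaf (nat_lit 0x0))) (.node 1 (.leaf (nat_lit 0x0)) (.leaf (nat_lit 0x0)))) (.node 2 (.node 1 (.leaf (nat_lit 0x0)) (.leaf (nat_lit 0x0))) (.node 1 (.leaf (nat_lit 0x0)) (.leaf (nat_lit 0x0))))))) (.node 16 (.node 8 (.node 4 (.node 2 (.node 1 (.leaf (nat_lit 0x0)) (.leaf (nat_lit 0x0))) (.node 1 (.leaf (nat_lit 0x0)) (.leaf (nat_lit 0x0)))) (.node 2 (.node 1 (.leaf (nat_lit 0x0)) (.leaf (nat_lit 0x0))) (.node 1 (.leaf (nat_lit 0x0)) (.leaf (nat_lit 0x0))))) (.node 4 (.node 2 (.node 1 (.leaf (nat_lit 0x0)) (.leaf (nat_lit 0x0))) (.node 1 (.leaf (nat_lit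 0x0)) (.leaf (nat_lit 0x0)))) (.node 2 (.node 1 (.leaf (nat_lit 0x0)) (.leaf (nat_lit 0x0))) (.node 1 (.leaf (nat_lit 0x0)) (.leaf (nat_lit 0x0)))))) (.node 8 (.node 4 (.node 2 (.node 1 (.leaf (nat_lit 0x0)) (.leaf (nat_lit 0x0))) (.node 1 (.leaf (nat_lit 0x0)) (.leaf (nat_lit 0x0)))) (.node 2 (.node 1 (.leaf (nat_lit 0x0)) (.leaf (nat_lit 0x0))) (.node 1 (.leaf (nat_lit 0x0)) (.leaf (nat_lit 0x0))))) (.node 4 (.node 2 (.node 1 (.leaf (nat_lit 0x0)) (.leaf (nat_lit 0x0))) (.node 1 (.leaf (nat_lit 0x0)) (.leaf (nat_lit 0x0)))) (.node 2 (.node 1 (.leaf (nat_lit 0x0)) (.leaf (nat_lit 0x0))) (.node 1 (.leaf (nat_lit 0x0)) (.leaf (nat_lit 0x0)))))))) (.node 32 (.node 16 (.node 8 (.node 4 (.node 2 (.node 1 (.leaf (nat_lit 0x0)) (.leaf (nat_lit 0x0))) (.node 1 (.leaf (nat_lit 0x0)) (.leaf (nat_lit 0x0)))) (.node 2 (.node 1 (.leaf (nat_lit 0x0)) (.leaf (nat_lit 0x0))) (.node 1 (.leaf (nat_lit 0x0)) (.leaf (nat_lit 0x0)))))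 (.node 4 (.node 2 (.node 1 (.leaf (nat_lit 0x0)) (.leaf (nat_lit 0x0))) (.node 1 (.leaf (nat_lit 0x0)) (.leaf (nat_lit 0x0)))) (.node 2 (.node 1 (.leaf (nat_lit 0x0)) (.leaf (nat_lit 0x0))) (.node 1 (.leaf (nat_lit 0x0)) (.leaf (nat_lit 0x0)))))) (.node 8 (.node 4 (.node 2 (.node 1 (.leaf (nat_lit 0x0)) (.leaf (nat_lit 0x0))) (.node 1 (.leaf (nat_lit 0x0)) (.leaf (nat_lit 0x0)))) (.node 2 (.node 1 (.leaf (nat_lit 0x0)) (.leaf (nat_lit 0x0))) (.node 1 (.leaf (nat_lit 0x0)) (.leaf (nat_lit 0x0))))) (.node 4 (.node 2 (.node 1 (.leaf (nat_lit 0x0)) (.leaf (nat_lit 0x0))) (.node 1 (.leaf (nat_lit 0x0)) (.leaf (nat_lit 0x0)))) (.node 2 (.node 1 (.leaf (nat_lit 0x0)) (.leaf (nat_lit 0x0))) (.node 1 (.leaf (nat_lit 0x0)) (.leaf (nat_lit 0x0))))))) (.node 16 (.node 8 (.node 4 (.node 2 (.node 1 (.leaf (nat_lit 0x0)) (.leaf (nat_lit 0x0))) (.node 1 (.leaf (nat_lit 0x0)) (.leaf (nat_lit 0x0)))) (.node 2 (.node 1 (.leaf (nat_lit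 0x0)) (.leaf (nat_lit 0x0))) (.node 1 (.leaf (nat_lit 0x0)) (.leaf (nat_lit 0x0))))) (.node 4 (.node 2 (.node 1 (.leaf (nat_lit 0x0)) (.leaf (nat_lit 0x0))) (.node 1 (.leaf (nat_lit 0x0)) (.leaf (nat_lit 0x0)))) (.node 2 (.node 1 (.leaf (nat_lit 0x0)) (.leaf (nat_lit 0x0))) (.node 1 (.leaf (nat_lit 0x0)) (.leaf (nat_lit 0x0)))))) (.node 8 (.node 4 (.node 2 (.node 1 (.leaf (nat_lit 0x0)) (.leaf (nat_lit 0x0))) (.node 1 (.leaf (nat_lit 0x0)) (.leaf (nat_lit 0x0)))) (.node 2 (.node 1 (.leaf (nat_lit 0x0)) (.leaf (nat_lit 0x0))) (.node 1 (.leaf (nat_lit 0x0)) (.leaf (nat_lit 0x0))))) (.node 4 (.node 2 (.node 1 (.leaf (nat_lit 0x0)) (.leaf (nat_lit 0x0))) (.node 1 (.leaf (nat_lit 0x0)) (.leaf (nat_lit 0x0)))) (.node 2 (.node 1 (.leaf (nat_lit 0x0)) (.leaf (nat_lit 0x0))) (.node 1 (.leaf (nat_lit 0x0)) (.leaf (nat_lit 0x0))))))))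

noncomputable def lvO1_21 : Tree :=
  .node 64 (.node 32 (.node 16 (.node 8 (.node 4 (.node 2 (.node 1 (.leaf (nat_lit 0x0)) (.leaf (nat_lit 0x0))) (.node 1 (.leaf (nat_lit 0x0)) (.leaf (nat_lit 0x0)))) (.node 2 (.node 1 (.leaf (nat_lit 0x0)) (.leaf (nat_lit 0x0))) (.node 1 (.leaf (nat_lit 0x0)) (.leaf (nat_lit 0x0))))) (.node 4 (.node 2 (.node 1 (.leaf (nat_lit 0x0)) (.leaf (nat_lit 0x0))) (.node 1 (.leaf (nat_lit 0x0)) (.leaf (nat_lit 0x0)))) (.node 2 (.node 1 (.leaf (nat_lit 0x0)) (.leaf (nat_lit 0x0))) (.node 1 (.leaf (nat_lit 0x0)) (.leaf (nat_lit 0x0)))))) (.node 8 (.node 4 (.node 2 (.node 1 (.leaf (nat_lit 0x0)) (.leaf (nat_lit 0x0))) (.node 1 (.leaf (nat_lit 0x0)) (.leaf (nat_lit 0x0)))) (.node 2 (.node 1 (.leaf (nat_lit 0x0)) (.leaf (nat_lit 0x0))) (.node 1 (.leaf (nat_lit 0x0)) (.leaf (nat_lit 0x0))))) (.node 4 (.node 2 (.node 1 (.leaf (nat_lit 0x0)) (.leaf (nat_lit 0x0))) (.node 1 (.leaf (nat_lit 0x0))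 (.leaf (nat_lit 0x0)))) (.node 2 (.node 1 (.leaf (nat_lit 0x0)) (.leaf (nat_lit 0x0))) (.node 1 (.leaf (nat_lit 0x0)) (.leaf (nat_lit 0x0))))))) (.node 16 (.node 8 (.node 4 (.node 2 (.node 1 (.leaf (nat_lit 0x0)) (.leaf (nat_lit 0x0))) (.node 1 (.leaf (nat_lit 0x0)) (.leaf (nat_lit 0x0)))) (.node 2 (.node 1 (.leaf (nat_lit 0x0)) (.leaf (nat_lit 0x0))) (.node 1 (.leaf (nat_lit 0x0)) (.leaf (nat_lit 0x0))))) (.node 4 (.node 2 (.node 1 (.leaf (nat_lit 0x0)) (.leaf (nat_lit 0x0))) (.node 1 (.leaf (nat_lit 0x0)) (.leaf (nat_lit 0x0)))) (.node 2 (.node 1 (.leaf (nat_lit 0x0)) (.leaf (nat_lit 0x0))) (.node 1 (.leaf (nat_lit 0x0)) (.leaf (nat_lit 0x0)))))) (.node 8 (.node 4 (.node 2 (.node 1 (.leaf (nat_lit 0x0)) (.leaf (nat_lit 0x0))) (.node 1 (.leaf (nat_lit 0x0)) (.leaf (nat_lit 0x0)))) (.node 2 (.node 1 (.leaf (nat_lit 0x0)) (.leaf (nat_lit 0x0))) (.node 1 (.leaf (nat_lit 0x0)) (.leaf (nat_lit 0x0))))) (.node 4 (.node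 2 (.node 1 (.leaf (nat_lit 0x0)) (.leaf (nat_lit 0x0))) (.node 1 (.leaf (nat_lit 0x0)) (.leaf (nat_lit 0x0)))) (.node 2 (.node 1 (.leaf (nat_lit 0x0)) (.leaf (nat_lit 0x0))) (.node 1 (.leaf (nat_lit 0x0)) (.leaf (nat_lit 0x0)))))))) (.node 32 (.node 16 (.node 8 (.node 4 (.node 2 (.node 1 (.leaf (nat_lit 0x0)) (.leaf (nat_lit 0x0))) (.node 1 (.leaf (nat_lit 0x0)) (.leaf (nat_lit 0x0)))) (.node 2 (.node 1 (.leaf (nat_lit 0x0)) (.leaf (nat_lit 0x0))) (.node 1 (.leaf (nat_lit 0x0)) (.leaf (nat_lit 0x0))))) (.node 4 (.node 2 (.node 1 (.leaf (nat_lit 0x0)) (.leaf (nat_lit 0x0))) (.node 1 (.leaf (nat_lit 0x0)) (.leaf (nat_lit 0x0)))) (.node 2 (.node 1 (.leaf (nat_lit 0x0)) (.leaf (nat_lit 0x0))) (.node 1 (.leaf (nat_lit 0x0)) (.leaf (nat_lit 0x0)))))) (.node 8 (.node 4 (.node 2 (.node 1 (.leaf (nat_lit 0x0)) (.leaf (nat_lit 0x0))) (.node 1 (.leaf (nat_lit 0x0)) (.leaf (nat_lit 0x0)))) (.node 2 (.node 1 (.leaf (nat_lit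 0x0)) (.leaf (nat_lit 0x0))) (.node 1 (.leaf (nat_lit 0x0)) (.leaf (nat_lit 0x0))))) (.node 4 (.node 2 (.node 1 (.leaf (nat_lit 0x0)) (.leaf (nat_lit 0x0))) (.node 1 (.leaf (nat_lit 0x0)) (.leaf (nat_lit 0x0)))) (.node 2 (.node 1 (.leaf (nat_lit 0x0)) (.leaf (nat_lit 0x0))) (.node 1 (.leaf (nat_lit 0x0)) (.leaf (nat_lit 0x0))))))) (.node 16 (.node 8 (.node 4 (.node 2 (.node 1 (.leaf (nat_lit 0x0)) (.leaf (nat_lit 0x0))) (.node 1 (.leaf (nat_lit 0x0)) (.leaf (nat_lit 0x0)))) (.node 2 (.node 1 (.leaf (nat_lit 0x0)) (.leaf (nat_lit 0x0))) (.node 1 (.leaf (nat_lit 0x0)) (.leaf (nat_lit 0x0))))) (.node 4 (.node 2 (.node 1 (.leaf (nat_lit 0x0)) (.leaf (nat_lit 0x0))) (.node 1 (.leaf (nat_lit 0x0)) (.leaf (nat_lit 0x0)))) (.node 2 (.node 1 (.leaf (nat_lit 0x0)) (.leaf (nat_lit 0x0))) (.node 1 (.leaf (nat_lit 0x0)) (.leaf (nat_lit 0x0)))))) (.node 8 (.node 4 (.node 2 (.node 1 (.leaf (nat_lit 0x0)) (.leaf (nat_lit 0x0)))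 (.node 1 (.leaf (nat_lit 0x0)) (.leaf (nat_lit 0x0)))) (.node 2 (.node 1 (.leaf (nat_lit 0x0)) (.leaf (nat_lit 0x0))) (.node 1 (.leaf (nat_lit 0x0)) (.leaf (nat_lit 0x0))))) (.node 4 (.node 2 (.node 1 (.leaf (nat_lit 0x0)) (.leaf (nat_lit 0x0))) (.node 1 (.leaf (nat_lit 0x0)) (.leaf (nat_lit 0x0)))) (.node 2 (.node 1 (.leaf (nat_lit 0x0)) (.leaf (nat_lit 0x0))) (.node 1 (.leaf (nat_lit 0x0)) (.leaf (nat_lit 0x0))))))))

noncomputable def lvO1_22 : Tree :=
  .node 64 (.node 32 (.node 16 (.node 8 (.node 4 (.node 2 (.node 1 (.leaf (nat_lit 0x0)) (.leaf (nat_lit 0x0))) (.node 1 (.leaf (nat_lit 0x0)) (.leaf (nat_lit 0x0)))) (.node 2 (.node 1 (.leaf (nat_lit 0x0)) (.leaf (nat_lit 0x0))) (.node 1 (.leaf (nat_lit 0x0)) (.leaf (nat_lit 0x0))))) (.node 4 (.node 2 (.node 1 (.leaf (nat_lit 0x0)) (.leaf (nat_lit 0x0))) (.node 1 (.leaf (nat_lit 0x0)) (.leaf (nat_lit 0x0)))) (.node 2 (.node 1 (.leaf (nat_lit 0x0)) (.leaf (nat_lit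 0x0))) (.node 1 (.leaf (nat_lit 0x0)) (.leaf (nat_lit 0x0)))))) (.node 8 (.node 4 (.node 2 (.node 1 (.leaf (nat_lit 0x0)) (.leaf (nat_lit 0x0))) (.node 1 (.leaf (nat_lit 0x0)) (.leaf (nat_lit 0x0)))) (.node 2 (.node 1 (.leaf (nat_lit 0x0)) (.leaf (nat_lit 0x0))) (.node 1 (.leaf (nat_lit 0x0)) (.leaf (nat_lit 0x0))))) (.node 4 (.node 2 (.node 1 (.leaf (nat_lit 0x0)) (.leaf (nat_lit 0x0))) (.node 1 (.leaf (nat_lit 0x0)) (.leaf (nat_lit 0x0)))) (.node 2 (.node 1 (.leaf (nat_lit 0x0)) (.leaf (nat_lit 0x0))) (.node 1 (.leaf (nat_lit 0x0)) (.leaf (nat_lit 0x0))))))) (.node 16 (.node 8 (.node 4 (.node 2 (.node 1 (.leaf (nat_lit 0x0)) (.leaf (nat_lit 0x0))) (.node 1 (.leaf (nat_lit 0x0)) (.leaf (nat_lit 0x0)))) (.node 2 (.node 1 (.leaf (nat_lit 0x0)) (.leaf (nat_lit 0x0))) (.node 1 (.leaf (nat_lit 0x0)) (.leaf (nat_lit 0x0))))) (.node 4 (.node 2 (.node 1 (.leaf (nat_lit 0x0)) (.leaf (nat_lit 0x0))) (.node 1 (.leaf (nat_lit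 0x0)) (.leaf (nat_lit 0x0)))) (.node 2 (.node 1 (.leaf (nat_lit 0x0)) (.leaf (nat_lit 0x0))) (.node 1 (.leaf (nat_lit 0x0)) (.leaf (nat_lit 0x0)))))) (.node 8 (.node 4 (.node 2 (.node 1 (.leaf (nat_lit 0x0)) (.leaf (nat_lit 0x0))) (.node 1 (.leaf (nat_lit 0x0)) (.leaf (nat_lit 0x0)))) (.node 2 (.node 1 (.leaf (nat_lit 0x0)) (.leaf (nat_lit 0x0))) (.node 1 (.leaf (nat_lit 0x0)) (.leaf (nat_lit 0x0))))) (.node 4 (.node 2 (.node 1 (.leaf (nat_lit 0x0)) (.leaf (nat_lit 0x0))) (.node 1 (.leaf (nat_lit 0x0)) (.leaf (nat_lit 0x0)))) (.node 2 (.node 1 (.leaf (nat_lit 0x0)) (.leaf (nat_lit 0x0))) (.node 1 (.leaf (nat_lit 0x0)) (.leaf (nat_lit 0x0)))))))) (.node 32 (.node 16 (.node 8 (.node 4 (.node 2 (.node 1 (.leaf (nat_lit 0x0)) (.leaf (nat_lit 0x0))) (.node 1 (.leaf (nat_lit 0x0)) (.leaf (nat_lit 0x0)))) (.node 2 (.node 1 (.leaf (nat_lit 0x0)) (.leaf (nat_lit 0x0))) (.node 1 (.leaf (nat_lit 0x0)) (.leaf (nat_lit 0x0)))))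 (.node 4 (.node 2 (.node 1 (.leaf (nat_lit 0x0)) (.leaf (nat_lit 0x0))) (.node 1 (.leaf (nat_lit 0x0)) (.leaf (nat_lit 0x0)))) (.node 2 (.node 1 (.leaf (nat_lit 0x0)) (.leaf (nat_lit 0x0))) (.node 1 (.leaf (nat_lit 0x0)) (.leaf (nat_lit 0x0)))))) (.node 8 (.node 4 (.node 2 (.node 1 (.leaf (nat_lit 0x0)) (.leaf (nat_lit 0x0))) (.node 1 (.leaf (nat_lit 0x0)) (.leaf (nat_lit 0x0)))) (.node 2 (.node 1 (.leaf (nat_lit 0x0)) (.leaf (nat_lit 0x0))) (.node 1 (.leaf (nat_lit 0x0)) (.leaf (nat_lit 0x0))))) (.node 4 (.node 2 (.node 1 (.leaf (nat_lit 0x0)) (.leaf (nat_lit 0x0))) (.node 1 (.leaf (nat_lit 0x0)) (.leaf (nat_lit 0x0)))) (.node 2 (.node 1 (.leaf (nat_lit 0x0)) (.leaf (nat_lit 0x0))) (.node 1 (.leaf (nat_lit 0x0)) (.leaf (nat_lit 0x0))))))) (.node 16 (.node 8 (.node 4 (.node 2 (.node 1 (.leaf (nat_lit 0x0)) (.leaf (nat_lit 0x0))) (.node 1 (.leaf (nat_lit 0x0)) (.leaf (nat_lit 0x0)))) (.node 2 (.node 1 (.leaf (nat_lit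 0x0)) (.leaf (nat_lit 0x0))) (.node 1 (.leaf (nat_lit 0x0)) (.leaf (nat_lit 0x0))))) (.node 4 (.node 2 (.node 1 (.leaf (nat_lit 0x0)) (.leaf (nat_lit 0x0))) (.node 1 (.leaf (nat_lit 0x0)) (.leaf (nat_lit 0x0)))) (.node 2 (.node 1 (.leaf (nat_lit 0x0)) (.leaf (nat_lit 0x0))) (.node 1 (.leaf (nat_lit 0x0)) (.leaf (nat_lit 0x0)))))) (.node 8 (.node 4 (.node 2 (.node 1 (.leaf (nat_lit 0x0)) (.leaf (nat_lit 0x0))) (.node 1 (.leaf (nat_lit 0x0)) (.leaf (nat_lit 0x0)))) (.node 2 (.node 1 (.leaf (nat_lit 0x0)) (.leaf (nat_lit 0x0))) (.node 1 (.leaf (nat_lit 0x0)) (.leaf (nat_lit 0x0))))) (.node 4 (.node 2 (.node 1 (.leaf (nat_lit 0x0)) (.leaf (nat_lit 0x0))) (.node 1 (.leaf (nat_lit 0x0)) (.leaf (nat_lit 0x0)))) (.node 2 (.node 1 (.leaf (nat_lit 0x0)) (.leaf (nat_lit 0x0))) (.node 1 (.leaf (nat_lit 0x0)) (.leaf (nat_lit 0x0))))))))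

noncomputable def lvO1_23 : Tree :=
  .node 64 (.node 32 (.node 16 (.node 8 (.node 4 (.node 2 (.node 1 (.leaf (nat_lit 0x0)) (.leaf (nat_lit 0x0))) (.node 1 (.leaf (nat_lit 0x0)) (.leaf (nat_lit 0x0)))) (.node 2 (.node 1 (.leaf (nat_lit 0x0)) (.leaf (nat_lit 0x0))) (.node 1 (.leaf (nat_lit 0x0)) (.leaf (nat_lit 0x0))))) (.node 4 (.node 2 (.node 1 (.leaf (nat_lit 0x0)) (.leaf (nat_lit 0x0))) (.node 1 (.leaf (nat_lit 0x0)) (.leaf (nat_lit 0x0)))) (.node 2 (.node 1 (.leaf (nat_lit 0x0)) (.leaf (nat_lit 0x0))) (.node 1 (.leaf (nat_lit 0x0)) (.leaf (nat_lit 0x0)))))) (.node 8 (.node 4 (.node 2 (.node 1 (.leaf (nat_lit 0x0)) (.leaf (nat_lit 0x0))) (.node 1 (.leaf (nat_lit 0x0)) (.leaf (nat_lit 0x0)))) (.node 2 (.node 1 (.leaf (nat_lit 0x0)) (.leaf (nat_lit 0x0))) (.node 1 (.leaf (nat_lit 0x0)) (.leaf (nat_lit 0x0))))) (.node 4 (.node 2 (.node 1 (.leaf (nat_lit 0x0)) (.leaf (nat_lit 0x0))) (.node 1 (.leaf (nat_lit 0x0))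 (.leaf (nat_lit 0x0)))) (.node 2 (.node 1 (.leaf (nat_lit 0x0)) (.leaf (nat_lit 0x0))) (.node 1 (.leaf (nat_lit 0x0)) (.leaf (nat_lit 0x0))))))) (.node 16 (.node 8 (.node 4 (.node 2 (.node 1 (.leaf (nat_lit 0x0)) (.leaf (nat_lit 0x0))) (.node 1 (.leaf (nat_lit 0x0)) (.leaf (nat_lit 0x0)))) (.node 2 (.node 1 (.leaf (nat_lit 0x0)) (.leaf (nat_lit 0x0))) (.node 1 (.leaf (nat_lit 0x0)) (.leaf (nat_lit 0x0))))) (.node 4 (.node 2 (.node 1 (.leaf (nat_lit 0x0)) (.leaf (nat_lit 0x0))) (.node 1 (.leaf (nat_lit 0x0)) (.leaf (nat_lit 0x0)))) (.node 2 (.node 1 (.leaf (nat_lit 0x0)) (.leaf (nat_lit 0x0))) (.node 1 (.leaf (nat_lit 0x0)) (.leaf (nat_lit 0x0)))))) (.node 8 (.node 4 (.node 2 (.node 1 (.leaf (nat_lit 0x0)) (.leaf (nat_lit 0x0))) (.node 1 (.leaf (nat_lit 0x0)) (.leaf (nat_lit 0x0)))) (.node 2 (.node 1 (.leaf (nat_lit 0x0)) (.leaf (nat_lit 0x0))) (.node 1 (.leaf (nat_lit 0x0)) (.leaf (nat_lit 0x0))))) (.node 4 (.node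 2 (.node 1 (.leaf (nat_lit 0x0)) (.leaf (nat_lit 0x0))) (.node 1 (.leaf (nat_lit 0x0)) (.leaf (nat_lit 0x0)))) (.node 2 (.node 1 (.leaf (nat_lit 0x0)) (.leaf (nat_lit 0x0))) (.node 1 (.leaf (nat_lit 0x0)) (.leaf (nat_lit 0x0)))))))) (.node 32 (.node 16 (.node 8 (.node 4 (.node 2 (.node 1 (.leaf (nat_lit 0x0)) (.leaf (nat_lit 0x0))) (.node 1 (.leaf (nat_lit 0x0)) (.leaf (nat_lit 0x0)))) (.node 2 (.node 1 (.leaf (nat_lit 0x0)) (.leaf (nat_lit 0x0))) (.node 1 (.leaf (nat_lit 0x0)) (.leaf (nat_lit 0x0))))) (.node 4 (.node 2 (.node 1 (.leaf (nat_lit 0x0)) (.leaf (nat_lit 0x0))) (.node 1 (.leaf (nat_lit 0x0)) (.leaf (nat_lit 0x0)))) (.node 2 (.node 1 (.leaf (nat_lit 0x0)) (.leaf (nat_lit 0x0))) (.node 1 (.leaf (nat_lit 0x0)) (.leaf (nat_lit 0x0)))))) (.node 8 (.node 4 (.node 2 (.node 1 (.leaf (nat_lit 0x0)) (.leaf (nat_lit 0x0))) (.node 1 (.leaf (nat_lit 0x0)) (.leaf (nat_lit 0x0)))) (.node 2 (.node 1 (.leaf (nat_lit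 0x0)) (.leaf (nat_lit 0x0))) (.node 1 (.leaf (nat_lit 0x0)) (.leaf (nat_lit 0x0))))) (.node 4 (.node 2 (.node 1 (.leaf (nat_lit 0x0)) (.leaf (nat_lit 0x0))) (.node 1 (.leaf (nat_lit 0x0)) (.leaf (nat_lit 0x0)))) (.node 2 (.node 1 (.leaf (nat_lit 0x0)) (.leaf (nat_lit 0x0))) (.node 1 (.leaf (nat_lit 0x0)) (.leaf (nat_lit 0x0))))))) (.node 16 (.node 8 (.node 4 (.node 2 (.node 1 (.leaf (nat_lit 0x0)) (.leaf (nat_lit 0x0))) (.node 1 (.leaf (nat_lit 0x0)) (.leaf (nat_lit 0x0)))) (.node 2 (.node 1 (.leaf (nat_lit 0x0)) (.leaf (nat_lit 0x0))) (.node 1 (.leaf (nat_lit 0x0)) (.leaf (nat_lit 0x0))))) (.node 4 (.node 2 (.node 1 (.leaf (nat_lit 0x0)) (.leaf (nat_lit 0x0))) (.node 1 (.leaf (nat_lit 0x0)) (.leaf (nat_lit 0x0)))) (.node 2 (.node 1 (.leaf (nat_lit 0x0)) (.leaf (nat_lit 0x0))) (.node 1 (.leaf (nat_lit 0x0)) (.leaf (nat_lit 0x0)))))) (.node 8 (.node 4 (.node 2 (.node 1 (.leaf (nat_lit 0x0)) (.leaf (nat_lit 0x0)))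 (.node 1 (.leaf (nat_lit 0x0)) (.leaf (nat_lit 0x0)))) (.node 2 (.node 1 (.leaf (nat_lit 0x0)) (.leaf (nat_lit 0x0))) (.node 1 (.leaf (nat_lit 0x0)) (.leaf (nat_lit 0x0))))) (.node 4 (.node 2 (.node 1 (.leaf (nat_lit 0x0)) (.leaf (nat_lit 0x0))) (.node 1 (.leaf (nat_lit 0x0)) (.leaf (nat_lit 0x0)))) (.node 2 (.node 1 (.leaf (nat_lit 0x0)) (.leaf (nat_lit 0x0))) (.node 1 (.leaf (nat_lit 0x0)) (.leaf (nat_lit 0x0))))))))

noncomputable def lvO1_24 : Tree :=
  .node 43 (.node 21 (.node 10 (.node 5 (.node 2 (.node 1 (.leaf (nat_lit 0x0)) (.leaf (nat_lit 0x0))) (.node 1 (.leaf (nat_lit 0x0)) (.node 1 (.leaf (nat_lit 0x0)) (.leaf (nat_lit 0x0))))) (.node 2 (.node 1 (.leaf (nat_lit 0x0)) (.leaf (nat_lit 0x0))) (.node 1 (.leaf (nat_lit 0x0)) (.node 1 (.leaf (nat_lit 0x0)) (.leaf (nat_lit 0x0)))))) (.node 5 (.node 2 (.node 1 (.leaf (nat_lit 0x0)) (.leaf (nat_lit 0x0))) (.node 1 (.leaf (nat_lit 0x0)) (.node 1 (.leaf (nat_lit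 0x0)) (.leaf (nat_lit 0x0))))) (.node 3 (.node 1 (.leaf (nat_lit 0x0)) (.node 1 (.leaf (nat_lit 0x0)) (.leaf (nat_lit 0x0)))) (.node 1 (.leaf (nat_lit 0x0)) (.node 1 (.leaf (nat_lit 0x0)) (.leaf (nat_lit 0x0))))))) (.node 11 (.node 5 (.node 2 (.node 1 (.leaf (nat_lit 0x0)) (.leaf (nat_lit 0x0))) (.node 1 (.leaf (nat_lit 0x0)) (.node 1 (.leaf (nat_lit 0x0)) (.leaf (nat_lit 0x0))))) (.node 3 (.node 1 (.leaf (nat_lit 0x0)) (.node 1 (.leaf (nat_lit 0x0)) (.leaf (nat_lit 0x0)))) (.node 1 (.leaf (nat_lit 0x0)) (.node 1 (.leaf (nat_lit 0x0)) (.leaf (nat_lit 0x0)))))) (.node 5 (.node 2 (.node 1 (.leaf (nat_lit 0x0)) (.leaf (nat_lit 0x0))) (.node 1 (.leaf (nat_lit 0x0)) (.node 1 (.leaf (nat_lit 0x0)) (.leaf (nat_lit 0x0))))) (.node 3 (.node 1 (.leaf (nat_lit 0x0)) (.node 1 (.leaf (nat_lit 0x0)) (.leaf (nat_lit 0x0)))) (.node 1 (.leaf (nat_lit 0x0)) (.node 1 (.leaf (nat_lit 0x0)) (.leaf (nat_lit 0x0)))))))) (.node 22 (.node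 11 (.node 5 (.node 2 (.node 1 (.leaf (nat_lit 0x0)) (.leaf (nat_lit 0x0))) (.node 1 (.leaf (nat_lit 0x0)) (.node 1 (.leaf (nat_lit 0x0)) (.leaf (nat_lit 0x0))))) (.node 3 (.node 1 (.leaf (nat_lit 0x0)) (.node 1 (.leaf (nat_lit 0x0)) (.leaf (nat_lit 0x0)))) (.node 1 (.leaf (nat_lit 0x0)) (.node 1 (.leaf (nat_lit 0x0)) (.leaf (nat_lit 0x0)))))) (.node 5 (.node 2 (.node 1 (.leaf (nat_lit 0x0)) (.leaf (nat_lit 0x0))) (.node 1 (.leaf (nat_lit 0x0)) (.node 1 (.leaf (nat_lit 0x0)) (.leaf (nat_lit 0x0))))) (.node 3 (.node 1 (.leaf (nat_lit 0x0)) (.node 1 (.leaf (nat_lit 0x0)) (.leaf (nat_lit 0x0)))) (.node 1 (.leaf (nat_lit 0x0)) (.node 1 (.leaf (nat_lit 0x0)) (.leaf (nat_lit 0x0))))))) (.node 11 (.node 5 (.node 2 (.node 1 (.leaf (nat_lit 0x0)) (.leaf (nat_lit 0x0))) (.node 1 (.leaf (nat_lit 0x0)) (.node 1 (.leaf (nat_lit 0x0)) (.leaf (nat_lit 0x0))))) (.node 3 (.node 1 (.leaf (nat_lit 0x0)) (.node 1 (.leaf (nat_lit 0x0))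 (.leaf (nat_lit 0x0)))) (.node 1 (.leaf (nat_lit 0x0)) (.node 1 (.leaf (nat_lit 0x0)) (.leaf (nat_lit 0x0)))))) (.node 5 (.node 2 (.node 1 (.leaf (nat_lit 0x0)) (.leaf (nat_lit 0x0))) (.node 1 (.leaf (nat_lit 0x0)) (.node 1 (.leaf (nat_lit 0x0)) (.leaf (nat_lit 0x0))))) (.node 3 (.node 1 (.leaf (nat_lit 0x0)) (.node 1 (.leaf (nat_lit 0x0)) (.leaf (nat_lit 0x0)))) (.node 1 (.leaf (nat_lit 0x0)) (.node 1 (.leaf (nat_lit 0x0)) (.leaf (nat_lit 0x0))))))))

noncomputable def lvO1 : Tree :=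
  .node 1536 (.node 768 (.node 384 (.node 128 (lvO1_0) (.node 128 (lvO1_1) (lvO1_2))) (.node 128 (lvO1_3) (.node 128 (lvO1_4) (lvO1_5)))) (.node 384 (.node 128 (lvO1_6) (.node 128 (lvO1_7) (lvO1_8))) (.node 128 (lvO1_9) (.node 128 (lvO1_10) (lvO1_11))))) (.node 768 (.node 384 (.node 128 (lvO1_12) (.node 128 (lvO1_13) (lvO1_14))) (.node 128 (lvO1_15) (.node 128 (lvO1_16) (lvO1_17)))) (.node 384 (.node 128 (lvO1_18) (.node 128 (lvO1_19) (lvO1_20))) (.node 256 (.node 128 (lvO1_21) (lvO1_22)) (.node 128 (lvO1_23) (lvO1_24)))))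

noncomputable def lvP1_0 : ℕ := nat_lit 0xb0400b9400b7300b8b00bc200b7d00bf700b1a00a0f00b5f009a900aa500bf800bf900c2700bb200b3100aad00b9600a0b00bb100b2a00b2b00a0600a71009c800ad800c0e00beb00b1000ae200c0600bf000b1300a3900a4e00964008ef00ac900bcc00bc7009ec00bb80092300a9b00bfe00bba00a5600a3b00b1d00c1100c12009560070a00af1008cc0094e00c2200b0200b0300c4000b4c008bf00bbf00bc0009e400ac30095f0080e00a9f0060e005ee00b6600a5e00a3e007ec00c4100a16009f3007af00b6c00bf500ae300c25008e700902009790099000abd00afe00afa00937008f60080700a490081c007b6007b70084300b43005f1007b2007b3009cc00c380079f007d7007d8009970098500b26007e700c3c00634007a5007a600886009c000b9c00a430083f00ba100a4800a830088e0087c00bb9007100094300a6f00bdc00b61006bb007e400a1f00b82007030072100b220074100c2c006d80089d0089e006af00a3500ab90073100714008150073200b2000706008a100921005540091a008a20093100b9700b9800abb00c4d00b5400b590081600a600080000526009de00a67009f4007ee009fc008470082300a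ea00bb0008e00090000521009d00097f00c28006b8006df006e000bcb00bc900b7a007170084e00707006db006dc00c4f00c4600bd300bc6006fe0094d00901008b2008b300c3f00b7800a2e0091b00c34007a9006c5006c600b720067000a7800776007cf007d0008eb00ba900557006be006bf00b6d00a6100c3900b6700917008bc00c4200bbb00bc500bc400952008b700c3a00bce00ba700b7c008c3008e40069d00a89005ae0082e0082f0086e0083300c36009fd00b8e00b8d008f3008a6006790078a00b3e00b38006d200ab500c140072400933009e80068e0067d007280087a0068f0098a00727004e60076c004d300be300b1900b3a0081b006170048f0090a00bed00a2500be8005d90063b0063c009c400c0f00c10008060080d0082a0082b00c5200b3f00c2a00c080084b009a10083c00ad900c30007a2007f900af400b3c006370081f009a600a2c0091300be10092900af300c2d006380081200c0d00c2f0061400af500bf30047b00c0b00b3b0060b006f400b4400a9300b16009be00c1300a410081400a8d00a8b00afc0091100b2100914005fb005fc006d500aeb00ad3005de008aa008ab00c3200c1900c2e00be50061a0073e009f2005f4005f500c5400b2700c2600b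e7009ad007e10081e0081a007b500aec00b2c00bfb00abe0061e007dc00b9b009ee00a12005f300bf200c1600c2b00b3700803009bd009f000bfa0072b005e1005e200c2300a8400b0f00b0000a33007c40078e004e9008ae008af00a9000aa000b88009df0076a008da00bfc00b4000c0c00bef009f8007bb0082200811007da007db008d200bf400bee0062700a7e007b1007df007e000a2900c1c00c29005cf009fe0063a007b9007ba00a5c00c5500bfd0048c00a7a00ac400a1900a180079500940008ee00be200bb7005e700b74007a40083a0083b006ed00c5300c0a005d400b6300775005990042d00ad50094700bd0007ac005b5005b600ab1007870090300b890062c0067f00b8000b65005b10077900b0b00b640059100b7f005b200b0d0059600b8100b570041c007570099e00a8a00bbc00514008280070500bd100bd200bd700716007130055a0055b006da00c4e00bcd00bd600ba300a970073b00c510051e007120055900c3d00c4b00c4c00ba4009160092a00b12006bd007390073a0095d00c5000c470050e007f4006b5008db00ba500736006f300730008f700b8f00b9f006fb008a40092000ba800bd40053600c4a00c3e0053d00b5300a280092700a6600b56006f7007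00008a50092f0088c00ba600bca0053b00734009340088d00b79008a00090c008e500b8c00735009240094100b95008370063100a240046e00b7600bac00bd8007fd00a4c00abc004680092800912005fa00ace0099100baa00a0700819006ec00b51007d3007d400a1e00b5000b4f007ca009b3008fc00b0700ae7008b100b9e00bd500c3500b5a00540006e400958006de008b5008b60087b00c4900c37005510091900930008ba008bb00aab00ba000b7b003d00071500ae6006e2006e300a9900ba200bcf006ac00be000c21009d600a0e00aa9006ca00a30008a9007c2007c3007f800c4400bad0045900b4900a7c00b0c00ad70088a009b80076b00879008d8008d9009c600b5800ad60054c00ac50089c008e2008e30085100c4300c3b006aa006b200719008e8007c500bbe005d700aa1008f000a9a00a570046300aed008c000aac00a69007980068d0093e0093f007dd00b4a00b0a006b30053c009770094400a0500a21006fa00abf0094f007f300bbd0077400be900b47009800059c0067c004ec004ed007ce00c0400a200098e00b4b00a520069800c050042a008bd00bff006930059f0082d00ada00a1a009d10066d007850077800c0000bea004cd0083200986008a70099a007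8600b4d004d10083100b4e005b00086f0089500998009fa00996006550067100658004b2006600040d006620066e0059b006a300a5400baf0071f008fa00bde00bb5008d000936008100080c0082900c1500c3100c3300c090061d006400084f007d60099f009a000b0800c5600c1a005eb0046200a0800b23008210081d0063e0063f00a6e00c1800c1b005d60053e00b5b0084800a0300b32006110090800be4009ea00537009eb00610009aa00c1d00c17006080063600a2f008ca00af2009a400a3600a5500bec00840007f7009fb00bf100a260095400a8c006120048b00a3c0095500afb0040c0096b0062a009a500a440078800bf60062d0060d008dc0055800802008b9006b000616008e6009100072e00b8600bae0092d0052f00ab700b2400b8500b5500a700070d0052900a2300a27006ea006eb008f500b8700afd00305007d200bdf00a88008df006c4009b1009b20093200b8300bdd0062e0080500a13009bb009bc0098900c0700be60048a005e800a62009c100988009570051f00a2b009c9009b400b410050f0061c007e5009a200b340087000688007bf007c000ae400836006c8006c9005f800c2000acd005110046600b1c008cd008fe007f500890005b4009b6009b7009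5c00bdb00b8a00629005d50086d009e5008b80090e005ea009d2009f5008d300b3300987007aa0048e0093900b6a006bc006330073800b5d005220079e0093d006150089700a4f008ed0090d00b3d00618006d10064b0099400801005f000746009af005ab006c20078200780008780067b004eb00acb00bd90088500a7f004d6005ba00a58008ad00696006970076f00bb600a87004e30037100b6e00b45009ce00597009cf0088700bda00acc0058e007260077b006cb00a91006910087d009b00088f005af00672007890069200a80006780079d0058f004d5005c10048d0054d0034f00ade0074b0065d0064e0080a00758004c3004c4007610075300407003590075f002a00057f00a920041500791005d0009dc00ae80072d00c1e00b0900820005e00094b0093a00a5d00c0100c24006b1009180091f0093b0093c00a1500c4500c480051c006f80096100a9400a1d00a6800bc300b2f006b7008680047c007180073f00ae000bc800aef0061b006d70064700a8e0070b00520008540060f00ae10060c0047e00497006f9009b900b7e00a9c00b17009dd00b9d0072c0053f009b5007a30070f007de00490006fd009bf0055200b140083d00a0c00a0100555007fc008be0075c002ac008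59007f00072500702009ba00a1c0027c009e900af7003cd009c500adc00506009f900c020081800b110052e00c0300c1f003ae0090f00b77005280079700aff00960003b2005120092c007ef007e200a17008dd008de00a4700b520054f0051d008d400aa600a4600bc1006b40091500ab60088400a6a009e2006d3006ae0083500b15005f200720009a300b35005da005530083e005cc0044a0051600517006e70097b008c90030200b68007c7006e80090900a0a00527005130052c006b60099200aae009c7007fa00a45006b90062b0073d00a86006d6005560082600a85003a000a4200aa70050b0084400a95003a900a2d00a6400711007ab0056800a6500476006f600888003c000845004e4007cc00976003940068b006860045b005030050400872009da0087f0067e00777005b8005b90067600a8f0098b004280044900b2d007920087300b6000a7500aa3004e8008560067a00983004d20041f00435007bc0078b00680007cd009990044b0076900881004e7005920069500ac7002c50088b0086700598006a2004c9008960099c0035f00694009e600a6c009060086100350003d1004060057c0091e0085c0034c005720085800358004100085f00862001a80086000809004b7005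6a0057e00348006630075d003490079c004cc00ab30062f006ad008f9003c400323008390082700ae900bb4005e900609009e000a4a00adf00b480061300a2a00a3d0090700b3900ad1007fe005d80076000b99007ae0091c00a50004720094900b9000541005ed00747009f60047800737009950030e0095e0070400623003d600352003530049a00ab400aca007a000709007e30063200619008e100b0e0045000aaa00b9300484008ec00b920031a00aba008e9006350070c007bd00af9003ca009cd0074d00356009050031b00ab2009660031c007450048900971005cd00a2200bab0046500a3f0060300a1400ad40084d003a500817005fe0069900b010090b005df003b4007c6005ec009ed0094c00b1f00ac1005ef0072a009a800965007ad007a100942008ce002fe0094800b5e0045f00a9800b6b00454009530097a00781008c7008c8003af006a8005e4007eb005db00899003b0005dd00602008f10026a0060100b29007b0007230064100b28005090084c0098f004550092e009460045600a96005d30095100460009500053100604009cb0053800ab00047a007be00882008830068a009ca008c500393004290079a00368002cd0044c0044d007720077a004d4006cd005ca009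7e005a8003910059e0069b0077300b46008d600500005ad0096900a770042c00767009ab00364009680059a005a400377002df002e000438008c6004ea0069a003950066f0077e0097d0036e0098400a81002330078f0096700370005c50040300413007900089b0058d006a1004160033600bb300add003f300b420075600a34002af002b00074e002160075b00a740040a0076d00575003ef0065f0021f007540096d00220003e4004cb00580004a80064d00865004050066100893006ab00a02003d30021b00550002a8002830055e0048000561006fc0093500a0400b6200b70006ff007a80092200a0d0070e006ba00869009d8003bb0083400b300053200a32009f70053300af0003bf00846009c30053a009e7003c1005450054200225002b30054800496001470054900722007ff006e500b9100487008f400a1b00507009f1008660050800a310054a00853003ce00a0000485008c400748004860065700852003cf00a6d0084100a5a0092b00b84003b300467006ee0045a0073c006e60045c0046d008cb00a10002f7008d100a6b006d900630008a8009c20045d00978009e3003aa00a5300a4b003ab008420051b00a4d0050c0052400a7b009d70096300469003a40046b00793003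00006f2008cf0030100a5f0045e0074200a9e005d100a510050d00a5900b5c00a63008c20060600ac600b6f0077f00acf0098c00674007840087100ac80042b0089400374001cd002ed0024b0023a004f000421004f30041d0050500876004e1009d40059d00392007490089a00444004e50086c007c800419009a700aa4002bb0086b008890041b004db004d8001d20024f004de004340010a004df0042e005bb00a7d0025b0079600875002c40087700a73004270086a002c600a72004fa0038f009700079b004ca0099d0078c00651003f00085d00b3600b0600564004b3004c10065b0075a006530091d002a40085b00864002a50096a00313001fa004a4004b0006560066a004b10085a002ae00863004a5002090057800590005730075e0058100690006280062400648002a90031f00642001af001ac0064600544001a30049400af600804006d40081300aaf0053000a3800ad2004740094a00aa800475008ea0060700aee00ab80047900ac000adb002b20021a003d900325001aa0048100644001ab00af8003cc007e800a370054e00972005ce0094500b1b0095b0064a0054b007fb0049f0095a0089f007290072f00525007ed00b05001f0007f2007e900515006cc007ea003a2009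db00600003a300ac20050a009ae0084a00519009380046100b250095900b18006a9005f9006c100849001ed00523009d9003ad009e1009ac0051a00a7900b2e005870076500764009d3006e1008b40087e0077000687006cf00595006890097c00771004f6002c0001b900372005a5005c20024c002c9005bc0016900166005c0004da00161004320099b004d7002ec0066b008c1002e800673008d700363009750098d004d00078d00365009930024e001cc0037a002cf0016400422005be0016500981001e10069e00855002eb009740036f00a9d009730074a002e7006a4007500089200783005b30074c002930056b0029200589003e8004b8003160028500b9a003c7003db003fa007550033a0040f0058b0053400752005770096e0034e0096f00667002750027e003c5003eb0027f005710056f007510057b007010096c006540032e004c200659006640065a0018c0044e002240071b000f60071c0071e002230049c0071d0021800562005660021900b710047700926008f200605009ef0053500b69009ff007d500b75007d1007b40061f003d5000f300491007440022200560009250048800b1e00a5b006390083800830006f50063d0038e0082c0031900144001460026d008ff007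f10026e005dc008fb00264007cb006f100458006f000740005d20096200a40008080066600668005cb003ac007c90026b00ad0005fd00aa20080f0066900141003620030d005f600451002fc00677005aa005e5004ce004250049d005a9006a60016e005ac008740036b0037c003860022d00235003690038000236001d100682000c60068300685001d00043a00684001ca004f4004f8001cb009d500258005940079400390008800041a00a8200891005c7005a000376000c30042f006a0001cf004f2007660025c0076e00a76008570066c0029f005c400502002900068c0039a000c2003f6004040076200652004c7004a900338003e2002e6003e60056c004aa00584005740013a0027700328002f0001ff00493004820020c0033d0031000495003210065e0034d00355004b40060a0065c0085e004b60032b0031100332004af0031e0047f004c6003570080b0074f0056e0049e0028900759001f7001f900131003980014a00620007430014b004ac0062200142003dc00625002a700626007e60053900a0900ae5006dd008ac00269008b00026700263001900031d005670014800645004bb00a3a008a300733000f2002c30027b0055c001e0002e5001a700279000f0000f1005ff008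fd0030400904006c30052b002f8007f60046c008500058800763003be001a0001a2005e600464008d5006e90045300708002a2002ba000ee002b800271001840039b002650039700114006d000418005c9005930036d004e0005b7003df003dd004e2002ee001700043100423001c4002d7002bd00433002cb002be002d30043f002c8004200010d005a10069f0010e0043c005a3001070037d005a60024a005a70069c002e90089800982006a5004fe003b800154002c7004f90010b005bf0044000675005690076800212002b600211004460036c0020600109002f10008b003e50040e002ad004a0003f5003bc003ed002950028e0058a003f10057600329004a100402002550032d006500019600198000e900284001fd004ae00543003d4001940019900280003c3003d7003e70040b0057d0058200583001f300286001fe0028c0019a0054600563004090064f0041200414003de003f40027a0018a0018b0056500824001ae008250057a00499001a40054700342008f8007b8007d9001ec002f4001eb002f6001ea001e80029b003d20049b0057900335007a70021d00232000b100230001f6000b200176001430018700a11006c700457005f70052d000b4004be00257002150030b001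3f00140006ce0046a0039f0039d0047000213002290012d001e600396000d700501004cf006a7000a0004260064c004ee003cb00326001220025a001780009500382002410023f001bc0043e004d900375001570015a002370036700378001bd0023d0015b004dc004f5004f70077c001680077d004fc0043700162004dd002dc0079900447005c6003080010600306002470037300439004fb00150004c8004000035c0019e0022700074002c1000c1001f40020b0013b004a7004a600337004b9004ba001930030900330001fb00333003fb004c5003e1004bf004c000345004b5002080013800139003ec003f7002820055f006210020d0020500320003da004a2006650027200274001880019d002b10020400643003c8004a30035e0035b0035d000ea001f5000b50071a003f9003c20055d003c600134006c0003a60039e00183002610026200324003d8003ee0028f003c9001a5001b500082006ef007c1003a80051000303000f500083000ef001dc0019f0052a002ff002f3003b600260002e1001e400121005c8004ff00117000d80058c003460008c00317001e2000cb002ea0025f000cc001b3001c300101002d1001ba002d400387003810038300239004f1005a2001c5001c1002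ca0037b0015e0024d001c0005bd001b60008f006810038500366004ef0036a0006a0038c00417001600026f000bf002ce00379001b8000f8001e700344002b40005400221004ad00298002760018d0028d0056d005850020100203001360020f0033b0028b004ab002ab0057000448003fe004010013200195000ed00492004bc002a6002970048300186003390030c001f1001f20013e0029c0044f0031400347002b5000ad00649004bd003e30047d002810018f000e6001e9002f9002f2004980027d003340031500518002fd002fb003b100060000b3000b0003a7002680005b001260038a0005c001de0025d004430046f0016f000a9002560029d00064001280012000098001d8001e300113002ef001ce0043d002440022e001510023e001c7002d50023c0043b00100000be00430004410024900243004240008e0010400248002310014e005c300442001b20041e00238000940004c0009f0036000105004360011c0014f0017d00135002940033f0032f0034000312000ec003f20028800191001920019c00341003540021c003e00038d000e500331005860047100351001ad001ef0012e00137002700033e001a9003990029e00343004730032a00322000e4001330018200318001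f8005e3003a1002660008400045002fa001d6002e300411003ff000420011f0006e0044500259000de000c0003b50007d000dc001db000e0001110025000179000ce000d6000500025e00251000fc00240002d9002d0002da002bf0004f0015d002db00159000ba002d2004fd0022a002de00167000c500065002d80009d001b4002dd0022c0014c002cc00049000690007300177000d1003ea003fc0034b003e90020e0013d000ae0018900200003f80020a002aa0032700210003ba003b7002260008100185000e80021e00145003fd0030f003b90012f000aa0027800452002f50005f000df000c900075001800011e0007c0017e0038b002340035a00175000970017b00118002530012a000300008a00127000a200171001290016b000a70006b0011d001720017c002e2000fb0037f00388001560037e001c60006d0003800384000d2000ff001c8002b9001b0001d3000280008d000bb000710038900174001b100066000340011b0029a00408002a100299000ac000eb001300029100197002960021700307000af0005e001a6003bd00273000e3001fc0039c00125001100012b001d7000e10017a0003d0005a002c2001b7001df000e20007b0007a002e4002bc0004300021000db000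92000dd001d9001e5001da000910011200153000b700246001bf000fd00245000370004e000f90009900242000d500228000390001b00087001dd00119000480033c0028a0034a000e70007f00207002a3001a1000800026c0030a0018e00181002520009e00163000a800124000550002a0022f000a5000a30016c0001900058003610022b0002f0012c00254000bd0016a000c8000670016d00063000fa002d60011a001550004d00026000b6000fe0009c00027000a4001730032c00202000ab0014900214001ee00024000d4001c2000cf0001f001080017f000d90003c001d50002300076001c900010001bb002b7000cd0010300088001d4000860009000089000470014d000d00003600041000b9000770019b00287000f400032001160002c00158000a600014000d3001230023b00018000ca0015f00152001150004b000bc000b800061000590006200057000f70002e000160013c00012000da0001e00053000790009a0010c0010f001be000930007e00068000350007800085000400003f000070001a0007200070000a10003b0001c0015c000c4000c700033000310004a000560000a0000b0009b00052000510000900096001020004400046000220000f0003e0006f0000d0000e000200006c0005d00004000050002b000130002d00025000290000800006000110003a000020001700015000030001d0000c0000100000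

noncomputable def lvP1_1 : ℕ := nat_lit 0x95000aa700af000a9500b3000a5f00a5000b9300a6500bb400a5900a5a00a3d009f60084000a4f00b9200841009d8009c200b7100c0a00c1a00b8a00a3c00a5b00be6009c100b6b00b7500bee009f500b5e009ff00b860095900af90095a00b2800b1700af700b1b00bca00adb00b2e00aae00b9f00c4800aee00c030084800ad200c1d009e2008ce007f6008500093500aaf009440094f00af8009450093400adc0095b00b5200b0a00c2300c2400b3500b3600c3b00b1800ac000b1200a940095800b2d008e900c370098f00995007f7007fb00849009820098c00c2900aa600ac200ae500ad600c4900c4a00c500091800c0500ab700b1400add0092700c3600abf00ab600b3d0092b00c3a009810099d00b3b00aed008e800af60093b00b4400a9d00b1e009e3008f800962008f000bd4008c10087e0089200a1b00a6b00a6300a0000a3f00b9100a6c00a6d00a8c009e500b6a00a6400c2f00b9b00a2f00b9a0083100c2e00b9000b6f00b6e0083900c52007df00c1600c17009bb0099f00a7100b7000c2800bd800c2c00a9c00888009610073f0066900c4700c4200ba5009650090b009d700a1c006f500a1100b7b00a4000b6900a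3000a4a00a5800a62009e600bdd009ee00a4400a010081d00be000ae1004be0072f00bb600bb700c4400a2200c550070e0070b0061b0072900a4500b5c00b5b00a2600c53008c000a8500ac6008fc0090c0090600603008f100bcf00a7700a8200a7b0082100c5100b68009ed00b9900a2a00b89007f300a1d0048600a9a00c5400b82004900063d005cd0088400b7700c06006d3008b000489007c500b7400c0e00a8100a7d00a920063e00bd30078500c4d006d6008ac005d200941009fe00bb2009ca00a7600a360090500bb300a3a007e500a0d00a0900a08009770097a00c1900992009ab009d5007390099c006910088300b0e00bf300666008dd00ac100b2f00b56008a300b2400b1100b420073400b5500ada00588007d1008d8008b50093e00c4600632008380050c0078800ae600c4000c41006c0006bc00aef00be80051b009070094b00bcc00b0300bbf006e20047a00c25008ca0053900c4f00b43005190081f00b0c007d50081200c3500a55007f900c3900ad00071100a79009d300a7e009aa0084f0095100a04005870052d00c5600c1b00c1c006ea00acf007f000bfd008fb00b050091f00bfc0070400541008010055c00b1500b2500b1c0092f00c200062d008300054e009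b400ae700afe00ba6007400085200a03009ea003ce008d300c0400c3800827008320073a0086600668007fe0054a0098800b2900c3c009d2009c900a8e006f000afd005550073300458005cb00a13008cd0087d008930071800c30005c600770005ce009c700aa300c1400522006e10054b009a200ae400bfe00a1800bb50070900bc40054d00908007dc00b530071900748006fd00a88006ab00558007bb00c45009b2009ef0070f009df00552007ad007e100c4b005ac0078300456009b900ac700c11005d7004d00082000c2a009b7009e7006d400a61006b4007aa0083c00b0d008570087800ac80078c0082c00b070092400b0600a7200b64008f700887007b4007b000ad100bdb00427006770086f0089000ab40059d009d4005e500aa40050d00b800068c0041a007840065e005970059300c3e0090400bd5009460060700764005f6007da009b10083a00bac00a37007a3007a7005d1008e500b7600bb0005da00c0d0084a00aa80047900605005d30088d009b600c270092c00966005ed00991005d50072c008a600c33005e800a19005ec0073b00bf800bdc007e6007e0007b80091a00bdf007ae00b0900460006f300c0c007360092100c26003c100c34005560053e0092d00bc5006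6400ace0063000613009dd0093100b88007a800b20008e00073700ab000a39009000092600b3c00a1f00901006f6009a40099400bd000a0a0083b00804006180098700aa200aa1007e900c0900842006f1008ed00adf00304005f900c4e009e0006390081000c43007c1003cf0094c00a1000c3f009a50063f0093f0064a0080f0060f0048800aac00b5d00ba90092800972007fc00abe0062f00725008b700bab00c0800af30061600ad70048b00ae0006e400c2d009380093a0080200b4f0062800765008bc00c15005ef007d9005100073c00ac500bad0081e0085300525007930051200635005e4009e10042e005b700508008b80098600ba100880008820070200bef006ad006a5008df00c3d007ba009cb007ff00b370062a005f2008e400be10081400b0b00ad8008eb008ec0080500822009d0008c3008c40081a008de00a06008f3008f4008750089b0052000aec0050f006890093600c4c006de005ad00b210091b0092e007d2008d900b2b009520095300a730058d00768004ee0097c007770097300bea00971007220089f004e0007bc00a1200bff006b900993004e4005ca0078b00b49008ea008e3008b40097e00be9006780077f0036f004d70099b00ba0006970067a004ff007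c8006d000c00005f0009a70079b004e5004d2004cf0053c006f800590004b1004b300656004a50091d0057b0068d0068700674006fc006dd00c32005e3004610083d007ef00c130072000a51008c200538005330051a009fb008e200c220092000925006d100b6d006b2006b0009a100c1e00b8e006e30084c005530072a006d700a8d006b60053a009a600bd6006da00a2300a9f009ad009ae008a900843008440084b008b10051d00bfb0095f0064000a2c00b50008f200bb8009f200a32006b70090a007ec0060400a5600b1d00a1600a380048e0047c00a2400c2b0063a00bbc00a41008450075d005800072d00b8700bba009f30084600b7300a57007dd00b0200b1f00a1500b040090e007f4008ba008a400a28006e900b3e007c20093c0073500763006ff003b100a8600c0100b8d00ba30046d008c8003b300a050046900963007450031c00a4600bfa008fd0061900b5a0048d006c3009b800c3100a9e008a50070c00b7c0055000708009bd00c020090f00a2700b66009c4009c50071200ba4008f6007e7007e80091500a4b00ac3009cc009cd004e700690003a3007e2008b600ab8005f700960005dc006d9008c900c1f005fa00930007c7006cd006ce00680006a40060d00b67005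d0004ea009b300c180080c0098d00b72009f0009f100912008bb00b6c009f8009f90050600b8b00b8c00a02003ca00ac900aca0088c003cc00afa00afb009dc005f30097d00b5900a3300a42003c000bb900bbd00a290053200bc700bc8009c60066e005b3006c700370008a70076900974005c40064c004ca00426008c60087400bda00a2b00a310076e009d1005a9007a00087f00be200891007db006a7006a8007740042900792005050087600bd9009f700b4b009ce0089600598005b90059a004430078600794005c7008d70097500b60008bd005b0005aa0059500636008360076d006150064f0057d0057100755007620075300756003f0005890075c0057e0057300809007590041900781004d4008290061100609009c3003ab0095500b97006ef006ba00b2c0051f005150094000ba80062b0079e007ab00bf4005ea006060092a00bde007ce0081100b2a00a9700a98007420047700a21008d2007d60063300b5f0097f009780047600b6100b62009890047200b3100b320095c00a6f00741007b1003220032400ba700abc0094a0084e00b2200aea0094900bf700b4100ae900a0f007fa006ed00bb100bc100b080055900b1900abb0095e0045500c1200b330095d003e600862007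520045f00bf900b34008ee0055b00ad9009130089e00baf0061d0073200a1a0080d00535007b900b26009d900929003ad008c700a4d009a00052b0046c00808007eb00baa0052e00c0b006c9005270052a0053f00be7003d1008da00bd100715007ea00aeb00ab100ab200817009ac00ae200ab900aba0031a00beb00bec009540048700a0b00a0c008f90048500b7d00b7e00996007780079c0046700a070045a005af007c4006e6009bc00acd009da009db0026d008d4008d5006a9007050077b00abd00aa900aaa0031b00bf500bf600ae80048400bf000bf100ab3006bf00c070072e006dc00a8b007a5008b300b850063b0030e00be300be400a990081900b27006db0071700bed008aa0086d0074a0058f006a1002c6009b0007f10059b00aa00042b005df00787008550066f0067500acc004e20058c0077a00b57008710091900a870097b00984005c8004c900898006cf00897005cc0067b002cc002ce0087a0069b00a7f009830079000b7f00a910099e006920069c004fe00504008890041b0065c00b46009cf00ac400775003630068a0041d0050a00509003a90040e0085e007300085a0056b0074c0080b0065f00582003e10086100a7400665004ba006570085d004b5004a8004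cb003e50066100701004c700865004ce005b40060c007260089c006fa0047f003da005d800bcb004630083300af4007b5005fe00a6000a5200a53008ad0072300a4900a2500a2d003bf00bc000bc300a47005300090d008510081c00ad5006df0053100b4c00b480087b0080700b51006be0061e00bcd007d3009640049800495004990049b00282009be0083400b9800a6a009eb00bc200a6900a5d007a600bd7008180063800903007060082b00c2100716003a000b9600bbe00a6e0071f00bce00806004a600a340063c00b8f008150064100a43009a3008230083e00a35007a10047500b0f00a48005dd00466004640026e0060000a9600a0e008fe008ff003a2007c3007c9005fd0061c009fc009e8009e90050700b9c00b9d009fa003cd00b9400b9500a66005f500bc90082e007b300aff0055a007d800b54008a10039500502002f8006990052800879009de008d0008d10030300b8300b84008f5003b000899005160027c00b7800b7900a54008af00bd200637007b700b9e00837007bd00a4c007de009a9009bf008470091100bc6007d700746009e40064b009c000518006cb002eb004460036e004cc009670076b0066c004200037b004d500b6500372006930067e006eb00990008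8a0088b00771007660098b00870008770056900b4a00b4e009af0041300799006a600500008d6005030079800436004330043700439002390077900a830079100b4d00999008950078000b580086e0044d0078d00365005c9004e8008720096f00b810067c009690098500418004eb00575004540045d004b00045e00292004a00074d0096a0064d0096c00659003f600864003f1005830049f004a10096e0060a0057600970004a4005810040d0058b003480032d0086300650002e8008a000537001fe005660082d00560003c3005430028b00563006bd0095600947009480047400b3800b3900aab0047800b1a00b23009320070700be5008ae0071400a20005f400747008ef0091700a84007b60091c008bf0056800ab5003d2003d4005670071e003d700298003db0048300ae300957008db0082f00af500713008a200b4000910008a800b1600738009230093d009370082800c10009160082600b10003f20073d009330054f005cf0048c006ae006f2006c4006c100524003b4006ec0045700b0000b0100a1400517008cf003010045000af100af200ade007d400bf20089d006e000c0f00727006e50094e008b90073e008e600a9b003a50044b006ca0018700ad300ad40084d006e800a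fc006c50046a006c8007d000b3a00731009ba00943008be00a93006b300462005d60085400aad0053b006f7007cd0045c00698003930025c00425002c40067200416001bd004f80086a004f200367004d90023c004f50059e0088e0078e0078f0038f00a8900a8a008c5004c800a7a00a80009760087300b630068e004440089a0044c00447006960037300375004f90068500378002440037c004240098a00694005b60099a009680068600a900076c0088100a78005010042c003920077200a7c0056d0086c0087c0066d00258004b700350004c3003aa0050b0019c0021f0040400336003370056a00652008580074f003380075e004a700321003100056e004b40034e0065b004030056c0075a004aa00216004a9003e40022000406004c50075000364007a4003c50049200325005860032f00493006420047d00299006440027f003bb00a6700a6800a5c0091400b7a007b20080e00bbb007cf00813009f400647007e40053d00868009c800536006120061f006220031e00330006260055f003410062500728009fd0081b0094200a3b009a800a2e00629003d0006ac0093900a3e0048a004b60062e00631006af0055700909007f800300007be003af0026400902007f2007c000bae005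2f005e600513008ab00ba20082a008e100a5e007e30083f005e90050e0051e001f0007ca007cb0052900a70007bf007ed008cc0026b008dc00a4e005d4005e7007ac00521006bb0061400617007fd005ba007950079600415002ed0068f0025b0036d0015d002cb002bd005920036900430002cf004fd002d000431005bc0041e00245005be00236002e70099700998008940067f00acb007820077300b47005b10079d008860038c005b800390005a0005a3002c8002d1005a7004f1002db005a6004ed0088f0086b0069a00b450077e00979004e3002ec0044a0098000749006530058e0076a002bb0040c003e8002a50085f00860004a200584002a2002a3002fe001fd0020e003c2002ac002ad004c100751003ef002a0003f3005850096d0057400577003eb0034200225003d800218004050040b00651002b0002af005700057800289002930034c0035600534003e30044800496003110071a00320001f40082400621003f80055d003fd0020f004800081600b3f008b20086900aa500922008e7006f90047b0061a0060b0060e0070d0020b003fc0054400643003e900825001fb0083500b13006aa0054c007240048f007a200551005540018f0072b0019b002f4001e000a1e005fb003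ac005e0002f7005e200a1700601008cb006f4003a4009b50094d0051c006b1006d5005d9005f1005fc00797005ff009d60046500302006b5006b8006d2003a10012f0044f00710002030049d0069d0069e00776007cc0078900215002c50035f0017a005b2001e1001bc001c60036600380002dc001d200379001ca00434002be00681002ca001b30077c005a200384004ef00389001c7004210059f00a8f0068b005c50098e006a20078a00596002e900449001c300388004da005bd0037e0077d001ba005bb00a75005a800428005ae00394002320066b008560032b006700032c0017f00757004b8003580096b0091e003390065d0032e000f50085c0075f0064e0040f006710034b00213002ba0017e00214001350014a002a6004bb00281001420029b00410003550032900667001a80034f0058a0065a00274003530029c004ac0014b00148004c20033a004070035900654001fc00409002a4001a00038e0032a0038d003d5004bc0029400547002750033b0071d0048200340006490031200760009ec00608006100080000540002e600703002720028a004bd0027e004ad007440033c00280006270079f0062c003a8000e700354006340013d001330036c0013c0026100176006e7006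02007ee001ed006c6006cc007f5005110045b005eb005ee007a90026c001e90027b006ee005e1005230052600186007af002f60027a002f5000e3003990041200192003dd00397002ef0067d0079a006a3005b5006950042a00591004730019f0023300125001e5000fc0010d0024900440002380010700247002e0002480043c0010e0010b003760044100240004dd0022d002d50068400423002da005c3002bf004fa0088500673004d100679003910035e00442002350043d006a0002d600237004e100688004e6004520009b001b5007670028800286002b900287001230085b00758003e700700003f4001a20071b0071c0019a0076100867004b2003f50075b00149000b30074b0074e0020100257002a100229001900031d001a3001ab001ad00194003fa000b50021a004b9002090040a002ae0066a0030f001f2002a7003ec0019d002a9001ac004a30034900084003ee0018e0034d004000013f002e50054600276007430018d003f70029500564003ea003c6006fb006fe0070a004710018900255004c0001f1002020057a001aa003ed003f900134007210045100208002fb000ab002aa002c3000eb002c1008fa003b20026a007c6005db005de00263006d8001ef0044e001ee001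82001f6003ae005f8003160012e0031800262001f50035b003ff001d40038b005c1004ec004d30025200371004e9004cd00408003b9000d400180001100025f00682006830015b00154002c700161001650016700157003860008f001cc0024a003810015e0024c00166004dc0022e0069f001510038300241004f60037f0036a005940076f00599003bd000da002b5004fc001640038200385000d3005ab0039e001030039c0006f00361002000022800623005490028d006620066300572003570080a00217001400056500646003d30020d0057c0057f000af0039f000f4008590041700191001dc0020400313000f6000f3002240020c000ed00352001ae004c6004c4000ef004140027300351002210033200219000b4003e2001a70005f00334004bf00344006450029a001fa0033d004ab004ae001f300803003bc00328003b7001300040100223004af00290000e6002910039b00195002300046b0046e000ac00459006c2003cb001e8003c9001850039800468003c8002770027800260002510016b001e20041c0059c002e3001790042d002fd001dd0034a000970011e000a80016a00170005a4004df0023e004f7005c000374001c5001c0002c0000c6000c3001d1001c4000be002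df00168002de001ce002d3001cb00055005bf00246001b9002d70043b0043e00124006760030c001bf0030a000a1001d00043f001530009a0015c002f2000bc002b70013b006240049c004970047e002260065500658001370030d001a100648005480049100494000ec00660002fc00080002f300362003600013e0021b0014700297003fb002b2001410056f0029f000b00035d002960028c0021d000830021e00143003fe0033300343000e4002a800579003df00188003e00030900284002b30033500206002070052c001980007f00514003190031700315001f7003140022a002f0000cc0025e001d600254004d6003ba000d8001e3000b80026600173000cb000cd001d7000df00181000750006b00101005a50043a004350041f001d3005c2004de0042f004320007200104001cd0010a00243003870024e0007c002420023d000c50003c002d4002dd000700024b004fb0022c000d90023b00270001550024f001bb000fa001020056200323001990056100542005450019300754003b8000e8002710031f0055e003a6000ae003a700265002b80028e001a400060003310033e00346000ee00347002110033f002ab001a5001a6003c7001f9000aa002220049e003260032700144002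8f003050020a001390039a002790018a000a9001290007800126001b00011100120000dd0016f002e20014d0030700122000fb0008500112001180038a001df00445000920009e0011600095004f4002cd0015a004f3004d8004db000a6002c9004f000231000520023f001620002c002d2002d8001600005a002d90010c0008d0036b000c800051001cf002bc001b1001be0006600152003d9003dc00081003c4006200046f001360047000306003d600453002f9002fa002050014600045002b1004020029d0029e001960021c001af0027d0018b00212003de000f00013200197002f100098000e00011d00117001da0011a001e6000e2000a400056002e40025d001d90017c0012800113001b2000f70008e000b70011f0025a0005c0005000396001d5000c900171000e10003d0037a0037d0003e00368005a10035c0007900377002c2001b4001c10006d0001e0024d001c90010500089000c4001690010f00090000c00022b000480049a002690005e00481003be003b5003b6002670039d00210001a9000f1002850034500138000b2001f80019e0018c000e5000d7000de001720012c00178000ce00174000d0000430007700259002ee0016d000bd0007d00057001060014c00065000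7b0016e0006e0025000253000530012b000940002a00438001590002b0042200411002b4001770022f001c8000960004e000fe0015f000620004d000c70008a00283002ff001eb003080030b001ea000ea00145001ff000f20008200131001de000a50011500059000a0000860009f001190002f002ea001b6000a70015600088000230003f000bf001d8001210001f002e1001b80003b000cf000ca000690023a001c2000ff002560035a0011b000680006c000b90006a0003600184002680026f0013a000ad000b10003a0017500127000d6000d5000400003700061000730012a002b60014e00031000fd00030000180017b001090001400114002340014f0003900093000f900158001db000910004a0004c001ec0012d000e900013001e4001e7000db0004b0009c0004900026000a3002270004100022000210016c00163000c10008c001b70004f0002700150000b6000670001c001830001d000d20017d00063000350003400019000dc000760002e00008000bb00108000c20006400038000f8000290005d000280011c00099000470000e0005b00010000a20000c00100000870008b0000d0007e000740001b000d1000150007a00042000030002d000ba000320009d00054000060004600005000580000f0004400009000710001a0001600017000020002400025000200000b000330000a000110001200004000070000100000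

noncomputable def lvP1_2 : ℕ := nat_lit 0x47b0048a006140062700608003d0006fb0051c0053d00521006df0073100aad0053b00aa5007e4006b50089d00610006ac00536006d8006b8006af008470055a0072100b1000551009160055400b13006aa0071300703007b2005d6007a50048c00a4e005d400637008030080d005f40092300617007af0081b0060e008e7006f9006d2008da0054c005e1008ae008bf0060b008ef009ec004620063b00a5e005eb0082a0048f005d9005f5005f1007e10083c00634007d70080600b6c009e400b66008f6009a10079f0054f006f70094e0072700305004d6004e90072b00937005cf0061d007a2007d8005ee007b300c40007a60095f0073e0064000c220082b00bb800a3e00a2c00b030063800371004d30070d00bba00a3b0081f00bbf0080e005b5008370062900818007cf00a2e007fd005910042d0041c005e9008b7008b20050e009a90051e008a6008a10054000a35006e40091a006fe00b2b009430073600bdc00917009210070600a3900a71008b300bfa007140071000c0e00c2800beb0093100b7d0070700a0b009c000612009fc009f40031c007a9007d0007ac009b8006ca00514005e70082e003ae0062c006be00716009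d0009c800a0600ae20073b0055700b2a0094d0092a00bf80055b0031a00489005d2006bf006bb006e000bb200732007ff007fc00616005d1008e4006db00ad800bb00089e00a430062e0081500a600083f00833008cc003b2006310059f0059c005b600c110082800a1f00823006f300c27008a200485004870083100454006dc00bf7007ae004600083a0045e0084e00bb10062b006060099f0045d00b2200a0f004280042a0059600c250081900a8900be30063000605009b60047800b2000b1a00698004ec00a93006b3009360072e00b160092d0091000b1900886004ed0091100a830066d004cd00c34004d1009970088a006b10070a0054e00afe009bd007f90061a0050c00a9f00a9b009a600bcc0061e00b1d003ce0053800bfe00c3800be800807006d400519008e20053100a5600b4c009640053a005530081200b8b008b5003cc00b4300afa00bc000ac900c3f0081000b78005300092b0081c00b94008d80090f009c40053900915009cc003bf00712007e7004680053f008aa0091300abd00ab500aeb009e90027c003cf002f8008ab006d5008af009de005e20094000724004590046500b9700728006fd0070f0070c0051b007bb007b600ac300c410063c006d10051a0094b003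a900a4900b73009bf009c5009ae00506003cd0093b0050a007b700b0400aca00afb00b950084c0054b007090073400509007dc00b0200b260093300929006c50046e006ba003ab006c8001ed00956007ee009790086e00c4d0071f002e70025b0063e003a00067f00b9600720005330093e0050b0090a00bc2007bd007e300b0d0083e00944003ca00726009f200bc300a2d00b8e006410094f006b70073000a160090e0060400bd6009a800a94007230089c007ec002ec00390007df003c0004e300bb9007e50067e005f300a3300b1f00a3800b0c0064700aae0072a008ad00a25002eb00990005ba0076c0045600b5900a4c008200068e0076a00bbc009850047a0048e00a240068f00696001e10078a0098a0030e006720087a002e80058e006e200795002e90059e0078e004060077b0042b008000052f00816008f40081d004880060700c0600ba900c2c0071700953005ed005d3009b10047200b5f00b31006330074100aba006f600a2a00a22007da0047600b8200b6100b620097800c0c00568009f5007a8007d60097f009e500a97009c1007b100a6f00bf00073700b340047900814008eb00c26006e5009bb0081a008f3007ce00805008c30091f00bf500bd1009240070500aa9004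0a0092200bab00a3f004770081700ab900b8800b8500a230062f0092600c0700a2b006280074700c0f0081e0048b00b3e00a2800af10052900af20060d00619009b3007d300b72007c4008dc00ab2007cb004500031b0046700264007d4009020046100c130082f0026b008a4002fe0051100ae300bf100bec00a0c00a98005cd00802008390045f008bc00bf900a210074200bde0093d00a4a007ab00836008e0008e6008b900c33008a800a3d004840082900901008c400b7e00c0d0073d00840004860063600900007a100475005160026a00a48005de00b3900948009d60046b007c7005d8005e0005fb0042c0041b007390045500a7800c12004fa0069a00c4c009390073f0038f0055900abb00b410094900a190073800a4f0079e0082d00aea00bb7008be00a1a008320061100c0a00b2300ad90083b0061500c1a007fa00b40009a000609004e10067300bc500746008f000392006de0091b00bcf00acb00bc6006e30050f00b8a00bc100a20009b7005ea007960059b0025c00365007870088e005b10067000a42005200050d005030036400b21005ae005560077500792005b40087c005b20084500bbe003c1002c5007760098e005bb005b80059200779008540099a00769004cc007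49002580069d00c2b003930059400a8f006800037200b1700b110034c001a800348003500034f0074b004c3009d1008c5004ea00934005350091400301007b9003bb006f400a6700c4b007e800a32009270092f008dd0053200c3c00bc700bc80084400b500086800aa6006d7008a9008430084b00a570051d00c4500c0200c390064b008e800918006da009ad00c3b00b4800bcd008e3006b600ad6008d9006b2008b600c3700ab6009e800bbb008b100912009f80084600b54009280054d00c3500bc9009300055200ad500b9e00919006ab00c3100a360080c009f000b3b00b3a00811005d0005720040700c030081300aff0092c0055000ace009dc0072c00ba000a020072200bcb00a660055500ba100bd00061c0018700b9c00ad300b7900b9d0050800702003a3008df006c6009b5009ba00ad4006cc0052500507003b4006ec00a53009a4003aa00b980052300af400835009aa003a4007a4009be009f900b8c00c1e009a3009350054a0072d009f300c240090d00c210093a006f800c48007de00bd70093c006fc00c4a009cd00b8f007350053c004e5004d0007c20030000a6a00834007bf0052c005e4006ae0045b0052600acd00a68008fa006c9003af00a750096800c2a00826008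48004e80063a00a4100c1b005c500c100063f0047c00b0a00a69009030093f006fa00b2500b0b007f40070b00b1800b8d007dd007110095900ba300a5d006ff00c29005a800b27007e0005d700a3a00b3700a99005da0095a00ad700851006d6006780041a003ad007850041900a8a0069e0086b00370004d50044c002bb00693004e600be40092e0078200856005ca005f00044a006790067c00b33004d40069700a870069b00a7c004eb002330067d0095e007890036e00415008850088f0066f0041600a91007910058d0066b002ed007cc0044b00acc008940042e00c1700b860064e00a2f002200021f002af004c400405007610075f002a0004090065d006550040c00671002a5006a4007bc0098600c2f00a3c00a440094a008ba0047400b380060100ba700760008c000513006bd0094700be100c2d00bdf0091c009ed00a26007d20095200bdd00b3200a84009b2005e8005ec0084100932005ef00bee00c1500bed007db005d500a5a00bef0095c007b000a6d009df008d2007aa00be7009bc00be6002190022400ab100719003d100be500a8b00a270062a00a8d009960062d00b2c009540063500aec00ab3007a000bd400bd200920006ad008f800a6100a54006b0003e7004b2002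b000b6f00b87008f900632009e7008ca00ae6009f700ab400b07009c300955008fc0071800c1400ba2005ff0071500528008d000aaa00bf6008d100458005ce002f7005fc00b84008e100a170046d0026e00ba80094200a9c008a000abc00ba5005db009fd008a50053700bb4008ec00baf008270061300a5900bb500b08007fe00a6300c0900ae90080400b5c00c0b008ee0061800b46009a700b0f00602008cd005ad006c4008c900957006c20051700302005f700a0e006e70046900c4700b4500bce0073a0053e00aa200ba400a6e0054100a4000a18006ed0080100a4b009080095800a4d008ed009610084200adf00aa100b1e00bc400a29006bc00925009a200ada00852008d300aed00b4e0042700598009750069100363006f200b800096900887005dd0068d0088b009980068b0076700505002c600394005990087f00bbd0068800504004490041d0076e008720059d00b4b005b90098b001cb001d10086d0098000695002c40035f00881006a3004c90099900694004ca007940089600878003580079a00395006cb00879005c4008c60087d00ac000aee00adb004a20085f00b9f00860002ae0040d004100057c0040300293006580066300349004c2006620034e004c6004a7004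c5003e80070000216005840075b005b700b64007f700b5600bca00b14001a3002a700bfb00869009c9007b500a5200bfd007f500b3f007ba0046300b5200b5300b51008de006b40094500b4f0087b006d30095b00a47006d90074500a46009d200b1b00b67009c6006b900971009c700a0800966007c5009fe00b5a0014b001ac0049400624002b2008220048d00bf400ade00490009910088c0072500aa80088d009ee00ab80083d00a13008ea009b900a1200a0900b3c00ae8007a3007e60094100b76003390091e00ab0009dd00b9b008ac00c16008b400c19006dd00c3200c1800821007ca00bf200a70005fe0045a00603009db009f1007c6003a2001f0008d500b01007f20030400c1d00af5009a50060c0085000af3008db0060f00b2e00b0900a150070e0094600a1d00b5b0095100a0400a7e00a9600a050084f005aa00593008c7003ac00bad00b6000a1e007c30046600510007c0005f8003b00052b007eb009e000a7900c080095d0061b009ac00ae000a5800938007f300a620076500c540076300c560058700c1c00a3700a9a00b6e007a700b890072f00c5500464004ce00883004cf00898009770098400a800036f001610024a00c000086c0078b005b000bff0090900ac4007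86005970077a0078f005ab0044d00391004e0007800076f005000067500772004d7008550097e0099200a7f0010e0016600432005a50024e0076b00b580066e0077e005c100413005c90079d007740069c0079000777004ff00be9005af0080a007cd007780050200aa0004ee00bea003f200b6900b750056d009ff00404004a900754007570035900758002ac004a300867002090056c00338003570057f002a4004b90085b004aa0058a008640065000863004b80085c0032e0089300c3e0090c000f30056200a8c0056100218000f600204001ae00b7b00b7a008bb0051f006f500b7c00a5c0052200a5b00a8800989007ad008660098800abf008530094c00ac50063900c4300a31008b8008f70082c00c510083800c3a002a9002a80071c0055e002250020d00545001a400b6d009fa00558008c2009fb00ab7009ef0078800ae7007d100c46007d900bd5007b400bd3008f200a5500b24006c000b44004c1007d500c4f00af600ad10099400c3d003a5009600084d0051500c1f0052e006ce008cb006ee0026d007c9008ff006ea0096200ba6009eb0070400740009ea00b1c00a510090700b120066600c500066900c420080800c4e009d700687007be006f000b00007f80052700457006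e8008d4003b100c0100a9e00a0300b2d0070800c040066800c4900b290098700965008a300c0500b4200b3600418006c1007810098c00784006a70079900be20086f000c3004f400877004f3001ca000c6001c00016800bda00b8100692004d200a7200b7f008bd0067a004260068600676004440042500873008970076600876008900064c00bdb0024c0024b00683004f0001d2001c5004db0016200a900058f008890099e004e400501006a20067b0044700b630044300bd9009d4004e7008a7003f40044600b650079c0078c0057000a340057e009d300ae5002970096f00701004a0002ad005760056f0066000356003290096b0033a002980028b003f1002920096e005850096c003f50074e003550097000582005740096d0086500289003e60099d00bf30021b00223003d9001480013e00646006480014a0028c0062000147007fb00abe00aab005f20064a00aac00b68009720088400b740072900c530073300bfc007f00089f00c3000bb300b9a003d3003c400352002a6006230014200226003dc009cb008e500b77005f600bac008b000c2e00a6400a8e00a0d007b800bd800b900058900b7000b71009d800888007970045c006ef0073c007ef009e100bae003b3005e6007ed005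fa0052a00baa0084a00ae100a30004be00c440076400c5200a6b009e200a86007f6008c80052400600008fe006cd0030300b83007e90080f00bb600b5d00a4500a5f00a85009e300a6c00b9200b910068a008820067400a9d0087e0098d00993005c800243002440023c00b57001cd001d00037a0010b00104005c0005c20010d0023d005a10010a0097300b4d009cf0059a00967009ce006a80036d00773007980056900b4a0058c00b490097c0037400368002df00249005a400107001d30037d0078d0089500429005c7009af0038c00b47008d60099b008c1009b000690004b5006a10089b008920075a007520091d004b60066a00759004a50044e001f700ac600340003510019c0085e0065c0080b006520033700657003e1003e2008590040b003f60032f0033000499002990049b00a7400665004ba0085a008580040f0040e0085d0074f0075e0075d0032d002080013a00323001af0031f001aa0028e004910021a0019d0071b001ab0033e0049a00748009b400ae40055c00c200083000c36008e9009060090500b0600b0e00af8003310019a0047e000b5001ad0049c00199006e100b5500b2f00b3d009500099500ad200aef00af00018900aaf000af004170026900699006eb005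e300afd00ad0008cf00a14005120046a00afc009630058800c2300b3500ac100ac2008ce0098f006f1005f90046c009da006e6008fb00b1500a9500b28003a7001a00006000af700347003460077f0059500a7300770006a50039a00a8200a76001210088000891002da002de0015d002d0002d1004370024500439002cd00169002c9001640023f0042f001cc0015e0068200165002d8004380086a00983005cc0074a0097b004c800a7a008710087400a7d002d20015b0041f0008f001670043a0015a004fe00976006cf0089a007c8009d5001ec005b300783003280079b001960008c005770060a0065f00583007510064d006530065e001e900750006540065a00664003e40027a003980018c002600018a0013b0055d003240020f003e900560003f80074d0057d003f0004a10096a007560034d004a6003e000566003220020e005670071e007620064f007530076d004c7000e700659006610036c0019800195000e900283002220029600548003330033200542003530029c00549002050063d00be0009e600a0100a0000a1c0014600a1b004000021e001fb003ea0028d005650020c0020b00b9900a5000a65002fc0020100081009f600137001300046f0008000360001eb005df005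1800a0700904009d9005fd008f5008990084900b6a00b6b009c20008400362002ff0052d00acf005dc007ea0021500b5e0047000141002fa0013f000450021d0029e0029d001e6000d700974006770085700a7b005c600aa300a9200132002f1009820006e0011f00101004ef002ce001c70037e004f200384004f8002cc001c6004f9006850023a001cf00242004de002d4002d3004d8002e000248004df001c10066c00870005a9007710097d00981000f2001ba0037f0023e004f7001c4001c3006a6005e5008d70026700039001830068c0028500284000740013800064004b400336004b30053400571003c9002810029b00495006670056e0056a005900058b0012f0018200578005810049d001f9001f5001310018d0033c00645006440047d0047f0034100626004930056b0074c0086100862003e5002910032700625003da004980064200622004b100809002f4000ac000ab00573003cb002c100139002b3002100048100221003ed003fb00497001940027600add00adc00af9001a7004bf000f1001a900344001a60031200649003ec002950028800b30003b80019300265001910005e003a6000e8003b5007e2007f100a11006e9006a900793002ba00aa7000ef003be0005f002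b8002680090b006c3001a20019f000b4003b6000ee001a500126000980005c007680097a009ca0007b00a77009ab0099c000ea000e50017b000970012c0017500238002470043300151002d6005bf005be0041e00420002db005a700431005a60037b00436005bc005a30024f001c800422001ce003820038700435001570022e004e2006890087500144000bb000b1002bf005c300381002410004d006d00030800028001ea000270005b001ff00054003c2003eb003c30049f00651003f300580004a4003180031500342003d8003fa003d4003ef004cb00272000e4000e3004a8003df003dd0018b005460029a00547008250074400563003d7003db003d5007550075c002c30020a0020700483003fd005430071d0039e0057b00263002610007f0031600317003d6002b100294004ab000ed001f40044800b930029f0040200143003fe0014500480004ad0020300200000ec0030600136002f9006c7008fd002a300a0a005cb0030d0022900453000b00030b00a10000f50014000083002f0000ce001180016e00ac800ac7000a5001d800aa400184000c2000ad0017c001df000d800115001e4003660038000367002dc003790038600375004dc00246004dd0077d006a0004f500378003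7c003760042400389004d900684000c0003770024d002400043b000be001b3000f9005ac002120009d000f000087004210043d0003700036000190026f0001b000420055f004af004bb0032100310003110065b004b7004120027d00278003c600343004ac0033d0030c004b0001f3001f1000aa002900032600320007430071a00643002820032500232006560031900230001970027f00621002f6002f200186001e8002770033f0033b0032c0056400135004c00038d002ab0021100345005440013d00192000ae007c10021700214008f10039f002710039d002a2000b30010900397000a000114000e20005000a81000b2002ee002500004f0012d0008b001e50016d0012a0016f000cd0025d000d6004f10043f00440002cb002bd002be0036a002dd0043c002d700066002ca0069f00681005bd00239002cf0025600236005a20009f0008a002d9002d500068004f6000fc000d2000b60007a0019e00071004da00023000260001000280004ae0049200579001fd002750035e005750049e0035b001f8001fa0057a0027400270001340018800206004bc008240045200482001fe0027b001b5003c8002790031e001ef002620012e003fc0028a002870049600354004010021c00451000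eb00b0500149001a100257002f300213000d4001710001f0017e000c10007d002ea000cf001220006b0010000082003960006d00038001d40017a0011700112000de000a700259001200011d002370043e00430004fb001bc0022d00177001b9004fc0004900048004410077c000fe00423001bd001e7001db002c80004300073003880004b0004a00434000a300099000580010600018003f9003f7003bd003c70019000414002b500335003de0027e0018f001f2000e600586003a10039c003c50044f001f600314003bc001850061f0019b00202001e0002aa0039b0034b000f4001dc0038b001250016c002520009200163003ff0009e0002c00014000a90025a001130038a001160017000159000ba001600004e001d60016a0011e002ef001de000e0000dd001d9001790014d0038500383000890036b001540011c0011b002350003000034004fd000d5000b900369001270017d0008e0002f005a00003100035002b600076000bf004bd0030f0030a00313003ee0035d0028f0032b00133003d20026c002f5002e60039900309003a80013c0017600408002a1002e3001810016b000df001d5001d7001c2001080007c0001e000cb002e1000cc000c5000750003e0035c000ff00105001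800025f0025e0017200129000b8002540011a000f7004420006300062002c0000dc000d10006a0002100373000590009c001b6000db000650015600022002270031d001fc002730038e003340028600471001ee00255002fd002fb0034a001100012b0011100055004450009600411001580005a0009500094000a8002310008d000a60002b002b400251001e3001dd001da0008600085001e200078000d0002c7000410004700150000a20004c000bd000400014e001bf000fd003e30018e002e5003ba003b70026600004000c90003d002e4002c20003c001c90006c0035a000e1001b80006900072001b4000da00079002e200174001730017800057000610022a00056000910002e000f8001030008800155004730032a003070001200253002340002a0010c0022f0023b0015f000530014f0009b00052000a100128000a400119001b20003f002b9001b0000c800067000bc0001a003b90000a000ca001b70015c000c4001be0017f000700003b0006f00006000fb000770022c0014c00228000900000f00007003610010f0009300102000250012400123000510000300153000b7001b1000320000b002bc002b7000c700017000d3000d90000d00002000fa00024001bb0022b0004400011000130009a00009000160005d00152000330000e000050001d000460002000008000150002d0001c0000c0007e000290003a0000100000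

noncomputable def lvP1_3 : ℕ := nat_lit 0x6b3006aa006b5005510051c00629005eb00608005e700aca009cd0095e008dc005d4008e1007bd006140094a0051e0062e005e900af200bf600b1f0064b006040095700942006270094800b33009390048a0092e00b48009f1006f7009260054c008540053b0084500a6800978008c4008a800bbd00b7900a4200b62008e60046200bf1008e40048c005ff008ec006e5006b1008be009b5006f9006f600869006fb00834007fa00a0c009d000b7e008bc00a2400bbe009e900a53007d0009ba007d4006bf00a2800a6a005cf005d60091c00949005db0069e0069a00b340073d0054f0074200bc1009fc00b9d00b72007f300a390071700568006f300a0500a480082f008350083300a0400bbc0066b0067300b320082800826008200088d00b5f005c500846003d000844009f90083e00bc8005a8005bb0059400536008df00aaa0061200813006100081200a380090d009a8007bb0094000b3900911007460092d0095500956009a6009ae007a600ab400abd009a200b2100be4009880078800a880093600be700a9f00bef009bf0050e007d8007de0054b00b9500b6c00b8c007dc00529006cc0053d00a320052300a69007e80084c005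f5007e3007b7008ab007f90090e009140076000929009070090a006fd0054a003c1008f600afb00ac300adf00b190027c005070050600535008da00ab2008af008ed00b26009a3006ac00a2d008070086800a2c007ed0051100a57005ba00796005b6009ea00bba0063c00641006400090800b1d0053f00702006680055300aeb00a18005320053300808006ae0061e00c0b003aa003ab00669005560072800c090058e007490059600a5500a56006cb00a61003a00050d007d1006d70071f00a8d0067f004fa007470047b0093100737007380073600953007320079d004ed00b2b00780004e3004e100941004d1007cd007bc0060b00b23005ce009c7009b30073b00a2100479007070092200921009dd0084e008a2005cd0046100a46008840083d00a600030e0047a006dd005d80081900bcb00ba0005d300454008a600ad7008b40060d009b900b670099100b5a00a9a007a700b37005f00072900b5900b4f008b00097200b52004560074500c37005ed0097100c3b007cb0048500aba00a98008b3008b9006dc007d7007ff004860018700ae200bec00ad8006e8005e20091a00b410046b0046500ae000b220031a004840045000607006e4008f4006e000a1d00a1f004740047500764007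9e0081600b09009c0007d3007060061600802005870048e00a0600ba300521006bb007a9007160031c0031b00763007a1009b800b8d0089e0093d0092a008ff0090900476006060046a003a400917008cb0086c009a700ae100b200025c0025b004be006300069800af30045f0046000765006330055b00b0b007e4009c800a5d00a2e0070e006190093800b0a008000081500a1500823006ff0047200a9600c4a005570055a007f400a3500711002fe0095100c480025800390007b8007a80066d00b3c005da00502007e600b3b006af008a100a0200a4c006d30045500aa800b560038f008730059f00975005390081c006470081f0089600b600063800881005190050a0083c00b4b00447001e1006a200686006d4004250087f0039200428006c0009d1002e900446008c6004aa0044b005b700bc3006f200a49007b60082c005080051b008d3008b8008ca0095f00910003bf0053a007d5006b70080e00b870050b00c17008aa0063b0063900830007d9006ba0094c00b2c0060e0080d008f90073e005ef003c0009c300c2f007ad00a8c007b0009f700aec009df0072e0072b0050c0085200b8a00996008bf007b400a3100bee009ef0085300be6008a300bc400a99006b00092500bcf005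8a00a9b0095c0062d005200086600bdd00ab300bed00a2700a5b007a500a200081e0084100a9300a8400a2b00a5a009fb009a100b7c006ca006d8003cc003ca009bd009c5007b3007eb00aad006db004680070c00709003030026400b66007c00053800a0300bb80026b0070800723003b200ba4006d2006d5005d900913003ce003cd0066600720007e100bb50061a0061d008ee0093300801003bb00a5100bb4008e700ab5006ed00923006180070f0084200c1a005f4005f100b080093700804003cf00a4d00c0a005090051a0052a006c10082b00b01006fe00916006ee00459003b000531005e6009db0041800593005880072a0096900ba6004ec004e9008db00b1300541002eb0074000ba5007240072700ae900b16007fe003a900a4b00bb700aea008ef00b400082700a40009000070a00baf009a000b5c009010048f00a1a0083b00a63004cd004d300ae800943006bc002e8008f200bd400aa9007cc00b3a006e3008f8008eb007a200c07009b200b690059c00569002e7004cf0097e007730079000b460081b0047700605004ff006870071400a910045d0098400500005c90077e00a7f0063700634005d20085500a87006a30042d0038c0036d0077a00a4e006880036e004e0004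2a002ec00acc00a54006a40041c0079a00395004ee00555007250057000585005760056d005740057c003f200795008c5004ea00722005d100b2a00464005f6007ab0060200bf40087b006be0082e0072f0089f008ac007ae007c500ace007fd0081800a660083f006d60047800ab000c0300b9f0063100aee00851009c6009dc00847006d90073300ab800bca007e70070300aff008b600ac0009f8008de00ae5008e3009cc006b900bfd00b54008ea0096600ad60083700bbb0092c0095a0088c00b510091900b1b00b9e00ad5009300095b00a29007a300a3700c2900a3300bc60081100a3a00700004c500843009a900bcd009280094500bc700c3900b140096400b0c0093400b4c00b5000b1700aac008e50064a002f800abe00699007af005ee0048800487003b1008b700a0e009ec009e4005f8005140026d007fc00457008c9008060080f0062b00c08003ae00a6e00a3e0060f001ed009ac00c1b007cf007ac007dd00a430070b004890094600c24009f30054000b8f0093f00b2e007ec009f400903007350095900a16006df00c210093c00b1800363004d0006e9005dd0079f0082a007f2007f5004690045e007c900b84005fc00803007c600517006ce0076700968009eb00a3b006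1b004ce0084a00c1d009be005b5009fd0063f00850009f20062c00bd70093a00b25006fa00bc200bd6009350053c00b0200c1e00a94006fc00b0400b0d0094f009f00059100bd2007e000a09005d000b7800bd1007e50054d00b8b00c4500aa6004c90041a003ad006a5005ad0076f004d60086b0064c004c800443005aa008760099900710007130079100b450059d005300079400b4e0087700554006a70050400776004440078900501007660098b0073100a7c007690076e005c1005ab002c400426005ae007820042700371005c400acb0077b0069d008940042e00741009520065d006350056c006520065000337003380075f00761004ba004a30064e00655004a7004b2004a6003930088a006890097f00632007a00089d006e1006d100b6d0060100ade0094d00522003ac008c200c3e0093200989009540094e007aa00838009e700b8600ab90070d00c0f009b700b6f009ff0062800be1009f5008f3008d200b85009bc00b750048b00a0b00bab009c10062a00bf000c15009ed00b7d007db008c3002990019c00b7b00719006f500a8b00be500a2300a6d00b1a00c2600a3f00b6100bdf00a2f00a6f00b8800a440091b00b270092000b1e0050f00be300c2b00924004b800671003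2d005e800b3100c0c00a3c007d200c2c00a00007b100a7100b93007d600bdc00b920055c009b400b3f005e100748005180073c008b2006b8006e7003040054e0052b00acd0052600aa5006c2003a2005100095d00b100070400a9e00c4700abb0030500c10008a500aa2008e0008ae00ad90083200a590061300bf900c0d00a4f0060900a0f00a19008400061500bb100bde00a3d006700086e00a14006f4005f900419009d9006ec0072100a17006c9008d5001f0006c6008d1005e400abc0085600af50073a009620053700ae300af40073f0061100bf700c3300a4a0082d00c2700b710063600bb0009f60082900bb200a50006ad00bf500c31008f00070500bfa009e30081400c06009c2006790058d004130076c005c6004e50052f0099e00a7800770003000098d00872006760069400a75004d70058c0069c00a800087a006170099a0069700898005c8004150088b005ca0068f0044d0067d002450015d00a7300695009800066f00675009850098e00678004e60068b0036f0044a0068e00783003e500a8f0068000a890097d002ed0078e005ac006b60051d006b4003e8008600084b0085f004a1004a0002920074b004c7004c20066000662003f10029300663003e6004c60040c004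07004a200572003f6003390096b0042b0097b0049000a25009ad0072c002980020f009fa00a5e005f2009cb00bf3009e80052c00ba2007ba009d3009c400a4700bc9008d900adb0055000b9400c4b00aae006ab00b53008e80091500bfe00a950055200afa00c0200ab60071200afe00aa70091200c3c00ac200ac9003e90028b00624004940020e00822007fb00a6700ba7007f700bc000c3500b11008ad00bbf00af8006da00be800af7008b100b4300adc005d700bb900bc500a36005f300c3400905005840074e008a900bcc00af9008dd00c50008b500c23008e200c0400a5c0063d0096000b7a007970045c005e30052d005fb007b2008fa0046d005f700302005de007bf0045800a4100bce009a500a790047c00b9600c4c009aa006f800b7300b8e009440072d00c41009500089c00b0300b300073000c2200af0002bb0041b005fd00513008fe0076a00bae008c800ad00026e0090200ad4007c7002f7007c4005cb0060c00b9800ba800848007a400b9700ad20072600c4000aaf0093e00c460073400b550093b00b440080c00c3f008ce0081000c430092700c3600301004e8005c70036500449008570077500599004ca00244001c700895009790067700880009ce0046e00b58008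8200a8200779007720088f005b900799004cc00a8300a8a007920035f0078f00505002c500787005e5005b20037e0023c005a500432001c60097400ac400a9d0087c0088500598005b4008860089b00394005b10068c00503009af00a7d0085900997008750067e00b4a0037200870004c3005ea005d500350005ec004a9004040075700754003e10057f0040e004090085c004b90022000405003e200758004b5002090085b004060040a004b7002af00651003e7008670040b005a90094700558003120056100a970056200341003400020d0033000ab100bf2008bb00ac6003d100af100c18008c00062f00beb00c2d009e50081700c0e00a5f0080500b8200b5e00a2a00b890081a00ba900b6b0081d00be000a2600c530033c003330071b005450032f002040055e0013500b3800bfb0090c006bd00b3e00a1b007ce00c2800b91009b600c54007da00bb6009bb00c44006de00c2500a1c006e200c1c0040f009b100c5200a6b00b6a00b5d00aab006ef007ca0084d00515007f8006f1003af007ee009d6005250045b006c5007c10053e00c1200c2a00a9c0055900c11008880083600bf800a650083900c160099f00bd80083a00bac0052700364008cf0046c00b0000c1f009d7003b4009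de00793003a3007e2008a000c13009d8008a400c320083100c2e00a6400b9900b900091f00bfc007f000a010042c0026a008890067a004fe004d400391008bd00768002bf004f30067c004f4002db002da001c5002d10098300a900077f009820074a00b7f00be20098c004160098a009980069b0067200990007c80023300693006d000370008a7002d6002d400682004db002d0001c0004f0000fc00b8100a760078100b800099d004eb0078a0079b0069600b630044c00976006cf0098100bdb0034d0059e00a7a00871004e20034c006530053400463006b20013e005750074c0040d0056f00348002ad0065800589003f50075b00289001a3001ac003490041000581001a80056e003290091e003550058b005800034f006670065b0033a0034e004e400a52003ea003ed003c4001fb002970064800646003f80022600623003fc0048d00b9c00c3d009c90061c00ba10098f0090f00c3800b280092b00c3a0091800c0500b420092f00c2000add008e9003d3003d90029a0029c00620001f40028c003d6007b500bd000b0e007b900c4e008d800c4900b2900b1500b35007df00c42009650035600ac10095800b2d00b1c00a70005fe003a5008d0006c30052400a1e007f6005e0008cc008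fd00516008f50063a00c4d009950063e00bd30094b00c4f00af600aef00b2f003b3007c3009e10060000bad008490046700a07006c7009a400bd50099400b3d00abf00ae400ada00906008fc00ae70078d00786009930066e0059a0068d006740041d001040016100166009cf0037f0038200368001ba00243005c2005c000384001d3005a4003880066c00b4d00b570087e0096700bff008c1005920088e008d70059b00aa0002c6009b000690003740037a0024600248005a1001b30023d003770068a00c00008920088300be9005b800b47008d6006a6006a800b490097c002a4007710077400429003e40075200750008620096a007550060a001f9003180051f000f60019d00224004a8006560064f0021f004c4004cb00359003570080a0032e0021600225001ae0027500219002800065400664002a000751003ef004c1002ac0065e00762003f300583002b0001a7003470047e004ab00491004ad003310031f0018d003510071c0033b001ad004970071500c1400a850071800c3000a2200c5500b9a00a6c00b76009e600b77009ee0028e0019a00323002760033e004810033f008ba00c5600a8600a4500b5b00a3000a58009e20084f0006000a62000af0039f003b800ad3007ea004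5a009da00466007be00b0f00a11006c800afc006a90073900c1900a0d00b70009fe00b6e00b680052e008cd006f000afd007f1005df00a8e009d200b74002670019b0018900a130013a004c000692008910086d00887007850027d005970058f000a5005b000595000c60015e001d1001d2001680022d001cb002370041f0043b0042f0043d002d2002c900151002de00683002d500167004350086a00bda009d500a7200b64004d500b650079c005b3005af0023f0015b002cd0022e002d800422002d90078400bd9009d40089a00897005cc004700087400878001460067b0021e000a30075c004a5004a40075d0085a004b100a340085d000e40091d00a7400861006650075a0027a0018b003c900126002780028d0019000320002a70014b003f70014a004b00057300590002ae0066a00578003f4002a5000f20032100311002b2003c6003f90074f0080b0056a003360040300084004b3004b4003ee0029f001430029e00542002950033200565002a8002960028300294002a600549000ed0082100c5100b0600b3600ae600b240032800ab70035400196001480021b0013b00548002b1002b30098700aa100b12002fc00149001370096100081000450030d00080002f300306008fb005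2800b83005dc006c4008c700baa00899006cd00ad1008f700aed000e7004530030800603008f100904006eb0013d00ac5001ec0028a001ea0013c0013000448000e900401001e6001750076b0078b00977009ab0069100aa3009ca000b2001f8004d20012c0011f0023e00154002ca0024a0010e003830010d002cb002be0024e0036a00385004d800241002d3004f70024b002420023a0024000249004df000be0097300bea00893006a100879004e7003e00010b001cd00101004de0024d0024f0099b0099200798003a700031003b600777001a9000f1000d2001a600076006610076d006590057e005710018c003d500547004bc0096d0096c00753003f0009700012f000aa007560096e0044f0044e001f5003150021a002a90033d004bd001fe004920021800342001fd0057b007010065a004b60035800144000b1003d8003d700483004ae004af0064d0049f001fc000ef0005f0057d0041400334002110020b003fb0049c003ec00223002100049a00194000b500bb300a1200b9b00208002ab0028400285002aa00138000f3003130022100222000f500a7e002690021700265000f4000e8002ba0005e0027100c01006e600512007c200963008d4003a600a08000ac003be000ab003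9d0026f00b05007ef00203000eb0032c00183002020038d0026000115001df0086f00aa400a920017b00a7700a7b00ac8000ea000820007b000e20006e000d700376004dd00441001cc0024c002d700442001bd00430001ca002dc001bc0037900378004240043e0043f001c3003870043a00381001d0001c800438001570008f0078c0098600778002910007a00327000c3002c0001ce001cf0002300890002ff0004b002fa00022000f90014500099003250071a0028200809008630075e005820065f001f7001310062600625007430054600858006570026c001e9000e30085e0027b0039900398003d4003520029b004ac0057a00586003da003100028100759005770033500212000f000498003c50055f005790018f0056b0030f0018e000b00035e0035d003dc0020c00353001af00205001420021d00b070019800402001950021c001ff0031d001aa001a2000b3002a3001eb001a100229007e9005fa000ec00a0a009e00046f002f9003620007f0030b00a10002880019200287003ff000ce000cd001d50099c00ac7001210016c0097a00184001c2000ad000c90005c0012900098001de002cf0068100239005a7005a60069f004dc00375002df002470043c004fc004fd0037b002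bd002380043600369004f1004fb000570037d001c4002e000169001c1001070005b0087d0020a0009d0020700058002c7001640003700018000680026800035000b600543006220082400566003db003220086500864003c80039a0018a00567004960082500645001ef0074d003a1001ee0018200232001f600324003fa003eb00621003c3003c2002900065c0049e0028f0019e003d2006430027400133003bd00273002b500199001ab000b4003c7001a400346001a5004bf00139003450027e002150014000214006ea00193000ae00acf00417003b5002b800408002000015900397001da00250000970009200a81001320025300114000960012d00158000950011100259000dd00118000de00172004d9005a30077c004f80037c002cc004f9004340077d005bf00078002ce0038600380005a20036700366000dc00373005bd000860003f0015a00165000190036b001620007400042000bb0019700071002350004d000260004a0049b006420047f0071d0049300499003160096f0031900314002f10061f00744002f60018500452002f5001b500495004bb00134004820047d003df0020600412003de0031e0030c001f20030a00147001410008300343004000029d003fe00473001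9f0090b002010013600257003600034a000e1000cf0003e0017e000ff00254002e400171001100006b00163000e5002e10006d0006c000cc001800011d001d70025d001d90012a000e00011700439005bc0042000684004310043700127005a0006a00011a00056004330044000041004230041e0011c000a2002c8000b8000610010a0002800010002dd0008c00054000870010f000360071e0056000186005640055d003cb00277002c300279005440039e002620039c00563001f3000e6003fd0049d003260035b003ba00270001fa001a0000ee0038e00344003b90034b00191001dc002e2000a8001d8000cb0005000100002f00012b0002c0002b00179004450016b0038a001160016a0010900108000c80004e0025e001700011e00251001e4001200016f000a7000a90003000685004f200059004f6004ef001e7000db004da0014d000d0004f5000630002e0038900177000d10015c00085001b9000390001b0023400064000c700644002630012e006490036c0031700230002fd002f20027f0027200188002e6003dd00307003e30013f002e5002a2002a1001e30007500113000df0016e00112000c2000ba000700001e0025200396001d400103001810001f001b8000c100090001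7a0025f001d6000d6000d8000430007d0004900021005be000d500040005c3002560017d0023b000f7002360008900047002c20011b00102000ca00027001b700480002f4001e8001e0002c10026600471001f1002550032b0032a00213001220009e0016d0009b0025a0004f001500008b00051001e5001bf0012500231000bc00053000140014f002ef002e3000a4000a00009f0002f00128000660003400421000fe0009c00411001db001be0010c000620022f0009400093003a80026100176003bc003b700286000040017c000da002ea001b60006f0009100038000f8000d40035c0015500072001b40003d0003b0038b001740007700178000c000073001bb00048001c9000b90035a000c5000c40006900451002fb0030900011002ee002b6000a1000bd0014e0006a00067000a6002b400055000520002a001e2001dd00119002bc0008a0015300152001600015f0008d0000b0039b0001700156002270008e000880004c000d30007c000790003c0000200361001730022c0022b000fa001050000f00025000fb00106000fd0006500007001240009a0005a00003002b9002b7001b10002d0001a001b2000b7000bf0000a0017f000d90000c0000600228000460022a0014c00020000120000800123000150005d00016001b0000330000e0001d0000500024000440001300009000320003a0000d0007e000290001c0000100000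

noncomputable def lvP1_4 : ℕ := nat_lit 0x454004870045e004850045d005060050a005300050b006b7006b5006f90051a00509005190050c00531006f7003a0003cd003a9006d4006d1006fd0053a0053b0070c0054e003cc0054f007090054b003ca0054c00720005e70047800608004840060600476006100063000627005d4005cd0062b007ab006290079e0045600455005d8005d9004500026b005d6004600045f005d3005d2004720061400605004770061200616005ed007b1007ae007af00800007ff005e90062e005ea005d1005e8005d5007fd007fc0031b002fe0047a0047b00264002ec002eb0060d004890031a0048a00802007d2007a8007ce008060080500615004790061700818008170062f00488006310081500814002e7002e8007a10062a004860062c0082a00829003900053600507006ac0050e00508006ae0025b0025c00258003c0006d2006b3003bf0053300532006fe006fb005530054a006b80072b0072a006fa005380070a0072e0072d00721006aa006ab00727008ad006be0072600723008b20089d008b500724008dd0089c008d8003ab003aa0050f0050d006bf00520006bd006ba006bb00302002f8003bb0053d001ed0053f0051c00551005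1d0051b006b6006b4007100070f006f8005390070d0071300712008b6008b300914006da006d7008b10091300912006d6006d3006b900911006d5006b1006b2009100090f003cf0027c003d00053e003c10054000301002f700702003940039200393007060070500552003ce005540091600915008de008d90091a00919008a90091800711007140092d0092c0053c0092b0072c0071f009290092800550009270035f0038f00364008a1008a000503008a400725007280092a0093c0054d0093b00449002e900475004740060e0060b005ce007a2005cf005d00041b002ed007a40042b002c5001e1007a5002bb0044c005b50030e0048e007d0007cf007ac006340063300807006090060700803006370063600628007b300828007d3007b20083700836008010081600820008270061100839008310082b007a00079f007da00833009b70082e009b60099f009b1007b6007bb007b900832009bd0082d009bb009a1009c1009c00082f009ed009ec009a0009e5009e4003a4005da004620048c0046300461005d7007bd007ba007b7003b0005f3005f0007b5003af003a50061a00619001870026a0061d0061c005ef007b0007ad0081c005ee005eb005ec0081b0081a007fe008190081f008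1e006130081d009c3009bf00869007db009bc00a2800a27007d600a26007d5007d1007b400854007d4007aa00a2400a23007a900a220048d0031c0048f003ae003b40061b0061e003ad003a20047c003a300416005910080d0080c0044d0044b00812008110044a00810006350063800a2c00a2b0048b00a2a009ef009e700a3200a31009f2009b200a2f00a2e0066900647008450085200a410061800a3f00a3e00838008260083400866009be0063200a3c00a3b0041300419009a6009a500415009a4009ad005ca009aa009a9008300083500a2d00a4d00a250062d00a3d00a4c00500004d400391004cd00707005370053500703004d300672006ad00370008a2006b0006af0067e004d0003950036500372008a5004ea004e90036e00233008a6006960036300505004ec0021f006a800698005560030500559008dc008da008af00732006db008ae00731007300091c006ff009170073600735006fc007340072200943008b900939008df008b7009360093a008aa0094b00764007600092e009380091b0070b009350094d00a9700a9300947009440093e008e20093d0089f0089e008e8008e70094800ab00094000aae00aad00a9400aa600aa5008bc008ba008c4008c3008c0008bf002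160094600aba00ab90093f00ab600ab500a9800ac000abf00abd0094200ae500ae400ae200a9600adb00ada00ad80055a00557006e20045b006c000522006bc005210051e0051f00468008c2008be0046a006e3008bb004690045c006de0045a00717007160071500300006f300719001f000718006dd008b4008b000747006dc006d90093100930006d80092f00765007460073700745008e00070e0093400933008ea00ab80094a0097200abc008e300b1400b13008e1008ac0095e0096600abb008ab00b1100b10005580055b004650046d003d1004670058800568004640045700466005410045800459004ca0066d0092100920004cc0091f00501005020092600925009000050400924009230073300738009490097100aea0055500b1700b1600ae900aa800b1b00ae600b190095d005870095a00b2400b22008db0072f0094500ab700b20004c8004ce0097800a9e0097f004c900a9c00a9b00989006a700aa200aa100a9f009320072900b1800b1200b21004470059d004440058e0059c0041d0041c00592008130060f0080e00596007690060c0059b007a30042a0059700427002c60059e009a8007a7007a60077b005b400593004460041a0042e0042d009ac005b7005af005b6004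25002c4005b8009ae0079200418005c8005cc005ba009f0009c4001a8002a5002ae00403002a4002ad002ac006cf0079600795009e80063c0063a003b2006400063f0026e0063e009e9009ba0083e007dc009b80083c0083b007d70083a008080086800844008420084300804008400083f00a4e0082c00a56009f1009c500a4200a4b00a33009b300a4a00a5e00a290066600a4000a3000a4900a4700b5b00b5900a5800a5c00a52007e400a5900a4f009f5009f4009a3009ff009fe009fc00a5300b6f00b6e00b6c00b5c00b6900b6800b66009cd009cc009c9009c80088c009d3009d2009d000289002a000a6600a5100b7500b7400b7200a6400b7900b7800b9900b9500b9400b9000b8c00b8b005f40063b007e500517007df00516005f6007b8005f5005f200529005f100528007e6009cb0052a0051800527007e000515005140064b007f90082200821003ac006040064a007ec0026d007f700823007de007d90084600853009f3007d800a4400a43007dd0066800841009ee00a48009eb009f700a5b00b7700bba00a6e009b500a6d00b7600bb80058f0076a0052f0052e0063d00641005230052b0052600490005250051300524004be0051000512005110058c0074900a3800a3700a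160058d00a3600a3500a15005c900a3a00a1200a3900a5d0063900a5a00b9b00bbc00a0400b9a00bbe00b9600a0300a6c00a6900bc2009ea009e600a5700b730087b0056900a7900a7e00b5f0088400a8600b6200b6100a4600a4500bbd00bb90067a006700046e0086e0086d004ff0038c0066b0067f004d7004d10066f004d6004d500708009220067300855006790070400678004e800371008a3004e3004e400674004d2004e00036f00680004eb008a8006a40087900697004cf004ee004e7004ed006900069a0068f0036d0069b0089800897006a60069e0069d00ae8009540020900aa9002200035000348003580034e0032e003570034f00337004c10034d0034c0035500356005e5007cc0088a00ade008eb00ab10073d0073b0073a007390046b007420074000741003040073f0073e008ec00ab2009530095100952008e40094f0094e0095c0076300959009580095600b2b00aac00b3200b3100a9900aaa00b2500b1c00b2a00a9a00b1500b2300b1a0094c00b2900be400be300b3500b2d00aab0035300352008ef008f7008f600b2e00aee00aed00aeb00af600af200af100aef00bf100bf000b2f00bec00beb0099600ac600ac500ac3007880099400aca00ac90032d00329003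490095500b3d00bf600bf50095000b3a00bfa00b3000c0f00c0e00af000c0700c06006e4006df008f8005e6008f0005e4005e1006e5006e1005ff005fc006e0005fe005e0005fd008f2005e3005df005e2006f600748009010090c00937006ed00303006f5008fc0090a008ee008e60095b00ae700b26008ed008e90095700ae300ae100add00b3400bf900ae000b4200b4100bf70066c008560060100600005fb0066e00603005f80055c005f7005fa005dd005f9005dc005db005de00b080064c00b1e00b0700b1d0090700b0600b1f00b0200adf00b3600b3300c1200af800c1000c1100af700b4000c2700adc00ad900bf8009880098700b4800b4c0098f00b5100be800b2800b2700c25005c7007760059a007670076c0076b0052c009680096700775003b300977005c5004430059400766005990059f005980042c0076f0080f0076e00774005ad0042800770005a8005ae005a90042900595002e0002df0098600426005c400778005b90079c0079400786005b3005bb005b2007830078900787004070079900798008d600992006d00079a0078e009fb00a550083d00292003e800a5400293002b0002af0040c0040400405003f1003f40040b0040d003e6003e700406003e5003e4003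ef00589004090040a0040e0040f006cb008c5007e700a02009fa009f8002a8002a70084c0084a0084b008480084700851003b1008500084f0084e009c6009f900a6300a6200a60009c700a6b00a6800a67009b400bc800bc700b6b00bcd00bcc009a200b5d00bc300bc000b5e00bbb00bbf00a5f00bc600c3400b6a001ab002b3003ec003fb002b200a0800a0600a0d00a0c00a0b00b7000b9d00b9c00b7100ba200ba1009f600b9e00c3c00a5000bc900c380088d00a8e00b7e00b7d0088800a8b00b82003e1003e200a6500bd200c3f00a6100bd100bcb00c4b00ba000c45007e8007e1006c800a09006ce006cd006ca006ec006ee007e3006ef006eb006c9006e9006c7006cc006c6007f4007fb00a1300a1f007f3007f0007fa00a0f00a0500a0100a6a00b9800a00009fd00b9700b9300b8f00c4100b9200bd700c400076800969006f2006f1006e70074a006f0006ea006f4006e8006e6006c1006c4006c3006c2006c500a1d00bb300bc100bb100a1b00baf00bb000b9100bce00c4d00ba400c4c00ba300bd600b8d00b8e00a8500a8400bdc00a8800bdf00bc400bc50060200a73009a70086c006a50087a006a3004fe0067d0024b0024a0086b0086a0067c0086f008720046c00a72008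7800a7800676004fa006750067b004e50087300871006870068d00677004e1004e600689006880068e004e2001650024f00381003870024e0087d0089300a83006a10069c006920089b00889008870068c0069500693008810088b00a89004a30089a00890007c8009d4007cd008940049f00ab4008e5003360094100338004aa0033a0033900359004b8004c3004a0004c2004a6004a8004b4004b5004a9004c4004a7004a2004cb004a4004a5004b0004b1004c5004c6004c7007bc008f9008f3002180035100ab3003310022200219004ab00224008d200962009610095f008d3009650090d00964008b800ac100b3900b3800ac200b3f00b3e00aa700bed00c2c00bef00c0c00a9500be500c2800be700c2600b3700c2b00147000b50020c0033f00223004ad0033e0022500ad100afb00afa00ad200aff00afe00aaf00bf200c1400bf400c1800aec00c1500b2c00c2d0099500b5400bfe0099100b53004a100b3c00c3100b3b00c2f00c17008f4007c7006a9007cb007ca007f2007ef007ed007f1007c9007c3007c1007c6007c400908009060090e00b04009050090300b0300af900af500c1300af300af400c0b00c0d00c0900c33007f800857007f6007eb007e9007f5007ee007ea007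be007c2007c0007bf00b0e00c2100c2200b0900c1e00c0800c2a00c1b00c1a00c0a00b4f00b5000b5200c29009740052d00a9d008bd009750079d005c60079100779001ca002de005c1002d2001cf001cb0043b001d1007720097300777009790097e0097c00b45009850077300771005aa005b00097d0078100785005ac005ab005b100780007820010a0008f001c4002d9001d00043d002d8001d20078c0098a0099d0099a009900079b0078d0078b0098d009930077e0078f009840099700acb00570008d70099b008c1008c60056a0056b0074f009dd009b9003ea003f00057c003f3003f200578003f6003f50041000574005840056c0057a00579005810057500573005770057d005760056f0056d005900057200534005710057b0058a0058b008a7009dc001a3000f3002a6001aa003e9002b10028c002a9003fc00297001ac007c5009e200a2100a6f009e300a2000a71009c200b7a00bd000b7c00ba700b6700c3900c3b00b5a00c3500c3700bcf00199000ed000f60029500296001af003f80029c009d800b8500ba900b8700bab00b6d00c3d00c3e00b9f00bca00a8d00be100a8c0056e00bd400bd300c4600c4f008d5008d4005cb00797008d0008ff0090400902008fd008cf008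cd008cb008d100a1c00a1a00bb200a1800a1900ba600ba800ba500c4a00c48008fe0090b00909008fb008fa008cc008c8008c7008c900bb500bde00bb400c4700c4e00c5000c4900bdd00be000c5100a76009ca00b60009ce009cf00a9200896006a20037f004fc004fb0069400161000c300249001640037e0024d0023d0024c003880024300166008760087400a750087c00a7d00a7c00886008750068a006910088200883006860068b0087f0015a000be000c60024100242001690038400248008920088f0088e00a9100a8a008800089100a8200877009af00a8f009d100654009d5009ab009b00064d0064e0064f006570065f0065d0085c0018600184008ca004ae00330004ac004b3004b200660004b7004b6006590065a004ba004b900650006510033d004bd00621004bb0064300664006580065b006560065c006520065300671006550060a0065e0066a0018c0018900204001420013b001480032f002210014a0033b003320021b003400020d008ce00ad500b4300ad700b0c00abe00bfb00bfd00bee00c5500be600c5300c30001350020b0013e0014b0033c002100034100ace00c0200c0300bf300c3200c1600c2e00b5600b550018f00c1900198001960019300899009e0006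990084d00a1400a1100a17009de009d9009e1009db00b0b00b0d00b0a00c1d00c1c00c5400c5200a1000a1e00a0e009d6009d7009da00c2400c2300c56001a9001a7001a200c200019b001a000ac800b4600ac700ac400b580012f0099e00983001180099c007900043e002d10043c002d700442005a200440005bd001c000107001010010b002d0001ce0010d002d5002d3001cd002da001c500981009800078a00b4b0098e0077f007840098c0077a0097b000fc001c3001040010e002d6001c8002db009990099800b4e0098200aa3009760013700acc00aa00013400aa400132000190057e0074b0074c007560075c007570074d0074e001ef0076d007530075a0075b0096d001ec0012e001e9001260012d0028b0055f0071b003f7003eb00543003fa005800057f007580058300582007590058500750001fc003d40071c003f900586005630076100754007550075200751001f90070000701001f7001f3001310013000194001a40018d0019a003c200294001ad001ae003ed0028e00298009df00b8800b8a00b7b00c4300c3a0014100c36001440020a0027e001900019c0019d0029a003d800b8600bd800bd50013a002080020300bac0013d001330020100139001380013600ad3007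93009630073c00b0500b0100ad400ad0008f500bb700bb600c42001460021e0021700b0000b0f00acd00acf0021d00c440014900215001450014300140002120013c0013f0017e000cf00a8100b8100b7f00b8000a9000be200b64000e4000e300895000e2001710023c004f1006820038300380004d900386003750068300385004fd004f50015700162001510015b00366002400016700168003820023f0024400a7f0088500a870087e00a7b00870000ef00235001540015d0015e002460037900a8000b6300a77000ea00023000e800b65000e7000e60001f000e50001000661008620085f00858008590026c008250082400648008640085e008610085b0085a002690018500809008630026700263001830018200310001fa0047d004920062300620004af0047f004950066300662006650085d006670027d0018e0031e0049400646004bc00498008600080b0027a002740018b0080a002720018a001880021a001f400205001fb0031d0020e00226003330032100ad600c0500bfc000f200291000ee0028a000f000197001fd001fe0020f003430029000b44000ec00288000e9001950019200285000eb0019100a7000849007e200bae00b8400a0a002ab00c04000f5002a3000f1001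a6001a100bad00b83002a2001a50029f000f40019f0019e001e6001160009800b4d00c0000bff0011500b5700be900bea000ac000aa0012c000a9001da0012b0077d0077c005c2002bd001b90041e00430005a4005a10043f0042000433002c800432005c00044100436001cc001b3001c1001ba002c7001c6001d3002d4002cb0098b00b4a0097a000b200031000b0001bc001bd001c7002dd0003000b47000af0002c000ad0001800028000ab000140071d0071a005620075e0075d0096e0096b0096a002ff001ee005600074400743005650096f0096c002fc002f6001eb0091d002f4001ea001e80054200275003c30027f003d20055e0054500546003d70075f00762003180030f001f8003d30028300561003fd003160091e0030c001f5001f200308001f10028d00276002800028100299003c70033500b89000b40032c000b10020700202002820029b0032b0020600328000ae00200001ff00960008f10035400c1f00afc0034b0021c00347000b30021400c0100346002130021100260000e1000ce0006e00bda00bdb00172000cd00bd900081000390007f00254000e00007d00181000df0068400681004f4004f2006a00069f004f7004d80022d003670023600373004f0004db004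dc00378003740023a004f300389000430023e0022e0023700238002450036b0004100a7a000840003e000820002200239002470003d0002100037000800001e0001b0031f0061f006420062200645004970086500a74003a7003a10026800493003250064400649003a600a340039e00265002620039a002610047e0031100320004910062400482003c800867003bd0027800273003230049c003bc00277003b8002700026f0031200313003ee0032200342003e30028f003e0000830028700324003df002860028400a0700408002aa00baa00402002a10029e004000029d0004f002f0000a800050001170009700b4900060001d9001120004d0005e00027002e2001df0011f0005c00129000a700125002c9005a0005bc005a3005bf0043500431002cf005be005c30005b0041f002be002ca0042f005a50042300059002cd0043a000550002f002bf002c000057002cc002dc000530002e0004b0005f0002b002ce000490002a0002600544003d5003d60055d0071e00564004530097000452002fa002f5003db0056700451002f90044e002f2002f1003c4003c50044f003d9005490047100314004700030a003dc0046f0030900306003c60047300334003da0049e0032a003270049d003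2600afd004c00034a004bf0034500344002510016a0006d0039700038000d70017b0006b0016f000cb00068000450016d0006a000360025a0038a0007500179000d6001750007b000dd00180004da0037600377004ef00685004f60007a0037c004f90007c000420036800369000780037a004df00072000400037d000740003c0036a000700003f0037b000630003b00035000660003400480004960039f0049900626003a80039d003c90039c0049b003cb0039b0039800481003ba003990049a003be003b7003b600417003b50048300414003b900412003de003dd0044800401003fe002e4002e100092001d60011000096003ff001d4000940004e000a00012000121001d80009500113000910004a0008e0004c00445001e3002ef002ea0009e0011d001de000a500128000a40042100434000a300437005a7000a600058004390009f0005a004220009b00056004380009d000520008c0005400424000860005100089000470004800547002fd002f30056600319002fb003150036c00317005480030d00307003620030b003600035e0035d0035b0038e0038d0038b0025f0025300250000c90016b000ca0006c000c500069000d80017c0016e000c2000cc000c8000bd0006700065003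960025e00259000d400178000dc000de000d300077004dd000da00076004f8000d500079000c000073004de000d20006f000bb0007100064000b80006100062006250027b00266002c300279002c1002ba00271002b8002e6002b5002e5002e3001e5001d500109001110010f0010c000930008d001220010600114001000008b001030009000088002ee001e2001270011e00124000a20012a0011c0009a005a60011a000a1000fe0009c0008a000f90009900087000fb0008500232001f6002300025700229002550000200252001600016c00163000c10015c000c7000c40017000156000bf00159000ba00153000bc0025d0017f000db0017a00174000d900177000d10014d000d0000b900150000b6000b7001e0001b5001dc00003001d7001c900105001c200108001bb00102001bf000fd001b8000ff000fa001e4001e700123001dd00119001b60011b001b2000f7000f80000500176000040023b0015f002340015800152002310022c001550014f00008002560017d0022a001730014e0014c0000700006002c2002bc001be001b70000c002b9001b4001b10000b002b6001db001b00000a00009003610022f0022b000110035c002280000f0000e002270000d00411002b7000170001500016002b40001300012000200035a0001d0001c0001a0002d0002900025000240003a000330003200046000440005d0007e0000100000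

noncomputable def lv1 : Level := ⟨1, 288, lvO1, [lvP1_0, lvP1_1, lvP1_2, lvP1_3, lvP1_4], [[0, 2, 1, 3, 1, 3, 1, 1, 2, 1, 3, 0, 2, 0], [1, 2, 1, 3, 0, 2, 0, 0, 3, 0, 3, 0, 2, 1], [0, 2, 1, 3, 0, 3, 2, 1, 1, 3, 1, 3, 2, 3, 1, 2, 1], [0, 2, 0, 3, 2, 3, 0, 3, 0, 0, 2, 3, 1, 3, 0, 2, 1], [1, 2, 1, 3, 0, 3, 0, 3, 0, 3, 0, 3, 1, 3, 2, 3, 1]]⟩

noncomputable def lvO2_0 : Tree :=
  .node 64 (.node 32 (.node 16 (.node 8 (.node 4 (.node 2 (.node 1 (.leaf (nat_lit 0x0)) (.leaf (nat_lit 0x0))) (.node 1 (.leaf (nat_lit 0x10000000)) (.leaf (nat_lit 0x40002902)))) (.node 2 (.node 1 (.leaf (nat_lit 0x30007e02)) (.leaf (nat_lit 0x30000c03))) (.node 1 (.leaf (nat_lit 0x30003a02)) (.leaf (nat_lit 0x20000201))))) (.node 4 (.node 2 (.node 1 (.leaf (nat_lit 0x30003a01)) (.leaf (nat_lit 0x40000803))) (.node 1 (.leaf (nat_lit 0x40000601)) (.leaf (nat_lit 0x40002904)))) (.node 2 (.node 1 (.leaf (nat_lit 0x20000200)) (.leaf (nat_lit 0x40001d02)))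 (.node 1 (.leaf (nat_lit 0x30001c04)) (.leaf (nat_lit 0x40001d04)))))) (.node 8 (.node 4 (.node 2 (.node 1 (.leaf (nat_lit 0x0)) (.leaf (nat_lit 0x40000501))) (.node 1 (.leaf (nat_lit 0x40000401)) (.leaf (nat_lit 0x50000f00)))) (.node 2 (.node 1 (.leaf (nat_lit 0x0)) (.leaf (nat_lit 0x40000500))) (.node 1 (.leaf (nat_lit 0x40004600)) (.leaf (nat_lit 0x40000600))))) (.node 4 (.node 2 (.node 1 (.leaf (nat_lit 0x0)) (.leaf (nat_lit 0x0))) (.node 1 (.leaf (nat_lit 0x40003200)) (.leaf (nat_lit 0x0)))) (.node 2 (.node 1 (.leaf (nat_lit 0x20000203)) (.leaf (nat_lit 0x30000c02))) (.node 1 (.leaf (nat_lit 0x0)) (.leaf (nat_lit 0x0))))))) (.node 16 (.node 8 (.node 4 (.node 2 (.node 1 (.leaf (nat_lit 0x50001500)) (.leaf (nat_lit 0x0))) (.node 1 (.leaf (nat_lit 0x0)) (.leaf (nat_lit 0x0)))) (.node 2 (.node 1 (.leaf (nat_lit 0x30007e00)) (.leaf (nat_lit 0x40002d02))) (.node 1 (.leaf (nat_lit 0x0)) (.leaf (nat_lit 0x0))))) (.node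 4 (.node 2 (.node 1 (.leaf (nat_lit 0x0)) (.leaf (nat_lit 0x30000c00))) (.node 1 (.leaf (nat_lit 0x0)) (.leaf (nat_lit 0x0)))) (.node 2 (.node 1 (.leaf (nat_lit 0x0)) (.leaf (nat_lit 0x30000c04))) (.node 1 (.leaf (nat_lit 0x0)) (.leaf (nat_lit 0x0)))))) (.node 8 (.node 4 (.node 2 (.node 1 (.leaf (nat_lit 0x0)) (.leaf (nat_lit 0x0))) (.node 1 (.leaf (nat_lit 0x30000703)) (.leaf (nat_lit 0x30000701)))) (.node 2 (.node 1 (.leaf (nat_lit 0x0)) (.leaf (nat_lit 0x0))) (.node 1 (.leaf (nat_lit 0x0)) (.leaf (nat_lit 0x0))))) (.node 4 (.node 2 (.node 1 (.leaf (nat_lit 0x0)) (.leaf (nat_lit 0x0))) (.node 1 (.leaf (nat_lit 0x20000202)) (.leaf (nat_lit 0x0)))) (.node 2 (.node 1 (.leaf (nat_lit 0x0)) (.leaf (nat_lit 0x0))) (.node 1 (.leaf (nat_lit 0x0)) (.leaf (nat_lit 0x0)))))))) (.node 32 (.node 16 (.node 8 (.node 4 (.node 2 (.node 1 (.leaf (nat_lit 0x0)) (.leaf (nat_lit 0x0))) (.node 1 (.leaf (nat_lit 0x0)) (.leaf (nat_lit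 0x0)))) (.node 2 (.node 1 (.leaf (nat_lit 0x40001d00)) (.leaf (nat_lit 0x0))) (.node 1 (.leaf (nat_lit 0x30001c00)) (.leaf (nat_lit 0x0))))) (.node 4 (.node 2 (.node 1 (.leaf (nat_lit 0x0)) (.leaf (nat_lit 0x0))) (.node 1 (.leaf (nat_lit 0x0)) (.leaf (nat_lit 0x0)))) (.node 2 (.node 1 (.leaf (nat_lit 0x0)) (.leaf (nat_lit 0x0))) (.node 1 (.leaf (nat_lit 0x0)) (.leaf (nat_lit 0x0)))))) (.node 8 (.node 4 (.node 2 (.node 1 (.leaf (nat_lit 0x0)) (.leaf (nat_lit 0x0))) (.node 1 (.leaf (nat_lit 0x0)) (.leaf (nat_lit 0x0)))) (.node 2 (.node 1 (.leaf (nat_lit 0x0)) (.leaf (nat_lit 0x0))) (.node 1 (.leaf (nat_lit 0x0)) (.leaf (nat_lit 0x0))))) (.node 4 (.node 2 (.node 1 (.leaf (nat_lit 0x0)) (.leaf (nat_lit 0x0))) (.node 1 (.leaf (nat_lit 0x0)) (.leaf (nat_lit 0x0)))) (.node 2 (.node 1 (.leaf (nat_lit 0x0)) (.leaf (nat_lit 0x40003201))) (.node 1 (.leaf (nat_lit 0x0)) (.leaf (nat_lit 0x0))))))) (.node 16 (.node 8 (.node 4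 (.node 2 (.node 1 (.leaf (nat_lit 0x0)) (.leaf (nat_lit 0x0))) (.node 1 (.leaf (nat_lit 0x0)) (.leaf (nat_lit 0x0)))) (.node 2 (.node 1 (.leaf (nat_lit 0x0)) (.leaf (nat_lit 0x0))) (.node 1 (.leaf (nat_lit 0x0)) (.leaf (nat_lit 0x0))))) (.node 4 (.node 2 (.node 1 (.leaf (nat_lit 0x0)) (.leaf (nat_lit 0x0))) (.node 1 (.leaf (nat_lit 0x0)) (.leaf (nat_lit 0x0)))) (.node 2 (.node 1 (.leaf (nat_lit 0x0)) (.leaf (nat_lit 0x0))) (.node 1 (.leaf (nat_lit 0x0)) (.leaf (nat_lit 0x0)))))) (.node 8 (.node 4 (.node 2 (.node 1 (.leaf (nat_lit 0x0)) (.leaf (nat_lit 0x0))) (.node 1 (.leaf (nat_lit 0x0)) (.leaf (nat_lit 0x0)))) (.node 2 (.node 1 (.leaf (nat_lit 0x0)) (.leaf (nat_lit 0x0))) (.node 1 (.leaf (nat_lit 0x0)) (.leaf (nat_lit 0x0))))) (.node 4 (.node 2 (.node 1 (.leaf (nat_lit 0x0)) (.leaf (nat_lit 0x0))) (.node 1 (.leaf (nat_lit 0x0)) (.leaf (nat_lit 0x0)))) (.node 2 (.node 1 (.leaf (nat_lit 0x0)) (.leaf (nat_lit 0x0)))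 (.node 1 (.leaf (nat_lit 0x20000204)) (.leaf (nat_lit 0x0))))))))

noncomputable def lvO2_1 : Tree :=
  .node 64 (.node 32 (.node 16 (.node 8 (.node 4 (.node 2 (.node 1 (.leaf (nat_lit 0x0)) (.leaf (nat_lit 0x0))) (.node 1 (.leaf (nat_lit 0x0)) (.leaf (nat_lit 0x0)))) (.node 2 (.node 1 (.leaf (nat_lit 0x0)) (.leaf (nat_lit 0x0))) (.node 1 (.leaf (nat_lit 0x0)) (.leaf (nat_lit 0x0))))) (.node 4 (.node 2 (.node 1 (.leaf (nat_lit 0x0)) (.leaf (nat_lit 0x0))) (.node 1 (.leaf (nat_lit 0x0)) (.leaf (nat_lit 0x0)))) (.node 2 (.node 1 (.leaf (nat_lit 0x0)) (.leaf (nat_lit 0x0))) (.node 1 (.leaf (nat_lit 0x0)) (.leaf (nat_lit 0x0)))))) (.node 8 (.node 4 (.node 2 (.node 1 (.leaf (nat_lit 0x0)) (.leaf (nat_lit 0x0))) (.node 1 (.leaf (nat_lit 0x0)) (.leaf (nat_lit 0x0)))) (.node 2 (.node 1 (.leaf (nat_lit 0x0)) (.leaf (nat_lit 0x0))) (.node 1 (.leaf (nat_lit 0x0)) (.leaf (nat_lit 0x0))))) (.node 4 (.node 2 (.node 1 (.leaf (nat_lit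 0x0)) (.leaf (nat_lit 0x0))) (.node 1 (.leaf (nat_lit 0x0)) (.leaf (nat_lit 0x0)))) (.node 2 (.node 1 (.leaf (nat_lit 0x0)) (.leaf (nat_lit 0x0))) (.node 1 (.leaf (nat_lit 0x0)) (.leaf (nat_lit 0x0))))))) (.node 16 (.node 8 (.node 4 (.node 2 (.node 1 (.leaf (nat_lit 0x0)) (.leaf (nat_lit 0x0))) (.node 1 (.leaf (nat_lit 0x0)) (.leaf (nat_lit 0x0)))) (.node 2 (.node 1 (.leaf (nat_lit 0x0)) (.leaf (nat_lit 0x0))) (.node 1 (.leaf (nat_lit 0x0)) (.leaf (nat_lit 0x0))))) (.node 4 (.node 2 (.node 1 (.leaf (nat_lit 0x0)) (.leaf (nat_lit 0x0))) (.node 1 (.leaf (nat_lit 0x0)) (.leaf (nat_lit 0x0)))) (.node 2 (.node 1 (.leaf (nat_lit 0x0)) (.leaf (nat_lit 0x0))) (.node 1 (.leaf (nat_lit 0x0)) (.leaf (nat_lit 0x0)))))) (.node 8 (.node 4 (.node 2 (.node 1 (.leaf (nat_lit 0x0)) (.leaf (nat_lit 0x0))) (.node 1 (.leaf (nat_lit 0x0)) (.leaf (nat_lit 0x0)))) (.node 2 (.node 1 (.leaf (nat_lit 0x0)) (.leaf (nat_lit 0x0))) (.node 1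 (.leaf (nat_lit 0x0)) (.leaf (nat_lit 0x0))))) (.node 4 (.node 2 (.node 1 (.leaf (nat_lit 0x0)) (.leaf (nat_lit 0x0))) (.node 1 (.leaf (nat_lit 0x0)) (.leaf (nat_lit 0x0)))) (.node 2 (.node 1 (.leaf (nat_lit 0x0)) (.leaf (nat_lit 0x0))) (.node 1 (.leaf (nat_lit 0x0)) (.leaf (nat_lit 0x0)))))))) (.node 32 (.node 16 (.node 8 (.node 4 (.node 2 (.node 1 (.leaf (nat_lit 0x0)) (.leaf (nat_lit 0x0))) (.node 1 (.leaf (nat_lit 0x0)) (.leaf (nat_lit 0x0)))) (.node 2 (.node 1 (.leaf (nat_lit 0x0)) (.leaf (nat_lit 0x0))) (.node 1 (.leaf (nat_lit 0x0)) (.leaf (nat_lit 0x0))))) (.node 4 (.node 2 (.node 1 (.leaf (nat_lit 0x0)) (.leaf (nat_lit 0x0))) (.node 1 (.leaf (nat_lit 0x0)) (.leaf (nat_lit 0x0)))) (.node 2 (.node 1 (.leaf (nat_lit 0x0)) (.leaf (nat_lit 0x0))) (.node 1 (.leaf (nat_lit 0x0)) (.leaf (nat_lit 0x0)))))) (.node 8 (.node 4 (.node 2 (.node 1 (.leaf (nat_lit 0x0)) (.leaf (nat_lit 0x0))) (.node 1 (.leaf (nat_lit 0x0))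 (.leaf (nat_lit 0x0)))) (.node 2 (.node 1 (.leaf (nat_lit 0x0)) (.leaf (nat_lit 0x0))) (.node 1 (.leaf (nat_lit 0x0)) (.leaf (nat_lit 0x0))))) (.node 4 (.node 2 (.node 1 (.leaf (nat_lit 0x0)) (.leaf (nat_lit 0x0))) (.node 1 (.leaf (nat_lit 0x0)) (.leaf (nat_lit 0x0)))) (.node 2 (.node 1 (.leaf (nat_lit 0x0)) (.leaf (nat_lit 0x0))) (.node 1 (.leaf (nat_lit 0x0)) (.leaf (nat_lit 0x0))))))) (.node 16 (.node 8 (.node 4 (.node 2 (.node 1 (.leaf (nat_lit 0x0)) (.leaf (nat_lit 0x0))) (.node 1 (.leaf (nat_lit 0x0)) (.leaf (nat_lit 0x0)))) (.node 2 (.node 1 (.leaf (nat_lit 0x0)) (.leaf (nat_lit 0x0))) (.node 1 (.leaf (nat_lit 0x0)) (.leaf (nat_lit 0x0))))) (.node 4 (.node 2 (.node 1 (.leaf (nat_lit 0x0)) (.leaf (nat_lit 0x0))) (.node 1 (.leaf (nat_lit 0x0)) (.leaf (nat_lit 0x0)))) (.node 2 (.node 1 (.leaf (nat_lit 0x0)) (.leaf (nat_lit 0x0))) (.node 1 (.leaf (nat_lit 0x0)) (.leaf (nat_lit 0x0)))))) (.node 8 (.node 4 (.node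 2 (.node 1 (.leaf (nat_lit 0x0)) (.leaf (nat_lit 0x0))) (.node 1 (.leaf (nat_lit 0x0)) (.leaf (nat_lit 0x0)))) (.node 2 (.node 1 (.leaf (nat_lit 0x0)) (.leaf (nat_lit 0x0))) (.node 1 (.leaf (nat_lit 0x0)) (.leaf (nat_lit 0x0))))) (.node 4 (.node 2 (.node 1 (.leaf (nat_lit 0x0)) (.leaf (nat_lit 0x0))) (.node 1 (.leaf (nat_lit 0x0)) (.leaf (nat_lit 0x0)))) (.node 2 (.node 1 (.leaf (nat_lit 0x0)) (.leaf (nat_lit 0x0))) (.node 1 (.leaf (nat_lit 0x0)) (.leaf (nat_lit 0x0))))))))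

noncomputable def lvO2_2 : Tree :=
  .node 64 (.node 32 (.node 16 (.node 8 (.node 4 (.node 2 (.node 1 (.leaf (nat_lit 0x0)) (.leaf (nat_lit 0x0))) (.node 1 (.leaf (nat_lit 0x0)) (.leaf (nat_lit 0x0)))) (.node 2 (.node 1 (.leaf (nat_lit 0x0)) (.leaf (nat_lit 0x0))) (.node 1 (.leaf (nat_lit 0x0)) (.leaf (nat_lit 0x0))))) (.node 4 (.node 2 (.node 1 (.leaf (nat_lit 0x0)) (.leaf (nat_lit 0x0))) (.node 1 (.leaf (nat_lit 0x0)) (.leaf (nat_lit 0x0)))) (.node 2 (.node 1 (.leaf (nat_lit 0x0)) (.leaf (nat_lit 0x0))) (.node 1 (.leaf (nat_lit 0x0)) (.leaf (nat_lit 0x0)))))) (.node 8 (.node 4 (.node 2 (.node 1 (.leaf (nat_lit 0x0)) (.leaf (nat_lit 0x0))) (.node 1 (.leaf (nat_lit 0x0)) (.leaf (nat_lit 0x0)))) (.node 2 (.node 1 (.leaf (nat_lit 0x0)) (.leaf (nat_lit 0x0))) (.node 1 (.leaf (nat_lit 0x0)) (.leaf (nat_lit 0x0))))) (.node 4 (.node 2 (.node 1 (.leaf (nat_lit 0x0)) (.leaf (nat_lit 0x0))) (.node 1 (.leaf (nat_lit 0x0))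 (.leaf (nat_lit 0x0)))) (.node 2 (.node 1 (.leaf (nat_lit 0x0)) (.leaf (nat_lit 0x0))) (.node 1 (.leaf (nat_lit 0x0)) (.leaf (nat_lit 0x0))))))) (.node 16 (.node 8 (.node 4 (.node 2 (.node 1 (.leaf (nat_lit 0x0)) (.leaf (nat_lit 0x0))) (.node 1 (.leaf (nat_lit 0x0)) (.leaf (nat_lit 0x0)))) (.node 2 (.node 1 (.leaf (nat_lit 0x0)) (.leaf (nat_lit 0x0))) (.node 1 (.leaf (nat_lit 0x0)) (.leaf (nat_lit 0x0))))) (.node 4 (.node 2 (.node 1 (.leaf (nat_lit 0x0)) (.leaf (nat_lit 0x0))) (.node 1 (.leaf (nat_lit 0x0)) (.leaf (nat_lit 0x0)))) (.node 2 (.node 1 (.leaf (nat_lit 0x0)) (.leaf (nat_lit 0x0))) (.node 1 (.leaf (nat_lit 0x0)) (.leaf (nat_lit 0x0)))))) (.node 8 (.node 4 (.node 2 (.node 1 (.leaf (nat_lit 0x0)) (.leaf (nat_lit 0x0))) (.node 1 (.leaf (nat_lit 0x0)) (.leaf (nat_lit 0x0)))) (.node 2 (.node 1 (.leaf (nat_lit 0x0)) (.leaf (nat_lit 0x0))) (.node 1 (.leaf (nat_lit 0x0)) (.leaf (nat_lit 0x0))))) (.node 4 (.node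 2 (.node 1 (.leaf (nat_lit 0x0)) (.leaf (nat_lit 0x0))) (.node 1 (.leaf (nat_lit 0x0)) (.leaf (nat_lit 0x0)))) (.node 2 (.node 1 (.leaf (nat_lit 0x0)) (.leaf (nat_lit 0x0))) (.node 1 (.leaf (nat_lit 0x0)) (.leaf (nat_lit 0x0)))))))) (.node 32 (.node 16 (.node 8 (.node 4 (.node 2 (.node 1 (.leaf (nat_lit 0x0)) (.leaf (nat_lit 0x0))) (.node 1 (.leaf (nat_lit 0x0)) (.leaf (nat_lit 0x0)))) (.node 2 (.node 1 (.leaf (nat_lit 0x0)) (.leaf (nat_lit 0x0))) (.node 1 (.leaf (nat_lit 0x0)) (.leaf (nat_lit 0x0))))) (.node 4 (.node 2 (.node 1 (.leaf (nat_lit 0x0)) (.leaf (nat_lit 0x0))) (.node 1 (.leaf (nat_lit 0x0)) (.leaf (nat_lit 0x0)))) (.node 2 (.node 1 (.leaf (nat_lit 0x0)) (.leaf (nat_lit 0x0))) (.node 1 (.leaf (nat_lit 0x0)) (.leaf (nat_lit 0x0)))))) (.node 8 (.node 4 (.node 2 (.node 1 (.leaf (nat_lit 0x0)) (.leaf (nat_lit 0x0))) (.node 1 (.leaf (nat_lit 0x0)) (.leaf (nat_lit 0x0)))) (.node 2 (.node 1 (.leaf (nat_lit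 0x0)) (.leaf (nat_lit 0x0))) (.node 1 (.leaf (nat_lit 0x0)) (.leaf (nat_lit 0x0))))) (.node 4 (.node 2 (.node 1 (.leaf (nat_lit 0x0)) (.leaf (nat_lit 0x0))) (.node 1 (.leaf (nat_lit 0x0)) (.leaf (nat_lit 0x0)))) (.node 2 (.node 1 (.leaf (nat_lit 0x0)) (.leaf (nat_lit 0x0))) (.node 1 (.leaf (nat_lit 0x0)) (.leaf (nat_lit 0x0))))))) (.node 16 (.node 8 (.node 4 (.node 2 (.node 1 (.leaf (nat_lit 0x0)) (.leaf (nat_lit 0x0))) (.node 1 (.leaf (nat_lit 0x0)) (.leaf (nat_lit 0x0)))) (.node 2 (.node 1 (.leaf (nat_lit 0x0)) (.leaf (nat_lit 0x0))) (.node 1 (.leaf (nat_lit 0x0)) (.leaf (nat_lit 0x0))))) (.node 4 (.node 2 (.node 1 (.leaf (nat_lit 0x0)) (.leaf (nat_lit 0x0))) (.node 1 (.leaf (nat_lit 0x0)) (.leaf (nat_lit 0x0)))) (.node 2 (.node 1 (.leaf (nat_lit 0x0)) (.leaf (nat_lit 0x0))) (.node 1 (.leaf (nat_lit 0x0)) (.leaf (nat_lit 0x0)))))) (.node 8 (.node 4 (.node 2 (.node 1 (.leaf (nat_lit 0x0)) (.leaf (nat_lit 0x0)))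 (.node 1 (.leaf (nat_lit 0x0)) (.leaf (nat_lit 0x0)))) (.node 2 (.node 1 (.leaf (nat_lit 0x0)) (.leaf (nat_lit 0x0))) (.node 1 (.leaf (nat_lit 0x0)) (.leaf (nat_lit 0x0))))) (.node 4 (.node 2 (.node 1 (.leaf (nat_lit 0x0)) (.leaf (nat_lit 0x0))) (.node 1 (.leaf (nat_lit 0x0)) (.leaf (nat_lit 0x0)))) (.node 2 (.node 1 (.leaf (nat_lit 0x0)) (.leaf (nat_lit 0x0))) (.node 1 (.leaf (nat_lit 0x0)) (.leaf (nat_lit 0x0))))))))

noncomputable def lvO2_3 : Tree :=
  .node 64 (.node 32 (.node 16 (.node 8 (.node 4 (.node 2 (.node 1 (.leaf (nat_lit 0x0)) (.leaf (nat_lit 0x0))) (.node 1 (.leaf (nat_lit 0x0)) (.leaf (nat_lit 0x0)))) (.node 2 (.node 1 (.leaf (nat_lit 0x0)) (.leaf (nat_lit 0x0))) (.node 1 (.leaf (nat_lit 0x0)) (.leaf (nat_lit 0x0))))) (.node 4 (.node 2 (.node 1 (.leaf (nat_lit 0x0)) (.leaf (nat_lit 0x0))) (.node 1 (.leaf (nat_lit 0x0)) (.leaf (nat_lit 0x0)))) (.node 2 (.node 1 (.leaf (nat_lit 0x0)) (.leaf (nat_lit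 0x0))) (.node 1 (.leaf (nat_lit 0x0)) (.leaf (nat_lit 0x0)))))) (.node 8 (.node 4 (.node 2 (.node 1 (.leaf (nat_lit 0x0)) (.leaf (nat_lit 0x0))) (.node 1 (.leaf (nat_lit 0x0)) (.leaf (nat_lit 0x0)))) (.node 2 (.node 1 (.leaf (nat_lit 0x0)) (.leaf (nat_lit 0x0))) (.node 1 (.leaf (nat_lit 0x0)) (.leaf (nat_lit 0x0))))) (.node 4 (.node 2 (.node 1 (.leaf (nat_lit 0x0)) (.leaf (nat_lit 0x0))) (.node 1 (.leaf (nat_lit 0x0)) (.leaf (nat_lit 0x0)))) (.node 2 (.node 1 (.leaf (nat_lit 0x0)) (.leaf (nat_lit 0x0))) (.node 1 (.leaf (nat_lit 0x0)) (.leaf (nat_lit 0x0))))))) (.node 16 (.node 8 (.node 4 (.node 2 (.node 1 (.leaf (nat_lit 0x0)) (.leaf (nat_lit 0x0))) (.node 1 (.leaf (nat_lit 0x0)) (.leaf (nat_lit 0x0)))) (.node 2 (.node 1 (.leaf (nat_lit 0x0)) (.leaf (nat_lit 0x0))) (.node 1 (.leaf (nat_lit 0x0)) (.leaf (nat_lit 0x0))))) (.node 4 (.node 2 (.node 1 (.leaf (nat_lit 0x0)) (.leaf (nat_lit 0x0))) (.node 1 (.leaf (nat_lit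 0x0)) (.leaf (nat_lit 0x0)))) (.node 2 (.node 1 (.leaf (nat_lit 0x0)) (.leaf (nat_lit 0x0))) (.node 1 (.leaf (nat_lit 0x0)) (.leaf (nat_lit 0x0)))))) (.node 8 (.node 4 (.node 2 (.node 1 (.leaf (nat_lit 0x0)) (.leaf (nat_lit 0x0))) (.node 1 (.leaf (nat_lit 0x0)) (.leaf (nat_lit 0x0)))) (.node 2 (.node 1 (.leaf (nat_lit 0x0)) (.leaf (nat_lit 0x0))) (.node 1 (.leaf (nat_lit 0x0)) (.leaf (nat_lit 0x0))))) (.node 4 (.node 2 (.node 1 (.leaf (nat_lit 0x0)) (.leaf (nat_lit 0x0))) (.node 1 (.leaf (nat_lit 0x0)) (.leaf (nat_lit 0x0)))) (.node 2 (.node 1 (.leaf (nat_lit 0x0)) (.leaf (nat_lit 0x0))) (.node 1 (.leaf (nat_lit 0x0)) (.leaf (nat_lit 0x0)))))))) (.node 32 (.node 16 (.node 8 (.node 4 (.node 2 (.node 1 (.leaf (nat_lit 0x0)) (.leaf (nat_lit 0x0))) (.node 1 (.leaf (nat_lit 0x0)) (.leaf (nat_lit 0x0)))) (.node 2 (.node 1 (.leaf (nat_lit 0x0)) (.leaf (nat_lit 0x0))) (.node 1 (.leaf (nat_lit 0x0)) (.leaf (nat_lit 0x0)))))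 (.node 4 (.node 2 (.node 1 (.leaf (nat_lit 0x0)) (.leaf (nat_lit 0x0))) (.node 1 (.leaf (nat_lit 0x0)) (.leaf (nat_lit 0x0)))) (.node 2 (.node 1 (.leaf (nat_lit 0x0)) (.leaf (nat_lit 0x0))) (.node 1 (.leaf (nat_lit 0x0)) (.leaf (nat_lit 0x0)))))) (.node 8 (.node 4 (.node 2 (.node 1 (.leaf (nat_lit 0x0)) (.leaf (nat_lit 0x0))) (.node 1 (.leaf (nat_lit 0x0)) (.leaf (nat_lit 0x0)))) (.node 2 (.node 1 (.leaf (nat_lit 0x0)) (.leaf (nat_lit 0x0))) (.node 1 (.leaf (nat_lit 0x0)) (.leaf (nat_lit 0x0))))) (.node 4 (.node 2 (.node 1 (.leaf (nat_lit 0x0)) (.leaf (nat_lit 0x0))) (.node 1 (.leaf (nat_lit 0x0)) (.leaf (nat_lit 0x0)))) (.node 2 (.node 1 (.leaf (nat_lit 0x0)) (.leaf (nat_lit 0x0))) (.node 1 (.leaf (nat_lit 0x0)) (.leaf (nat_lit 0x0))))))) (.node 16 (.node 8 (.node 4 (.node 2 (.node 1 (.leaf (nat_lit 0x0)) (.leaf (nat_lit 0x0))) (.node 1 (.leaf (nat_lit 0x0)) (.leaf (nat_lit 0x0)))) (.node 2 (.node 1 (.leaf (nat_lit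 0x0)) (.leaf (nat_lit 0x0))) (.node 1 (.leaf (nat_lit 0x0)) (.leaf (nat_lit 0x0))))) (.node 4 (.node 2 (.node 1 (.leaf (nat_lit 0x0)) (.leaf (nat_lit 0x0))) (.node 1 (.leaf (nat_lit 0x0)) (.leaf (nat_lit 0x0)))) (.node 2 (.node 1 (.leaf (nat_lit 0x0)) (.leaf (nat_lit 0x0))) (.node 1 (.leaf (nat_lit 0x0)) (.leaf (nat_lit 0x0)))))) (.node 8 (.node 4 (.node 2 (.node 1 (.leaf (nat_lit 0x0)) (.leaf (nat_lit 0x0))) (.node 1 (.leaf (nat_lit 0x0)) (.leaf (nat_lit 0x0)))) (.node 2 (.node 1 (.leaf (nat_lit 0x0)) (.leaf (nat_lit 0x0))) (.node 1 (.leaf (nat_lit 0x0)) (.leaf (nat_lit 0x0))))) (.node 4 (.node 2 (.node 1 (.leaf (nat_lit 0x0)) (.leaf (nat_lit 0x0))) (.node 1 (.leaf (nat_lit 0x0)) (.leaf (nat_lit 0x0)))) (.node 2 (.node 1 (.leaf (nat_lit 0x0)) (.leaf (nat_lit 0x0))) (.node 1 (.leaf (nat_lit 0x0)) (.leaf (nat_lit 0x0))))))))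

noncomputable def lvO2_4 : Tree :=
  .node 64 (.node 32 (.node 16 (.node 8 (.node 4 (.node 2 (.node 1 (.leaf (nat_lit 0x0)) (.leaf (nat_lit 0x0))) (.node 1 (.leaf (nat_lit 0x0)) (.leaf (nat_lit 0x0)))) (.node 2 (.node 1 (.leaf (nat_lit 0x0)) (.leaf (nat_lit 0x0))) (.node 1 (.leaf (nat_lit 0x0)) (.leaf (nat_lit 0x0))))) (.node 4 (.node 2 (.node 1 (.leaf (nat_lit 0x0)) (.leaf (nat_lit 0x0))) (.node 1 (.leaf (nat_lit 0x0)) (.leaf (nat_lit 0x0)))) (.node 2 (.node 1 (.leaf (nat_lit 0x0)) (.leaf (nat_lit 0x0))) (.node 1 (.leaf (nat_lit 0x0)) (.leaf (nat_lit 0x0)))))) (.node 8 (.node 4 (.node 2 (.node 1 (.leaf (nat_lit 0x0)) (.leaf (nat_lit 0x0))) (.node 1 (.leaf (nat_lit 0x0)) (.leaf (nat_lit 0x0)))) (.node 2 (.node 1 (.leaf (nat_lit 0x0)) (.leaf (nat_lit 0x0))) (.node 1 (.leaf (nat_lit 0x0)) (.leaf (nat_lit 0x0))))) (.node 4 (.node 2 (.node 1 (.leaf (nat_lit 0x0)) (.leaf (nat_lit 0x0))) (.node 1 (.leaf (nat_lit 0x0))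 (.leaf (nat_lit 0x0)))) (.node 2 (.node 1 (.leaf (nat_lit 0x0)) (.leaf (nat_lit 0x0))) (.node 1 (.leaf (nat_lit 0x0)) (.leaf (nat_lit 0x0))))))) (.node 16 (.node 8 (.node 4 (.node 2 (.node 1 (.leaf (nat_lit 0x0)) (.leaf (nat_lit 0x0))) (.node 1 (.leaf (nat_lit 0x0)) (.leaf (nat_lit 0x0)))) (.node 2 (.node 1 (.leaf (nat_lit 0x0)) (.leaf (nat_lit 0x0))) (.node 1 (.leaf (nat_lit 0x0)) (.leaf (nat_lit 0x0))))) (.node 4 (.node 2 (.node 1 (.leaf (nat_lit 0x0)) (.leaf (nat_lit 0x0))) (.node 1 (.leaf (nat_lit 0x0)) (.leaf (nat_lit 0x0)))) (.node 2 (.node 1 (.leaf (nat_lit 0x0)) (.leaf (nat_lit 0x0))) (.node 1 (.leaf (nat_lit 0x0)) (.leaf (nat_lit 0x0)))))) (.node 8 (.node 4 (.node 2 (.node 1 (.leaf (nat_lit 0x0)) (.leaf (nat_lit 0x0))) (.node 1 (.leaf (nat_lit 0x0)) (.leaf (nat_lit 0x0)))) (.node 2 (.node 1 (.leaf (nat_lit 0x0)) (.leaf (nat_lit 0x0))) (.node 1 (.leaf (nat_lit 0x0)) (.leaf (nat_lit 0x0))))) (.node 4 (.node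 2 (.node 1 (.leaf (nat_lit 0x0)) (.leaf (nat_lit 0x0))) (.node 1 (.leaf (nat_lit 0x0)) (.leaf (nat_lit 0x0)))) (.node 2 (.node 1 (.leaf (nat_lit 0x0)) (.leaf (nat_lit 0x0))) (.node 1 (.leaf (nat_lit 0x0)) (.leaf (nat_lit 0x0)))))))) (.node 32 (.node 16 (.node 8 (.node 4 (.node 2 (.node 1 (.leaf (nat_lit 0x0)) (.leaf (nat_lit 0x0))) (.node 1 (.leaf (nat_lit 0x0)) (.leaf (nat_lit 0x0)))) (.node 2 (.node 1 (.leaf (nat_lit 0x0)) (.leaf (nat_lit 0x0))) (.node 1 (.leaf (nat_lit 0x0)) (.leaf (nat_lit 0x0))))) (.node 4 (.node 2 (.node 1 (.leaf (nat_lit 0x0)) (.leaf (nat_lit 0x0))) (.node 1 (.leaf (nat_lit 0x0)) (.leaf (nat_lit 0x0)))) (.node 2 (.node 1 (.leaf (nat_lit 0x0)) (.leaf (nat_lit 0x0))) (.node 1 (.leaf (nat_lit 0x0)) (.leaf (nat_lit 0x0)))))) (.node 8 (.node 4 (.node 2 (.node 1 (.leaf (nat_lit 0x0)) (.leaf (nat_lit 0x0))) (.node 1 (.leaf (nat_lit 0x0)) (.leaf (nat_lit 0x0)))) (.node 2 (.node 1 (.leaf (nat_lit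 0x0)) (.leaf (nat_lit 0x0))) (.node 1 (.leaf (nat_lit 0x0)) (.leaf (nat_lit 0x0))))) (.node 4 (.node 2 (.node 1 (.leaf (nat_lit 0x0)) (.leaf (nat_lit 0x0))) (.node 1 (.leaf (nat_lit 0x0)) (.leaf (nat_lit 0x0)))) (.node 2 (.node 1 (.leaf (nat_lit 0x0)) (.leaf (nat_lit 0x0))) (.node 1 (.leaf (nat_lit 0x0)) (.leaf (nat_lit 0x0))))))) (.node 16 (.node 8 (.node 4 (.node 2 (.node 1 (.leaf (nat_lit 0x0)) (.leaf (nat_lit 0x0))) (.node 1 (.leaf (nat_lit 0x0)) (.leaf (nat_lit 0x0)))) (.node 2 (.node 1 (.leaf (nat_lit 0x0)) (.leaf (nat_lit 0x0))) (.node 1 (.leaf (nat_lit 0x0)) (.leaf (nat_lit 0x0))))) (.node 4 (.node 2 (.node 1 (.leaf (nat_lit 0x0)) (.leaf (nat_lit 0x0))) (.node 1 (.leaf (nat_lit 0x0)) (.leaf (nat_lit 0x0)))) (.node 2 (.node 1 (.leaf (nat_lit 0x0)) (.leaf (nat_lit 0x0))) (.node 1 (.leaf (nat_lit 0x0)) (.leaf (nat_lit 0x0)))))) (.node 8 (.node 4 (.node 2 (.node 1 (.leaf (nat_lit 0x0)) (.leaf (nat_lit 0x0)))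 (.node 1 (.leaf (nat_lit 0x0)) (.leaf (nat_lit 0x0)))) (.node 2 (.node 1 (.leaf (nat_lit 0x0)) (.leaf (nat_lit 0x0))) (.node 1 (.leaf (nat_lit 0x0)) (.leaf (nat_lit 0x0))))) (.node 4 (.node 2 (.node 1 (.leaf (nat_lit 0x0)) (.leaf (nat_lit 0x0))) (.node 1 (.leaf (nat_lit 0x0)) (.leaf (nat_lit 0x0)))) (.node 2 (.node 1 (.leaf (nat_lit 0x0)) (.leaf (nat_lit 0x0))) (.node 1 (.leaf (nat_lit 0x0)) (.leaf (nat_lit 0x0))))))))

noncomputable def lvO2_5 : Tree :=
  .node 64 (.node 32 (.node 16 (.node 8 (.node 4 (.node 2 (.node 1 (.leaf (nat_lit 0x0)) (.leaf (nat_lit 0x0))) (.node 1 (.leaf (nat_lit 0x0)) (.leaf (nat_lit 0x0)))) (.node 2 (.node 1 (.leaf (nat_lit 0x0)) (.leaf (nat_lit 0x0))) (.node 1 (.leaf (nat_lit 0x0)) (.leaf (nat_lit 0x0))))) (.node 4 (.node 2 (.node 1 (.leaf (nat_lit 0x0)) (.leaf (nat_lit 0x0))) (.node 1 (.leaf (nat_lit 0x0)) (.leaf (nat_lit 0x0)))) (.node 2 (.node 1 (.leaf (nat_lit 0x0)) (.leaf (nat_lit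 0x0))) (.node 1 (.leaf (nat_lit 0x0)) (.leaf (nat_lit 0x0)))))) (.node 8 (.node 4 (.node 2 (.node 1 (.leaf (nat_lit 0x0)) (.leaf (nat_lit 0x0))) (.node 1 (.leaf (nat_lit 0x0)) (.leaf (nat_lit 0x0)))) (.node 2 (.node 1 (.leaf (nat_lit 0x0)) (.leaf (nat_lit 0x0))) (.node 1 (.leaf (nat_lit 0x0)) (.leaf (nat_lit 0x0))))) (.node 4 (.node 2 (.node 1 (.leaf (nat_lit 0x0)) (.leaf (nat_lit 0x0))) (.node 1 (.leaf (nat_lit 0x0)) (.leaf (nat_lit 0x0)))) (.node 2 (.node 1 (.leaf (nat_lit 0x0)) (.leaf (nat_lit 0x0))) (.node 1 (.leaf (nat_lit 0x0)) (.leaf (nat_lit 0x0))))))) (.node 16 (.node 8 (.node 4 (.node 2 (.node 1 (.leaf (nat_lit 0x0)) (.leaf (nat_lit 0x0))) (.node 1 (.leaf (nat_lit 0x0)) (.leaf (nat_lit 0x0)))) (.node 2 (.node 1 (.leaf (nat_lit 0x0)) (.leaf (nat_lit 0x0))) (.node 1 (.leaf (nat_lit 0x0)) (.leaf (nat_lit 0x0))))) (.node 4 (.node 2 (.node 1 (.leaf (nat_lit 0x0)) (.leaf (nat_lit 0x0))) (.node 1 (.leaf (nat_lit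 0x0)) (.leaf (nat_lit 0x0)))) (.node 2 (.node 1 (.leaf (nat_lit 0x0)) (.leaf (nat_lit 0x0))) (.node 1 (.leaf (nat_lit 0x0)) (.leaf (nat_lit 0x0)))))) (.node 8 (.node 4 (.node 2 (.node 1 (.leaf (nat_lit 0x0)) (.leaf (nat_lit 0x0))) (.node 1 (.leaf (nat_lit 0x0)) (.leaf (nat_lit 0x0)))) (.node 2 (.node 1 (.leaf (nat_lit 0x0)) (.leaf (nat_lit 0x0))) (.node 1 (.leaf (nat_lit 0x0)) (.leaf (nat_lit 0x0))))) (.node 4 (.node 2 (.node 1 (.leaf (nat_lit 0x0)) (.leaf (nat_lit 0x0))) (.node 1 (.leaf (nat_lit 0x0)) (.leaf (nat_lit 0x0)))) (.node 2 (.node 1 (.leaf (nat_lit 0x0)) (.leaf (nat_lit 0x0))) (.node 1 (.leaf (nat_lit 0x0)) (.leaf (nat_lit 0x0)))))))) (.node 32 (.node 16 (.node 8 (.node 4 (.node 2 (.node 1 (.leaf (nat_lit 0x0)) (.leaf (nat_lit 0x0))) (.node 1 (.leaf (nat_lit 0x0)) (.leaf (nat_lit 0x0)))) (.node 2 (.node 1 (.leaf (nat_lit 0x0)) (.leaf (nat_lit 0x0))) (.node 1 (.leaf (nat_lit 0x0)) (.leaf (nat_lit 0x0)))))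 (.node 4 (.node 2 (.node 1 (.leaf (nat_lit 0x0)) (.leaf (nat_lit 0x0))) (.node 1 (.leaf (nat_lit 0x0)) (.leaf (nat_lit 0x0)))) (.node 2 (.node 1 (.leaf (nat_lit 0x0)) (.leaf (nat_lit 0x0))) (.node 1 (.leaf (nat_lit 0x0)) (.leaf (nat_lit 0x0)))))) (.node 8 (.node 4 (.node 2 (.node 1 (.leaf (nat_lit 0x0)) (.leaf (nat_lit 0x0))) (.node 1 (.leaf (nat_lit 0x0)) (.leaf (nat_lit 0x0)))) (.node 2 (.node 1 (.leaf (nat_lit 0x0)) (.leaf (nat_lit 0x0))) (.node 1 (.leaf (nat_lit 0x0)) (.leaf (nat_lit 0x0))))) (.node 4 (.node 2 (.node 1 (.leaf (nat_lit 0x0)) (.leaf (nat_lit 0x0))) (.node 1 (.leaf (nat_lit 0x0)) (.leaf (nat_lit 0x0)))) (.node 2 (.node 1 (.leaf (nat_lit 0x0)) (.leaf (nat_lit 0x0))) (.node 1 (.leaf (nat_lit 0x0)) (.leaf (nat_lit 0x0))))))) (.node 16 (.node 8 (.node 4 (.node 2 (.node 1 (.leaf (nat_lit 0x0)) (.leaf (nat_lit 0x0))) (.node 1 (.leaf (nat_lit 0x0)) (.leaf (nat_lit 0x0)))) (.node 2 (.node 1 (.leaf (nat_lit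 0x0)) (.leaf (nat_lit 0x0))) (.node 1 (.leaf (nat_lit 0x0)) (.leaf (nat_lit 0x0))))) (.node 4 (.node 2 (.node 1 (.leaf (nat_lit 0x0)) (.leaf (nat_lit 0x0))) (.node 1 (.leaf (nat_lit 0x0)) (.leaf (nat_lit 0x0)))) (.node 2 (.node 1 (.leaf (nat_lit 0x0)) (.leaf (nat_lit 0x0))) (.node 1 (.leaf (nat_lit 0x0)) (.leaf (nat_lit 0x0)))))) (.node 8 (.node 4 (.node 2 (.node 1 (.leaf (nat_lit 0x0)) (.leaf (nat_lit 0x0))) (.node 1 (.leaf (nat_lit 0x0)) (.leaf (nat_lit 0x0)))) (.node 2 (.node 1 (.leaf (nat_lit 0x0)) (.leaf (nat_lit 0x0))) (.node 1 (.leaf (nat_lit 0x0)) (.leaf (nat_lit 0x0))))) (.node 4 (.node 2 (.node 1 (.leaf (nat_lit 0x0)) (.leaf (nat_lit 0x0))) (.node 1 (.leaf (nat_lit 0x0)) (.leaf (nat_lit 0x0)))) (.node 2 (.node 1 (.leaf (nat_lit 0x0)) (.leaf (nat_lit 0x0))) (.node 1 (.leaf (nat_lit 0x0)) (.leaf (nat_lit 0x0))))))))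

noncomputable def lvO2_6 : Tree :=
  .node 64 (.node 32 (.node 16 (.node 8 (.node 4 (.node 2 (.node 1 (.leaf (nat_lit 0x0)) (.leaf (nat_lit 0x0))) (.node 1 (.leaf (nat_lit 0x0)) (.leaf (nat_lit 0x0)))) (.node 2 (.node 1 (.leaf (nat_lit 0x0)) (.leaf (nat_lit 0x0))) (.node 1 (.leaf (nat_lit 0x0)) (.leaf (nat_lit 0x0))))) (.node 4 (.node 2 (.node 1 (.leaf (nat_lit 0x0)) (.leaf (nat_lit 0x0))) (.node 1 (.leaf (nat_lit 0x0)) (.leaf (nat_lit 0x0)))) (.node 2 (.node 1 (.leaf (nat_lit 0x0)) (.leaf (nat_lit 0x0))) (.node 1 (.leaf (nat_lit 0x0)) (.leaf (nat_lit 0x0)))))) (.node 8 (.node 4 (.node 2 (.node 1 (.leaf (nat_lit 0x0)) (.leaf (nat_lit 0x0))) (.node 1 (.leaf (nat_lit 0x0)) (.leaf (nat_lit 0x0)))) (.node 2 (.node 1 (.leaf (nat_lit 0x0)) (.leaf (nat_lit 0x0))) (.node 1 (.leaf (nat_lit 0x0)) (.leaf (nat_lit 0x0))))) (.node 4 (.node 2 (.node 1 (.leaf (nat_lit 0x0)) (.leaf (nat_lit 0x0))) (.node 1 (.leaf (nat_lit 0x0))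 (.leaf (nat_lit 0x0)))) (.node 2 (.node 1 (.leaf (nat_lit 0x0)) (.leaf (nat_lit 0x0))) (.node 1 (.leaf (nat_lit 0x0)) (.leaf (nat_lit 0x0))))))) (.node 16 (.node 8 (.node 4 (.node 2 (.node 1 (.leaf (nat_lit 0x0)) (.leaf (nat_lit 0x0))) (.node 1 (.leaf (nat_lit 0x0)) (.leaf (nat_lit 0x0)))) (.node 2 (.node 1 (.leaf (nat_lit 0x0)) (.leaf (nat_lit 0x0))) (.node 1 (.leaf (nat_lit 0x0)) (.leaf (nat_lit 0x0))))) (.node 4 (.node 2 (.node 1 (.leaf (nat_lit 0x0)) (.leaf (nat_lit 0x0))) (.node 1 (.leaf (nat_lit 0x0)) (.leaf (nat_lit 0x0)))) (.node 2 (.node 1 (.leaf (nat_lit 0x0)) (.leaf (nat_lit 0x0))) (.node 1 (.leaf (nat_lit 0x0)) (.leaf (nat_lit 0x0)))))) (.node 8 (.node 4 (.node 2 (.node 1 (.leaf (nat_lit 0x0)) (.leaf (nat_lit 0x0))) (.node 1 (.leaf (nat_lit 0x0)) (.leaf (nat_lit 0x0)))) (.node 2 (.node 1 (.leaf (nat_lit 0x0)) (.leaf (nat_lit 0x0))) (.node 1 (.leaf (nat_lit 0x0)) (.leaf (nat_lit 0x0))))) (.node 4 (.node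 2 (.node 1 (.leaf (nat_lit 0x0)) (.leaf (nat_lit 0x0))) (.node 1 (.leaf (nat_lit 0x0)) (.leaf (nat_lit 0x0)))) (.node 2 (.node 1 (.leaf (nat_lit 0x0)) (.leaf (nat_lit 0x0))) (.node 1 (.leaf (nat_lit 0x0)) (.leaf (nat_lit 0x0)))))))) (.node 32 (.node 16 (.node 8 (.node 4 (.node 2 (.node 1 (.leaf (nat_lit 0x0)) (.leaf (nat_lit 0x0))) (.node 1 (.leaf (nat_lit 0x0)) (.leaf (nat_lit 0x0)))) (.node 2 (.node 1 (.leaf (nat_lit 0x0)) (.leaf (nat_lit 0x0))) (.node 1 (.leaf (nat_lit 0x0)) (.leaf (nat_lit 0x0))))) (.node 4 (.node 2 (.node 1 (.leaf (nat_lit 0x0)) (.leaf (nat_lit 0x0))) (.node 1 (.leaf (nat_lit 0x0)) (.leaf (nat_lit 0x0)))) (.node 2 (.node 1 (.leaf (nat_lit 0x0)) (.leaf (nat_lit 0x0))) (.node 1 (.leaf (nat_lit 0x0)) (.leaf (nat_lit 0x0)))))) (.node 8 (.node 4 (.node 2 (.node 1 (.leaf (nat_lit 0x0)) (.leaf (nat_lit 0x0))) (.node 1 (.leaf (nat_lit 0x0)) (.leaf (nat_lit 0x0)))) (.node 2 (.node 1 (.leaf (nat_lit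 0x0)) (.leaf (nat_lit 0x0))) (.node 1 (.leaf (nat_lit 0x0)) (.leaf (nat_lit 0x0))))) (.node 4 (.node 2 (.node 1 (.leaf (nat_lit 0x0)) (.leaf (nat_lit 0x0))) (.node 1 (.leaf (nat_lit 0x0)) (.leaf (nat_lit 0x0)))) (.node 2 (.node 1 (.leaf (nat_lit 0x0)) (.leaf (nat_lit 0x0))) (.node 1 (.leaf (nat_lit 0x0)) (.leaf (nat_lit 0x0))))))) (.node 16 (.node 8 (.node 4 (.node 2 (.node 1 (.leaf (nat_lit 0x0)) (.leaf (nat_lit 0x0))) (.node 1 (.leaf (nat_lit 0x0)) (.leaf (nat_lit 0x0)))) (.node 2 (.node 1 (.leaf (nat_lit 0x0)) (.leaf (nat_lit 0x0))) (.node 1 (.leaf (nat_lit 0x0)) (.leaf (nat_lit 0x0))))) (.node 4 (.node 2 (.node 1 (.leaf (nat_lit 0x0)) (.leaf (nat_lit 0x0))) (.node 1 (.leaf (nat_lit 0x0)) (.leaf (nat_lit 0x0)))) (.node 2 (.node 1 (.leaf (nat_lit 0x0)) (.leaf (nat_lit 0x0))) (.node 1 (.leaf (nat_lit 0x0)) (.leaf (nat_lit 0x0)))))) (.node 8 (.node 4 (.node 2 (.node 1 (.leaf (nat_lit 0x0)) (.leaf (nat_lit 0x0)))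 (.node 1 (.leaf (nat_lit 0x0)) (.leaf (nat_lit 0x0)))) (.node 2 (.node 1 (.leaf (nat_lit 0x0)) (.leaf (nat_lit 0x0))) (.node 1 (.leaf (nat_lit 0x0)) (.leaf (nat_lit 0x0))))) (.node 4 (.node 2 (.node 1 (.leaf (nat_lit 0x0)) (.leaf (nat_lit 0x0))) (.node 1 (.leaf (nat_lit 0x0)) (.leaf (nat_lit 0x0)))) (.node 2 (.node 1 (.leaf (nat_lit 0x0)) (.leaf (nat_lit 0x0))) (.node 1 (.leaf (nat_lit 0x0)) (.leaf (nat_lit 0x0))))))))

noncomputable def lvO2_7 : Tree :=
  .node 64 (.node 32 (.node 16 (.node 8 (.node 4 (.node 2 (.node 1 (.leaf (nat_lit 0x0)) (.leaf (nat_lit 0x0))) (.node 1 (.leaf (nat_lit 0x0)) (.leaf (nat_lit 0x0)))) (.node 2 (.node 1 (.leaf (nat_lit 0x0)) (.leaf (nat_lit 0x0))) (.node 1 (.leaf (nat_lit 0x0)) (.leaf (nat_lit 0x0))))) (.node 4 (.node 2 (.node 1 (.leaf (nat_lit 0x0)) (.leaf (nat_lit 0x0))) (.node 1 (.leaf (nat_lit 0x0)) (.leaf (nat_lit 0x0)))) (.node 2 (.node 1 (.leaf (nat_lit 0x0)) (.leaf (nat_lit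 0x0))) (.node 1 (.leaf (nat_lit 0x0)) (.leaf (nat_lit 0x0)))))) (.node 8 (.node 4 (.node 2 (.node 1 (.leaf (nat_lit 0x0)) (.leaf (nat_lit 0x0))) (.node 1 (.leaf (nat_lit 0x0)) (.leaf (nat_lit 0x0)))) (.node 2 (.node 1 (.leaf (nat_lit 0x0)) (.leaf (nat_lit 0x0))) (.node 1 (.leaf (nat_lit 0x0)) (.leaf (nat_lit 0x0))))) (.node 4 (.node 2 (.node 1 (.leaf (nat_lit 0x0)) (.leaf (nat_lit 0x0))) (.node 1 (.leaf (nat_lit 0x0)) (.leaf (nat_lit 0x0)))) (.node 2 (.node 1 (.leaf (nat_lit 0x0)) (.leaf (nat_lit 0x0))) (.node 1 (.leaf (nat_lit 0x0)) (.leaf (nat_lit 0x0))))))) (.node 16 (.node 8 (.node 4 (.node 2 (.node 1 (.leaf (nat_lit 0x0)) (.leaf (nat_lit 0x0))) (.node 1 (.leaf (nat_lit 0x0)) (.leaf (nat_lit 0x0)))) (.node 2 (.node 1 (.leaf (nat_lit 0x0)) (.leaf (nat_lit 0x0))) (.node 1 (.leaf (nat_lit 0x0)) (.leaf (nat_lit 0x0))))) (.node 4 (.node 2 (.node 1 (.leaf (nat_lit 0x0)) (.leaf (nat_lit 0x0))) (.node 1 (.leaf (nat_lit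 0x0)) (.leaf (nat_lit 0x0)))) (.node 2 (.node 1 (.leaf (nat_lit 0x0)) (.leaf (nat_lit 0x0))) (.node 1 (.leaf (nat_lit 0x0)) (.leaf (nat_lit 0x0)))))) (.node 8 (.node 4 (.node 2 (.node 1 (.leaf (nat_lit 0x0)) (.leaf (nat_lit 0x0))) (.node 1 (.leaf (nat_lit 0x0)) (.leaf (nat_lit 0x0)))) (.node 2 (.node 1 (.leaf (nat_lit 0x0)) (.leaf (nat_lit 0x0))) (.node 1 (.leaf (nat_lit 0x0)) (.leaf (nat_lit 0x0))))) (.node 4 (.node 2 (.node 1 (.leaf (nat_lit 0x0)) (.leaf (nat_lit 0x0))) (.node 1 (.leaf (nat_lit 0x0)) (.leaf (nat_lit 0x0)))) (.node 2 (.node 1 (.leaf (nat_lit 0x0)) (.leaf (nat_lit 0x0))) (.node 1 (.leaf (nat_lit 0x0)) (.leaf (nat_lit 0x0)))))))) (.node 32 (.node 16 (.node 8 (.node 4 (.node 2 (.node 1 (.leaf (nat_lit 0x0)) (.leaf (nat_lit 0x0))) (.node 1 (.leaf (nat_lit 0x0)) (.leaf (nat_lit 0x0)))) (.node 2 (.node 1 (.leaf (nat_lit 0x0)) (.leaf (nat_lit 0x0))) (.node 1 (.leaf (nat_lit 0x0)) (.leaf (nat_lit 0x0)))))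 (.node 4 (.node 2 (.node 1 (.leaf (nat_lit 0x0)) (.leaf (nat_lit 0x0))) (.node 1 (.leaf (nat_lit 0x0)) (.leaf (nat_lit 0x0)))) (.node 2 (.node 1 (.leaf (nat_lit 0x0)) (.leaf (nat_lit 0x0))) (.node 1 (.leaf (nat_lit 0x0)) (.leaf (nat_lit 0x0)))))) (.node 8 (.node 4 (.node 2 (.node 1 (.leaf (nat_lit 0x0)) (.leaf (nat_lit 0x0))) (.node 1 (.leaf (nat_lit 0x0)) (.leaf (nat_lit 0x0)))) (.node 2 (.node 1 (.leaf (nat_lit 0x0)) (.leaf (nat_lit 0x0))) (.node 1 (.leaf (nat_lit 0x0)) (.leaf (nat_lit 0x0))))) (.node 4 (.node 2 (.node 1 (.leaf (nat_lit 0x0)) (.leaf (nat_lit 0x0))) (.node 1 (.leaf (nat_lit 0x0)) (.leaf (nat_lit 0x0)))) (.node 2 (.node 1 (.leaf (nat_lit 0x0)) (.leaf (nat_lit 0x0))) (.node 1 (.leaf (nat_lit 0x0)) (.leaf (nat_lit 0x0))))))) (.node 16 (.node 8 (.node 4 (.node 2 (.node 1 (.leaf (nat_lit 0x0)) (.leaf (nat_lit 0x0))) (.node 1 (.leaf (nat_lit 0x0)) (.leaf (nat_lit 0x0)))) (.node 2 (.node 1 (.leaf (nat_lit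 0x0)) (.leaf (nat_lit 0x0))) (.node 1 (.leaf (nat_lit 0x0)) (.leaf (nat_lit 0x0))))) (.node 4 (.node 2 (.node 1 (.leaf (nat_lit 0x0)) (.leaf (nat_lit 0x0))) (.node 1 (.leaf (nat_lit 0x0)) (.leaf (nat_lit 0x0)))) (.node 2 (.node 1 (.leaf (nat_lit 0x0)) (.leaf (nat_lit 0x0))) (.node 1 (.leaf (nat_lit 0x0)) (.leaf (nat_lit 0x0)))))) (.node 8 (.node 4 (.node 2 (.node 1 (.leaf (nat_lit 0x0)) (.leaf (nat_lit 0x0))) (.node 1 (.leaf (nat_lit 0x0)) (.leaf (nat_lit 0x0)))) (.node 2 (.node 1 (.leaf (nat_lit 0x0)) (.leaf (nat_lit 0x0))) (.node 1 (.leaf (nat_lit 0x0)) (.leaf (nat_lit 0x0))))) (.node 4 (.node 2 (.node 1 (.leaf (nat_lit 0x0)) (.leaf (nat_lit 0x0))) (.node 1 (.leaf (nat_lit 0x0)) (.leaf (nat_lit 0x0)))) (.node 2 (.node 1 (.leaf (nat_lit 0x0)) (.leaf (nat_lit 0x0))) (.node 1 (.leaf (nat_lit 0x0)) (.leaf (nat_lit 0x0))))))))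

noncomputable def lvO2_8 : Tree :=
  .node 64 (.node 32 (.node 16 (.node 8 (.node 4 (.node 2 (.node 1 (.leaf (nat_lit 0x0)) (.leaf (nat_lit 0x0))) (.node 1 (.leaf (nat_lit 0x0)) (.leaf (nat_lit 0x0)))) (.node 2 (.node 1 (.leaf (nat_lit 0x0)) (.leaf (nat_lit 0x0))) (.node 1 (.leaf (nat_lit 0x0)) (.leaf (nat_lit 0x0))))) (.node 4 (.node 2 (.node 1 (.leaf (nat_lit 0x0)) (.leaf (nat_lit 0x0))) (.node 1 (.leaf (nat_lit 0x0)) (.leaf (nat_lit 0x0)))) (.node 2 (.node 1 (.leaf (nat_lit 0x0)) (.leaf (nat_lit 0x0))) (.node 1 (.leaf (nat_lit 0x0)) (.leaf (nat_lit 0x0)))))) (.node 8 (.node 4 (.node 2 (.node 1 (.leaf (nat_lit 0x0)) (.leaf (nat_lit 0x0))) (.node 1 (.leaf (nat_lit 0x0)) (.leaf (nat_lit 0x0)))) (.node 2 (.node 1 (.leaf (nat_lit 0x0)) (.leaf (nat_lit 0x0))) (.node 1 (.leaf (nat_lit 0x0)) (.leaf (nat_lit 0x0))))) (.node 4 (.node 2 (.node 1 (.leaf (nat_lit 0x0)) (.leaf (nat_lit 0x0))) (.node 1 (.leaf (nat_lit 0x0))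 (.leaf (nat_lit 0x0)))) (.node 2 (.node 1 (.leaf (nat_lit 0x0)) (.leaf (nat_lit 0x0))) (.node 1 (.leaf (nat_lit 0x0)) (.leaf (nat_lit 0x0))))))) (.node 16 (.node 8 (.node 4 (.node 2 (.node 1 (.leaf (nat_lit 0x0)) (.leaf (nat_lit 0x0))) (.node 1 (.leaf (nat_lit 0x0)) (.leaf (nat_lit 0x0)))) (.node 2 (.node 1 (.leaf (nat_lit 0x0)) (.leaf (nat_lit 0x0))) (.node 1 (.leaf (nat_lit 0x0)) (.leaf (nat_lit 0x0))))) (.node 4 (.node 2 (.node 1 (.leaf (nat_lit 0x0)) (.leaf (nat_lit 0x0))) (.node 1 (.leaf (nat_lit 0x0)) (.leaf (nat_lit 0x0)))) (.node 2 (.node 1 (.leaf (nat_lit 0x0)) (.leaf (nat_lit 0x0))) (.node 1 (.leaf (nat_lit 0x0)) (.leaf (nat_lit 0x0)))))) (.node 8 (.node 4 (.node 2 (.node 1 (.leaf (nat_lit 0x0)) (.leaf (nat_lit 0x0))) (.node 1 (.leaf (nat_lit 0x0)) (.leaf (nat_lit 0x0)))) (.node 2 (.node 1 (.leaf (nat_lit 0x0)) (.leaf (nat_lit 0x0))) (.node 1 (.leaf (nat_lit 0x0)) (.leaf (nat_lit 0x0))))) (.node 4 (.node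 2 (.node 1 (.leaf (nat_lit 0x0)) (.leaf (nat_lit 0x0))) (.node 1 (.leaf (nat_lit 0x0)) (.leaf (nat_lit 0x0)))) (.node 2 (.node 1 (.leaf (nat_lit 0x0)) (.leaf (nat_lit 0x0))) (.node 1 (.leaf (nat_lit 0x0)) (.leaf (nat_lit 0x0)))))))) (.node 32 (.node 16 (.node 8 (.node 4 (.node 2 (.node 1 (.leaf (nat_lit 0x0)) (.leaf (nat_lit 0x0))) (.node 1 (.leaf (nat_lit 0x0)) (.leaf (nat_lit 0x0)))) (.node 2 (.node 1 (.leaf (nat_lit 0x0)) (.leaf (nat_lit 0x0))) (.node 1 (.leaf (nat_lit 0x0)) (.leaf (nat_lit 0x0))))) (.node 4 (.node 2 (.node 1 (.leaf (nat_lit 0x0)) (.leaf (nat_lit 0x0))) (.node 1 (.leaf (nat_lit 0x0)) (.leaf (nat_lit 0x0)))) (.node 2 (.node 1 (.leaf (nat_lit 0x0)) (.leaf (nat_lit 0x0))) (.node 1 (.leaf (nat_lit 0x0)) (.leaf (nat_lit 0x0)))))) (.node 8 (.node 4 (.node 2 (.node 1 (.leaf (nat_lit 0x0)) (.leaf (nat_lit 0x0))) (.node 1 (.leaf (nat_lit 0x0)) (.leaf (nat_lit 0x0)))) (.node 2 (.node 1 (.leaf (nat_lit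 0x0)) (.leaf (nat_lit 0x0))) (.node 1 (.leaf (nat_lit 0x0)) (.leaf (nat_lit 0x0))))) (.node 4 (.node 2 (.node 1 (.leaf (nat_lit 0x0)) (.leaf (nat_lit 0x0))) (.node 1 (.leaf (nat_lit 0x0)) (.leaf (nat_lit 0x0)))) (.node 2 (.node 1 (.leaf (nat_lit 0x0)) (.leaf (nat_lit 0x0))) (.node 1 (.leaf (nat_lit 0x0)) (.leaf (nat_lit 0x0))))))) (.node 16 (.node 8 (.node 4 (.node 2 (.node 1 (.leaf (nat_lit 0x0)) (.leaf (nat_lit 0x0))) (.node 1 (.leaf (nat_lit 0x0)) (.leaf (nat_lit 0x0)))) (.node 2 (.node 1 (.leaf (nat_lit 0x0)) (.leaf (nat_lit 0x0))) (.node 1 (.leaf (nat_lit 0x0)) (.leaf (nat_lit 0x0))))) (.node 4 (.node 2 (.node 1 (.leaf (nat_lit 0x0)) (.leaf (nat_lit 0x0))) (.node 1 (.leaf (nat_lit 0x0)) (.leaf (nat_lit 0x0)))) (.node 2 (.node 1 (.leaf (nat_lit 0x0)) (.leaf (nat_lit 0x0))) (.node 1 (.leaf (nat_lit 0x0)) (.leaf (nat_lit 0x0)))))) (.node 8 (.node 4 (.node 2 (.node 1 (.leaf (nat_lit 0x0)) (.leaf (nat_lit 0x0)))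 (.node 1 (.leaf (nat_lit 0x0)) (.leaf (nat_lit 0x0)))) (.node 2 (.node 1 (.leaf (nat_lit 0x0)) (.leaf (nat_lit 0x0))) (.node 1 (.leaf (nat_lit 0x0)) (.leaf (nat_lit 0x0))))) (.node 4 (.node 2 (.node 1 (.leaf (nat_lit 0x0)) (.leaf (nat_lit 0x0))) (.node 1 (.leaf (nat_lit 0x0)) (.leaf (nat_lit 0x0)))) (.node 2 (.node 1 (.leaf (nat_lit 0x0)) (.leaf (nat_lit 0x0))) (.node 1 (.leaf (nat_lit 0x0)) (.leaf (nat_lit 0x0))))))))

noncomputable def lvO2_9 : Tree :=
  .node 64 (.node 32 (.node 16 (.node 8 (.node 4 (.node 2 (.node 1 (.leaf (nat_lit 0x0)) (.leaf (nat_lit 0x0))) (.node 1 (.leaf (nat_lit 0x0)) (.leaf (nat_lit 0x0)))) (.node 2 (.node 1 (.leaf (nat_lit 0x0)) (.leaf (nat_lit 0x0))) (.node 1 (.leaf (nat_lit 0x0)) (.leaf (nat_lit 0x0))))) (.node 4 (.node 2 (.node 1 (.leaf (nat_lit 0x0)) (.leaf (nat_lit 0x0))) (.node 1 (.leaf (nat_lit 0x0)) (.leaf (nat_lit 0x0)))) (.node 2 (.node 1 (.leaf (nat_lit 0x0)) (.leaf (nat_lit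 0x0))) (.node 1 (.leaf (nat_lit 0x0)) (.leaf (nat_lit 0x0)))))) (.node 8 (.node 4 (.node 2 (.node 1 (.leaf (nat_lit 0x0)) (.leaf (nat_lit 0x0))) (.node 1 (.leaf (nat_lit 0x0)) (.leaf (nat_lit 0x0)))) (.node 2 (.node 1 (.leaf (nat_lit 0x0)) (.leaf (nat_lit 0x0))) (.node 1 (.leaf (nat_lit 0x0)) (.leaf (nat_lit 0x0))))) (.node 4 (.node 2 (.node 1 (.leaf (nat_lit 0x0)) (.leaf (nat_lit 0x0))) (.node 1 (.leaf (nat_lit 0x0)) (.leaf (nat_lit 0x0)))) (.node 2 (.node 1 (.leaf (nat_lit 0x0)) (.leaf (nat_lit 0x0))) (.node 1 (.leaf (nat_lit 0x0)) (.leaf (nat_lit 0x0))))))) (.node 16 (.node 8 (.node 4 (.node 2 (.node 1 (.leaf (nat_lit 0x0)) (.leaf (nat_lit 0x0))) (.node 1 (.leaf (nat_lit 0x0)) (.leaf (nat_lit 0x0)))) (.node 2 (.node 1 (.leaf (nat_lit 0x0)) (.leaf (nat_lit 0x0))) (.node 1 (.leaf (nat_lit 0x0)) (.leaf (nat_lit 0x0))))) (.node 4 (.node 2 (.node 1 (.leaf (nat_lit 0x0)) (.leaf (nat_lit 0x0))) (.node 1 (.leaf (nat_lit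 0x0)) (.leaf (nat_lit 0x0)))) (.node 2 (.node 1 (.leaf (nat_lit 0x0)) (.leaf (nat_lit 0x0))) (.node 1 (.leaf (nat_lit 0x0)) (.leaf (nat_lit 0x0)))))) (.node 8 (.node 4 (.node 2 (.node 1 (.leaf (nat_lit 0x0)) (.leaf (nat_lit 0x0))) (.node 1 (.leaf (nat_lit 0x0)) (.leaf (nat_lit 0x0)))) (.node 2 (.node 1 (.leaf (nat_lit 0x0)) (.leaf (nat_lit 0x0))) (.node 1 (.leaf (nat_lit 0x0)) (.leaf (nat_lit 0x0))))) (.node 4 (.node 2 (.node 1 (.leaf (nat_lit 0x0)) (.leaf (nat_lit 0x0))) (.node 1 (.leaf (nat_lit 0x0)) (.leaf (nat_lit 0x0)))) (.node 2 (.node 1 (.leaf (nat_lit 0x0)) (.leaf (nat_lit 0x0))) (.node 1 (.leaf (nat_lit 0x0)) (.leaf (nat_lit 0x0)))))))) (.node 32 (.node 16 (.node 8 (.node 4 (.node 2 (.node 1 (.leaf (nat_lit 0x0)) (.leaf (nat_lit 0x0))) (.node 1 (.leaf (nat_lit 0x0)) (.leaf (nat_lit 0x0)))) (.node 2 (.node 1 (.leaf (nat_lit 0x0)) (.leaf (nat_lit 0x0))) (.node 1 (.leaf (nat_lit 0x0)) (.leaf (nat_lit 0x0)))))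 (.node 4 (.node 2 (.node 1 (.leaf (nat_lit 0x0)) (.leaf (nat_lit 0x0))) (.node 1 (.leaf (nat_lit 0x0)) (.leaf (nat_lit 0x0)))) (.node 2 (.node 1 (.leaf (nat_lit 0x0)) (.leaf (nat_lit 0x0))) (.node 1 (.leaf (nat_lit 0x0)) (.leaf (nat_lit 0x0)))))) (.node 8 (.node 4 (.node 2 (.node 1 (.leaf (nat_lit 0x0)) (.leaf (nat_lit 0x0))) (.node 1 (.leaf (nat_lit 0x0)) (.leaf (nat_lit 0x0)))) (.node 2 (.node 1 (.leaf (nat_lit 0x0)) (.leaf (nat_lit 0x0))) (.node 1 (.leaf (nat_lit 0x0)) (.leaf (nat_lit 0x0))))) (.node 4 (.node 2 (.node 1 (.leaf (nat_lit 0x0)) (.leaf (nat_lit 0x0))) (.node 1 (.leaf (nat_lit 0x0)) (.leaf (nat_lit 0x0)))) (.node 2 (.node 1 (.leaf (nat_lit 0x0)) (.leaf (nat_lit 0x0))) (.node 1 (.leaf (nat_lit 0x0)) (.leaf (nat_lit 0x0))))))) (.node 16 (.node 8 (.node 4 (.node 2 (.node 1 (.leaf (nat_lit 0x0)) (.leaf (nat_lit 0x0))) (.node 1 (.leaf (nat_lit 0x0)) (.leaf (nat_lit 0x0)))) (.node 2 (.node 1 (.leaf (nat_lit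 0x0)) (.leaf (nat_lit 0x0))) (.node 1 (.leaf (nat_lit 0x0)) (.leaf (nat_lit 0x0))))) (.node 4 (.node 2 (.node 1 (.leaf (nat_lit 0x0)) (.leaf (nat_lit 0x0))) (.node 1 (.leaf (nat_lit 0x0)) (.leaf (nat_lit 0x0)))) (.node 2 (.node 1 (.leaf (nat_lit 0x0)) (.leaf (nat_lit 0x0))) (.node 1 (.leaf (nat_lit 0x0)) (.leaf (nat_lit 0x0)))))) (.node 8 (.node 4 (.node 2 (.node 1 (.leaf (nat_lit 0x0)) (.leaf (nat_lit 0x0))) (.node 1 (.leaf (nat_lit 0x0)) (.leaf (nat_lit 0x0)))) (.node 2 (.node 1 (.leaf (nat_lit 0x0)) (.leaf (nat_lit 0x0))) (.node 1 (.leaf (nat_lit 0x0)) (.leaf (nat_lit 0x0))))) (.node 4 (.node 2 (.node 1 (.leaf (nat_lit 0x0)) (.leaf (nat_lit 0x0))) (.node 1 (.leaf (nat_lit 0x0)) (.leaf (nat_lit 0x0)))) (.node 2 (.node 1 (.leaf (nat_lit 0x0)) (.leaf (nat_lit 0x0))) (.node 1 (.leaf (nat_lit 0x0)) (.leaf (nat_lit 0x0))))))))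

noncomputable def lvO2_10 : Tree :=
  .node 64 (.node 32 (.node 16 (.node 8 (.node 4 (.node 2 (.node 1 (.leaf (nat_lit 0x0)) (.leaf (nat_lit 0x0))) (.node 1 (.leaf (nat_lit 0x0)) (.leaf (nat_lit 0x0)))) (.node 2 (.node 1 (.leaf (nat_lit 0x0)) (.leaf (nat_lit 0x0))) (.node 1 (.leaf (nat_lit 0x0)) (.leaf (nat_lit 0x0))))) (.node 4 (.node 2 (.node 1 (.leaf (nat_lit 0x0)) (.leaf (nat_lit 0x0))) (.node 1 (.leaf (nat_lit 0x0)) (.leaf (nat_lit 0x0)))) (.node 2 (.node 1 (.leaf (nat_lit 0x0)) (.leaf (nat_lit 0x0))) (.node 1 (.leaf (nat_lit 0x0)) (.leaf (nat_lit 0x0)))))) (.node 8 (.node 4 (.node 2 (.node 1 (.leaf (nat_lit 0x0)) (.leaf (nat_lit 0x0))) (.node 1 (.leaf (nat_lit 0x0)) (.leaf (nat_lit 0x0)))) (.node 2 (.node 1 (.leaf (nat_lit 0x0)) (.leaf (nat_lit 0x0))) (.node 1 (.leaf (nat_lit 0x0)) (.leaf (nat_lit 0x0))))) (.node 4 (.node 2 (.node 1 (.leaf (nat_lit 0x0)) (.leaf (nat_lit 0x0))) (.node 1 (.leaf (nat_lit 0x0))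 (.leaf (nat_lit 0x0)))) (.node 2 (.node 1 (.leaf (nat_lit 0x0)) (.leaf (nat_lit 0x0))) (.node 1 (.leaf (nat_lit 0x0)) (.leaf (nat_lit 0x0))))))) (.node 16 (.node 8 (.node 4 (.node 2 (.node 1 (.leaf (nat_lit 0x0)) (.leaf (nat_lit 0x0))) (.node 1 (.leaf (nat_lit 0x0)) (.leaf (nat_lit 0x0)))) (.node 2 (.node 1 (.leaf (nat_lit 0x0)) (.leaf (nat_lit 0x0))) (.node 1 (.leaf (nat_lit 0x0)) (.leaf (nat_lit 0x0))))) (.node 4 (.node 2 (.node 1 (.leaf (nat_lit 0x0)) (.leaf (nat_lit 0x0))) (.node 1 (.leaf (nat_lit 0x0)) (.leaf (nat_lit 0x0)))) (.node 2 (.node 1 (.leaf (nat_lit 0x0)) (.leaf (nat_lit 0x0))) (.node 1 (.leaf (nat_lit 0x0)) (.leaf (nat_lit 0x0)))))) (.node 8 (.node 4 (.node 2 (.node 1 (.leaf (nat_lit 0x0)) (.leaf (nat_lit 0x0))) (.node 1 (.leaf (nat_lit 0x0)) (.leaf (nat_lit 0x0)))) (.node 2 (.node 1 (.leaf (nat_lit 0x0)) (.leaf (nat_lit 0x0))) (.node 1 (.leaf (nat_lit 0x0)) (.leaf (nat_lit 0x0))))) (.node 4 (.node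 2 (.node 1 (.leaf (nat_lit 0x0)) (.leaf (nat_lit 0x0))) (.node 1 (.leaf (nat_lit 0x0)) (.leaf (nat_lit 0x0)))) (.node 2 (.node 1 (.leaf (nat_lit 0x0)) (.leaf (nat_lit 0x0))) (.node 1 (.leaf (nat_lit 0x0)) (.leaf (nat_lit 0x0)))))))) (.node 32 (.node 16 (.node 8 (.node 4 (.node 2 (.node 1 (.leaf (nat_lit 0x0)) (.leaf (nat_lit 0x0))) (.node 1 (.leaf (nat_lit 0x0)) (.leaf (nat_lit 0x0)))) (.node 2 (.node 1 (.leaf (nat_lit 0x0)) (.leaf (nat_lit 0x0))) (.node 1 (.leaf (nat_lit 0x0)) (.leaf (nat_lit 0x0))))) (.node 4 (.node 2 (.node 1 (.leaf (nat_lit 0x0)) (.leaf (nat_lit 0x0))) (.node 1 (.leaf (nat_lit 0x0)) (.leaf (nat_lit 0x0)))) (.node 2 (.node 1 (.leaf (nat_lit 0x0)) (.leaf (nat_lit 0x0))) (.node 1 (.leaf (nat_lit 0x0)) (.leaf (nat_lit 0x0)))))) (.node 8 (.node 4 (.node 2 (.node 1 (.leaf (nat_lit 0x0)) (.leaf (nat_lit 0x0))) (.node 1 (.leaf (nat_lit 0x0)) (.leaf (nat_lit 0x0)))) (.node 2 (.node 1 (.leaf (nat_lit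 0x0)) (.leaf (nat_lit 0x0))) (.node 1 (.leaf (nat_lit 0x0)) (.leaf (nat_lit 0x0))))) (.node 4 (.node 2 (.node 1 (.leaf (nat_lit 0x0)) (.leaf (nat_lit 0x0))) (.node 1 (.leaf (nat_lit 0x0)) (.leaf (nat_lit 0x0)))) (.node 2 (.node 1 (.leaf (nat_lit 0x0)) (.leaf (nat_lit 0x0))) (.node 1 (.leaf (nat_lit 0x0)) (.leaf (nat_lit 0x0))))))) (.node 16 (.node 8 (.node 4 (.node 2 (.node 1 (.leaf (nat_lit 0x0)) (.leaf (nat_lit 0x0))) (.node 1 (.leaf (nat_lit 0x0)) (.leaf (nat_lit 0x0)))) (.node 2 (.node 1 (.leaf (nat_lit 0x0)) (.leaf (nat_lit 0x0))) (.node 1 (.leaf (nat_lit 0x0)) (.leaf (nat_lit 0x0))))) (.node 4 (.node 2 (.node 1 (.leaf (nat_lit 0x0)) (.leaf (nat_lit 0x0))) (.node 1 (.leaf (nat_lit 0x0)) (.leaf (nat_lit 0x0)))) (.node 2 (.node 1 (.leaf (nat_lit 0x0)) (.leaf (nat_lit 0x0))) (.node 1 (.leaf (nat_lit 0x0)) (.leaf (nat_lit 0x0)))))) (.node 8 (.node 4 (.node 2 (.node 1 (.leaf (nat_lit 0x0)) (.leaf (nat_lit 0x0)))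 (.node 1 (.leaf (nat_lit 0x0)) (.leaf (nat_lit 0x0)))) (.node 2 (.node 1 (.leaf (nat_lit 0x0)) (.leaf (nat_lit 0x0))) (.node 1 (.leaf (nat_lit 0x0)) (.leaf (nat_lit 0x0))))) (.node 4 (.node 2 (.node 1 (.leaf (nat_lit 0x0)) (.leaf (nat_lit 0x0))) (.node 1 (.leaf (nat_lit 0x0)) (.leaf (nat_lit 0x0)))) (.node 2 (.node 1 (.leaf (nat_lit 0x0)) (.leaf (nat_lit 0x0))) (.node 1 (.leaf (nat_lit 0x0)) (.leaf (nat_lit 0x0))))))))

noncomputable def lvO2_11 : Tree :=
  .node 64 (.node 32 (.node 16 (.node 8 (.node 4 (.node 2 (.node 1 (.leaf (nat_lit 0x0)) (.leaf (nat_lit 0x0))) (.node 1 (.leaf (nat_lit 0x0)) (.leaf (nat_lit 0x0)))) (.node 2 (.node 1 (.leaf (nat_lit 0x0)) (.leaf (nat_lit 0x0))) (.node 1 (.leaf (nat_lit 0x0)) (.leaf (nat_lit 0x0))))) (.node 4 (.node 2 (.node 1 (.leaf (nat_lit 0x0)) (.leaf (nat_lit 0x0))) (.node 1 (.leaf (nat_lit 0x0)) (.leaf (nat_lit 0x0)))) (.node 2 (.node 1 (.leaf (nat_lit 0x0)) (.leaf (nat_lit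 0x0))) (.node 1 (.leaf (nat_lit 0x0)) (.leaf (nat_lit 0x0)))))) (.node 8 (.node 4 (.node 2 (.node 1 (.leaf (nat_lit 0x0)) (.leaf (nat_lit 0x0))) (.node 1 (.leaf (nat_lit 0x0)) (.leaf (nat_lit 0x0)))) (.node 2 (.node 1 (.leaf (nat_lit 0x0)) (.leaf (nat_lit 0x0))) (.node 1 (.leaf (nat_lit 0x0)) (.leaf (nat_lit 0x0))))) (.node 4 (.node 2 (.node 1 (.leaf (nat_lit 0x0)) (.leaf (nat_lit 0x0))) (.node 1 (.leaf (nat_lit 0x0)) (.leaf (nat_lit 0x0)))) (.node 2 (.node 1 (.leaf (nat_lit 0x0)) (.leaf (nat_lit 0x0))) (.node 1 (.leaf (nat_lit 0x0)) (.leaf (nat_lit 0x0))))))) (.node 16 (.node 8 (.node 4 (.node 2 (.node 1 (.leaf (nat_lit 0x0)) (.leaf (nat_lit 0x0))) (.node 1 (.leaf (nat_lit 0x0)) (.leaf (nat_lit 0x0)))) (.node 2 (.node 1 (.leaf (nat_lit 0x0)) (.leaf (nat_lit 0x0))) (.node 1 (.leaf (nat_lit 0x0)) (.leaf (nat_lit 0x0))))) (.node 4 (.node 2 (.node 1 (.leaf (nat_lit 0x0)) (.leaf (nat_lit 0x0))) (.node 1 (.leaf (nat_lit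 0x0)) (.leaf (nat_lit 0x0)))) (.node 2 (.node 1 (.leaf (nat_lit 0x0)) (.leaf (nat_lit 0x0))) (.node 1 (.leaf (nat_lit 0x0)) (.leaf (nat_lit 0x0)))))) (.node 8 (.node 4 (.node 2 (.node 1 (.leaf (nat_lit 0x0)) (.leaf (nat_lit 0x0))) (.node 1 (.leaf (nat_lit 0x0)) (.leaf (nat_lit 0x0)))) (.node 2 (.node 1 (.leaf (nat_lit 0x0)) (.leaf (nat_lit 0x0))) (.node 1 (.leaf (nat_lit 0x0)) (.leaf (nat_lit 0x0))))) (.node 4 (.node 2 (.node 1 (.leaf (nat_lit 0x0)) (.leaf (nat_lit 0x0))) (.node 1 (.leaf (nat_lit 0x0)) (.leaf (nat_lit 0x0)))) (.node 2 (.node 1 (.leaf (nat_lit 0x0)) (.leaf (nat_lit 0x0))) (.node 1 (.leaf (nat_lit 0x0)) (.leaf (nat_lit 0x0)))))))) (.node 32 (.node 16 (.node 8 (.node 4 (.node 2 (.node 1 (.leaf (nat_lit 0x0)) (.leaf (nat_lit 0x0))) (.node 1 (.leaf (nat_lit 0x0)) (.leaf (nat_lit 0x0)))) (.node 2 (.node 1 (.leaf (nat_lit 0x0)) (.leaf (nat_lit 0x0))) (.node 1 (.leaf (nat_lit 0x0)) (.leaf (nat_lit 0x0)))))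 (.node 4 (.node 2 (.node 1 (.leaf (nat_lit 0x0)) (.leaf (nat_lit 0x0))) (.node 1 (.leaf (nat_lit 0x0)) (.leaf (nat_lit 0x0)))) (.node 2 (.node 1 (.leaf (nat_lit 0x0)) (.leaf (nat_lit 0x0))) (.node 1 (.leaf (nat_lit 0x0)) (.leaf (nat_lit 0x0)))))) (.node 8 (.node 4 (.node 2 (.node 1 (.leaf (nat_lit 0x0)) (.leaf (nat_lit 0x0))) (.node 1 (.leaf (nat_lit 0x0)) (.leaf (nat_lit 0x0)))) (.node 2 (.node 1 (.leaf (nat_lit 0x0)) (.leaf (nat_lit 0x0))) (.node 1 (.leaf (nat_lit 0x0)) (.leaf (nat_lit 0x0))))) (.node 4 (.node 2 (.node 1 (.leaf (nat_lit 0x0)) (.leaf (nat_lit 0x0))) (.node 1 (.leaf (nat_lit 0x0)) (.leaf (nat_lit 0x0)))) (.node 2 (.node 1 (.leaf (nat_lit 0x0)) (.leaf (nat_lit 0x0))) (.node 1 (.leaf (nat_lit 0x0)) (.leaf (nat_lit 0x0))))))) (.node 16 (.node 8 (.node 4 (.node 2 (.node 1 (.leaf (nat_lit 0x0)) (.leaf (nat_lit 0x0))) (.node 1 (.leaf (nat_lit 0x0)) (.leaf (nat_lit 0x0)))) (.node 2 (.node 1 (.leaf (nat_lit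 0x0)) (.leaf (nat_lit 0x0))) (.node 1 (.leaf (nat_lit 0x0)) (.leaf (nat_lit 0x0))))) (.node 4 (.node 2 (.node 1 (.leaf (nat_lit 0x0)) (.leaf (nat_lit 0x0))) (.node 1 (.leaf (nat_lit 0x0)) (.leaf (nat_lit 0x0)))) (.node 2 (.node 1 (.leaf (nat_lit 0x0)) (.leaf (nat_lit 0x0))) (.node 1 (.leaf (nat_lit 0x0)) (.leaf (nat_lit 0x0)))))) (.node 8 (.node 4 (.node 2 (.node 1 (.leaf (nat_lit 0x0)) (.leaf (nat_lit 0x0))) (.node 1 (.leaf (nat_lit 0x0)) (.leaf (nat_lit 0x0)))) (.node 2 (.node 1 (.leaf (nat_lit 0x0)) (.leaf (nat_lit 0x0))) (.node 1 (.leaf (nat_lit 0x0)) (.leaf (nat_lit 0x0))))) (.node 4 (.node 2 (.node 1 (.leaf (nat_lit 0x0)) (.leaf (nat_lit 0x0))) (.node 1 (.leaf (nat_lit 0x0)) (.leaf (nat_lit 0x0)))) (.node 2 (.node 1 (.leaf (nat_lit 0x0)) (.leaf (nat_lit 0x0))) (.node 1 (.leaf (nat_lit 0x0)) (.leaf (nat_lit 0x0))))))))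

noncomputable def lvO2_12 : Tree :=
  .node 64 (.node 32 (.node 16 (.node 8 (.node 4 (.node 2 (.node 1 (.leaf (nat_lit 0x0)) (.leaf (nat_lit 0x0))) (.node 1 (.leaf (nat_lit 0x0)) (.leaf (nat_lit 0x0)))) (.node 2 (.node 1 (.leaf (nat_lit 0x0)) (.leaf (nat_lit 0x0))) (.node 1 (.leaf (nat_lit 0x0)) (.leaf (nat_lit 0x0))))) (.node 4 (.node 2 (.node 1 (.leaf (nat_lit 0x0)) (.leaf (nat_lit 0x0))) (.node 1 (.leaf (nat_lit 0x0)) (.leaf (nat_lit 0x0)))) (.node 2 (.node 1 (.leaf (nat_lit 0x0)) (.leaf (nat_lit 0x0))) (.node 1 (.leaf (nat_lit 0x0)) (.leaf (nat_lit 0x0)))))) (.node 8 (.node 4 (.node 2 (.node 1 (.leaf (nat_lit 0x0)) (.leaf (nat_lit 0x0))) (.node 1 (.leaf (nat_lit 0x0)) (.leaf (nat_lit 0x0)))) (.node 2 (.node 1 (.leaf (nat_lit 0x0)) (.leaf (nat_lit 0x0))) (.node 1 (.leaf (nat_lit 0x0)) (.leaf (nat_lit 0x0))))) (.node 4 (.node 2 (.node 1 (.leaf (nat_lit 0x0)) (.leaf (nat_lit 0x0))) (.node 1 (.leaf (nat_lit 0x0))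 (.leaf (nat_lit 0x0)))) (.node 2 (.node 1 (.leaf (nat_lit 0x0)) (.leaf (nat_lit 0x0))) (.node 1 (.leaf (nat_lit 0x0)) (.leaf (nat_lit 0x0))))))) (.node 16 (.node 8 (.node 4 (.node 2 (.node 1 (.leaf (nat_lit 0x0)) (.leaf (nat_lit 0x0))) (.node 1 (.leaf (nat_lit 0x0)) (.leaf (nat_lit 0x0)))) (.node 2 (.node 1 (.leaf (nat_lit 0x0)) (.leaf (nat_lit 0x0))) (.node 1 (.leaf (nat_lit 0x0)) (.leaf (nat_lit 0x0))))) (.node 4 (.node 2 (.node 1 (.leaf (nat_lit 0x0)) (.leaf (nat_lit 0x0))) (.node 1 (.leaf (nat_lit 0x0)) (.leaf (nat_lit 0x0)))) (.node 2 (.node 1 (.leaf (nat_lit 0x0)) (.leaf (nat_lit 0x0))) (.node 1 (.leaf (nat_lit 0x0)) (.leaf (nat_lit 0x0)))))) (.node 8 (.node 4 (.node 2 (.node 1 (.leaf (nat_lit 0x0)) (.leaf (nat_lit 0x0))) (.node 1 (.leaf (nat_lit 0x0)) (.leaf (nat_lit 0x0)))) (.node 2 (.node 1 (.leaf (nat_lit 0x0)) (.leaf (nat_lit 0x0))) (.node 1 (.leaf (nat_lit 0x0)) (.leaf (nat_lit 0x0))))) (.node 4 (.node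 2 (.node 1 (.leaf (nat_lit 0x0)) (.leaf (nat_lit 0x0))) (.node 1 (.leaf (nat_lit 0x0)) (.leaf (nat_lit 0x0)))) (.node 2 (.node 1 (.leaf (nat_lit 0x0)) (.leaf (nat_lit 0x0))) (.node 1 (.leaf (nat_lit 0x0)) (.leaf (nat_lit 0x0)))))))) (.node 32 (.node 16 (.node 8 (.node 4 (.node 2 (.node 1 (.leaf (nat_lit 0x0)) (.leaf (nat_lit 0x0))) (.node 1 (.leaf (nat_lit 0x0)) (.leaf (nat_lit 0x0)))) (.node 2 (.node 1 (.leaf (nat_lit 0x0)) (.leaf (nat_lit 0x0))) (.node 1 (.leaf (nat_lit 0x0)) (.leaf (nat_lit 0x0))))) (.node 4 (.node 2 (.node 1 (.leaf (nat_lit 0x0)) (.leaf (nat_lit 0x0))) (.node 1 (.leaf (nat_lit 0x0)) (.leaf (nat_lit 0x0)))) (.node 2 (.node 1 (.leaf (nat_lit 0x0)) (.leaf (nat_lit 0x0))) (.node 1 (.leaf (nat_lit 0x0)) (.leaf (nat_lit 0x0)))))) (.node 8 (.node 4 (.node 2 (.node 1 (.leaf (nat_lit 0x0)) (.leaf (nat_lit 0x0))) (.node 1 (.leaf (nat_lit 0x0)) (.leaf (nat_lit 0x0)))) (.node 2 (.node 1 (.leaf (nat_lit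 0x0)) (.leaf (nat_lit 0x0))) (.node 1 (.leaf (nat_lit 0x0)) (.leaf (nat_lit 0x0))))) (.node 4 (.node 2 (.node 1 (.leaf (nat_lit 0x0)) (.leaf (nat_lit 0x0))) (.node 1 (.leaf (nat_lit 0x0)) (.leaf (nat_lit 0x0)))) (.node 2 (.node 1 (.leaf (nat_lit 0x0)) (.leaf (nat_lit 0x0))) (.node 1 (.leaf (nat_lit 0x0)) (.leaf (nat_lit 0x0))))))) (.node 16 (.node 8 (.node 4 (.node 2 (.node 1 (.leaf (nat_lit 0x0)) (.leaf (nat_lit 0x0))) (.node 1 (.leaf (nat_lit 0x0)) (.leaf (nat_lit 0x0)))) (.node 2 (.node 1 (.leaf (nat_lit 0x0)) (.leaf (nat_lit 0x0))) (.node 1 (.leaf (nat_lit 0x0)) (.leaf (nat_lit 0x0))))) (.node 4 (.node 2 (.node 1 (.leaf (nat_lit 0x0)) (.leaf (nat_lit 0x0))) (.node 1 (.leaf (nat_lit 0x0)) (.leaf (nat_lit 0x0)))) (.node 2 (.node 1 (.leaf (nat_lit 0x0)) (.leaf (nat_lit 0x0))) (.node 1 (.leaf (nat_lit 0x0)) (.leaf (nat_lit 0x0)))))) (.node 8 (.node 4 (.node 2 (.node 1 (.leaf (nat_lit 0x0)) (.leaf (nat_lit 0x0)))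 (.node 1 (.leaf (nat_lit 0x0)) (.leaf (nat_lit 0x0)))) (.node 2 (.node 1 (.leaf (nat_lit 0x0)) (.leaf (nat_lit 0x0))) (.node 1 (.leaf (nat_lit 0x0)) (.leaf (nat_lit 0x0))))) (.node 4 (.node 2 (.node 1 (.leaf (nat_lit 0x0)) (.leaf (nat_lit 0x0))) (.node 1 (.leaf (nat_lit 0x0)) (.leaf (nat_lit 0x0)))) (.node 2 (.node 1 (.leaf (nat_lit 0x0)) (.leaf (nat_lit 0x0))) (.node 1 (.leaf (nat_lit 0x0)) (.leaf (nat_lit 0x0))))))))

noncomputable def lvO2_13 : Tree :=
  .node 64 (.node 32 (.node 16 (.node 8 (.node 4 (.node 2 (.node 1 (.leaf (nat_lit 0x0)) (.leaf (nat_lit 0x0))) (.node 1 (.leaf (nat_lit 0x0)) (.leaf (nat_lit 0x0)))) (.node 2 (.node 1 (.leaf (nat_lit 0x0)) (.leaf (nat_lit 0x0))) (.node 1 (.leaf (nat_lit 0x0)) (.leaf (nat_lit 0x0))))) (.node 4 (.node 2 (.node 1 (.leaf (nat_lit 0x0)) (.leaf (nat_lit 0x0))) (.node 1 (.leaf (nat_lit 0x0)) (.leaf (nat_lit 0x0)))) (.node 2 (.node 1 (.leaf (nat_lit 0x0)) (.leaf (nat_lit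 0x0))) (.node 1 (.leaf (nat_lit 0x0)) (.leaf (nat_lit 0x0)))))) (.node 8 (.node 4 (.node 2 (.node 1 (.leaf (nat_lit 0x0)) (.leaf (nat_lit 0x0))) (.node 1 (.leaf (nat_lit 0x0)) (.leaf (nat_lit 0x0)))) (.node 2 (.node 1 (.leaf (nat_lit 0x0)) (.leaf (nat_lit 0x0))) (.node 1 (.leaf (nat_lit 0x0)) (.leaf (nat_lit 0x0))))) (.node 4 (.node 2 (.node 1 (.leaf (nat_lit 0x0)) (.leaf (nat_lit 0x0))) (.node 1 (.leaf (nat_lit 0x0)) (.leaf (nat_lit 0x0)))) (.node 2 (.node 1 (.leaf (nat_lit 0x0)) (.leaf (nat_lit 0x0))) (.node 1 (.leaf (nat_lit 0x0)) (.leaf (nat_lit 0x0))))))) (.node 16 (.node 8 (.node 4 (.node 2 (.node 1 (.leaf (nat_lit 0x0)) (.leaf (nat_lit 0x0))) (.node 1 (.leaf (nat_lit 0x0)) (.leaf (nat_lit 0x0)))) (.node 2 (.node 1 (.leaf (nat_lit 0x0)) (.leaf (nat_lit 0x0))) (.node 1 (.leaf (nat_lit 0x0)) (.leaf (nat_lit 0x0))))) (.node 4 (.node 2 (.node 1 (.leaf (nat_lit 0x0)) (.leaf (nat_lit 0x0))) (.node 1 (.leaf (nat_lit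 0x0)) (.leaf (nat_lit 0x0)))) (.node 2 (.node 1 (.leaf (nat_lit 0x0)) (.leaf (nat_lit 0x0))) (.node 1 (.leaf (nat_lit 0x0)) (.leaf (nat_lit 0x0)))))) (.node 8 (.node 4 (.node 2 (.node 1 (.leaf (nat_lit 0x0)) (.leaf (nat_lit 0x0))) (.node 1 (.leaf (nat_lit 0x0)) (.leaf (nat_lit 0x0)))) (.node 2 (.node 1 (.leaf (nat_lit 0x0)) (.leaf (nat_lit 0x0))) (.node 1 (.leaf (nat_lit 0x0)) (.leaf (nat_lit 0x0))))) (.node 4 (.node 2 (.node 1 (.leaf (nat_lit 0x0)) (.leaf (nat_lit 0x0))) (.node 1 (.leaf (nat_lit 0x0)) (.leaf (nat_lit 0x0)))) (.node 2 (.node 1 (.leaf (nat_lit 0x0)) (.leaf (nat_lit 0x0))) (.node 1 (.leaf (nat_lit 0x0)) (.leaf (nat_lit 0x0)))))))) (.node 32 (.node 16 (.node 8 (.node 4 (.node 2 (.node 1 (.leaf (nat_lit 0x0)) (.leaf (nat_lit 0x0))) (.node 1 (.leaf (nat_lit 0x0)) (.leaf (nat_lit 0x0)))) (.node 2 (.node 1 (.leaf (nat_lit 0x0)) (.leaf (nat_lit 0x0))) (.node 1 (.leaf (nat_lit 0x0)) (.leaf (nat_lit 0x0)))))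 (.node 4 (.node 2 (.node 1 (.leaf (nat_lit 0x0)) (.leaf (nat_lit 0x0))) (.node 1 (.leaf (nat_lit 0x0)) (.leaf (nat_lit 0x0)))) (.node 2 (.node 1 (.leaf (nat_lit 0x0)) (.leaf (nat_lit 0x0))) (.node 1 (.leaf (nat_lit 0x0)) (.leaf (nat_lit 0x0)))))) (.node 8 (.node 4 (.node 2 (.node 1 (.leaf (nat_lit 0x0)) (.leaf (nat_lit 0x0))) (.node 1 (.leaf (nat_lit 0x0)) (.leaf (nat_lit 0x0)))) (.node 2 (.node 1 (.leaf (nat_lit 0x0)) (.leaf (nat_lit 0x0))) (.node 1 (.leaf (nat_lit 0x0)) (.leaf (nat_lit 0x0))))) (.node 4 (.node 2 (.node 1 (.leaf (nat_lit 0x0)) (.leaf (nat_lit 0x0))) (.node 1 (.leaf (nat_lit 0x0)) (.leaf (nat_lit 0x0)))) (.node 2 (.node 1 (.leaf (nat_lit 0x0)) (.leaf (nat_lit 0x0))) (.node 1 (.leaf (nat_lit 0x0)) (.leaf (nat_lit 0x0))))))) (.node 16 (.node 8 (.node 4 (.node 2 (.node 1 (.leaf (nat_lit 0x0)) (.leaf (nat_lit 0x0))) (.node 1 (.leaf (nat_lit 0x0)) (.leaf (nat_lit 0x0)))) (.node 2 (.node 1 (.leaf (nat_lit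 0x0)) (.leaf (nat_lit 0x0))) (.node 1 (.leaf (nat_lit 0x0)) (.leaf (nat_lit 0x0))))) (.node 4 (.node 2 (.node 1 (.leaf (nat_lit 0x0)) (.leaf (nat_lit 0x0))) (.node 1 (.leaf (nat_lit 0x0)) (.leaf (nat_lit 0x0)))) (.node 2 (.node 1 (.leaf (nat_lit 0x0)) (.leaf (nat_lit 0x0))) (.node 1 (.leaf (nat_lit 0x0)) (.leaf (nat_lit 0x0)))))) (.node 8 (.node 4 (.node 2 (.node 1 (.leaf (nat_lit 0x0)) (.leaf (nat_lit 0x0))) (.node 1 (.leaf (nat_lit 0x0)) (.leaf (nat_lit 0x0)))) (.node 2 (.node 1 (.leaf (nat_lit 0x0)) (.leaf (nat_lit 0x0))) (.node 1 (.leaf (nat_lit 0x0)) (.leaf (nat_lit 0x0))))) (.node 4 (.node 2 (.node 1 (.leaf (nat_lit 0x0)) (.leaf (nat_lit 0x0))) (.node 1 (.leaf (nat_lit 0x0)) (.leaf (nat_lit 0x0)))) (.node 2 (.node 1 (.leaf (nat_lit 0x0)) (.leaf (nat_lit 0x0))) (.node 1 (.leaf (nat_lit 0x0)) (.leaf (nat_lit 0x0))))))))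

noncomputable def lvO2_14 : Tree :=
  .node 64 (.node 32 (.node 16 (.node 8 (.node 4 (.node 2 (.node 1 (.leaf (nat_lit 0x0)) (.leaf (nat_lit 0x0))) (.node 1 (.leaf (nat_lit 0x0)) (.leaf (nat_lit 0x0)))) (.node 2 (.node 1 (.leaf (nat_lit 0x0)) (.leaf (nat_lit 0x0))) (.node 1 (.leaf (nat_lit 0x0)) (.leaf (nat_lit 0x0))))) (.node 4 (.node 2 (.node 1 (.leaf (nat_lit 0x0)) (.leaf (nat_lit 0x0))) (.node 1 (.leaf (nat_lit 0x0)) (.leaf (nat_lit 0x0)))) (.node 2 (.node 1 (.leaf (nat_lit 0x0)) (.leaf (nat_lit 0x0))) (.node 1 (.leaf (nat_lit 0x0)) (.leaf (nat_lit 0x0)))))) (.node 8 (.node 4 (.node 2 (.node 1 (.leaf (nat_lit 0x0)) (.leaf (nat_lit 0x0))) (.node 1 (.leaf (nat_lit 0x0)) (.leaf (nat_lit 0x0)))) (.node 2 (.node 1 (.leaf (nat_lit 0x0)) (.leaf (nat_lit 0x0))) (.node 1 (.leaf (nat_lit 0x0)) (.leaf (nat_lit 0x0))))) (.node 4 (.node 2 (.node 1 (.leaf (nat_lit 0x0)) (.leaf (nat_lit 0x0))) (.node 1 (.leaf (nat_lit 0x0))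 (.leaf (nat_lit 0x0)))) (.node 2 (.node 1 (.leaf (nat_lit 0x0)) (.leaf (nat_lit 0x0))) (.node 1 (.leaf (nat_lit 0x0)) (.leaf (nat_lit 0x0))))))) (.node 16 (.node 8 (.node 4 (.node 2 (.node 1 (.leaf (nat_lit 0x0)) (.leaf (nat_lit 0x0))) (.node 1 (.leaf (nat_lit 0x0)) (.leaf (nat_lit 0x0)))) (.node 2 (.node 1 (.leaf (nat_lit 0x0)) (.leaf (nat_lit 0x0))) (.node 1 (.leaf (nat_lit 0x0)) (.leaf (nat_lit 0x0))))) (.node 4 (.node 2 (.node 1 (.leaf (nat_lit 0x0)) (.leaf (nat_lit 0x0))) (.node 1 (.leaf (nat_lit 0x0)) (.leaf (nat_lit 0x0)))) (.node 2 (.node 1 (.leaf (nat_lit 0x0)) (.leaf (nat_lit 0x0))) (.node 1 (.leaf (nat_lit 0x0)) (.leaf (nat_lit 0x0)))))) (.node 8 (.node 4 (.node 2 (.node 1 (.leaf (nat_lit 0x0)) (.leaf (nat_lit 0x0))) (.node 1 (.leaf (nat_lit 0x0)) (.leaf (nat_lit 0x0)))) (.node 2 (.node 1 (.leaf (nat_lit 0x0)) (.leaf (nat_lit 0x0))) (.node 1 (.leaf (nat_lit 0x0)) (.leaf (nat_lit 0x0))))) (.node 4 (.node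 2 (.node 1 (.leaf (nat_lit 0x0)) (.leaf (nat_lit 0x0))) (.node 1 (.leaf (nat_lit 0x0)) (.leaf (nat_lit 0x0)))) (.node 2 (.node 1 (.leaf (nat_lit 0x0)) (.leaf (nat_lit 0x0))) (.node 1 (.leaf (nat_lit 0x0)) (.leaf (nat_lit 0x0)))))))) (.node 32 (.node 16 (.node 8 (.node 4 (.node 2 (.node 1 (.leaf (nat_lit 0x0)) (.leaf (nat_lit 0x0))) (.node 1 (.leaf (nat_lit 0x0)) (.leaf (nat_lit 0x0)))) (.node 2 (.node 1 (.leaf (nat_lit 0x0)) (.leaf (nat_lit 0x0))) (.node 1 (.leaf (nat_lit 0x0)) (.leaf (nat_lit 0x0))))) (.node 4 (.node 2 (.node 1 (.leaf (nat_lit 0x0)) (.leaf (nat_lit 0x0))) (.node 1 (.leaf (nat_lit 0x0)) (.leaf (nat_lit 0x0)))) (.node 2 (.node 1 (.leaf (nat_lit 0x0)) (.leaf (nat_lit 0x0))) (.node 1 (.leaf (nat_lit 0x0)) (.leaf (nat_lit 0x0)))))) (.node 8 (.node 4 (.node 2 (.node 1 (.leaf (nat_lit 0x0)) (.leaf (nat_lit 0x0))) (.node 1 (.leaf (nat_lit 0x0)) (.leaf (nat_lit 0x0)))) (.node 2 (.node 1 (.leaf (nat_lit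 0x0)) (.leaf (nat_lit 0x0))) (.node 1 (.leaf (nat_lit 0x0)) (.leaf (nat_lit 0x0))))) (.node 4 (.node 2 (.node 1 (.leaf (nat_lit 0x0)) (.leaf (nat_lit 0x0))) (.node 1 (.leaf (nat_lit 0x0)) (.leaf (nat_lit 0x0)))) (.node 2 (.node 1 (.leaf (nat_lit 0x0)) (.leaf (nat_lit 0x0))) (.node 1 (.leaf (nat_lit 0x0)) (.leaf (nat_lit 0x0))))))) (.node 16 (.node 8 (.node 4 (.node 2 (.node 1 (.leaf (nat_lit 0x0)) (.leaf (nat_lit 0x0))) (.node 1 (.leaf (nat_lit 0x0)) (.leaf (nat_lit 0x0)))) (.node 2 (.node 1 (.leaf (nat_lit 0x0)) (.leaf (nat_lit 0x0))) (.node 1 (.leaf (nat_lit 0x0)) (.leaf (nat_lit 0x0))))) (.node 4 (.node 2 (.node 1 (.leaf (nat_lit 0x0)) (.leaf (nat_lit 0x0))) (.node 1 (.leaf (nat_lit 0x0)) (.leaf (nat_lit 0x0)))) (.node 2 (.node 1 (.leaf (nat_lit 0x0)) (.leaf (nat_lit 0x0))) (.node 1 (.leaf (nat_lit 0x0)) (.leaf (nat_lit 0x0)))))) (.node 8 (.node 4 (.node 2 (.node 1 (.leaf (nat_lit 0x0)) (.leaf (nat_lit 0x0)))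 (.node 1 (.leaf (nat_lit 0x0)) (.leaf (nat_lit 0x0)))) (.node 2 (.node 1 (.leaf (nat_lit 0x0)) (.leaf (nat_lit 0x0))) (.node 1 (.leaf (nat_lit 0x0)) (.leaf (nat_lit 0x0))))) (.node 4 (.node 2 (.node 1 (.leaf (nat_lit 0x0)) (.leaf (nat_lit 0x0))) (.node 1 (.leaf (nat_lit 0x0)) (.leaf (nat_lit 0x0)))) (.node 2 (.node 1 (.leaf (nat_lit 0x0)) (.leaf (nat_lit 0x0))) (.node 1 (.leaf (nat_lit 0x0)) (.leaf (nat_lit 0x0))))))))

noncomputable def lvO2_15 : Tree :=
  .node 64 (.node 32 (.node 16 (.node 8 (.node 4 (.node 2 (.node 1 (.leaf (nat_lit 0x0)) (.leaf (nat_lit 0x0))) (.node 1 (.leaf (nat_lit 0x0)) (.leaf (nat_lit 0x0)))) (.node 2 (.node 1 (.leaf (nat_lit 0x0)) (.leaf (nat_lit 0x0))) (.node 1 (.leaf (nat_lit 0x0)) (.leaf (nat_lit 0x0))))) (.node 4 (.node 2 (.node 1 (.leaf (nat_lit 0x0)) (.leaf (nat_lit 0x0))) (.node 1 (.leaf (nat_lit 0x0)) (.leaf (nat_lit 0x0)))) (.node 2 (.node 1 (.leaf (nat_lit 0x0)) (.leaf (nat_lit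 0x0))) (.node 1 (.leaf (nat_lit 0x0)) (.leaf (nat_lit 0x0)))))) (.node 8 (.node 4 (.node 2 (.node 1 (.leaf (nat_lit 0x0)) (.leaf (nat_lit 0x0))) (.node 1 (.leaf (nat_lit 0x0)) (.leaf (nat_lit 0x0)))) (.node 2 (.node 1 (.leaf (nat_lit 0x0)) (.leaf (nat_lit 0x0))) (.node 1 (.leaf (nat_lit 0x0)) (.leaf (nat_lit 0x0))))) (.node 4 (.node 2 (.node 1 (.leaf (nat_lit 0x0)) (.leaf (nat_lit 0x0))) (.node 1 (.leaf (nat_lit 0x0)) (.leaf (nat_lit 0x0)))) (.node 2 (.node 1 (.leaf (nat_lit 0x0)) (.leaf (nat_lit 0x0))) (.node 1 (.leaf (nat_lit 0x0)) (.leaf (nat_lit 0x0))))))) (.node 16 (.node 8 (.node 4 (.node 2 (.node 1 (.leaf (nat_lit 0x0)) (.leaf (nat_lit 0x0))) (.node 1 (.leaf (nat_lit 0x0)) (.leaf (nat_lit 0x0)))) (.node 2 (.node 1 (.leaf (nat_lit 0x0)) (.leaf (nat_lit 0x0))) (.node 1 (.leaf (nat_lit 0x0)) (.leaf (nat_lit 0x0))))) (.node 4 (.node 2 (.node 1 (.leaf (nat_lit 0x0)) (.leaf (nat_lit 0x0))) (.node 1 (.leaf (nat_lit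 0x0)) (.leaf (nat_lit 0x0)))) (.node 2 (.node 1 (.leaf (nat_lit 0x0)) (.leaf (nat_lit 0x0))) (.node 1 (.leaf (nat_lit 0x0)) (.leaf (nat_lit 0x0)))))) (.node 8 (.node 4 (.node 2 (.node 1 (.leaf (nat_lit 0x0)) (.leaf (nat_lit 0x0))) (.node 1 (.leaf (nat_lit 0x0)) (.leaf (nat_lit 0x0)))) (.node 2 (.node 1 (.leaf (nat_lit 0x0)) (.leaf (nat_lit 0x0))) (.node 1 (.leaf (nat_lit 0x0)) (.leaf (nat_lit 0x0))))) (.node 4 (.node 2 (.node 1 (.leaf (nat_lit 0x0)) (.leaf (nat_lit 0x0))) (.node 1 (.leaf (nat_lit 0x0)) (.leaf (nat_lit 0x0)))) (.node 2 (.node 1 (.leaf (nat_lit 0x0)) (.leaf (nat_lit 0x0))) (.node 1 (.leaf (nat_lit 0x0)) (.leaf (nat_lit 0x0)))))))) (.node 32 (.node 16 (.node 8 (.node 4 (.node 2 (.node 1 (.leaf (nat_lit 0x0)) (.leaf (nat_lit 0x0))) (.node 1 (.leaf (nat_lit 0x0)) (.leaf (nat_lit 0x0)))) (.node 2 (.node 1 (.leaf (nat_lit 0x0)) (.leaf (nat_lit 0x0))) (.node 1 (.leaf (nat_lit 0x0)) (.leaf (nat_lit 0x0)))))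 (.node 4 (.node 2 (.node 1 (.leaf (nat_lit 0x0)) (.leaf (nat_lit 0x0))) (.node 1 (.leaf (nat_lit 0x0)) (.leaf (nat_lit 0x0)))) (.node 2 (.node 1 (.leaf (nat_lit 0x0)) (.leaf (nat_lit 0x0))) (.node 1 (.leaf (nat_lit 0x0)) (.leaf (nat_lit 0x0)))))) (.node 8 (.node 4 (.node 2 (.node 1 (.leaf (nat_lit 0x0)) (.leaf (nat_lit 0x0))) (.node 1 (.leaf (nat_lit 0x0)) (.leaf (nat_lit 0x0)))) (.node 2 (.node 1 (.leaf (nat_lit 0x0)) (.leaf (nat_lit 0x0))) (.node 1 (.leaf (nat_lit 0x0)) (.leaf (nat_lit 0x0))))) (.node 4 (.node 2 (.node 1 (.leaf (nat_lit 0x0)) (.leaf (nat_lit 0x0))) (.node 1 (.leaf (nat_lit 0x0)) (.leaf (nat_lit 0x0)))) (.node 2 (.node 1 (.leaf (nat_lit 0x0)) (.leaf (nat_lit 0x0))) (.node 1 (.leaf (nat_lit 0x0)) (.leaf (nat_lit 0x0))))))) (.node 16 (.node 8 (.node 4 (.node 2 (.node 1 (.leaf (nat_lit 0x0)) (.leaf (nat_lit 0x0))) (.node 1 (.leaf (nat_lit 0x0)) (.leaf (nat_lit 0x0)))) (.node 2 (.node 1 (.leaf (nat_lit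 0x0)) (.leaf (nat_lit 0x0))) (.node 1 (.leaf (nat_lit 0x0)) (.leaf (nat_lit 0x0))))) (.node 4 (.node 2 (.node 1 (.leaf (nat_lit 0x0)) (.leaf (nat_lit 0x0))) (.node 1 (.leaf (nat_lit 0x0)) (.leaf (nat_lit 0x0)))) (.node 2 (.node 1 (.leaf (nat_lit 0x0)) (.leaf (nat_lit 0x0))) (.node 1 (.leaf (nat_lit 0x0)) (.leaf (nat_lit 0x0)))))) (.node 8 (.node 4 (.node 2 (.node 1 (.leaf (nat_lit 0x0)) (.leaf (nat_lit 0x0))) (.node 1 (.leaf (nat_lit 0x0)) (.leaf (nat_lit 0x0)))) (.node 2 (.node 1 (.leaf (nat_lit 0x0)) (.leaf (nat_lit 0x0))) (.node 1 (.leaf (nat_lit 0x0)) (.leaf (nat_lit 0x0))))) (.node 4 (.node 2 (.node 1 (.leaf (nat_lit 0x0)) (.leaf (nat_lit 0x0))) (.node 1 (.leaf (nat_lit 0x0)) (.leaf (nat_lit 0x0)))) (.node 2 (.node 1 (.leaf (nat_lit 0x0)) (.leaf (nat_lit 0x0))) (.node 1 (.leaf (nat_lit 0x0)) (.leaf (nat_lit 0x0))))))))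

noncomputable def lvO2_16 : Tree :=
  .node 64 (.node 32 (.node 16 (.node 8 (.node 4 (.node 2 (.node 1 (.leaf (nat_lit 0x0)) (.leaf (nat_lit 0x0))) (.node 1 (.leaf (nat_lit 0x0)) (.leaf (nat_lit 0x0)))) (.node 2 (.node 1 (.leaf (nat_lit 0x0)) (.leaf (nat_lit 0x0))) (.node 1 (.leaf (nat_lit 0x0)) (.leaf (nat_lit 0x0))))) (.node 4 (.node 2 (.node 1 (.leaf (nat_lit 0x0)) (.leaf (nat_lit 0x0))) (.node 1 (.leaf (nat_lit 0x0)) (.leaf (nat_lit 0x0)))) (.node 2 (.node 1 (.leaf (nat_lit 0x0)) (.leaf (nat_lit 0x0))) (.node 1 (.leaf (nat_lit 0x0)) (.leaf (nat_lit 0x0)))))) (.node 8 (.node 4 (.node 2 (.node 1 (.leaf (nat_lit 0x0)) (.leaf (nat_lit 0x0))) (.node 1 (.leaf (nat_lit 0x0)) (.leaf (nat_lit 0x0)))) (.node 2 (.node 1 (.leaf (nat_lit 0x0)) (.leaf (nat_lit 0x0))) (.node 1 (.leaf (nat_lit 0x0)) (.leaf (nat_lit 0x0))))) (.node 4 (.node 2 (.node 1 (.leaf (nat_lit 0x0)) (.leaf (nat_lit 0x0))) (.node 1 (.leaf (nat_lit 0x0))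 (.leaf (nat_lit 0x0)))) (.node 2 (.node 1 (.leaf (nat_lit 0x0)) (.leaf (nat_lit 0x0))) (.node 1 (.leaf (nat_lit 0x0)) (.leaf (nat_lit 0x0))))))) (.node 16 (.node 8 (.node 4 (.node 2 (.node 1 (.leaf (nat_lit 0x0)) (.leaf (nat_lit 0x0))) (.node 1 (.leaf (nat_lit 0x0)) (.leaf (nat_lit 0x0)))) (.node 2 (.node 1 (.leaf (nat_lit 0x0)) (.leaf (nat_lit 0x0))) (.node 1 (.leaf (nat_lit 0x0)) (.leaf (nat_lit 0x0))))) (.node 4 (.node 2 (.node 1 (.leaf (nat_lit 0x0)) (.leaf (nat_lit 0x0))) (.node 1 (.leaf (nat_lit 0x0)) (.leaf (nat_lit 0x0)))) (.node 2 (.node 1 (.leaf (nat_lit 0x0)) (.leaf (nat_lit 0x0))) (.node 1 (.leaf (nat_lit 0x0)) (.leaf (nat_lit 0x0)))))) (.node 8 (.node 4 (.node 2 (.node 1 (.leaf (nat_lit 0x0)) (.leaf (nat_lit 0x0))) (.node 1 (.leaf (nat_lit 0x0)) (.leaf (nat_lit 0x0)))) (.node 2 (.node 1 (.leaf (nat_lit 0x0)) (.leaf (nat_lit 0x0))) (.node 1 (.leaf (nat_lit 0x0)) (.leaf (nat_lit 0x0))))) (.node 4 (.node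 2 (.node 1 (.leaf (nat_lit 0x0)) (.leaf (nat_lit 0x0))) (.node 1 (.leaf (nat_lit 0x0)) (.leaf (nat_lit 0x0)))) (.node 2 (.node 1 (.leaf (nat_lit 0x0)) (.leaf (nat_lit 0x0))) (.node 1 (.leaf (nat_lit 0x0)) (.leaf (nat_lit 0x0)))))))) (.node 32 (.node 16 (.node 8 (.node 4 (.node 2 (.node 1 (.leaf (nat_lit 0x0)) (.leaf (nat_lit 0x0))) (.node 1 (.leaf (nat_lit 0x0)) (.leaf (nat_lit 0x0)))) (.node 2 (.node 1 (.leaf (nat_lit 0x0)) (.leaf (nat_lit 0x0))) (.node 1 (.leaf (nat_lit 0x0)) (.leaf (nat_lit 0x0))))) (.node 4 (.node 2 (.node 1 (.leaf (nat_lit 0x0)) (.leaf (nat_lit 0x0))) (.node 1 (.leaf (nat_lit 0x0)) (.leaf (nat_lit 0x0)))) (.node 2 (.node 1 (.leaf (nat_lit 0x0)) (.leaf (nat_lit 0x0))) (.node 1 (.leaf (nat_lit 0x0)) (.leaf (nat_lit 0x0)))))) (.node 8 (.node 4 (.node 2 (.node 1 (.leaf (nat_lit 0x0)) (.leaf (nat_lit 0x0))) (.node 1 (.leaf (nat_lit 0x0)) (.leaf (nat_lit 0x0)))) (.node 2 (.node 1 (.leaf (nat_lit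 0x0)) (.leaf (nat_lit 0x0))) (.node 1 (.leaf (nat_lit 0x0)) (.leaf (nat_lit 0x0))))) (.node 4 (.node 2 (.node 1 (.leaf (nat_lit 0x0)) (.leaf (nat_lit 0x0))) (.node 1 (.leaf (nat_lit 0x0)) (.leaf (nat_lit 0x0)))) (.node 2 (.node 1 (.leaf (nat_lit 0x0)) (.leaf (nat_lit 0x0))) (.node 1 (.leaf (nat_lit 0x0)) (.leaf (nat_lit 0x0))))))) (.node 16 (.node 8 (.node 4 (.node 2 (.node 1 (.leaf (nat_lit 0x0)) (.leaf (nat_lit 0x0))) (.node 1 (.leaf (nat_lit 0x0)) (.leaf (nat_lit 0x0)))) (.node 2 (.node 1 (.leaf (nat_lit 0x0)) (.leaf (nat_lit 0x0))) (.node 1 (.leaf (nat_lit 0x0)) (.leaf (nat_lit 0x0))))) (.node 4 (.node 2 (.node 1 (.leaf (nat_lit 0x0)) (.leaf (nat_lit 0x0))) (.node 1 (.leaf (nat_lit 0x0)) (.leaf (nat_lit 0x0)))) (.node 2 (.node 1 (.leaf (nat_lit 0x0)) (.leaf (nat_lit 0x0))) (.node 1 (.leaf (nat_lit 0x0)) (.leaf (nat_lit 0x0)))))) (.node 8 (.node 4 (.node 2 (.node 1 (.leaf (nat_lit 0x0)) (.leaf (nat_lit 0x0)))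 (.node 1 (.leaf (nat_lit 0x0)) (.leaf (nat_lit 0x0)))) (.node 2 (.node 1 (.leaf (nat_lit 0x0)) (.leaf (nat_lit 0x0))) (.node 1 (.leaf (nat_lit 0x0)) (.leaf (nat_lit 0x0))))) (.node 4 (.node 2 (.node 1 (.leaf (nat_lit 0x0)) (.leaf (nat_lit 0x0))) (.node 1 (.leaf (nat_lit 0x0)) (.leaf (nat_lit 0x0)))) (.node 2 (.node 1 (.leaf (nat_lit 0x0)) (.leaf (nat_lit 0x0))) (.node 1 (.leaf (nat_lit 0x0)) (.leaf (nat_lit 0x0))))))))

noncomputable def lvO2_17 : Tree :=
  .node 64 (.node 32 (.node 16 (.node 8 (.node 4 (.node 2 (.node 1 (.leaf (nat_lit 0x0)) (.leaf (nat_lit 0x0))) (.node 1 (.leaf (nat_lit 0x0)) (.leaf (nat_lit 0x0)))) (.node 2 (.node 1 (.leaf (nat_lit 0x0)) (.leaf (nat_lit 0x0))) (.node 1 (.leaf (nat_lit 0x0)) (.leaf (nat_lit 0x0))))) (.node 4 (.node 2 (.node 1 (.leaf (nat_lit 0x0)) (.leaf (nat_lit 0x0))) (.node 1 (.leaf (nat_lit 0x0)) (.leaf (nat_lit 0x0)))) (.node 2 (.node 1 (.leaf (nat_lit 0x0)) (.leaf (nat_lit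 0x0))) (.node 1 (.leaf (nat_lit 0x0)) (.leaf (nat_lit 0x0)))))) (.node 8 (.node 4 (.node 2 (.node 1 (.leaf (nat_lit 0x0)) (.leaf (nat_lit 0x0))) (.node 1 (.leaf (nat_lit 0x0)) (.leaf (nat_lit 0x0)))) (.node 2 (.node 1 (.leaf (nat_lit 0x0)) (.leaf (nat_lit 0x0))) (.node 1 (.leaf (nat_lit 0x0)) (.leaf (nat_lit 0x0))))) (.node 4 (.node 2 (.node 1 (.leaf (nat_lit 0x0)) (.leaf (nat_lit 0x0))) (.node 1 (.leaf (nat_lit 0x0)) (.leaf (nat_lit 0x0)))) (.node 2 (.node 1 (.leaf (nat_lit 0x0)) (.leaf (nat_lit 0x0))) (.node 1 (.leaf (nat_lit 0x0)) (.leaf (nat_lit 0x0))))))) (.node 16 (.node 8 (.node 4 (.node 2 (.node 1 (.leaf (nat_lit 0x0)) (.leaf (nat_lit 0x0))) (.node 1 (.leaf (nat_lit 0x0)) (.leaf (nat_lit 0x0)))) (.node 2 (.node 1 (.leaf (nat_lit 0x0)) (.leaf (nat_lit 0x0))) (.node 1 (.leaf (nat_lit 0x0)) (.leaf (nat_lit 0x0))))) (.node 4 (.node 2 (.node 1 (.leaf (nat_lit 0x0)) (.leaf (nat_lit 0x0))) (.node 1 (.leaf (nat_lit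 0x0)) (.leaf (nat_lit 0x0)))) (.node 2 (.node 1 (.leaf (nat_lit 0x0)) (.leaf (nat_lit 0x0))) (.node 1 (.leaf (nat_lit 0x0)) (.leaf (nat_lit 0x0)))))) (.node 8 (.node 4 (.node 2 (.node 1 (.leaf (nat_lit 0x0)) (.leaf (nat_lit 0x0))) (.node 1 (.leaf (nat_lit 0x0)) (.leaf (nat_lit 0x0)))) (.node 2 (.node 1 (.leaf (nat_lit 0x0)) (.leaf (nat_lit 0x0))) (.node 1 (.leaf (nat_lit 0x0)) (.leaf (nat_lit 0x0))))) (.node 4 (.node 2 (.node 1 (.leaf (nat_lit 0x0)) (.leaf (nat_lit 0x0))) (.node 1 (.leaf (nat_lit 0x0)) (.leaf (nat_lit 0x0)))) (.node 2 (.node 1 (.leaf (nat_lit 0x0)) (.leaf (nat_lit 0x0))) (.node 1 (.leaf (nat_lit 0x0)) (.leaf (nat_lit 0x0)))))))) (.node 32 (.node 16 (.node 8 (.node 4 (.node 2 (.node 1 (.leaf (nat_lit 0x0)) (.leaf (nat_lit 0x0))) (.node 1 (.leaf (nat_lit 0x0)) (.leaf (nat_lit 0x0)))) (.node 2 (.node 1 (.leaf (nat_lit 0x0)) (.leaf (nat_lit 0x0))) (.node 1 (.leaf (nat_lit 0x0)) (.leaf (nat_lit 0x0)))))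 (.node 4 (.node 2 (.node 1 (.leaf (nat_lit 0x0)) (.leaf (nat_lit 0x0))) (.node 1 (.leaf (nat_lit 0x0)) (.leaf (nat_lit 0x0)))) (.node 2 (.node 1 (.leaf (nat_lit 0x0)) (.leaf (nat_lit 0x0))) (.node 1 (.leaf (nat_lit 0x0)) (.leaf (nat_lit 0x0)))))) (.node 8 (.node 4 (.node 2 (.node 1 (.leaf (nat_lit 0x0)) (.leaf (nat_lit 0x0))) (.node 1 (.leaf (nat_lit 0x0)) (.leaf (nat_lit 0x0)))) (.node 2 (.node 1 (.leaf (nat_lit 0x0)) (.leaf (nat_lit 0x0))) (.node 1 (.leaf (nat_lit 0x0)) (.leaf (nat_lit 0x0))))) (.node 4 (.node 2 (.node 1 (.leaf (nat_lit 0x0)) (.leaf (nat_lit 0x0))) (.node 1 (.leaf (nat_lit 0x0)) (.leaf (nat_lit 0x0)))) (.node 2 (.node 1 (.leaf (nat_lit 0x0)) (.leaf (nat_lit 0x0))) (.node 1 (.leaf (nat_lit 0x0)) (.leaf (nat_lit 0x0))))))) (.node 16 (.node 8 (.node 4 (.node 2 (.node 1 (.leaf (nat_lit 0x0)) (.leaf (nat_lit 0x0))) (.node 1 (.leaf (nat_lit 0x0)) (.leaf (nat_lit 0x0)))) (.node 2 (.node 1 (.leaf (nat_lit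 0x0)) (.leaf (nat_lit 0x0))) (.node 1 (.leaf (nat_lit 0x0)) (.leaf (nat_lit 0x0))))) (.node 4 (.node 2 (.node 1 (.leaf (nat_lit 0x0)) (.leaf (nat_lit 0x0))) (.node 1 (.leaf (nat_lit 0x0)) (.leaf (nat_lit 0x0)))) (.node 2 (.node 1 (.leaf (nat_lit 0x0)) (.leaf (nat_lit 0x0))) (.node 1 (.leaf (nat_lit 0x0)) (.leaf (nat_lit 0x0)))))) (.node 8 (.node 4 (.node 2 (.node 1 (.leaf (nat_lit 0x0)) (.leaf (nat_lit 0x0))) (.node 1 (.leaf (nat_lit 0x0)) (.leaf (nat_lit 0x0)))) (.node 2 (.node 1 (.leaf (nat_lit 0x0)) (.leaf (nat_lit 0x0))) (.node 1 (.leaf (nat_lit 0x0)) (.leaf (nat_lit 0x0))))) (.node 4 (.node 2 (.node 1 (.leaf (nat_lit 0x0)) (.leaf (nat_lit 0x0))) (.node 1 (.leaf (nat_lit 0x0)) (.leaf (nat_lit 0x0)))) (.node 2 (.node 1 (.leaf (nat_lit 0x0)) (.leaf (nat_lit 0x0))) (.node 1 (.leaf (nat_lit 0x0)) (.leaf (nat_lit 0x0))))))))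

noncomputable def lvO2_18 : Tree :=
  .node 64 (.node 32 (.node 16 (.node 8 (.node 4 (.node 2 (.node 1 (.leaf (nat_lit 0x0)) (.leaf (nat_lit 0x0))) (.node 1 (.leaf (nat_lit 0x0)) (.leaf (nat_lit 0x0)))) (.node 2 (.node 1 (.leaf (nat_lit 0x0)) (.leaf (nat_lit 0x0))) (.node 1 (.leaf (nat_lit 0x0)) (.leaf (nat_lit 0x0))))) (.node 4 (.node 2 (.node 1 (.leaf (nat_lit 0x0)) (.leaf (nat_lit 0x0))) (.node 1 (.leaf (nat_lit 0x0)) (.leaf (nat_lit 0x0)))) (.node 2 (.node 1 (.leaf (nat_lit 0x0)) (.leaf (nat_lit 0x0))) (.node 1 (.leaf (nat_lit 0x0)) (.leaf (nat_lit 0x0)))))) (.node 8 (.node 4 (.node 2 (.node 1 (.leaf (nat_lit 0x0)) (.leaf (nat_lit 0x0))) (.node 1 (.leaf (nat_lit 0x0)) (.leaf (nat_lit 0x0)))) (.node 2 (.node 1 (.leaf (nat_lit 0x0)) (.leaf (nat_lit 0x0))) (.node 1 (.leaf (nat_lit 0x0)) (.leaf (nat_lit 0x0))))) (.node 4 (.node 2 (.node 1 (.leaf (nat_lit 0x0)) (.leaf (nat_lit 0x0))) (.node 1 (.leaf (nat_lit 0x0))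 (.leaf (nat_lit 0x0)))) (.node 2 (.node 1 (.leaf (nat_lit 0x0)) (.leaf (nat_lit 0x0))) (.node 1 (.leaf (nat_lit 0x0)) (.leaf (nat_lit 0x0))))))) (.node 16 (.node 8 (.node 4 (.node 2 (.node 1 (.leaf (nat_lit 0x0)) (.leaf (nat_lit 0x0))) (.node 1 (.leaf (nat_lit 0x0)) (.leaf (nat_lit 0x0)))) (.node 2 (.node 1 (.leaf (nat_lit 0x0)) (.leaf (nat_lit 0x0))) (.node 1 (.leaf (nat_lit 0x0)) (.leaf (nat_lit 0x0))))) (.node 4 (.node 2 (.node 1 (.leaf (nat_lit 0x0)) (.leaf (nat_lit 0x0))) (.node 1 (.leaf (nat_lit 0x0)) (.leaf (nat_lit 0x0)))) (.node 2 (.node 1 (.leaf (nat_lit 0x0)) (.leaf (nat_lit 0x0))) (.node 1 (.leaf (nat_lit 0x0)) (.leaf (nat_lit 0x0)))))) (.node 8 (.node 4 (.node 2 (.node 1 (.leaf (nat_lit 0x0)) (.leaf (nat_lit 0x0))) (.node 1 (.leaf (nat_lit 0x0)) (.leaf (nat_lit 0x0)))) (.node 2 (.node 1 (.leaf (nat_lit 0x0)) (.leaf (nat_lit 0x0))) (.node 1 (.leaf (nat_lit 0x0)) (.leaf (nat_lit 0x0))))) (.node 4 (.node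 2 (.node 1 (.leaf (nat_lit 0x0)) (.leaf (nat_lit 0x0))) (.node 1 (.leaf (nat_lit 0x0)) (.leaf (nat_lit 0x0)))) (.node 2 (.node 1 (.leaf (nat_lit 0x0)) (.leaf (nat_lit 0x0))) (.node 1 (.leaf (nat_lit 0x0)) (.leaf (nat_lit 0x0)))))))) (.node 32 (.node 16 (.node 8 (.node 4 (.node 2 (.node 1 (.leaf (nat_lit 0x0)) (.leaf (nat_lit 0x0))) (.node 1 (.leaf (nat_lit 0x0)) (.leaf (nat_lit 0x0)))) (.node 2 (.node 1 (.leaf (nat_lit 0x0)) (.leaf (nat_lit 0x0))) (.node 1 (.leaf (nat_lit 0x0)) (.leaf (nat_lit 0x0))))) (.node 4 (.node 2 (.node 1 (.leaf (nat_lit 0x0)) (.leaf (nat_lit 0x0))) (.node 1 (.leaf (nat_lit 0x0)) (.leaf (nat_lit 0x0)))) (.node 2 (.node 1 (.leaf (nat_lit 0x0)) (.leaf (nat_lit 0x0))) (.node 1 (.leaf (nat_lit 0x0)) (.leaf (nat_lit 0x0)))))) (.node 8 (.node 4 (.node 2 (.node 1 (.leaf (nat_lit 0x0)) (.leaf (nat_lit 0x0))) (.node 1 (.leaf (nat_lit 0x0)) (.leaf (nat_lit 0x0)))) (.node 2 (.node 1 (.leaf (nat_lit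 0x0)) (.leaf (nat_lit 0x0))) (.node 1 (.leaf (nat_lit 0x0)) (.leaf (nat_lit 0x0))))) (.node 4 (.node 2 (.node 1 (.leaf (nat_lit 0x0)) (.leaf (nat_lit 0x0))) (.node 1 (.leaf (nat_lit 0x0)) (.leaf (nat_lit 0x0)))) (.node 2 (.node 1 (.leaf (nat_lit 0x0)) (.leaf (nat_lit 0x0))) (.node 1 (.leaf (nat_lit 0x0)) (.leaf (nat_lit 0x0))))))) (.node 16 (.node 8 (.node 4 (.node 2 (.node 1 (.leaf (nat_lit 0x0)) (.leaf (nat_lit 0x0))) (.node 1 (.leaf (nat_lit 0x0)) (.leaf (nat_lit 0x0)))) (.node 2 (.node 1 (.leaf (nat_lit 0x0)) (.leaf (nat_lit 0x0))) (.node 1 (.leaf (nat_lit 0x0)) (.leaf (nat_lit 0x0))))) (.node 4 (.node 2 (.node 1 (.leaf (nat_lit 0x0)) (.leaf (nat_lit 0x0))) (.node 1 (.leaf (nat_lit 0x0)) (.leaf (nat_lit 0x0)))) (.node 2 (.node 1 (.leaf (nat_lit 0x0)) (.leaf (nat_lit 0x0))) (.node 1 (.leaf (nat_lit 0x0)) (.leaf (nat_lit 0x0)))))) (.node 8 (.node 4 (.node 2 (.node 1 (.leaf (nat_lit 0x0)) (.leaf (nat_lit 0x0)))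 (.node 1 (.leaf (nat_lit 0x0)) (.leaf (nat_lit 0x0)))) (.node 2 (.node 1 (.leaf (nat_lit 0x0)) (.leaf (nat_lit 0x0))) (.node 1 (.leaf (nat_lit 0x0)) (.leaf (nat_lit 0x0))))) (.node 4 (.node 2 (.node 1 (.leaf (nat_lit 0x0)) (.leaf (nat_lit 0x0))) (.node 1 (.leaf (nat_lit 0x0)) (.leaf (nat_lit 0x0)))) (.node 2 (.node 1 (.leaf (nat_lit 0x0)) (.leaf (nat_lit 0x0))) (.node 1 (.leaf (nat_lit 0x0)) (.leaf (nat_lit 0x0))))))))

noncomputable def lvO2_19 : Tree :=
  .node 64 (.node 32 (.node 16 (.node 8 (.node 4 (.node 2 (.node 1 (.leaf (nat_lit 0x0)) (.leaf (nat_lit 0x0))) (.node 1 (.leaf (nat_lit 0x0)) (.leaf (nat_lit 0x0)))) (.node 2 (.node 1 (.leaf (nat_lit 0x0)) (.leaf (nat_lit 0x0))) (.node 1 (.leaf (nat_lit 0x0)) (.leaf (nat_lit 0x0))))) (.node 4 (.node 2 (.node 1 (.leaf (nat_lit 0x0)) (.leaf (nat_lit 0x0))) (.node 1 (.leaf (nat_lit 0x0)) (.leaf (nat_lit 0x0)))) (.node 2 (.node 1 (.leaf (nat_lit 0x0)) (.leaf (nat_lit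 0x0))) (.node 1 (.leaf (nat_lit 0x0)) (.leaf (nat_lit 0x0)))))) (.node 8 (.node 4 (.node 2 (.node 1 (.leaf (nat_lit 0x0)) (.leaf (nat_lit 0x0))) (.node 1 (.leaf (nat_lit 0x0)) (.leaf (nat_lit 0x0)))) (.node 2 (.node 1 (.leaf (nat_lit 0x0)) (.leaf (nat_lit 0x0))) (.node 1 (.leaf (nat_lit 0x0)) (.leaf (nat_lit 0x0))))) (.node 4 (.node 2 (.node 1 (.leaf (nat_lit 0x0)) (.leaf (nat_lit 0x0))) (.node 1 (.leaf (nat_lit 0x0)) (.leaf (nat_lit 0x0)))) (.node 2 (.node 1 (.leaf (nat_lit 0x0)) (.leaf (nat_lit 0x0))) (.node 1 (.leaf (nat_lit 0x0)) (.leaf (nat_lit 0x0))))))) (.node 16 (.node 8 (.node 4 (.node 2 (.node 1 (.leaf (nat_lit 0x0)) (.leaf (nat_lit 0x0))) (.node 1 (.leaf (nat_lit 0x0)) (.leaf (nat_lit 0x0)))) (.node 2 (.node 1 (.leaf (nat_lit 0x0)) (.leaf (nat_lit 0x0))) (.node 1 (.leaf (nat_lit 0x0)) (.leaf (nat_lit 0x0))))) (.node 4 (.node 2 (.node 1 (.leaf (nat_lit 0x0)) (.leaf (nat_lit 0x0))) (.node 1 (.leaf (nat_lit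 0x0)) (.leaf (nat_lit 0x0)))) (.node 2 (.node 1 (.leaf (nat_lit 0x0)) (.leaf (nat_lit 0x0))) (.node 1 (.leaf (nat_lit 0x0)) (.leaf (nat_lit 0x0)))))) (.node 8 (.node 4 (.node 2 (.node 1 (.leaf (nat_lit 0x0)) (.leaf (nat_lit 0x0))) (.node 1 (.leaf (nat_lit 0x0)) (.leaf (nat_lit 0x0)))) (.node 2 (.node 1 (.leaf (nat_lit 0x0)) (.leaf (nat_lit 0x0))) (.node 1 (.leaf (nat_lit 0x0)) (.leaf (nat_lit 0x0))))) (.node 4 (.node 2 (.node 1 (.leaf (nat_lit 0x0)) (.leaf (nat_lit 0x0))) (.node 1 (.leaf (nat_lit 0x0)) (.leaf (nat_lit 0x0)))) (.node 2 (.node 1 (.leaf (nat_lit 0x0)) (.leaf (nat_lit 0x0))) (.node 1 (.leaf (nat_lit 0x0)) (.leaf (nat_lit 0x0)))))))) (.node 32 (.node 16 (.node 8 (.node 4 (.node 2 (.node 1 (.leaf (nat_lit 0x0)) (.leaf (nat_lit 0x0))) (.node 1 (.leaf (nat_lit 0x0)) (.leaf (nat_lit 0x0)))) (.node 2 (.node 1 (.leaf (nat_lit 0x0)) (.leaf (nat_lit 0x0))) (.node 1 (.leaf (nat_lit 0x0)) (.leaf (nat_lit 0x0)))))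 (.node 4 (.node 2 (.node 1 (.leaf (nat_lit 0x0)) (.leaf (nat_lit 0x0))) (.node 1 (.leaf (nat_lit 0x0)) (.leaf (nat_lit 0x0)))) (.node 2 (.node 1 (.leaf (nat_lit 0x0)) (.leaf (nat_lit 0x0))) (.node 1 (.leaf (nat_lit 0x0)) (.leaf (nat_lit 0x0)))))) (.node 8 (.node 4 (.node 2 (.node 1 (.leaf (nat_lit 0x0)) (.leaf (nat_lit 0x0))) (.node 1 (.leaf (nat_lit 0x0)) (.leaf (nat_lit 0x0)))) (.node 2 (.node 1 (.leaf (nat_lit 0x0)) (.leaf (nat_lit 0x0))) (.node 1 (.leaf (nat_lit 0x0)) (.leaf (nat_lit 0x0))))) (.node 4 (.node 2 (.node 1 (.leaf (nat_lit 0x0)) (.leaf (nat_lit 0x0))) (.node 1 (.leaf (nat_lit 0x0)) (.leaf (nat_lit 0x0)))) (.node 2 (.node 1 (.leaf (nat_lit 0x0)) (.leaf (nat_lit 0x0))) (.node 1 (.leaf (nat_lit 0x0)) (.leaf (nat_lit 0x0))))))) (.node 16 (.node 8 (.node 4 (.node 2 (.node 1 (.leaf (nat_lit 0x0)) (.leaf (nat_lit 0x0))) (.node 1 (.leaf (nat_lit 0x0)) (.leaf (nat_lit 0x0)))) (.node 2 (.node 1 (.leaf (nat_lit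 0x0)) (.leaf (nat_lit 0x0))) (.node 1 (.leaf (nat_lit 0x0)) (.leaf (nat_lit 0x0))))) (.node 4 (.node 2 (.node 1 (.leaf (nat_lit 0x0)) (.leaf (nat_lit 0x0))) (.node 1 (.leaf (nat_lit 0x0)) (.leaf (nat_lit 0x0)))) (.node 2 (.node 1 (.leaf (nat_lit 0x0)) (.leaf (nat_lit 0x0))) (.node 1 (.leaf (nat_lit 0x0)) (.leaf (nat_lit 0x0)))))) (.node 8 (.node 4 (.node 2 (.node 1 (.leaf (nat_lit 0x0)) (.leaf (nat_lit 0x0))) (.node 1 (.leaf (nat_lit 0x0)) (.leaf (nat_lit 0x0)))) (.node 2 (.node 1 (.leaf (nat_lit 0x0)) (.leaf (nat_lit 0x0))) (.node 1 (.leaf (nat_lit 0x0)) (.leaf (nat_lit 0x0))))) (.node 4 (.node 2 (.node 1 (.leaf (nat_lit 0x0)) (.leaf (nat_lit 0x0))) (.node 1 (.leaf (nat_lit 0x0)) (.leaf (nat_lit 0x0)))) (.node 2 (.node 1 (.leaf (nat_lit 0x0)) (.leaf (nat_lit 0x0))) (.node 1 (.leaf (nat_lit 0x0)) (.leaf (nat_lit 0x0))))))))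

noncomputable def lvO2_20 : Tree :=
  .node 64 (.node 32 (.node 16 (.node 8 (.node 4 (.node 2 (.node 1 (.leaf (nat_lit 0x0)) (.leaf (nat_lit 0x0))) (.node 1 (.leaf (nat_lit 0x0)) (.leaf (nat_lit 0x0)))) (.node 2 (.node 1 (.leaf (nat_lit 0x0)) (.leaf (nat_lit 0x0))) (.node 1 (.leaf (nat_lit 0x0)) (.leaf (nat_lit 0x0))))) (.node 4 (.node 2 (.node 1 (.leaf (nat_lit 0x0)) (.leaf (nat_lit 0x0))) (.node 1 (.leaf (nat_lit 0x0)) (.leaf (nat_lit 0x0)))) (.node 2 (.node 1 (.leaf (nat_lit 0x0)) (.leaf (nat_lit 0x0))) (.node 1 (.leaf (nat_lit 0x0)) (.leaf (nat_lit 0x0)))))) (.node 8 (.node 4 (.node 2 (.node 1 (.leaf (nat_lit 0x0)) (.leaf (nat_lit 0x0))) (.node 1 (.leaf (nat_lit 0x0)) (.leaf (nat_lit 0x0)))) (.node 2 (.node 1 (.leaf (nat_lit 0x0)) (.leaf (nat_lit 0x0))) (.node 1 (.leaf (nat_lit 0x0)) (.leaf (nat_lit 0x0))))) (.node 4 (.node 2 (.node 1 (.leaf (nat_lit 0x0)) (.leaf (nat_lit 0x0))) (.node 1 (.leaf (nat_lit 0x0))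 (.leaf (nat_lit 0x0)))) (.node 2 (.node 1 (.leaf (nat_lit 0x0)) (.leaf (nat_lit 0x0))) (.node 1 (.leaf (nat_lit 0x0)) (.leaf (nat_lit 0x0))))))) (.node 16 (.node 8 (.node 4 (.node 2 (.node 1 (.leaf (nat_lit 0x0)) (.leaf (nat_lit 0x0))) (.node 1 (.leaf (nat_lit 0x0)) (.leaf (nat_lit 0x0)))) (.node 2 (.node 1 (.leaf (nat_lit 0x0)) (.leaf (nat_lit 0x0))) (.node 1 (.leaf (nat_lit 0x0)) (.leaf (nat_lit 0x0))))) (.node 4 (.node 2 (.node 1 (.leaf (nat_lit 0x0)) (.leaf (nat_lit 0x0))) (.node 1 (.leaf (nat_lit 0x0)) (.leaf (nat_lit 0x0)))) (.node 2 (.node 1 (.leaf (nat_lit 0x0)) (.leaf (nat_lit 0x0))) (.node 1 (.leaf (nat_lit 0x0)) (.leaf (nat_lit 0x0)))))) (.node 8 (.node 4 (.node 2 (.node 1 (.leaf (nat_lit 0x0)) (.leaf (nat_lit 0x0))) (.node 1 (.leaf (nat_lit 0x0)) (.leaf (nat_lit 0x0)))) (.node 2 (.node 1 (.leaf (nat_lit 0x0)) (.leaf (nat_lit 0x0))) (.node 1 (.leaf (nat_lit 0x0)) (.leaf (nat_lit 0x0))))) (.node 4 (.node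 2 (.node 1 (.leaf (nat_lit 0x0)) (.leaf (nat_lit 0x0))) (.node 1 (.leaf (nat_lit 0x0)) (.leaf (nat_lit 0x0)))) (.node 2 (.node 1 (.leaf (nat_lit 0x0)) (.leaf (nat_lit 0x0))) (.node 1 (.leaf (nat_lit 0x0)) (.leaf (nat_lit 0x0)))))))) (.node 32 (.node 16 (.node 8 (.node 4 (.node 2 (.node 1 (.leaf (nat_lit 0x0)) (.leaf (nat_lit 0x0))) (.node 1 (.leaf (nat_lit 0x0)) (.leaf (nat_lit 0x0)))) (.node 2 (.node 1 (.leaf (nat_lit 0x0)) (.leaf (nat_lit 0x0))) (.node 1 (.leaf (nat_lit 0x0)) (.leaf (nat_lit 0x0))))) (.node 4 (.node 2 (.node 1 (.leaf (nat_lit 0x0)) (.leaf (nat_lit 0x0))) (.node 1 (.leaf (nat_lit 0x0)) (.leaf (nat_lit 0x0)))) (.node 2 (.node 1 (.leaf (nat_lit 0x0)) (.leaf (nat_lit 0x0))) (.node 1 (.leaf (nat_lit 0x0)) (.leaf (nat_lit 0x0)))))) (.node 8 (.node 4 (.node 2 (.node 1 (.leaf (nat_lit 0x0)) (.leaf (nat_lit 0x0))) (.node 1 (.leaf (nat_lit 0x0)) (.leaf (nat_lit 0x0)))) (.node 2 (.node 1 (.leaf (nat_lit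 0x0)) (.leaf (nat_lit 0x0))) (.node 1 (.leaf (nat_lit 0x0)) (.leaf (nat_lit 0x0))))) (.node 4 (.node 2 (.node 1 (.leaf (nat_lit 0x0)) (.leaf (nat_lit 0x0))) (.node 1 (.leaf (nat_lit 0x0)) (.leaf (nat_lit 0x0)))) (.node 2 (.node 1 (.leaf (nat_lit 0x0)) (.leaf (nat_lit 0x0))) (.node 1 (.leaf (nat_lit 0x0)) (.leaf (nat_lit 0x0))))))) (.node 16 (.node 8 (.node 4 (.node 2 (.node 1 (.leaf (nat_lit 0x0)) (.leaf (nat_lit 0x0))) (.node 1 (.leaf (nat_lit 0x0)) (.leaf (nat_lit 0x0)))) (.node 2 (.node 1 (.leaf (nat_lit 0x0)) (.leaf (nat_lit 0x0))) (.node 1 (.leaf (nat_lit 0x0)) (.leaf (nat_lit 0x0))))) (.node 4 (.node 2 (.node 1 (.leaf (nat_lit 0x0)) (.leaf (nat_lit 0x0))) (.node 1 (.leaf (nat_lit 0x0)) (.leaf (nat_lit 0x0)))) (.node 2 (.node 1 (.leaf (nat_lit 0x0)) (.leaf (nat_lit 0x0))) (.node 1 (.leaf (nat_lit 0x0)) (.leaf (nat_lit 0x0)))))) (.node 8 (.node 4 (.node 2 (.node 1 (.leaf (nat_lit 0x0)) (.leaf (nat_lit 0x0)))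 (.node 1 (.leaf (nat_lit 0x0)) (.leaf (nat_lit 0x0)))) (.node 2 (.node 1 (.leaf (nat_lit 0x0)) (.leaf (nat_lit 0x0))) (.node 1 (.leaf (nat_lit 0x0)) (.leaf (nat_lit 0x0))))) (.node 4 (.node 2 (.node 1 (.leaf (nat_lit 0x0)) (.leaf (nat_lit 0x0))) (.node 1 (.leaf (nat_lit 0x0)) (.leaf (nat_lit 0x0)))) (.node 2 (.node 1 (.leaf (nat_lit 0x0)) (.leaf (nat_lit 0x0))) (.node 1 (.leaf (nat_lit 0x0)) (.leaf (nat_lit 0x0))))))))

noncomputable def lvO2_21 : Tree :=
  .node 64 (.node 32 (.node 16 (.node 8 (.node 4 (.node 2 (.node 1 (.leaf (nat_lit 0x0)) (.leaf (nat_lit 0x0))) (.node 1 (.leaf (nat_lit 0x0)) (.leaf (nat_lit 0x0)))) (.node 2 (.node 1 (.leaf (nat_lit 0x0)) (.leaf (nat_lit 0x0))) (.node 1 (.leaf (nat_lit 0x0)) (.leaf (nat_lit 0x0))))) (.node 4 (.node 2 (.node 1 (.leaf (nat_lit 0x0)) (.leaf (nat_lit 0x0))) (.node 1 (.leaf (nat_lit 0x0)) (.leaf (nat_lit 0x0)))) (.node 2 (.node 1 (.leaf (nat_lit 0x0)) (.leaf (nat_lit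 0x0))) (.node 1 (.leaf (nat_lit 0x0)) (.leaf (nat_lit 0x0)))))) (.node 8 (.node 4 (.node 2 (.node 1 (.leaf (nat_lit 0x0)) (.leaf (nat_lit 0x0))) (.node 1 (.leaf (nat_lit 0x0)) (.leaf (nat_lit 0x0)))) (.node 2 (.node 1 (.leaf (nat_lit 0x0)) (.leaf (nat_lit 0x0))) (.node 1 (.leaf (nat_lit 0x0)) (.leaf (nat_lit 0x0))))) (.node 4 (.node 2 (.node 1 (.leaf (nat_lit 0x0)) (.leaf (nat_lit 0x0))) (.node 1 (.leaf (nat_lit 0x0)) (.leaf (nat_lit 0x0)))) (.node 2 (.node 1 (.leaf (nat_lit 0x0)) (.leaf (nat_lit 0x0))) (.node 1 (.leaf (nat_lit 0x0)) (.leaf (nat_lit 0x0))))))) (.node 16 (.node 8 (.node 4 (.node 2 (.node 1 (.leaf (nat_lit 0x0)) (.leaf (nat_lit 0x0))) (.node 1 (.leaf (nat_lit 0x0)) (.leaf (nat_lit 0x0)))) (.node 2 (.node 1 (.leaf (nat_lit 0x0)) (.leaf (nat_lit 0x0))) (.node 1 (.leaf (nat_lit 0x0)) (.leaf (nat_lit 0x0))))) (.node 4 (.node 2 (.node 1 (.leaf (nat_lit 0x0)) (.leaf (nat_lit 0x0))) (.node 1 (.leaf (nat_lit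 0x0)) (.leaf (nat_lit 0x0)))) (.node 2 (.node 1 (.leaf (nat_lit 0x0)) (.leaf (nat_lit 0x0))) (.node 1 (.leaf (nat_lit 0x0)) (.leaf (nat_lit 0x0)))))) (.node 8 (.node 4 (.node 2 (.node 1 (.leaf (nat_lit 0x0)) (.leaf (nat_lit 0x0))) (.node 1 (.leaf (nat_lit 0x0)) (.leaf (nat_lit 0x0)))) (.node 2 (.node 1 (.leaf (nat_lit 0x0)) (.leaf (nat_lit 0x0))) (.node 1 (.leaf (nat_lit 0x0)) (.leaf (nat_lit 0x0))))) (.node 4 (.node 2 (.node 1 (.leaf (nat_lit 0x0)) (.leaf (nat_lit 0x0))) (.node 1 (.leaf (nat_lit 0x0)) (.leaf (nat_lit 0x0)))) (.node 2 (.node 1 (.leaf (nat_lit 0x0)) (.leaf (nat_lit 0x0))) (.node 1 (.leaf (nat_lit 0x0)) (.leaf (nat_lit 0x0)))))))) (.node 32 (.node 16 (.node 8 (.node 4 (.node 2 (.node 1 (.leaf (nat_lit 0x0)) (.leaf (nat_lit 0x0))) (.node 1 (.leaf (nat_lit 0x0)) (.leaf (nat_lit 0x0)))) (.node 2 (.node 1 (.leaf (nat_lit 0x0)) (.leaf (nat_lit 0x0))) (.node 1 (.leaf (nat_lit 0x0)) (.leaf (nat_lit 0x0)))))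 (.node 4 (.node 2 (.node 1 (.leaf (nat_lit 0x0)) (.leaf (nat_lit 0x0))) (.node 1 (.leaf (nat_lit 0x0)) (.leaf (nat_lit 0x0)))) (.node 2 (.node 1 (.leaf (nat_lit 0x0)) (.leaf (nat_lit 0x0))) (.node 1 (.leaf (nat_lit 0x0)) (.leaf (nat_lit 0x0)))))) (.node 8 (.node 4 (.node 2 (.node 1 (.leaf (nat_lit 0x0)) (.leaf (nat_lit 0x0))) (.node 1 (.leaf (nat_lit 0x0)) (.leaf (nat_lit 0x0)))) (.node 2 (.node 1 (.leaf (nat_lit 0x0)) (.leaf (nat_lit 0x0))) (.node 1 (.leaf (nat_lit 0x0)) (.leaf (nat_lit 0x0))))) (.node 4 (.node 2 (.node 1 (.leaf (nat_lit 0x0)) (.leaf (nat_lit 0x0))) (.node 1 (.leaf (nat_lit 0x0)) (.leaf (nat_lit 0x0)))) (.node 2 (.node 1 (.leaf (nat_lit 0x0)) (.leaf (nat_lit 0x0))) (.node 1 (.leaf (nat_lit 0x0)) (.leaf (nat_lit 0x0))))))) (.node 16 (.node 8 (.node 4 (.node 2 (.node 1 (.leaf (nat_lit 0x0)) (.leaf (nat_lit 0x0))) (.node 1 (.leaf (nat_lit 0x0)) (.leaf (nat_lit 0x0)))) (.node 2 (.node 1 (.leaf (nat_lit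 0x0)) (.leaf (nat_lit 0x0))) (.node 1 (.leaf (nat_lit 0x0)) (.leaf (nat_lit 0x0))))) (.node 4 (.node 2 (.node 1 (.leaf (nat_lit 0x0)) (.leaf (nat_lit 0x0))) (.node 1 (.leaf (nat_lit 0x0)) (.leaf (nat_lit 0x0)))) (.node 2 (.node 1 (.leaf (nat_lit 0x0)) (.leaf (nat_lit 0x0))) (.node 1 (.leaf (nat_lit 0x0)) (.leaf (nat_lit 0x0)))))) (.node 8 (.node 4 (.node 2 (.node 1 (.leaf (nat_lit 0x0)) (.leaf (nat_lit 0x0))) (.node 1 (.leaf (nat_lit 0x0)) (.leaf (nat_lit 0x0)))) (.node 2 (.node 1 (.leaf (nat_lit 0x0)) (.leaf (nat_lit 0x0))) (.node 1 (.leaf (nat_lit 0x0)) (.leaf (nat_lit 0x0))))) (.node 4 (.node 2 (.node 1 (.leaf (nat_lit 0x0)) (.leaf (nat_lit 0x0))) (.node 1 (.leaf (nat_lit 0x0)) (.leaf (nat_lit 0x0)))) (.node 2 (.node 1 (.leaf (nat_lit 0x0)) (.leaf (nat_lit 0x0))) (.node 1 (.leaf (nat_lit 0x0)) (.leaf (nat_lit 0x0))))))))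

noncomputable def lvO2_22 : Tree :=
  .node 64 (.node 32 (.node 16 (.node 8 (.node 4 (.node 2 (.node 1 (.leaf (nat_lit 0x0)) (.leaf (nat_lit 0x0))) (.node 1 (.leaf (nat_lit 0x0)) (.leaf (nat_lit 0x0)))) (.node 2 (.node 1 (.leaf (nat_lit 0x0)) (.leaf (nat_lit 0x0))) (.node 1 (.leaf (nat_lit 0x0)) (.leaf (nat_lit 0x0))))) (.node 4 (.node 2 (.node 1 (.leaf (nat_lit 0x0)) (.leaf (nat_lit 0x0))) (.node 1 (.leaf (nat_lit 0x0)) (.leaf (nat_lit 0x0)))) (.node 2 (.node 1 (.leaf (nat_lit 0x0)) (.leaf (nat_lit 0x0))) (.node 1 (.leaf (nat_lit 0x0)) (.leaf (nat_lit 0x0)))))) (.node 8 (.node 4 (.node 2 (.node 1 (.leaf (nat_lit 0x0)) (.leaf (nat_lit 0x0))) (.node 1 (.leaf (nat_lit 0x0)) (.leaf (nat_lit 0x0)))) (.node 2 (.node 1 (.leaf (nat_lit 0x0)) (.leaf (nat_lit 0x0))) (.node 1 (.leaf (nat_lit 0x0)) (.leaf (nat_lit 0x0))))) (.node 4 (.node 2 (.node 1 (.leaf (nat_lit 0x0)) (.leaf (nat_lit 0x0))) (.node 1 (.leaf (nat_lit 0x0))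 (.leaf (nat_lit 0x0)))) (.node 2 (.node 1 (.leaf (nat_lit 0x0)) (.leaf (nat_lit 0x0))) (.node 1 (.leaf (nat_lit 0x0)) (.leaf (nat_lit 0x0))))))) (.node 16 (.node 8 (.node 4 (.node 2 (.node 1 (.leaf (nat_lit 0x0)) (.leaf (nat_lit 0x0))) (.node 1 (.leaf (nat_lit 0x0)) (.leaf (nat_lit 0x0)))) (.node 2 (.node 1 (.leaf (nat_lit 0x0)) (.leaf (nat_lit 0x0))) (.node 1 (.leaf (nat_lit 0x0)) (.leaf (nat_lit 0x0))))) (.node 4 (.node 2 (.node 1 (.leaf (nat_lit 0x0)) (.leaf (nat_lit 0x0))) (.node 1 (.leaf (nat_lit 0x0)) (.leaf (nat_lit 0x0)))) (.node 2 (.node 1 (.leaf (nat_lit 0x0)) (.leaf (nat_lit 0x0))) (.node 1 (.leaf (nat_lit 0x0)) (.leaf (nat_lit 0x0)))))) (.node 8 (.node 4 (.node 2 (.node 1 (.leaf (nat_lit 0x0)) (.leaf (nat_lit 0x0))) (.node 1 (.leaf (nat_lit 0x0)) (.leaf (nat_lit 0x0)))) (.node 2 (.node 1 (.leaf (nat_lit 0x0)) (.leaf (nat_lit 0x0))) (.node 1 (.leaf (nat_lit 0x0)) (.leaf (nat_lit 0x0))))) (.node 4 (.node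 2 (.node 1 (.leaf (nat_lit 0x0)) (.leaf (nat_lit 0x0))) (.node 1 (.leaf (nat_lit 0x0)) (.leaf (nat_lit 0x0)))) (.node 2 (.node 1 (.leaf (nat_lit 0x0)) (.leaf (nat_lit 0x0))) (.node 1 (.leaf (nat_lit 0x0)) (.leaf (nat_lit 0x0)))))))) (.node 32 (.node 16 (.node 8 (.node 4 (.node 2 (.node 1 (.leaf (nat_lit 0x0)) (.leaf (nat_lit 0x0))) (.node 1 (.leaf (nat_lit 0x0)) (.leaf (nat_lit 0x0)))) (.node 2 (.node 1 (.leaf (nat_lit 0x0)) (.leaf (nat_lit 0x0))) (.node 1 (.leaf (nat_lit 0x0)) (.leaf (nat_lit 0x0))))) (.node 4 (.node 2 (.node 1 (.leaf (nat_lit 0x0)) (.leaf (nat_lit 0x0))) (.node 1 (.leaf (nat_lit 0x0)) (.leaf (nat_lit 0x0)))) (.node 2 (.node 1 (.leaf (nat_lit 0x0)) (.leaf (nat_lit 0x0))) (.node 1 (.leaf (nat_lit 0x0)) (.leaf (nat_lit 0x0)))))) (.node 8 (.node 4 (.node 2 (.node 1 (.leaf (nat_lit 0x0)) (.leaf (nat_lit 0x0))) (.node 1 (.leaf (nat_lit 0x0)) (.leaf (nat_lit 0x0)))) (.node 2 (.node 1 (.leaf (nat_lit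 0x0)) (.leaf (nat_lit 0x0))) (.node 1 (.leaf (nat_lit 0x0)) (.leaf (nat_lit 0x0))))) (.node 4 (.node 2 (.node 1 (.leaf (nat_lit 0x0)) (.leaf (nat_lit 0x0))) (.node 1 (.leaf (nat_lit 0x0)) (.leaf (nat_lit 0x0)))) (.node 2 (.node 1 (.leaf (nat_lit 0x0)) (.leaf (nat_lit 0x0))) (.node 1 (.leaf (nat_lit 0x0)) (.leaf (nat_lit 0x0))))))) (.node 16 (.node 8 (.node 4 (.node 2 (.node 1 (.leaf (nat_lit 0x0)) (.leaf (nat_lit 0x0))) (.node 1 (.leaf (nat_lit 0x0)) (.leaf (nat_lit 0x0)))) (.node 2 (.node 1 (.leaf (nat_lit 0x0)) (.leaf (nat_lit 0x0))) (.node 1 (.leaf (nat_lit 0x0)) (.leaf (nat_lit 0x0))))) (.node 4 (.node 2 (.node 1 (.leaf (nat_lit 0x0)) (.leaf (nat_lit 0x0))) (.node 1 (.leaf (nat_lit 0x0)) (.leaf (nat_lit 0x0)))) (.node 2 (.node 1 (.leaf (nat_lit 0x0)) (.leaf (nat_lit 0x0))) (.node 1 (.leaf (nat_lit 0x0)) (.leaf (nat_lit 0x0)))))) (.node 8 (.node 4 (.node 2 (.node 1 (.leaf (nat_lit 0x0)) (.leaf (nat_lit 0x0)))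 (.node 1 (.leaf (nat_lit 0x0)) (.leaf (nat_lit 0x0)))) (.node 2 (.node 1 (.leaf (nat_lit 0x0)) (.leaf (nat_lit 0x0))) (.node 1 (.leaf (nat_lit 0x0)) (.leaf (nat_lit 0x0))))) (.node 4 (.node 2 (.node 1 (.leaf (nat_lit 0x0)) (.leaf (nat_lit 0x0))) (.node 1 (.leaf (nat_lit 0x0)) (.leaf (nat_lit 0x0)))) (.node 2 (.node 1 (.leaf (nat_lit 0x0)) (.leaf (nat_lit 0x0))) (.node 1 (.leaf (nat_lit 0x0)) (.leaf (nat_lit 0x0))))))))

noncomputable def lvO2_23 : Tree :=
  .node 64 (.node 32 (.node 16 (.node 8 (.node 4 (.node 2 (.node 1 (.leaf (nat_lit 0x0)) (.leaf (nat_lit 0x0))) (.node 1 (.leaf (nat_lit 0x0)) (.leaf (nat_lit 0x0)))) (.node 2 (.node 1 (.leaf (nat_lit 0x0)) (.leaf (nat_lit 0x0))) (.node 1 (.leaf (nat_lit 0x0)) (.leaf (nat_lit 0x0))))) (.node 4 (.node 2 (.node 1 (.leaf (nat_lit 0x0)) (.leaf (nat_lit 0x0))) (.node 1 (.leaf (nat_lit 0x0)) (.leaf (nat_lit 0x0)))) (.node 2 (.node 1 (.leaf (nat_lit 0x0)) (.leaf (nat_lit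 0x0))) (.node 1 (.leaf (nat_lit 0x0)) (.leaf (nat_lit 0x0)))))) (.node 8 (.node 4 (.node 2 (.node 1 (.leaf (nat_lit 0x0)) (.leaf (nat_lit 0x0))) (.node 1 (.leaf (nat_lit 0x0)) (.leaf (nat_lit 0x0)))) (.node 2 (.node 1 (.leaf (nat_lit 0x0)) (.leaf (nat_lit 0x0))) (.node 1 (.leaf (nat_lit 0x0)) (.leaf (nat_lit 0x0))))) (.node 4 (.node 2 (.node 1 (.leaf (nat_lit 0x0)) (.leaf (nat_lit 0x0))) (.node 1 (.leaf (nat_lit 0x0)) (.leaf (nat_lit 0x0)))) (.node 2 (.node 1 (.leaf (nat_lit 0x0)) (.leaf (nat_lit 0x0))) (.node 1 (.leaf (nat_lit 0x0)) (.leaf (nat_lit 0x0))))))) (.node 16 (.node 8 (.node 4 (.node 2 (.node 1 (.leaf (nat_lit 0x0)) (.leaf (nat_lit 0x0))) (.node 1 (.leaf (nat_lit 0x0)) (.leaf (nat_lit 0x0)))) (.node 2 (.node 1 (.leaf (nat_lit 0x0)) (.leaf (nat_lit 0x0))) (.node 1 (.leaf (nat_lit 0x0)) (.leaf (nat_lit 0x0))))) (.node 4 (.node 2 (.node 1 (.leaf (nat_lit 0x0)) (.leaf (nat_lit 0x0))) (.node 1 (.leaf (nat_lit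 0x0)) (.leaf (nat_lit 0x0)))) (.node 2 (.node 1 (.leaf (nat_lit 0x0)) (.leaf (nat_lit 0x0))) (.node 1 (.leaf (nat_lit 0x0)) (.leaf (nat_lit 0x0)))))) (.node 8 (.node 4 (.node 2 (.node 1 (.leaf (nat_lit 0x0)) (.leaf (nat_lit 0x0))) (.node 1 (.leaf (nat_lit 0x0)) (.leaf (nat_lit 0x0)))) (.node 2 (.node 1 (.leaf (nat_lit 0x0)) (.leaf (nat_lit 0x0))) (.node 1 (.leaf (nat_lit 0x0)) (.leaf (nat_lit 0x0))))) (.node 4 (.node 2 (.node 1 (.leaf (nat_lit 0x0)) (.leaf (nat_lit 0x0))) (.node 1 (.leaf (nat_lit 0x0)) (.leaf (nat_lit 0x0)))) (.node 2 (.node 1 (.leaf (nat_lit 0x0)) (.leaf (nat_lit 0x0))) (.node 1 (.leaf (nat_lit 0x0)) (.leaf (nat_lit 0x0)))))))) (.node 32 (.node 16 (.node 8 (.node 4 (.node 2 (.node 1 (.leaf (nat_lit 0x0)) (.leaf (nat_lit 0x0))) (.node 1 (.leaf (nat_lit 0x0)) (.leaf (nat_lit 0x0)))) (.node 2 (.node 1 (.leaf (nat_lit 0x0)) (.leaf (nat_lit 0x0))) (.node 1 (.leaf (nat_lit 0x0)) (.leaf (nat_lit 0x0)))))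 (.node 4 (.node 2 (.node 1 (.leaf (nat_lit 0x0)) (.leaf (nat_lit 0x0))) (.node 1 (.leaf (nat_lit 0x0)) (.leaf (nat_lit 0x0)))) (.node 2 (.node 1 (.leaf (nat_lit 0x0)) (.leaf (nat_lit 0x0))) (.node 1 (.leaf (nat_lit 0x0)) (.leaf (nat_lit 0x0)))))) (.node 8 (.node 4 (.node 2 (.node 1 (.leaf (nat_lit 0x0)) (.leaf (nat_lit 0x0))) (.node 1 (.leaf (nat_lit 0x0)) (.leaf (nat_lit 0x0)))) (.node 2 (.node 1 (.leaf (nat_lit 0x0)) (.leaf (nat_lit 0x0))) (.node 1 (.leaf (nat_lit 0x0)) (.leaf (nat_lit 0x0))))) (.node 4 (.node 2 (.node 1 (.leaf (nat_lit 0x0)) (.leaf (nat_lit 0x0))) (.node 1 (.leaf (nat_lit 0x0)) (.leaf (nat_lit 0x0)))) (.node 2 (.node 1 (.leaf (nat_lit 0x0)) (.leaf (nat_lit 0x0))) (.node 1 (.leaf (nat_lit 0x0)) (.leaf (nat_lit 0x0))))))) (.node 16 (.node 8 (.node 4 (.node 2 (.node 1 (.leaf (nat_lit 0x0)) (.leaf (nat_lit 0x0))) (.node 1 (.leaf (nat_lit 0x0)) (.leaf (nat_lit 0x0)))) (.node 2 (.node 1 (.leaf (nat_lit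 0x0)) (.leaf (nat_lit 0x0))) (.node 1 (.leaf (nat_lit 0x0)) (.leaf (nat_lit 0x0))))) (.node 4 (.node 2 (.node 1 (.leaf (nat_lit 0x0)) (.leaf (nat_lit 0x0))) (.node 1 (.leaf (nat_lit 0x0)) (.leaf (nat_lit 0x0)))) (.node 2 (.node 1 (.leaf (nat_lit 0x0)) (.leaf (nat_lit 0x0))) (.node 1 (.leaf (nat_lit 0x0)) (.leaf (nat_lit 0x0)))))) (.node 8 (.node 4 (.node 2 (.node 1 (.leaf (nat_lit 0x0)) (.leaf (nat_lit 0x0))) (.node 1 (.leaf (nat_lit 0x0)) (.leaf (nat_lit 0x0)))) (.node 2 (.node 1 (.leaf (nat_lit 0x0)) (.leaf (nat_lit 0x0))) (.node 1 (.leaf (nat_lit 0x0)) (.leaf (nat_lit 0x0))))) (.node 4 (.node 2 (.node 1 (.leaf (nat_lit 0x0)) (.leaf (nat_lit 0x0))) (.node 1 (.leaf (nat_lit 0x0)) (.leaf (nat_lit 0x0)))) (.node 2 (.node 1 (.leaf (nat_lit 0x0)) (.leaf (nat_lit 0x0))) (.node 1 (.leaf (nat_lit 0x0)) (.leaf (nat_lit 0x0))))))))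

noncomputable def lvO2_24 : Tree :=
  .node 43 (.node 21 (.node 10 (.node 5 (.node 2 (.node 1 (.leaf (nat_lit 0x0)) (.leaf (nat_lit 0x0))) (.node 1 (.leaf (nat_lit 0x0)) (.node 1 (.leaf (nat_lit 0x0)) (.leaf (nat_lit 0x0))))) (.node 2 (.node 1 (.leaf (nat_lit 0x0)) (.leaf (nat_lit 0x0))) (.node 1 (.leaf (nat_lit 0x0)) (.node 1 (.leaf (nat_lit 0x0)) (.leaf (nat_lit 0x0)))))) (.node 5 (.node 2 (.node 1 (.leaf (nat_lit 0x0)) (.leaf (nat_lit 0x0))) (.node 1 (.leaf (nat_lit 0x0)) (.node 1 (.leaf (nat_lit 0x0)) (.leaf (nat_lit 0x0))))) (.node 3 (.node 1 (.leaf (nat_lit 0x0)) (.node 1 (.leaf (nat_lit 0x0)) (.leaf (nat_lit 0x0)))) (.node 1 (.leaf (nat_lit 0x0)) (.node 1 (.leaf (nat_lit 0x0)) (.leaf (nat_lit 0x0))))))) (.node 11 (.node 5 (.node 2 (.node 1 (.leaf (nat_lit 0x0)) (.leaf (nat_lit 0x0))) (.node 1 (.leaf (nat_lit 0x0)) (.node 1 (.leaf (nat_lit 0x0)) (.leaf (nat_lit 0x0))))) (.node 3 (.node 1 (.leaf (nat_lit 0x0))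 (.node 1 (.leaf (nat_lit 0x0)) (.leaf (nat_lit 0x0)))) (.node 1 (.leaf (nat_lit 0x0)) (.node 1 (.leaf (nat_lit 0x0)) (.leaf (nat_lit 0x0)))))) (.node 5 (.node 2 (.node 1 (.leaf (nat_lit 0x0)) (.leaf (nat_lit 0x0))) (.node 1 (.leaf (nat_lit 0x0)) (.node 1 (.leaf (nat_lit 0x0)) (.leaf (nat_lit 0x0))))) (.node 3 (.node 1 (.leaf (nat_lit 0x0)) (.node 1 (.leaf (nat_lit 0x0)) (.leaf (nat_lit 0x0)))) (.node 1 (.leaf (nat_lit 0x0)) (.node 1 (.leaf (nat_lit 0x0)) (.leaf (nat_lit 0x0)))))))) (.node 22 (.node 11 (.node 5 (.node 2 (.node 1 (.leaf (nat_lit 0x0)) (.leaf (nat_lit 0x0))) (.node 1 (.leaf (nat_lit 0x0)) (.node 1 (.leaf (nat_lit 0x0)) (.leaf (nat_lit 0x0))))) (.node 3 (.node 1 (.leaf (nat_lit 0x0)) (.node 1 (.leaf (nat_lit 0x0)) (.leaf (nat_lit 0x0)))) (.node 1 (.leaf (nat_lit 0x0)) (.node 1 (.leaf (nat_lit 0x0)) (.leaf (nat_lit 0x0)))))) (.node 5 (.node 2 (.node 1 (.leaf (nat_lit 0x0)) (.leaf (nat_lit 0x0))) (.node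 1 (.leaf (nat_lit 0x0)) (.node 1 (.leaf (nat_lit 0x0)) (.leaf (nat_lit 0x0))))) (.node 3 (.node 1 (.leaf (nat_lit 0x0)) (.node 1 (.leaf (nat_lit 0x0)) (.leaf (nat_lit 0x0)))) (.node 1 (.leaf (nat_lit 0x0)) (.node 1 (.leaf (nat_lit 0x0)) (.leaf (nat_lit 0x0))))))) (.node 11 (.node 5 (.node 2 (.node 1 (.leaf (nat_lit 0x0)) (.leaf (nat_lit 0x0))) (.node 1 (.leaf (nat_lit 0x0)) (.node 1 (.leaf (nat_lit 0x0)) (.leaf (nat_lit 0x0))))) (.node 3 (.node 1 (.leaf (nat_lit 0x0)) (.node 1 (.leaf (nat_lit 0x0)) (.leaf (nat_lit 0x0)))) (.node 1 (.leaf (nat_lit 0x0)) (.node 1 (.leaf (nat_lit 0x0)) (.leaf (nat_lit 0x0)))))) (.node 5 (.node 2 (.node 1 (.leaf (nat_lit 0x0)) (.leaf (nat_lit 0x0))) (.node 1 (.leaf (nat_lit 0x0)) (.node 1 (.leaf (nat_lit 0x0)) (.leaf (nat_lit 0x0))))) (.node 3 (.node 1 (.leaf (nat_lit 0x0)) (.node 1 (.leaf (nat_lit 0x0)) (.leaf (nat_lit 0x0)))) (.node 1 (.leaf (nat_lit 0x0)) (.node 1 (.leaf (nat_lit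 0x0)) (.leaf (nat_lit 0x0))))))))

noncomputable def lvO2 : Tree :=
  .node 1536 (.node 768 (.node 384 (.node 128 (lvO2_0) (.node 128 (lvO2_1) (lvO2_2))) (.node 128 (lvO2_3) (.node 128 (lvO2_4) (lvO2_5)))) (.node 384 (.node 128 (lvO2_6) (.node 128 (lvO2_7) (lvO2_8))) (.node 128 (lvO2_9) (.node 128 (lvO2_10) (lvO2_11))))) (.node 768 (.node 384 (.node 128 (lvO2_12) (.node 128 (lvO2_13) (lvO2_14))) (.node 128 (lvO2_15) (.node 128 (lvO2_16) (lvO2_17)))) (.node 384 (.node 128 (lvO2_18) (.node 128 (lvO2_19) (lvO2_20))) (.node 256 (.node 128 (lvO2_21) (lvO2_22)) (.node 128 (lvO2_23) (lvO2_24)))))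

noncomputable def lvP2_0 : ℕ := nat_lit 0xc1400be800bfe00b4300afe00bd000ba900bb000ba100bd500c3e00bb700be100b8200bab00c3d00bb200bb400c3c00c3400c3f00bac00bd800c4200c4c00c4700c4400bdf00bdc00bdd00bb600b8800a7100b8a00c4300c0300c1100c1d00b3e00b0d00b0300b0a00c2000bfd00bf300bfb00c0500b4400ad600bfc00c1500c0600c16007f900c2c00c1f00c1700c3100bfa00c1800c0200c1300c1b00c1e00c2200c2400c5600c19009f200c3200a2c0083300c0400b5600b520081500b5300818008060082000c2300c2800c0e00c3300c1a00c0100bea00be900c5400c2b00c2500c2900c1c009be00b5500a4100844008430082a00c2a009a100a4200a33007d300b50009b300a5300a5200c0000bff00c55007cf00b0c009b8009f9009f800be200c4a00bcc00c3b00b9f00c3900c3a00bdb00bd900bda00c400092d00b8600c4d00ba800b970073600ba500c5100ba70091a008df00be00072700a190094000aaa00aa9008e400b7b006db00ab200abb006f600ab100b8900949008ec00ae9008da008db008eb0095d00c4b00c380071600c450090c00c460090100c4f006f30052f00baa00c4100c4800bad00c5000bd400bcf007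1300bd100916009100092a00c4e0072e00bde0093600a9800a9700ae600b1700944008e000bd300aea0094800947009270092b00918009350092900a8c009130092e0091b00c3500bbf00c370055a00bd60073b008d1008d000c490077900b6400775009780097f008b200bc5008b7009530095200ab700b24009590095800abc0095c0093b00a9400b2500b1c0089d00a99008dd00aa600b2e00b2d008aa00aab005b100b8000787008c4008c30079100996008d800aae00aee00aed008ae00ab30086e00b5700c0d00bf8009a600c0a00c0c007bb00bee007b60088b0067c009cc008720088a00b49009cd00693006940089600c2700c5300a3f0084500a24009bd00c30008400063700af40083c009c5009c4007d700a2f009ed0083400a32009f1009f00083100a4f00b6900b680082e00a54009fa009f5007da007dc007dd00b6f00b76009e900a6e00a02009eb00604007fb007f400b6e00a5a009e800a5d009ff00b9a00a04009e5009e6009ea009fe00a6c00a0300afd0082100c2f00be60080d00c2d0061d00a1f00a13007f70060300a1600c2e007ec00601005fb0064000c5200b0f007c40084c0084b0081d00a2a00a2200a3d0081f00b3b0081b00a2d00a250083900a4a00b5c00b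5b0083700a4700b9600bbc00a56009ee00b9b00a5900a58009f300a5c00a3b00a3e00a2e00a4900a3c00a2600a4000a3000a2800a29005f400c26007e1009db009da0063e00848009e1009e00063b0084d0068b0087f009ae009ad0087d0087800a7900a7e0087a0087b009bb009c100a6300a62007b2009c600b7300bc200a6800a670051b00b7700a6b009c700a4c00b5900bc300bc0003ab0099f00b5d009a2009ec00b6600bc800bc70050d009b100b6a009b40069100887009d3009d20068e0088c005380089300a8e0088d009e400b6c00b9d00b9c00533009b600b70009b900977009680076c0077a00a9c008a100b8e008a6009840097b006be008c5008c0008ba008bc008bd00993007770078f0077200ac50097c0097e009920078e00ac60099e0078b0078c00790004a5004cc0099d00c36008c9008f300b220095a00b1100ab6007370095e00aba00ab900956007340094f00ac000abf0073100954008e2008e500b1900ae20094500b1b00ae500ae40094a00ae80094300b2b00bec00beb004750093e00b2f009410060700ab40047a00aef00ade008ee00aeb008e7008e8008e9008ed00bf100bf700adb00b4200ae000af600add00ae1006f5006ed0090e004860090600908004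b300bf000b33005cd00ada00b3600adf00af200c100062800af800ad800ad9005d000adc00af100b400048d00af7008f4006e400b08006ec009370091f007180092100bca00706006f200b040090a006f400b07008fc006f0006ea00900006e70073f0074200741008cd0096200961006c5008d20093300b1600b1000b21009340092f00b1800b1200931009320094d00b2a00be400be3005d30094b00b290094c00ae300c1200b3200b310045600ae700b3500aac00b2000b1300b2300b1a0046100b1400b1500a9a006e2008f000ad000acf006df008f50073e0095f00ad400ad30030100739009630073c007840098c00aa200aa100782009890098a0098500b4800b4c005d100986009870098800ab500abd00b3900b3800460008b500ac1008b8005eb00bf900b3f005ec00ac20046200a9300be50046300a95005d600aa500bed005d700aa70078a0099000aca00ac900606007850099400788006100099a00b5400611009950060800aad00bf20060900aaf00a7800a720086f0087e009a70086b008770087000b5f009a4009aa00a8200a7b007a5009af007b9007bc0041b009d400894009cf009d0009c8009c9009ca009ce00a8a0087c00891008740087600b7d00a7c0042b00a7d00a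89008900089500b7e00a920088e0088f0041600892005080054a003f00057d005710059000573005720074c0059100a910058d003cf007e5007e7009d700a0900a08007bf009dc00a6900bb800b720084100a6d00b7500b740084600a660083f00a6000b7900b780053a0083a00a640083d009fb009f4009f600a5700bbe00b9500b940053500a5b00b9900a550053600a4e00bc90053700a50006fb006fc00b710053e0053d003c100a1d00b9e00b9000a0100a05009fc009fd0055200a0000b8c00bd7003d100b9200ba200b8f006ad00b93007fa0054b007f0007f30054c00a1a0054d00a1c0057f00580006aa00b8b00bce006ab00b910072100ba400722006af00b8d006b00055700ba30055800a38007e800bb3007ef00a15007f200a350082300a3600810007f600812007f800bb100a0f007f5007ee003a300a12007e9007eb0084e008500084f00851009de00a2100a6f00519007c2009e2007c500a4800a4300bbd00bb90050c00a4400a4500a46006b500a5e00bc6006b600a5f0050e00b9800bcd0050f00b6b0051e00bba00bbb0051f00b5e0044c005ca006ce006cd007e400a0600b8400b83003ad007df00a0a007e2003ae0084700a70003af008490088500a8700b6200b61005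1a0088300a8600884006b100a8300a84006b200a850051c009c000b7a0051d009c2006d7006d800b7c006d9005200052100b5a00522006ba006bb00b67006bc006f90088600a8b006fa00888007090070a00a8d0070b006fd006fe00b6d006ff0037000505005e4006a7006a800b45009790098b00a9d00973009820097a009750097600a9b00a9f00b4e00b4a004d0008a400aa3008a7008c6008bf008c1004d4004d30036500acb0099b00ac80098300ac300ac4004e400ac700998009800037200981004e900b4b004ea009970099c00b580066e004cd00999004ca005cf00627004b2005ce004b10060a006590065e0065600660006550065c0065700671006580064d008590064f006720066d0064c0048c004890031c008f6008f8008f7008f900acd00afb00afa00605008c700ad1008ca0095700b4100bf600bf5004790095b00b3d00955006140094e00b3a006150095000af00061900aec0061b0060b00b3400c0f0060c00b300060d0060e00b2c0060f008020080300bf4008040061a0047c0047b0032000311009070062f00b0e00c0700af50048b00af90063400af3006350048f00c0900490007a200c0b007a300629009030062a009050062b0062c00b0b0062d0066100663006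640079e0079f00c08007a0008290082b0082c007a4007a6007a70063a0063c0063d00b1e0092600c210090200b0600904008ff00b1d009230090900458009240090b008fe0045900b02008fa0045a008fb0090d00964005d200965008d3005e7008cc00ad5005e8008ce005d400b2600b27005d500b28007ae007af00b37007b0005d8005d900bef005da005f0005f100be7005f2004ec00698007cb007ca0046400503006a900465008ef00afc00466008f100467004680096000469005e90098e00b51005ea0098f007a8007a900b4f007aa005ed005ee00abe005ef007d6007d8007d9005f3005f5005f6007b5007b7007b8007ff0080000991008010081400816006660080500807008080042a00427002c6005ba005c8005cc006ca00796007950059300516006cf00b6000a7500a8000a7a0041a00a7600a77009b000596009a900b6300597009ab009d50059b009d10059d0059c0041d0041c002ca002be005a900a8f00b810042900a81005ae00b7f005af0042d00a7f0042e005b4005b6005b70074f00a900058f0076a0074a005920058e0058c00556006ae007200057e00700006ac0057c007010057b007550075800582007530075b00754007520075c00757007590075600349003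560076d0074b0056b0096a0074e00769007490054e00551003d0003ce0027f003c300a0c00a0b0053900a0d009dd006f7009d600b85006f8009d80053b00a6a00bd20053c00a650070f0071000a61007110053f00ba000541007150071700588007020070300bcb0070400705007070070800915009170076300540003d4003c5003d6003c4003d70055000a1b0072b00bb50072c0055400ba600555007300073200733005590055b0055c008a0008a2008a3007230072400a18007250072600728007290075e007610089c0089e0089f0093c0093d008a5008a80073a0073d00bc100a3a00a1400baf00a170026e00a11005100051100a3900a1e0051200a10005130051400a0e00515006b300a20006b4009e3006d1006d2009df006d3006b7006b800bc4006b9008b1008b3008b4006bd006bf006c0006de006e0006e1005b800792008d5008d400523005b50079700524005cb005250052600a070052700528005290052a006d4006d500a88006d6008a9008ab008ac006da006dc006dd008e3008e6006e3006e5008bb008be0091200914007640092800760009190091c007c700897008980069b004e8004e0004e3003710036f00236003670069e0069d004cf006a600673005e1007cc006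74005e5004d100b4600b47004d200aa4006780067900aa00067a004d500acc004d70067e0067f004ff004d60037500369003770036800378004e20068800689004e600b4d004e70068d0068f00690004eb004ed004ee006970069a008570085c006700066c0086d008560066f0066b00405006330048e00407007a10065f008090080a0065d0080b008600066500862006620085e0040c0040d008630085b0085d008610085f0041000406003e20040a0040f008580064e0085a008550062e004880047d0047e0048a0031f0047f0031e00480004820061200aff0061300ad2007fc007fd00ace007fe006160061700b3c006180081a0081c006690061c0061e004be008220064b0080c0080e0080f008110081300a2b0086800492001fe0049400481004950049600497004980063100b09006320083600828008380063600638006390083b0083e0063f00641009a5009a80082d0082f00830008320083500864009a0009a300a4d009ac0084a00b1f00b050030500b0100304005db005dc005dd005de00b00005df005e0005e2005e3007ab007ac00ad7007ad007ce007d0007d1007b1007b3007b4009bc009bf007ba007bd007e0007e30026b0069600899005f7005f800699005f9005fa005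fc005fd005fe005ff007d2007d4007d5009b2009b5007db007de009f7007e6009cb00a27008690086600a3100798006c8008d60039000799005ad0042c005a8004260041e0041f00428002c900420002c80042100423005940079a00595006d00076e0076f006cb00770005980059900b650059a0077400776005c70059e0059f004430077b005c500430001bd004320042200433004340043500436005ab005ac007810078000783005b0005b2005b30078600789005b9005bb0079400768009690096d0076b007670096700766004c3004c2002090072a00553003d5004a3004c7003580075a003590091d0091e007620096f0075f0075d0035200353002200034e004b80034f004a90096c0096b0096e004b9004a1004c4004a2004c60074d0021f0025b0054f003d20028200542005430054400545003d3005460054700549003fd0070c0070d00b870070e0090f00911007650071200714005870093000747007190056800748009200092200925009710055e002830055f00560005620056300564005650072d0071f0072f0093a009390073500738009510074000a9e0093f00942009460021600a96004540045e0045d00bae003b3003b4003b2003b1006c1006c2006c3006c4006c6006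c7006c9006cc008ad008af008b0008d9008dc008b6008b900ab8008c2008f2002f80030200793006e6006e8006e9006eb006ee006ef008de008e100aa8008ea0047200477004760097200450004840089a00449007c8002eb002e90044a00687004e500376002df002e0004e10037300239004d8004d9004da004db00374004dc004dd004df003890067500676007cd006770087100873006a50067b0067d004fe00879006a300680004fa006a4004f00023a004f1004f2004f4004f5004f6004f70068a006860068c00882008810069200695008890069c002e80086c00a73001a80086a002c5001e1005840056c002890056e0058b0058a00292001960044800630002b200493002b3003f40057000576002af002b0003f5002a500a340086700865002a0001ab002a7003fb002a8003ec0029300574002ae0040b003e700a74002a4005850056d0056f002ad002ac001a7001e0004910032400323003220061f00620006210062200624004bc006260049c00817008190066800a23008540081e00647008530064a003ca00a37003cc0050600325006420062300643006450064800649008270082600a4b00842003a90050a0050900a51003a0001a00050b0039e003a7003a60046e0046c004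6d0046b003a4007be007c0007c1007c3007c6007c9009b7009ba009e7009c3003bf0053100530003a5003b0007ea007ed007f100187009ef003bb00532003b8003bd003bc005070039a003c800391008d7003930050000504004bf003920025c0025900394005aa0024e004310024f001650024a003870024b003810042f002ce002cd002cc005a0005a1005a2005a3005a500441005a70043a0077100773005c60097d0079d00778005c10079c005c40038f002cf005bc005a4005bd005bf005c2005c30077f0077e0098d0078d003640025800257009740036e001440023300232001770065400650003290065a0065b004a7006510032d0020100667006530066a003370033600208001380038e002600038d0055d0033e004ad00223002240033f0021900339004b5004ba003500033a0032e0097000348002120020c004ab00222003510033100338004a6003570034d0034c0021500652003550021e0021d0014300176003dc003da003db003d90021a0071a0071c005860071e00561005670092c0074600966007450031a004850031600487003180044e0021b002250071d0071b00743000b500938002fe0045f002fc004520045100455002f40013f00453002f2002fa002f90052d005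2e0052c0052b0045b008c8008cb008cf001ed00ab00030e004780030c004700046f0045c0046a008fd001f00012f004740030800471003060030a003090044f002f100314002f0002ea002ed004440044b004470044d005c90042500400003fe002ec001e2002ee004ef002d80043d001d0001d1002d9001cb001c40043b001cf002de002d20037d0037b0037c0037a001cc0068100683004fd00685004f3004f900875006a20089b006a100415002e7002e6001cd001d200684006820069f0008f0088000419002bb002ba001dd001dc002c4002c3000f0001b6001b50011b0058100583003e600750003e100285005790057a003ea003f30057500577003e5003e4002880019100751003ef002910029000195002e5001a4001ac0028d00296003f8003fc002a9002970028c003f2003f6003e800404004030029f0019e0028e00295003e9002b1000ed003f100409002a3002a20019f0040e002ab001a6001a5004830049b0049a00499001ae008250064600644000f3008520027c003cd0027a003c900277003cb0027800398001af0029c00824000f600084003aa00267003a8002650039c0039b0039f002610039d00602006000026400517009d90026a00184003c000272003be00270003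b6003b5005180026d00186000e3003ba0026f003b700399003970025e0038a003950038c005020039600501004ce0036d0036c003440025d0016f001700016e004fb004fc0037f00162001660023e0024200384003880024c002430023d0023f002410037e0024d000be00424004390043800437001680077d005c0005be000c30079b004c90035f0035e002560025500169002480077c000c60006600363003620022a002290017300231002300014e004bb004bd00330004b6004b7004a8004a00049f00328001ff0033d004ac004ae00135004b4004a40032c0032b00200004b00033500207002060031200148002050020d002260033c00340003320013b004aa004c100347003460021100333003410033b0013e000af004c50034b0021400213003540021c0054800566001420014b0074400147000b20031b001f700319001f50031500317002100014a000b40005f002fd001ea002fb002f3006f1002f7001e9005e600300001ec0012d0030d001f10030b00303001ef0012e00307003ff00113002ef002e4004460056900114004450041800417002c2002c1001d700121001d900122001d80044000442002d1002d70043c0043e000fc002bf0010b001c1001c5001d3002d6002da002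d300101002d4002db002d50010400089004de004f8001070010e006a00010a0008c0041300412002b6002b5001db001c80010d0008e00048002b9002b8001b0001b400298003c6003f9003fa003eb0018d005780056a003e0003df00284003c7003d8003f700190000e700534003e30028700286003ee0028f002760019a0019400299003ed00199000ea00589004020029e0029d0029a0019c000ec0008000408002a1002aa00625001a3000ef0019d001aa000f2000820027b0018a00279001ad000f50008300266003a20026300182003ac0026900183002710026c0018500127001260016d0012a000cc0038b004c80049d0016c0005c00361003600022f00118002520025000254000d80017b0017c002440036a003850038600380001510036b003790038300154000b80022e0015b0015700245003820015a000bb002460015d000bd00062005a600161000c00015e00164000c2000640035c0035b0022700167000c500065002280031300321001f400342004af001fa00132004cb0049e003270032600343001fd00134000ab004730032a00334001fb00204001370020f0020b0013a000ad004c0003450020e0013d000ae0034a0021800141000b00022100146000b1001f600149000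b300457002f6001e8002ff001eb001ee000cf000750017f0017e000db001d4001d50017a001110007d00411003dd0007b00043002b7000e200171002e2002e3002e1001e5001df0012000050002c0002cb001b3002dc0043f001b9000f9002dd001bc000fb00085001ba001c0000fe001c7001c30010000087001c60010300088001ca001060008a001ce001090008b002b40010c0008d0028000275001890029b0027e0018c000e500414003de002810018f000e6003b90028b00193000e80029400198000e9004010019b000eb002a6001a2000ee001a9000f1000f4003a100262002680011500116001e400098000a0001e7001e60009e000550012300251002530016b000a5000a8000a70005b0035a000590002f001da000a90012b0012c0025a0025f0006b001790006e00039002370022d0014d002470023500150000b60023800153000b70023c00156000b90024000159000ba0015c000bc0024900160000bf00163000c1000c400310001f3001300031d001f9001310035d001fc001330032f00203001360020a001390013c00217001400014500060002f500172000e1000ce000d4000d7000d6000740017d000720003c001d6000de000dd00078000df0007c0007a0004200040001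81000e000092001e3000950004d000970004f00027002bd001b2000f7002c7001b8000f8001bb000fa002d0001bf000fd001c2000ff00102001c90010500108003c200274001880027d0018b0018e0028a001920019700081001a100045001170011e0011d0009b0011f0009f0009d000540005200128000a400125000a300056000a60005a0005800129000c900068000cb0006a00036000cd0006d00038003660022c0014c002340014f001520023b0015500158000190015f0030f001f2001f8000ac002020005e0003200178000d300175000d20006f000d5000730007100180000dc00077000da000760001f0007900110000910004a00112000940004c000960004e002bc001b1001b700023001be00010000e4002730007f00044001de0011c0009a0011a00099000280009c00124000a20002c000a1000140016a000c800067000ca00069000310006c000300022b000180000a000aa0005d00174000d100037000d00001b0003e0003d000d90001e0000d0010f00090000410009300022000210000f0007e0004b00049001190002600012000530002b0002a0001300057000c70002e00017000160006300035000340001a000700003b0001d0001c0003f00020000860004700025000240000300051000290002d000040006100033000050003a00006000070004600008000090000b0000c0000e0001100015000020000100000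

noncomputable def lvP2_1 : ℕ := nat_lit 0xb0d00c4500bd600c4b00b8e00be100c0d00c0c00a1900bdd00b8200c2c00c5300c3300c5500b8900c2600c2800ba800bab00bde00bee00be600b8600bb600bdc00c2f00c2e00c1500c2700c1700c1600c2d00bf800bb400c3800b0c00b4300b5300c5000c3500bcc00c4a00b0300bfe00b4400c4800c3700c4100c2400bfc00af400c290091f00c3100c0100bfa00c2000c1e00c0500c3a00b5000be800c4900c3900bbf00b5600ad60094500b5200918008dd00b9f00c3c00c40008e900c3600b3600b42008d800bca00c1800c2a00c1c00c2500c1f00bda00b6400bf300b5500c0200c2200c0300b1b00c3b0095b00b1200adb00b1500c04008e200b2d00ac000b3d00c460093e00b1c00aee00bd900b8000c1b00af600c4f0094b00abf00b2e00bdb00bd000bd100b9700c3f00bd500c4700be200bea00c0000ba700a2200c0e00b8800c4400bdf009bb00a7100bb700bd800a2a0083100c0a00a6b00c52009b100b6e00b5c0099f00bb200b9000b680084100a1300a6300c1a009ee00b7400b910083900b9300a5900b9200c5100c4c0090600c4300a3500b7b00b1e00bcf00810007e900afd00bc500c3400b0f00bd400ba900bb0009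e600be000a6c00b9a007da00a8c00a4500c54009b600a6200b6900a5700a2e009ec00a6d00b8a00a5b00a30009ff009fd00bce00bd7009e400a2600c0600a0100a5800b7500bd300c3d00c4d0096500c42007df00acf009e100c3e0097300bff0089300a7e00ac600b9900bac0083a00b5b00b6f00bbe00a6a00bb900b8c00a5a00a6500bbb009f400bc700b7900b5d009f600bd200a4e00bc000b9d00a6400a500099b00be900883009d200aa200ac700a8500ba200a5e00b7800bc800b7000a5f0097c00b4900c5600c2b008ba00b3e00c32008a400c1300a8e00a7b0078c00a7900a920099300b5700ac50078400a810098600bfb00c1d00b1000ab70092b0073400b0a00ab500b3500c23008b500aed00b2500aef00b160094300b2400ae700ada00b1800b3f00aa500bf000be400ac100aa700a9500a9300c070093b00af900beb0095700ae400af700b2800adc008fc00b0400b0e00b3900ae30095900af800bf500c0800b110094d00c0b0093400b3200c0900b1700bad00a1a00c1400c1100bb300c30007f00080d00bc100923008fa007fb00bfd00a3a0090b00904006e200b3b00baa008c70096100a0900ad900b4000c10008e70092f00afe00add0095800ae500b2700aad00b3800b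ec00b2900aaf0073700910008b200b4100b3400b1a00af20095a00b30008db0095d00ae9006db00b1300af500b3100bf60092700af000a0d00c1900739009e000ad000a20008ef00b8300ad4009e2008f100a770078500aa1009d300a750099a00b4c00b7e00a720099500c0f0094e00be300bf100b2f009500095e0094a0091b008ec006de00b3300b3c0094400932008ae0095200aaa007d200be500aec00a9400ae80073100a9700ab2007ce00b3a00b2c0094f00a8f0098e00ac900b62009d40098f0091500b7f00b4f009c900ade0089d00aa9009530070500bf200b3700aae00a7c009ca0087400691009c80098700c4e007b90099200a8200994009ab009a900b54009a40099d00b4a0088f0097a0099c00b4800b580097700a8a0089100b7d00a7d0088500b4d0087d0085e0096700a8300ba5007c2009620080600b7300a3e0083f00b9b00b77009fe00a40007d300bcd009c000b9c00bc300b6a009c200b9e009f5008180063700bc200b9800b8b00bbd00b7600b6b00a5c007b2009f800a420091200b7a00b67009c10080c009e50090f00b5a00b5e00a000083700a0200a4c00ba600a3c009c40083400b9400ba300a2f00bc400b8d00a4400a0f00a1b009010082900bb50090c008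6400a53009be007a400a6800ba400a3f009f000a0300a9e00bb80082a00a0500a9600a480084400a040095100bbc00a080063e00a1c006f0007f400c21009030082100ba100b06006ea00a3800706006e70090e00b1f00a1e00a17006f500b05007e40084f008f8009d600a6f00afb00963009d8007dd00a5d00a6e007cf00a4300b8f00a6700b950081d00b7100a29007d700a52009c5007b500bc600b6d00a4a00a320084600a25009e9008ad00a6900bcb008400081b009eb00843009f1008a900a3b00ba000a3d00aff0084700ad300b8400ad10084900851006df009da008d1006e600ad500a07008cd00b470088600b6100aca00aa3008880086b007910097f009cd007d600b4500a8d00a9c00a660082e00a33009f9005f300bc900a6100a4f005d70084500a55008f200a56006b400a47009b9008ea00b59006b200a540083d00ab800a600089400782008c3009ae0080500acb00a88008c000628009ce009880086600ac3005d0009fa009a20092500b6c0087200ac4009800078a0087800ac80089000982007b600a84008bf00a8900b4e00a86008c100a8b008870087100aa000aa400892007a50099600a9b00a9100a9d0097b0069400a7a00a900086f009780099e0088900a78008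8b0099800981009cc00b4b0068b009830086a0098a0082d008a00075c00a740091d0085a0075d0057d0074d0074a0087a00672008360073e00850008cc00afa00a2100a0a008ce008e0009160072700c1200bf900af100b2300ae600ac20095c008aa00ab100a980071500bed00abe00aa6008e800ab300aeb00aea00abc008eb0092e0081400bf700bef00ab60062a00aab008b800a3100abd006ad00a3700ad8008530062f0081700a360094c00be700af300b140072e00ae10084a00b2000ab900adf0084200b1900a9a008ed00a4d00b26007ec0089c00b09007f7006fc00a1d0094600a1f005820065f005370094800ae0009ac00b220080f0091a0062b0080800929006ae006690092d0055600b07008f700b0b007f50090500a1000b08006ed0093700baf007ee0071800a11006f600926007f8007f2007be007fa00bae00603005f40096400a0c00ad2007bf0084b008f4008b100a7000ace0084800913008ee0094700aba006bd0093300bf4009350051f00a99008e5009cb00b2a005ea0094900955009c300956005e80071300ab4009f700b210089a00696008d4008d5008f90063b008d0009db0052800b8500960009d7005dc008d2007e2007f1009de009760068e009ad008c4006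da00b6300991009aa006b6009680088d00aa800b5f0050f0095400941007e600b2b006bb007b800736007a8007ac007b40093600520007a9007d900940006ba006ab008c50088400972009d00072100729008bc00802006af007a7008e4007ff00781005b8006c80089700898008bd00772005b10098500b810099700a8000777009d50087b006be0088a009840067e00b51009d10098c0078b0088c009900079c005a900771008a700b650099900a76008a1008960079400b6000870008950078d00979005c70086e004e80078f00a7f0097e008550066c0077900592006fa0060c00656007260086300756007530096e00970007620065e0057e006600064f006640076d0056b0096d00856004cc0086d006f80063a0072d0055a00a0b0090d009e3006c5008f30084c0081a00afc009df008f000a41009f3009e800a2d0061c00b9600b7c009ed0048d009c6009b40074800b66009fc0072b009b8006190054d009f2009c70097100b72007240089f009b30060d007a2008a3007dc00709007330074500550007430071a0092400a4b00b1d00a46009ea0074000bba005880081f0072a0058700a240048e0076300a28007a1006090090700a510090a0080300666007f9007200066200571009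6c0060e0070800a2c007230092200538008320091c00475009a0007470047a0083b00bb100a12009080060100a1800b00007ef0071600a15005fb005e00082300b01007f6005240060400a14008cf006f400741007e8007b100b870073f005ec0084d008ca009e70095f0046300815009fb008c200a49005f1006e1009a1006d1006d5006dd00833005d8006d2008b400820005f0006a600503006cd006ce005fa008d6007930045a009dc0073c006ef00acd006c2006c7007c400467005d5009af00788009ef00a9f007af007d1009a6006d7005d9006c00083c006d4008be00519009b2008b900456007db008e600461009bc0079f00830007bb006fd008350054a00920008a80054b00a2700674005b40068a0044c007980079900516006a8006a70077400899007c800775009cf0078e008770059e0087c00acc0087e0042b00989007bc006a400a870088e00688007870059b00690006a1004e20069f006810098d009b0007900069c00b46004ff009a700687004fe0076c0042c006a30041b007860085800876007660064c00a7300767004160076b007fd008000070300754004b30061100701008650066100657004b100a340075b006650085d0075a00867004a50075e00761004b9003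e20074e005900096a0064e0074f005910066e007300053e00613005590064200547007e7007420071200ad7007e500552008f5007c50096600a06003d100abb00aac0064a00ae2005570063d008b7007fc00631008da0053f0083e003cf009300062c0082c008df00702009a30050800919009a80048600928006390064900644004bc00492003d50093800a39007650092100633004be00931006300064b006050093a00647003c10073500868005350093c006fe00764006f30079e0076000607009a5006550080b00813006060093f006100070b00536006ff0053d0071100a1600b02008fb007f3008fe0060000902006c4003af0061d008ff007c900909005f8005fd0052f005130051d009dd00ab00084e006d8008ac0073b007ae00521005f60092a007ab007e3005d1008d9007de003ab008b6009bf0050d008e30079a005b5007ca007cb00512006cf005cb008fd007c700514005e3008c9005f7007c6003a3006eb006b8008b0008a6005ed008dc005d3007e0007bd005d2008de005e7006d30050e006b90051e006d900942005cd0081100627007a30062900725005e10079600795004ec0076f0068d004d400595004eb005bc004dd005cc005c80067b008d7004e4006a9005e5008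9b00792003720067c008c6005c40098b004e9005b70087f0076e005ab00693004d5007890037000879005b3005c3005be00441004300037600880006a5005ad0044300975005aa005c50059300882005c10036500692004d30067a007690064d0058c009740074900857004cd0058f004c60061a0070d0056f0070a0080a0057f007590057300809003f0008620057c007520096b0033a0032e0075f0060a0086100572006590040f004c200667004a200654006710074c0085c0076a006150063600622003200047c0054300567004960055e004800048b008d300852008f60063400838007e10070f0048f0055c009bd0070c0073d0054e00a23007380031c0081e0048c006350093d005ce00a2b005cf007a00054c0062d0082400566003fd005630055d005610031100645006680081200553008540053a0073a005680053900827006f7007fe0047b006180060b008040086900533008a5006fb007040091e006f90080100816008070081c0090000a0e0046c006ec003b400466009d9004680052a006f2006c1006ee00301007c3005ee007d500640006b7009b50051b008bb006e50051a009b7006b1007aa00462005ef005d6007b0003a5007cc00699005de007c1005e400525006cc005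10007ea00459005df009ba0050c006e3006b5006bc006b3007ad007d0007b3007d8006aa006b0008a20082f0069e00797006cb003930069d0059c0067600597005b0005a3002ca0041d004d9004f900434004f00042100429006d00079b0069b005ae00783005ca006780042d004ee0077a006750069a004e00097d00695002c6007780042a005af0077c004f800389004f5004ef004f3002be005bf005c6004e50079d004d000697004fa004cf0077f00673007700041c0059a007760066f0058d0074b0066b007680096900670004a300751004a40071000540006200066a00349003f400658003f50085f0057b0096f004b2005800085b002970028c002930040b003f3003e700578007000075500758006530040a00584006510058b0085900289003640053c0056000325003d400744003d600498003c50061f006480027f0071e005540072f006e40061600939004890082200641004880092c0062e0072c003d00055500732006ac007220089e0072800586003da004930049c0047d0071d003c40054600746004790063f006140061b006120070e009110071400917006080060f0080e004c100914003bb0047600477007eb0052b0052c0026e0052e00526006e9005dd005ff00464008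c8003ae00527008e100460007ba005eb005f2005e9006d6008ab006dc008b30045b00518006ca008cb00458005fe005db006c3006c6005d4005da007b7008af0027c0048700485007a60050b003aa007cd00502006980044a002ed0044700679004d6005a1002430023d004d2004f2002cf00375006a0003770043600369005a0005c20023600685004e60068c005050059800881004270077b005bb0042600875005a80068900371004e70068f004fd0037b004310043a0041e0068400368004dc006a20041a005b9005960059d0059400677008730067d00415004ca0066d004090086c004ce002bb0056e004100056a0058a0056c0040600216003e300400006170033e004810033f0065a004c400359004a900357004b6003390065d0065c00663003550020c003510033d00331004af004b70034f004b80065b004b40086000329004c30040700750003e40034d00201002ba0047f00499001fe0049b00494006430054400565003d2008250031f0049500826003ce0071900551005580054f0063200828006380050a0082b00509002fe0049a00646003c3005640054200621006240053b0054100717008190030e00530005310070700478004020047400308003bc003bd003b1006f1003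05003b300302007ed003ad006c900523005f9005fc0051c00522006e0007d400450003ca003cc005e6002f80051100515007c0002f7006bf004840031b001f7003cb003c90045400453002fd00446005ba005c9002eb003900038e00449003940025e0038c00599002d800422002d9001c4002de002d7002d20043f0042000437001bd0043900432005bd004da004f7003730077d002c9004330077e0036f00680004e3004ea004e1005ac00780005b2002c500438005c000367004f6004d8005a2005a5004d1004d70067f00773005690035f0035e0058e002e80034b00418004170022a0058500405003ef0057400576002b000652002a00049e0056d00570006500034c003e5001a00032a00448002f0003440054500579002b3003ec002b1003f90029600575002ae002a5003e800577005830075700209002ab003fa002a8003fb0057a003f70040c002af005810049f004040028500356005340032b002a30019100229003220062500283003240020d0071b0031e00626004910055f005620048a004900063c0071f003a00045d004520045e00451002670019d002050047e004820071c002040061e00532003c0002720046f00470003bf003be00345003ba0026f003090030a0046d004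6b0052d0046e0046a0046500469006e8001f0005f5003cd005070039a0031600318003a40045c005e2004570026300506003c80027b0018a00317003150039e0039d00266003ff0038b005010025c003920044b002e90050000419004bf002e500391002ee002e4004db004fb0024f003810024d0038500242003860024b00387004fc00383002cc005a60023a002ce001c500682002c8005a70042f004f1004f4004280042e005b6006860042500233002320015e001c10041f0042300683001c00059f0038f004c80049d002b6002b50025800257002a10036100360001b000338004a60034e004a1001a800335004ab004ad00224004a7004aa004b500403004a000212003de004c7004c5002a20032c0013f0038d002260021000280004ac002220021900332004ae004bd0035000358004a800336002ad001960021c0029b0035200223004bb0027500220004cb003df00347001ff002a4004730028600214003db003d900483003dc0029c003d3003d7006230013e0055b0045f00455002f4003a60039c003a70039b001ea0028d003c700549002a60019300472004710030d001f1003b5003b60030c0030b0030700304006020026a0026b0052900303001860031a003190044f002f1002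77002780051700264003a1001e80044e00314001f6002f20026000445001e2002ec00395005040025900444004c90036300362003fe002ea0017c0017b001110043b0043d001d1001d3001c8002370043c001cf001cb002d30043e0044200247002df001d0004400022d0037c0037a004240037d002480037400378005a400104004ed0025b0036d0036c001b6001b50023e0036b004df0024900156002e7002e600411003dd00227001dd001dc002b700295003e9002a7003f2003f6003e6002ac00337001440028f003ea003ed003f8001a3003f10058900346003e00019e0032d004080021300287001ac0028e003c600343003d8002a9002b2003eb001900040d004b0002900021e001380021a001af001ab003c2001f30034800414003260029e00215003b90028200548001990019a00497001ad000ec003a9003a80039f00261002f9002fa00342001940021700136003b8003b70027100270003b2003ac001ec003b0001870026c0012e0027a0027900399003a2001e9002f50039800397001d70025d002ef0044d0036e001d90038a0041300412002b9002b8002e10016d001e30016c001d6002410037e0024a0037f003820038400161001660023f0036a002dd003790024c0024e003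8000154001cc001690016500366001b200239004de0015a0015b0043500167000bd001e1001e0002c2002c10014e002dc00157001c9000fd00256002550035a00173001a4003410033c0034000330000f6004ba0040e0021d00291000f000312003330033b0032f00141003e1004c00029d00327002880034a001ae00313001fa001480035300281001340021f003ee00206001a60014b001420030f001880029f0035d0019f00323002210013a00321000ed00149000ae002fc002fb002f30031000137001a100306001ed002ff001830026d0012f001ee001f5002f6001820017f0017e002e30017a0012000396002c4002c300251000df0035c0035b002280012b001140016f00122001d8002e20025300162002db002d6002da002d1000c6002bf002d4002d5002d00010600168002c0001b90010b002e000238000fb0010e00107002bc0014c002cd001ce00100002cb000be0010c0008800177001760022f002bd000fe0015f001db0020f0027600147001fb003fc0020e000b40029200354001a50020700299001f40028a000ee0032800401002000021b0031d0018c00225000b5001fc000e6001a70033400218000ef00273002110013b001a9000e9001fd000af000f40026500274000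e8003000018400268001ef000e300262001720011f001e7001e600123000d8000cc001e40025f0009e002310023000180000a6002b4000cf0011700252002500025400121001130025a000c9001c70022e0010a001ba00388001c60008e00245001b30023b000bf001cd002c700150001d20008f001bb000b7001ca000c00022b0010100163000ba001bc00089000c40011b0022c000b90029a00294000f200298001350019b0008300208002aa0028b001890020200284000f30027d001310014a000840018e00143001a2000b00027e000ea001450018f00080001f2002690012d00185000a9000980012a000e00007b0012700126001de000d50017d00179001d400170000a8000d60011e00072001b40012400079000e200171001da000e10016b001df0006e0016e00112000910024600240000c200244000fc0015c000650023c0014d001be000c300234000f80010d0006600152001600008a00235000bb001080015300062001b10018d0020a000b10019c000e70013c001950020300130001aa000b2001f8000f50005f00140001f9000ad0013300081001eb001290011500118000d7000a7000de00059000db001740009c001e500125000750007c001780009d000d300052000d9000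ce0018100095001d5000cd0004f00050000ca0006700151001c20008b0015d000b800102001bf000f7001640008c001b7000c50004800105001b800087000fa0020b00132001970013d000ab001920014600082000b3000e40018b0005e0012c001750005c0009f001280007a000a40004000119000d4000da000a0000550005a0011c000710009a001160016a0006a000920009600038000cb0003900093001c3000f90015800103000850015500109000640008d000530014f00198000e5000eb00060000f1000aa00044000a50011a0007d0004300073000dc00058000770011d0009b000a1000740003c00063000d10006b0010f0004c00110000680006c000940002700159000b6000bc0001f000c10003b000ac00139000450007e000dd00078000d00005b0002f00041000a2000d20006f000280005400047000970004d000c7000c80004a0003d000690003e000ff00014000290007f00032000a30005600019000420002e000490004b000990001b000330006d0003600070000900002a0002b0000d0005d0003000031000760001000020000860003400035000120002c0004e000510001c0001d0005700021000220000a000370006100024000250001e0003a000230003f00016000170000900026000460001300005000180002d000150001a000070000c0000f0000600011000030000e00004000080000b000020000100000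

noncomputable def lvP2_2 : ℕ := nat_lit 0xb5600c4800b9f00c4a00bca00bb700c2f00be600a8c00b8800bb600c5300c2c00c1700c2800bdc00bee00c5500bd400bb400b8600c2600c0c00bde00b8200b8900c0d00bf800c1a00c1600c3300c2700c0a00c2e00bab00c4900b5200c2000b0a00c3c00c3b00c3600c4b00b5500c0400c2200c4500c3900c4600c0200c2500b3b00bfb00a1c00c1d00c0100c1c00b4300c0300be800bbf00ad600c0500c3800c3700c3a00b0d00b500095b00b0c00af700ac200bd600c5000c4f00b1400bcc00b1100b1700b2800b8e00c1b00bf300bfa00bfc00c1f00bd900b8000c2a00b0300c2400b4400c1e0095a00c350094500ada00b18008e800bfe00a9500abf00b2e0094400c410095000aed00b2500bda00b6400c180093500c4000aaf00b2d00ac000bdb00c5100ba500bd300c4200c4d00c3d00be200c0000bea00bcf00b9100c5400bdd00ba900b8a00b6b00be000be100bb000b9200a6500c2d009ed00c06009c200b5b00b6f009f600bac00a3d00a6200a5b00b0700b6900c1500b7700a5800a2200b710081d00b7500a2a00bd000c3e00a3600c3400b0b00bc5007fb00ba700905008fb00b0f00b7b00c4300afd00ba800c4400bd800a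4400a7100a2f00a3f00b5e00a19009e500c0e00a5f00b6800a6300a6a00ba300b7c00a5a00bdf00841009fe00a4000bba00bb800bbc00bc400a0000c5200a3c00b7400a5900b9700c4700bd5007e500c3f008ce009e000ad000c4c0089200be900a9d00ac500a790084000bb200a5000b6e00b5c00a6900a5700b8b00bbd00a6d00831009fc00b5a00b7800bc8009f50099f00a5600a6100b9c00bc300a4f0083a0087e00bff008c100aa1009d300878008ba00a4900b6d00bc700b7900a4a009b600a7d00b4900c1400bfd00a8500c3000c110088800c1900a9c0099200a7600ac60097700a8200b5700a7e009d500777009ca00c2900c3100c0800ae700af800b3000b5300bef00ab600afe00aa700b1c00aee00a9400c0900b3c00ae600ab700b1200adb00ae200abe00be300bf100aa6008b5008e200aec00b2100af00092700b3800b340095800918008d80092f00a1200bb10082100bec00bf900ae50092b00b3100b1000b3600bf40093300add00bf600b1600b4200baa00b1d00c5600c320090c00b3e00924009080090e00a1800a0e00b1e00c2b006f5007ef007f6009e300af400bad0084900a080096200b2600b1900b2200be700adc00c230093400ae40095900ad800b3700beb00b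3900aae0094b0094a00adf00aac00b330095700af100b2300b1b00734009310091a0092d00a9a00af300b2000bf500b3200af90093b0073f00c13009d800acf009e1008f6009df00ad300b84008f0007c20078b009ab009d200aa20099900b6000b7d00b480099d009a40095600b2c00bf000be40094f0093e0094900737008eb0092e009b200b410094300b3d008da0094c00aa900953006e300aeb00a9300aef007360094100ab100a98008bb00b2b0094e00b2f0098b009d100b6100aca0098c007b900a2b00985009c8009870092a008e50095200aaa00a2700b2a00aad00b2900b4b009860098100aa400b4f009c900ba10098f00a7b00993009aa007850099100b5f0099500a7200a8900b46008900086f00b7e00a7800a9200b4e0098200b4c0097c00acc0087c00ac80096f0076900ac400bd1008f100a0900a0300b9800ba400bcb00b76009ee00a30009ff009c700b7200b6700bc000b9d009c1009b100b5900b5d00a0400a5500b9600b7300bb900b8c00b9b009bb009bd009b400a33009f90081100b66009c000b6a0092800a4500822009f4007da00a26009b90082000ba000a3b00a0100a520084600a6700a2e00a6c009e400a43009e600b020071800a160093c0093700bb3007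5a009c5009f30093f00b9500a3e00b9a00843008060062b00bce009fb008150079e00b8f009f1008180063300bd70096100ad20091f00a110092100a1f00a3900b0e00c4e007f700a10006f6007f3007eb00bc1007fa009020090900a3a0060300ad7008f7008500096000afa00a21009d70073900a2800a2400a2c00a4600b8d00a4800b9400a6800b9300839007dc009a2009c400a53008d900b6c00a5e00b700084500834009e800a2d007ba00bbe0083f00b99009ea0081f009f000844007e000ba600a4c00b900084e00ace00b8300ad400848008c7006e4007c5008d0009db005fe00a06008cc00a0a0088e00aa000ac900b6200887008a400790009a7009cc00978008e300a9100a9b00a8e008330083d009f800a42008de00a6000a4e00a64006d300a3200637007a800bd2005da009b800837005ed00b9e005f20083c0082e007ae00bc90077a007bc009ad008c40091900a87008bf00a860072200775007b60070200a8400725009a1007d7007ff00bc60097e00a8300a7f00b6500ac70087d0097a008910098800ac300a8800b4a00a8a008c00088300a9f00aa30077b00886006910097300788009a600a8d00b45008930088a0097500997009790099c009cd0086e005ad00b58009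8400a80008740097f00a7c008c60067c0066f00b81008a500832008610057e0086200858008090065c0074d0058d008bd00a730073a00b87008f800a0700a6f00afb008cd007df00abc00ae00095500bf700ae300b1a00af200b24008dd008df008b800a9700ab200a2300abd00aa500ac100b150093600be500abb008e00091b008ec0092000c1200ab500b35006b0008b7008aa006fd00bed0062d0070900b270070f005580071900906008ae008e700b13008e900ab4007130072a00af500947009100055300b40006db009130072000ad900900009a00082300b060080400716007a100c210060a0096e0080100aba009160072300c10005380095d00a9e00533008ee00a510053a00ae900a4b00a130084f00a3500b0100810006ea007f90081200bb50090a00b0000a1b006f000a3800604006ec006f2006c900b1f006f400b05008d300a0b0090d0063e0073c008f30084c009bc00acd0084700ad1008ed0092900ab900948009b700c0b0094d00af6007aa008e40089d006d100bf2005220095e00727006b700c0f006bc00ae10072e006d700c070069b007c8008d4008d500640008ca009da008d1007ea0095f009d60096300515007e1006c50052500afc00693008a7008c3009ae007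db00990009a900994007b000896008a1005f000b54007ad0094000731006d400b3a007d00051900ae8008f2006bf0050c00ab3009ef006e00051b00954009e7007a00087f006be0060d00b510082b005ce0087b009710082f0054b00a990092500697008d70079300897008980087a00876009b000b7f0098a00a7a0099800a8100784008bc008840097b0088b0097d009d00098e009d400a77008a600b6300678004ea006800068e0078a00a750078c0088d00968006870099a0078e0076c004e500a90004d00099e0098d00877009800087200855004ca009cf009740060f0070b00755009a50075e00a34008650065f00657004a50058000a74007570064d0057b0096d0056b0076d0066d008570086d0061b0093a0063f009dd0096400a0c006e2007e20084b008f400930009de008ef009e2009f2009be00a25009e90092c00bc2009ec00a6b0072c009b3007b2007fc00b7a00bbb0063c00a4700966007a300a41007d30080200bcd007a6005cd009c600972007280048600a2900a370048900616004900049300626007f00055600a1a007cf0081b00630009fd00605009eb0084a0047900a5d0093800607007dd00946006ff0061d006ae00baf009170053500b0800a4d0070000665006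61009140060600a6e009ac006100080f008a000608007640089c00614007650073000b04008fc0080d008ff00923007ee0090b00a1d006f3008fe008c800b09007f50090400469009260052f005dd00bae007e700742008b60073e00a0d006d9008c90063b006ba00b85006d600a050082a007ab00ba2008ab005d1009fa009cb005f50046000a6600ab0007b7005d300a0200aa800505005e5006cd006ce006eb00792006c8006c30073b007bf005f700a70005e200458008f5008fd006b900787007a50052000a8b008b30050d00996009f7008af005d200a54007e6005e7007b8006de005d4008b0006da005eb008ac008b10089e005080098900a31006ac0082c0081400629007a7007050059d00882005b9006d00079800799005cb006a8006a700879007c700696009ce00779008700078f0087500b4d008850099b00689007bb007820076e00acb00b47005b6009af0089b00427005980042e00431005a7004e8005b10086b005aa0088f0059300791007940041a008950088000596006a50068d0085a00772007660064c006720058e007680076b00717007070081600860007520070400659007530096c0097000759007560066300571003f0008640057200762008630065d0058a004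a10074b0074f0096a0064e00590009690066e0083b007fe0054100827005640082500741007e80081e007e40096500635007c4006df0061900ad50063200aea008b20070c00b3f008280054e00aab007480055b009320085200551008380081a008a20054a0095c00866006aa00830008050054c008a30080c003ce0055d00544003c3003d7008240048e009030047a007f40095100539008db00740006f7005880063a0053b0066800636006fb0066600829008070047500a1500a960060b00763007260075f00573006f900708007a4009220060c008690060900854006150090100a0f007e900706005fb0046d00a1e007c3005f90090700601006c100a1700529003ad00a14009d9005ef0055a005d800aff007d800461009dc00ab8007d40051a00ade008c2006b1006e1007b50051c007d5007b1006b5007d1007d6005ba006cb007ca007cb005df005ca005160046700899007c0005100084d006ef00511007c1005fa007b3004560088c008ea005d6008b4008a9006b3006c0005f3008be005d7009ba005d5009b5005ec005cf0089f009120093d0054d008a8005d0006990079600795007cd0067f0078600770004d70077f004f60077d005cc005c800778005b8005af005e400503005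9b008d6005ac009830068b0067500a8f00780004e0008c5006a4004ed009760079b004e300783007740036f004ef004da00367003780077c0042c0041b00889004cf006940069c00673004ff005b4004d1005c6005b00079d00597009670064f0058c0059200749004cc0086c0058f00585009110061e006520080e007580085b004b10080b0075d0085d0091d0085f004b3004b2004a7004ba00655005820075c008670070100650005700040a0056d004050085c0074c006710076a00711007350071e0055f0070e004820061f0071d004970074400555005f40053f00a2000732003cf008d2008530071f0048800a5c0064a0062e0063d007150048a0072f00712009390055200627007290091500942006ab009a8006ad003d5003db0047d0031e006490047e0058600560003c1006ed008420053d006690083600612004be005590064b0053e007460053c00760006fc00536008080082d008680061100658008130053700703006fe00710007ec008fa00304007f8006f10052700513006e800464007f2007c900465006e9006c4006dc003ab008f9009c30051e007d9007ce005e9005f6006bd007e30051f008e10051d008dc006b60045c00698005e1006c6003a3006a9007f1005db005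e300528008cb005120050e007b4007d2009bf005e8007bd0050f006bb006b8006d8009a30062a0062c006af0069e006ca005b50044b0069d008730059f0067a0069200685004f10067700423005a00068400435006a0004e70044c004d50089a0068f00370006cf0079c006860042600894005c4005a8005b70067e004280068c0067b00881004e4003760037c0041e002c8005c30041f004fd004f2003650078d004d3005c7007810059400443004eb005c5004d4006a2004d2006790086a0074a0074e0066b0041600591006700056c004c4002a40081c0081900549004100056e003f10091e003e60057c006640085e0096b0065e0057f003ea003fc00574003f20040c003f60040d00662006560080a0040600667004c700407004c300859004c500419006180064500625004950048000623003d20062100567003d30064300622006380031c00851007450048c007330090f0054f0055c0061c0073d0048d008260048b0063400835006280079f007a200311002820074300542003fd00496006460047f0047b005870072d00747006f8005680047c0061a00617008030091c006fa0070a003e10060e003c00047600477006e70052b003b20052d0052e005fc00301008cf005230052a005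e0007ed0046600462006dd008ad008e6006b2006e500463005f1005ee007af00517002f80079700459006c7006e6006cc0045a005de008b9006b4006d2005d900507004870048500724003a9003a0004ec002eb007cc0050400395003900077600773004df0037f003880059a005bf005a60043300421005a400373005a2004f900374005bd005a3005b2002c6006a6006a10042a0069000871004e1004ee0059e0069a0042b0077e00429005ae002be002390069f004d80038900434005c0004200041c004fe0068a006a300674004fa0041d0059c00599004c90066c008560032d004cd002e800363003490066a00348004b9004a30065300534002150038e007140033b0071c003300022000751004a8004aa004b50034e004a6007610057d0075b00292004ab0033c0035200340003530034f004b700338003500035800754005890058b00651003560034c003e500408003620054600499004830049b005620027f006440049100498005470071b003d4003d000639008170083e0062f00641003d100557005540050a00721005090045500323003c4004bc006420049c003c5005450064700613007fd005400047400530005310080000472003280030e0030d003bc003bd003b1003b4006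02003b3003b0003ae005fd007be005ff003af00526007de005ea007a9005210031b003ca003cc003a400518007c6005dc00514003a2007ac0031a004500044f003cb003c90045f002fc002f40025c0079a00392005020044700400005000044d002ef002e90067d002d500683002d10043b002d6002df002da002e0004dc004370042400439004f400236005be0042f00436004dd006820037500371005b30077100789005a9005bb00372004e9004e60036e002cd0036800441005bc0043a00369004db005c1005950076f004d60038f004130041200767004ce002880025800257002b9004c6006540021f00293003e8005770056f004cb0029f004a2004c20040f003e40034d004730019f004bf00397002e500624001ab003eb003ed003f8002a7003e9002af005810058300576002b0002a5006600040e00208002a8003fa00295002a9002b2003f300575002ae00403004a0004c00075000216002a20032c0034a002b800322003250054800324002980031f005630071a00565003200049400738005500072b0048f003aa0045d004520045e004510039f003120029a0056100543004810028b0070d003bf003bb003ba0046f0047000532003b8002840027200271003090030a00600004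6b0026e0046e0026b006ee00524004680026d006d5005060027c0027b0031600318005e6003a5006c200264002f6003cd0027a0039a003990031700315003a8002650026100260001e2002ec00446005c9003930038c00449003640044800344004440039600259005a5001650038000382003840024a0037e0024b00386002410024c0024e002cc002cf004de002ce00244002c9004f500681004f7002ca0043200695004e2006880042d0025b002c4002c3002bf00246004f3004d9004220023c0067600569002e7002e60035c0035b004180041700200001dd001dc00228004b800339004b6003e2004b0001a70020c00332004ae0033a004a9003570049f00404004140021100584002890032b002a3003b9003fe00299002760022500223004bb004bd004ad00224002190065b004b400359002ac0033700354001950021a0033d004ac00222002180065a002a000346003e000401004a4001a0002130028700566003d9001fe003dc001fb0064800492003d60019c0063100454002fe002fd003a60039c003a70039b002f30020f0021b00620001f400203004780030c0030800307003b5003b60047100306001f10046c00305003000046a005f800187001ef004840044e001f7001f6002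77002780045b00457001e90026200319001f5002f1002fb003ff0025d0038b00501002ed0044a002e40039100415002bb002ba0038d0038a001e5001d500254001c4002d30043e002450022e001d2001d000440004420043d001d1001cb001cc002d70043c001cf001ca004f80037a001bd0037d001ba005c200430003770015d005ab00425001e1001e00023100230001c7001cd005a1001b3001bf004c80049d0025600255002b4003610036000173003fb00296003f90040b003e7003f500336002ad003ee0014300297003ec002b100310003f400329003df003470035d0040900201002860021400321003330014b001a4001480057a003f7002b30014a00578001a80021d00291002aa0029b003130057900142001a20056a002120029d00327003e30013f003da002830020b003410055e001350013d0050b0039e0026700266002f9002fa001ae0032f0018900192003be002700026f003b70052c001ed0026900302003030012f00185003c8003980018a002f7003a10018200279002f000179004450025e00394002c50016b002ea0035f0035e0022a002290016e001d400170001df0016f00387002420038500243003810024d002bd002cb002d40010e001620010b004fc00383002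4f0010d00247002c0004fb00107001600037b0023a001c3002db004f0000fc001030036d0036c0017700176001b400168002d00014d0015500411003dd001db002b7003430019a00351003310033f001fd0032e00209002900021e003340019d0028e0033e0019400274004c100285003260029e0034b0019100342001af001aa003d8004af000b5000f5003ef00144001a500207003c6003c2000ef001400049e0019e0032a0049a0018d00198001ac0020e000e7000eb00453002f2001ea001a30028a001300030b003ac00184001eb001f00026c000e30031400263002f50017f0017e000d80017a00252002ee00233002320011300125002b6002b5001b0001160025a001d60025f00250000cc00121002dd0015b002de002d2002d9001bc0015e0023f002d8001570022c002dc0016900164003790043f0008f000c50036a00366000c00010500438001510015900166001c6000b8000bc002c2002c10011b001610023b000f70035a0028d002100027e0029c0028c000ed0018f003550019600206001a600226002a600137001f200402001ff002a1003c7000f300146002800028100084000b300335000f0002750030f000b0003de002940013200139000f60019b000ab0039d00141002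020026a002ff0012d00186001ee001e8000ce00175001e7001e600123002e3002e2001e400122000d4001b6001b5000a8000da00227001810011700120001d800111002530025100114000970023e001c800235002480023d000be00153001d300249000fe001b10036b000c3001090023700238000660008d0022d002bc0008a00240000f9000ff000c60015c000850022f00106001be002050013b001f90020d001ad000af00133002ab001380020400217000e8003450031d000b2000f100190001fc0005f0028f001f300273001470020a000e5000b40013c000ee001ec002680012e000a9001da0012a000e2000a50012700126000d70011a0017d001d70016d001e3001800011d000750009b0014e0007c000a1000e00017100098000e1001d90016c00110002e10006b0006d001c100101001b8001c50016700089000fa001c0001c9000b9002c70008c000c100154001bb00048001b20022b0010a001c2000b60008e00102000bf00221000ea0018b0013e00149000800021c00193001a1001fa0027d00082001340018e00188000f20019700083000ac00183001180011500129001de000dd0005c00078000db0009f000d00017c000df0011e00124000a0000d2000550006f0005a001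72000cf000cb0017b00092000c80016a0004d0004e001ce000bb0014f001040010c00062001560015f001b90023400064000fb001520014c000c2001580006500199001a9000ad000ec000f4001360018c001f8000e600060000b10007f0012c0011f000de001740007d000a30004300056000730009e000a600178000d3000d900074000990003c0012b0005000094000cd0006800090000950010f000360015a0016300087000bd000c4000fd00150001b7000b70002c0008b0013a00145000ae000e400131000450005d0007b000d500128000a4001190005b000760002f000d600072000790011c0009a00037000540011200039000690006e000960004a0006a000c700100001080008800070000f80001e00081000e9000aa00032000a7000590009c000dc0007700023000420009d0005200086000d100026000c9000ca000270004f0006c0003d0004c0003e000ba00051000130005e0007e0007a0004000057000a200018000490004b00071000610001a00091000930001f000380002a0002b0003a000440003000031000580003f0000f000280003400035000460005300067000140001c0001d0001900021000220002d000630001b00024000250003b0000d000410001000016000170000e000470001200029000080002e0000a00006000330000b000030002000015000040000c00009000110000500007000020000100000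

noncomputable def lvP2_3 : ℕ := nat_lit 0xc3f00bb000ba900bb200b8200c1300bfe00be800bfa00bf300c3200c0400c0200afe00b5300c3100b4300c2300c0e00c1100c1400b5600c0300c1d00c2b00c5600c2400c1e00c2200c2000b0a00b0d00b0300c0500bfd00bd800c3400c4200b9700b8800a7100bb600bdd00c4300bd500ba800b8a00b8600b8900b7b00c4b00c3800b9f0090100c4100baa00c4f00c3d00ba100bd100be100bd000c4e00bdf00bdc00c4400c4700bd40091a00c3e00aea0094700bb700bac00be00091000bab00913007130091b00bb400c4000c3c00c3500c5000bad00bea00be200c4a00c4c00c4d00c5100ba50092900a8c0092d0095c00736008b200bc500a9700a99009360072e00bde00aa900aab0094000c0000bdb00c3b0072700a1900ab100ab3008e400be900c5400bf800c5500c1600c0d00bee00bff00b5700b4900c2800a4100b4400c2500bfb00b3e0084300c1c00c2900af4009f2009f000b52007cf00b0c00a5200a54009b3009f800bfc00637009fa00a24007f4009b800ad600a5d00a0200a32009e800834007dc0084500c1500c060080d00c2d00a1300c2f007f900c17007ec005fb00c1f00c2c00c5200c0100c1a00c1900c30008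0600c180081b0081500a2500c1b007d300b5000a3300a47009a100a2f00b9b00a580081f00b3b00a2c00a5c0083300a2200a260081d00a30009be00b550081800a290082000c3300c2700c53005f400c260084b0084d007c400c0a0077900b640086e0087b009a60082a00c2a009c4009c60083c00a3c00a3f00a6b0084000a2800844009bb00b5b00b5d00a4a007b200a420083900b6800b6a00a4f0083700a53005b100b800088a0088c007bb00791009cd0083100b6e00b70009f50082e009f90077500bd900c3900bcc0097f00c4900b8e008c300c3a008a1008c50076c008bc009680078700bda009960078e006940099e00bbf00c3700b240095d00abb00ab900bcf00958006db00ba70095200954008b70073100ae600ae4008db00ae900ae8008df008d800b2d00b2f00aa6008ae00aaa00ab200aed00734008eb0073700aef00b1100ade0095e008ec0094a006ed00906006f600aae00b36008da0094900af600b1b00ae100ada0094500adf008e80095a008ed00afd0091f00c4600c360071600c450070600b040090c008fc006ea0092100bca006f3006e70052f0074100c4800b0f008d0008d20073b009180092f0092700b12008e000bd300916009320092a008dd00b1c00b2900a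94008aa00a9800b1900c1200b310093400b1700b3500944009310094800b1000b130093300b1a00ab70092b00b150093500abc0092e0055a00bd6008f3008f5008c9006e20096100963008cd006df008d10068b0097b00989008a60087d009770098700a9c0087a009780093b00abf00ac10094f0089d0095300b2000b2200b3f00956005ec00b140095900a9a00ab500be300be500b2a00463008b500b25008b80094d00beb00bed00b2b005d70094b00b2e0094c006910099200994008c00068e008c4006110089300ac60088d0094300bf000bf200aeb006090093e00aee0094100878008720067c0087000a7e007b600c0c009ad009af0087f007a50088b009d2009a4009cc009a7009d40086f008940086b009c900a72009ce008870069300a8e00896008900078c0089500573004cc00a9200be6009da007e100bc200a6c00b7600b74007dd00a6e00a66009bd00a67007da00a6200a64009c1007d7009c50083a0083d00b9600b94009e600b9a00b99009ed009eb009f1009e400bc700bc900b6600537009b600b69009b9006fc00a550053e00b6f009e90084600b9c0083f009fe0084100a0300b9e00bb800b9000a6d00a05009ff00a5b00a04007f00060400a1a0054d007fb00908003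f000b6c00bce006ab009e500a5a009ea00ba200bbe0054a00b9300b8b00a570050800b91009fc00a69003cf00a00009dc007e700a38006ec00a35008210081000a1600c2e0061d007f800a1f00a0f007ee00a36007f7007e90060300812006010084f0085100640009e0009e200848006c50084c00a2e00a4300a3b00bb9009ee00a2a00a4500a3d009f300a2d009ec00bc000bc600b59006b6009b100b5c009b400a4800bbc00bcd00a560050f00a4400a5900a4600b7300a3e00bbb00a490051f00b7700a40009c70063e00a0800a0a009d70063b009db007e400a6f00a70009de003af007df009e1007e20078400a7b00a86009aa00782009ae0098a00a7800a8400b5f006b20098600a790098800a4c00b7800b7a00a600051d0099f00a63009a2006d800bba00a680051b00b5e00521009c000bc3003ab009c2006bb00a5e00bc80050d00a5f0078a00a8900a8b009d0006fa00785009d3007880070a0099a00b7e0053800995006fe00a4e00b9d0053300a50009850097c007770097a008bd00772009760077a00b4c008ba00aa100aa30098c006be00984008a4008a7004d4009930078f0097500ac900a9b00ac500a9d0097e00acb009790099b009730098300ac300b450037000ac7009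900078b0079000b540099d009970088f004160099c005d000628004b3004b10065600590004a5006580064d0059100b580066e0048d008f7006e400acf00ad1008f0007bf008f400b4000bf700bf5008e900b4200b3d00ab6008ee00aba008e700b3800b3a00abd00615008e200ac0008e5009550094e0095000ad900c1000c0f00ae20060c00add00ae500ab40060e00aad00bec0047500aaf008030060700b300047a0061a0047c00a1d00bf100adb0095b00ae000af1009570048900af700c0700b410031c00af900af200b34005ce00af8009030062a006f5007f30062c0090e0048600a1c004b2005800079f00ad800b33005cd00adc0062700c0b007a3005cf00c08007a00048c00af30063500b08008f900b1e007ef00926007f2009370092300b07007180090b00900006f200b1d0090a008fa006f40045a00924006f0008fe00964009650073f0074200ad300ad50095f005e8007c200962007c500ae300b1600b2700b21005d500ae700b1800aac007af00aa500be4005d300aa7005d900b2600b320045600b28005f100bf900b230046100ac20044c006a8006a9005e40073e00afa00afc00acd004660073900ad00073c00468008ef00ad400301008f10088500b4a00b5100a9f005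ea0088300aa200884007a900a8300b48005d100a85005ee00a9300b390046000a95007d6005eb00be7005f2005f30046200abe005ef007b5005d600b37007b0008000088600aca0060600888008140061000a8d0070b008050060800b2c0060f0042b005cc006cd006cf005ca00a7c0087c00a7a009ca0087400a770087e009cf00877009c800b6100b6300a8700597007b900a82007bc009b0009a9009ab0041b0059c0041d00a8a0089100a760087600b7d00b600042700a7d00a8f00a75002c600a810042a00b7f005af0088e0089200a910058d004cd00a900058f006af007210057f006ad0057d00701006590057b005710057c00754007520075600671005720074c0074b0056b006720076a0074a0055700552003d100a0b00a0d007e5007e800b8300b8500a06006f8008c700a09008ca009fd00bd700bd200b720053c00a0100b75009fb00710009f400b790053a009f600a650071500a61007110070300b8f00b950053500b71007050053600b6d006ff00915006fb00bcb007040053d003c1005400027f003c5009070054e00b0e00b8c00a6a003ce00b920055100ba300558003d000ba600555006ac00ba40072200724007fa0054b00905007260054c00b0b0062d0057e00663006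640089c006aa00b8d006b000720008a2008a3006ae0089e0089f00556007320073300bb300a1500bc10090200a3a0090400a1400bb10082300a1e0051200a12007f6007eb0051400a39007f5003a300a1000a200084e006b400850008d3006d2008cc00a2100519008ce006b800b9800bbd0050c00b6b008b1006b500b67006bc006bd0050e00bc4006b9006de0051e00b7c006d9004ec0079500797006ca0052400503006ce005260084700b84003ad0084900528003ae00a0700527006d50098e00b620051a0098f008a9006b100b4f007aa006da0051c00b5a00522006d7006e0006e100520006dc006dd006ba008b3008b400912006f90099100801007090081600666006fd0070700708004e9004e4003720069d006a600505007ca007cc006980067400516006a700ac40098000b470098b004d200ac800982008c600679008bf00b4e004d0008c100aa40067e00aa00067a004d300365004d60023600369004e00099800b460036f00981004e300b4b004ea0037100b4d004e7004e80068f006900074f00999004ca0066d0064c00592006700066c0063a007a400829006610080a007a2006600060a0065e0080b00758005820085e0065d006550065c0065f0085b0085d0065700407004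060076d008590064f008580064e0086d008560062f006340048f0048b003200047f00aff008f600613008f8009dd007fd009d600afb00605009d80061700af500bf60047900af00081a0061400aec0061b0061c00b3c00618006190081c006690080c0060b00bf4008040060d0080700808008020080e0080f0047b0031e003110031f00481004950048800a1b0062e00bb50072c0048a00c0900490006330063c0063d0048e0063800639007a10082b0082c0082d0062900a18007250062b00728007290075e007610079e007a6007a7009a5009a8009a0009a30083b0083e00c2100b06008ff00b1f00a170026e00b05005dc005de00b020090900458008fb005e00045900b00005df007ac0090d005d2009e3007ce005e7009df006d3007b1005d400bef005da007ae007b7007b8005d8007b3007b4005f0007d8007d9005b80089700899007c7005f8005b5007cb00464005cb005fa00465009600046900467005fc005fd007d2005e900a88006d6007a8008ab008ac005ed005f5005f6007e0007e3007db007de009bc009bf007ff009140076400928007600081100813008d400792008d600798005b4005a9005ae0042d00429002ca004200079a005ba00595005c80076f005e100796005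93005e50059900b8100a800041a009d50077400596009d10059d0059e00b650059a0059b00776005c70041c002c8002be002c9004220043300426005a8006890042800a7f0042e005ad005b6005b70042c005b2005b30078600789008570085c0058e0058c00769007490076b0076700405007300055900349008a00075c0091d007000075b007550091e00762008620066200753003580034e0075a00757007590096c0096b0041000356004a3004c4004a20096a0074e0074d009670072b00550005430054500554003d6003c3003d400547005460070d00a0c0053900ad20090f006f700ace007fe007120053b00ba0005410070f00717005880053f00714005870093000747007020091700763009190091c0092000922003d2001fe003d3003c4003d7003d500562005630054f00b09006320072a0082800838005530055b0055c0073a0073d00735007380093c0093d007230082f00830008320083500864008a5008a800a9e00a960095100baf00a110030500bae003b3006c200510006c40051100a0e0051500513006c6006c7008ad006b300ad7007ad006d1007d0007d1006b7006bf006c0008bb008be008b6008b9008e3008e60030200696008d5006e60052300699005f900525005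290052a006eb006ee006d4007d4007d5009b2009b5006e3006e5008f2008ea00ab800a270086900866009250069b006c800898004490089a0068d004eb00688004e2004d9004db004e6003770036700375004dd004dc006760069e004cf006d00087100673006cb007700067b004d100acc004d7006780067f004ff004d50067d004fe00879006a300373001bd00374003680037800376004f4004f5004e1005ac006870078000783004e5004ed004ee006970069a00692006950088900768009690096d0066f0066b008550086a004c3004c200209008360063600496003e20058b0040c00863002af00809008600066500a34008670075d002b2002a7002b00040d003f4002ae0040b008610085f00a74004b90056e0040a0040f0056f0085a002ac002c5006310049200324006200047d006220047e00494004820048000624004bc008170061200b870070e007fc0091100765006160061e004be008220064b0081e006470085300a2b0086800a3100a3700491002830055f0049300497004980064500648006300071f0072f0093a009390063f006410084a0084200a4d0093f009420094600216009ac005090050b003a900b0100304003b40046e0046c007be005db006c3005dd005e2005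e3007c3007c6007ab008af008b0008d9008dc007ba007bd009cb009c3009f7003a50026b00793005f7006e8006e9005fe005ff007f1008de008e100aa8007e60053000532003bf0097200450003cc0079900390007c800393003910039200781005b0004340024e0024a005ab00430002ce005a10041e005a30041f004320042300421005a5004410077100594007cd006770076e00873006a5005980059f004430077b005c500778005c10079c0042f0023a004f1004310043500436005bf005c2005aa006860068c0088200881005b9005bb007940078d003640086c00a73001a8007660025b00233005840065100289004a1004c70066a00336001960038e0072d003520056000223004b8006540065b003590022000339003500096f0075f00970002a000224003530033e00222003510033a0065a0034f004a9003570096e0034c0066700653004c6003550021f0021d002320055e00282003dc003da0071a00542006210054400549003fd0071e005610070c008190066800a2300854007190056800748007450031a009710048400487003250055d0062300643005640056500743008270082600a4b007400045d0045f0045400a51003a0001a00045e0045100453002fc003b2003b1005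2e0052c0045b006c1007c0007c1006c9006cc008cf009b7009ba009e7008c2004760047800472002f8003b0007ea007ed006ef001f0009ef003bb004770046f004710030c005070039a00318002e9008d7002eb0050000504004bf0044a002ed002ea002ec0068a002df004f2001d0001d1002e0002d8001cf002de004f0002390037d0037b00681004d8005a2004da004df0038900685004f30067500773005c60097d0079d00680004fa006a4006a100415002cf004ef005a4005bd004f6004f70069f0077f0077e0098d0069c002e8002bb002ba009740036e00144001e1001e0001b60057000750003290057400576005770056c003e400201005850056d0058a003ef00292002900013800448002f0002e500642003fb0057a002b3001ab00296002a9003f50058100583002a500293003e80086500403002120029700579002a8003ec002b1003f300575003e700409002a4002a200751002ad002ab001a7001a5001b500323003220049b0049a001ae0061f0071c00586006260049c006440092c00746009660064a003ca003cd0027a00506003c8003cb001a4002250071d0071b00649000f600938002fe0050a003a6003a80039e00455002f40013f003a70039b0039d002650052d004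6d0046b00600003a4008c8008cb007c90026a00ab00030e00531003bc003be003b80045c0046a008fd00187001860047400308003bd003b5003b7002700044f002f10027800260002590025c004440044b004470044d005c90042500400003fe003940025e0025d005bc00387004fc0024f00165002420024c00243004fb0024b003810024d002cd002cc004390043800168005a000683004fd005a70043a005be00875006a20089b005c40038f0035f0035e00162001d20068400682005c3000c6008800041900258002570022a00229002c4002c3000f000177001760014e004b5004ba004a8006500049f00285004ab004ad004ae00338004a6004a7004a40032d0032b0019100652003370033500208002060038d0021b00148002260033f004bb004bd002190020c00332004b6004b70032e004c100348003460019e002050033d004ac003310013e004b40034d0034b0021500213004b00021e0021c0014300483003db003d9005660021a00825006460056700147008520027c004850031600319001f50044e0031400317001af0029c00824000b5000b4003aa0026700452002f9002fb002f20039f00261002fa006020052b002f700517009d9001ed001ec003c0002720047000309003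0b00306005180026d0012f0012e003ba0026f0030a0039900397001e20038a003950038c005020039600501004ce0036d0036c00344002ee0011300170001210043b0043d0043e001cd0010b001d3002d90044000442001cb001c4002d3001c1002d70043c002d200104004240037c0037a004f8001cc0077d005c0004f90010a0079b004c9002e7002e6002b6002b500169002480077c0008f0008e0036300362001dd001dc001b000231002300011b003f8003fc003eb003f2003f6003e60056a003e1003df001ff00295003e9003ea00190003f1003e5003e300288002860040e002910028f00195003c6001ac0028e0019a0028d003f9003fa0028c001990057800404004020029f0029d003c7003d8003f7000ed000ec00534002a3002a10019f003ee001a60054800499001a30014b00744000f3000f20031b001f7003c9002770027900398002100014a0008400083002fd001ea0039c002f3006f10026400263005e60030000184001830030d001f1003b600303001ef000e300307003ff0016f002ef002e4004460056900114004450041800417002c2002c1001d70016e0016d000d80017b003840038800380002410037e0037f001540036a001660023f0015b0023e0038500386002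3d0015a0036b0037900383000be000bd004de00437001610010e006a0000c3000c20041300412002560025500227001c80010d0006600065002b9002b800173001b400321003120033c0034000330001fa004aa004a00049e003280032600333003410033b0013500134004c50032c0032a002000035400207003130020d0020400342004af0013b0013a004cb00347003450021100343001fd000af000ae0047300214003340062500142001410019d001aa000b2000b10027b0018a00315001ad000f50005f00266003a2001e9001e8003ac002690012d002710026c001850012700126001d90012a000cc0038b004c80049d0016c0005c00361003600022f00118002e3002e1002e200122001d800120002cb002bf002d6002da002d1001b9002d4002db002d5000fc000fb002c0001c5001c0002dc0043f0010100100002dd001bc0008900088005a600107001060015e001640008c0008b0035c0035b001db00167000c5000480022800276002980027500299003ed0018d0018c00589003e0003de002840029a0019c000e7000e60040800287002aa0028000194001930029b0027e000ea000e9004140029e002810018f00080003b900218000ef000ee002210014600082001f600149000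b300457002f600182002ff001eb001ee000cf000750017f0017e000db00251002530017a001110007d00411003dd0007b00043002b7000a90012b0025400252002500025f0025a0017c0006e0022e002440022d00245003820015100150002460015d000b8000b70023700157001560024700235000bb000ba002380015300062001ca000c0000bf001ce0010900064002b40010c0008d001fb001f4001f30020f0020b0013200131004c0003270020e0013d000ab0034a0031000137001360031d001f9000ad0035d001fc00133002a6001a2000b0001a9000f1000f4003a1002620026800172000e1001e400098000a0001e7001e60009e0005500123001d4001d5001d6000de000a8000a70005b0035a000590002f001da000e200171000e0001df001e500095001e3000500004f001ba001b3001b2001c7001c3000f9000f8001c60010300085002bd000fe000fd002c7001b800087001bb000fa00249001600008a00163000c1000c40028b00189001880029400198000e5004010019b000eb003c200274000e80027d0018b0018e00217001400014500060002f50011500116001170011e000d7000d6000740017d000720003c0016b000a500128000a4000df0007c0007a0004200040001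810012c000c9001790006b0006a000cb00039000380023c0014d0014c0024000159000b60015c000bc003660022c000b9002340014f00152001c900105001080032f00203001300020a001390013c0030f001f2001f800081001a100045000ce000d400178000d30011f0009f0009d0005400052000dd0007800180000dc00077000a60005a00058001290009200091000970004d0004c001120009400027002d0001bf000f7001c2000ff00102002bc001b1001b7000190015f0028a0019200197000e4002730005e000320011d0009b001de0011c0009a000d5000730007100125000a30005600124000a20001f00079001100006800067000cd0006d00036000ca000690023b0015500158000300022b00010000ac00202000aa0004400175000d20006f00174000d1000280009c000da000760003d000d9000140016a000c80004a000960004e000410009300023001be000210000a0007f0007e0011a0009900049001190001b000530002c000a10002a0000d0010f00090000310006c0002e00018000160005d0006300037000d000034000120003e0003b0001e0001c00057000c700022000200000f0004b000470002600024000700002b00029000130003f000170008600035000330001a00005000510001d0002d000070006100025000030003a00009000040004600008000060000b0000c0000e0001100015000020000100000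

noncomputable def lvP2_4 : ℕ := nat_lit 0xc3d00bdf00be100b8800bab00bfb00c0200c1e00c1800bfc00bfd00c2400bfe00b5300afe00c1400b0d00b0a00c1500c2b00c3100c2000c0500c5600c1100c1d00c0400be800b5000b5600c2300b4300b0c00c0300c3200b8a00c4c00c4700ba700bb200a1900bb400bac00c3e00b7b00bd000bd800b8900b8600bd500c3c00c4500c3a006f600c3900bad00c3b00c3f00bd100ba100ba900ba800ba500bb000bde00bb700c4200c5100ae900c43009490094800c4400bdd00a8c0091600b8200713009130092e00bb600c3500c4b00c4000c4a00baa00bea00bdb00c5000c3400bc500bd400c4e008db00be00095d007360095c0072700c4d00a980093600a99006db00bdc00aaa0094000aab00c0000be200c4f008b200a7100ab2008e400ab300bff00c1a00c0c00c1700bee00c2c00c1600be900b4900b5700c330084500ad600c2a00c1300af40084400c1b00c1900b3e00a32009f100b550082a00b0300a53009b300a54009f900bf3007d3009b800a6e007f9009fa00b4400a2c007dc009f2009e9009be00a0200a4100c0e00c2d0071600c06007fb00c53007f400c55006040060100c0100c0d00c0a00c1f00c5400c2900b3b008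1800bfa008150081b00a2d00c1c0063700c2200a42009a100a4700b9a00a5a00a59007dd00c3000a5d0083300a5c00a2a0081d00a2600a400083400b52008060082000a2900c2800c2600c2f0055a00c270084c007c40084d00c520069400b6400872009a60087b007cf00c25009c50083c009c6009e600a6c0084000a6b009eb008430083100b5c00a4a00b5d0082e00a33007da00b6900a4f00b6a007d700a520068b00b800088b007bb0088c0087a009cc009bb00b6f009f500b70007b2009f80096800bda00c4100b8e0097800c4800bcc008c400b9f007b600787007720099600775008c500bd9008bc0078f007790097e00bd600c460095a0092d0095e00aba00bd3009590072e00b9700953008b700954008aa00b1b00ae5009290091a008df00ae80093b00b2e00aa600b2f0089d00aa900ab100aee008dd008ec008e000aae00b42008da00abb008eb00abc006f30090c0090100aef00b1700ade00aea008e800ae6008ed00adb00ab700ae000af600b2400ae100afd0082100c3700bca0080d00c380061d0090e00906006f5006f000b0800c36006ed0052f006e70074200c4900b0f008d10073b008d20092b009270092f00b180073700bcf009100092a009320073400b2500a9400b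290073100a9700c1000b3300b32008e900b360094400b35008ee0094700b160093300b1300b2300945009180093500b150094a0091b005f400bbf008f4008c9008f50063e00962008cd009630063b008d0005b100984008a6009890078c0097c00a9c00987007910097f008d800ac00094f00ac1008ae0095200ad900b400095600b3f005d100add0095800ab40094300be400b2a00be5003ab0093e00b1c00941008e700bec00b2b00bed0050d008e200b2d008e50078400993008c00099400782008c3006070098600ac50098800ab500bf100aeb00bf200606008b500aed008b800a720086e0086b0087700a79008a100bf8009ae0087f009af006be0088a009d3008ba009cd008bd0088700874006930067c00a8e0087800896009d400894009c9009ce008910087d0087600571004cc00a7d00c2e009db009dc00a6900a3f00a6d00b750081f00a24009bd00a6600a680083900a63009c100a6400837009c4009b1009b400bbe00b9500a3c00a2f009ed00b9900a28009f000a4c00bc800b6600bc9004750099f00b68009a200538009c70047a00b6e009e8009f300b9d009ec009ff009ee00a0400b6c00bd7009e500b76009ea009fe00b7700a03007f7007ec00a1f0054a00a1300a1d005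7d00b9e00bbc0054b00b9000b9b00a05009fc00b960054d00a0000b8c00b73005d000b9200ba200bc20048d00b93007e1007e800a16007f2009370091f0071800a3800be600706006f200a1a007fa007f500bb3007f000603007e900a15005fb008500064000851009e100848009e2007bf0084b00a3e00a3b00a4300bbd0084100a2200a3d00a450084600a250083f00bc300b5900bc6005190083a00b5b0083d009fd00bce00a5600bcd0045600a0100a58009fb00a5700a2e00a4900bbb0046100a5b00a3000a55006e200a09009d700a0a006df009da0073e00a21009de00a700030100739009e00073c0069100a82009aa00a860068e009ad0088f00a7c00b5f00a840051b0089300a7e0088d009e400b7900a6000b7a0051a009b600a62009b9006b100b8f00a67006b200b710046200a4e00bc00046300a50005d6009f400bc7005d7009f60088500a8a009d000a8b0053300883009d200884006fb00a8300b7d006fc00a85006f9009c000b9c006fa009c200b45009770097300982009a70076c0077a0097600b48009a400aa20098c00aa3007a50097b007b9007bc0041b009920078e009cf00aca009c800ac6009ca0099e00990009800078b007770079000b54009850042b0099d00a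cb0099b0098300ac300ac7009980098a00416009810050800486004b1004b3004a50059000656006550064f0059100b4b0064c003cf008f8008f900ad0008f000ad1006c5008f300b2200b4100bf60093400b1100ab600b3d0093100ab90094d00b3900abd00b3a006050094b00abf0094c00aac00aa500aa700b2000b1900ae200c0f0053500b1400ae400a9a0053600a9300beb0053700a95006100061100ac20053e0053d003c10090800bf000ada00ae700adf00af200ae30062f00af800ad800bf7003d100adc00af100bf9006ad00af70090a005cd008fc009070062700b040062800b0e00660006640062900c0700c120062a00af90062c00af30082c006af00c09007a70055700c0b0063d00921006e400b070090400900006ec00a350082300b1e00810007f600926007f800c2100903006f4008fa003a300b06006ea008ff0090d0073f009650074100ad40095f00ad5005d3008c700961008ca0095700b1000b2100b27005d20095b00b1200955005e70094e00be3005e8009500050e00af500b310050f00af00051e00b3400b1a0051f00b300044c006a7005e4006a9007e400afb00acd00afc00464007df00acf007e2003ae0084700ad3003af008490078a00b4e00a9f00b51004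600078500aa100788005eb0099a00b4c005ec00995005e900aad00b38005ea00aaf007a8007a900bf4007d9005200052100b2c005f6006ba006bb00aec007b8006080098e00ac9006090098f008020080300b4f00666007ff0080000abe0080800370005c8006ce005ca006cf00a7800a7500a8000a9d0086f0087e00a77009750087000a9b00b6200a8700b6300593008a400a7b008a7008c6008bf008c1004d4004d30036500a890089000ac80089500b7e00ac4005a900a920088e0087c0037200892004e900a91005b700a8f00a8100b7f0074a004cd00a7f0058c005cf0054c0057c005ce003f00060a005820065e005730057f00572007590075300671007540056b0074e0074c00672007490058d0048c0054e0031c00a0c007e500a0d007e700b8400a0600b850053a007c200a08007c500a4800bb800b7200bd20053900a4400b7400a46006f700a5e00b78006f800a5f00b6b0061900b67005880060b00bba00b940060c00b5e0060d0060e00b5a00708007090070a00b7c007630061a0047c0047b0032000311007f30055200a1c00b8b00b980055000b910072b00ba4007330048f00b8d0055c007a200ba3008a3006aa00a0f006ab00a1b007200072100bb5007290075c00761005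80007230072400ba60089f007260093d00722007a4008a8006b00063a0073d0055800a360081200bb100a1700a12007ef007eb00bc100923009090051000a3a0090b00a140045900baf007ee0045a00a110084e00a200050c0084f009dd006b5009d600a6f006b6009d8006b300a6a00bb9006b400a65006d1006d200a61008b4005d8005d900ba0006c0005f0005f100bcb006e1004ec00796006ca00797003ad00503006cd00523008ef00b8300524008f10046700468009600052a0051c0088600b610051d00888006d7006d800a8d008ac006d4006d500b6d006dd008a9008e6006d9005f3006e500522007b5008be006bc006fd006fe00a880076400915007600070b009120091c006ff0042a004e0002c60069e00505006a6007cb00698007cc004d000516006a800b60009790098b00b47004cf00a760097a009b000673009a900b4a00674009ab009d50059b009d1004ff0059c0041d0041c002ca002be004e40099700b81004e20099c0068800b58006900042d00999004ee005b40069a004ea0074f00b4d0066c008560066e005920066b004ca00556006ae0062b0065f00700006ac004b2007010057b006650066200659006570075b006580085d006610085f0065c0085e003e2004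0f0076d0064e0064d0085a00859008550066d004890062e003d0004880027f0047d008f600aff00479008f7008d300614008cc00afa00615008ce0061200b2600bf50061300b28007fc007fd00b37006690053f00bef004be007150064b0061b007020070300be70080f00705008130060f0081400868008040054000492003c5003d6003c4004980048b009050063400b0b008380063100c0800639008360083e00635005590064100490008a0009a8007a30079e0079f00b090083000829008350062d00864006630082d009a3007a000a4d0082b009ac007a60084a0063c00b1d00924008fe00b02009020026e008fb00458005db00b1f00a1e005dc00b05005130051400b01005e3005d400964005d500ad2007ae007af00ace007d1007ab007ac00b3c007b4007ce009bf007b0006bd007bd005da006de007e3005f2005b800898007c70089900465005b5007ca00466005cb005f7005f800a07005fd00528005ff00469005ed005ee00991007d5007d6009b5007aa007d2007de005ef009f7007d8007e6005f5009cb007b7008050086900801008660081600a3100807008d5008d60079200799004e800427005a80037100426002360041e005ba0079a0041a005cc00596005e100795005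97005e50059400b4600a7a0059500aa40076e0076f00aa0005c7004d500acc004430067e005c50059d004d6004300036900377003680043600429005ae00783005ab00a90005b30078100789005af004eb005bb0042e00794005b6008570085c007670058f009670076a007660058e004c20072a0048e004a3007a10057e008090080a0065d007620075f007550075d0075800756004b8004a9008630096b007520096e00757004b9004a200349004c6003560074d0074b0096a0076900551003ce003c3005420054f0031f00543003d200480003fd0053b00a0b0053c009e30070f00710009df007650070c0070d00bc4005870090f00747007110061c005680054100748007170080c009220070400925007070097100917003d4001fe0055e00481005630049600565003d70055400a180072f00730009390072c0072d00738005550095100732007400055b00a9e008a20089c009420072500946007280075e00a960089e0093c008a50073a00a3900a100030500a0e003b10051100512006c1006c200bae006c7005e0006cc00515006b7006b800b87008b0008b1008dc006d3008ad008b9006b900ab8008b3008c2006bf008f2006e00026b00696008d4005250052600699006e9006e6006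ee00527006ef00529006da008e1006d600aa8008ab008ea006dc008e3006e3008bb009720091400928009190089a006c800897003900069b006870042c004e30036f00367004d8004e1002c9004d9003730042100389004d10069d004d2006d00067800679006cb006a5006750067600b65004fe00871006a30067a0059e004fa004d7006a40067f00375001bd004f000422004f500434004f700378004e60068c0068d00881006890068a00695004e7008890068f0069c004ed0069700768009690096d0086a006700086d0066f0058400405001a80063300630003d500407004c7003f40075a003f50091d008670080b008650086000862003fb003ec002930040b0040c003e70040d00a740085b00861004100056c0056f004060040a00858002ad0025b0048a0031e003220047e0047f0061f0062000491004bc005470049c00482006160061700ad7006680081a00854007fe008170064700618008530081c0064a0061e0082200a370080e0081100a2b004940028300643006420064800495006490049700636008260063200a4b0082800842006380083b0063f009a500a510082f0083200289009a00050a003a90050b00b000046c003b40046b00304005dd005de007c1007be007c6005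df007c9005e2007b1009ba007ad009e7007d0009c3007b3009bc007ba007e0002f80030200793005fa007ed005f9007f1005fc005fe009ef007d4009b2007db00531003bf0053200a2700450003ca0079800449007c8002eb002e90044a005ad005aa00376003870038100428002c8002cc0041f00420005a0005a10042f00441004dd0043a004230059800599007cd005c6007740079d0077000771005c10059a0079c00776005c40059f0077b004320023a005bd005bc005c200433005c300435005b00077e005ac0098d007800078d005b200786005b9002e80086c00a73002090076b002c5001e1004c3004a100216006510058b0058a003370014400448005530033e0055d0033f0035800570004ba003390033a003590032e009700091e0096f003290020c0035100352003310035300220004a7003570034e0034f0096c0034d0065200650004c40021f003550021e001e0003d3003da003d9002820054400545005860071a0056100546005670054900712007460070e00966009110074500714009300071900484009200031a0048500325005600071b0055f007430056200564009380071f0093a007350045e004540045f0093f003a0002010045d00452002fc004530052c003b3005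2b003b2003a4006c4008cb006c3008cf006c6006c900ab0008af008d9008b6004770047200478003a50046a008fd006e8006eb00187008de003bb00476004700030c00471005070039a0031600391008d70039300447005c900400003920025c0025900394004e5002d8004ef002d9001c4002de002df002d2002e0003740037b0037a00239004da004db004fd00681004f3004dc004f9004df0067b006a2006770089b00873006a10067d00879006800038f002cf004f200682004f10069f004f4004f600880006860088200692003640025800257009740042500196002330023200177006540056d002a00057700583005740056e003e5001a000751007500066a00292003ef00291000f00038e002600038d00493002b2003fc0029600297002b30028c002af003f600576003e8002b0002a500a340040400285001ab003ea002b1002a7002a8003f1003e6002ae002a400409002a300585002ac001a7002ab001a6001760049a0032400499003230028d006220064600621006440062400626008520081900a230081e003cc00506003c8003cd0027a003c90028e0029c008240062300645000ed00827002fe00509003a70039e003a800455002f400191003a60039c002650039d0052d006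000046e0046d0045b009d9007c0007c3001ed009b70030e00530003bd003b8003be00518003b0007ea001f00012f0047400308003bc003b600270003b70044f002f100277002f0002ea002ed0038c005020050000501005040036e004bf00344002ec001e2002ee004310024e0038800242002430024f0023d001650037f0024d0024a0024b00438002ce00437002cd0023e005a3005c0005a2005be005a5005a70079b007730097d0077800415002e7002e60023f002480077c005a4005bf000be0077f004ce002bb002ba001dd001dc0036d0036c00138001b6001b50011b004b70065b004a600653004a000212004ae004bd004ab004b4004a80065a0032d004a40032c0013f0066700336002080033500207002e5002050020d0021a0022300340004ad003320022400219004aa004b50035000348004c100347001ff0021b0033b0033000222000b5003380034c002150034b002140040e0021d001430021c0048300566003dc003db00226007440071c0071e0013b0092c0027c00487003180044e0031400319001f50031500210002250071d0013e000af003aa0026700451002fa002f2002fb0039f00261002f9006020052e00264005e6008c80026a00184003c0002720046f0030a003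060030b0045c0030300186000e3003ba0026f0030900399003ff0025e002e400446004440044b004450044d00419002c4002c3003fe0025d001d9001d7001d80043e004420043b001c1001c5001cc001d0002da0043d002d3001d1001cb001cd002d5002d1001cf0008f00424004f80037d0037c001d3006a000683006850010100875005690035f0035e0025600255001c8001d200684001040008900418004170022a0022900173002c2002c10014e003fa0057a003e9005780058100575003e10056a003e00019e003f7003eb0057900135003f3003e400288003e300287004b000290001950028f003120019a001a4001ac001ae003ed003f8002a9000f3003f2004030029f004020029e0029a0029800295000f600084004c5002a20019f002a100354001a5005480049b001940019d0082500199000ea0031b001f7003cb002780039800279001af001ad000ec00080002fd001ea0039b002f3006f1002f7001e900517003ac001ec0012d0030d001f1003b50026d0026c0012e00307003970016d0038b0038a00395004c90016c0039600363003620023100230001700017b0016f0017c0016e00386004fc0037e0038300380004fb000fc002bf0015b0016200166001680038200384002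4c000c3002460024400241000c600066004de00439001570015e0077d0015a000bb004c80049d002b6002b5001db0016900167000bd000620036100360001b00022f00341003c6004af004bb004ac0018d004b60049f003280049e0032700343003210033d00190000e7005340032b002000032a003ee002060027600148001420020f0033c00147000b200589003460021100345003330020e000b40005f0040800213002aa0062500204001370014b002210013a000ad0027b0018a003170014a00149000ae0026600457002630018200300002ff0018300271001ef001ee0012700126001130012a00111002ef0041300412001140007b002b9002b8001b400118001e5001d500254001200012100122002db0036a0043f004400043c00151002dd002cb002d700154000b80022e0010b00107001c7002d60010a0008c002d4001c60008e00048005a6001c0000fe0010e001ce001000008700411003dd002270010d0010c00088002b700313003d8001f40029b003f9001fa00132004cb003df00284003de003c70028100134000ab004730028600334001fb001a3000ef0029900294000f200082004c00029d0019c0019b000830034a002a600193000e8001aa001a9000e9001f6000f5000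f4003a2003a1001e8002690026800185000cf0009e0017f0017e000db0016b002500017a000cc000a70035c0035b0005c00059002280012c00116002e20025f0025300252001df000d800050002c000379001b30024700385001b9000f90036b00238000fb00085001ba00161000c00024500240000c2000640015d0015c000650024900156000b90016400163000ba0035a000c5000c4002800027500189003420031d0018c000e50041400326001fd001fc000e6003b90032f00141000b00020b0020a000b1004010013d0013c0021800217001360014600145000b3002f6002f5001eb000ce00171001e400098000d6001e7001e6000750007200123001d6002e1001d4000a5000df0007d0007a002b40004300040001da000e0000e1000e20025a002e300092001790006e00039002370022d0014d002dc002c700150000b6001bc001bb000b7002d0001060008a001c3001c20008b0010300102001ca001c9000fd00109001080008d003c2001f3001300027e0027d001310035d0018f0018e0028b0028a000ee0019800197000eb001a2001a1000f10008100262001170012b00115000d40011f000a00009d0017d000550005200251000de000dd00078000a8000a60005b000580002f001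81000a90006b001e3000c900068000cd0004f0002700366001b2000f70023500234000f800153001520023c0023b000bf0015900158000bc001600015f000c1003100030f00188001f9001f80013300203002020013900060001400005e001720011e0011d0009b000d7000d500074000710003c00128000a400125000a3000560007c000790004200129000950004d00112000910004a000970009600038002bd002bc0014c001b8001b7000fa001bf001be000ff000190010500274002730018b000ac00192000450004400178000d300175000d20006f0009f0009c0005400180000dc00077000da000760001f0005a0016a0006a00036000cb000ca000670006d0006c0022c0022b0014f000310015500010000e4001f20007f00032001de0011c0009a0011a00099000280007300124000a20003e000a100014001100010f0004c0009400093000230004e00041001b1000220000a000aa0005d00174000d10004b000d00001b0002c00053000d90002b0000d000c8000c70003000069000180002e000170007e00037000630011900035000120003d0001e0003b0001d0005700090000210000f0002000049000260004700025000700002a00013000290003f0001600086000340001a0003300003000510001c0002d000040006100024000050003a0000600007000460000c000090001100008000150000b0000e000020000100000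

noncomputable def lv2 : Level := ⟨2, 35, lvO2, [lvP2_0, lvP2_1, lvP2_2, lvP2_3, lvP2_4], [[2, 1, 3, 3, 1, 4, 3, 1], [3, 0, 2, 1, 2, 0], [1, 3, 0, 3, 1, 2], [2, 2, 0, 2, 1, 3, 1], [0, 2, 0, 3, 1, 3, 3]]⟩

noncomputable def lvO3_0 : Tree :=
  .node 64 (.node 32 (.node 16 (.node 8 (.node 4 (.node 2 (.node 1 (.leaf (nat_lit 0x0)) (.leaf (nat_lit 0x0))) (.node 1 (.leaf (nat_lit 0x0)) (.leaf (nat_lit 0x10000000)))) (.node 2 (.node 1 (.leaf (nat_lit 0x30000b03)) (.leaf (nat_lit 0x30001503))) (.node 1 (.leaf (nat_lit 0x30000e02)) (.leaf (nat_lit 0x20000302))))) (.node 4 (.node 2 (.node 1 (.leaf (nat_lit 0x40000900)) (.leaf (nat_lit 0x30001501))) (.node 1 (.leaf (nat_lit 0x0)) (.leaf (nat_lit 0x20000301)))) (.node 2 (.node 1 (.leaf (nat_lit 0x30000b01)) (.leaf (nat_lit 0x0))) (.node 1 (.leaf (nat_lit 0x20000304)) (.leaf (nat_lit 0x0)))))) (.node 8 (.node 4 (.node 2 (.node 1 (.leaf (nat_lit 0x0)) (.leaf (nat_lit 0x30000704)))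 (.node 1 (.leaf (nat_lit 0x0)) (.leaf (nat_lit 0x0)))) (.node 2 (.node 1 (.leaf (nat_lit 0x0)) (.leaf (nat_lit 0x20000300))) (.node 1 (.leaf (nat_lit 0x0)) (.leaf (nat_lit 0x0))))) (.node 4 (.node 2 (.node 1 (.leaf (nat_lit 0x0)) (.leaf (nat_lit 0x0))) (.node 1 (.leaf (nat_lit 0x0)) (.leaf (nat_lit 0x0)))) (.node 2 (.node 1 (.leaf (nat_lit 0x0)) (.leaf (nat_lit 0x0))) (.node 1 (.leaf (nat_lit 0x0)) (.leaf (nat_lit 0x0))))))) (.node 16 (.node 8 (.node 4 (.node 2 (.node 1 (.leaf (nat_lit 0x0)) (.leaf (nat_lit 0x0))) (.node 1 (.leaf (nat_lit 0x0)) (.leaf (nat_lit 0x0)))) (.node 2 (.node 1 (.leaf (nat_lit 0x0)) (.leaf (nat_lit 0x0))) (.node 1 (.leaf (nat_lit 0x0)) (.leaf (nat_lit 0x0))))) (.node 4 (.node 2 (.node 1 (.leaf (nat_lit 0x0)) (.leaf (nat_lit 0x0))) (.node 1 (.leaf (nat_lit 0x0)) (.leaf (nat_lit 0x0)))) (.node 2 (.node 1 (.leaf (nat_lit 0x0)) (.leaf (nat_lit 0x0))) (.node 1 (.leaf (nat_lit 0x0)) (.leaf (nat_lit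 0x0)))))) (.node 8 (.node 4 (.node 2 (.node 1 (.leaf (nat_lit 0x0)) (.leaf (nat_lit 0x0))) (.node 1 (.leaf (nat_lit 0x0)) (.leaf (nat_lit 0x0)))) (.node 2 (.node 1 (.leaf (nat_lit 0x0)) (.leaf (nat_lit 0x0))) (.node 1 (.leaf (nat_lit 0x0)) (.leaf (nat_lit 0x0))))) (.node 4 (.node 2 (.node 1 (.leaf (nat_lit 0x0)) (.leaf (nat_lit 0x0))) (.node 1 (.leaf (nat_lit 0x0)) (.leaf (nat_lit 0x0)))) (.node 2 (.node 1 (.leaf (nat_lit 0x0)) (.leaf (nat_lit 0x0))) (.node 1 (.leaf (nat_lit 0x0)) (.leaf (nat_lit 0x0)))))))) (.node 32 (.node 16 (.node 8 (.node 4 (.node 2 (.node 1 (.leaf (nat_lit 0x0)) (.leaf (nat_lit 0x0))) (.node 1 (.leaf (nat_lit 0x0)) (.leaf (nat_lit 0x0)))) (.node 2 (.node 1 (.leaf (nat_lit 0x0)) (.leaf (nat_lit 0x0))) (.node 1 (.leaf (nat_lit 0x0)) (.leaf (nat_lit 0x0))))) (.node 4 (.node 2 (.node 1 (.leaf (nat_lit 0x0)) (.leaf (nat_lit 0x0))) (.node 1 (.leaf (nat_lit 0x0)) (.leaf (nat_lit 0x0)))) (.node 2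 (.node 1 (.leaf (nat_lit 0x0)) (.leaf (nat_lit 0x0))) (.node 1 (.leaf (nat_lit 0x0)) (.leaf (nat_lit 0x0)))))) (.node 8 (.node 4 (.node 2 (.node 1 (.leaf (nat_lit 0x0)) (.leaf (nat_lit 0x0))) (.node 1 (.leaf (nat_lit 0x0)) (.leaf (nat_lit 0x0)))) (.node 2 (.node 1 (.leaf (nat_lit 0x0)) (.leaf (nat_lit 0x0))) (.node 1 (.leaf (nat_lit 0x0)) (.leaf (nat_lit 0x0))))) (.node 4 (.node 2 (.node 1 (.leaf (nat_lit 0x0)) (.leaf (nat_lit 0x0))) (.node 1 (.leaf (nat_lit 0x0)) (.leaf (nat_lit 0x0)))) (.node 2 (.node 1 (.leaf (nat_lit 0x0)) (.leaf (nat_lit 0x0))) (.node 1 (.leaf (nat_lit 0x0)) (.leaf (nat_lit 0x0))))))) (.node 16 (.node 8 (.node 4 (.node 2 (.node 1 (.leaf (nat_lit 0x0)) (.leaf (nat_lit 0x0))) (.node 1 (.leaf (nat_lit 0x0)) (.leaf (nat_lit 0x0)))) (.node 2 (.node 1 (.leaf (nat_lit 0x0)) (.leaf (nat_lit 0x0))) (.node 1 (.leaf (nat_lit 0x0)) (.leaf (nat_lit 0x0))))) (.node 4 (.node 2 (.node 1 (.leaf (nat_lit 0x0))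 (.leaf (nat_lit 0x0))) (.node 1 (.leaf (nat_lit 0x0)) (.leaf (nat_lit 0x0)))) (.node 2 (.node 1 (.leaf (nat_lit 0x0)) (.leaf (nat_lit 0x0))) (.node 1 (.leaf (nat_lit 0x0)) (.leaf (nat_lit 0x0)))))) (.node 8 (.node 4 (.node 2 (.node 1 (.leaf (nat_lit 0x0)) (.leaf (nat_lit 0x0))) (.node 1 (.leaf (nat_lit 0x0)) (.leaf (nat_lit 0x0)))) (.node 2 (.node 1 (.leaf (nat_lit 0x0)) (.leaf (nat_lit 0x0))) (.node 1 (.leaf (nat_lit 0x0)) (.leaf (nat_lit 0x0))))) (.node 4 (.node 2 (.node 1 (.leaf (nat_lit 0x0)) (.leaf (nat_lit 0x0))) (.node 1 (.leaf (nat_lit 0x0)) (.leaf (nat_lit 0x0)))) (.node 2 (.node 1 (.leaf (nat_lit 0x0)) (.leaf (nat_lit 0x0))) (.node 1 (.leaf (nat_lit 0x0)) (.leaf (nat_lit 0x0))))))))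

noncomputable def lvO3_1 : Tree :=
  .node 64 (.node 32 (.node 16 (.node 8 (.node 4 (.node 2 (.node 1 (.leaf (nat_lit 0x0)) (.leaf (nat_lit 0x0))) (.node 1 (.leaf (nat_lit 0x0)) (.leaf (nat_lit 0x0)))) (.node 2 (.node 1 (.leaf (nat_lit 0x0)) (.leaf (nat_lit 0x0))) (.node 1 (.leaf (nat_lit 0x0)) (.leaf (nat_lit 0x0))))) (.node 4 (.node 2 (.node 1 (.leaf (nat_lit 0x0)) (.leaf (nat_lit 0x0))) (.node 1 (.leaf (nat_lit 0x0)) (.leaf (nat_lit 0x0)))) (.node 2 (.node 1 (.leaf (nat_lit 0x0)) (.leaf (nat_lit 0x0))) (.node 1 (.leaf (nat_lit 0x0)) (.leaf (nat_lit 0x0)))))) (.node 8 (.node 4 (.node 2 (.node 1 (.leaf (nat_lit 0x0)) (.leaf (nat_lit 0x0))) (.node 1 (.leaf (nat_lit 0x0)) (.leaf (nat_lit 0x0)))) (.node 2 (.node 1 (.leaf (nat_lit 0x0)) (.leaf (nat_lit 0x0))) (.node 1 (.leaf (nat_lit 0x0)) (.leaf (nat_lit 0x0))))) (.node 4 (.node 2 (.node 1 (.leaf (nat_lit 0x0)) (.leaf (nat_lit 0x0))) (.node 1 (.leaf (nat_lit 0x0))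 (.leaf (nat_lit 0x0)))) (.node 2 (.node 1 (.leaf (nat_lit 0x0)) (.leaf (nat_lit 0x0))) (.node 1 (.leaf (nat_lit 0x0)) (.leaf (nat_lit 0x0))))))) (.node 16 (.node 8 (.node 4 (.node 2 (.node 1 (.leaf (nat_lit 0x0)) (.leaf (nat_lit 0x0))) (.node 1 (.leaf (nat_lit 0x0)) (.leaf (nat_lit 0x0)))) (.node 2 (.node 1 (.leaf (nat_lit 0x0)) (.leaf (nat_lit 0x0))) (.node 1 (.leaf (nat_lit 0x0)) (.leaf (nat_lit 0x0))))) (.node 4 (.node 2 (.node 1 (.leaf (nat_lit 0x0)) (.leaf (nat_lit 0x0))) (.node 1 (.leaf (nat_lit 0x0)) (.leaf (nat_lit 0x0)))) (.node 2 (.node 1 (.leaf (nat_lit 0x0)) (.leaf (nat_lit 0x0))) (.node 1 (.leaf (nat_lit 0x0)) (.leaf (nat_lit 0x0)))))) (.node 8 (.node 4 (.node 2 (.node 1 (.leaf (nat_lit 0x0)) (.leaf (nat_lit 0x0))) (.node 1 (.leaf (nat_lit 0x0)) (.leaf (nat_lit 0x0)))) (.node 2 (.node 1 (.leaf (nat_lit 0x0)) (.leaf (nat_lit 0x0))) (.node 1 (.leaf (nat_lit 0x0)) (.leaf (nat_lit 0x0))))) (.node 4 (.node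 2 (.node 1 (.leaf (nat_lit 0x0)) (.leaf (nat_lit 0x0))) (.node 1 (.leaf (nat_lit 0x0)) (.leaf (nat_lit 0x0)))) (.node 2 (.node 1 (.leaf (nat_lit 0x0)) (.leaf (nat_lit 0x0))) (.node 1 (.leaf (nat_lit 0x0)) (.leaf (nat_lit 0x0)))))))) (.node 32 (.node 16 (.node 8 (.node 4 (.node 2 (.node 1 (.leaf (nat_lit 0x0)) (.leaf (nat_lit 0x0))) (.node 1 (.leaf (nat_lit 0x0)) (.leaf (nat_lit 0x0)))) (.node 2 (.node 1 (.leaf (nat_lit 0x0)) (.leaf (nat_lit 0x0))) (.node 1 (.leaf (nat_lit 0x0)) (.leaf (nat_lit 0x0))))) (.node 4 (.node 2 (.node 1 (.leaf (nat_lit 0x0)) (.leaf (nat_lit 0x0))) (.node 1 (.leaf (nat_lit 0x0)) (.leaf (nat_lit 0x0)))) (.node 2 (.node 1 (.leaf (nat_lit 0x0)) (.leaf (nat_lit 0x0))) (.node 1 (.leaf (nat_lit 0x0)) (.leaf (nat_lit 0x0)))))) (.node 8 (.node 4 (.node 2 (.node 1 (.leaf (nat_lit 0x0)) (.leaf (nat_lit 0x0))) (.node 1 (.leaf (nat_lit 0x0)) (.leaf (nat_lit 0x0)))) (.node 2 (.node 1 (.leaf (nat_lit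 0x0)) (.leaf (nat_lit 0x0))) (.node 1 (.leaf (nat_lit 0x0)) (.leaf (nat_lit 0x0))))) (.node 4 (.node 2 (.node 1 (.leaf (nat_lit 0x0)) (.leaf (nat_lit 0x0))) (.node 1 (.leaf (nat_lit 0x0)) (.leaf (nat_lit 0x0)))) (.node 2 (.node 1 (.leaf (nat_lit 0x0)) (.leaf (nat_lit 0x0))) (.node 1 (.leaf (nat_lit 0x0)) (.leaf (nat_lit 0x0))))))) (.node 16 (.node 8 (.node 4 (.node 2 (.node 1 (.leaf (nat_lit 0x0)) (.leaf (nat_lit 0x0))) (.node 1 (.leaf (nat_lit 0x0)) (.leaf (nat_lit 0x0)))) (.node 2 (.node 1 (.leaf (nat_lit 0x0)) (.leaf (nat_lit 0x0))) (.node 1 (.leaf (nat_lit 0x0)) (.leaf (nat_lit 0x0))))) (.node 4 (.node 2 (.node 1 (.leaf (nat_lit 0x0)) (.leaf (nat_lit 0x0))) (.node 1 (.leaf (nat_lit 0x0)) (.leaf (nat_lit 0x0)))) (.node 2 (.node 1 (.leaf (nat_lit 0x0)) (.leaf (nat_lit 0x0))) (.node 1 (.leaf (nat_lit 0x0)) (.leaf (nat_lit 0x0)))))) (.node 8 (.node 4 (.node 2 (.node 1 (.leaf (nat_lit 0x0)) (.leaf (nat_lit 0x0)))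 (.node 1 (.leaf (nat_lit 0x0)) (.leaf (nat_lit 0x0)))) (.node 2 (.node 1 (.leaf (nat_lit 0x0)) (.leaf (nat_lit 0x0))) (.node 1 (.leaf (nat_lit 0x0)) (.leaf (nat_lit 0x0))))) (.node 4 (.node 2 (.node 1 (.leaf (nat_lit 0x0)) (.leaf (nat_lit 0x0))) (.node 1 (.leaf (nat_lit 0x0)) (.leaf (nat_lit 0x0)))) (.node 2 (.node 1 (.leaf (nat_lit 0x0)) (.leaf (nat_lit 0x0))) (.node 1 (.leaf (nat_lit 0x0)) (.leaf (nat_lit 0x0))))))))

noncomputable def lvO3_2 : Tree :=
  .node 64 (.node 32 (.node 16 (.node 8 (.node 4 (.node 2 (.node 1 (.leaf (nat_lit 0x0)) (.leaf (nat_lit 0x0))) (.node 1 (.leaf (nat_lit 0x0)) (.leaf (nat_lit 0x0)))) (.node 2 (.node 1 (.leaf (nat_lit 0x0)) (.leaf (nat_lit 0x0))) (.node 1 (.leaf (nat_lit 0x0)) (.leaf (nat_lit 0x0))))) (.node 4 (.node 2 (.node 1 (.leaf (nat_lit 0x0)) (.leaf (nat_lit 0x0))) (.node 1 (.leaf (nat_lit 0x0)) (.leaf (nat_lit 0x0)))) (.node 2 (.node 1 (.leaf (nat_lit 0x0)) (.leaf (nat_lit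 0x0))) (.node 1 (.leaf (nat_lit 0x0)) (.leaf (nat_lit 0x0)))))) (.node 8 (.node 4 (.node 2 (.node 1 (.leaf (nat_lit 0x0)) (.leaf (nat_lit 0x0))) (.node 1 (.leaf (nat_lit 0x0)) (.leaf (nat_lit 0x0)))) (.node 2 (.node 1 (.leaf (nat_lit 0x0)) (.leaf (nat_lit 0x0))) (.node 1 (.leaf (nat_lit 0x0)) (.leaf (nat_lit 0x0))))) (.node 4 (.node 2 (.node 1 (.leaf (nat_lit 0x0)) (.leaf (nat_lit 0x0))) (.node 1 (.leaf (nat_lit 0x0)) (.leaf (nat_lit 0x0)))) (.node 2 (.node 1 (.leaf (nat_lit 0x0)) (.leaf (nat_lit 0x0))) (.node 1 (.leaf (nat_lit 0x0)) (.leaf (nat_lit 0x0))))))) (.node 16 (.node 8 (.node 4 (.node 2 (.node 1 (.leaf (nat_lit 0x0)) (.leaf (nat_lit 0x0))) (.node 1 (.leaf (nat_lit 0x0)) (.leaf (nat_lit 0x0)))) (.node 2 (.node 1 (.leaf (nat_lit 0x0)) (.leaf (nat_lit 0x0))) (.node 1 (.leaf (nat_lit 0x0)) (.leaf (nat_lit 0x0))))) (.node 4 (.node 2 (.node 1 (.leaf (nat_lit 0x0)) (.leaf (nat_lit 0x0))) (.node 1 (.leaf (nat_lit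 0x0)) (.leaf (nat_lit 0x0)))) (.node 2 (.node 1 (.leaf (nat_lit 0x0)) (.leaf (nat_lit 0x0))) (.node 1 (.leaf (nat_lit 0x0)) (.leaf (nat_lit 0x0)))))) (.node 8 (.node 4 (.node 2 (.node 1 (.leaf (nat_lit 0x0)) (.leaf (nat_lit 0x0))) (.node 1 (.leaf (nat_lit 0x0)) (.leaf (nat_lit 0x0)))) (.node 2 (.node 1 (.leaf (nat_lit 0x0)) (.leaf (nat_lit 0x0))) (.node 1 (.leaf (nat_lit 0x0)) (.leaf (nat_lit 0x0))))) (.node 4 (.node 2 (.node 1 (.leaf (nat_lit 0x0)) (.leaf (nat_lit 0x0))) (.node 1 (.leaf (nat_lit 0x0)) (.leaf (nat_lit 0x0)))) (.node 2 (.node 1 (.leaf (nat_lit 0x0)) (.leaf (nat_lit 0x0))) (.node 1 (.leaf (nat_lit 0x0)) (.leaf (nat_lit 0x0)))))))) (.node 32 (.node 16 (.node 8 (.node 4 (.node 2 (.node 1 (.leaf (nat_lit 0x0)) (.leaf (nat_lit 0x0))) (.node 1 (.leaf (nat_lit 0x0)) (.leaf (nat_lit 0x0)))) (.node 2 (.node 1 (.leaf (nat_lit 0x0)) (.leaf (nat_lit 0x0))) (.node 1 (.leaf (nat_lit 0x0)) (.leaf (nat_lit 0x0)))))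 (.node 4 (.node 2 (.node 1 (.leaf (nat_lit 0x0)) (.leaf (nat_lit 0x0))) (.node 1 (.leaf (nat_lit 0x0)) (.leaf (nat_lit 0x0)))) (.node 2 (.node 1 (.leaf (nat_lit 0x0)) (.leaf (nat_lit 0x0))) (.node 1 (.leaf (nat_lit 0x0)) (.leaf (nat_lit 0x0)))))) (.node 8 (.node 4 (.node 2 (.node 1 (.leaf (nat_lit 0x0)) (.leaf (nat_lit 0x0))) (.node 1 (.leaf (nat_lit 0x0)) (.leaf (nat_lit 0x0)))) (.node 2 (.node 1 (.leaf (nat_lit 0x0)) (.leaf (nat_lit 0x0))) (.node 1 (.leaf (nat_lit 0x0)) (.leaf (nat_lit 0x0))))) (.node 4 (.node 2 (.node 1 (.leaf (nat_lit 0x0)) (.leaf (nat_lit 0x0))) (.node 1 (.leaf (nat_lit 0x0)) (.leaf (nat_lit 0x0)))) (.node 2 (.node 1 (.leaf (nat_lit 0x0)) (.leaf (nat_lit 0x0))) (.node 1 (.leaf (nat_lit 0x0)) (.leaf (nat_lit 0x0))))))) (.node 16 (.node 8 (.node 4 (.node 2 (.node 1 (.leaf (nat_lit 0x0)) (.leaf (nat_lit 0x0))) (.node 1 (.leaf (nat_lit 0x0)) (.leaf (nat_lit 0x0)))) (.node 2 (.node 1 (.leaf (nat_lit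 0x0)) (.leaf (nat_lit 0x0))) (.node 1 (.leaf (nat_lit 0x0)) (.leaf (nat_lit 0x0))))) (.node 4 (.node 2 (.node 1 (.leaf (nat_lit 0x0)) (.leaf (nat_lit 0x0))) (.node 1 (.leaf (nat_lit 0x0)) (.leaf (nat_lit 0x0)))) (.node 2 (.node 1 (.leaf (nat_lit 0x0)) (.leaf (nat_lit 0x0))) (.node 1 (.leaf (nat_lit 0x0)) (.leaf (nat_lit 0x0)))))) (.node 8 (.node 4 (.node 2 (.node 1 (.leaf (nat_lit 0x0)) (.leaf (nat_lit 0x0))) (.node 1 (.leaf (nat_lit 0x0)) (.leaf (nat_lit 0x0)))) (.node 2 (.node 1 (.leaf (nat_lit 0x0)) (.leaf (nat_lit 0x0))) (.node 1 (.leaf (nat_lit 0x0)) (.leaf (nat_lit 0x0))))) (.node 4 (.node 2 (.node 1 (.leaf (nat_lit 0x0)) (.leaf (nat_lit 0x0))) (.node 1 (.leaf (nat_lit 0x0)) (.leaf (nat_lit 0x0)))) (.node 2 (.node 1 (.leaf (nat_lit 0x0)) (.leaf (nat_lit 0x0))) (.node 1 (.leaf (nat_lit 0x0)) (.leaf (nat_lit 0x0))))))))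

noncomputable def lvO3_3 : Tree :=
  .node 64 (.node 32 (.node 16 (.node 8 (.node 4 (.node 2 (.node 1 (.leaf (nat_lit 0x0)) (.leaf (nat_lit 0x0))) (.node 1 (.leaf (nat_lit 0x0)) (.leaf (nat_lit 0x0)))) (.node 2 (.node 1 (.leaf (nat_lit 0x0)) (.leaf (nat_lit 0x0))) (.node 1 (.leaf (nat_lit 0x0)) (.leaf (nat_lit 0x0))))) (.node 4 (.node 2 (.node 1 (.leaf (nat_lit 0x0)) (.leaf (nat_lit 0x0))) (.node 1 (.leaf (nat_lit 0x0)) (.leaf (nat_lit 0x0)))) (.node 2 (.node 1 (.leaf (nat_lit 0x0)) (.leaf (nat_lit 0x0))) (.node 1 (.leaf (nat_lit 0x0)) (.leaf (nat_lit 0x0)))))) (.node 8 (.node 4 (.node 2 (.node 1 (.leaf (nat_lit 0x0)) (.leaf (nat_lit 0x0))) (.node 1 (.leaf (nat_lit 0x0)) (.leaf (nat_lit 0x0)))) (.node 2 (.node 1 (.leaf (nat_lit 0x0)) (.leaf (nat_lit 0x0))) (.node 1 (.leaf (nat_lit 0x0)) (.leaf (nat_lit 0x0))))) (.node 4 (.node 2 (.node 1 (.leaf (nat_lit 0x0)) (.leaf (nat_lit 0x0))) (.node 1 (.leaf (nat_lit 0x0))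 (.leaf (nat_lit 0x0)))) (.node 2 (.node 1 (.leaf (nat_lit 0x0)) (.leaf (nat_lit 0x0))) (.node 1 (.leaf (nat_lit 0x0)) (.leaf (nat_lit 0x0))))))) (.node 16 (.node 8 (.node 4 (.node 2 (.node 1 (.leaf (nat_lit 0x0)) (.leaf (nat_lit 0x0))) (.node 1 (.leaf (nat_lit 0x0)) (.leaf (nat_lit 0x0)))) (.node 2 (.node 1 (.leaf (nat_lit 0x0)) (.leaf (nat_lit 0x0))) (.node 1 (.leaf (nat_lit 0x0)) (.leaf (nat_lit 0x0))))) (.node 4 (.node 2 (.node 1 (.leaf (nat_lit 0x0)) (.leaf (nat_lit 0x0))) (.node 1 (.leaf (nat_lit 0x0)) (.leaf (nat_lit 0x0)))) (.node 2 (.node 1 (.leaf (nat_lit 0x0)) (.leaf (nat_lit 0x0))) (.node 1 (.leaf (nat_lit 0x0)) (.leaf (nat_lit 0x0)))))) (.node 8 (.node 4 (.node 2 (.node 1 (.leaf (nat_lit 0x0)) (.leaf (nat_lit 0x0))) (.node 1 (.leaf (nat_lit 0x0)) (.leaf (nat_lit 0x0)))) (.node 2 (.node 1 (.leaf (nat_lit 0x0)) (.leaf (nat_lit 0x0))) (.node 1 (.leaf (nat_lit 0x0)) (.leaf (nat_lit 0x0))))) (.node 4 (.node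 2 (.node 1 (.leaf (nat_lit 0x0)) (.leaf (nat_lit 0x0))) (.node 1 (.leaf (nat_lit 0x0)) (.leaf (nat_lit 0x0)))) (.node 2 (.node 1 (.leaf (nat_lit 0x0)) (.leaf (nat_lit 0x0))) (.node 1 (.leaf (nat_lit 0x0)) (.leaf (nat_lit 0x0)))))))) (.node 32 (.node 16 (.node 8 (.node 4 (.node 2 (.node 1 (.leaf (nat_lit 0x0)) (.leaf (nat_lit 0x0))) (.node 1 (.leaf (nat_lit 0x0)) (.leaf (nat_lit 0x0)))) (.node 2 (.node 1 (.leaf (nat_lit 0x0)) (.leaf (nat_lit 0x0))) (.node 1 (.leaf (nat_lit 0x0)) (.leaf (nat_lit 0x0))))) (.node 4 (.node 2 (.node 1 (.leaf (nat_lit 0x0)) (.leaf (nat_lit 0x0))) (.node 1 (.leaf (nat_lit 0x0)) (.leaf (nat_lit 0x0)))) (.node 2 (.node 1 (.leaf (nat_lit 0x0)) (.leaf (nat_lit 0x0))) (.node 1 (.leaf (nat_lit 0x0)) (.leaf (nat_lit 0x0)))))) (.node 8 (.node 4 (.node 2 (.node 1 (.leaf (nat_lit 0x0)) (.leaf (nat_lit 0x0))) (.node 1 (.leaf (nat_lit 0x0)) (.leaf (nat_lit 0x0)))) (.node 2 (.node 1 (.leaf (nat_lit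 0x0)) (.leaf (nat_lit 0x0))) (.node 1 (.leaf (nat_lit 0x0)) (.leaf (nat_lit 0x0))))) (.node 4 (.node 2 (.node 1 (.leaf (nat_lit 0x0)) (.leaf (nat_lit 0x0))) (.node 1 (.leaf (nat_lit 0x0)) (.leaf (nat_lit 0x0)))) (.node 2 (.node 1 (.leaf (nat_lit 0x0)) (.leaf (nat_lit 0x0))) (.node 1 (.leaf (nat_lit 0x0)) (.leaf (nat_lit 0x0))))))) (.node 16 (.node 8 (.node 4 (.node 2 (.node 1 (.leaf (nat_lit 0x0)) (.leaf (nat_lit 0x0))) (.node 1 (.leaf (nat_lit 0x0)) (.leaf (nat_lit 0x0)))) (.node 2 (.node 1 (.leaf (nat_lit 0x0)) (.leaf (nat_lit 0x0))) (.node 1 (.leaf (nat_lit 0x0)) (.leaf (nat_lit 0x0))))) (.node 4 (.node 2 (.node 1 (.leaf (nat_lit 0x0)) (.leaf (nat_lit 0x0))) (.node 1 (.leaf (nat_lit 0x0)) (.leaf (nat_lit 0x0)))) (.node 2 (.node 1 (.leaf (nat_lit 0x0)) (.leaf (nat_lit 0x0))) (.node 1 (.leaf (nat_lit 0x0)) (.leaf (nat_lit 0x0)))))) (.node 8 (.node 4 (.node 2 (.node 1 (.leaf (nat_lit 0x0)) (.leaf (nat_lit 0x0)))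 (.node 1 (.leaf (nat_lit 0x0)) (.leaf (nat_lit 0x0)))) (.node 2 (.node 1 (.leaf (nat_lit 0x0)) (.leaf (nat_lit 0x0))) (.node 1 (.leaf (nat_lit 0x0)) (.leaf (nat_lit 0x0))))) (.node 4 (.node 2 (.node 1 (.leaf (nat_lit 0x0)) (.leaf (nat_lit 0x0))) (.node 1 (.leaf (nat_lit 0x0)) (.leaf (nat_lit 0x0)))) (.node 2 (.node 1 (.leaf (nat_lit 0x0)) (.leaf (nat_lit 0x0))) (.node 1 (.leaf (nat_lit 0x0)) (.leaf (nat_lit 0x0))))))))

noncomputable def lvO3_4 : Tree :=
  .node 64 (.node 32 (.node 16 (.node 8 (.node 4 (.node 2 (.node 1 (.leaf (nat_lit 0x0)) (.leaf (nat_lit 0x0))) (.node 1 (.leaf (nat_lit 0x0)) (.leaf (nat_lit 0x0)))) (.node 2 (.node 1 (.leaf (nat_lit 0x0)) (.leaf (nat_lit 0x0))) (.node 1 (.leaf (nat_lit 0x0)) (.leaf (nat_lit 0x0))))) (.node 4 (.node 2 (.node 1 (.leaf (nat_lit 0x0)) (.leaf (nat_lit 0x0))) (.node 1 (.leaf (nat_lit 0x0)) (.leaf (nat_lit 0x0)))) (.node 2 (.node 1 (.leaf (nat_lit 0x0)) (.leaf (nat_lit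 0x0))) (.node 1 (.leaf (nat_lit 0x0)) (.leaf (nat_lit 0x0)))))) (.node 8 (.node 4 (.node 2 (.node 1 (.leaf (nat_lit 0x0)) (.leaf (nat_lit 0x0))) (.node 1 (.leaf (nat_lit 0x0)) (.leaf (nat_lit 0x0)))) (.node 2 (.node 1 (.leaf (nat_lit 0x0)) (.leaf (nat_lit 0x0))) (.node 1 (.leaf (nat_lit 0x0)) (.leaf (nat_lit 0x0))))) (.node 4 (.node 2 (.node 1 (.leaf (nat_lit 0x0)) (.leaf (nat_lit 0x0))) (.node 1 (.leaf (nat_lit 0x0)) (.leaf (nat_lit 0x0)))) (.node 2 (.node 1 (.leaf (nat_lit 0x0)) (.leaf (nat_lit 0x0))) (.node 1 (.leaf (nat_lit 0x0)) (.leaf (nat_lit 0x0))))))) (.node 16 (.node 8 (.node 4 (.node 2 (.node 1 (.leaf (nat_lit 0x0)) (.leaf (nat_lit 0x0))) (.node 1 (.leaf (nat_lit 0x0)) (.leaf (nat_lit 0x0)))) (.node 2 (.node 1 (.leaf (nat_lit 0x0)) (.leaf (nat_lit 0x0))) (.node 1 (.leaf (nat_lit 0x0)) (.leaf (nat_lit 0x0))))) (.node 4 (.node 2 (.node 1 (.leaf (nat_lit 0x0)) (.leaf (nat_lit 0x0))) (.node 1 (.leaf (nat_lit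 0x0)) (.leaf (nat_lit 0x0)))) (.node 2 (.node 1 (.leaf (nat_lit 0x0)) (.leaf (nat_lit 0x0))) (.node 1 (.leaf (nat_lit 0x0)) (.leaf (nat_lit 0x0)))))) (.node 8 (.node 4 (.node 2 (.node 1 (.leaf (nat_lit 0x0)) (.leaf (nat_lit 0x0))) (.node 1 (.leaf (nat_lit 0x0)) (.leaf (nat_lit 0x0)))) (.node 2 (.node 1 (.leaf (nat_lit 0x0)) (.leaf (nat_lit 0x0))) (.node 1 (.leaf (nat_lit 0x0)) (.leaf (nat_lit 0x0))))) (.node 4 (.node 2 (.node 1 (.leaf (nat_lit 0x0)) (.leaf (nat_lit 0x0))) (.node 1 (.leaf (nat_lit 0x0)) (.leaf (nat_lit 0x0)))) (.node 2 (.node 1 (.leaf (nat_lit 0x0)) (.leaf (nat_lit 0x0))) (.node 1 (.leaf (nat_lit 0x0)) (.leaf (nat_lit 0x0)))))))) (.node 32 (.node 16 (.node 8 (.node 4 (.node 2 (.node 1 (.leaf (nat_lit 0x0)) (.leaf (nat_lit 0x0))) (.node 1 (.leaf (nat_lit 0x0)) (.leaf (nat_lit 0x0)))) (.node 2 (.node 1 (.leaf (nat_lit 0x0)) (.leaf (nat_lit 0x0))) (.node 1 (.leaf (nat_lit 0x0)) (.leaf (nat_lit 0x0)))))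 (.node 4 (.node 2 (.node 1 (.leaf (nat_lit 0x0)) (.leaf (nat_lit 0x0))) (.node 1 (.leaf (nat_lit 0x0)) (.leaf (nat_lit 0x0)))) (.node 2 (.node 1 (.leaf (nat_lit 0x0)) (.leaf (nat_lit 0x0))) (.node 1 (.leaf (nat_lit 0x0)) (.leaf (nat_lit 0x0)))))) (.node 8 (.node 4 (.node 2 (.node 1 (.leaf (nat_lit 0x0)) (.leaf (nat_lit 0x0))) (.node 1 (.leaf (nat_lit 0x0)) (.leaf (nat_lit 0x0)))) (.node 2 (.node 1 (.leaf (nat_lit 0x0)) (.leaf (nat_lit 0x0))) (.node 1 (.leaf (nat_lit 0x0)) (.leaf (nat_lit 0x0))))) (.node 4 (.node 2 (.node 1 (.leaf (nat_lit 0x0)) (.leaf (nat_lit 0x0))) (.node 1 (.leaf (nat_lit 0x0)) (.leaf (nat_lit 0x0)))) (.node 2 (.node 1 (.leaf (nat_lit 0x0)) (.leaf (nat_lit 0x0))) (.node 1 (.leaf (nat_lit 0x0)) (.leaf (nat_lit 0x0))))))) (.node 16 (.node 8 (.node 4 (.node 2 (.node 1 (.leaf (nat_lit 0x0)) (.leaf (nat_lit 0x0))) (.node 1 (.leaf (nat_lit 0x0)) (.leaf (nat_lit 0x0)))) (.node 2 (.node 1 (.leaf (nat_lit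 0x0)) (.leaf (nat_lit 0x0))) (.node 1 (.leaf (nat_lit 0x0)) (.leaf (nat_lit 0x0))))) (.node 4 (.node 2 (.node 1 (.leaf (nat_lit 0x0)) (.leaf (nat_lit 0x0))) (.node 1 (.leaf (nat_lit 0x0)) (.leaf (nat_lit 0x0)))) (.node 2 (.node 1 (.leaf (nat_lit 0x0)) (.leaf (nat_lit 0x0))) (.node 1 (.leaf (nat_lit 0x0)) (.leaf (nat_lit 0x0)))))) (.node 8 (.node 4 (.node 2 (.node 1 (.leaf (nat_lit 0x0)) (.leaf (nat_lit 0x0))) (.node 1 (.leaf (nat_lit 0x0)) (.leaf (nat_lit 0x0)))) (.node 2 (.node 1 (.leaf (nat_lit 0x0)) (.leaf (nat_lit 0x0))) (.node 1 (.leaf (nat_lit 0x0)) (.leaf (nat_lit 0x0))))) (.node 4 (.node 2 (.node 1 (.leaf (nat_lit 0x0)) (.leaf (nat_lit 0x0))) (.node 1 (.leaf (nat_lit 0x0)) (.leaf (nat_lit 0x0)))) (.node 2 (.node 1 (.leaf (nat_lit 0x0)) (.leaf (nat_lit 0x0))) (.node 1 (.leaf (nat_lit 0x0)) (.leaf (nat_lit 0x0))))))))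

noncomputable def lvO3_5 : Tree :=
  .node 64 (.node 32 (.node 16 (.node 8 (.node 4 (.node 2 (.node 1 (.leaf (nat_lit 0x0)) (.leaf (nat_lit 0x0))) (.node 1 (.leaf (nat_lit 0x0)) (.leaf (nat_lit 0x0)))) (.node 2 (.node 1 (.leaf (nat_lit 0x0)) (.leaf (nat_lit 0x0))) (.node 1 (.leaf (nat_lit 0x0)) (.leaf (nat_lit 0x0))))) (.node 4 (.node 2 (.node 1 (.leaf (nat_lit 0x0)) (.leaf (nat_lit 0x0))) (.node 1 (.leaf (nat_lit 0x0)) (.leaf (nat_lit 0x0)))) (.node 2 (.node 1 (.leaf (nat_lit 0x0)) (.leaf (nat_lit 0x0))) (.node 1 (.leaf (nat_lit 0x0)) (.leaf (nat_lit 0x0)))))) (.node 8 (.node 4 (.node 2 (.node 1 (.leaf (nat_lit 0x0)) (.leaf (nat_lit 0x0))) (.node 1 (.leaf (nat_lit 0x0)) (.leaf (nat_lit 0x0)))) (.node 2 (.node 1 (.leaf (nat_lit 0x0)) (.leaf (nat_lit 0x0))) (.node 1 (.leaf (nat_lit 0x0)) (.leaf (nat_lit 0x0))))) (.node 4 (.node 2 (.node 1 (.leaf (nat_lit 0x0)) (.leaf (nat_lit 0x0))) (.node 1 (.leaf (nat_lit 0x0))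 (.leaf (nat_lit 0x0)))) (.node 2 (.node 1 (.leaf (nat_lit 0x0)) (.leaf (nat_lit 0x0))) (.node 1 (.leaf (nat_lit 0x0)) (.leaf (nat_lit 0x0))))))) (.node 16 (.node 8 (.node 4 (.node 2 (.node 1 (.leaf (nat_lit 0x0)) (.leaf (nat_lit 0x0))) (.node 1 (.leaf (nat_lit 0x0)) (.leaf (nat_lit 0x0)))) (.node 2 (.node 1 (.leaf (nat_lit 0x0)) (.leaf (nat_lit 0x0))) (.node 1 (.leaf (nat_lit 0x0)) (.leaf (nat_lit 0x0))))) (.node 4 (.node 2 (.node 1 (.leaf (nat_lit 0x0)) (.leaf (nat_lit 0x0))) (.node 1 (.leaf (nat_lit 0x0)) (.leaf (nat_lit 0x0)))) (.node 2 (.node 1 (.leaf (nat_lit 0x0)) (.leaf (nat_lit 0x0))) (.node 1 (.leaf (nat_lit 0x0)) (.leaf (nat_lit 0x0)))))) (.node 8 (.node 4 (.node 2 (.node 1 (.leaf (nat_lit 0x0)) (.leaf (nat_lit 0x0))) (.node 1 (.leaf (nat_lit 0x0)) (.leaf (nat_lit 0x0)))) (.node 2 (.node 1 (.leaf (nat_lit 0x0)) (.leaf (nat_lit 0x0))) (.node 1 (.leaf (nat_lit 0x0)) (.leaf (nat_lit 0x0))))) (.node 4 (.node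 2 (.node 1 (.leaf (nat_lit 0x0)) (.leaf (nat_lit 0x0))) (.node 1 (.leaf (nat_lit 0x0)) (.leaf (nat_lit 0x0)))) (.node 2 (.node 1 (.leaf (nat_lit 0x0)) (.leaf (nat_lit 0x0))) (.node 1 (.leaf (nat_lit 0x0)) (.leaf (nat_lit 0x0)))))))) (.node 32 (.node 16 (.node 8 (.node 4 (.node 2 (.node 1 (.leaf (nat_lit 0x0)) (.leaf (nat_lit 0x0))) (.node 1 (.leaf (nat_lit 0x0)) (.leaf (nat_lit 0x0)))) (.node 2 (.node 1 (.leaf (nat_lit 0x0)) (.leaf (nat_lit 0x0))) (.node 1 (.leaf (nat_lit 0x0)) (.leaf (nat_lit 0x0))))) (.node 4 (.node 2 (.node 1 (.leaf (nat_lit 0x0)) (.leaf (nat_lit 0x0))) (.node 1 (.leaf (nat_lit 0x0)) (.leaf (nat_lit 0x0)))) (.node 2 (.node 1 (.leaf (nat_lit 0x0)) (.leaf (nat_lit 0x0))) (.node 1 (.leaf (nat_lit 0x0)) (.leaf (nat_lit 0x0)))))) (.node 8 (.node 4 (.node 2 (.node 1 (.leaf (nat_lit 0x0)) (.leaf (nat_lit 0x0))) (.node 1 (.leaf (nat_lit 0x0)) (.leaf (nat_lit 0x0)))) (.node 2 (.node 1 (.leaf (nat_lit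 0x0)) (.leaf (nat_lit 0x0))) (.node 1 (.leaf (nat_lit 0x0)) (.leaf (nat_lit 0x0))))) (.node 4 (.node 2 (.node 1 (.leaf (nat_lit 0x0)) (.leaf (nat_lit 0x0))) (.node 1 (.leaf (nat_lit 0x0)) (.leaf (nat_lit 0x0)))) (.node 2 (.node 1 (.leaf (nat_lit 0x0)) (.leaf (nat_lit 0x0))) (.node 1 (.leaf (nat_lit 0x0)) (.leaf (nat_lit 0x0))))))) (.node 16 (.node 8 (.node 4 (.node 2 (.node 1 (.leaf (nat_lit 0x0)) (.leaf (nat_lit 0x0))) (.node 1 (.leaf (nat_lit 0x0)) (.leaf (nat_lit 0x0)))) (.node 2 (.node 1 (.leaf (nat_lit 0x0)) (.leaf (nat_lit 0x0))) (.node 1 (.leaf (nat_lit 0x0)) (.leaf (nat_lit 0x0))))) (.node 4 (.node 2 (.node 1 (.leaf (nat_lit 0x0)) (.leaf (nat_lit 0x0))) (.node 1 (.leaf (nat_lit 0x0)) (.leaf (nat_lit 0x0)))) (.node 2 (.node 1 (.leaf (nat_lit 0x0)) (.leaf (nat_lit 0x0))) (.node 1 (.leaf (nat_lit 0x0)) (.leaf (nat_lit 0x0)))))) (.node 8 (.node 4 (.node 2 (.node 1 (.leaf (nat_lit 0x0)) (.leaf (nat_lit 0x0)))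 (.node 1 (.leaf (nat_lit 0x0)) (.leaf (nat_lit 0x0)))) (.node 2 (.node 1 (.leaf (nat_lit 0x0)) (.leaf (nat_lit 0x0))) (.node 1 (.leaf (nat_lit 0x0)) (.leaf (nat_lit 0x0))))) (.node 4 (.node 2 (.node 1 (.leaf (nat_lit 0x0)) (.leaf (nat_lit 0x0))) (.node 1 (.leaf (nat_lit 0x0)) (.leaf (nat_lit 0x0)))) (.node 2 (.node 1 (.leaf (nat_lit 0x0)) (.leaf (nat_lit 0x0))) (.node 1 (.leaf (nat_lit 0x0)) (.leaf (nat_lit 0x0))))))))

noncomputable def lvO3_6 : Tree :=
  .node 64 (.node 32 (.node 16 (.node 8 (.node 4 (.node 2 (.node 1 (.leaf (nat_lit 0x0)) (.leaf (nat_lit 0x0))) (.node 1 (.leaf (nat_lit 0x0)) (.leaf (nat_lit 0x0)))) (.node 2 (.node 1 (.leaf (nat_lit 0x0)) (.leaf (nat_lit 0x0))) (.node 1 (.leaf (nat_lit 0x0)) (.leaf (nat_lit 0x0))))) (.node 4 (.node 2 (.node 1 (.leaf (nat_lit 0x0)) (.leaf (nat_lit 0x0))) (.node 1 (.leaf (nat_lit 0x0)) (.leaf (nat_lit 0x0)))) (.node 2 (.node 1 (.leaf (nat_lit 0x0)) (.leaf (nat_lit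 0x0))) (.node 1 (.leaf (nat_lit 0x0)) (.leaf (nat_lit 0x0)))))) (.node 8 (.node 4 (.node 2 (.node 1 (.leaf (nat_lit 0x0)) (.leaf (nat_lit 0x0))) (.node 1 (.leaf (nat_lit 0x0)) (.leaf (nat_lit 0x0)))) (.node 2 (.node 1 (.leaf (nat_lit 0x0)) (.leaf (nat_lit 0x0))) (.node 1 (.leaf (nat_lit 0x0)) (.leaf (nat_lit 0x0))))) (.node 4 (.node 2 (.node 1 (.leaf (nat_lit 0x0)) (.leaf (nat_lit 0x0))) (.node 1 (.leaf (nat_lit 0x0)) (.leaf (nat_lit 0x0)))) (.node 2 (.node 1 (.leaf (nat_lit 0x0)) (.leaf (nat_lit 0x0))) (.node 1 (.leaf (nat_lit 0x0)) (.leaf (nat_lit 0x0))))))) (.node 16 (.node 8 (.node 4 (.node 2 (.node 1 (.leaf (nat_lit 0x0)) (.leaf (nat_lit 0x0))) (.node 1 (.leaf (nat_lit 0x0)) (.leaf (nat_lit 0x0)))) (.node 2 (.node 1 (.leaf (nat_lit 0x0)) (.leaf (nat_lit 0x0))) (.node 1 (.leaf (nat_lit 0x0)) (.leaf (nat_lit 0x0))))) (.node 4 (.node 2 (.node 1 (.leaf (nat_lit 0x0)) (.leaf (nat_lit 0x0))) (.node 1 (.leaf (nat_lit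 0x0)) (.leaf (nat_lit 0x0)))) (.node 2 (.node 1 (.leaf (nat_lit 0x0)) (.leaf (nat_lit 0x0))) (.node 1 (.leaf (nat_lit 0x0)) (.leaf (nat_lit 0x0)))))) (.node 8 (.node 4 (.node 2 (.node 1 (.leaf (nat_lit 0x0)) (.leaf (nat_lit 0x0))) (.node 1 (.leaf (nat_lit 0x0)) (.leaf (nat_lit 0x0)))) (.node 2 (.node 1 (.leaf (nat_lit 0x0)) (.leaf (nat_lit 0x0))) (.node 1 (.leaf (nat_lit 0x0)) (.leaf (nat_lit 0x0))))) (.node 4 (.node 2 (.node 1 (.leaf (nat_lit 0x0)) (.leaf (nat_lit 0x0))) (.node 1 (.leaf (nat_lit 0x0)) (.leaf (nat_lit 0x0)))) (.node 2 (.node 1 (.leaf (nat_lit 0x0)) (.leaf (nat_lit 0x0))) (.node 1 (.leaf (nat_lit 0x0)) (.leaf (nat_lit 0x0)))))))) (.node 32 (.node 16 (.node 8 (.node 4 (.node 2 (.node 1 (.leaf (nat_lit 0x0)) (.leaf (nat_lit 0x0))) (.node 1 (.leaf (nat_lit 0x0)) (.leaf (nat_lit 0x0)))) (.node 2 (.node 1 (.leaf (nat_lit 0x0)) (.leaf (nat_lit 0x0))) (.node 1 (.leaf (nat_lit 0x0)) (.leaf (nat_lit 0x0)))))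 (.node 4 (.node 2 (.node 1 (.leaf (nat_lit 0x0)) (.leaf (nat_lit 0x0))) (.node 1 (.leaf (nat_lit 0x0)) (.leaf (nat_lit 0x0)))) (.node 2 (.node 1 (.leaf (nat_lit 0x0)) (.leaf (nat_lit 0x0))) (.node 1 (.leaf (nat_lit 0x0)) (.leaf (nat_lit 0x0)))))) (.node 8 (.node 4 (.node 2 (.node 1 (.leaf (nat_lit 0x0)) (.leaf (nat_lit 0x0))) (.node 1 (.leaf (nat_lit 0x0)) (.leaf (nat_lit 0x0)))) (.node 2 (.node 1 (.leaf (nat_lit 0x0)) (.leaf (nat_lit 0x0))) (.node 1 (.leaf (nat_lit 0x0)) (.leaf (nat_lit 0x0))))) (.node 4 (.node 2 (.node 1 (.leaf (nat_lit 0x0)) (.leaf (nat_lit 0x0))) (.node 1 (.leaf (nat_lit 0x0)) (.leaf (nat_lit 0x0)))) (.node 2 (.node 1 (.leaf (nat_lit 0x0)) (.leaf (nat_lit 0x0))) (.node 1 (.leaf (nat_lit 0x0)) (.leaf (nat_lit 0x0))))))) (.node 16 (.node 8 (.node 4 (.node 2 (.node 1 (.leaf (nat_lit 0x0)) (.leaf (nat_lit 0x0))) (.node 1 (.leaf (nat_lit 0x0)) (.leaf (nat_lit 0x0)))) (.node 2 (.node 1 (.leaf (nat_lit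 0x0)) (.leaf (nat_lit 0x0))) (.node 1 (.leaf (nat_lit 0x0)) (.leaf (nat_lit 0x0))))) (.node 4 (.node 2 (.node 1 (.leaf (nat_lit 0x0)) (.leaf (nat_lit 0x0))) (.node 1 (.leaf (nat_lit 0x0)) (.leaf (nat_lit 0x0)))) (.node 2 (.node 1 (.leaf (nat_lit 0x0)) (.leaf (nat_lit 0x0))) (.node 1 (.leaf (nat_lit 0x0)) (.leaf (nat_lit 0x0)))))) (.node 8 (.node 4 (.node 2 (.node 1 (.leaf (nat_lit 0x0)) (.leaf (nat_lit 0x0))) (.node 1 (.leaf (nat_lit 0x0)) (.leaf (nat_lit 0x0)))) (.node 2 (.node 1 (.leaf (nat_lit 0x0)) (.leaf (nat_lit 0x0))) (.node 1 (.leaf (nat_lit 0x0)) (.leaf (nat_lit 0x0))))) (.node 4 (.node 2 (.node 1 (.leaf (nat_lit 0x0)) (.leaf (nat_lit 0x0))) (.node 1 (.leaf (nat_lit 0x0)) (.leaf (nat_lit 0x0)))) (.node 2 (.node 1 (.leaf (nat_lit 0x0)) (.leaf (nat_lit 0x0))) (.node 1 (.leaf (nat_lit 0x0)) (.leaf (nat_lit 0x0))))))))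

noncomputable def lvO3_7 : Tree :=
  .node 64 (.node 32 (.node 16 (.node 8 (.node 4 (.node 2 (.node 1 (.leaf (nat_lit 0x0)) (.leaf (nat_lit 0x0))) (.node 1 (.leaf (nat_lit 0x0)) (.leaf (nat_lit 0x0)))) (.node 2 (.node 1 (.leaf (nat_lit 0x0)) (.leaf (nat_lit 0x0))) (.node 1 (.leaf (nat_lit 0x0)) (.leaf (nat_lit 0x0))))) (.node 4 (.node 2 (.node 1 (.leaf (nat_lit 0x0)) (.leaf (nat_lit 0x0))) (.node 1 (.leaf (nat_lit 0x0)) (.leaf (nat_lit 0x0)))) (.node 2 (.node 1 (.leaf (nat_lit 0x0)) (.leaf (nat_lit 0x0))) (.node 1 (.leaf (nat_lit 0x0)) (.leaf (nat_lit 0x0)))))) (.node 8 (.node 4 (.node 2 (.node 1 (.leaf (nat_lit 0x0)) (.leaf (nat_lit 0x0))) (.node 1 (.leaf (nat_lit 0x0)) (.leaf (nat_lit 0x0)))) (.node 2 (.node 1 (.leaf (nat_lit 0x0)) (.leaf (nat_lit 0x0))) (.node 1 (.leaf (nat_lit 0x0)) (.leaf (nat_lit 0x0))))) (.node 4 (.node 2 (.node 1 (.leaf (nat_lit 0x0)) (.leaf (nat_lit 0x0))) (.node 1 (.leaf (nat_lit 0x0))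 (.leaf (nat_lit 0x0)))) (.node 2 (.node 1 (.leaf (nat_lit 0x0)) (.leaf (nat_lit 0x0))) (.node 1 (.leaf (nat_lit 0x0)) (.leaf (nat_lit 0x0))))))) (.node 16 (.node 8 (.node 4 (.node 2 (.node 1 (.leaf (nat_lit 0x0)) (.leaf (nat_lit 0x0))) (.node 1 (.leaf (nat_lit 0x0)) (.leaf (nat_lit 0x0)))) (.node 2 (.node 1 (.leaf (nat_lit 0x0)) (.leaf (nat_lit 0x0))) (.node 1 (.leaf (nat_lit 0x0)) (.leaf (nat_lit 0x0))))) (.node 4 (.node 2 (.node 1 (.leaf (nat_lit 0x0)) (.leaf (nat_lit 0x0))) (.node 1 (.leaf (nat_lit 0x0)) (.leaf (nat_lit 0x0)))) (.node 2 (.node 1 (.leaf (nat_lit 0x0)) (.leaf (nat_lit 0x0))) (.node 1 (.leaf (nat_lit 0x0)) (.leaf (nat_lit 0x0)))))) (.node 8 (.node 4 (.node 2 (.node 1 (.leaf (nat_lit 0x0)) (.leaf (nat_lit 0x0))) (.node 1 (.leaf (nat_lit 0x0)) (.leaf (nat_lit 0x0)))) (.node 2 (.node 1 (.leaf (nat_lit 0x0)) (.leaf (nat_lit 0x0))) (.node 1 (.leaf (nat_lit 0x0)) (.leaf (nat_lit 0x0))))) (.node 4 (.node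 2 (.node 1 (.leaf (nat_lit 0x0)) (.leaf (nat_lit 0x0))) (.node 1 (.leaf (nat_lit 0x0)) (.leaf (nat_lit 0x0)))) (.node 2 (.node 1 (.leaf (nat_lit 0x0)) (.leaf (nat_lit 0x0))) (.node 1 (.leaf (nat_lit 0x0)) (.leaf (nat_lit 0x0)))))))) (.node 32 (.node 16 (.node 8 (.node 4 (.node 2 (.node 1 (.leaf (nat_lit 0x0)) (.leaf (nat_lit 0x0))) (.node 1 (.leaf (nat_lit 0x0)) (.leaf (nat_lit 0x0)))) (.node 2 (.node 1 (.leaf (nat_lit 0x0)) (.leaf (nat_lit 0x0))) (.node 1 (.leaf (nat_lit 0x0)) (.leaf (nat_lit 0x0))))) (.node 4 (.node 2 (.node 1 (.leaf (nat_lit 0x0)) (.leaf (nat_lit 0x0))) (.node 1 (.leaf (nat_lit 0x0)) (.leaf (nat_lit 0x0)))) (.node 2 (.node 1 (.leaf (nat_lit 0x0)) (.leaf (nat_lit 0x0))) (.node 1 (.leaf (nat_lit 0x0)) (.leaf (nat_lit 0x0)))))) (.node 8 (.node 4 (.node 2 (.node 1 (.leaf (nat_lit 0x0)) (.leaf (nat_lit 0x0))) (.node 1 (.leaf (nat_lit 0x0)) (.leaf (nat_lit 0x0)))) (.node 2 (.node 1 (.leaf (nat_lit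 0x0)) (.leaf (nat_lit 0x0))) (.node 1 (.leaf (nat_lit 0x0)) (.leaf (nat_lit 0x0))))) (.node 4 (.node 2 (.node 1 (.leaf (nat_lit 0x0)) (.leaf (nat_lit 0x0))) (.node 1 (.leaf (nat_lit 0x0)) (.leaf (nat_lit 0x0)))) (.node 2 (.node 1 (.leaf (nat_lit 0x0)) (.leaf (nat_lit 0x0))) (.node 1 (.leaf (nat_lit 0x0)) (.leaf (nat_lit 0x0))))))) (.node 16 (.node 8 (.node 4 (.node 2 (.node 1 (.leaf (nat_lit 0x0)) (.leaf (nat_lit 0x0))) (.node 1 (.leaf (nat_lit 0x0)) (.leaf (nat_lit 0x0)))) (.node 2 (.node 1 (.leaf (nat_lit 0x0)) (.leaf (nat_lit 0x0))) (.node 1 (.leaf (nat_lit 0x0)) (.leaf (nat_lit 0x0))))) (.node 4 (.node 2 (.node 1 (.leaf (nat_lit 0x0)) (.leaf (nat_lit 0x0))) (.node 1 (.leaf (nat_lit 0x0)) (.leaf (nat_lit 0x0)))) (.node 2 (.node 1 (.leaf (nat_lit 0x0)) (.leaf (nat_lit 0x0))) (.node 1 (.leaf (nat_lit 0x0)) (.leaf (nat_lit 0x0)))))) (.node 8 (.node 4 (.node 2 (.node 1 (.leaf (nat_lit 0x0)) (.leaf (nat_lit 0x0)))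 (.node 1 (.leaf (nat_lit 0x0)) (.leaf (nat_lit 0x0)))) (.node 2 (.node 1 (.leaf (nat_lit 0x0)) (.leaf (nat_lit 0x0))) (.node 1 (.leaf (nat_lit 0x0)) (.leaf (nat_lit 0x0))))) (.node 4 (.node 2 (.node 1 (.leaf (nat_lit 0x0)) (.leaf (nat_lit 0x0))) (.node 1 (.leaf (nat_lit 0x0)) (.leaf (nat_lit 0x0)))) (.node 2 (.node 1 (.leaf (nat_lit 0x0)) (.leaf (nat_lit 0x0))) (.node 1 (.leaf (nat_lit 0x0)) (.leaf (nat_lit 0x0))))))))

noncomputable def lvO3_8 : Tree :=
  .node 64 (.node 32 (.node 16 (.node 8 (.node 4 (.node 2 (.node 1 (.leaf (nat_lit 0x0)) (.leaf (nat_lit 0x0))) (.node 1 (.leaf (nat_lit 0x0)) (.leaf (nat_lit 0x0)))) (.node 2 (.node 1 (.leaf (nat_lit 0x0)) (.leaf (nat_lit 0x0))) (.node 1 (.leaf (nat_lit 0x0)) (.leaf (nat_lit 0x0))))) (.node 4 (.node 2 (.node 1 (.leaf (nat_lit 0x0)) (.leaf (nat_lit 0x0))) (.node 1 (.leaf (nat_lit 0x0)) (.leaf (nat_lit 0x0)))) (.node 2 (.node 1 (.leaf (nat_lit 0x0)) (.leaf (nat_lit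 0x0))) (.node 1 (.leaf (nat_lit 0x0)) (.leaf (nat_lit 0x0)))))) (.node 8 (.node 4 (.node 2 (.node 1 (.leaf (nat_lit 0x0)) (.leaf (nat_lit 0x0))) (.node 1 (.leaf (nat_lit 0x0)) (.leaf (nat_lit 0x0)))) (.node 2 (.node 1 (.leaf (nat_lit 0x0)) (.leaf (nat_lit 0x0))) (.node 1 (.leaf (nat_lit 0x0)) (.leaf (nat_lit 0x0))))) (.node 4 (.node 2 (.node 1 (.leaf (nat_lit 0x0)) (.leaf (nat_lit 0x0))) (.node 1 (.leaf (nat_lit 0x0)) (.leaf (nat_lit 0x0)))) (.node 2 (.node 1 (.leaf (nat_lit 0x0)) (.leaf (nat_lit 0x0))) (.node 1 (.leaf (nat_lit 0x0)) (.leaf (nat_lit 0x0))))))) (.node 16 (.node 8 (.node 4 (.node 2 (.node 1 (.leaf (nat_lit 0x0)) (.leaf (nat_lit 0x0))) (.node 1 (.leaf (nat_lit 0x0)) (.leaf (nat_lit 0x0)))) (.node 2 (.node 1 (.leaf (nat_lit 0x0)) (.leaf (nat_lit 0x0))) (.node 1 (.leaf (nat_lit 0x0)) (.leaf (nat_lit 0x0))))) (.node 4 (.node 2 (.node 1 (.leaf (nat_lit 0x0)) (.leaf (nat_lit 0x0))) (.node 1 (.leaf (nat_lit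 0x0)) (.leaf (nat_lit 0x0)))) (.node 2 (.node 1 (.leaf (nat_lit 0x0)) (.leaf (nat_lit 0x0))) (.node 1 (.leaf (nat_lit 0x0)) (.leaf (nat_lit 0x0)))))) (.node 8 (.node 4 (.node 2 (.node 1 (.leaf (nat_lit 0x0)) (.leaf (nat_lit 0x0))) (.node 1 (.leaf (nat_lit 0x0)) (.leaf (nat_lit 0x0)))) (.node 2 (.node 1 (.leaf (nat_lit 0x0)) (.leaf (nat_lit 0x0))) (.node 1 (.leaf (nat_lit 0x0)) (.leaf (nat_lit 0x0))))) (.node 4 (.node 2 (.node 1 (.leaf (nat_lit 0x0)) (.leaf (nat_lit 0x0))) (.node 1 (.leaf (nat_lit 0x0)) (.leaf (nat_lit 0x0)))) (.node 2 (.node 1 (.leaf (nat_lit 0x0)) (.leaf (nat_lit 0x0))) (.node 1 (.leaf (nat_lit 0x0)) (.leaf (nat_lit 0x0)))))))) (.node 32 (.node 16 (.node 8 (.node 4 (.node 2 (.node 1 (.leaf (nat_lit 0x0)) (.leaf (nat_lit 0x0))) (.node 1 (.leaf (nat_lit 0x0)) (.leaf (nat_lit 0x0)))) (.node 2 (.node 1 (.leaf (nat_lit 0x0)) (.leaf (nat_lit 0x0))) (.node 1 (.leaf (nat_lit 0x0)) (.leaf (nat_lit 0x0)))))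 (.node 4 (.node 2 (.node 1 (.leaf (nat_lit 0x0)) (.leaf (nat_lit 0x0))) (.node 1 (.leaf (nat_lit 0x0)) (.leaf (nat_lit 0x0)))) (.node 2 (.node 1 (.leaf (nat_lit 0x0)) (.leaf (nat_lit 0x0))) (.node 1 (.leaf (nat_lit 0x0)) (.leaf (nat_lit 0x0)))))) (.node 8 (.node 4 (.node 2 (.node 1 (.leaf (nat_lit 0x0)) (.leaf (nat_lit 0x0))) (.node 1 (.leaf (nat_lit 0x0)) (.leaf (nat_lit 0x0)))) (.node 2 (.node 1 (.leaf (nat_lit 0x0)) (.leaf (nat_lit 0x0))) (.node 1 (.leaf (nat_lit 0x0)) (.leaf (nat_lit 0x0))))) (.node 4 (.node 2 (.node 1 (.leaf (nat_lit 0x0)) (.leaf (nat_lit 0x0))) (.node 1 (.leaf (nat_lit 0x0)) (.leaf (nat_lit 0x0)))) (.node 2 (.node 1 (.leaf (nat_lit 0x0)) (.leaf (nat_lit 0x0))) (.node 1 (.leaf (nat_lit 0x0)) (.leaf (nat_lit 0x0))))))) (.node 16 (.node 8 (.node 4 (.node 2 (.node 1 (.leaf (nat_lit 0x0)) (.leaf (nat_lit 0x0))) (.node 1 (.leaf (nat_lit 0x0)) (.leaf (nat_lit 0x0)))) (.node 2 (.node 1 (.leaf (nat_lit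 0x0)) (.leaf (nat_lit 0x0))) (.node 1 (.leaf (nat_lit 0x0)) (.leaf (nat_lit 0x0))))) (.node 4 (.node 2 (.node 1 (.leaf (nat_lit 0x0)) (.leaf (nat_lit 0x0))) (.node 1 (.leaf (nat_lit 0x0)) (.leaf (nat_lit 0x0)))) (.node 2 (.node 1 (.leaf (nat_lit 0x0)) (.leaf (nat_lit 0x0))) (.node 1 (.leaf (nat_lit 0x0)) (.leaf (nat_lit 0x0)))))) (.node 8 (.node 4 (.node 2 (.node 1 (.leaf (nat_lit 0x0)) (.leaf (nat_lit 0x0))) (.node 1 (.leaf (nat_lit 0x0)) (.leaf (nat_lit 0x0)))) (.node 2 (.node 1 (.leaf (nat_lit 0x0)) (.leaf (nat_lit 0x0))) (.node 1 (.leaf (nat_lit 0x0)) (.leaf (nat_lit 0x0))))) (.node 4 (.node 2 (.node 1 (.leaf (nat_lit 0x0)) (.leaf (nat_lit 0x0))) (.node 1 (.leaf (nat_lit 0x0)) (.leaf (nat_lit 0x0)))) (.node 2 (.node 1 (.leaf (nat_lit 0x0)) (.leaf (nat_lit 0x0))) (.node 1 (.leaf (nat_lit 0x0)) (.leaf (nat_lit 0x0))))))))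

noncomputable def lvO3_9 : Tree :=
  .node 64 (.node 32 (.node 16 (.node 8 (.node 4 (.node 2 (.node 1 (.leaf (nat_lit 0x0)) (.leaf (nat_lit 0x0))) (.node 1 (.leaf (nat_lit 0x0)) (.leaf (nat_lit 0x0)))) (.node 2 (.node 1 (.leaf (nat_lit 0x0)) (.leaf (nat_lit 0x0))) (.node 1 (.leaf (nat_lit 0x0)) (.leaf (nat_lit 0x0))))) (.node 4 (.node 2 (.node 1 (.leaf (nat_lit 0x0)) (.leaf (nat_lit 0x0))) (.node 1 (.leaf (nat_lit 0x0)) (.leaf (nat_lit 0x0)))) (.node 2 (.node 1 (.leaf (nat_lit 0x0)) (.leaf (nat_lit 0x0))) (.node 1 (.leaf (nat_lit 0x0)) (.leaf (nat_lit 0x0)))))) (.node 8 (.node 4 (.node 2 (.node 1 (.leaf (nat_lit 0x0)) (.leaf (nat_lit 0x0))) (.node 1 (.leaf (nat_lit 0x0)) (.leaf (nat_lit 0x0)))) (.node 2 (.node 1 (.leaf (nat_lit 0x0)) (.leaf (nat_lit 0x0))) (.node 1 (.leaf (nat_lit 0x0)) (.leaf (nat_lit 0x0))))) (.node 4 (.node 2 (.node 1 (.leaf (nat_lit 0x0)) (.leaf (nat_lit 0x0))) (.node 1 (.leaf (nat_lit 0x0))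 (.leaf (nat_lit 0x0)))) (.node 2 (.node 1 (.leaf (nat_lit 0x0)) (.leaf (nat_lit 0x0))) (.node 1 (.leaf (nat_lit 0x0)) (.leaf (nat_lit 0x0))))))) (.node 16 (.node 8 (.node 4 (.node 2 (.node 1 (.leaf (nat_lit 0x0)) (.leaf (nat_lit 0x0))) (.node 1 (.leaf (nat_lit 0x0)) (.leaf (nat_lit 0x0)))) (.node 2 (.node 1 (.leaf (nat_lit 0x0)) (.leaf (nat_lit 0x0))) (.node 1 (.leaf (nat_lit 0x0)) (.leaf (nat_lit 0x0))))) (.node 4 (.node 2 (.node 1 (.leaf (nat_lit 0x0)) (.leaf (nat_lit 0x0))) (.node 1 (.leaf (nat_lit 0x0)) (.leaf (nat_lit 0x0)))) (.node 2 (.node 1 (.leaf (nat_lit 0x0)) (.leaf (nat_lit 0x0))) (.node 1 (.leaf (nat_lit 0x0)) (.leaf (nat_lit 0x0)))))) (.node 8 (.node 4 (.node 2 (.node 1 (.leaf (nat_lit 0x0)) (.leaf (nat_lit 0x0))) (.node 1 (.leaf (nat_lit 0x0)) (.leaf (nat_lit 0x0)))) (.node 2 (.node 1 (.leaf (nat_lit 0x0)) (.leaf (nat_lit 0x0))) (.node 1 (.leaf (nat_lit 0x0)) (.leaf (nat_lit 0x0))))) (.node 4 (.node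 2 (.node 1 (.leaf (nat_lit 0x0)) (.leaf (nat_lit 0x0))) (.node 1 (.leaf (nat_lit 0x0)) (.leaf (nat_lit 0x0)))) (.node 2 (.node 1 (.leaf (nat_lit 0x0)) (.leaf (nat_lit 0x0))) (.node 1 (.leaf (nat_lit 0x0)) (.leaf (nat_lit 0x0)))))))) (.node 32 (.node 16 (.node 8 (.node 4 (.node 2 (.node 1 (.leaf (nat_lit 0x0)) (.leaf (nat_lit 0x0))) (.node 1 (.leaf (nat_lit 0x0)) (.leaf (nat_lit 0x0)))) (.node 2 (.node 1 (.leaf (nat_lit 0x0)) (.leaf (nat_lit 0x0))) (.node 1 (.leaf (nat_lit 0x0)) (.leaf (nat_lit 0x0))))) (.node 4 (.node 2 (.node 1 (.leaf (nat_lit 0x0)) (.leaf (nat_lit 0x0))) (.node 1 (.leaf (nat_lit 0x0)) (.leaf (nat_lit 0x0)))) (.node 2 (.node 1 (.leaf (nat_lit 0x0)) (.leaf (nat_lit 0x0))) (.node 1 (.leaf (nat_lit 0x0)) (.leaf (nat_lit 0x0)))))) (.node 8 (.node 4 (.node 2 (.node 1 (.leaf (nat_lit 0x0)) (.leaf (nat_lit 0x0))) (.node 1 (.leaf (nat_lit 0x0)) (.leaf (nat_lit 0x0)))) (.node 2 (.node 1 (.leaf (nat_lit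 0x0)) (.leaf (nat_lit 0x0))) (.node 1 (.leaf (nat_lit 0x0)) (.leaf (nat_lit 0x0))))) (.node 4 (.node 2 (.node 1 (.leaf (nat_lit 0x0)) (.leaf (nat_lit 0x0))) (.node 1 (.leaf (nat_lit 0x0)) (.leaf (nat_lit 0x0)))) (.node 2 (.node 1 (.leaf (nat_lit 0x0)) (.leaf (nat_lit 0x0))) (.node 1 (.leaf (nat_lit 0x0)) (.leaf (nat_lit 0x0))))))) (.node 16 (.node 8 (.node 4 (.node 2 (.node 1 (.leaf (nat_lit 0x0)) (.leaf (nat_lit 0x0))) (.node 1 (.leaf (nat_lit 0x0)) (.leaf (nat_lit 0x0)))) (.node 2 (.node 1 (.leaf (nat_lit 0x0)) (.leaf (nat_lit 0x0))) (.node 1 (.leaf (nat_lit 0x0)) (.leaf (nat_lit 0x0))))) (.node 4 (.node 2 (.node 1 (.leaf (nat_lit 0x0)) (.leaf (nat_lit 0x0))) (.node 1 (.leaf (nat_lit 0x0)) (.leaf (nat_lit 0x0)))) (.node 2 (.node 1 (.leaf (nat_lit 0x0)) (.leaf (nat_lit 0x0))) (.node 1 (.leaf (nat_lit 0x0)) (.leaf (nat_lit 0x0)))))) (.node 8 (.node 4 (.node 2 (.node 1 (.leaf (nat_lit 0x0)) (.leaf (nat_lit 0x0)))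 (.node 1 (.leaf (nat_lit 0x0)) (.leaf (nat_lit 0x0)))) (.node 2 (.node 1 (.leaf (nat_lit 0x0)) (.leaf (nat_lit 0x0))) (.node 1 (.leaf (nat_lit 0x0)) (.leaf (nat_lit 0x0))))) (.node 4 (.node 2 (.node 1 (.leaf (nat_lit 0x0)) (.leaf (nat_lit 0x0))) (.node 1 (.leaf (nat_lit 0x0)) (.leaf (nat_lit 0x0)))) (.node 2 (.node 1 (.leaf (nat_lit 0x0)) (.leaf (nat_lit 0x0))) (.node 1 (.leaf (nat_lit 0x0)) (.leaf (nat_lit 0x0))))))))

noncomputable def lvO3_10 : Tree :=
  .node 64 (.node 32 (.node 16 (.node 8 (.node 4 (.node 2 (.node 1 (.leaf (nat_lit 0x0)) (.leaf (nat_lit 0x0))) (.node 1 (.leaf (nat_lit 0x0)) (.leaf (nat_lit 0x0)))) (.node 2 (.node 1 (.leaf (nat_lit 0x0)) (.leaf (nat_lit 0x0))) (.node 1 (.leaf (nat_lit 0x0)) (.leaf (nat_lit 0x0))))) (.node 4 (.node 2 (.node 1 (.leaf (nat_lit 0x0)) (.leaf (nat_lit 0x0))) (.node 1 (.leaf (nat_lit 0x0)) (.leaf (nat_lit 0x0)))) (.node 2 (.node 1 (.leaf (nat_lit 0x0)) (.leaf (nat_lit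 0x0))) (.node 1 (.leaf (nat_lit 0x0)) (.leaf (nat_lit 0x0)))))) (.node 8 (.node 4 (.node 2 (.node 1 (.leaf (nat_lit 0x0)) (.leaf (nat_lit 0x0))) (.node 1 (.leaf (nat_lit 0x0)) (.leaf (nat_lit 0x0)))) (.node 2 (.node 1 (.leaf (nat_lit 0x0)) (.leaf (nat_lit 0x0))) (.node 1 (.leaf (nat_lit 0x0)) (.leaf (nat_lit 0x0))))) (.node 4 (.node 2 (.node 1 (.leaf (nat_lit 0x0)) (.leaf (nat_lit 0x0))) (.node 1 (.leaf (nat_lit 0x0)) (.leaf (nat_lit 0x0)))) (.node 2 (.node 1 (.leaf (nat_lit 0x0)) (.leaf (nat_lit 0x0))) (.node 1 (.leaf (nat_lit 0x0)) (.leaf (nat_lit 0x0))))))) (.node 16 (.node 8 (.node 4 (.node 2 (.node 1 (.leaf (nat_lit 0x0)) (.leaf (nat_lit 0x0))) (.node 1 (.leaf (nat_lit 0x0)) (.leaf (nat_lit 0x0)))) (.node 2 (.node 1 (.leaf (nat_lit 0x0)) (.leaf (nat_lit 0x0))) (.node 1 (.leaf (nat_lit 0x0)) (.leaf (nat_lit 0x0))))) (.node 4 (.node 2 (.node 1 (.leaf (nat_lit 0x0)) (.leaf (nat_lit 0x0))) (.node 1 (.leaf (nat_lit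 0x0)) (.leaf (nat_lit 0x0)))) (.node 2 (.node 1 (.leaf (nat_lit 0x0)) (.leaf (nat_lit 0x0))) (.node 1 (.leaf (nat_lit 0x0)) (.leaf (nat_lit 0x0)))))) (.node 8 (.node 4 (.node 2 (.node 1 (.leaf (nat_lit 0x0)) (.leaf (nat_lit 0x0))) (.node 1 (.leaf (nat_lit 0x0)) (.leaf (nat_lit 0x0)))) (.node 2 (.node 1 (.leaf (nat_lit 0x0)) (.leaf (nat_lit 0x0))) (.node 1 (.leaf (nat_lit 0x0)) (.leaf (nat_lit 0x0))))) (.node 4 (.node 2 (.node 1 (.leaf (nat_lit 0x0)) (.leaf (nat_lit 0x0))) (.node 1 (.leaf (nat_lit 0x0)) (.leaf (nat_lit 0x0)))) (.node 2 (.node 1 (.leaf (nat_lit 0x0)) (.leaf (nat_lit 0x0))) (.node 1 (.leaf (nat_lit 0x0)) (.leaf (nat_lit 0x0)))))))) (.node 32 (.node 16 (.node 8 (.node 4 (.node 2 (.node 1 (.leaf (nat_lit 0x0)) (.leaf (nat_lit 0x0))) (.node 1 (.leaf (nat_lit 0x0)) (.leaf (nat_lit 0x0)))) (.node 2 (.node 1 (.leaf (nat_lit 0x0)) (.leaf (nat_lit 0x0))) (.node 1 (.leaf (nat_lit 0x0)) (.leaf (nat_lit 0x0)))))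 (.node 4 (.node 2 (.node 1 (.leaf (nat_lit 0x0)) (.leaf (nat_lit 0x0))) (.node 1 (.leaf (nat_lit 0x0)) (.leaf (nat_lit 0x0)))) (.node 2 (.node 1 (.leaf (nat_lit 0x0)) (.leaf (nat_lit 0x0))) (.node 1 (.leaf (nat_lit 0x0)) (.leaf (nat_lit 0x0)))))) (.node 8 (.node 4 (.node 2 (.node 1 (.leaf (nat_lit 0x0)) (.leaf (nat_lit 0x0))) (.node 1 (.leaf (nat_lit 0x0)) (.leaf (nat_lit 0x0)))) (.node 2 (.node 1 (.leaf (nat_lit 0x0)) (.leaf (nat_lit 0x0))) (.node 1 (.leaf (nat_lit 0x0)) (.leaf (nat_lit 0x0))))) (.node 4 (.node 2 (.node 1 (.leaf (nat_lit 0x0)) (.leaf (nat_lit 0x0))) (.node 1 (.leaf (nat_lit 0x0)) (.leaf (nat_lit 0x0)))) (.node 2 (.node 1 (.leaf (nat_lit 0x0)) (.leaf (nat_lit 0x0))) (.node 1 (.leaf (nat_lit 0x0)) (.leaf (nat_lit 0x0))))))) (.node 16 (.node 8 (.node 4 (.node 2 (.node 1 (.leaf (nat_lit 0x0)) (.leaf (nat_lit 0x0))) (.node 1 (.leaf (nat_lit 0x0)) (.leaf (nat_lit 0x0)))) (.node 2 (.node 1 (.leaf (nat_lit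 0x0)) (.leaf (nat_lit 0x0))) (.node 1 (.leaf (nat_lit 0x0)) (.leaf (nat_lit 0x0))))) (.node 4 (.node 2 (.node 1 (.leaf (nat_lit 0x0)) (.leaf (nat_lit 0x0))) (.node 1 (.leaf (nat_lit 0x0)) (.leaf (nat_lit 0x0)))) (.node 2 (.node 1 (.leaf (nat_lit 0x0)) (.leaf (nat_lit 0x0))) (.node 1 (.leaf (nat_lit 0x0)) (.leaf (nat_lit 0x0)))))) (.node 8 (.node 4 (.node 2 (.node 1 (.leaf (nat_lit 0x0)) (.leaf (nat_lit 0x0))) (.node 1 (.leaf (nat_lit 0x0)) (.leaf (nat_lit 0x0)))) (.node 2 (.node 1 (.leaf (nat_lit 0x0)) (.leaf (nat_lit 0x0))) (.node 1 (.leaf (nat_lit 0x0)) (.leaf (nat_lit 0x0))))) (.node 4 (.node 2 (.node 1 (.leaf (nat_lit 0x0)) (.leaf (nat_lit 0x0))) (.node 1 (.leaf (nat_lit 0x0)) (.leaf (nat_lit 0x0)))) (.node 2 (.node 1 (.leaf (nat_lit 0x0)) (.leaf (nat_lit 0x0))) (.node 1 (.leaf (nat_lit 0x0)) (.leaf (nat_lit 0x0))))))))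

noncomputable def lvO3_11 : Tree :=
  .node 64 (.node 32 (.node 16 (.node 8 (.node 4 (.node 2 (.node 1 (.leaf (nat_lit 0x0)) (.leaf (nat_lit 0x0))) (.node 1 (.leaf (nat_lit 0x0)) (.leaf (nat_lit 0x0)))) (.node 2 (.node 1 (.leaf (nat_lit 0x0)) (.leaf (nat_lit 0x0))) (.node 1 (.leaf (nat_lit 0x0)) (.leaf (nat_lit 0x0))))) (.node 4 (.node 2 (.node 1 (.leaf (nat_lit 0x0)) (.leaf (nat_lit 0x0))) (.node 1 (.leaf (nat_lit 0x0)) (.leaf (nat_lit 0x0)))) (.node 2 (.node 1 (.leaf (nat_lit 0x0)) (.leaf (nat_lit 0x0))) (.node 1 (.leaf (nat_lit 0x0)) (.leaf (nat_lit 0x0)))))) (.node 8 (.node 4 (.node 2 (.node 1 (.leaf (nat_lit 0x0)) (.leaf (nat_lit 0x0))) (.node 1 (.leaf (nat_lit 0x0)) (.leaf (nat_lit 0x0)))) (.node 2 (.node 1 (.leaf (nat_lit 0x0)) (.leaf (nat_lit 0x0))) (.node 1 (.leaf (nat_lit 0x0)) (.leaf (nat_lit 0x0))))) (.node 4 (.node 2 (.node 1 (.leaf (nat_lit 0x0)) (.leaf (nat_lit 0x0))) (.node 1 (.leaf (nat_lit 0x0))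 (.leaf (nat_lit 0x0)))) (.node 2 (.node 1 (.leaf (nat_lit 0x0)) (.leaf (nat_lit 0x0))) (.node 1 (.leaf (nat_lit 0x0)) (.leaf (nat_lit 0x0))))))) (.node 16 (.node 8 (.node 4 (.node 2 (.node 1 (.leaf (nat_lit 0x0)) (.leaf (nat_lit 0x0))) (.node 1 (.leaf (nat_lit 0x0)) (.leaf (nat_lit 0x0)))) (.node 2 (.node 1 (.leaf (nat_lit 0x0)) (.leaf (nat_lit 0x0))) (.node 1 (.leaf (nat_lit 0x0)) (.leaf (nat_lit 0x0))))) (.node 4 (.node 2 (.node 1 (.leaf (nat_lit 0x0)) (.leaf (nat_lit 0x0))) (.node 1 (.leaf (nat_lit 0x0)) (.leaf (nat_lit 0x0)))) (.node 2 (.node 1 (.leaf (nat_lit 0x0)) (.leaf (nat_lit 0x0))) (.node 1 (.leaf (nat_lit 0x0)) (.leaf (nat_lit 0x0)))))) (.node 8 (.node 4 (.node 2 (.node 1 (.leaf (nat_lit 0x0)) (.leaf (nat_lit 0x0))) (.node 1 (.leaf (nat_lit 0x0)) (.leaf (nat_lit 0x0)))) (.node 2 (.node 1 (.leaf (nat_lit 0x0)) (.leaf (nat_lit 0x0))) (.node 1 (.leaf (nat_lit 0x0)) (.leaf (nat_lit 0x0))))) (.node 4 (.node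 2 (.node 1 (.leaf (nat_lit 0x0)) (.leaf (nat_lit 0x0))) (.node 1 (.leaf (nat_lit 0x0)) (.leaf (nat_lit 0x0)))) (.node 2 (.node 1 (.leaf (nat_lit 0x0)) (.leaf (nat_lit 0x0))) (.node 1 (.leaf (nat_lit 0x0)) (.leaf (nat_lit 0x0)))))))) (.node 32 (.node 16 (.node 8 (.node 4 (.node 2 (.node 1 (.leaf (nat_lit 0x0)) (.leaf (nat_lit 0x0))) (.node 1 (.leaf (nat_lit 0x0)) (.leaf (nat_lit 0x0)))) (.node 2 (.node 1 (.leaf (nat_lit 0x0)) (.leaf (nat_lit 0x0))) (.node 1 (.leaf (nat_lit 0x0)) (.leaf (nat_lit 0x0))))) (.node 4 (.node 2 (.node 1 (.leaf (nat_lit 0x0)) (.leaf (nat_lit 0x0))) (.node 1 (.leaf (nat_lit 0x0)) (.leaf (nat_lit 0x0)))) (.node 2 (.node 1 (.leaf (nat_lit 0x0)) (.leaf (nat_lit 0x0))) (.node 1 (.leaf (nat_lit 0x0)) (.leaf (nat_lit 0x0)))))) (.node 8 (.node 4 (.node 2 (.node 1 (.leaf (nat_lit 0x0)) (.leaf (nat_lit 0x0))) (.node 1 (.leaf (nat_lit 0x0)) (.leaf (nat_lit 0x0)))) (.node 2 (.node 1 (.leaf (nat_lit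 0x0)) (.leaf (nat_lit 0x0))) (.node 1 (.leaf (nat_lit 0x0)) (.leaf (nat_lit 0x0))))) (.node 4 (.node 2 (.node 1 (.leaf (nat_lit 0x0)) (.leaf (nat_lit 0x0))) (.node 1 (.leaf (nat_lit 0x0)) (.leaf (nat_lit 0x0)))) (.node 2 (.node 1 (.leaf (nat_lit 0x0)) (.leaf (nat_lit 0x0))) (.node 1 (.leaf (nat_lit 0x0)) (.leaf (nat_lit 0x0))))))) (.node 16 (.node 8 (.node 4 (.node 2 (.node 1 (.leaf (nat_lit 0x0)) (.leaf (nat_lit 0x0))) (.node 1 (.leaf (nat_lit 0x0)) (.leaf (nat_lit 0x0)))) (.node 2 (.node 1 (.leaf (nat_lit 0x0)) (.leaf (nat_lit 0x0))) (.node 1 (.leaf (nat_lit 0x0)) (.leaf (nat_lit 0x0))))) (.node 4 (.node 2 (.node 1 (.leaf (nat_lit 0x0)) (.leaf (nat_lit 0x0))) (.node 1 (.leaf (nat_lit 0x0)) (.leaf (nat_lit 0x0)))) (.node 2 (.node 1 (.leaf (nat_lit 0x0)) (.leaf (nat_lit 0x0))) (.node 1 (.leaf (nat_lit 0x0)) (.leaf (nat_lit 0x0)))))) (.node 8 (.node 4 (.node 2 (.node 1 (.leaf (nat_lit 0x0)) (.leaf (nat_lit 0x0)))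 (.node 1 (.leaf (nat_lit 0x0)) (.leaf (nat_lit 0x0)))) (.node 2 (.node 1 (.leaf (nat_lit 0x0)) (.leaf (nat_lit 0x0))) (.node 1 (.leaf (nat_lit 0x0)) (.leaf (nat_lit 0x0))))) (.node 4 (.node 2 (.node 1 (.leaf (nat_lit 0x0)) (.leaf (nat_lit 0x0))) (.node 1 (.leaf (nat_lit 0x0)) (.leaf (nat_lit 0x0)))) (.node 2 (.node 1 (.leaf (nat_lit 0x0)) (.leaf (nat_lit 0x0))) (.node 1 (.leaf (nat_lit 0x0)) (.leaf (nat_lit 0x0))))))))

noncomputable def lvO3_12 : Tree :=
  .node 64 (.node 32 (.node 16 (.node 8 (.node 4 (.node 2 (.node 1 (.leaf (nat_lit 0x0)) (.leaf (nat_lit 0x0))) (.node 1 (.leaf (nat_lit 0x0)) (.leaf (nat_lit 0x0)))) (.node 2 (.node 1 (.leaf (nat_lit 0x0)) (.leaf (nat_lit 0x0))) (.node 1 (.leaf (nat_lit 0x0)) (.leaf (nat_lit 0x0))))) (.node 4 (.node 2 (.node 1 (.leaf (nat_lit 0x0)) (.leaf (nat_lit 0x0))) (.node 1 (.leaf (nat_lit 0x0)) (.leaf (nat_lit 0x0)))) (.node 2 (.node 1 (.leaf (nat_lit 0x0)) (.leaf (nat_lit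 0x0))) (.node 1 (.leaf (nat_lit 0x0)) (.leaf (nat_lit 0x0)))))) (.node 8 (.node 4 (.node 2 (.node 1 (.leaf (nat_lit 0x0)) (.leaf (nat_lit 0x0))) (.node 1 (.leaf (nat_lit 0x0)) (.leaf (nat_lit 0x0)))) (.node 2 (.node 1 (.leaf (nat_lit 0x0)) (.leaf (nat_lit 0x0))) (.node 1 (.leaf (nat_lit 0x0)) (.leaf (nat_lit 0x0))))) (.node 4 (.node 2 (.node 1 (.leaf (nat_lit 0x0)) (.leaf (nat_lit 0x0))) (.node 1 (.leaf (nat_lit 0x0)) (.leaf (nat_lit 0x0)))) (.node 2 (.node 1 (.leaf (nat_lit 0x0)) (.leaf (nat_lit 0x0))) (.node 1 (.leaf (nat_lit 0x0)) (.leaf (nat_lit 0x0))))))) (.node 16 (.node 8 (.node 4 (.node 2 (.node 1 (.leaf (nat_lit 0x0)) (.leaf (nat_lit 0x0))) (.node 1 (.leaf (nat_lit 0x0)) (.leaf (nat_lit 0x0)))) (.node 2 (.node 1 (.leaf (nat_lit 0x0)) (.leaf (nat_lit 0x0))) (.node 1 (.leaf (nat_lit 0x0)) (.leaf (nat_lit 0x0))))) (.node 4 (.node 2 (.node 1 (.leaf (nat_lit 0x0)) (.leaf (nat_lit 0x0))) (.node 1 (.leaf (nat_lit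 0x0)) (.leaf (nat_lit 0x0)))) (.node 2 (.node 1 (.leaf (nat_lit 0x0)) (.leaf (nat_lit 0x0))) (.node 1 (.leaf (nat_lit 0x0)) (.leaf (nat_lit 0x0)))))) (.node 8 (.node 4 (.node 2 (.node 1 (.leaf (nat_lit 0x0)) (.leaf (nat_lit 0x0))) (.node 1 (.leaf (nat_lit 0x0)) (.leaf (nat_lit 0x0)))) (.node 2 (.node 1 (.leaf (nat_lit 0x0)) (.leaf (nat_lit 0x0))) (.node 1 (.leaf (nat_lit 0x0)) (.leaf (nat_lit 0x0))))) (.node 4 (.node 2 (.node 1 (.leaf (nat_lit 0x0)) (.leaf (nat_lit 0x0))) (.node 1 (.leaf (nat_lit 0x0)) (.leaf (nat_lit 0x0)))) (.node 2 (.node 1 (.leaf (nat_lit 0x0)) (.leaf (nat_lit 0x0))) (.node 1 (.leaf (nat_lit 0x0)) (.leaf (nat_lit 0x0)))))))) (.node 32 (.node 16 (.node 8 (.node 4 (.node 2 (.node 1 (.leaf (nat_lit 0x0)) (.leaf (nat_lit 0x0))) (.node 1 (.leaf (nat_lit 0x0)) (.leaf (nat_lit 0x0)))) (.node 2 (.node 1 (.leaf (nat_lit 0x0)) (.leaf (nat_lit 0x0))) (.node 1 (.leaf (nat_lit 0x0)) (.leaf (nat_lit 0x0)))))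 (.node 4 (.node 2 (.node 1 (.leaf (nat_lit 0x0)) (.leaf (nat_lit 0x0))) (.node 1 (.leaf (nat_lit 0x0)) (.leaf (nat_lit 0x0)))) (.node 2 (.node 1 (.leaf (nat_lit 0x0)) (.leaf (nat_lit 0x0))) (.node 1 (.leaf (nat_lit 0x0)) (.leaf (nat_lit 0x0)))))) (.node 8 (.node 4 (.node 2 (.node 1 (.leaf (nat_lit 0x0)) (.leaf (nat_lit 0x0))) (.node 1 (.leaf (nat_lit 0x0)) (.leaf (nat_lit 0x0)))) (.node 2 (.node 1 (.leaf (nat_lit 0x0)) (.leaf (nat_lit 0x0))) (.node 1 (.leaf (nat_lit 0x0)) (.leaf (nat_lit 0x0))))) (.node 4 (.node 2 (.node 1 (.leaf (nat_lit 0x0)) (.leaf (nat_lit 0x0))) (.node 1 (.leaf (nat_lit 0x0)) (.leaf (nat_lit 0x0)))) (.node 2 (.node 1 (.leaf (nat_lit 0x0)) (.leaf (nat_lit 0x0))) (.node 1 (.leaf (nat_lit 0x0)) (.leaf (nat_lit 0x0))))))) (.node 16 (.node 8 (.node 4 (.node 2 (.node 1 (.leaf (nat_lit 0x0)) (.leaf (nat_lit 0x0))) (.node 1 (.leaf (nat_lit 0x0)) (.leaf (nat_lit 0x0)))) (.node 2 (.node 1 (.leaf (nat_lit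 0x0)) (.leaf (nat_lit 0x0))) (.node 1 (.leaf (nat_lit 0x0)) (.leaf (nat_lit 0x0))))) (.node 4 (.node 2 (.node 1 (.leaf (nat_lit 0x0)) (.leaf (nat_lit 0x0))) (.node 1 (.leaf (nat_lit 0x0)) (.leaf (nat_lit 0x0)))) (.node 2 (.node 1 (.leaf (nat_lit 0x0)) (.leaf (nat_lit 0x0))) (.node 1 (.leaf (nat_lit 0x0)) (.leaf (nat_lit 0x0)))))) (.node 8 (.node 4 (.node 2 (.node 1 (.leaf (nat_lit 0x0)) (.leaf (nat_lit 0x0))) (.node 1 (.leaf (nat_lit 0x0)) (.leaf (nat_lit 0x0)))) (.node 2 (.node 1 (.leaf (nat_lit 0x0)) (.leaf (nat_lit 0x0))) (.node 1 (.leaf (nat_lit 0x0)) (.leaf (nat_lit 0x0))))) (.node 4 (.node 2 (.node 1 (.leaf (nat_lit 0x0)) (.leaf (nat_lit 0x0))) (.node 1 (.leaf (nat_lit 0x0)) (.leaf (nat_lit 0x0)))) (.node 2 (.node 1 (.leaf (nat_lit 0x0)) (.leaf (nat_lit 0x0))) (.node 1 (.leaf (nat_lit 0x0)) (.leaf (nat_lit 0x0))))))))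

noncomputable def lvO3_13 : Tree :=
  .node 64 (.node 32 (.node 16 (.node 8 (.node 4 (.node 2 (.node 1 (.leaf (nat_lit 0x0)) (.leaf (nat_lit 0x0))) (.node 1 (.leaf (nat_lit 0x0)) (.leaf (nat_lit 0x0)))) (.node 2 (.node 1 (.leaf (nat_lit 0x0)) (.leaf (nat_lit 0x0))) (.node 1 (.leaf (nat_lit 0x0)) (.leaf (nat_lit 0x0))))) (.node 4 (.node 2 (.node 1 (.leaf (nat_lit 0x0)) (.leaf (nat_lit 0x0))) (.node 1 (.leaf (nat_lit 0x0)) (.leaf (nat_lit 0x0)))) (.node 2 (.node 1 (.leaf (nat_lit 0x0)) (.leaf (nat_lit 0x0))) (.node 1 (.leaf (nat_lit 0x0)) (.leaf (nat_lit 0x0)))))) (.node 8 (.node 4 (.node 2 (.node 1 (.leaf (nat_lit 0x0)) (.leaf (nat_lit 0x0))) (.node 1 (.leaf (nat_lit 0x0)) (.leaf (nat_lit 0x0)))) (.node 2 (.node 1 (.leaf (nat_lit 0x0)) (.leaf (nat_lit 0x0))) (.node 1 (.leaf (nat_lit 0x0)) (.leaf (nat_lit 0x0))))) (.node 4 (.node 2 (.node 1 (.leaf (nat_lit 0x0)) (.leaf (nat_lit 0x0))) (.node 1 (.leaf (nat_lit 0x0))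 (.leaf (nat_lit 0x0)))) (.node 2 (.node 1 (.leaf (nat_lit 0x0)) (.leaf (nat_lit 0x0))) (.node 1 (.leaf (nat_lit 0x0)) (.leaf (nat_lit 0x0))))))) (.node 16 (.node 8 (.node 4 (.node 2 (.node 1 (.leaf (nat_lit 0x0)) (.leaf (nat_lit 0x0))) (.node 1 (.leaf (nat_lit 0x0)) (.leaf (nat_lit 0x0)))) (.node 2 (.node 1 (.leaf (nat_lit 0x0)) (.leaf (nat_lit 0x0))) (.node 1 (.leaf (nat_lit 0x0)) (.leaf (nat_lit 0x0))))) (.node 4 (.node 2 (.node 1 (.leaf (nat_lit 0x0)) (.leaf (nat_lit 0x0))) (.node 1 (.leaf (nat_lit 0x0)) (.leaf (nat_lit 0x0)))) (.node 2 (.node 1 (.leaf (nat_lit 0x0)) (.leaf (nat_lit 0x0))) (.node 1 (.leaf (nat_lit 0x0)) (.leaf (nat_lit 0x0)))))) (.node 8 (.node 4 (.node 2 (.node 1 (.leaf (nat_lit 0x0)) (.leaf (nat_lit 0x0))) (.node 1 (.leaf (nat_lit 0x0)) (.leaf (nat_lit 0x0)))) (.node 2 (.node 1 (.leaf (nat_lit 0x0)) (.leaf (nat_lit 0x0))) (.node 1 (.leaf (nat_lit 0x0)) (.leaf (nat_lit 0x0))))) (.node 4 (.node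 2 (.node 1 (.leaf (nat_lit 0x0)) (.leaf (nat_lit 0x0))) (.node 1 (.leaf (nat_lit 0x0)) (.leaf (nat_lit 0x0)))) (.node 2 (.node 1 (.leaf (nat_lit 0x0)) (.leaf (nat_lit 0x0))) (.node 1 (.leaf (nat_lit 0x0)) (.leaf (nat_lit 0x0)))))))) (.node 32 (.node 16 (.node 8 (.node 4 (.node 2 (.node 1 (.leaf (nat_lit 0x0)) (.leaf (nat_lit 0x0))) (.node 1 (.leaf (nat_lit 0x0)) (.leaf (nat_lit 0x0)))) (.node 2 (.node 1 (.leaf (nat_lit 0x0)) (.leaf (nat_lit 0x0))) (.node 1 (.leaf (nat_lit 0x0)) (.leaf (nat_lit 0x0))))) (.node 4 (.node 2 (.node 1 (.leaf (nat_lit 0x0)) (.leaf (nat_lit 0x0))) (.node 1 (.leaf (nat_lit 0x0)) (.leaf (nat_lit 0x0)))) (.node 2 (.node 1 (.leaf (nat_lit 0x0)) (.leaf (nat_lit 0x0))) (.node 1 (.leaf (nat_lit 0x0)) (.leaf (nat_lit 0x0)))))) (.node 8 (.node 4 (.node 2 (.node 1 (.leaf (nat_lit 0x0)) (.leaf (nat_lit 0x0))) (.node 1 (.leaf (nat_lit 0x0)) (.leaf (nat_lit 0x0)))) (.node 2 (.node 1 (.leaf (nat_lit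 0x0)) (.leaf (nat_lit 0x0))) (.node 1 (.leaf (nat_lit 0x0)) (.leaf (nat_lit 0x0))))) (.node 4 (.node 2 (.node 1 (.leaf (nat_lit 0x0)) (.leaf (nat_lit 0x0))) (.node 1 (.leaf (nat_lit 0x0)) (.leaf (nat_lit 0x0)))) (.node 2 (.node 1 (.leaf (nat_lit 0x0)) (.leaf (nat_lit 0x0))) (.node 1 (.leaf (nat_lit 0x0)) (.leaf (nat_lit 0x0))))))) (.node 16 (.node 8 (.node 4 (.node 2 (.node 1 (.leaf (nat_lit 0x0)) (.leaf (nat_lit 0x0))) (.node 1 (.leaf (nat_lit 0x0)) (.leaf (nat_lit 0x0)))) (.node 2 (.node 1 (.leaf (nat_lit 0x0)) (.leaf (nat_lit 0x0))) (.node 1 (.leaf (nat_lit 0x0)) (.leaf (nat_lit 0x0))))) (.node 4 (.node 2 (.node 1 (.leaf (nat_lit 0x0)) (.leaf (nat_lit 0x0))) (.node 1 (.leaf (nat_lit 0x0)) (.leaf (nat_lit 0x0)))) (.node 2 (.node 1 (.leaf (nat_lit 0x0)) (.leaf (nat_lit 0x0))) (.node 1 (.leaf (nat_lit 0x0)) (.leaf (nat_lit 0x0)))))) (.node 8 (.node 4 (.node 2 (.node 1 (.leaf (nat_lit 0x0)) (.leaf (nat_lit 0x0)))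 (.node 1 (.leaf (nat_lit 0x0)) (.leaf (nat_lit 0x0)))) (.node 2 (.node 1 (.leaf (nat_lit 0x0)) (.leaf (nat_lit 0x0))) (.node 1 (.leaf (nat_lit 0x0)) (.leaf (nat_lit 0x0))))) (.node 4 (.node 2 (.node 1 (.leaf (nat_lit 0x0)) (.leaf (nat_lit 0x0))) (.node 1 (.leaf (nat_lit 0x0)) (.leaf (nat_lit 0x0)))) (.node 2 (.node 1 (.leaf (nat_lit 0x0)) (.leaf (nat_lit 0x0))) (.node 1 (.leaf (nat_lit 0x0)) (.leaf (nat_lit 0x0))))))))

noncomputable def lvO3_14 : Tree :=
  .node 64 (.node 32 (.node 16 (.node 8 (.node 4 (.node 2 (.node 1 (.leaf (nat_lit 0x0)) (.leaf (nat_lit 0x0))) (.node 1 (.leaf (nat_lit 0x0)) (.leaf (nat_lit 0x0)))) (.node 2 (.node 1 (.leaf (nat_lit 0x0)) (.leaf (nat_lit 0x0))) (.node 1 (.leaf (nat_lit 0x0)) (.leaf (nat_lit 0x0))))) (.node 4 (.node 2 (.node 1 (.leaf (nat_lit 0x0)) (.leaf (nat_lit 0x0))) (.node 1 (.leaf (nat_lit 0x0)) (.leaf (nat_lit 0x0)))) (.node 2 (.node 1 (.leaf (nat_lit 0x0)) (.leaf (nat_lit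 0x0))) (.node 1 (.leaf (nat_lit 0x0)) (.leaf (nat_lit 0x0)))))) (.node 8 (.node 4 (.node 2 (.node 1 (.leaf (nat_lit 0x0)) (.leaf (nat_lit 0x0))) (.node 1 (.leaf (nat_lit 0x0)) (.leaf (nat_lit 0x0)))) (.node 2 (.node 1 (.leaf (nat_lit 0x0)) (.leaf (nat_lit 0x0))) (.node 1 (.leaf (nat_lit 0x0)) (.leaf (nat_lit 0x0))))) (.node 4 (.node 2 (.node 1 (.leaf (nat_lit 0x0)) (.leaf (nat_lit 0x0))) (.node 1 (.leaf (nat_lit 0x0)) (.leaf (nat_lit 0x0)))) (.node 2 (.node 1 (.leaf (nat_lit 0x0)) (.leaf (nat_lit 0x0))) (.node 1 (.leaf (nat_lit 0x0)) (.leaf (nat_lit 0x0))))))) (.node 16 (.node 8 (.node 4 (.node 2 (.node 1 (.leaf (nat_lit 0x0)) (.leaf (nat_lit 0x0))) (.node 1 (.leaf (nat_lit 0x0)) (.leaf (nat_lit 0x0)))) (.node 2 (.node 1 (.leaf (nat_lit 0x0)) (.leaf (nat_lit 0x0))) (.node 1 (.leaf (nat_lit 0x0)) (.leaf (nat_lit 0x0))))) (.node 4 (.node 2 (.node 1 (.leaf (nat_lit 0x0)) (.leaf (nat_lit 0x0))) (.node 1 (.leaf (nat_lit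 0x0)) (.leaf (nat_lit 0x0)))) (.node 2 (.node 1 (.leaf (nat_lit 0x0)) (.leaf (nat_lit 0x0))) (.node 1 (.leaf (nat_lit 0x0)) (.leaf (nat_lit 0x0)))))) (.node 8 (.node 4 (.node 2 (.node 1 (.leaf (nat_lit 0x0)) (.leaf (nat_lit 0x0))) (.node 1 (.leaf (nat_lit 0x0)) (.leaf (nat_lit 0x0)))) (.node 2 (.node 1 (.leaf (nat_lit 0x0)) (.leaf (nat_lit 0x0))) (.node 1 (.leaf (nat_lit 0x0)) (.leaf (nat_lit 0x0))))) (.node 4 (.node 2 (.node 1 (.leaf (nat_lit 0x0)) (.leaf (nat_lit 0x0))) (.node 1 (.leaf (nat_lit 0x0)) (.leaf (nat_lit 0x0)))) (.node 2 (.node 1 (.leaf (nat_lit 0x0)) (.leaf (nat_lit 0x0))) (.node 1 (.leaf (nat_lit 0x0)) (.leaf (nat_lit 0x0)))))))) (.node 32 (.node 16 (.node 8 (.node 4 (.node 2 (.node 1 (.leaf (nat_lit 0x0)) (.leaf (nat_lit 0x0))) (.node 1 (.leaf (nat_lit 0x0)) (.leaf (nat_lit 0x0)))) (.node 2 (.node 1 (.leaf (nat_lit 0x0)) (.leaf (nat_lit 0x0))) (.node 1 (.leaf (nat_lit 0x0)) (.leaf (nat_lit 0x0)))))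 (.node 4 (.node 2 (.node 1 (.leaf (nat_lit 0x0)) (.leaf (nat_lit 0x0))) (.node 1 (.leaf (nat_lit 0x0)) (.leaf (nat_lit 0x0)))) (.node 2 (.node 1 (.leaf (nat_lit 0x0)) (.leaf (nat_lit 0x0))) (.node 1 (.leaf (nat_lit 0x0)) (.leaf (nat_lit 0x0)))))) (.node 8 (.node 4 (.node 2 (.node 1 (.leaf (nat_lit 0x0)) (.leaf (nat_lit 0x0))) (.node 1 (.leaf (nat_lit 0x0)) (.leaf (nat_lit 0x0)))) (.node 2 (.node 1 (.leaf (nat_lit 0x0)) (.leaf (nat_lit 0x0))) (.node 1 (.leaf (nat_lit 0x0)) (.leaf (nat_lit 0x0))))) (.node 4 (.node 2 (.node 1 (.leaf (nat_lit 0x0)) (.leaf (nat_lit 0x0))) (.node 1 (.leaf (nat_lit 0x0)) (.leaf (nat_lit 0x0)))) (.node 2 (.node 1 (.leaf (nat_lit 0x0)) (.leaf (nat_lit 0x0))) (.node 1 (.leaf (nat_lit 0x0)) (.leaf (nat_lit 0x0))))))) (.node 16 (.node 8 (.node 4 (.node 2 (.node 1 (.leaf (nat_lit 0x0)) (.leaf (nat_lit 0x0))) (.node 1 (.leaf (nat_lit 0x0)) (.leaf (nat_lit 0x0)))) (.node 2 (.node 1 (.leaf (nat_lit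 0x0)) (.leaf (nat_lit 0x0))) (.node 1 (.leaf (nat_lit 0x0)) (.leaf (nat_lit 0x0))))) (.node 4 (.node 2 (.node 1 (.leaf (nat_lit 0x0)) (.leaf (nat_lit 0x0))) (.node 1 (.leaf (nat_lit 0x0)) (.leaf (nat_lit 0x0)))) (.node 2 (.node 1 (.leaf (nat_lit 0x0)) (.leaf (nat_lit 0x0))) (.node 1 (.leaf (nat_lit 0x0)) (.leaf (nat_lit 0x0)))))) (.node 8 (.node 4 (.node 2 (.node 1 (.leaf (nat_lit 0x0)) (.leaf (nat_lit 0x0))) (.node 1 (.leaf (nat_lit 0x0)) (.leaf (nat_lit 0x0)))) (.node 2 (.node 1 (.leaf (nat_lit 0x0)) (.leaf (nat_lit 0x0))) (.node 1 (.leaf (nat_lit 0x0)) (.leaf (nat_lit 0x0))))) (.node 4 (.node 2 (.node 1 (.leaf (nat_lit 0x0)) (.leaf (nat_lit 0x0))) (.node 1 (.leaf (nat_lit 0x0)) (.leaf (nat_lit 0x0)))) (.node 2 (.node 1 (.leaf (nat_lit 0x0)) (.leaf (nat_lit 0x0))) (.node 1 (.leaf (nat_lit 0x0)) (.leaf (nat_lit 0x0))))))))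

noncomputable def lvO3_15 : Tree :=
  .node 64 (.node 32 (.node 16 (.node 8 (.node 4 (.node 2 (.node 1 (.leaf (nat_lit 0x0)) (.leaf (nat_lit 0x0))) (.node 1 (.leaf (nat_lit 0x0)) (.leaf (nat_lit 0x0)))) (.node 2 (.node 1 (.leaf (nat_lit 0x0)) (.leaf (nat_lit 0x0))) (.node 1 (.leaf (nat_lit 0x0)) (.leaf (nat_lit 0x0))))) (.node 4 (.node 2 (.node 1 (.leaf (nat_lit 0x0)) (.leaf (nat_lit 0x0))) (.node 1 (.leaf (nat_lit 0x0)) (.leaf (nat_lit 0x0)))) (.node 2 (.node 1 (.leaf (nat_lit 0x0)) (.leaf (nat_lit 0x0))) (.node 1 (.leaf (nat_lit 0x0)) (.leaf (nat_lit 0x0)))))) (.node 8 (.node 4 (.node 2 (.node 1 (.leaf (nat_lit 0x0)) (.leaf (nat_lit 0x0))) (.node 1 (.leaf (nat_lit 0x0)) (.leaf (nat_lit 0x0)))) (.node 2 (.node 1 (.leaf (nat_lit 0x0)) (.leaf (nat_lit 0x0))) (.node 1 (.leaf (nat_lit 0x0)) (.leaf (nat_lit 0x0))))) (.node 4 (.node 2 (.node 1 (.leaf (nat_lit 0x0)) (.leaf (nat_lit 0x0))) (.node 1 (.leaf (nat_lit 0x0))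 (.leaf (nat_lit 0x0)))) (.node 2 (.node 1 (.leaf (nat_lit 0x0)) (.leaf (nat_lit 0x0))) (.node 1 (.leaf (nat_lit 0x0)) (.leaf (nat_lit 0x0))))))) (.node 16 (.node 8 (.node 4 (.node 2 (.node 1 (.leaf (nat_lit 0x0)) (.leaf (nat_lit 0x0))) (.node 1 (.leaf (nat_lit 0x0)) (.leaf (nat_lit 0x0)))) (.node 2 (.node 1 (.leaf (nat_lit 0x0)) (.leaf (nat_lit 0x0))) (.node 1 (.leaf (nat_lit 0x0)) (.leaf (nat_lit 0x0))))) (.node 4 (.node 2 (.node 1 (.leaf (nat_lit 0x0)) (.leaf (nat_lit 0x0))) (.node 1 (.leaf (nat_lit 0x0)) (.leaf (nat_lit 0x0)))) (.node 2 (.node 1 (.leaf (nat_lit 0x0)) (.leaf (nat_lit 0x0))) (.node 1 (.leaf (nat_lit 0x0)) (.leaf (nat_lit 0x0)))))) (.node 8 (.node 4 (.node 2 (.node 1 (.leaf (nat_lit 0x0)) (.leaf (nat_lit 0x0))) (.node 1 (.leaf (nat_lit 0x0)) (.leaf (nat_lit 0x0)))) (.node 2 (.node 1 (.leaf (nat_lit 0x0)) (.leaf (nat_lit 0x0))) (.node 1 (.leaf (nat_lit 0x0)) (.leaf (nat_lit 0x0))))) (.node 4 (.node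 2 (.node 1 (.leaf (nat_lit 0x0)) (.leaf (nat_lit 0x0))) (.node 1 (.leaf (nat_lit 0x0)) (.leaf (nat_lit 0x0)))) (.node 2 (.node 1 (.leaf (nat_lit 0x0)) (.leaf (nat_lit 0x0))) (.node 1 (.leaf (nat_lit 0x0)) (.leaf (nat_lit 0x0)))))))) (.node 32 (.node 16 (.node 8 (.node 4 (.node 2 (.node 1 (.leaf (nat_lit 0x0)) (.leaf (nat_lit 0x0))) (.node 1 (.leaf (nat_lit 0x0)) (.leaf (nat_lit 0x0)))) (.node 2 (.node 1 (.leaf (nat_lit 0x0)) (.leaf (nat_lit 0x0))) (.node 1 (.leaf (nat_lit 0x0)) (.leaf (nat_lit 0x0))))) (.node 4 (.node 2 (.node 1 (.leaf (nat_lit 0x0)) (.leaf (nat_lit 0x0))) (.node 1 (.leaf (nat_lit 0x0)) (.leaf (nat_lit 0x0)))) (.node 2 (.node 1 (.leaf (nat_lit 0x0)) (.leaf (nat_lit 0x0))) (.node 1 (.leaf (nat_lit 0x0)) (.leaf (nat_lit 0x0)))))) (.node 8 (.node 4 (.node 2 (.node 1 (.leaf (nat_lit 0x0)) (.leaf (nat_lit 0x0))) (.node 1 (.leaf (nat_lit 0x0)) (.leaf (nat_lit 0x0)))) (.node 2 (.node 1 (.leaf (nat_lit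 0x0)) (.leaf (nat_lit 0x0))) (.node 1 (.leaf (nat_lit 0x0)) (.leaf (nat_lit 0x0))))) (.node 4 (.node 2 (.node 1 (.leaf (nat_lit 0x0)) (.leaf (nat_lit 0x0))) (.node 1 (.leaf (nat_lit 0x0)) (.leaf (nat_lit 0x0)))) (.node 2 (.node 1 (.leaf (nat_lit 0x0)) (.leaf (nat_lit 0x0))) (.node 1 (.leaf (nat_lit 0x0)) (.leaf (nat_lit 0x0))))))) (.node 16 (.node 8 (.node 4 (.node 2 (.node 1 (.leaf (nat_lit 0x0)) (.leaf (nat_lit 0x0))) (.node 1 (.leaf (nat_lit 0x0)) (.leaf (nat_lit 0x0)))) (.node 2 (.node 1 (.leaf (nat_lit 0x0)) (.leaf (nat_lit 0x0))) (.node 1 (.leaf (nat_lit 0x0)) (.leaf (nat_lit 0x0))))) (.node 4 (.node 2 (.node 1 (.leaf (nat_lit 0x0)) (.leaf (nat_lit 0x0))) (.node 1 (.leaf (nat_lit 0x0)) (.leaf (nat_lit 0x0)))) (.node 2 (.node 1 (.leaf (nat_lit 0x0)) (.leaf (nat_lit 0x0))) (.node 1 (.leaf (nat_lit 0x0)) (.leaf (nat_lit 0x0)))))) (.node 8 (.node 4 (.node 2 (.node 1 (.leaf (nat_lit 0x0)) (.leaf (nat_lit 0x0)))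 (.node 1 (.leaf (nat_lit 0x0)) (.leaf (nat_lit 0x0)))) (.node 2 (.node 1 (.leaf (nat_lit 0x0)) (.leaf (nat_lit 0x0))) (.node 1 (.leaf (nat_lit 0x0)) (.leaf (nat_lit 0x0))))) (.node 4 (.node 2 (.node 1 (.leaf (nat_lit 0x0)) (.leaf (nat_lit 0x0))) (.node 1 (.leaf (nat_lit 0x0)) (.leaf (nat_lit 0x0)))) (.node 2 (.node 1 (.leaf (nat_lit 0x0)) (.leaf (nat_lit 0x0))) (.node 1 (.leaf (nat_lit 0x0)) (.leaf (nat_lit 0x0))))))))

noncomputable def lvO3_16 : Tree :=
  .node 64 (.node 32 (.node 16 (.node 8 (.node 4 (.node 2 (.node 1 (.leaf (nat_lit 0x0)) (.leaf (nat_lit 0x0))) (.node 1 (.leaf (nat_lit 0x0)) (.leaf (nat_lit 0x0)))) (.node 2 (.node 1 (.leaf (nat_lit 0x0)) (.leaf (nat_lit 0x0))) (.node 1 (.leaf (nat_lit 0x0)) (.leaf (nat_lit 0x0))))) (.node 4 (.node 2 (.node 1 (.leaf (nat_lit 0x0)) (.leaf (nat_lit 0x0))) (.node 1 (.leaf (nat_lit 0x0)) (.leaf (nat_lit 0x0)))) (.node 2 (.node 1 (.leaf (nat_lit 0x0)) (.leaf (nat_lit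 0x0))) (.node 1 (.leaf (nat_lit 0x0)) (.leaf (nat_lit 0x0)))))) (.node 8 (.node 4 (.node 2 (.node 1 (.leaf (nat_lit 0x0)) (.leaf (nat_lit 0x0))) (.node 1 (.leaf (nat_lit 0x0)) (.leaf (nat_lit 0x0)))) (.node 2 (.node 1 (.leaf (nat_lit 0x0)) (.leaf (nat_lit 0x0))) (.node 1 (.leaf (nat_lit 0x0)) (.leaf (nat_lit 0x0))))) (.node 4 (.node 2 (.node 1 (.leaf (nat_lit 0x0)) (.leaf (nat_lit 0x0))) (.node 1 (.leaf (nat_lit 0x0)) (.leaf (nat_lit 0x0)))) (.node 2 (.node 1 (.leaf (nat_lit 0x0)) (.leaf (nat_lit 0x0))) (.node 1 (.leaf (nat_lit 0x0)) (.leaf (nat_lit 0x0))))))) (.node 16 (.node 8 (.node 4 (.node 2 (.node 1 (.leaf (nat_lit 0x0)) (.leaf (nat_lit 0x0))) (.node 1 (.leaf (nat_lit 0x0)) (.leaf (nat_lit 0x0)))) (.node 2 (.node 1 (.leaf (nat_lit 0x0)) (.leaf (nat_lit 0x0))) (.node 1 (.leaf (nat_lit 0x0)) (.leaf (nat_lit 0x0))))) (.node 4 (.node 2 (.node 1 (.leaf (nat_lit 0x0)) (.leaf (nat_lit 0x0))) (.node 1 (.leaf (nat_lit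 0x0)) (.leaf (nat_lit 0x0)))) (.node 2 (.node 1 (.leaf (nat_lit 0x0)) (.leaf (nat_lit 0x0))) (.node 1 (.leaf (nat_lit 0x0)) (.leaf (nat_lit 0x0)))))) (.node 8 (.node 4 (.node 2 (.node 1 (.leaf (nat_lit 0x0)) (.leaf (nat_lit 0x0))) (.node 1 (.leaf (nat_lit 0x0)) (.leaf (nat_lit 0x0)))) (.node 2 (.node 1 (.leaf (nat_lit 0x0)) (.leaf (nat_lit 0x0))) (.node 1 (.leaf (nat_lit 0x0)) (.leaf (nat_lit 0x0))))) (.node 4 (.node 2 (.node 1 (.leaf (nat_lit 0x0)) (.leaf (nat_lit 0x0))) (.node 1 (.leaf (nat_lit 0x0)) (.leaf (nat_lit 0x0)))) (.node 2 (.node 1 (.leaf (nat_lit 0x0)) (.leaf (nat_lit 0x0))) (.node 1 (.leaf (nat_lit 0x0)) (.leaf (nat_lit 0x0)))))))) (.node 32 (.node 16 (.node 8 (.node 4 (.node 2 (.node 1 (.leaf (nat_lit 0x0)) (.leaf (nat_lit 0x0))) (.node 1 (.leaf (nat_lit 0x0)) (.leaf (nat_lit 0x0)))) (.node 2 (.node 1 (.leaf (nat_lit 0x0)) (.leaf (nat_lit 0x0))) (.node 1 (.leaf (nat_lit 0x0)) (.leaf (nat_lit 0x0)))))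 (.node 4 (.node 2 (.node 1 (.leaf (nat_lit 0x0)) (.leaf (nat_lit 0x0))) (.node 1 (.leaf (nat_lit 0x0)) (.leaf (nat_lit 0x0)))) (.node 2 (.node 1 (.leaf (nat_lit 0x0)) (.leaf (nat_lit 0x0))) (.node 1 (.leaf (nat_lit 0x0)) (.leaf (nat_lit 0x0)))))) (.node 8 (.node 4 (.node 2 (.node 1 (.leaf (nat_lit 0x0)) (.leaf (nat_lit 0x0))) (.node 1 (.leaf (nat_lit 0x0)) (.leaf (nat_lit 0x0)))) (.node 2 (.node 1 (.leaf (nat_lit 0x0)) (.leaf (nat_lit 0x0))) (.node 1 (.leaf (nat_lit 0x0)) (.leaf (nat_lit 0x0))))) (.node 4 (.node 2 (.node 1 (.leaf (nat_lit 0x0)) (.leaf (nat_lit 0x0))) (.node 1 (.leaf (nat_lit 0x0)) (.leaf (nat_lit 0x0)))) (.node 2 (.node 1 (.leaf (nat_lit 0x0)) (.leaf (nat_lit 0x0))) (.node 1 (.leaf (nat_lit 0x0)) (.leaf (nat_lit 0x0))))))) (.node 16 (.node 8 (.node 4 (.node 2 (.node 1 (.leaf (nat_lit 0x0)) (.leaf (nat_lit 0x0))) (.node 1 (.leaf (nat_lit 0x0)) (.leaf (nat_lit 0x0)))) (.node 2 (.node 1 (.leaf (nat_lit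 0x0)) (.leaf (nat_lit 0x0))) (.node 1 (.leaf (nat_lit 0x0)) (.leaf (nat_lit 0x0))))) (.node 4 (.node 2 (.node 1 (.leaf (nat_lit 0x0)) (.leaf (nat_lit 0x0))) (.node 1 (.leaf (nat_lit 0x0)) (.leaf (nat_lit 0x0)))) (.node 2 (.node 1 (.leaf (nat_lit 0x0)) (.leaf (nat_lit 0x0))) (.node 1 (.leaf (nat_lit 0x0)) (.leaf (nat_lit 0x0)))))) (.node 8 (.node 4 (.node 2 (.node 1 (.leaf (nat_lit 0x0)) (.leaf (nat_lit 0x0))) (.node 1 (.leaf (nat_lit 0x0)) (.leaf (nat_lit 0x0)))) (.node 2 (.node 1 (.leaf (nat_lit 0x0)) (.leaf (nat_lit 0x0))) (.node 1 (.leaf (nat_lit 0x0)) (.leaf (nat_lit 0x0))))) (.node 4 (.node 2 (.node 1 (.leaf (nat_lit 0x0)) (.leaf (nat_lit 0x0))) (.node 1 (.leaf (nat_lit 0x0)) (.leaf (nat_lit 0x0)))) (.node 2 (.node 1 (.leaf (nat_lit 0x0)) (.leaf (nat_lit 0x0))) (.node 1 (.leaf (nat_lit 0x0)) (.leaf (nat_lit 0x0))))))))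

noncomputable def lvO3_17 : Tree :=
  .node 64 (.node 32 (.node 16 (.node 8 (.node 4 (.node 2 (.node 1 (.leaf (nat_lit 0x0)) (.leaf (nat_lit 0x0))) (.node 1 (.leaf (nat_lit 0x0)) (.leaf (nat_lit 0x0)))) (.node 2 (.node 1 (.leaf (nat_lit 0x0)) (.leaf (nat_lit 0x0))) (.node 1 (.leaf (nat_lit 0x0)) (.leaf (nat_lit 0x0))))) (.node 4 (.node 2 (.node 1 (.leaf (nat_lit 0x0)) (.leaf (nat_lit 0x0))) (.node 1 (.leaf (nat_lit 0x0)) (.leaf (nat_lit 0x0)))) (.node 2 (.node 1 (.leaf (nat_lit 0x0)) (.leaf (nat_lit 0x0))) (.node 1 (.leaf (nat_lit 0x0)) (.leaf (nat_lit 0x0)))))) (.node 8 (.node 4 (.node 2 (.node 1 (.leaf (nat_lit 0x0)) (.leaf (nat_lit 0x0))) (.node 1 (.leaf (nat_lit 0x0)) (.leaf (nat_lit 0x0)))) (.node 2 (.node 1 (.leaf (nat_lit 0x0)) (.leaf (nat_lit 0x0))) (.node 1 (.leaf (nat_lit 0x0)) (.leaf (nat_lit 0x0))))) (.node 4 (.node 2 (.node 1 (.leaf (nat_lit 0x0)) (.leaf (nat_lit 0x0))) (.node 1 (.leaf (nat_lit 0x0))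 (.leaf (nat_lit 0x0)))) (.node 2 (.node 1 (.leaf (nat_lit 0x0)) (.leaf (nat_lit 0x0))) (.node 1 (.leaf (nat_lit 0x0)) (.leaf (nat_lit 0x0))))))) (.node 16 (.node 8 (.node 4 (.node 2 (.node 1 (.leaf (nat_lit 0x0)) (.leaf (nat_lit 0x0))) (.node 1 (.leaf (nat_lit 0x0)) (.leaf (nat_lit 0x0)))) (.node 2 (.node 1 (.leaf (nat_lit 0x0)) (.leaf (nat_lit 0x0))) (.node 1 (.leaf (nat_lit 0x0)) (.leaf (nat_lit 0x0))))) (.node 4 (.node 2 (.node 1 (.leaf (nat_lit 0x0)) (.leaf (nat_lit 0x0))) (.node 1 (.leaf (nat_lit 0x0)) (.leaf (nat_lit 0x0)))) (.node 2 (.node 1 (.leaf (nat_lit 0x0)) (.leaf (nat_lit 0x0))) (.node 1 (.leaf (nat_lit 0x0)) (.leaf (nat_lit 0x0)))))) (.node 8 (.node 4 (.node 2 (.node 1 (.leaf (nat_lit 0x0)) (.leaf (nat_lit 0x0))) (.node 1 (.leaf (nat_lit 0x0)) (.leaf (nat_lit 0x0)))) (.node 2 (.node 1 (.leaf (nat_lit 0x0)) (.leaf (nat_lit 0x0))) (.node 1 (.leaf (nat_lit 0x0)) (.leaf (nat_lit 0x0))))) (.node 4 (.node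 2 (.node 1 (.leaf (nat_lit 0x0)) (.leaf (nat_lit 0x0))) (.node 1 (.leaf (nat_lit 0x0)) (.leaf (nat_lit 0x0)))) (.node 2 (.node 1 (.leaf (nat_lit 0x0)) (.leaf (nat_lit 0x0))) (.node 1 (.leaf (nat_lit 0x0)) (.leaf (nat_lit 0x0)))))))) (.node 32 (.node 16 (.node 8 (.node 4 (.node 2 (.node 1 (.leaf (nat_lit 0x0)) (.leaf (nat_lit 0x0))) (.node 1 (.leaf (nat_lit 0x0)) (.leaf (nat_lit 0x0)))) (.node 2 (.node 1 (.leaf (nat_lit 0x0)) (.leaf (nat_lit 0x0))) (.node 1 (.leaf (nat_lit 0x0)) (.leaf (nat_lit 0x0))))) (.node 4 (.node 2 (.node 1 (.leaf (nat_lit 0x0)) (.leaf (nat_lit 0x0))) (.node 1 (.leaf (nat_lit 0x0)) (.leaf (nat_lit 0x0)))) (.node 2 (.node 1 (.leaf (nat_lit 0x0)) (.leaf (nat_lit 0x0))) (.node 1 (.leaf (nat_lit 0x0)) (.leaf (nat_lit 0x0)))))) (.node 8 (.node 4 (.node 2 (.node 1 (.leaf (nat_lit 0x0)) (.leaf (nat_lit 0x0))) (.node 1 (.leaf (nat_lit 0x0)) (.leaf (nat_lit 0x0)))) (.node 2 (.node 1 (.leaf (nat_lit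 0x0)) (.leaf (nat_lit 0x0))) (.node 1 (.leaf (nat_lit 0x0)) (.leaf (nat_lit 0x0))))) (.node 4 (.node 2 (.node 1 (.leaf (nat_lit 0x0)) (.leaf (nat_lit 0x0))) (.node 1 (.leaf (nat_lit 0x0)) (.leaf (nat_lit 0x0)))) (.node 2 (.node 1 (.leaf (nat_lit 0x0)) (.leaf (nat_lit 0x0))) (.node 1 (.leaf (nat_lit 0x0)) (.leaf (nat_lit 0x0))))))) (.node 16 (.node 8 (.node 4 (.node 2 (.node 1 (.leaf (nat_lit 0x0)) (.leaf (nat_lit 0x0))) (.node 1 (.leaf (nat_lit 0x0)) (.leaf (nat_lit 0x0)))) (.node 2 (.node 1 (.leaf (nat_lit 0x0)) (.leaf (nat_lit 0x0))) (.node 1 (.leaf (nat_lit 0x0)) (.leaf (nat_lit 0x0))))) (.node 4 (.node 2 (.node 1 (.leaf (nat_lit 0x0)) (.leaf (nat_lit 0x0))) (.node 1 (.leaf (nat_lit 0x0)) (.leaf (nat_lit 0x0)))) (.node 2 (.node 1 (.leaf (nat_lit 0x0)) (.leaf (nat_lit 0x0))) (.node 1 (.leaf (nat_lit 0x0)) (.leaf (nat_lit 0x0)))))) (.node 8 (.node 4 (.node 2 (.node 1 (.leaf (nat_lit 0x0)) (.leaf (nat_lit 0x0)))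 (.node 1 (.leaf (nat_lit 0x0)) (.leaf (nat_lit 0x0)))) (.node 2 (.node 1 (.leaf (nat_lit 0x0)) (.leaf (nat_lit 0x0))) (.node 1 (.leaf (nat_lit 0x0)) (.leaf (nat_lit 0x0))))) (.node 4 (.node 2 (.node 1 (.leaf (nat_lit 0x0)) (.leaf (nat_lit 0x0))) (.node 1 (.leaf (nat_lit 0x0)) (.leaf (nat_lit 0x0)))) (.node 2 (.node 1 (.leaf (nat_lit 0x0)) (.leaf (nat_lit 0x0))) (.node 1 (.leaf (nat_lit 0x0)) (.leaf (nat_lit 0x0))))))))

noncomputable def lvO3_18 : Tree :=
  .node 64 (.node 32 (.node 16 (.node 8 (.node 4 (.node 2 (.node 1 (.leaf (nat_lit 0x0)) (.leaf (nat_lit 0x0))) (.node 1 (.leaf (nat_lit 0x0)) (.leaf (nat_lit 0x0)))) (.node 2 (.node 1 (.leaf (nat_lit 0x0)) (.leaf (nat_lit 0x0))) (.node 1 (.leaf (nat_lit 0x0)) (.leaf (nat_lit 0x0))))) (.node 4 (.node 2 (.node 1 (.leaf (nat_lit 0x0)) (.leaf (nat_lit 0x0))) (.node 1 (.leaf (nat_lit 0x0)) (.leaf (nat_lit 0x0)))) (.node 2 (.node 1 (.leaf (nat_lit 0x0)) (.leaf (nat_lit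 0x0))) (.node 1 (.leaf (nat_lit 0x0)) (.leaf (nat_lit 0x0)))))) (.node 8 (.node 4 (.node 2 (.node 1 (.leaf (nat_lit 0x0)) (.leaf (nat_lit 0x0))) (.node 1 (.leaf (nat_lit 0x0)) (.leaf (nat_lit 0x0)))) (.node 2 (.node 1 (.leaf (nat_lit 0x0)) (.leaf (nat_lit 0x0))) (.node 1 (.leaf (nat_lit 0x0)) (.leaf (nat_lit 0x0))))) (.node 4 (.node 2 (.node 1 (.leaf (nat_lit 0x0)) (.leaf (nat_lit 0x0))) (.node 1 (.leaf (nat_lit 0x0)) (.leaf (nat_lit 0x0)))) (.node 2 (.node 1 (.leaf (nat_lit 0x0)) (.leaf (nat_lit 0x0))) (.node 1 (.leaf (nat_lit 0x0)) (.leaf (nat_lit 0x0))))))) (.node 16 (.node 8 (.node 4 (.node 2 (.node 1 (.leaf (nat_lit 0x0)) (.leaf (nat_lit 0x0))) (.node 1 (.leaf (nat_lit 0x0)) (.leaf (nat_lit 0x0)))) (.node 2 (.node 1 (.leaf (nat_lit 0x0)) (.leaf (nat_lit 0x0))) (.node 1 (.leaf (nat_lit 0x0)) (.leaf (nat_lit 0x0))))) (.node 4 (.node 2 (.node 1 (.leaf (nat_lit 0x0)) (.leaf (nat_lit 0x0))) (.node 1 (.leaf (nat_lit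 0x0)) (.leaf (nat_lit 0x0)))) (.node 2 (.node 1 (.leaf (nat_lit 0x0)) (.leaf (nat_lit 0x0))) (.node 1 (.leaf (nat_lit 0x0)) (.leaf (nat_lit 0x0)))))) (.node 8 (.node 4 (.node 2 (.node 1 (.leaf (nat_lit 0x0)) (.leaf (nat_lit 0x0))) (.node 1 (.leaf (nat_lit 0x0)) (.leaf (nat_lit 0x0)))) (.node 2 (.node 1 (.leaf (nat_lit 0x0)) (.leaf (nat_lit 0x0))) (.node 1 (.leaf (nat_lit 0x0)) (.leaf (nat_lit 0x0))))) (.node 4 (.node 2 (.node 1 (.leaf (nat_lit 0x0)) (.leaf (nat_lit 0x0))) (.node 1 (.leaf (nat_lit 0x0)) (.leaf (nat_lit 0x0)))) (.node 2 (.node 1 (.leaf (nat_lit 0x0)) (.leaf (nat_lit 0x0))) (.node 1 (.leaf (nat_lit 0x0)) (.leaf (nat_lit 0x0)))))))) (.node 32 (.node 16 (.node 8 (.node 4 (.node 2 (.node 1 (.leaf (nat_lit 0x0)) (.leaf (nat_lit 0x0))) (.node 1 (.leaf (nat_lit 0x0)) (.leaf (nat_lit 0x0)))) (.node 2 (.node 1 (.leaf (nat_lit 0x0)) (.leaf (nat_lit 0x0))) (.node 1 (.leaf (nat_lit 0x0)) (.leaf (nat_lit 0x0)))))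 (.node 4 (.node 2 (.node 1 (.leaf (nat_lit 0x0)) (.leaf (nat_lit 0x0))) (.node 1 (.leaf (nat_lit 0x0)) (.leaf (nat_lit 0x0)))) (.node 2 (.node 1 (.leaf (nat_lit 0x0)) (.leaf (nat_lit 0x0))) (.node 1 (.leaf (nat_lit 0x0)) (.leaf (nat_lit 0x0)))))) (.node 8 (.node 4 (.node 2 (.node 1 (.leaf (nat_lit 0x0)) (.leaf (nat_lit 0x0))) (.node 1 (.leaf (nat_lit 0x0)) (.leaf (nat_lit 0x0)))) (.node 2 (.node 1 (.leaf (nat_lit 0x0)) (.leaf (nat_lit 0x0))) (.node 1 (.leaf (nat_lit 0x0)) (.leaf (nat_lit 0x0))))) (.node 4 (.node 2 (.node 1 (.leaf (nat_lit 0x0)) (.leaf (nat_lit 0x0))) (.node 1 (.leaf (nat_lit 0x0)) (.leaf (nat_lit 0x0)))) (.node 2 (.node 1 (.leaf (nat_lit 0x0)) (.leaf (nat_lit 0x0))) (.node 1 (.leaf (nat_lit 0x0)) (.leaf (nat_lit 0x0))))))) (.node 16 (.node 8 (.node 4 (.node 2 (.node 1 (.leaf (nat_lit 0x0)) (.leaf (nat_lit 0x0))) (.node 1 (.leaf (nat_lit 0x0)) (.leaf (nat_lit 0x0)))) (.node 2 (.node 1 (.leaf (nat_lit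 0x0)) (.leaf (nat_lit 0x0))) (.node 1 (.leaf (nat_lit 0x0)) (.leaf (nat_lit 0x0))))) (.node 4 (.node 2 (.node 1 (.leaf (nat_lit 0x0)) (.leaf (nat_lit 0x0))) (.node 1 (.leaf (nat_lit 0x0)) (.leaf (nat_lit 0x0)))) (.node 2 (.node 1 (.leaf (nat_lit 0x0)) (.leaf (nat_lit 0x0))) (.node 1 (.leaf (nat_lit 0x0)) (.leaf (nat_lit 0x0)))))) (.node 8 (.node 4 (.node 2 (.node 1 (.leaf (nat_lit 0x0)) (.leaf (nat_lit 0x0))) (.node 1 (.leaf (nat_lit 0x0)) (.leaf (nat_lit 0x0)))) (.node 2 (.node 1 (.leaf (nat_lit 0x0)) (.leaf (nat_lit 0x0))) (.node 1 (.leaf (nat_lit 0x0)) (.leaf (nat_lit 0x0))))) (.node 4 (.node 2 (.node 1 (.leaf (nat_lit 0x0)) (.leaf (nat_lit 0x0))) (.node 1 (.leaf (nat_lit 0x0)) (.leaf (nat_lit 0x0)))) (.node 2 (.node 1 (.leaf (nat_lit 0x0)) (.leaf (nat_lit 0x0))) (.node 1 (.leaf (nat_lit 0x0)) (.leaf (nat_lit 0x0))))))))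

noncomputable def lvO3_19 : Tree :=
  .node 64 (.node 32 (.node 16 (.node 8 (.node 4 (.node 2 (.node 1 (.leaf (nat_lit 0x0)) (.leaf (nat_lit 0x0))) (.node 1 (.leaf (nat_lit 0x0)) (.leaf (nat_lit 0x0)))) (.node 2 (.node 1 (.leaf (nat_lit 0x0)) (.leaf (nat_lit 0x0))) (.node 1 (.leaf (nat_lit 0x0)) (.leaf (nat_lit 0x0))))) (.node 4 (.node 2 (.node 1 (.leaf (nat_lit 0x0)) (.leaf (nat_lit 0x0))) (.node 1 (.leaf (nat_lit 0x0)) (.leaf (nat_lit 0x0)))) (.node 2 (.node 1 (.leaf (nat_lit 0x0)) (.leaf (nat_lit 0x0))) (.node 1 (.leaf (nat_lit 0x0)) (.leaf (nat_lit 0x0)))))) (.node 8 (.node 4 (.node 2 (.node 1 (.leaf (nat_lit 0x0)) (.leaf (nat_lit 0x0))) (.node 1 (.leaf (nat_lit 0x0)) (.leaf (nat_lit 0x0)))) (.node 2 (.node 1 (.leaf (nat_lit 0x0)) (.leaf (nat_lit 0x0))) (.node 1 (.leaf (nat_lit 0x0)) (.leaf (nat_lit 0x0))))) (.node 4 (.node 2 (.node 1 (.leaf (nat_lit 0x0)) (.leaf (nat_lit 0x0))) (.node 1 (.leaf (nat_lit 0x0))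 (.leaf (nat_lit 0x0)))) (.node 2 (.node 1 (.leaf (nat_lit 0x0)) (.leaf (nat_lit 0x0))) (.node 1 (.leaf (nat_lit 0x0)) (.leaf (nat_lit 0x0))))))) (.node 16 (.node 8 (.node 4 (.node 2 (.node 1 (.leaf (nat_lit 0x0)) (.leaf (nat_lit 0x0))) (.node 1 (.leaf (nat_lit 0x0)) (.leaf (nat_lit 0x0)))) (.node 2 (.node 1 (.leaf (nat_lit 0x0)) (.leaf (nat_lit 0x0))) (.node 1 (.leaf (nat_lit 0x0)) (.leaf (nat_lit 0x0))))) (.node 4 (.node 2 (.node 1 (.leaf (nat_lit 0x0)) (.leaf (nat_lit 0x0))) (.node 1 (.leaf (nat_lit 0x0)) (.leaf (nat_lit 0x0)))) (.node 2 (.node 1 (.leaf (nat_lit 0x0)) (.leaf (nat_lit 0x0))) (.node 1 (.leaf (nat_lit 0x0)) (.leaf (nat_lit 0x0)))))) (.node 8 (.node 4 (.node 2 (.node 1 (.leaf (nat_lit 0x0)) (.leaf (nat_lit 0x0))) (.node 1 (.leaf (nat_lit 0x0)) (.leaf (nat_lit 0x0)))) (.node 2 (.node 1 (.leaf (nat_lit 0x0)) (.leaf (nat_lit 0x0))) (.node 1 (.leaf (nat_lit 0x0)) (.leaf (nat_lit 0x0))))) (.node 4 (.node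 2 (.node 1 (.leaf (nat_lit 0x0)) (.leaf (nat_lit 0x0))) (.node 1 (.leaf (nat_lit 0x0)) (.leaf (nat_lit 0x0)))) (.node 2 (.node 1 (.leaf (nat_lit 0x0)) (.leaf (nat_lit 0x0))) (.node 1 (.leaf (nat_lit 0x0)) (.leaf (nat_lit 0x0)))))))) (.node 32 (.node 16 (.node 8 (.node 4 (.node 2 (.node 1 (.leaf (nat_lit 0x0)) (.leaf (nat_lit 0x0))) (.node 1 (.leaf (nat_lit 0x0)) (.leaf (nat_lit 0x0)))) (.node 2 (.node 1 (.leaf (nat_lit 0x0)) (.leaf (nat_lit 0x0))) (.node 1 (.leaf (nat_lit 0x0)) (.leaf (nat_lit 0x0))))) (.node 4 (.node 2 (.node 1 (.leaf (nat_lit 0x0)) (.leaf (nat_lit 0x0))) (.node 1 (.leaf (nat_lit 0x0)) (.leaf (nat_lit 0x0)))) (.node 2 (.node 1 (.leaf (nat_lit 0x0)) (.leaf (nat_lit 0x0))) (.node 1 (.leaf (nat_lit 0x0)) (.leaf (nat_lit 0x0)))))) (.node 8 (.node 4 (.node 2 (.node 1 (.leaf (nat_lit 0x0)) (.leaf (nat_lit 0x0))) (.node 1 (.leaf (nat_lit 0x0)) (.leaf (nat_lit 0x0)))) (.node 2 (.node 1 (.leaf (nat_lit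 0x0)) (.leaf (nat_lit 0x0))) (.node 1 (.leaf (nat_lit 0x0)) (.leaf (nat_lit 0x0))))) (.node 4 (.node 2 (.node 1 (.leaf (nat_lit 0x0)) (.leaf (nat_lit 0x0))) (.node 1 (.leaf (nat_lit 0x0)) (.leaf (nat_lit 0x0)))) (.node 2 (.node 1 (.leaf (nat_lit 0x0)) (.leaf (nat_lit 0x0))) (.node 1 (.leaf (nat_lit 0x0)) (.leaf (nat_lit 0x0))))))) (.node 16 (.node 8 (.node 4 (.node 2 (.node 1 (.leaf (nat_lit 0x0)) (.leaf (nat_lit 0x0))) (.node 1 (.leaf (nat_lit 0x0)) (.leaf (nat_lit 0x0)))) (.node 2 (.node 1 (.leaf (nat_lit 0x0)) (.leaf (nat_lit 0x0))) (.node 1 (.leaf (nat_lit 0x0)) (.leaf (nat_lit 0x0))))) (.node 4 (.node 2 (.node 1 (.leaf (nat_lit 0x0)) (.leaf (nat_lit 0x0))) (.node 1 (.leaf (nat_lit 0x0)) (.leaf (nat_lit 0x0)))) (.node 2 (.node 1 (.leaf (nat_lit 0x0)) (.leaf (nat_lit 0x0))) (.node 1 (.leaf (nat_lit 0x0)) (.leaf (nat_lit 0x0)))))) (.node 8 (.node 4 (.node 2 (.node 1 (.leaf (nat_lit 0x0)) (.leaf (nat_lit 0x0)))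 (.node 1 (.leaf (nat_lit 0x0)) (.leaf (nat_lit 0x0)))) (.node 2 (.node 1 (.leaf (nat_lit 0x0)) (.leaf (nat_lit 0x0))) (.node 1 (.leaf (nat_lit 0x0)) (.leaf (nat_lit 0x0))))) (.node 4 (.node 2 (.node 1 (.leaf (nat_lit 0x0)) (.leaf (nat_lit 0x0))) (.node 1 (.leaf (nat_lit 0x0)) (.leaf (nat_lit 0x0)))) (.node 2 (.node 1 (.leaf (nat_lit 0x0)) (.leaf (nat_lit 0x0))) (.node 1 (.leaf (nat_lit 0x0)) (.leaf (nat_lit 0x0))))))))

noncomputable def lvO3_20 : Tree :=
  .node 64 (.node 32 (.node 16 (.node 8 (.node 4 (.node 2 (.node 1 (.leaf (nat_lit 0x0)) (.leaf (nat_lit 0x0))) (.node 1 (.leaf (nat_lit 0x0)) (.leaf (nat_lit 0x0)))) (.node 2 (.node 1 (.leaf (nat_lit 0x0)) (.leaf (nat_lit 0x0))) (.node 1 (.leaf (nat_lit 0x0)) (.leaf (nat_lit 0x0))))) (.node 4 (.node 2 (.node 1 (.leaf (nat_lit 0x0)) (.leaf (nat_lit 0x0))) (.node 1 (.leaf (nat_lit 0x0)) (.leaf (nat_lit 0x0)))) (.node 2 (.node 1 (.leaf (nat_lit 0x0)) (.leaf (nat_lit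 0x0))) (.node 1 (.leaf (nat_lit 0x0)) (.leaf (nat_lit 0x0)))))) (.node 8 (.node 4 (.node 2 (.node 1 (.leaf (nat_lit 0x0)) (.leaf (nat_lit 0x0))) (.node 1 (.leaf (nat_lit 0x0)) (.leaf (nat_lit 0x0)))) (.node 2 (.node 1 (.leaf (nat_lit 0x0)) (.leaf (nat_lit 0x0))) (.node 1 (.leaf (nat_lit 0x0)) (.leaf (nat_lit 0x0))))) (.node 4 (.node 2 (.node 1 (.leaf (nat_lit 0x0)) (.leaf (nat_lit 0x0))) (.node 1 (.leaf (nat_lit 0x0)) (.leaf (nat_lit 0x0)))) (.node 2 (.node 1 (.leaf (nat_lit 0x0)) (.leaf (nat_lit 0x0))) (.node 1 (.leaf (nat_lit 0x0)) (.leaf (nat_lit 0x0))))))) (.node 16 (.node 8 (.node 4 (.node 2 (.node 1 (.leaf (nat_lit 0x0)) (.leaf (nat_lit 0x0))) (.node 1 (.leaf (nat_lit 0x0)) (.leaf (nat_lit 0x0)))) (.node 2 (.node 1 (.leaf (nat_lit 0x0)) (.leaf (nat_lit 0x0))) (.node 1 (.leaf (nat_lit 0x0)) (.leaf (nat_lit 0x0))))) (.node 4 (.node 2 (.node 1 (.leaf (nat_lit 0x0)) (.leaf (nat_lit 0x0))) (.node 1 (.leaf (nat_lit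 0x0)) (.leaf (nat_lit 0x0)))) (.node 2 (.node 1 (.leaf (nat_lit 0x0)) (.leaf (nat_lit 0x0))) (.node 1 (.leaf (nat_lit 0x0)) (.leaf (nat_lit 0x0)))))) (.node 8 (.node 4 (.node 2 (.node 1 (.leaf (nat_lit 0x0)) (.leaf (nat_lit 0x0))) (.node 1 (.leaf (nat_lit 0x0)) (.leaf (nat_lit 0x0)))) (.node 2 (.node 1 (.leaf (nat_lit 0x0)) (.leaf (nat_lit 0x0))) (.node 1 (.leaf (nat_lit 0x0)) (.leaf (nat_lit 0x0))))) (.node 4 (.node 2 (.node 1 (.leaf (nat_lit 0x0)) (.leaf (nat_lit 0x0))) (.node 1 (.leaf (nat_lit 0x0)) (.leaf (nat_lit 0x0)))) (.node 2 (.node 1 (.leaf (nat_lit 0x0)) (.leaf (nat_lit 0x0))) (.node 1 (.leaf (nat_lit 0x0)) (.leaf (nat_lit 0x0)))))))) (.node 32 (.node 16 (.node 8 (.node 4 (.node 2 (.node 1 (.leaf (nat_lit 0x0)) (.leaf (nat_lit 0x0))) (.node 1 (.leaf (nat_lit 0x0)) (.leaf (nat_lit 0x0)))) (.node 2 (.node 1 (.leaf (nat_lit 0x0)) (.leaf (nat_lit 0x0))) (.node 1 (.leaf (nat_lit 0x0)) (.leaf (nat_lit 0x0)))))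 (.node 4 (.node 2 (.node 1 (.leaf (nat_lit 0x0)) (.leaf (nat_lit 0x0))) (.node 1 (.leaf (nat_lit 0x0)) (.leaf (nat_lit 0x0)))) (.node 2 (.node 1 (.leaf (nat_lit 0x0)) (.leaf (nat_lit 0x0))) (.node 1 (.leaf (nat_lit 0x0)) (.leaf (nat_lit 0x0)))))) (.node 8 (.node 4 (.node 2 (.node 1 (.leaf (nat_lit 0x0)) (.leaf (nat_lit 0x0))) (.node 1 (.leaf (nat_lit 0x0)) (.leaf (nat_lit 0x0)))) (.node 2 (.node 1 (.leaf (nat_lit 0x0)) (.leaf (nat_lit 0x0))) (.node 1 (.leaf (nat_lit 0x0)) (.leaf (nat_lit 0x0))))) (.node 4 (.node 2 (.node 1 (.leaf (nat_lit 0x0)) (.leaf (nat_lit 0x0))) (.node 1 (.leaf (nat_lit 0x0)) (.leaf (nat_lit 0x0)))) (.node 2 (.node 1 (.leaf (nat_lit 0x0)) (.leaf (nat_lit 0x0))) (.node 1 (.leaf (nat_lit 0x0)) (.leaf (nat_lit 0x0))))))) (.node 16 (.node 8 (.node 4 (.node 2 (.node 1 (.leaf (nat_lit 0x0)) (.leaf (nat_lit 0x0))) (.node 1 (.leaf (nat_lit 0x0)) (.leaf (nat_lit 0x0)))) (.node 2 (.node 1 (.leaf (nat_lit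 0x0)) (.leaf (nat_lit 0x0))) (.node 1 (.leaf (nat_lit 0x0)) (.leaf (nat_lit 0x0))))) (.node 4 (.node 2 (.node 1 (.leaf (nat_lit 0x0)) (.leaf (nat_lit 0x0))) (.node 1 (.leaf (nat_lit 0x0)) (.leaf (nat_lit 0x0)))) (.node 2 (.node 1 (.leaf (nat_lit 0x0)) (.leaf (nat_lit 0x0))) (.node 1 (.leaf (nat_lit 0x0)) (.leaf (nat_lit 0x0)))))) (.node 8 (.node 4 (.node 2 (.node 1 (.leaf (nat_lit 0x0)) (.leaf (nat_lit 0x0))) (.node 1 (.leaf (nat_lit 0x0)) (.leaf (nat_lit 0x0)))) (.node 2 (.node 1 (.leaf (nat_lit 0x0)) (.leaf (nat_lit 0x0))) (.node 1 (.leaf (nat_lit 0x0)) (.leaf (nat_lit 0x0))))) (.node 4 (.node 2 (.node 1 (.leaf (nat_lit 0x0)) (.leaf (nat_lit 0x0))) (.node 1 (.leaf (nat_lit 0x0)) (.leaf (nat_lit 0x0)))) (.node 2 (.node 1 (.leaf (nat_lit 0x0)) (.leaf (nat_lit 0x0))) (.node 1 (.leaf (nat_lit 0x0)) (.leaf (nat_lit 0x0))))))))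

noncomputable def lvO3_21 : Tree :=
  .node 64 (.node 32 (.node 16 (.node 8 (.node 4 (.node 2 (.node 1 (.leaf (nat_lit 0x0)) (.leaf (nat_lit 0x0))) (.node 1 (.leaf (nat_lit 0x0)) (.leaf (nat_lit 0x0)))) (.node 2 (.node 1 (.leaf (nat_lit 0x0)) (.leaf (nat_lit 0x0))) (.node 1 (.leaf (nat_lit 0x0)) (.leaf (nat_lit 0x0))))) (.node 4 (.node 2 (.node 1 (.leaf (nat_lit 0x0)) (.leaf (nat_lit 0x0))) (.node 1 (.leaf (nat_lit 0x0)) (.leaf (nat_lit 0x0)))) (.node 2 (.node 1 (.leaf (nat_lit 0x0)) (.leaf (nat_lit 0x0))) (.node 1 (.leaf (nat_lit 0x0)) (.leaf (nat_lit 0x0)))))) (.node 8 (.node 4 (.node 2 (.node 1 (.leaf (nat_lit 0x0)) (.leaf (nat_lit 0x0))) (.node 1 (.leaf (nat_lit 0x0)) (.leaf (nat_lit 0x0)))) (.node 2 (.node 1 (.leaf (nat_lit 0x0)) (.leaf (nat_lit 0x0))) (.node 1 (.leaf (nat_lit 0x0)) (.leaf (nat_lit 0x0))))) (.node 4 (.node 2 (.node 1 (.leaf (nat_lit 0x0)) (.leaf (nat_lit 0x0))) (.node 1 (.leaf (nat_lit 0x0))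 (.leaf (nat_lit 0x0)))) (.node 2 (.node 1 (.leaf (nat_lit 0x0)) (.leaf (nat_lit 0x0))) (.node 1 (.leaf (nat_lit 0x0)) (.leaf (nat_lit 0x0))))))) (.node 16 (.node 8 (.node 4 (.node 2 (.node 1 (.leaf (nat_lit 0x0)) (.leaf (nat_lit 0x0))) (.node 1 (.leaf (nat_lit 0x0)) (.leaf (nat_lit 0x0)))) (.node 2 (.node 1 (.leaf (nat_lit 0x0)) (.leaf (nat_lit 0x0))) (.node 1 (.leaf (nat_lit 0x0)) (.leaf (nat_lit 0x0))))) (.node 4 (.node 2 (.node 1 (.leaf (nat_lit 0x0)) (.leaf (nat_lit 0x0))) (.node 1 (.leaf (nat_lit 0x0)) (.leaf (nat_lit 0x0)))) (.node 2 (.node 1 (.leaf (nat_lit 0x0)) (.leaf (nat_lit 0x0))) (.node 1 (.leaf (nat_lit 0x0)) (.leaf (nat_lit 0x0)))))) (.node 8 (.node 4 (.node 2 (.node 1 (.leaf (nat_lit 0x0)) (.leaf (nat_lit 0x0))) (.node 1 (.leaf (nat_lit 0x0)) (.leaf (nat_lit 0x0)))) (.node 2 (.node 1 (.leaf (nat_lit 0x0)) (.leaf (nat_lit 0x0))) (.node 1 (.leaf (nat_lit 0x0)) (.leaf (nat_lit 0x0))))) (.node 4 (.node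 2 (.node 1 (.leaf (nat_lit 0x0)) (.leaf (nat_lit 0x0))) (.node 1 (.leaf (nat_lit 0x0)) (.leaf (nat_lit 0x0)))) (.node 2 (.node 1 (.leaf (nat_lit 0x0)) (.leaf (nat_lit 0x0))) (.node 1 (.leaf (nat_lit 0x0)) (.leaf (nat_lit 0x0)))))))) (.node 32 (.node 16 (.node 8 (.node 4 (.node 2 (.node 1 (.leaf (nat_lit 0x0)) (.leaf (nat_lit 0x0))) (.node 1 (.leaf (nat_lit 0x0)) (.leaf (nat_lit 0x0)))) (.node 2 (.node 1 (.leaf (nat_lit 0x0)) (.leaf (nat_lit 0x0))) (.node 1 (.leaf (nat_lit 0x0)) (.leaf (nat_lit 0x0))))) (.node 4 (.node 2 (.node 1 (.leaf (nat_lit 0x0)) (.leaf (nat_lit 0x0))) (.node 1 (.leaf (nat_lit 0x0)) (.leaf (nat_lit 0x0)))) (.node 2 (.node 1 (.leaf (nat_lit 0x0)) (.leaf (nat_lit 0x0))) (.node 1 (.leaf (nat_lit 0x0)) (.leaf (nat_lit 0x0)))))) (.node 8 (.node 4 (.node 2 (.node 1 (.leaf (nat_lit 0x0)) (.leaf (nat_lit 0x0))) (.node 1 (.leaf (nat_lit 0x0)) (.leaf (nat_lit 0x0)))) (.node 2 (.node 1 (.leaf (nat_lit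 0x0)) (.leaf (nat_lit 0x0))) (.node 1 (.leaf (nat_lit 0x0)) (.leaf (nat_lit 0x0))))) (.node 4 (.node 2 (.node 1 (.leaf (nat_lit 0x0)) (.leaf (nat_lit 0x0))) (.node 1 (.leaf (nat_lit 0x0)) (.leaf (nat_lit 0x0)))) (.node 2 (.node 1 (.leaf (nat_lit 0x0)) (.leaf (nat_lit 0x0))) (.node 1 (.leaf (nat_lit 0x0)) (.leaf (nat_lit 0x0))))))) (.node 16 (.node 8 (.node 4 (.node 2 (.node 1 (.leaf (nat_lit 0x0)) (.leaf (nat_lit 0x0))) (.node 1 (.leaf (nat_lit 0x0)) (.leaf (nat_lit 0x0)))) (.node 2 (.node 1 (.leaf (nat_lit 0x0)) (.leaf (nat_lit 0x0))) (.node 1 (.leaf (nat_lit 0x0)) (.leaf (nat_lit 0x0))))) (.node 4 (.node 2 (.node 1 (.leaf (nat_lit 0x0)) (.leaf (nat_lit 0x0))) (.node 1 (.leaf (nat_lit 0x0)) (.leaf (nat_lit 0x0)))) (.node 2 (.node 1 (.leaf (nat_lit 0x0)) (.leaf (nat_lit 0x0))) (.node 1 (.leaf (nat_lit 0x0)) (.leaf (nat_lit 0x0)))))) (.node 8 (.node 4 (.node 2 (.node 1 (.leaf (nat_lit 0x0)) (.leaf (nat_lit 0x0)))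 (.node 1 (.leaf (nat_lit 0x0)) (.leaf (nat_lit 0x0)))) (.node 2 (.node 1 (.leaf (nat_lit 0x0)) (.leaf (nat_lit 0x0))) (.node 1 (.leaf (nat_lit 0x0)) (.leaf (nat_lit 0x0))))) (.node 4 (.node 2 (.node 1 (.leaf (nat_lit 0x0)) (.leaf (nat_lit 0x0))) (.node 1 (.leaf (nat_lit 0x0)) (.leaf (nat_lit 0x0)))) (.node 2 (.node 1 (.leaf (nat_lit 0x0)) (.leaf (nat_lit 0x0))) (.node 1 (.leaf (nat_lit 0x0)) (.leaf (nat_lit 0x0))))))))

noncomputable def lvO3_22 : Tree :=
  .node 64 (.node 32 (.node 16 (.node 8 (.node 4 (.node 2 (.node 1 (.leaf (nat_lit 0x0)) (.leaf (nat_lit 0x0))) (.node 1 (.leaf (nat_lit 0x0)) (.leaf (nat_lit 0x0)))) (.node 2 (.node 1 (.leaf (nat_lit 0x0)) (.leaf (nat_lit 0x0))) (.node 1 (.leaf (nat_lit 0x0)) (.leaf (nat_lit 0x0))))) (.node 4 (.node 2 (.node 1 (.leaf (nat_lit 0x0)) (.leaf (nat_lit 0x0))) (.node 1 (.leaf (nat_lit 0x0)) (.leaf (nat_lit 0x0)))) (.node 2 (.node 1 (.leaf (nat_lit 0x0)) (.leaf (nat_lit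 0x0))) (.node 1 (.leaf (nat_lit 0x0)) (.leaf (nat_lit 0x0)))))) (.node 8 (.node 4 (.node 2 (.node 1 (.leaf (nat_lit 0x0)) (.leaf (nat_lit 0x0))) (.node 1 (.leaf (nat_lit 0x0)) (.leaf (nat_lit 0x0)))) (.node 2 (.node 1 (.leaf (nat_lit 0x0)) (.leaf (nat_lit 0x0))) (.node 1 (.leaf (nat_lit 0x0)) (.leaf (nat_lit 0x0))))) (.node 4 (.node 2 (.node 1 (.leaf (nat_lit 0x0)) (.leaf (nat_lit 0x0))) (.node 1 (.leaf (nat_lit 0x0)) (.leaf (nat_lit 0x0)))) (.node 2 (.node 1 (.leaf (nat_lit 0x0)) (.leaf (nat_lit 0x0))) (.node 1 (.leaf (nat_lit 0x0)) (.leaf (nat_lit 0x0))))))) (.node 16 (.node 8 (.node 4 (.node 2 (.node 1 (.leaf (nat_lit 0x0)) (.leaf (nat_lit 0x0))) (.node 1 (.leaf (nat_lit 0x0)) (.leaf (nat_lit 0x0)))) (.node 2 (.node 1 (.leaf (nat_lit 0x0)) (.leaf (nat_lit 0x0))) (.node 1 (.leaf (nat_lit 0x0)) (.leaf (nat_lit 0x0))))) (.node 4 (.node 2 (.node 1 (.leaf (nat_lit 0x0)) (.leaf (nat_lit 0x0))) (.node 1 (.leaf (nat_lit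 0x0)) (.leaf (nat_lit 0x0)))) (.node 2 (.node 1 (.leaf (nat_lit 0x0)) (.leaf (nat_lit 0x0))) (.node 1 (.leaf (nat_lit 0x0)) (.leaf (nat_lit 0x0)))))) (.node 8 (.node 4 (.node 2 (.node 1 (.leaf (nat_lit 0x0)) (.leaf (nat_lit 0x0))) (.node 1 (.leaf (nat_lit 0x0)) (.leaf (nat_lit 0x0)))) (.node 2 (.node 1 (.leaf (nat_lit 0x0)) (.leaf (nat_lit 0x0))) (.node 1 (.leaf (nat_lit 0x0)) (.leaf (nat_lit 0x0))))) (.node 4 (.node 2 (.node 1 (.leaf (nat_lit 0x0)) (.leaf (nat_lit 0x0))) (.node 1 (.leaf (nat_lit 0x0)) (.leaf (nat_lit 0x0)))) (.node 2 (.node 1 (.leaf (nat_lit 0x0)) (.leaf (nat_lit 0x0))) (.node 1 (.leaf (nat_lit 0x0)) (.leaf (nat_lit 0x0)))))))) (.node 32 (.node 16 (.node 8 (.node 4 (.node 2 (.node 1 (.leaf (nat_lit 0x0)) (.leaf (nat_lit 0x0))) (.node 1 (.leaf (nat_lit 0x0)) (.leaf (nat_lit 0x0)))) (.node 2 (.node 1 (.leaf (nat_lit 0x0)) (.leaf (nat_lit 0x0))) (.node 1 (.leaf (nat_lit 0x0)) (.leaf (nat_lit 0x0)))))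 (.node 4 (.node 2 (.node 1 (.leaf (nat_lit 0x0)) (.leaf (nat_lit 0x0))) (.node 1 (.leaf (nat_lit 0x0)) (.leaf (nat_lit 0x0)))) (.node 2 (.node 1 (.leaf (nat_lit 0x0)) (.leaf (nat_lit 0x0))) (.node 1 (.leaf (nat_lit 0x0)) (.leaf (nat_lit 0x0)))))) (.node 8 (.node 4 (.node 2 (.node 1 (.leaf (nat_lit 0x0)) (.leaf (nat_lit 0x0))) (.node 1 (.leaf (nat_lit 0x0)) (.leaf (nat_lit 0x0)))) (.node 2 (.node 1 (.leaf (nat_lit 0x0)) (.leaf (nat_lit 0x0))) (.node 1 (.leaf (nat_lit 0x0)) (.leaf (nat_lit 0x0))))) (.node 4 (.node 2 (.node 1 (.leaf (nat_lit 0x0)) (.leaf (nat_lit 0x0))) (.node 1 (.leaf (nat_lit 0x0)) (.leaf (nat_lit 0x0)))) (.node 2 (.node 1 (.leaf (nat_lit 0x0)) (.leaf (nat_lit 0x0))) (.node 1 (.leaf (nat_lit 0x0)) (.leaf (nat_lit 0x0))))))) (.node 16 (.node 8 (.node 4 (.node 2 (.node 1 (.leaf (nat_lit 0x0)) (.leaf (nat_lit 0x0))) (.node 1 (.leaf (nat_lit 0x0)) (.leaf (nat_lit 0x0)))) (.node 2 (.node 1 (.leaf (nat_lit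 0x0)) (.leaf (nat_lit 0x0))) (.node 1 (.leaf (nat_lit 0x0)) (.leaf (nat_lit 0x0))))) (.node 4 (.node 2 (.node 1 (.leaf (nat_lit 0x0)) (.leaf (nat_lit 0x0))) (.node 1 (.leaf (nat_lit 0x0)) (.leaf (nat_lit 0x0)))) (.node 2 (.node 1 (.leaf (nat_lit 0x0)) (.leaf (nat_lit 0x0))) (.node 1 (.leaf (nat_lit 0x0)) (.leaf (nat_lit 0x0)))))) (.node 8 (.node 4 (.node 2 (.node 1 (.leaf (nat_lit 0x0)) (.leaf (nat_lit 0x0))) (.node 1 (.leaf (nat_lit 0x0)) (.leaf (nat_lit 0x0)))) (.node 2 (.node 1 (.leaf (nat_lit 0x0)) (.leaf (nat_lit 0x0))) (.node 1 (.leaf (nat_lit 0x0)) (.leaf (nat_lit 0x0))))) (.node 4 (.node 2 (.node 1 (.leaf (nat_lit 0x0)) (.leaf (nat_lit 0x0))) (.node 1 (.leaf (nat_lit 0x0)) (.leaf (nat_lit 0x0)))) (.node 2 (.node 1 (.leaf (nat_lit 0x0)) (.leaf (nat_lit 0x0))) (.node 1 (.leaf (nat_lit 0x0)) (.leaf (nat_lit 0x0))))))))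

noncomputable def lvO3_23 : Tree :=
  .node 64 (.node 32 (.node 16 (.node 8 (.node 4 (.node 2 (.node 1 (.leaf (nat_lit 0x0)) (.leaf (nat_lit 0x0))) (.node 1 (.leaf (nat_lit 0x0)) (.leaf (nat_lit 0x0)))) (.node 2 (.node 1 (.leaf (nat_lit 0x0)) (.leaf (nat_lit 0x0))) (.node 1 (.leaf (nat_lit 0x0)) (.leaf (nat_lit 0x0))))) (.node 4 (.node 2 (.node 1 (.leaf (nat_lit 0x0)) (.leaf (nat_lit 0x0))) (.node 1 (.leaf (nat_lit 0x0)) (.leaf (nat_lit 0x0)))) (.node 2 (.node 1 (.leaf (nat_lit 0x0)) (.leaf (nat_lit 0x0))) (.node 1 (.leaf (nat_lit 0x0)) (.leaf (nat_lit 0x0)))))) (.node 8 (.node 4 (.node 2 (.node 1 (.leaf (nat_lit 0x0)) (.leaf (nat_lit 0x0))) (.node 1 (.leaf (nat_lit 0x0)) (.leaf (nat_lit 0x0)))) (.node 2 (.node 1 (.leaf (nat_lit 0x0)) (.leaf (nat_lit 0x0))) (.node 1 (.leaf (nat_lit 0x0)) (.leaf (nat_lit 0x0))))) (.node 4 (.node 2 (.node 1 (.leaf (nat_lit 0x0)) (.leaf (nat_lit 0x0))) (.node 1 (.leaf (nat_lit 0x0))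 (.leaf (nat_lit 0x0)))) (.node 2 (.node 1 (.leaf (nat_lit 0x0)) (.leaf (nat_lit 0x0))) (.node 1 (.leaf (nat_lit 0x0)) (.leaf (nat_lit 0x0))))))) (.node 16 (.node 8 (.node 4 (.node 2 (.node 1 (.leaf (nat_lit 0x0)) (.leaf (nat_lit 0x0))) (.node 1 (.leaf (nat_lit 0x0)) (.leaf (nat_lit 0x0)))) (.node 2 (.node 1 (.leaf (nat_lit 0x0)) (.leaf (nat_lit 0x0))) (.node 1 (.leaf (nat_lit 0x0)) (.leaf (nat_lit 0x0))))) (.node 4 (.node 2 (.node 1 (.leaf (nat_lit 0x0)) (.leaf (nat_lit 0x0))) (.node 1 (.leaf (nat_lit 0x0)) (.leaf (nat_lit 0x0)))) (.node 2 (.node 1 (.leaf (nat_lit 0x0)) (.leaf (nat_lit 0x0))) (.node 1 (.leaf (nat_lit 0x0)) (.leaf (nat_lit 0x0)))))) (.node 8 (.node 4 (.node 2 (.node 1 (.leaf (nat_lit 0x0)) (.leaf (nat_lit 0x0))) (.node 1 (.leaf (nat_lit 0x0)) (.leaf (nat_lit 0x0)))) (.node 2 (.node 1 (.leaf (nat_lit 0x0)) (.leaf (nat_lit 0x0))) (.node 1 (.leaf (nat_lit 0x0)) (.leaf (nat_lit 0x0))))) (.node 4 (.node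 2 (.node 1 (.leaf (nat_lit 0x0)) (.leaf (nat_lit 0x0))) (.node 1 (.leaf (nat_lit 0x0)) (.leaf (nat_lit 0x0)))) (.node 2 (.node 1 (.leaf (nat_lit 0x0)) (.leaf (nat_lit 0x0))) (.node 1 (.leaf (nat_lit 0x0)) (.leaf (nat_lit 0x0)))))))) (.node 32 (.node 16 (.node 8 (.node 4 (.node 2 (.node 1 (.leaf (nat_lit 0x0)) (.leaf (nat_lit 0x0))) (.node 1 (.leaf (nat_lit 0x0)) (.leaf (nat_lit 0x0)))) (.node 2 (.node 1 (.leaf (nat_lit 0x0)) (.leaf (nat_lit 0x0))) (.node 1 (.leaf (nat_lit 0x0)) (.leaf (nat_lit 0x0))))) (.node 4 (.node 2 (.node 1 (.leaf (nat_lit 0x0)) (.leaf (nat_lit 0x0))) (.node 1 (.leaf (nat_lit 0x0)) (.leaf (nat_lit 0x0)))) (.node 2 (.node 1 (.leaf (nat_lit 0x0)) (.leaf (nat_lit 0x0))) (.node 1 (.leaf (nat_lit 0x0)) (.leaf (nat_lit 0x0)))))) (.node 8 (.node 4 (.node 2 (.node 1 (.leaf (nat_lit 0x0)) (.leaf (nat_lit 0x0))) (.node 1 (.leaf (nat_lit 0x0)) (.leaf (nat_lit 0x0)))) (.node 2 (.node 1 (.leaf (nat_lit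 0x0)) (.leaf (nat_lit 0x0))) (.node 1 (.leaf (nat_lit 0x0)) (.leaf (nat_lit 0x0))))) (.node 4 (.node 2 (.node 1 (.leaf (nat_lit 0x0)) (.leaf (nat_lit 0x0))) (.node 1 (.leaf (nat_lit 0x0)) (.leaf (nat_lit 0x0)))) (.node 2 (.node 1 (.leaf (nat_lit 0x0)) (.leaf (nat_lit 0x0))) (.node 1 (.leaf (nat_lit 0x0)) (.leaf (nat_lit 0x0))))))) (.node 16 (.node 8 (.node 4 (.node 2 (.node 1 (.leaf (nat_lit 0x0)) (.leaf (nat_lit 0x0))) (.node 1 (.leaf (nat_lit 0x0)) (.leaf (nat_lit 0x0)))) (.node 2 (.node 1 (.leaf (nat_lit 0x0)) (.leaf (nat_lit 0x0))) (.node 1 (.leaf (nat_lit 0x0)) (.leaf (nat_lit 0x0))))) (.node 4 (.node 2 (.node 1 (.leaf (nat_lit 0x0)) (.leaf (nat_lit 0x0))) (.node 1 (.leaf (nat_lit 0x0)) (.leaf (nat_lit 0x0)))) (.node 2 (.node 1 (.leaf (nat_lit 0x0)) (.leaf (nat_lit 0x0))) (.node 1 (.leaf (nat_lit 0x0)) (.leaf (nat_lit 0x0)))))) (.node 8 (.node 4 (.node 2 (.node 1 (.leaf (nat_lit 0x0)) (.leaf (nat_lit 0x0)))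 (.node 1 (.leaf (nat_lit 0x0)) (.leaf (nat_lit 0x0)))) (.node 2 (.node 1 (.leaf (nat_lit 0x0)) (.leaf (nat_lit 0x0))) (.node 1 (.leaf (nat_lit 0x0)) (.leaf (nat_lit 0x0))))) (.node 4 (.node 2 (.node 1 (.leaf (nat_lit 0x0)) (.leaf (nat_lit 0x0))) (.node 1 (.leaf (nat_lit 0x0)) (.leaf (nat_lit 0x0)))) (.node 2 (.node 1 (.leaf (nat_lit 0x0)) (.leaf (nat_lit 0x0))) (.node 1 (.leaf (nat_lit 0x0)) (.leaf (nat_lit 0x0))))))))

noncomputable def lvO3_24 : Tree :=
  .node 43 (.node 21 (.node 10 (.node 5 (.node 2 (.node 1 (.leaf (nat_lit 0x0)) (.leaf (nat_lit 0x0))) (.node 1 (.leaf (nat_lit 0x0)) (.node 1 (.leaf (nat_lit 0x0)) (.leaf (nat_lit 0x0))))) (.node 2 (.node 1 (.leaf (nat_lit 0x0)) (.leaf (nat_lit 0x0))) (.node 1 (.leaf (nat_lit 0x0)) (.node 1 (.leaf (nat_lit 0x0)) (.leaf (nat_lit 0x0)))))) (.node 5 (.node 2 (.node 1 (.leaf (nat_lit 0x0)) (.leaf (nat_lit 0x0))) (.node 1 (.leaf (nat_lit 0x0)) (.node 1 (.leaf (nat_lit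 0x0)) (.leaf (nat_lit 0x0))))) (.node 3 (.node 1 (.leaf (nat_lit 0x0)) (.node 1 (.leaf (nat_lit 0x0)) (.leaf (nat_lit 0x0)))) (.node 1 (.leaf (nat_lit 0x0)) (.node 1 (.leaf (nat_lit 0x0)) (.leaf (nat_lit 0x0))))))) (.node 11 (.node 5 (.node 2 (.node 1 (.leaf (nat_lit 0x0)) (.leaf (nat_lit 0x0))) (.node 1 (.leaf (nat_lit 0x0)) (.node 1 (.leaf (nat_lit 0x0)) (.leaf (nat_lit 0x0))))) (.node 3 (.node 1 (.leaf (nat_lit 0x0)) (.node 1 (.leaf (nat_lit 0x0)) (.leaf (nat_lit 0x0)))) (.node 1 (.leaf (nat_lit 0x0)) (.node 1 (.leaf (nat_lit 0x0)) (.leaf (nat_lit 0x0)))))) (.node 5 (.node 2 (.node 1 (.leaf (nat_lit 0x0)) (.leaf (nat_lit 0x0))) (.node 1 (.leaf (nat_lit 0x0)) (.node 1 (.leaf (nat_lit 0x0)) (.leaf (nat_lit 0x0))))) (.node 3 (.node 1 (.leaf (nat_lit 0x0)) (.node 1 (.leaf (nat_lit 0x0)) (.leaf (nat_lit 0x0)))) (.node 1 (.leaf (nat_lit 0x0)) (.node 1 (.leaf (nat_lit 0x0)) (.leaf (nat_lit 0x0)))))))) (.node 22 (.node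 11 (.node 5 (.node 2 (.node 1 (.leaf (nat_lit 0x0)) (.leaf (nat_lit 0x0))) (.node 1 (.leaf (nat_lit 0x0)) (.node 1 (.leaf (nat_lit 0x0)) (.leaf (nat_lit 0x0))))) (.node 3 (.node 1 (.leaf (nat_lit 0x0)) (.node 1 (.leaf (nat_lit 0x0)) (.leaf (nat_lit 0x0)))) (.node 1 (.leaf (nat_lit 0x0)) (.node 1 (.leaf (nat_lit 0x0)) (.leaf (nat_lit 0x0)))))) (.node 5 (.node 2 (.node 1 (.leaf (nat_lit 0x0)) (.leaf (nat_lit 0x0))) (.node 1 (.leaf (nat_lit 0x0)) (.node 1 (.leaf (nat_lit 0x0)) (.leaf (nat_lit 0x0))))) (.node 3 (.node 1 (.leaf (nat_lit 0x0)) (.node 1 (.leaf (nat_lit 0x0)) (.leaf (nat_lit 0x0)))) (.node 1 (.leaf (nat_lit 0x0)) (.node 1 (.leaf (nat_lit 0x0)) (.leaf (nat_lit 0x0))))))) (.node 11 (.node 5 (.node 2 (.node 1 (.leaf (nat_lit 0x0)) (.leaf (nat_lit 0x0))) (.node 1 (.leaf (nat_lit 0x0)) (.node 1 (.leaf (nat_lit 0x0)) (.leaf (nat_lit 0x0))))) (.node 3 (.node 1 (.leaf (nat_lit 0x0)) (.node 1 (.leaf (nat_lit 0x0))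 (.leaf (nat_lit 0x0)))) (.node 1 (.leaf (nat_lit 0x0)) (.node 1 (.leaf (nat_lit 0x0)) (.leaf (nat_lit 0x0)))))) (.node 5 (.node 2 (.node 1 (.leaf (nat_lit 0x0)) (.leaf (nat_lit 0x0))) (.node 1 (.leaf (nat_lit 0x0)) (.node 1 (.leaf (nat_lit 0x0)) (.leaf (nat_lit 0x0))))) (.node 3 (.node 1 (.leaf (nat_lit 0x0)) (.node 1 (.leaf (nat_lit 0x0)) (.leaf (nat_lit 0x0)))) (.node 1 (.leaf (nat_lit 0x0)) (.node 1 (.leaf (nat_lit 0x0)) (.leaf (nat_lit 0x0))))))))

noncomputable def lvO3 : Tree :=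
  .node 1536 (.node 768 (.node 384 (.node 128 (lvO3_0) (.node 128 (lvO3_1) (lvO3_2))) (.node 128 (lvO3_3) (.node 128 (lvO3_4) (lvO3_5)))) (.node 384 (.node 128 (lvO3_6) (.node 128 (lvO3_7) (lvO3_8))) (.node 128 (lvO3_9) (.node 128 (lvO3_10) (lvO3_11))))) (.node 768 (.node 384 (.node 128 (lvO3_12) (.node 128 (lvO3_13) (lvO3_14))) (.node 128 (lvO3_15) (.node 128 (lvO3_16) (lvO3_17)))) (.node 384 (.node 128 (lvO3_18) (.node 128 (lvO3_19) (lvO3_20))) (.node 256 (.node 128 (lvO3_21) (lvO3_22)) (.node 128 (lvO3_23) (lvO3_24)))))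

noncomputable def lvP3_0 : ℕ := nat_lit 0xc4200c4f00c5000c4600c4900c1900c5400c5500c1c00c2a00c1100c0e00c1a00c5200c0a00c1d00c5300c0600c0400c3200c5600c0d00c3300c3100bfd00c1400c1500c1700c1600c2c00c2d00c2f00c2e00c2800c2b00c4000c4300c3f00bd300c3700c3600c3800c3900c3400c4d00bd400c3500bd600bbf00bc500bb700bb600bde00bb100bac00bad00bb000c4700c4e00ba500c4a00c5100ba100c3b00c3a00c3c00c3d00ba800bce00c4c00b9600b9400c4b00c4100bcc00ba300c4800b8d00ba600b8b00c4500bd800c4400b8a00ba900baa00c0000be200be100c3e00bd500bd000bd100b8f00b8e00bd700b7200bd200b7c00b7b00b9c00b6c00b9e00ba000b9f00bc700b6600bc900bea00bdb00bdf00bcb00bca00bc000b5900bc600bff00bfe00b5500be800c2200b5600b5000be900b5700b4900c0500bf700c2700bfc00c2900c3000bf500bfa00bfb00b3b00c1200b3100c0c00be700be600beb00b2b00bed00be300c2500b3c00b2a00b4000b1d00be500c2600b1900b2100b3300b1a00b3400b2700b4100c2400c2300b0b00b0a00b0700b0d00c2100c1e00b0200b0000c1f00c2000afe00c0100c0200c1300b3e00c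0800c1b00af300c0b00af100c1800bef00bee00bf000aeb00bf200b3600ae600ae400af500af400c1000ae200c0f00af700adc00af900ada00bf900bf800c0900ad800c0700c0300b4400b4300ad700ad600afa00acd00afc00b5300b8100b8000b5800ac300b5400bf400bf300b3800abd00b3a00add00b4200ab600b3d00ad900bf600ac200aed00aae00aef00abe00bf100af000b2d00aa600b2f00aec00bec00b6500b6400b4a00a9f00b5100b6000b4800b3000b1c00a9400b2900b2c00be400b7f00bda00bdd00be000b7d00b8200a8c00b6100bdc00a8d00a8700a9000a8400a9100b6300bd900b5f00a7a00b4600a7800b8900b8800b7600bb800bc200a6700ba700b7400bc400bcf00b7800a6000b7a00a6100b9b00a5800bba00bbc00a5600bcd00b5e00b6800a4f00b6a00b5a00bc800bc300b5b00a6500bb900a6a00a4a00a6c00a4900a6900bbd00a5700a3900a3600bc100b5d00a2f00bbb00bbe00a3d00a5a00a3b00a3000a5b00a2e00a4500a6d00a4300b0f00a1c00bb200a7100bb500bb400a1800a1600bb300a1200a1000a1a00a1900baf00a0e00bae00a0b00bab00afd00b8300a0600b8500b9100a0000b93009fe00b9800b9700ba4009fc00ba200b6b00b6e009f500b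7000b6700b9d00a5d009f2009f000a0100b9a009ed00b99009fd00b9500a03009ea00a05009e800b7700b92009e500b9000b7300b8c00b8700b8600a6f009de00a70009e300a08009d700a0a009df00b8400acc00a89009d000a8b00ac800a92009c900a8e00ac400b7e00b7100a62009c100a6400b6d00b79009eb00a6e009bd00a66009bc009e600b75009e4009c7009f8009b8009fa009b7009c200b6f009c0009fb00a52009b300a54009b2009f600b69009f400aa400a7b009aa00a8600aa000b62009a500a9d00a7900a9b00a5500a33009a100a47009a000a5000b5c00a4e00ac700b4b00b4d0099700ac500b4f00b5200ac90099000acb0099100b4e00aa10099500b4c0099a0098c0099c0098b00999009870099d0098500aa300b4700a9c00b450097a00a76009790096c00a730097700b0c00ad300ad500abb00b1100b240095800b2600b220095600b3f00ab900b2800abf0094f00ac100b3700b39009500094e00aea0094700b1400b170094400b3500b2000b3200a9a00aa90094000aab0093f00a9500b2e00a930093c009430093a00b2500b230095700a970095500b120095b00b10009360095d009350095a0093300b180094500b160092400b1f009210092000b1e00a35009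7000a990091a0091900b1500b1b00b130092a0094900971009270091b0094a0097200918009320095e009660092f0095f009640090e00a1e0090800b0e0090500b0400b0300b090090200b0800900008fe0090600b06008fb00b050090300b01008f7008f600aff00acf008f000ad100a0700afb00adf008ed00ae1008eb00ae700af8008e800af600ae300af200aac00ab1008e400ab3008e300aa700aee00aa5008ee00ae9008df00ae8008de008e900ae5008e700abc00ae0008da00ade008d900ab700adb00ab500ad200961008cd0096300ace00ad4008d3008f3008c9008f5008c8008ce00ad0008cc009d500992008c000994009d100aca009cf0099e008bc00996008bb009ca00ac6009c800ab400952008b700954008b600aaf00ac000aad008b3008db00aba00ab8008d8008af008b800ab200ab0008b5008ab008e500aaa00aa8008e2009b00097b008a600989008a5009ab00aa2009a9008a2009a70097800a9e009a40089e0094100a9800a960093e009ce00a7d00a810089000a8300a7f0088e00a8f009cc00a85009d200887009d400a8800a8a00888008860088200a8200a800088f009ad0088d00a7e0089300a7c0087f008950087e008920087c0087b008960089b00878009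af00a7700a75009a600a720087000975009740086f00a2700a2b00a3400865008610096d00a740085b0085a009690086e0086d00a230084f00a20009e000848009e20096000a2100a2400a410084300a4400a3f0084000a6b00a4800a6800a46009c40083c009c60083b00a5f00a6300a5e0083f0083d0083a00a2800a2c0083300a5c0083200a3c00a5900a4c0082f009a200a5300a510099f0082b00a4d0083100a4b00828008270093700a4200a400084100a3e00a25008460085300a220082000845008520081d00a2d008340086600a2a008120081100a3a009230080e00a3800a370091f008670091d0080700a2900a3200a3100a26008680081500814008690080600805008540081b0081a00a1f0084e007fb0090b007fa0090900a1d007f300a1300a1b007ef00a0f00a17007f400a15007eb00a14007ea007f000a11007ee007e7007e500a0d00a0c009da007e1009dc007e0008f100a09008ef009f300a04007dc00a02007db009ee009ff009ec007d8009b4009f9009f7009b1007d4007dd009f1009ef007da007d0009be009e9009e7009bb008d700897007c700899009dd0084b007c40084d007c3009d8009e1009d6007c0007c5009db009d9007c2008c60088a007bb0088c007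ba008c1009d3008bf007b7008bd009cd009cb008ba007b3009b9009c5009c3009b6007b0009bf007cf007ce007ad009ba007b2007b1007aa009b5007d7007d6007a6008a7009ae009ac008a4007a3009a8008a1008a0007a0009a30082e0082d0097d00798008d400792008d60097e009830078e00986009810078b0099b0098a0099800988008c300787008c5007860098f009930098e0078a00788007850098d007800077f00984009820078c009800097f007910079c0097c0077a007900079b007770079d0077500774009760097300968009670086c0076c0076b00914009170091e009280096f0075e008630075d0096e0075f0075700756007520085c0096b0096a0074e0074d008570076a0076900911009300092c007410073f009650090d008d00073b008d20073a008490096200847009310092d007360095c0073500934009590094d007320094c00953009510094b007340072c0073100730007280092900948009460093b00725009420089d0089c007220093d007270072600939009380071f007440071d0082300748008210092e00737007450092b00747009100090f0074600713007120076000916009150070700926009250081000704009220080d0080c007620080a008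09006ff0091c0091300912007630070a0070900764006fe006fd00765007100070f0090c0090a006f6007f8006f5007f6006f40090100907006ec006eb008fc00904008fa006e8006ed008ff008fd006ea006e4008f9006e3008f8007e4006e0007e2008f4008f2007df006dc008e0008ec008ea008dd006d9008e6008aa008a9006d6008e1006db006da006d3008dc008b2008b1007cd00795006ca00797006c9007c8008d5006c6008ca008d1008cf008c7006c3008cb006c5006c4006bf007bc008c4008c2007b9006bc008be007b6007b5006b9008b9008ae008ad008b4006d2006d1008b0006b8006b7008ac006d8006d7006b0008a8007a5007a4008a3007a2007a10089f00724007230087300879008750069d0069b0089a007ca00698007cc0069700793008980087a008760069300894006920087d00891008850068f008840088b008890088300691006890068e0068d008810088000686006a000684006a40087700694006a100874006a30087200871006a20067c0067b006a500679006780076d0086b0086a008560085500768006700066f007fe00801008040080b0066300816008600086400862006610075b0075a0065c006620085f0085e0066500658006570085d00667006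530074f00859008580064f0064e0066e0066d008220081c008190081e008250064500640008510063f008500073e0063c0073c0084c0084a00739006380081f008440084200839006350083e00837008360063200637006360083800634006330062d008350082a00829008300079f0079e0082c0062c0062b0082600644008240064600623006220064a007180064b007160071500647008180081700669007fd007fc0066800617006160066600803008020060f0081300706007050080f007030070200701007000080800800007ff006110061000609006080061500614007f9007f7007f500604006f2006f100603005fe005fc007ec007f2007f1007e9005f9007ed005fb005fa005f5007e8007e6006e2005f2007e3006df006de005ef007de007d3007d2007d9007a9007a8007d5005ee005ed007d1007af007ae006d0006a8005e4006a9005e2006cb007cb007c9006c8005df007c6007bf007be007c1005de005dd005da007bd006be006bd007b8006bb006ba007b4007ac007ab005e8005e7005d5005d4005ec005eb007a7006af006ae006ad006ac0062a00629006cd006cf005ca005cc007700077b0077600773007780077d005bf005ba0079a005b900799005b60069900796007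9400696005b2007790078f0078d00784005af007890078200781005ac005b1005b000783005ae005ad0077e005be0077c005c0005a4005a3005c4005c50067e005c10077200771005c70076f0076e005c600599005980059700596006720067100767007660074a007490058f0058e0066a007110070e007510070b007550058000761007580075c0057f0057e0065e0065d00759005830057700582007540075300573005720065400750005850056e0056d0074c0074b0056b0058d00717007190056400562007140071c007430071e0055f005600055b00742007400063e005580073d0063b0063a00555007380072e0072d007330072b0072a0072f00554005530055200551007290072100720006ab006aa0054d0054c0056700625005610071b0071a005860054500544005680061d0061c005880061a00619005870070d0070c006f8006f70053c0053b006fc006fb007080060e0060d0060c0060b0060a006fa006f900538005330053a006f3006f0006020052f0052e00529006ef00527006ee006e7006e6006e9005260052500522006e5005f4005f3006e1005f1005f0006dd006d5006d4006b2006b10051d0051c006b6006b500517005e5006ce00515006cc005e1005e0006c7006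c2006c10051200511006c0005d9005d8005d7005d6006b4006b3005190050c0051b005d0005cf005ce0054b006a6005cb006a700504005050067a006770067f00680004f6004f40067d006830069f00685004f1004f2004ed0069e0069c005b8004ea0069a005b5005b4004e7006950068b0068a0069000688006870068c004e6004e5004e4004e3004f9005a6004f30068200681004fd004db004da004fa0059e004ff0059c0059b004fe00676006750067400673004d2004d1004d00059200591005900066c0066b0064c004ca0058b0058a005890061b006180062100652004c30065b00659004b700664006600065f004b3004b20057b004bd004ae004b60065a004ba004a8004a70065600655004a500570004c40065100650004a10064d0049f004c90061e006260049b00497006490049500648006240064200643004940049300490006410055a005590063d00557005560063900631006300062f0062e0048b0048a004890062800627005cd004860049c0054800547004bc006200061f0047f0047e004be005400053f0053e0053d0061300612006050047900607005370053600535005340060600476004720047800601006000052d0046e0046d00469005ff00528005fd005f8005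f70046600465005f600521005200051f0051e005ea005e9005d100460005d30045c005e600516005e30051400513005dc005db004580050f0050e0050d005d20045d004540045f005080050700485005c8005c9005030044b0044d004470059d0059a005a2004420043e0059f005a70043900435005c300433005c2005a5005bc005bd00432004310042e005bb004ec004eb005b7004e9004e8005b3005ab005aa005a9005a80042900428004270043a004de004dd00441005a1005a0004200041f00443004d6004d5004d4004d30059500594005930041a00419004cd004cc004cb0058c0056900413004c70040a004c50056f005840040500403004c000400005410057a00546003fa00576004100040c0058100578003f6003f30057d0057c003f0004b0003f900579003fc003eb003ea003f20040d0057500574003e600571003e400407004060056c003e10056a003df004120054900566003dc003db003d70056500496005630055e0055d003d4003d30055c0048f0048e0048d0048c005500054f0054e003ce003cd0054a00506003ca00483003fd00481004800054300542003c30047c0047b0047a0053900530003bf0053200475004740047300531003bc003b8003be0052c0052b003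b3003b2003b00052a00468004670052400523003ad0046300462004610051a00509003a90050b005180045b0045a0045900510003a200456004550050a003a60039e003a8004500044f003c9005010044c005020044a00449004480050000395003960038c004d7004fc004dc0038600385004fb00388003800037f004df004f80037d0037c00378004f700434004f5004f0004ef0037500374004ee0042d0042c0042b0042a004e2004e1004e00036f0036e00424003890042200421004d9004d8003670041d0041c0041b004cf004ce0036300362004160041500414004c80049d0035c004b9003560040e004a9004b80034e004c60034c00408004a3004a2004c200348004c10034600401004bf003970034400482004ad00352004bb004af003400033d004b50035900358004b4004aa00338004b100336003ee0033c00353004ac004ab00330003500034f004a60032d004a40032b00349004a0003280049e003260035b0049a0049900324003230032100498003d6003d500492004910031e003d1003d0003cf00488004870031a00319004840044e0031600343003c6003c5003c40047d00310003c1003c0004770046f0030c00471003bb003ba003b90047000309003060030b003b4004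6c0046b003040046a003af003ae0046400300003ab003aa0045e00451002fc00453003a5003a4003a300457002f6003a00039f00452002f9002f2002fb0039a0039900315003ff004450044600394003930039200391003900038f0038e0038d00444002ef002e4004230043d002df004400043f002da002d7002d6002e00043c0043b002d10043800437002ce002cd002cb004360037700376004300042f002c80037200371003700042600425002c4002c3002dd0036a00369003680041e002bd00365003640041800417002b9002b80035f0035e0035d00411003dd002b4003f5003f4002ae0040f002ac00354003ec003fb002a7003e8003e70040b002a400409002a20034a003e2004040029f004020029d003fe003c70029b00298003f8002b3002b2003f7003ed00295002b0002af003f100292003ef00290003340029a002a9002a8003e90028b002a5003e500288003e300286002a0003e000284003de00325003da003d900282003d8003200031f003d20027e0031c0031b003cc003cb0027a00279003c80039800277003130031200311003c2002740030e0030d003bd003b500270003b70030800307003b600305003b10026d0030200301003ac00269002fe002fd003a70039b002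650039d002f8002f7003a100262002f4002f30039c002f1002f00038b002ee002ed002ec002eb002ea002e9002e8002e7002e6002e50038a0025f002e20025300381003870024a0036b0024700244003840024f0024e003830038200241002460024c0024b0037e0023c002cf0037b0037a0023900379002ca002c90037300235002c6002c50036d0036c0023100230002c0002bf002be003660022c002bb002ba003610036000228002b6002b50035a0033f0033e002220033a00339003570021f003550021d002aa003320033100351002180032e0034d002150034b00213003290034700211003450022500342003330020f0034100224002230033b0020b00220003370020800335002060021b0021a002190032f00203002160032c002000032a00212003270028300322001fd002800027f0031d001f90027c0027b0031800317001f50031400276002750030f001f200272002710030a0026f0026e00303001ef0026b0026a002ff001eb0026700266002fa0026400263002f50026100260002e30025e0025d0025c0025b0025a002590025800257002560025500254002e1001e5001d6001d5002d9002d8001cf002d3002d2002de001ca001d2002dc002d4001c7002db001d1001d0002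d5001c3001cd001cc001cb002d0001bf0023a002cc001bc0023700236002c7001b80023300232002c2002c1001b40022e0022d002bc001b10022a00229002b700227001ae0029c0029700296002b1001aa00293002ad001a7002ab001a50028e0028d0028c002a6001a200289002a30019f002a1002850029e001af002990019c001ac001ab0029400198001a800291001950028f001a4001a30028a00192001a0002870019e001fe002810018f001fb001fa0027d0018b001f7001f600278001f4001f300273001f1001f00026c00185001ed001ec00268001ea001e9001e8001e7001e600252001e4001e3001e2001e1001e0001df001de001dd001dc001db001da0016f0016e0017000251002500016b001680024800243002420024d001640023f0023e0023d002490016000169002450015d0016600165002400015900162001610023b00155001bd0023800153001ba001b9002340014f001b6001b50022f001b3001b20022b001b000210002260014a0020d0020c0022100146002090021e001430021c002050020400217001400020100214001ff0014b0020e0013d00148001470020a0013900144002070014200141002020013f00190001fc001330018d0018c001f80018a00189001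880018700186001ee00184001830018200181001800017f0017e0017d00122001210017a001790017800177001760017500174001730011700116001d7001d9001d80011300114001d400110001c8001d30010d001c5001c4001ce00109001c1001c0001c9001050010e001c6001030010b0010a001c2000ff0010700106001be00154001bb000fa0015100150001b70014e0014d0014c0019d001ad000f50019a00199001a9000f100196001a60019400193001a100191000f60019b000eb000f3000f200197000f0000ef000ee00135001340018e0013200131001300012f0012e0012d000e2000e10012a001290012800127001260012500124001230017c0017b000d8000d70011e0011d0011c0011b0011a00119001180017200171000ce0016c0016d000cb000cc0016a000c80015e00167000c50015b0015a00163000c100157001560015f000c60015c000bc000c3000c200158000c0000bf000fc000fb00152000f9000f8000f70013e00149000b30013b0013a00145001380013700136000b5000b40013c000b2000b1000b0000e7000e6000e5000e4000e30012c0012b000a9000a8000de000dd000dc000db000da000d9001200011f000a00009f000d4000d3000d2000d1000d0000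cf0011500097001110011200094000950010f00090001040010c0008d001010010000108000fe000fd0008f0008e001020008c0008b0008a000b8000b7000b6000ed000ec000f4000ea000e9000e8000840008300082000ac000ab000aa000e0000df0007d0007c000a5000a4000a3000a2000a1000d6000d50007500074000730009b0009a0009900098000cd0006d000c9000ca000690006b0006a000c7000be000bd000c4000bb000ba000b90006600065000640008600085000af000ae000ad000600005f0007f0007e000a7000a60005c0005b0005a0007800077000760009e0009d0009c0005500054000700006f0006e000960004e0009200091000930004d0004c0008900088000870004900048000610008100080000450005d0007b0007a000790004300042000570005600072000710003d0003c00051000500004f0006c00068000670003700036000630006200034000460005e000320005900058000300002f0003f0002c00053000520002a0003a00039000380004b0004a00026000470002400044000230004100040000210002d0003e0001e0003b0001c0002800027000350001a0003300031000180002e000160001f0002b00013000290001b0002500019000220000f000200000e000140001d000120000b0001000017000150000d00008000110000a000090000c0000700006000050000400003000020000100000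

noncomputable def lvP3_1 : ℕ := nat_lit 0xc5000c4300c4200c5100c4e00c5300c5600c3200c5200c2700c3300c3100c1d00c1c00c1b00c1a00c1900c1800c4400c5500c5400c1300c1100c0e00c1700c1500c1400bfd00bfc00bfb00bfa00c2900c3000c2b00c2800c4c00c4f00c4b00c3600bd400bd300bd100bd000c3500bd600c3700c3400c4d00bc500bbf00c2400c2300c2200c2100c2000c1f00c1e00c4a00c4900c4800c4700c4600c4500c3e00bd500c3d00c3c00c4100bc200c4000bd700bd200c3f00ba800ba700ba600ba500ba400ba300ba200ba100c0500c0400c0300c0200c0100c0000bff00bfe00c3b00c3a00c3900c3800b9800b9700b9600b9500b9400ba000b9f00b9e00b9d00b9c00b7c00b7b00b7a00b7900b7800bea00be900be800bc400bcf00bc600bc300bc000be200be100be000bdf00bde00bdd00bdc00bdb00bda00bd900bd800c1000c2a00c1600c2f00c2e00c0f00c2d00c2c00be600b4000b3f00b3e00b3c00b3b00b3a00b3900b3800be500c2600be700be400c1200bc100be300c2500b4100b2300b2200b2700b2600b1a00b1900bb700bb600bb500bb400b0800bb200bb100bb000baf00bae00bad00bac00bab00baa00ba900c0d00c0c00c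0b00c0a00c0900c0800c0700c0600bf400bf300bf200bf100bf000aea00ae900ae800bf900bf800bf700bf600bf500ae100ae000adf00ade00af500af400af300af200af100b8a00b8900b8800b8700b8600b8500b8400b8300b8200b8100b8000b7f00b7e00b7d00bef00bee00bed00bec00beb00abc00abb00aba00ab900ae300ae200ab400ab300ab200ab100aec00aeb00aac00aab00aaa00aa900abe00abd00b6500b6400b6300b6200b6100b6000b5f00a9a00a9900a9800a9700b3700b2a00b5800b5700b5600b5500b5400b5300b5200b5100b5000b4f00b4e00b4d00b4c00b4b00b4a00b4900b4800b4700b4600b4500b4400b4300a6e00bbe00bce00bcd00bcc00a6600bcb00bca00bc900bc800bc700b5a00a5d00a5c00a6a00a6900a6800a6700a5500a5400a5300a5200a6100a6000b5900a4700a4600bbb00bba00a4200a4100bbd00bbc00a4900a4800b1f00a3800b1d00a3300a3200bb900bb800a2d00a2c00a3e00a2900a2800a4300a2500a2400a2e00b0f00a1d00b0d00b0c00b0b00b0a00b0900bb300a1600a1500a1400b0400b0300b0200b0100b0000aff00afe00afd00afc00afb00afa00a0500a0400a0300a0200b8f00b8e00b8d00b8c00b8b009fb009fa009f9009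f800b6d00b6c00b9b00b9a00b99009f3009f2009f1009f000b7300b7200b9300b9200b9100b90009eb009ea009e9009e8009fd009fc00ad700ad600ad500ad400ad3009dd009dc009db009da00ace00acd00acc00acb00aca00ac9009cf009ce009cd009cc00ac400ac3009c7009c6009c5009c400b6700b6600b7700b7600b7500b74009bf009be009bd009ec00b7100b7000b6f00b6e009ba009b9009b8009f400b6b00b6a00b6900b68009b5009b4009b3009c0009b0009af009ae009ad00aa000a9f009a8009a7009a600a9b00b5e00b5d00b5c00b5b009a3009a2009a100a5e0099e00a9100a9000a8f0099600a8d00a8c00a8b00a8a00a8900a8800a87009890098800a8400a83009840098300a8000a7f0097f0097e00a7c0097b00a7a0097800a78009760097500a750096b009690096800a7100a7000a6f00b420095e0095d0095c00b3400b3300b3200b3100b3d0095500954009530095200b2c00b2b0094c00a9300b3600b350094a009490094800947009570095600b3000b2f00b2e00b2d0094200941009400094e0093d0094d009390093600b2100b2000b2900b28009320093100b1300b2500b240092e0092d00b160092a00929009330092600a3900b1e009220092100a35009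1e00b1c00b1b0091c0091b0091a00b1000b1800b17009170091600b1500b14009140091300b1200b11009110091000a2100a2000a1f00a1e00b0e009080090700a1a00a1900a1800a1700b0700b0600b050090100900008ff008fe00a0f00a0e008f900a0c00a0b008f5008f4008f300a0700a0600af900af800af700af6008ee008ed008ec008eb00ad900ad800af000aef00aee00aed008e6008e5008e400aad00ae700ae600ae500ae4008e1008e0008df00ab500add00adc00adb00ada008dc008db008da008e7008d3008d2008d1008d0009df009de00ad200ad100ad000acf008cb008ca008c9009d6008c6008c5008c4008c3009d1009d000ac800ac700ac600ac5008be008bd008bc009c800ac200ac100ac000abf008b9008b8008b700aa500ab800ab700ab6008b3008b200ab000aaf00aae008af008ae00aa800aa700aa6008ab008aa00aa400aa300aa200aa1008a8008a7008a6009a900a9e00a9d00a9c008a2008a100a9600a9500a940089e0089d00a920089600895008940099a00999009980099700a8e0088d0088c0088b0088a0099100990008840098e008810087f0098b0098a00a8600a850087b0087a0098500a8200a8100877008760098000a7e00a7d008730087200a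7b008700097900a790086e00a7700a760086c0086b008690086800867008600085f0085c0085b00a740085900a7300a72008560085400851009640084d0084c0084b009600095f00a6d00a6c00a6b0084600845008440084300a5700a5600a6500a6400a6300a620083e0083d0083c00a4e00a4c00a5f0083700a5b00a5a00a5900a580083500834008330083f00a5100a5000a4f0082f0082e00a4d0082b0082a0082800a4b008260093700a4a008200081f00a3b00a4500a440081c0081b00a4000a3f008190081800a3d00a3c008160081500a3a00813008120092300a3700a360080e0080d00a340080a00a3100a3000a2f008070080600a2b00a2a0080300a2700a260080000a2300a22007fd0090e0090d007f9007f80090a0090900a1c00a1b007f4007f3007f2009030090200a1300a1200a1100a10007ed007ec007eb008fa00a0d007e8007e7008f600a0a00a0900a08007e3007e2007e1008ef00a0100a00009ff009fe007de007dd007dc009e4009f7009f6009f5007d8007d7009ef009ee009ed007d4007d3009e7009e6009e5007d0007cf007cd007cc007cb007ca009e3009e2009e1009e0007c6007c5007c4008cc009d9009d8009d7007c0007bf009d5009d4009d3009d2007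bd007bc007bb008bf009cb009ca009c9007b7007b6009c3009c2009c1007b3007b2007d9009bc009bb007af007d5009b7009b6007ac007d1009b2009b1007a9009ac009ab009aa007a6007a50080f009a5009a4007a200808009a00099f0079f0079d0079a0079700796007950099d0099c0099b00791007900078f0078e0088f0088e0099500994009930099200789007880078700886008850098f00782007800098d0077e0098c0077a007790087c00987009860077600775009820098100773007720097d0097c0076f0097a0076c009770076a009740097300767009720097100970007600075f007610075b00758007570096f0096e00754007620096d0096c0074e0096a0074b0085700967007490096600747007460096500742007410084e0096300962009610073d0073c0073b008470095b0095a00959009580073800737007360094300951009500094f00732007310072e007650094b0072b0094600945009440072800727007640093f0093e00724007630093c0093b007210093a0071f009380071c0071b00823007170071600935009340071400713009300092f007100092c0092b0070d00928009270070a00925009240070700706008a3009200091f00703007520091d007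000089f0091900918006fe0072200915006fb0072500912006f90072c0090f006f7006f6007fa0090c0090b006f3006f2007f5009060090500904006ee006ed006ec007ee008fd008fc008fb006e8006e7008f8008f7006e5006e4007e4008f2008f1008f0006e0006df008ea008e9008e8006dc006db008b4008e3008e2006d8008b0008de008dd006d5008ac008d9008d8006d2008d7008d6008d5008d4006cc006cb006ca008cf008ce008cd006c6006c5006e9008c8008c7006c2008c2008c1008c0006bf006be006e1008bb008ba006bb006dd008b6008b5006b8006d9008b1006b5006d6008ad006b3006d3008a9006b100708008a5008a4006af00704008a0006ac006ff0089c006aa0089b006a3006a20089a0069e0069d0089900898008970069a0069900698008930089200891008900069500694006930078a0088900888008870068f0068e0068b006a5008830068800882006860088000683006820067f0087e0087d0067d0067c008790087800679008750087400676006890087100673006710086f006700086d0066d007680086a0066b00838008300082c0085d008640086600865006630066200660008630065d006650086200861006580065c0085e006550080b00653006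670074f0085a0064e0074c008580074a008550064b0085300852006470064600648008500084f00641006400073e0084a00849008480063c0063b0084200841008400063800637006690083b0083a00634006680083900631007fe008360062e0066600832008310062c008010082d006290080400829006270082700624006230082500824006200061e0061d00822008210061a0081e0081d00617006350081a006140063200817006120062d0081400610007a700811008100060e007a30080c0060b0065e00809007a0008050060800628008020062a007ff0062f007fc007fb00604006f4007f7007f60060200601005ff007f1007f0007ef005fc005fb007c1007ea007e9005f8007e6007e5005f5005f4007b8007e0007df005f1007b4007db007da005ee007b0007d6005eb007ad007d2005e9007aa007ce005e7006d0006cf006ce006cd007c9007c8007c7005e2005e1005fd007c3007c2005de005f9007be005db005f6007ba007b9005d9005f2007b5005d6005ef007b1005d4005ec007ae005ea007ab005e8007a80060f007a4005cf0060c007a1006090079e006a9006a8006a7006a600783005c50079c0079b005c1005c0005c20079900798005bb005ba007940079300792005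b6005b50078d0078c0078b005b2005b1005c70078600785005ae005c600784005ab0077000781005a80077f005a5005a40077d0077c005a10059f0077b0059c007780077700599005af0077400596005ac0077100594005a90076e005910076d0076b0058e0066e007690066c007660058b007330072f007500072900759005820075e0075d0057f0075c0057c007010075a0075500577005830058000756005720057d0075300654007510056d00651005850064f0074d0064d0064c0074800568005650074300745007440056200561005860055e007400073f0055b0055a005880073a0073900557005870073500734005540071100730005510070e0072d0054f006f80072a0070b007260054c006fa00723006fc0072000549005480071e0071d005450055f0071a0054200719007180054000558007150053d00555007120053b005520070f005500070c0054d00709006b00070500536006ad007020057b006ab006fd0054a0054b0054e006f50052f006f1006f00052c006ef00529006c7006eb006ea00526006c3006e600523006c0006e3006e200521006bc006de0051e006b9006da0051c006b6006d7006b4006d4006b2006d1005e6005e5005e40052a006c9006c80051400527006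c40051100524006c100522006bd0050e0051f006ba0051d006b70051b0051a0051900537006ae0053500533005cc005cb005ca005c9005c8006900068c006a4004fa004f70069f006a1006a0004f4004f3004fd004f00069c0069b004ed004ec004ff0069700696004e9004fe0069200691004e60067a0068d004e3006770068a004e10067400687004df004de0068500684004db004f100681004d800680004d6004ea0067e004d3004e70067b004d1004e400678004e200675004e0004cd00672005900058f0066f0058d0058c0066a004c7005890063d006390064300650004b90065a00664004b60065900661004b2006560065f0060a004ae004bd004b70065b004a7004b4004ba004b300657004b100570004a20056e006520056c0056b0056a005690064a0049c0049a0064900497004bc006450064400494006210064200491004be0063f0063e0048f0061b0063a0048c00618006360048a0061500633006130063000605006110062b006060060700626006250048100495006220047e004920061f004900061c0047b0048d006190048b00616004890048800486005d00060d005ce004b0005cd004840048500487006030046e0052d006000046b005e3005fe00468005df005fa004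65005dc005f7005da005f300462005d7005f0005d5005ed005d3005d2005d10046a005170051600469005e00045900466005dd0046400463005d800461004600045f0045e0045d00475004740047200505005040050300447005010044b005b7005b3005bd0043e00442005c40043a00438005c30043500441005bf005be00432005a2005bc0042f00443005b9005b80042d0059d005b40042a0059a005b00042800597005ad00595005aa00593005a7005a60042200433005a30041f00430005a00042e0059e0041c0042b0059b004290059800427004260042500592004cc004cb004ca004c9004c80058a0040f0040e0040600410004c2004c1004c0004bf0055c0057900563003f90057400584003f50057800581003f200575005730057e0057100534003fa0057a003ea003f7003fc003f6003e7003f300576003f1003f0003ef004a30056f004a1004a00049f0049e0049d00567003dc00566003d9003fd00564003d60054600560003d3005430055d0054100559003d00053e005560053c005530053a005390053000538005310053200483003d700547003c4003d400544003d2003d10053f003cf003ce003cd003cc003ca0050800507003ee00506003c8003c9003cb0052e003b2004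6c0052b005180051500528003ae0051200525005100050f005200050d0050c0050b0050a00509003b00045b003af00513003ad003ac003ab003aa003a9003a8003a7003a6003bb003ba003b80044d0044c005000044a0039300448005020038c0044500395004ee004fb004f50038500386004fc0037f0038300388004f90037d004f80037a00389004f600377004dc004f200374004d9004ef004d7004eb00371004d4004e8004d2004e5004d0004cf004ce0042400378004dd0036800375004da0037300372004d5003700036f0036e0036d0036c004160041500414004130041200411004c3004c6004c50034f003590035700356003550035400407004c4004050040400403004020040100400003ff003fe00498004ab0033f004af004bb0033c004ac004aa004b800339004a8004b5004a6004a5004a40047300340003310033d004ad0033b0033a004a900338003370033600335003e2003e1003e0003df003de003dd0049b00323003da004990034300482004960031f0047f004930047d0047c0048e0047a0047900478004770046f00476004700047100321003c600320004800031e0031d0031c0031b0031a003190031800316004500044f003340044e00314003150031700305003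b30046d003b10045c0045a00467004580045700456004550045400453004520045100302003a40030100300002ff002fe002fd002fc002fb002fa002f9003080030700306003970039600444003940044900392002ed002eb0038f0038e0038d00446002e4002ef004360043b002d90043f00440002d60043c002da002d2002d70043d002d500439002cd0037b00437002dd0042300434002c900420004310041e0041d0042c0041b0041a004190041800417002cb0036a002ca00421002c8002c7002c6002c5002c4002c3002c2002c10035f0035e0035d0035c0035b0035a0040c002af0040b0040a0040900408002a8002b3002b1002b00040d002ae002ad002ac002ab002aa003490034800347003460034500344003d8003420029a003ed003fb00296003eb003f8003e9003e8003f4003e6003e5003e4003e3003b90029800297003ec0029500294002930029200291002900028f003290032800327003260028300324003db00322003c7003c5003d5003c3003c2003c1003c0003bf003be003bd003b5003bc003b6003b700280003120027f0027e0027d0027c0027b0027a0027900278002770039a0039900398003b40030400303003a5003a3003a2003a1003a00039f0039e0039d003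9c0039b0026b0026a00269002680026700266002650026f002f00038a002ee00391002ec003900025e0025c0025b002e7002e6002e50038b00253002e20025f0024b0024f0024d00379002dc0024600382003870024200380003840037e00244002430038100241002400023a002ce0037c002cc0036b0036900376003670036600365003640036300362003610036000237002bf002360023500234002330023200231002300022f002b6002b5002b400352002230035100350003580034e0034d0034c0034b0034a00224003530022200221002200021f0021e0021d0021c002a00029f0029e0029d002100029b003410029900333003320033e003300032f0032e0032d0032c0032b0032a0020d0028d0020c0020b0020a0020900208002070020600285002840032500282002810031300311003100030f0030e0030d0030c0030b0030a00309001fb001fa001f9001f8001f7001f6001f5002f10026e0026d0026c002f8002f7002f6002f5002f4002f3002f2001ed001ec001eb001ea00260002e1002ea0025d002e9002e8001e3001e2001e1001e0002560025500254002e3001d500251001e5002df001d0002de001d1002e0001cf001ce001c800247002db00245002d4002d3002d8002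d1002d0001c50023e001c4001c3001c2002cf0023900238002c0002be002bd002bc002bb002ba002b9002b8002b7001ba001b9001b8001b7001b6001b5001b40022700226001af002a9002b2002a7002a6002a5002a4002a3002a2002a1001ac0021a001ab001aa001a9001a8001a7001a6001a500212002110029c0020f0020e0028e0028c0028b0028a002890028800287002860019a0019900198001970019600195001ff001fe001fd001fc002760027500274002730027200271002700018d0018c0018b0018a001f0001ef001ee002640026300262002610018400183001e7001e600250001e40025a00259002580025700179001780017700176001db001da001d90017c0016c001d600252001d4001d3001690024c0024e0024a0024900166001cc00165001640016300248001c7001c60023f0023d0023c0023b0015b0015a0015900158001bd001bc001bb0022e0022d0022c0022b0022a002290022800151001500014f0014e00225001ae001ad0021b002190021800217002160021500214002130014800147001460014500144001430019e0019d0019c0019b0020500204002030020200201002000013b0013a0013900138001900018f0018e001f4001f3001f2001f100132001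31001870018600185001e9001e80012d001290012800127001260017d001d8001200012a001df001de001dd001dc0011d0011c0011b001720012c001140016f001220016d001d70016b0016a001d20016800167001cd001cb001ca001c90010b0010a00109001080015e0015d0015c001c1001c0001bf001be0010100100000ff001540015300152001b3001b2001b1001b0000f9000f80014b0014a00149001a4001a3001a2001a1001a00019f000f3000f2000f1000f00013e0013d0013c00194001930019200191000ea000e90013500134001330018900188000e50012f0012e0018200171000e00017a00181001800017f0017e000dd000dc000db0016e000d80017b000d6000de001750017400173000d2000d1000cf00117000e20011500170001130011200111001100010f0010e0010d0010c0016200161001600015f000c3000c2000c1001040010300102001570015600155000bb000ba000fc000fb000fa0014d0014c000b6000f6000f5000f40014200141001400013f000b2000b1000ed000ec000eb0013700136000ad000e7000e600130000e4000e300116000a90012b000a70011e001250012400123000a3000a200121000a00011f0009d000a5000a40011a0011900099001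18000ce000cd000cc000cb000ca000c9000c8000c7000c6000c5000c40010700106001050008c0008b000be000bd000bc000fe000fd00087000b8000b7000f7000b5000b4000b3000ef000ee00082000af000ae000e8000ac000ab000aa000e10007d000df0007a000d4000d3000da000d900076000d7000740007b000d5000710007800077000d00009800097000960009500094000930009200091000900008f0008e0008d000c0000bf000640008900088000b900086000850008400083000b000081000800007f0007e000a80005b0009e000a6000580009b0009a000a10005c0009f00054000590009c00057000560006e0006d0006c0006b0006a00069000680006700066000650008a000630006200061000600005f0005e0005d000750007c000420007200079000700006f000430007300041000400003f000500004f0004e0004d0004c0004b0004a000490004800047000460004500044000550005a00053000520005100031000300002f0002e0002d00039000380003700036000350003400033000320003e0003d0003c0003b0003a0002300022000210002000028000270002600025000240002c0002b0002a00029000190001800017000160001b0001a0001f0001e0001d0001c00011000100000f000120001500014000130000b0000a0000c0000e0000d00007000080000900004000050000600003000020000100000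

noncomputable def lvP3_2 : ℕ := nat_lit 0xc4600c4e00bd500c4200bd300c5400c1900c3000c2e00c0d00c0a00c2900c1300c3200c1100c2700bfc00bfd00bac00c5200c1600c2a00af400c2600c0600bee00bfb00b3e00c5600bf300c2b00c2500c1c00b3b00c2d00ba500c3600c3700c4900c3f00c4300bcf00c3d00bca00c4a00bbf00bd100ba800bd400c4b00c2200b5500b0d00b0b00c0400bad00b0a00c4100c4f00c4000c4d00c3a00c3b00ba100c5100b7b00c3900bd600b8f00b8e00b8d00bc400bc500c4700c3e00b9800b9700b9600bc200b7c00ba700c2300b4400afe00ad600baa00b5700b8000b5000bcc00c5000b9f00c3500bce00c4c009fd009fc00bbb00b8b00c3c00b6700b6600b7a00a6700bd000b6d00b6c00bc600b4900b6400b5300bb900c3400a6100a6000bc900bff00bdd00bb600a8c00bb700bdc00be100be900c0000bea00be000af300c1d00c5300c0e00c5500be700be600c1500c2800c0b00bf400c1800bf500bfa00b3700b2a00bf200b2c00c2f00b1a00b2b00af500b1d00b3a00c3100b26009560093300b3c00b1000c0f00b1300bb200bd800bb100bb00090800bde00a1a00a1900a1800b0000b0f00b8900b8a00afd00b8800c1a00c1700b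f900bf800bf700c1200bef00c0c00af100c1400abe00abd00bed008ee008ed00a9a00b4000c3300ad900ad800b2700abc00abb00aea00aac00c0800c1b00ae300ae200b3f00a7100c4400b8600a0b00ba9009df009de00afc00bdf00a9000be200ac400ac300a8400b3100c2c00aec00aeb00be50095d008db008da0093200c10008e7008eb008b8008b700aab00bf000aa500947008e5008e400a9900b3800aad00a7a00bdb00aa000a9f00a8b00a7800a9b0091b00941009400095400be30094e00b7f00bda00bfe00c0500b4f00b5200be80099100b5600b4c0099000b8100b540098500b6300bd900b5f00b650097900b6000c2000c02009ea00bba00ba600ba000c4500a4600b9400c3800b5a00b5900b9e00bc000a05009fb00bb800a4800a4900ba2009f0009a2009a1009fa00b7800a5e00a4e0083d00a2500bcb00a2e0083c009eb00a5600a3b0083f00a3e00a390092100a3500a5400a2800bd200a43008330081500a6900a550080600a6a00a660081b00bbe00c1f00a1600c2400c0300b0400b0300b0200a1c007f4007f3008fe00c2100c1e009030090200a1e00ad700b0c00c0100a0700a0600ad5009f3009f200a41009c700ba300c4800b7300b7200bcd009e8009b4009b3009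c600b9c009c000a0100a0000b5e00a5d007dd007dc00a2900bd7009e400b7700b7600b9b00b6b00a03009be009bd00a5c00ba4009ec0096400b4300ace00acd00a70007e7007c5007c4008f500afa008cc00997009d1009d000b5100895008bd008bc0087b00b58009c800843009b9009b800a4700bc7009f400a6c009e6009e500a45007d000a6e007cf00b95009fe009c2009c100b6a007b3009f8007b200b9d00a58009f6009f500b5d007d800a52007d700b7900870008a7008a60088c00b4a009a9008a20086e008a100b4800a3000a5000a4f00a640082f00a330082e00bc3009ce00a8300b4d00acc0098800b7d00b8200a8800a8700acb00b6100886007880097f00a8d00a7c00787009cf0088e0087c009960077500a91009af00b47009a600b45009b00076c00b460085b0076a009a700bab0096000b8500adc0093100ae100ab400b1900b2000b2100c0700b2800ab90094c0093600ab300beb00a9300a9700be400af900af00091a009290092a00ade00b220094d00ae400a9500a9400aef0089e00aa90089d00b390072800b2300732007310094300b160095000b12009550091000b340094f00add007360071300b33007270091600957008120092300a360080e0080d00bc1008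0a00b2f00b140091400ae80091300b4100944009270070a0094900b3000918006fe0094a00b3d0092f007100095e0095f00b870093700bae00b07009010090000bb500bb400a0f00a0e009060090500a1000b08006ed006ec007f800baf007ee008d3008f600a20007e2007e1008d200b83008ef00ae700ae600b2400ac200adf008e0008df0095c00c0900ab500ada00aa700aa600ac1008ab00ab1008aa00bf100b36008e9008e800b15006dc00ae9006db00bf600af700ab700ab600b35008b300ae0008b200af200741008ca008c90084d00a6f009d6008f7008ce008cd00a0a006c6008f3006c500b840078e007bc007bb0098900a89008bf0099c009ca009c900987007b70099e007b600b7e0095800aaf00aae00b29008af00952008ae00bec008d900b42008d8006d200aba008b600aed008b5006b800ab2008e300b2d008e2006d800aaa0097a009ab009aa00994007a60097b007a500b62009a500977009a4007a2009780093f00b1c0093e0072400a9800ac70087a00983008c600b4b0098a0098b00a8f00a85009cc008840087f008c500ac90098e009ad00b4e0068f0068e0078a009800088800a7e0088d008720099a0088700ac8006930067c0099900a8e00878006790089600a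a30097600a7500a9c0096800aa40086f006700097500807008160091e0065800663008590075b0096c0074e0086d00a9d009690081c009dd00aff0073c0073b009dc00ad30084700a4400b9300b7100a240081f0082000a0200bbc00a4c00b7400a5f00a4a00b7000828009c40083700bc800bbd00b5b00a4200a2f00a3c00a3d00b900082b00a2c0082a00a68009a000b680099f0079f00a53008320062c00a2d006340083b006380090e0083a006370081800a5700a6500a22007fd00846008400081d00617008450083100a2a008030083400924007070070600b1f009200091f0070300a380091d0086700a2700b9900a260080000a320081400a5a008680080500a5b008690081a00a6d0085400a1f0084e0071600a1400823006f400a1300a1200a1d007ec007eb00b09008fa00bb3007f0007ef0090b005fc00a15005fb00b01009e3006e400851007e4008f1008f0009e2006e0009da006df00afb00b91009ee009ed00a6b007d400a04007d300b8c009b200b6e009b1007a9009f9007db00b9a007da005ee009f1009bc00b92009bb007af009e90069d006cb006ca007970084f009d8009d700963007c00084b007bf00ad4007c300a08007c2005de009db00890008c1008c000a86006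bf0088a006be00aca008bb00a92008ba006bb009cd009b700a62009b6007ac009c5007aa007ce00b75009bf005ef007b100b6f009ba007b0007d600b69009b5008a500a7b008a4006af009ae00704008a000a79009a8008010082d00b5c009a300776007cd0069900698007cc0098600a81009d50097e007790077a0089400a7f0088500ac50098f0098c009d400780008c30078200a8a00a8000aa100984005ae00786005b200785005b1007720088f009950097c0076f007910078b007770059900790007740099d0079d00a770086b00a72008560076b00a760086c009190092800a340091700758007570096b007540057f007560075e0075f0080b0096a008630085c0085a006710066e00a730066d00930009110071400ad200640008f90073e008490084800ad10063c008d00063b00a2100b11009340093500af60071f0092d0072e00b320093a00abf0094b0072b009530092e0071100b25009390093c00b170093b0072100948006ff0089c00b2e009420070b0072600b180093d0073000554007350054500562007fa0061a006f6007340092b0070d007370090f0095b00747007120095a0074600915009450076000811008100060e00926007a30080c00b1e009220065e00970005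72007250091200b1b0091c0054d009710060b006ab0097200608005520096600614007f90090a0082100b050061d0052f0090900b0e008fc008fb006e800907006e700a17006eb00b06006ea00526008ff007e500965005f5005f400a0c007e000acf007df005f1008f4008de00af8008dd006d5008ec006d3008a900aee008e6006b9006da00ae5008e1006d9008b100adb008dc00798007c8007c700899005e200795005e1008c800961008c7006c2008d100527006c400ad0008cb007ba00992007b9005d9008c4005f2007b500ac6008be006d6008ad00ac0008b9006b200ab8005d60051d00ab0005d4006b600aa8005eb0060f007a400aa2008a80060c00a9e0054c006fa00a96005cf00879008730067d008d7005ba0079a0079300792008d6005b6007ca005b500a7d0087d0087e0099b00686008760068b0099800882009d200883006880088b008770067a00a82008810068d004e600692004db004f40059c006910087400676006940087100893006a30067b00892006a2004e40089b005960064e009730076700967005910058f009740058e00635007a00062d007520086100a2b0086200660008600085f00a74004b2006590085e0066100662004b30086500700007010058b007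510074c0096d0074b0064f0076d00857007690071700a230081e0081900624006230073f00a0d0055b0055a0090d0073a009e000739005570084c0082700a3f008390063100844007fe0083600a630083e0061800a40008260061500a4b00551008040082900a59008350060900a51006aa0061100a4d006ac006360062000494006220064500646005400060400715007fb0064b0081700841006470062f008530053d0048b008520053b0062800866006fb006b00070500a3a00813006ad00a37006100085d006570062a00a31005360082c0070200830006fd008380070f0090c006f3007f500718006030046e006f200529007ea00a1b007e9005f8007f2005df005fa00a11007ed006e3006e200521007e8006bc006de00a09007e3007ad007d2009ff007de005e8009f70051e005d5009ef0051c005ec009e7006b5005cc005e5005e4006a9006c900897006c800514007cb005f9007be009e1007c600466009d90051100522006bd009d3007bd0051f009cb005e7005ea009c30050e007d9006ba007d5006b7007d1006d700537009ac006290080f0062b00808006ae005cb006cf005ca006d0005af0067f0097d0077800773005a5005a40069b0089a004ed004ec00697008d400696004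e9007960077f0098100784005ab0078f007700078100993007890059a009820077e005970098d004e3005b0005a100432005a3005bf005c0004d60067e005c5007710078c005c1005a90079c004d3004290079b004d10078300678007490074d0086a004cd0074a00672007680066f007500072c00555006530072200580007550075c0096f007610096e0065d007620057e00573003f3005780057d0075d006550075900809006510066a004060056e004100074f00858005900058d008220061e004970071d0092c0071e0055e0071c005460071b0063f0063e0048f007420061b0063a009620073d0070e0072d0095900738006f8009510048c0053c009380048a0076500633006fc0094600627007640079e00763007a100481003dc0071a0056000561003d4007440047e0061c006f5005680048d00748006f700550007450047b00733006190072f006160072900802005d000925006f9008a300709003f00089f0060d005ce005cd00489007f7006010052e007f600602005fe00468006c3006e600904006ee00512008fd00465005da005f3008f8006e5005d7008f2006b1006b4008ea00462008b4005f0008b0005ed008ac007ae00517006a80051600469005e0008d5006cc00524008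cf00459006e9005dd00463008c2006b3006e1006d1006dd005d80046100460005d300708007230053800475006a6006cd00503005040050500689004e70077b0059f00435006840087500685004f000683004dc00682005b9005b80042d0069e0059d005b4008980069a006770068a008910069500674008890042a004d20088000428006a5005ad004220037d00681004f2004f300375006a00041f0059e004fa0042b006a400673004e2006a10041c006900059b0068c00598004270066b008550056b0066c00592004cc004ca006670035600403005580063200495004c300652004b70065c0065b00656008640057c006650075a004a50033d004af004b4004a80034f0065a0035900664007530057b004070065000654004c4004050064d004cb004c900719005490054800564003d6006210064200825006480047f00824003d3005410055900850006410053e0084a0062e0061300842003d0006690055600668005530053a00666007200053300535005470049b0049c0049200644003c40064300544003d10064a006120063d007fc006390053f003cf003ce0054a007a7007ff0048600336005080050700506003cd006f00052c003b3006f1003b20051500528005ff005dc007f1003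ae007c1005250050f007e6005e9007b8007a8007b4005200050d0050c0051b003b00045b006ce003af007c9005db005fd00513003ad005f6007ab005d1003ab003aa003a90050b0060600476003bb0044c0044a006a7005000044d00393004ea005ac00433002d70043f00680004df004de004f600377005a2005bc0077d005c2004200077c00374004d7004eb00799005bb004d400794005a8005950078d00371005c7004e8005c6004e5004d0004dd004390043a00430005be00368005bd004da00372005c400594005b70076e005b3004d5003700036f0036e007660064c0049f0041600415004130040a004c7002ac005840056f004a100589003460044800490003fa0055f0057a0040c0056d005760057500577002af00583005820065f0060a003e4003f7003eb002a800579002b3002b000574005810040d002ae004b1004b0005700058500349003480056a0041400412006260049a006250032300482004960056500543007430031f00586004930047c007400054f005880072a005870048e0047a00479004780060700472004740032400320005670054200563004800031e0055c0070c0054e0031c0031b0031a004840054b003ca00290004500044f0044e003190060000305005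2d0046d0045c0045a006ef00523006c70046700458006c0006d4005190045600455004540045f00302005e60052a006c100301003000051a00509002fe002fd002fc0045300531003bc0030800394005c800449005c900502004000044b0044400396002ed0042e00386004f1004fc00383003800024b004fb0024f005a700438005a6002cd0042300434004f7004d90069f002c9004fd004310041d0069c004e1004ff00687004fe0042c0041b0041a00419002ce002ca004f9004d8004f500421002c8004ee00675004e0002c6002c5002c4002c30058c00569003df0035f0035e0035c004a20058a0034c004b8004a9003380040f0040e0021d004a3004b9003e2003e1004c1004c00029d004bf003970038d003d700352004ad004ac004ae00223004bd00350004a7004aa004b6003580034e00571005340032b00224004ab004bb0035300222004b5004ba002200021f003ef003ee0056c002a00029f0049e0035d0035b005660028300483003db003c7003c50064900491004bc003d5003c3004be0063000605003c1003c0003bf003be00532003b8003ba002800029b004980061f0027f0027e00488004870027c0027b0027a003c80048500316002060039a0039900398002790046b004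6c003b400304003a5005e3005f7003a3003a2005d20045d003a00039f0039e003a80046a003a4004640026a002690045e004510026700266002650039d00470003090026f002f0002ee0039100501004470039200446002eb0038f0038e00344003950038a0025e00378002df0043d0043c0043e001d000442001d10043b00440002e0001cf004f80023a004240037c0036b00369005c30042f00441003760036700443005aa0059300365003640036300362002370024700436005a00023600235004260042500233002320023100230004c80049d00326002b6002b5002b4003e7003e8003e6004c6004c5002a2003fb003ec00295003f4003f500293002920035500354001a5004c200329003280040200401003fe00321003c6001af002a9003ea003ed003f9002b2002a7003f2003f6002a5002a4004a40047300286001ac003f8003fc001ab001aa003f1001a8001a70033500334004a00021200211003de003d9003da003250028200313003fd0055d003110031000539005300030e0030d0030c0030b004710030600307003d80021a003d2001fa001f9003cc003cb001f7001f6001f500314003c900277002f10052b0026e0026d0051800510002f7002f60050a003a6002f4002f3002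f2002fb0026b003ac001ec001eb003a70039b001ea003b6003ff002ea004450038c002ec003900038b0025c0025b002e7002e6002e5002ef002e1001d6001e3003870038100241002cb0036a001690024c0037f00382003850024e0024a00166003840038800165001640037a0037b002cf00239002c000389004ef002be002bd004cf004ce002bb002ba002b9002b800379001cc00373001b9001b80036d0036c001b6001b5001b400411003dd00227003310033200330003390033a0032e0032d0040900408002130033e0033f0020c0020b003570020900208002ab002aa00404002850028400345003330034200225001ae0021b0033c003400021900218004a60021600215003e3003b900341003120033b00147001460033700144001430028f003e00019e00499001fe001fd003430047d0027500274004770046f002720027100270003b7001480031d0018c0018b00318003170018a00315003b1001f0001ef002f800457002630026200452002f900261001ed002ff00183002fa002600025a002e40025d002e9002e8002e3001e2001e1001e000256002550016f0025f00114002e200122002d2002d3002d1002d8002d9001c4001c3002d4002dc001d200168001cd002d6002da001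cb001ca002db002bf002d50010a0010900437001bd001bc002dd0041e0022d0022c00418004170022a00229002280010b002c7001500014f002c2002c10014e0035a0020f0028e00296002970028c0028b0040b00289002880034b0034a0029c0028d002b10019900198002ad00196001950021c00347001ff002980014b0014a0029a003e9001a3001a2003e5001a00019f0032a001fb00294000f2000f100291000f00032700322001900018f001a4003c2001f3001f2003bd003b5001f1000f30027d001310027800303001860018500264003a1001e80039c0018400268001e7001e60016e001e400253002590025800257000d8001780017700176001db00117002540025200250002510017000113001c70023f00242002430023d0023c002480023e0024d0015a00159002440010e0010d002460037e0016100160001ba00240000c2000c1002cc00154001530016200366001b2001b10036100360001b0000c300234000f80022f0020d0019d0019c002100035100204002030034d0020100200002a10019a002210013a001390021e001380029e00299000f6000f5002760032f00141001400032c0013f0018d0020a000b100207002810013400133001420030f001880030a000b2001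f8001870026c0012e001e9002f50012d000a90012800127001260017d001d5001790012a00121001de001dd001dc000a00011c0011b001da000e2001d8001d9001d70016b001e5000cc000cb001c50015e0015d001c8002de001c0001bf0015b001ce00100000ff00245000c6000c50022e002d0001060010500151001c20008b00238000fb000fa00107002bc0014c002b70008c001b7002260013e0013d00205002a60019300192002a3001910013b001a9000e9001a60020e000b4000b3001f40028a000ee002870013200197000b5001fc000e6000ef00273000820012f001ee0018200116001290017a000e1001800017f0017e0007d000dc000db0016c00120001df0011d000de000d7001740017300074000d1001710017200118000ce0017c0011100110001d40009500094001d30010400103001c10024900156001550010100163000ba001c60008e0008d001b30023b000bf000f9001580008f001bb000b7000c00022b00064001ad000ec000eb00194002170013600214000ea00145001350019b000830018900202000e5000840018e000b0000e4000e3000cf000e000181000dd0011e000a800124001230005b000a20017b000d600175000d20005c000a40009f0011900054001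2c00098000970016d000c9000c80016a0006a0006900167000bd000bc00157001c9000fd000bb00108000fc0015c000650014d001be000b600066001520008a000ed00149000ae00137001a1000ad000e70013c00130000600005f000aa0012b000a700125000a300075000d30007c000d9000420011f0009d000a50011a00099000430007700073001150006e0006d0011200091000900006b0010f0004c000be0010c00088000fe0015f00087000b800102000f70004900048000af000f4000e8000ac000ab000450007e000df0007a000d4000da00076000550009a0005a0007b000d50007100078000d0000300002f000cd0004f0004e00050000ca000670004d000c700089000c4000b900086000850003400081000800007f000320009e000a6000580009b000a10003d0003c000590009c00057000560002100092000960003800039000930003700036000630006200061000240005e0005d0007200079000700006f0002a0002300041000400003f00016000680006c0002800027000260004700046000440002c0005300052000510001c00019000180002e0002d0004b0004a0001b0001a000330001f0001e0003b0003a00031000100000f0002000035000120003e0001400013000290000b000220000a000250000e0002b0000d000070001700008000090001d000110000500015000040000c0000600003000020000100000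

noncomputable def lvP3_3 : ℕ := nat_lit 0xc3a00bd300c5100bd500c4300c1600bfc00c1c00c5500c1a00bf800c2500c2a00c3000af400c0d00c5600b3e00b8900c2e00c5300c1d00c1b00c2f00c0c00c2c00bf300c1800c1900c1400b3b00c3100c3200bfa00be600b9700c4900bbf00c4f00bc500c4e00c3400b7b00c3800c4100c4b00bcf00c4700c3f00c3700b0d00c0500c2400b0400b4400b0f00b0300bd600c3600b8e00ba800c5000bcc00ba700c4200bd000b9f00c4a00ba300c4800b7300bb900bd400c4d00ba100bce00c4c009fd00b8f00a6700c3e00b5500c2000b0c00b4300afd00bda00be200b5600c4500c4600c3c00bca00ba600ba500ba4009ec00bcb00bcd00c3900bc7009f400b6d00ba200c3d00b9c009c000a6100bd900bdb00b5200bd200bd100b7800a5e00b5a00b8000bdc00bd800b8200bb200be100bdd00b6400b5700b4900bb600ae300c1300c5400c2600c5200b1a00c2800bee00c2d00bf900af100bfd00b2700c2b00be30094e00abe00beb00c0e00c0f00a9300c0800a3500b3700c2900b100094d0095700bf500b4100be700b3400bde00be000a1a00a190090100bb700bb500bb400a0f00a1e00c1f00c4400a7100c0100b8600c2700c0600b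4000c3300ad900af500b3100c1700b3f00bfb00b3800aad00aec00adf008e00091b00c0b00c0a00c0900ab500b3c0095d008db008ee0094700c1200c1100c10008e700bf400bab00bac00ba900a2000b8800a6f009d600a0700a8c00b4d00bff00b58009c800a8d00c0700c1500bf000aa500b2c00ae100ae0008b20095500af300af20095c00952008ae008e500bed00bec00ade00ab1008aa0094100bf200bf100b4700be900b4a009a900a8800b4500b4800ae800aa90089d0094c00b3a00b3900ac400c0000b5000c2300b4c00be800b5300ac900bfe00b540098e00a9000b4f0099a00aa000bea00a9b00a7a00a7500a7800c0400ad6009be00a2e00b9800b8b00c3b00a2500bbb00c3500bc000a4e00b6700bc9009f3009e800a4300a3e0083f00b7c00a2900a330082e009b400bc600bc300bc8009c400a6600b9400bbe0083700a0300a4c00a5700a6800a69009230080d00bc1009a20080600bc400a6a0082a0083400a48009f000a3200bb800a460084600bba00bad007f400c2200afe00c2100c1e0090300a1300a1d007ec007f800b0b00b0a00b09008fa00bae0096400c0300baa00b83008ef00ace00a5d007dd009eb0084300bc200c4000bd7009e400ba000a5c00a52007d7009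b900b7a00b7900b91009ee00a3000a0500a04007d300a5500b8d00b8c00a6c009e600a0100a5800a4100a6e007cf009fb00b9600b9500aff00c0200afa008cc00960008510084b007bf007e200ad500ad400a8f00a89008bf00991009830099e007b60088d00b7f00b7e00a02009f8007b20083d00b9e00b9d00b9300b92009bb00a65007af009ea009e9009fc00a6b00a62009b6009f6007ac009c6009c500b6600b9000b6e009b100a50007a9009fa009f900b6c009760097b007a50088400b6300b62007a2009680097800b5f00b9900b680099f00a5f0079f00a5400a5300a60008bd00a7c00b81009970097f00a8400bdf00b6100886009d100a8b00a8a008c30099600b7d00a910078200895008850088f009880079100a83008a700b65008a100b60008700086b009790075b008560086e00b8a00ad3009df00ab70091000abc008eb00b1300b160094300bef00b120093200a9700731008b800be500be40095400b2b00ae700ada00913009160072700aac0093300b2300b1500b1c0093e00aa70072400a9900a9800b2a00721009560072b0095300b3200b3300abf00b3d00ab90095e00b190094b00af70072e0073700b20009480094900b220070600b1f0091f0070300a3800b1d008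6700a9500918006fe00a9a0094a00b260093b00945007600092900ae400b1b0091c0091a00b280095b00747009310084700a0b0090e00b000090600b08006ed00bb100bb000baf007ee00b0e008fc0090b0090800907006e700a1400a1800a1700741007e400b87009da006df008ca00afc00afb00b36008e900add0095800aea00ae9006db00ab400bf700bf600b3500b2d008e200aaf006d800aab00aaa00abd00af900af8008dd00b30006d5008ed008ec00ad800b2400b42008d800af0006d200abb00aba00ae2008f9008f3006c50073c00b8500b840096500961008c7008f1006c2008d2008d1009de008940088a006be0078800acb00aca00a8100a92008ba00995006bb009ce009cd00ac300af600aed008b500950006b800ab300ab200aeb008b100adc00adb008dc008da008ad00ac100ac0008b9008b7008a900aef00aee008e6008e400a7700a7b008a40098f006af009af009ae00a9f008a000a7200a79009a8009a60089c00b2f00b2e0094200940009ca00872009cf0078e00985009800078a00acc00a7e0087b009ad0068e007bc00b5100b4e0088c00990006880088b0099800999009d200a8e009cc0089600b4b008830099c0068b006940098a00a8500893006a30087a009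ab009b000b46009a4009a70097a00973007670076c00800008030080a00662006600074e0096b008630085c00967009770076a007fd007e700ad7008d00063b007c500a7000a2100a2200b77009fe0081b0081800637009c700a3b00bbd00a4500b5b0083a009c20063400a4700a4200b5900a5600a640083c00a2600a2a0083100b6b0062c0081500a2d00a490082d00b5d00b5c009a3009a10082900835008330083e008360063100a1f00a63008440084500bbc00b7400a6d0085400a240083900841006470081f00a5900a5a0086800a2c008100060e0092600a390080c00b1e0092200921009700091e0080500b5e00a5b0086900a280086600a3c0081600a3100a2f008070085300a440081c009370073e006f6008fe007fa007f500bb3007f000a1600a15005fb00b0200b0100a1c00a1b007e900b05005f8007f3007f2009020084f005f4009dd00a0c00acf007df009d8005f1008f5008f400a0600b9b00b9a007da00b71005ee009f2009f100b72007d600b6a00b69009b5009b3007d200a00009ff007de007dc007ce00b7600b75009bf009bd0079a00795005e10069900a0d00a08007c200849005de009dc009db00acd007be009e2009e1007c6007c40099b00992007b900888005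d9008c5008c4009d0007b500ac700ac6008be008bc007b100b7000b6f009ba009b8005ec009e7009e5007d0005ea009c3009c1007b3005e8009f7009f5007d8007a400aa300aa2008a8008a60060c00a9e00a9c008a20060900a5100a4f0082f0076f0069d007ca005b5006cb0097c00ac8008900077500772005b1008c60087c00a800098700aa100785008c1005ae009890098400a870088e00994007870078900781005ab009930078f0079000a7f00ac50099d0079d0097e007840078c005c1007790079c009860077600aa40097500a9d009690086a0086f0067000912009150091d0070a007540057f0085b0075f007610075d0075c00758007010085a00a74008590096d0064e0074a0086d005910090f007100070d008f70055a008d30090d009e000739008ce005570084d0084c0095f0092f0092b0073400ac200554007130092e00b210073000b2900b25009390093600736006f80094f00732007260092700b180093d0092a006fa00a9600a940089e006fc00946009440072800951007380072d005610055e0090a0064b007f9009590095a007460092d0096600b11009110074500934007140097100b17009170070500a3a0081300812006ad00a3700a360080e0085d00a34006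55006ab0097200b14009140072900928006100089f009190053600733009300053d0071600823007fb00a100060400601006f400b0700b06006ea0052600900008ff00a0e006e60090500904006ee006ec006e200ad200521007e8008f6006de00a0a00a09007e3007e1006da00ae600ae5008e1008df006b600aa800aa6008ab006b4008ea008e8006dc006b200ab800ab6008b30089a00897006c80079300514007cc007cb006c400ad100ad0008cb008c900524008cf008cd006c6006bd009d4009d3007bd007bb0051f009cb009c9007b70051d00ab000aae008af008ac008d9005e7006dd008b60050e008b4008e30051e00537009ac009aa007a60080f009a500627007640093f0062900871006790067600798004ec007cd008d400696007c8004e90079700796008780087400691009d5004e60067c008770098b0068d00a8600a82008810087f0069300674008870068f00889006950068a004f3004f0005c50089100892006a2008760089b00a7d00873006a10087d0067d0069000879004d30074b00a760086c00a73007490066c0076b004cd0062f0062a006280065e00661008140085e0085f00658006630096c0057c006560086500864008600066400862005720076200750006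6a0064f0096a006710074f0074d0066e006720061a0081a008170061700620004940063e009e30048f007420084e0063a00963009620073d0073b006360081d00a4000826008200061500a4b00a4a00828006130084000638006690083b0048c0061100a4d00a3d0082b00808009a0005cf00666008320054c00842006460064800644006420062400568006f3007480090c007170085200a3f008190083800a23006f7006390081e0047b0082c00a2b0060b005d0009250092400707008a300920006fb00752007530083000a27006f90062d00709007a00060d0063500619008210061d00909006f5006f00052c0052f00468005fa00a1200a11007ed007eb005dc007f1007ef005fc005f3008f8006e5006e4005d7008f2008f0006e0005d5009ef009ed007d4007d1009b2006b1007b4007db00462007d9009bc005d6006a6006a800516005cb005e0008d6008d5006cc006ca00466009d9009d7007c0005fd007c30045900463008c2008c0006bf006e1008bb006b5007d5009b7006b3007aa006d1005ef005d8007b0005f000708008a5006aa00704007200080100723006cd005e500503005cc005a90059c007740077100599005a100432005b8008d70042d0069e005b40089900898006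9a00698005b000777009820077e0077a005970098d0098c00780005950078b005b2005c7007860042a0078d005c0005c2005be005bc005a5004fa006a40067f0079b0098100773007830097d00673005b3007780041c005af0059b0066d00858009740066b00857008550058f005920065300552005500058b0054d0057d005730096e00756007570075e004b20080b0065f005820058100575007590096f0070000580006570056e0066700584006540056f0074c0076d0056b004cc0071500540003d600560007120071a0071b005450054300562005590085000641006400053e0084a008480063c0053c00938009350071f007650093a0062e0058700735003d00071100556007630093c006ac006ff006ae0070b0062b0049c0049a00744007430071c005630071e003c40064a007f70061e0063d00822006140072f0092c006120072c007fc005550053f0072200702007a70081100608007a300802004b100725007ff0048600508003cf00718006f200600006030046e00528005ff00512008fd008fb006e8006c7006eb003ae0050f007e6007e5005f5007b8007e0005eb008b0008de005e9006d3007a8006b900520006d9006ba0045b006cf006ce003af007c9007c7005e2006e9008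c8005db0052700513005f6007ba005d4005f2007ae006d6007ab005d1003ab0050d0060f0079e0060700606006d0006a9006a70044a0044c004e4004e20067e004d600377004f20067b0068100682004db004d9004f4004eb00799005bb005ba004d40079400792005b6004d2008800087e00686006a500882005a8004fe00692003710067a004e80043a00438006a00069f00683004f50068500368005c40059f005b70077b005960068c0087500594006890076e004e7004d5003700058e007690064d00768007660064c00416007510040f004c10048d0048b00492004a2004c4004b4004b3004a800665008610065d006590057e00571004bb004ac0065a004b6004b8004b7004a90065c00809003f0004a3004c300651004b9003e2005900049f004150061c00481003dc00496005650047f008240062200623004bc006450031f0047c007400073f0055b005880073a0055100668008270054f007fe0072a006180048e0047a00804007a1004750053800567005660054900643008250054200495004800055c007190053b005580070f006320070c0054e0031c005ce006b0006fd0054a003ef0054b003ca004500031b007f6006020046c0052e003050045a006ef00529007c1007ea005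23005df00467006c0006e30051c006bc006d7007ad006d400519004560046100302005e6005e40052a006c900511005f9006c10030100522006b70051b0051a00509002fe00455005330053200531005c8005c9005ca0044900394005020042b0042900430004400043c0059e004220037d00434004f7004200077c005a3005a400441005bf002c90041d0069c0069b004ed004ff00697004e3005c60077f004e100770006870059a0042c0041b004f9004f8004df005bd0077d004d80043300421004ee00680004d1004ea00678005ac00675004e0002c6002c50066f0058d0056a0058c005690035f004c600356003550056d0058500349004030040200400003d1003f7003d4003eb003e7004060040d00583003f3003e800578007550075a004a5004a400579003f9003fb003fa003ec003f40040c00577003f5002930057b003360040700410004c200329004cb003df0035e00547005480049b00283003c50064900497005860071d0049100546003d5004be0063f0048a0061b006330070e0063000605003c1003c000535003bb00476003da00498006260047e0055f0061f0027f00490006160048900488004870027c00507005cd004840033500485003160039a0027b006f10046b003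b3003b4003a5005e3005fe00465006c3005f7003a3005da005ed005d3005d20045d003a0003aa0046a0051700469005dd004640026a004600045f0045e00451002670039f004720047100470005010050500447005040044b004bf0039300391002ee0044600372003830037500380004fb00385003870038600381004dd004de004390023a00369005c300435004fd006840042f004dc0037600443005b9004280059d005ad00677005aa0059300365003640037b00436005a70041f004f1005a0002360042e005980042700426004250023300232004ca004c90049e004c80049d002b6006500040a00409004a7004ba00220004c7002ac002ab00570006520056c002a000589003460034500448002f000344003200033100353004bd0033d00332004af003390034f003500065b0033a0032e0060a003e4003e30033e00352004ae0033f0020c00358003590035700209004b0002900040500404002850041400326002b500625003d9003240032500313003fd00564003d3006210055d0031100541005530053a00539005300030e0030d0047400308003bc003d800342003d700544003d2001fa003ce003cd003cc003cb001f70044f00506003c80028f003c900277002f1001f6003b2005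2d0052b0026e00518005150052500510002f70050c0050b0050a003a6002f4002fd003b0003a4003ad003ac001ec003a9003a8003a70039b001ea002f3003b8003b7003b6003ff004450038c0044d005000039200395002eb0038f0038e003fe002ed002ea0038b002ca002d2002e000442002d7002d30043f002d8002df0043e002d9001c4005a60037a002ce002cf002c000389004f600374005a2004ef002be004d7004e5004d0004cf004ce002bb002ba00379002dc00378004da00373001b90036f0036e0036d0036c001b6001b50041300412003de00411003dd0022700574003f2002a50058a0034c0034b003ea003fc001ab003f600576003f1001a80040e0021d0021c004a1004a000212004c00029d0038d002800029b0028e00296002a8002a90057a002970028c002af002b00040b00289005340032b0032a0029c002b2002b3002b100199002ae002ad00196003ee002060034800347001ff0035d003230048300499001fe0034300482004930047d002750047900478004770046f0027200271003ba0026f00309003210028d0031e0031d0018c0031a0031900318003170018a003990044e00314003150046d003b1001f00045c004580045700263004540045300452002f9002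61002660026b00300002ff00183002fc002fb002fa0030600397002e40039600444002ec00390002ef0025c0025b002e7002e6002e50025e0025a00251002e30037f003880016500237002470023f002420024b0024c004fc002430023d002480024e0024f0024d0015a002cd0042400437001bd002dd00423004310041e0022d0041a0041900418004170022a00229002cb0023e002c8002c700150002c4002c3002c2002c10014e0035c0035b0035a004ab0033c00219004aa004b5004a600216004c5002a2002a100340004ad0033b0014700338003370014400354001a5003e1003e00019e004010021b003c60020d0019d00210002230022400351002040034e0034d002010047300286002250021a00222002210013a0021f0021e00138003340029f0029e003db0032200190003c7003c3003c2001f3003bf003be003bd003b5001f1003070019a0027e0027d001310027a002790027800398003040030300186002f8003a2003a1001e80039e0039d0039c001ed00269002680026500260002530038a0025d002e9002e80025f001e2001e1001e00025600255001d9001e3001d8001d6001d70043b002d6001cb002da0043d002d50010a001cd0036a001c50015e001c8001d0001d1002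de001c0001d2001cc001cf001ce001000037c002cc001540036b0036700366001b200363003620036100360001b00015b0023500234000f800231002300022f002b40014b0029a003ed003f8003e9001a3003e6003e5001a0004080021300298003120029500294000f20029200291000f0002aa0032800327001ac002260013e001af002a7002a600193002a4002a300191003b900148001aa001a9000e9001a7001a60021100282002810013400205003100030f001880030c0030b0030a0013b001f9001f8001f50026d0026c0012e00264002f6002f5002f200184001eb001e7001e60016c001e4002e100259002580025700120001780017700176001db001720016f001700016e002e20017c001110010e0024600382003840037e0016100244002bf0024100240000c200166001d300104001690024a00249001560010b0016400163000ba0023900238000fb001c1002bd002bc0014c002b9002b8002b700101001b8001b7001b40034100299000f600333003300032f001410032d0032c0013f0034a001fb0020b0020a000b1002080020700284001ae001ad000ec001a40021800217001360021500214000f3001460014500143001fd001fc000e600194002740027300270000ea001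8b00187001ef001ee001e9002620012d000e00012800127001260017d00114000d80012a0017b001de001dd001dc000d60011c0011b0011700118001d500254001e5000cc001220016d000c9002db00245000c6002d4002d1002d000106001ba001c3001c20008b0016800167000bd00162001ca001c9000fd000c30010900108001bc001bb000b7001570022c0022b00228000bb0014f0020f0020e000b4002760028b0028a000ee00288002870018d0019800197001950014a00149000ae00142001a2001a10019f000b2000f1000ed0018f0018e00137001f2000ad0012f0018500182000cf000a90017a0012b001800017f0017e000a7000dc000db002500017900121000a0000de0011f00174001730009d000d100116001da0012c0009800252001d400095001130011200091001c7001c60008e0022e0023c0023b000bf0015100159001580010d0010c0008800107001600015f0008c000c1000be0015300152000fe001b1000870019c0019b00083001f40020300202002000013200139000b5000f5000f4000ef0014000082000af00133000e8000e4000e30017100129000e10007d0011e000df00124001230007a000a2001df0011d000d7000740007b000a4000d50011900071000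e2001150006e0016b0016a0006a000cb000ca000670015d0015c00065001b3001bf001be000f9000ff0008f000c5000c4000c0001050006400089000fa000b9001350013d0013c0018900192000e500084000b3000b00008100080000aa00181000dd000a80005b0009e000d3000a6000d90005800175000d20005c0009f0005400059000770009c000ce000cd0004f001100010f0004c000500009400093000fc00103001020014d00155000b6000660008d0008a0006300062000e7000eb00130000600005f0005e0007e00125000a3000750007c00042000720009a00079000a50011a000990004300073000410004000097000960003800092000c8000c70003900069000b8000bc000f7000490004800047000ac000ab0004500044000d4000da00076000550005a000530005200078000d0000300002f0002e0006b0006d0006c00068000900002800027000860008500034000330007f000320009b000a10003d0003c0003b00019000570005600021000200004d0004e0004b0004a0001b00061000240005d0001f000700006f0002a0002900031000100003f0001600037000360003500012000460003e00014000510001c00023000220000a0002d00026000250002c0002b0000d0003a0000700018000170001a000090001e0001d000110000f0000500015000130000b0000c0000e00004000080000600003000020000100000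

noncomputable def lv3 : Level := ⟨3, 12, lvO3, [lvP3_0, lvP3_1, lvP3_2, lvP3_3], [[3, 0], [1, 3, 0, 3, 1], [0, 2, 3], [4, 1, 0]]⟩

noncomputable def lvO4_0 : Tree :=
  .node 64 (.node 32 (.node 16 (.node 8 (.node 4 (.node 2 (.node 1 (.leaf (nat_lit 0x0)) (.leaf (nat_lit 0x0))) (.node 1 (.leaf (nat_lit 0x0)) (.leaf (nat_lit 0x0)))) (.node 2 (.node 1 (.leaf (nat_lit 0x10000000)) (.leaf (nat_lit 0x0))) (.node 1 (.leaf (nat_lit 0x20000401)) (.leaf (nat_lit 0x0))))) (.node 4 (.node 2 (.node 1 (.leaf (nat_lit 0x0)) (.leaf (nat_lit 0x0))) (.node 1 (.leaf (nat_lit 0x0)) (.leaf (nat_lit 0x0)))) (.node 2 (.node 1 (.leaf (nat_lit 0x0)) (.leaf (nat_lit 0x0))) (.node 1 (.leaf (nat_lit 0x0)) (.leaf (nat_lit 0x0)))))) (.node 8 (.node 4 (.node 2 (.node 1 (.leaf (nat_lit 0x0)) (.leaf (nat_lit 0x0))) (.node 1 (.leaf (nat_lit 0x0)) (.leaf (nat_lit 0x0)))) (.node 2 (.node 1 (.leaf (nat_lit 0x0)) (.leaf (nat_lit 0x0))) (.node 1 (.leaf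 (nat_lit 0x0)) (.leaf (nat_lit 0x0))))) (.node 4 (.node 2 (.node 1 (.leaf (nat_lit 0x0)) (.leaf (nat_lit 0x0))) (.node 1 (.leaf (nat_lit 0x0)) (.leaf (nat_lit 0x0)))) (.node 2 (.node 1 (.leaf (nat_lit 0x0)) (.leaf (nat_lit 0x0))) (.node 1 (.leaf (nat_lit 0x0)) (.leaf (nat_lit 0x0))))))) (.node 16 (.node 8 (.node 4 (.node 2 (.node 1 (.leaf (nat_lit 0x0)) (.leaf (nat_lit 0x0))) (.node 1 (.leaf (nat_lit 0x0)) (.leaf (nat_lit 0x0)))) (.node 2 (.node 1 (.leaf (nat_lit 0x0)) (.leaf (nat_lit 0x0))) (.node 1 (.leaf (nat_lit 0x0)) (.leaf (nat_lit 0x0))))) (.node 4 (.node 2 (.node 1 (.leaf (nat_lit 0x0)) (.leaf (nat_lit 0x0))) (.node 1 (.leaf (nat_lit 0x0)) (.leaf (nat_lit 0x0)))) (.node 2 (.node 1 (.leaf (nat_lit 0x0)) (.leaf (nat_lit 0x0))) (.node 1 (.leaf (nat_lit 0x0)) (.leaf (nat_lit 0x0)))))) (.node 8 (.node 4 (.node 2 (.node 1 (.leaf (nat_lit 0x0)) (.leaf (nat_lit 0x0))) (.node 1 (.leaf (nat_lit 0x0)) (.leaf (nat_lit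 0x0)))) (.node 2 (.node 1 (.leaf (nat_lit 0x0)) (.leaf (nat_lit 0x0))) (.node 1 (.leaf (nat_lit 0x0)) (.leaf (nat_lit 0x0))))) (.node 4 (.node 2 (.node 1 (.leaf (nat_lit 0x0)) (.leaf (nat_lit 0x0))) (.node 1 (.leaf (nat_lit 0x0)) (.leaf (nat_lit 0x0)))) (.node 2 (.node 1 (.leaf (nat_lit 0x0)) (.leaf (nat_lit 0x0))) (.node 1 (.leaf (nat_lit 0x0)) (.leaf (nat_lit 0x0)))))))) (.node 32 (.node 16 (.node 8 (.node 4 (.node 2 (.node 1 (.leaf (nat_lit 0x0)) (.leaf (nat_lit 0x0))) (.node 1 (.leaf (nat_lit 0x0)) (.leaf (nat_lit 0x0)))) (.node 2 (.node 1 (.leaf (nat_lit 0x0)) (.leaf (nat_lit 0x0))) (.node 1 (.leaf (nat_lit 0x0)) (.leaf (nat_lit 0x0))))) (.node 4 (.node 2 (.node 1 (.leaf (nat_lit 0x0)) (.leaf (nat_lit 0x0))) (.node 1 (.leaf (nat_lit 0x0)) (.leaf (nat_lit 0x0)))) (.node 2 (.node 1 (.leaf (nat_lit 0x0)) (.leaf (nat_lit 0x0))) (.node 1 (.leaf (nat_lit 0x0)) (.leaf (nat_lit 0x0)))))) (.node 8 (.node 4 (.node 2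 (.node 1 (.leaf (nat_lit 0x0)) (.leaf (nat_lit 0x0))) (.node 1 (.leaf (nat_lit 0x0)) (.leaf (nat_lit 0x0)))) (.node 2 (.node 1 (.leaf (nat_lit 0x0)) (.leaf (nat_lit 0x0))) (.node 1 (.leaf (nat_lit 0x0)) (.leaf (nat_lit 0x0))))) (.node 4 (.node 2 (.node 1 (.leaf (nat_lit 0x0)) (.leaf (nat_lit 0x0))) (.node 1 (.leaf (nat_lit 0x0)) (.leaf (nat_lit 0x0)))) (.node 2 (.node 1 (.leaf (nat_lit 0x0)) (.leaf (nat_lit 0x0))) (.node 1 (.leaf (nat_lit 0x0)) (.leaf (nat_lit 0x0))))))) (.node 16 (.node 8 (.node 4 (.node 2 (.node 1 (.leaf (nat_lit 0x0)) (.leaf (nat_lit 0x0))) (.node 1 (.leaf (nat_lit 0x0)) (.leaf (nat_lit 0x0)))) (.node 2 (.node 1 (.leaf (nat_lit 0x0)) (.leaf (nat_lit 0x0))) (.node 1 (.leaf (nat_lit 0x0)) (.leaf (nat_lit 0x0))))) (.node 4 (.node 2 (.node 1 (.leaf (nat_lit 0x0)) (.leaf (nat_lit 0x0))) (.node 1 (.leaf (nat_lit 0x0)) (.leaf (nat_lit 0x0)))) (.node 2 (.node 1 (.leaf (nat_lit 0x0)) (.leaf (nat_lit 0x0)))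 (.node 1 (.leaf (nat_lit 0x0)) (.leaf (nat_lit 0x0)))))) (.node 8 (.node 4 (.node 2 (.node 1 (.leaf (nat_lit 0x0)) (.leaf (nat_lit 0x0))) (.node 1 (.leaf (nat_lit 0x0)) (.leaf (nat_lit 0x0)))) (.node 2 (.node 1 (.leaf (nat_lit 0x0)) (.leaf (nat_lit 0x0))) (.node 1 (.leaf (nat_lit 0x0)) (.leaf (nat_lit 0x0))))) (.node 4 (.node 2 (.node 1 (.leaf (nat_lit 0x0)) (.leaf (nat_lit 0x0))) (.node 1 (.leaf (nat_lit 0x0)) (.leaf (nat_lit 0x0)))) (.node 2 (.node 1 (.leaf (nat_lit 0x0)) (.leaf (nat_lit 0x0))) (.node 1 (.leaf (nat_lit 0x0)) (.leaf (nat_lit 0x0))))))))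

noncomputable def lvO4_1 : Tree :=
  .node 64 (.node 32 (.node 16 (.node 8 (.node 4 (.node 2 (.node 1 (.leaf (nat_lit 0x0)) (.leaf (nat_lit 0x0))) (.node 1 (.leaf (nat_lit 0x0)) (.leaf (nat_lit 0x0)))) (.node 2 (.node 1 (.leaf (nat_lit 0x0)) (.leaf (nat_lit 0x0))) (.node 1 (.leaf (nat_lit 0x0)) (.leaf (nat_lit 0x0))))) (.node 4 (.node 2 (.node 1 (.leaf (nat_lit 0x0)) (.leaf (nat_lit 0x0))) (.node 1 (.leaf (nat_lit 0x0)) (.leaf (nat_lit 0x0)))) (.node 2 (.node 1 (.leaf (nat_lit 0x0)) (.leaf (nat_lit 0x0))) (.node 1 (.leaf (nat_lit 0x0)) (.leaf (nat_lit 0x0)))))) (.node 8 (.node 4 (.node 2 (.node 1 (.leaf (nat_lit 0x0)) (.leaf (nat_lit 0x0))) (.node 1 (.leaf (nat_lit 0x0)) (.leaf (nat_lit 0x0)))) (.node 2 (.node 1 (.leaf (nat_lit 0x0)) (.leaf (nat_lit 0x0))) (.node 1 (.leaf (nat_lit 0x0)) (.leaf (nat_lit 0x0))))) (.node 4 (.node 2 (.node 1 (.leaf (nat_lit 0x0)) (.leaf (nat_lit 0x0))) (.node 1 (.leaf (nat_lit 0x0))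 (.leaf (nat_lit 0x0)))) (.node 2 (.node 1 (.leaf (nat_lit 0x0)) (.leaf (nat_lit 0x0))) (.node 1 (.leaf (nat_lit 0x0)) (.leaf (nat_lit 0x0))))))) (.node 16 (.node 8 (.node 4 (.node 2 (.node 1 (.leaf (nat_lit 0x0)) (.leaf (nat_lit 0x0))) (.node 1 (.leaf (nat_lit 0x0)) (.leaf (nat_lit 0x0)))) (.node 2 (.node 1 (.leaf (nat_lit 0x0)) (.leaf (nat_lit 0x0))) (.node 1 (.leaf (nat_lit 0x0)) (.leaf (nat_lit 0x0))))) (.node 4 (.node 2 (.node 1 (.leaf (nat_lit 0x0)) (.leaf (nat_lit 0x0))) (.node 1 (.leaf (nat_lit 0x0)) (.leaf (nat_lit 0x0)))) (.node 2 (.node 1 (.leaf (nat_lit 0x0)) (.leaf (nat_lit 0x0))) (.node 1 (.leaf (nat_lit 0x0)) (.leaf (nat_lit 0x0)))))) (.node 8 (.node 4 (.node 2 (.node 1 (.leaf (nat_lit 0x0)) (.leaf (nat_lit 0x0))) (.node 1 (.leaf (nat_lit 0x0)) (.leaf (nat_lit 0x0)))) (.node 2 (.node 1 (.leaf (nat_lit 0x0)) (.leaf (nat_lit 0x0))) (.node 1 (.leaf (nat_lit 0x0)) (.leaf (nat_lit 0x0))))) (.node 4 (.node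 2 (.node 1 (.leaf (nat_lit 0x0)) (.leaf (nat_lit 0x0))) (.node 1 (.leaf (nat_lit 0x0)) (.leaf (nat_lit 0x0)))) (.node 2 (.node 1 (.leaf (nat_lit 0x0)) (.leaf (nat_lit 0x0))) (.node 1 (.leaf (nat_lit 0x0)) (.leaf (nat_lit 0x0)))))))) (.node 32 (.node 16 (.node 8 (.node 4 (.node 2 (.node 1 (.leaf (nat_lit 0x0)) (.leaf (nat_lit 0x0))) (.node 1 (.leaf (nat_lit 0x0)) (.leaf (nat_lit 0x0)))) (.node 2 (.node 1 (.leaf (nat_lit 0x0)) (.leaf (nat_lit 0x0))) (.node 1 (.leaf (nat_lit 0x0)) (.leaf (nat_lit 0x0))))) (.node 4 (.node 2 (.node 1 (.leaf (nat_lit 0x0)) (.leaf (nat_lit 0x0))) (.node 1 (.leaf (nat_lit 0x0)) (.leaf (nat_lit 0x0)))) (.node 2 (.node 1 (.leaf (nat_lit 0x0)) (.leaf (nat_lit 0x0))) (.node 1 (.leaf (nat_lit 0x0)) (.leaf (nat_lit 0x0)))))) (.node 8 (.node 4 (.node 2 (.node 1 (.leaf (nat_lit 0x0)) (.leaf (nat_lit 0x0))) (.node 1 (.leaf (nat_lit 0x0)) (.leaf (nat_lit 0x0)))) (.node 2 (.node 1 (.leaf (nat_lit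 0x0)) (.leaf (nat_lit 0x0))) (.node 1 (.leaf (nat_lit 0x0)) (.leaf (nat_lit 0x0))))) (.node 4 (.node 2 (.node 1 (.leaf (nat_lit 0x0)) (.leaf (nat_lit 0x0))) (.node 1 (.leaf (nat_lit 0x0)) (.leaf (nat_lit 0x0)))) (.node 2 (.node 1 (.leaf (nat_lit 0x0)) (.leaf (nat_lit 0x0))) (.node 1 (.leaf (nat_lit 0x0)) (.leaf (nat_lit 0x0))))))) (.node 16 (.node 8 (.node 4 (.node 2 (.node 1 (.leaf (nat_lit 0x0)) (.leaf (nat_lit 0x0))) (.node 1 (.leaf (nat_lit 0x0)) (.leaf (nat_lit 0x0)))) (.node 2 (.node 1 (.leaf (nat_lit 0x0)) (.leaf (nat_lit 0x0))) (.node 1 (.leaf (nat_lit 0x0)) (.leaf (nat_lit 0x0))))) (.node 4 (.node 2 (.node 1 (.leaf (nat_lit 0x0)) (.leaf (nat_lit 0x0))) (.node 1 (.leaf (nat_lit 0x0)) (.leaf (nat_lit 0x0)))) (.node 2 (.node 1 (.leaf (nat_lit 0x0)) (.leaf (nat_lit 0x0))) (.node 1 (.leaf (nat_lit 0x0)) (.leaf (nat_lit 0x0)))))) (.node 8 (.node 4 (.node 2 (.node 1 (.leaf (nat_lit 0x0)) (.leaf (nat_lit 0x0)))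 (.node 1 (.leaf (nat_lit 0x0)) (.leaf (nat_lit 0x0)))) (.node 2 (.node 1 (.leaf (nat_lit 0x0)) (.leaf (nat_lit 0x0))) (.node 1 (.leaf (nat_lit 0x0)) (.leaf (nat_lit 0x0))))) (.node 4 (.node 2 (.node 1 (.leaf (nat_lit 0x0)) (.leaf (nat_lit 0x0))) (.node 1 (.leaf (nat_lit 0x0)) (.leaf (nat_lit 0x0)))) (.node 2 (.node 1 (.leaf (nat_lit 0x0)) (.leaf (nat_lit 0x0))) (.node 1 (.leaf (nat_lit 0x0)) (.leaf (nat_lit 0x0))))))))

noncomputable def lvO4_2 : Tree :=
  .node 64 (.node 32 (.node 16 (.node 8 (.node 4 (.node 2 (.node 1 (.leaf (nat_lit 0x0)) (.leaf (nat_lit 0x0))) (.node 1 (.leaf (nat_lit 0x0)) (.leaf (nat_lit 0x0)))) (.node 2 (.node 1 (.leaf (nat_lit 0x0)) (.leaf (nat_lit 0x0))) (.node 1 (.leaf (nat_lit 0x0)) (.leaf (nat_lit 0x0))))) (.node 4 (.node 2 (.node 1 (.leaf (nat_lit 0x0)) (.leaf (nat_lit 0x0))) (.node 1 (.leaf (nat_lit 0x0)) (.leaf (nat_lit 0x0)))) (.node 2 (.node 1 (.leaf (nat_lit 0x0)) (.leaf (nat_lit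 0x0))) (.node 1 (.leaf (nat_lit 0x0)) (.leaf (nat_lit 0x0)))))) (.node 8 (.node 4 (.node 2 (.node 1 (.leaf (nat_lit 0x0)) (.leaf (nat_lit 0x0))) (.node 1 (.leaf (nat_lit 0x0)) (.leaf (nat_lit 0x0)))) (.node 2 (.node 1 (.leaf (nat_lit 0x0)) (.leaf (nat_lit 0x0))) (.node 1 (.leaf (nat_lit 0x0)) (.leaf (nat_lit 0x0))))) (.node 4 (.node 2 (.node 1 (.leaf (nat_lit 0x0)) (.leaf (nat_lit 0x0))) (.node 1 (.leaf (nat_lit 0x0)) (.leaf (nat_lit 0x0)))) (.node 2 (.node 1 (.leaf (nat_lit 0x0)) (.leaf (nat_lit 0x0))) (.node 1 (.leaf (nat_lit 0x0)) (.leaf (nat_lit 0x0))))))) (.node 16 (.node 8 (.node 4 (.node 2 (.node 1 (.leaf (nat_lit 0x0)) (.leaf (nat_lit 0x0))) (.node 1 (.leaf (nat_lit 0x0)) (.leaf (nat_lit 0x0)))) (.node 2 (.node 1 (.leaf (nat_lit 0x0)) (.leaf (nat_lit 0x0))) (.node 1 (.leaf (nat_lit 0x0)) (.leaf (nat_lit 0x0))))) (.node 4 (.node 2 (.node 1 (.leaf (nat_lit 0x0)) (.leaf (nat_lit 0x0))) (.node 1 (.leaf (nat_lit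 0x0)) (.leaf (nat_lit 0x0)))) (.node 2 (.node 1 (.leaf (nat_lit 0x0)) (.leaf (nat_lit 0x0))) (.node 1 (.leaf (nat_lit 0x0)) (.leaf (nat_lit 0x0)))))) (.node 8 (.node 4 (.node 2 (.node 1 (.leaf (nat_lit 0x0)) (.leaf (nat_lit 0x0))) (.node 1 (.leaf (nat_lit 0x0)) (.leaf (nat_lit 0x0)))) (.node 2 (.node 1 (.leaf (nat_lit 0x0)) (.leaf (nat_lit 0x0))) (.node 1 (.leaf (nat_lit 0x0)) (.leaf (nat_lit 0x0))))) (.node 4 (.node 2 (.node 1 (.leaf (nat_lit 0x0)) (.leaf (nat_lit 0x0))) (.node 1 (.leaf (nat_lit 0x0)) (.leaf (nat_lit 0x0)))) (.node 2 (.node 1 (.leaf (nat_lit 0x0)) (.leaf (nat_lit 0x0))) (.node 1 (.leaf (nat_lit 0x0)) (.leaf (nat_lit 0x0)))))))) (.node 32 (.node 16 (.node 8 (.node 4 (.node 2 (.node 1 (.leaf (nat_lit 0x0)) (.leaf (nat_lit 0x0))) (.node 1 (.leaf (nat_lit 0x0)) (.leaf (nat_lit 0x0)))) (.node 2 (.node 1 (.leaf (nat_lit 0x0)) (.leaf (nat_lit 0x0))) (.node 1 (.leaf (nat_lit 0x0)) (.leaf (nat_lit 0x0)))))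 (.node 4 (.node 2 (.node 1 (.leaf (nat_lit 0x0)) (.leaf (nat_lit 0x0))) (.node 1 (.leaf (nat_lit 0x0)) (.leaf (nat_lit 0x0)))) (.node 2 (.node 1 (.leaf (nat_lit 0x0)) (.leaf (nat_lit 0x0))) (.node 1 (.leaf (nat_lit 0x0)) (.leaf (nat_lit 0x0)))))) (.node 8 (.node 4 (.node 2 (.node 1 (.leaf (nat_lit 0x0)) (.leaf (nat_lit 0x0))) (.node 1 (.leaf (nat_lit 0x0)) (.leaf (nat_lit 0x0)))) (.node 2 (.node 1 (.leaf (nat_lit 0x0)) (.leaf (nat_lit 0x0))) (.node 1 (.leaf (nat_lit 0x0)) (.leaf (nat_lit 0x0))))) (.node 4 (.node 2 (.node 1 (.leaf (nat_lit 0x0)) (.leaf (nat_lit 0x0))) (.node 1 (.leaf (nat_lit 0x0)) (.leaf (nat_lit 0x0)))) (.node 2 (.node 1 (.leaf (nat_lit 0x0)) (.leaf (nat_lit 0x0))) (.node 1 (.leaf (nat_lit 0x0)) (.leaf (nat_lit 0x0))))))) (.node 16 (.node 8 (.node 4 (.node 2 (.node 1 (.leaf (nat_lit 0x0)) (.leaf (nat_lit 0x0))) (.node 1 (.leaf (nat_lit 0x0)) (.leaf (nat_lit 0x0)))) (.node 2 (.node 1 (.leaf (nat_lit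 0x0)) (.leaf (nat_lit 0x0))) (.node 1 (.leaf (nat_lit 0x0)) (.leaf (nat_lit 0x0))))) (.node 4 (.node 2 (.node 1 (.leaf (nat_lit 0x0)) (.leaf (nat_lit 0x0))) (.node 1 (.leaf (nat_lit 0x0)) (.leaf (nat_lit 0x0)))) (.node 2 (.node 1 (.leaf (nat_lit 0x0)) (.leaf (nat_lit 0x0))) (.node 1 (.leaf (nat_lit 0x0)) (.leaf (nat_lit 0x0)))))) (.node 8 (.node 4 (.node 2 (.node 1 (.leaf (nat_lit 0x0)) (.leaf (nat_lit 0x0))) (.node 1 (.leaf (nat_lit 0x0)) (.leaf (nat_lit 0x0)))) (.node 2 (.node 1 (.leaf (nat_lit 0x0)) (.leaf (nat_lit 0x0))) (.node 1 (.leaf (nat_lit 0x0)) (.leaf (nat_lit 0x0))))) (.node 4 (.node 2 (.node 1 (.leaf (nat_lit 0x0)) (.leaf (nat_lit 0x0))) (.node 1 (.leaf (nat_lit 0x0)) (.leaf (nat_lit 0x0)))) (.node 2 (.node 1 (.leaf (nat_lit 0x0)) (.leaf (nat_lit 0x0))) (.node 1 (.leaf (nat_lit 0x0)) (.leaf (nat_lit 0x0))))))))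

noncomputable def lvO4_3 : Tree :=
  .node 64 (.node 32 (.node 16 (.node 8 (.node 4 (.node 2 (.node 1 (.leaf (nat_lit 0x0)) (.leaf (nat_lit 0x0))) (.node 1 (.leaf (nat_lit 0x0)) (.leaf (nat_lit 0x0)))) (.node 2 (.node 1 (.leaf (nat_lit 0x0)) (.leaf (nat_lit 0x0))) (.node 1 (.leaf (nat_lit 0x0)) (.leaf (nat_lit 0x0))))) (.node 4 (.node 2 (.node 1 (.leaf (nat_lit 0x0)) (.leaf (nat_lit 0x0))) (.node 1 (.leaf (nat_lit 0x0)) (.leaf (nat_lit 0x0)))) (.node 2 (.node 1 (.leaf (nat_lit 0x0)) (.leaf (nat_lit 0x0))) (.node 1 (.leaf (nat_lit 0x0)) (.leaf (nat_lit 0x0)))))) (.node 8 (.node 4 (.node 2 (.node 1 (.leaf (nat_lit 0x0)) (.leaf (nat_lit 0x0))) (.node 1 (.leaf (nat_lit 0x0)) (.leaf (nat_lit 0x0)))) (.node 2 (.node 1 (.leaf (nat_lit 0x0)) (.leaf (nat_lit 0x0))) (.node 1 (.leaf (nat_lit 0x0)) (.leaf (nat_lit 0x0))))) (.node 4 (.node 2 (.node 1 (.leaf (nat_lit 0x0)) (.leaf (nat_lit 0x0))) (.node 1 (.leaf (nat_lit 0x0))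 (.leaf (nat_lit 0x0)))) (.node 2 (.node 1 (.leaf (nat_lit 0x0)) (.leaf (nat_lit 0x0))) (.node 1 (.leaf (nat_lit 0x0)) (.leaf (nat_lit 0x0))))))) (.node 16 (.node 8 (.node 4 (.node 2 (.node 1 (.leaf (nat_lit 0x0)) (.leaf (nat_lit 0x0))) (.node 1 (.leaf (nat_lit 0x0)) (.leaf (nat_lit 0x0)))) (.node 2 (.node 1 (.leaf (nat_lit 0x0)) (.leaf (nat_lit 0x0))) (.node 1 (.leaf (nat_lit 0x0)) (.leaf (nat_lit 0x0))))) (.node 4 (.node 2 (.node 1 (.leaf (nat_lit 0x0)) (.leaf (nat_lit 0x0))) (.node 1 (.leaf (nat_lit 0x0)) (.leaf (nat_lit 0x0)))) (.node 2 (.node 1 (.leaf (nat_lit 0x0)) (.leaf (nat_lit 0x0))) (.node 1 (.leaf (nat_lit 0x0)) (.leaf (nat_lit 0x0)))))) (.node 8 (.node 4 (.node 2 (.node 1 (.leaf (nat_lit 0x0)) (.leaf (nat_lit 0x0))) (.node 1 (.leaf (nat_lit 0x0)) (.leaf (nat_lit 0x0)))) (.node 2 (.node 1 (.leaf (nat_lit 0x0)) (.leaf (nat_lit 0x0))) (.node 1 (.leaf (nat_lit 0x0)) (.leaf (nat_lit 0x0))))) (.node 4 (.node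 2 (.node 1 (.leaf (nat_lit 0x0)) (.leaf (nat_lit 0x0))) (.node 1 (.leaf (nat_lit 0x0)) (.leaf (nat_lit 0x0)))) (.node 2 (.node 1 (.leaf (nat_lit 0x0)) (.leaf (nat_lit 0x0))) (.node 1 (.leaf (nat_lit 0x0)) (.leaf (nat_lit 0x0)))))))) (.node 32 (.node 16 (.node 8 (.node 4 (.node 2 (.node 1 (.leaf (nat_lit 0x0)) (.leaf (nat_lit 0x0))) (.node 1 (.leaf (nat_lit 0x0)) (.leaf (nat_lit 0x0)))) (.node 2 (.node 1 (.leaf (nat_lit 0x0)) (.leaf (nat_lit 0x0))) (.node 1 (.leaf (nat_lit 0x0)) (.leaf (nat_lit 0x0))))) (.node 4 (.node 2 (.node 1 (.leaf (nat_lit 0x0)) (.leaf (nat_lit 0x0))) (.node 1 (.leaf (nat_lit 0x0)) (.leaf (nat_lit 0x0)))) (.node 2 (.node 1 (.leaf (nat_lit 0x0)) (.leaf (nat_lit 0x0))) (.node 1 (.leaf (nat_lit 0x0)) (.leaf (nat_lit 0x0)))))) (.node 8 (.node 4 (.node 2 (.node 1 (.leaf (nat_lit 0x0)) (.leaf (nat_lit 0x0))) (.node 1 (.leaf (nat_lit 0x0)) (.leaf (nat_lit 0x0)))) (.node 2 (.node 1 (.leaf (nat_lit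 0x0)) (.leaf (nat_lit 0x0))) (.node 1 (.leaf (nat_lit 0x0)) (.leaf (nat_lit 0x0))))) (.node 4 (.node 2 (.node 1 (.leaf (nat_lit 0x0)) (.leaf (nat_lit 0x0))) (.node 1 (.leaf (nat_lit 0x0)) (.leaf (nat_lit 0x0)))) (.node 2 (.node 1 (.leaf (nat_lit 0x0)) (.leaf (nat_lit 0x0))) (.node 1 (.leaf (nat_lit 0x0)) (.leaf (nat_lit 0x0))))))) (.node 16 (.node 8 (.node 4 (.node 2 (.node 1 (.leaf (nat_lit 0x0)) (.leaf (nat_lit 0x0))) (.node 1 (.leaf (nat_lit 0x0)) (.leaf (nat_lit 0x0)))) (.node 2 (.node 1 (.leaf (nat_lit 0x0)) (.leaf (nat_lit 0x0))) (.node 1 (.leaf (nat_lit 0x0)) (.leaf (nat_lit 0x0))))) (.node 4 (.node 2 (.node 1 (.leaf (nat_lit 0x0)) (.leaf (nat_lit 0x0))) (.node 1 (.leaf (nat_lit 0x0)) (.leaf (nat_lit 0x0)))) (.node 2 (.node 1 (.leaf (nat_lit 0x0)) (.leaf (nat_lit 0x0))) (.node 1 (.leaf (nat_lit 0x0)) (.leaf (nat_lit 0x0)))))) (.node 8 (.node 4 (.node 2 (.node 1 (.leaf (nat_lit 0x0)) (.leaf (nat_lit 0x0)))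 (.node 1 (.leaf (nat_lit 0x0)) (.leaf (nat_lit 0x0)))) (.node 2 (.node 1 (.leaf (nat_lit 0x0)) (.leaf (nat_lit 0x0))) (.node 1 (.leaf (nat_lit 0x0)) (.leaf (nat_lit 0x0))))) (.node 4 (.node 2 (.node 1 (.leaf (nat_lit 0x0)) (.leaf (nat_lit 0x0))) (.node 1 (.leaf (nat_lit 0x0)) (.leaf (nat_lit 0x0)))) (.node 2 (.node 1 (.leaf (nat_lit 0x0)) (.leaf (nat_lit 0x0))) (.node 1 (.leaf (nat_lit 0x0)) (.leaf (nat_lit 0x0))))))))

noncomputable def lvO4_4 : Tree :=
  .node 64 (.node 32 (.node 16 (.node 8 (.node 4 (.node 2 (.node 1 (.leaf (nat_lit 0x0)) (.leaf (nat_lit 0x0))) (.node 1 (.leaf (nat_lit 0x0)) (.leaf (nat_lit 0x0)))) (.node 2 (.node 1 (.leaf (nat_lit 0x0)) (.leaf (nat_lit 0x0))) (.node 1 (.leaf (nat_lit 0x0)) (.leaf (nat_lit 0x0))))) (.node 4 (.node 2 (.node 1 (.leaf (nat_lit 0x0)) (.leaf (nat_lit 0x0))) (.node 1 (.leaf (nat_lit 0x0)) (.leaf (nat_lit 0x0)))) (.node 2 (.node 1 (.leaf (nat_lit 0x0)) (.leaf (nat_lit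 0x0))) (.node 1 (.leaf (nat_lit 0x0)) (.leaf (nat_lit 0x0)))))) (.node 8 (.node 4 (.node 2 (.node 1 (.leaf (nat_lit 0x0)) (.leaf (nat_lit 0x0))) (.node 1 (.leaf (nat_lit 0x0)) (.leaf (nat_lit 0x0)))) (.node 2 (.node 1 (.leaf (nat_lit 0x0)) (.leaf (nat_lit 0x0))) (.node 1 (.leaf (nat_lit 0x0)) (.leaf (nat_lit 0x0))))) (.node 4 (.node 2 (.node 1 (.leaf (nat_lit 0x0)) (.leaf (nat_lit 0x0))) (.node 1 (.leaf (nat_lit 0x0)) (.leaf (nat_lit 0x0)))) (.node 2 (.node 1 (.leaf (nat_lit 0x0)) (.leaf (nat_lit 0x0))) (.node 1 (.leaf (nat_lit 0x0)) (.leaf (nat_lit 0x0))))))) (.node 16 (.node 8 (.node 4 (.node 2 (.node 1 (.leaf (nat_lit 0x0)) (.leaf (nat_lit 0x0))) (.node 1 (.leaf (nat_lit 0x0)) (.leaf (nat_lit 0x0)))) (.node 2 (.node 1 (.leaf (nat_lit 0x0)) (.leaf (nat_lit 0x0))) (.node 1 (.leaf (nat_lit 0x0)) (.leaf (nat_lit 0x0))))) (.node 4 (.node 2 (.node 1 (.leaf (nat_lit 0x0)) (.leaf (nat_lit 0x0))) (.node 1 (.leaf (nat_lit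 0x0)) (.leaf (nat_lit 0x0)))) (.node 2 (.node 1 (.leaf (nat_lit 0x0)) (.leaf (nat_lit 0x0))) (.node 1 (.leaf (nat_lit 0x0)) (.leaf (nat_lit 0x0)))))) (.node 8 (.node 4 (.node 2 (.node 1 (.leaf (nat_lit 0x0)) (.leaf (nat_lit 0x0))) (.node 1 (.leaf (nat_lit 0x0)) (.leaf (nat_lit 0x0)))) (.node 2 (.node 1 (.leaf (nat_lit 0x0)) (.leaf (nat_lit 0x0))) (.node 1 (.leaf (nat_lit 0x0)) (.leaf (nat_lit 0x0))))) (.node 4 (.node 2 (.node 1 (.leaf (nat_lit 0x0)) (.leaf (nat_lit 0x0))) (.node 1 (.leaf (nat_lit 0x0)) (.leaf (nat_lit 0x0)))) (.node 2 (.node 1 (.leaf (nat_lit 0x0)) (.leaf (nat_lit 0x0))) (.node 1 (.leaf (nat_lit 0x0)) (.leaf (nat_lit 0x0)))))))) (.node 32 (.node 16 (.node 8 (.node 4 (.node 2 (.node 1 (.leaf (nat_lit 0x0)) (.leaf (nat_lit 0x0))) (.node 1 (.leaf (nat_lit 0x0)) (.leaf (nat_lit 0x0)))) (.node 2 (.node 1 (.leaf (nat_lit 0x0)) (.leaf (nat_lit 0x0))) (.node 1 (.leaf (nat_lit 0x0)) (.leaf (nat_lit 0x0)))))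 (.node 4 (.node 2 (.node 1 (.leaf (nat_lit 0x0)) (.leaf (nat_lit 0x0))) (.node 1 (.leaf (nat_lit 0x0)) (.leaf (nat_lit 0x0)))) (.node 2 (.node 1 (.leaf (nat_lit 0x0)) (.leaf (nat_lit 0x0))) (.node 1 (.leaf (nat_lit 0x0)) (.leaf (nat_lit 0x0)))))) (.node 8 (.node 4 (.node 2 (.node 1 (.leaf (nat_lit 0x0)) (.leaf (nat_lit 0x0))) (.node 1 (.leaf (nat_lit 0x0)) (.leaf (nat_lit 0x0)))) (.node 2 (.node 1 (.leaf (nat_lit 0x0)) (.leaf (nat_lit 0x0))) (.node 1 (.leaf (nat_lit 0x0)) (.leaf (nat_lit 0x0))))) (.node 4 (.node 2 (.node 1 (.leaf (nat_lit 0x0)) (.leaf (nat_lit 0x0))) (.node 1 (.leaf (nat_lit 0x0)) (.leaf (nat_lit 0x0)))) (.node 2 (.node 1 (.leaf (nat_lit 0x0)) (.leaf (nat_lit 0x0))) (.node 1 (.leaf (nat_lit 0x0)) (.leaf (nat_lit 0x0))))))) (.node 16 (.node 8 (.node 4 (.node 2 (.node 1 (.leaf (nat_lit 0x0)) (.leaf (nat_lit 0x0))) (.node 1 (.leaf (nat_lit 0x0)) (.leaf (nat_lit 0x0)))) (.node 2 (.node 1 (.leaf (nat_lit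 0x0)) (.leaf (nat_lit 0x0))) (.node 1 (.leaf (nat_lit 0x0)) (.leaf (nat_lit 0x0))))) (.node 4 (.node 2 (.node 1 (.leaf (nat_lit 0x0)) (.leaf (nat_lit 0x0))) (.node 1 (.leaf (nat_lit 0x0)) (.leaf (nat_lit 0x0)))) (.node 2 (.node 1 (.leaf (nat_lit 0x0)) (.leaf (nat_lit 0x0))) (.node 1 (.leaf (nat_lit 0x0)) (.leaf (nat_lit 0x0)))))) (.node 8 (.node 4 (.node 2 (.node 1 (.leaf (nat_lit 0x0)) (.leaf (nat_lit 0x0))) (.node 1 (.leaf (nat_lit 0x0)) (.leaf (nat_lit 0x0)))) (.node 2 (.node 1 (.leaf (nat_lit 0x0)) (.leaf (nat_lit 0x0))) (.node 1 (.leaf (nat_lit 0x0)) (.leaf (nat_lit 0x0))))) (.node 4 (.node 2 (.node 1 (.leaf (nat_lit 0x0)) (.leaf (nat_lit 0x0))) (.node 1 (.leaf (nat_lit 0x0)) (.leaf (nat_lit 0x0)))) (.node 2 (.node 1 (.leaf (nat_lit 0x0)) (.leaf (nat_lit 0x0))) (.node 1 (.leaf (nat_lit 0x0)) (.leaf (nat_lit 0x0))))))))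

noncomputable def lvO4_5 : Tree :=
  .node 64 (.node 32 (.node 16 (.node 8 (.node 4 (.node 2 (.node 1 (.leaf (nat_lit 0x0)) (.leaf (nat_lit 0x0))) (.node 1 (.leaf (nat_lit 0x0)) (.leaf (nat_lit 0x0)))) (.node 2 (.node 1 (.leaf (nat_lit 0x0)) (.leaf (nat_lit 0x0))) (.node 1 (.leaf (nat_lit 0x0)) (.leaf (nat_lit 0x0))))) (.node 4 (.node 2 (.node 1 (.leaf (nat_lit 0x0)) (.leaf (nat_lit 0x0))) (.node 1 (.leaf (nat_lit 0x0)) (.leaf (nat_lit 0x0)))) (.node 2 (.node 1 (.leaf (nat_lit 0x0)) (.leaf (nat_lit 0x0))) (.node 1 (.leaf (nat_lit 0x0)) (.leaf (nat_lit 0x0)))))) (.node 8 (.node 4 (.node 2 (.node 1 (.leaf (nat_lit 0x0)) (.leaf (nat_lit 0x0))) (.node 1 (.leaf (nat_lit 0x0)) (.leaf (nat_lit 0x0)))) (.node 2 (.node 1 (.leaf (nat_lit 0x0)) (.leaf (nat_lit 0x0))) (.node 1 (.leaf (nat_lit 0x0)) (.leaf (nat_lit 0x0))))) (.node 4 (.node 2 (.node 1 (.leaf (nat_lit 0x0)) (.leaf (nat_lit 0x0))) (.node 1 (.leaf (nat_lit 0x0))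 (.leaf (nat_lit 0x0)))) (.node 2 (.node 1 (.leaf (nat_lit 0x0)) (.leaf (nat_lit 0x0))) (.node 1 (.leaf (nat_lit 0x0)) (.leaf (nat_lit 0x0))))))) (.node 16 (.node 8 (.node 4 (.node 2 (.node 1 (.leaf (nat_lit 0x0)) (.leaf (nat_lit 0x0))) (.node 1 (.leaf (nat_lit 0x0)) (.leaf (nat_lit 0x0)))) (.node 2 (.node 1 (.leaf (nat_lit 0x0)) (.leaf (nat_lit 0x0))) (.node 1 (.leaf (nat_lit 0x0)) (.leaf (nat_lit 0x0))))) (.node 4 (.node 2 (.node 1 (.leaf (nat_lit 0x0)) (.leaf (nat_lit 0x0))) (.node 1 (.leaf (nat_lit 0x0)) (.leaf (nat_lit 0x0)))) (.node 2 (.node 1 (.leaf (nat_lit 0x0)) (.leaf (nat_lit 0x0))) (.node 1 (.leaf (nat_lit 0x0)) (.leaf (nat_lit 0x0)))))) (.node 8 (.node 4 (.node 2 (.node 1 (.leaf (nat_lit 0x0)) (.leaf (nat_lit 0x0))) (.node 1 (.leaf (nat_lit 0x0)) (.leaf (nat_lit 0x0)))) (.node 2 (.node 1 (.leaf (nat_lit 0x0)) (.leaf (nat_lit 0x0))) (.node 1 (.leaf (nat_lit 0x0)) (.leaf (nat_lit 0x0))))) (.node 4 (.node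 2 (.node 1 (.leaf (nat_lit 0x0)) (.leaf (nat_lit 0x0))) (.node 1 (.leaf (nat_lit 0x0)) (.leaf (nat_lit 0x0)))) (.node 2 (.node 1 (.leaf (nat_lit 0x0)) (.leaf (nat_lit 0x0))) (.node 1 (.leaf (nat_lit 0x0)) (.leaf (nat_lit 0x0)))))))) (.node 32 (.node 16 (.node 8 (.node 4 (.node 2 (.node 1 (.leaf (nat_lit 0x0)) (.leaf (nat_lit 0x0))) (.node 1 (.leaf (nat_lit 0x0)) (.leaf (nat_lit 0x0)))) (.node 2 (.node 1 (.leaf (nat_lit 0x0)) (.leaf (nat_lit 0x0))) (.node 1 (.leaf (nat_lit 0x0)) (.leaf (nat_lit 0x0))))) (.node 4 (.node 2 (.node 1 (.leaf (nat_lit 0x0)) (.leaf (nat_lit 0x0))) (.node 1 (.leaf (nat_lit 0x0)) (.leaf (nat_lit 0x0)))) (.node 2 (.node 1 (.leaf (nat_lit 0x0)) (.leaf (nat_lit 0x0))) (.node 1 (.leaf (nat_lit 0x0)) (.leaf (nat_lit 0x0)))))) (.node 8 (.node 4 (.node 2 (.node 1 (.leaf (nat_lit 0x0)) (.leaf (nat_lit 0x0))) (.node 1 (.leaf (nat_lit 0x0)) (.leaf (nat_lit 0x0)))) (.node 2 (.node 1 (.leaf (nat_lit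 0x0)) (.leaf (nat_lit 0x0))) (.node 1 (.leaf (nat_lit 0x0)) (.leaf (nat_lit 0x0))))) (.node 4 (.node 2 (.node 1 (.leaf (nat_lit 0x0)) (.leaf (nat_lit 0x0))) (.node 1 (.leaf (nat_lit 0x0)) (.leaf (nat_lit 0x0)))) (.node 2 (.node 1 (.leaf (nat_lit 0x0)) (.leaf (nat_lit 0x0))) (.node 1 (.leaf (nat_lit 0x0)) (.leaf (nat_lit 0x0))))))) (.node 16 (.node 8 (.node 4 (.node 2 (.node 1 (.leaf (nat_lit 0x0)) (.leaf (nat_lit 0x0))) (.node 1 (.leaf (nat_lit 0x0)) (.leaf (nat_lit 0x0)))) (.node 2 (.node 1 (.leaf (nat_lit 0x0)) (.leaf (nat_lit 0x0))) (.node 1 (.leaf (nat_lit 0x0)) (.leaf (nat_lit 0x0))))) (.node 4 (.node 2 (.node 1 (.leaf (nat_lit 0x0)) (.leaf (nat_lit 0x0))) (.node 1 (.leaf (nat_lit 0x0)) (.leaf (nat_lit 0x0)))) (.node 2 (.node 1 (.leaf (nat_lit 0x0)) (.leaf (nat_lit 0x0))) (.node 1 (.leaf (nat_lit 0x0)) (.leaf (nat_lit 0x0)))))) (.node 8 (.node 4 (.node 2 (.node 1 (.leaf (nat_lit 0x0)) (.leaf (nat_lit 0x0)))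 (.node 1 (.leaf (nat_lit 0x0)) (.leaf (nat_lit 0x0)))) (.node 2 (.node 1 (.leaf (nat_lit 0x0)) (.leaf (nat_lit 0x0))) (.node 1 (.leaf (nat_lit 0x0)) (.leaf (nat_lit 0x0))))) (.node 4 (.node 2 (.node 1 (.leaf (nat_lit 0x0)) (.leaf (nat_lit 0x0))) (.node 1 (.leaf (nat_lit 0x0)) (.leaf (nat_lit 0x0)))) (.node 2 (.node 1 (.leaf (nat_lit 0x0)) (.leaf (nat_lit 0x0))) (.node 1 (.leaf (nat_lit 0x0)) (.leaf (nat_lit 0x0))))))))

noncomputable def lvO4_6 : Tree :=
  .node 64 (.node 32 (.node 16 (.node 8 (.node 4 (.node 2 (.node 1 (.leaf (nat_lit 0x0)) (.leaf (nat_lit 0x0))) (.node 1 (.leaf (nat_lit 0x0)) (.leaf (nat_lit 0x0)))) (.node 2 (.node 1 (.leaf (nat_lit 0x0)) (.leaf (nat_lit 0x0))) (.node 1 (.leaf (nat_lit 0x0)) (.leaf (nat_lit 0x0))))) (.node 4 (.node 2 (.node 1 (.leaf (nat_lit 0x0)) (.leaf (nat_lit 0x0))) (.node 1 (.leaf (nat_lit 0x0)) (.leaf (nat_lit 0x0)))) (.node 2 (.node 1 (.leaf (nat_lit 0x0)) (.leaf (nat_lit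 0x0))) (.node 1 (.leaf (nat_lit 0x0)) (.leaf (nat_lit 0x0)))))) (.node 8 (.node 4 (.node 2 (.node 1 (.leaf (nat_lit 0x0)) (.leaf (nat_lit 0x0))) (.node 1 (.leaf (nat_lit 0x0)) (.leaf (nat_lit 0x0)))) (.node 2 (.node 1 (.leaf (nat_lit 0x0)) (.leaf (nat_lit 0x0))) (.node 1 (.leaf (nat_lit 0x0)) (.leaf (nat_lit 0x0))))) (.node 4 (.node 2 (.node 1 (.leaf (nat_lit 0x0)) (.leaf (nat_lit 0x0))) (.node 1 (.leaf (nat_lit 0x0)) (.leaf (nat_lit 0x0)))) (.node 2 (.node 1 (.leaf (nat_lit 0x0)) (.leaf (nat_lit 0x0))) (.node 1 (.leaf (nat_lit 0x0)) (.leaf (nat_lit 0x0))))))) (.node 16 (.node 8 (.node 4 (.node 2 (.node 1 (.leaf (nat_lit 0x0)) (.leaf (nat_lit 0x0))) (.node 1 (.leaf (nat_lit 0x0)) (.leaf (nat_lit 0x0)))) (.node 2 (.node 1 (.leaf (nat_lit 0x0)) (.leaf (nat_lit 0x0))) (.node 1 (.leaf (nat_lit 0x0)) (.leaf (nat_lit 0x0))))) (.node 4 (.node 2 (.node 1 (.leaf (nat_lit 0x0)) (.leaf (nat_lit 0x0))) (.node 1 (.leaf (nat_lit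 0x0)) (.leaf (nat_lit 0x0)))) (.node 2 (.node 1 (.leaf (nat_lit 0x0)) (.leaf (nat_lit 0x0))) (.node 1 (.leaf (nat_lit 0x0)) (.leaf (nat_lit 0x0)))))) (.node 8 (.node 4 (.node 2 (.node 1 (.leaf (nat_lit 0x0)) (.leaf (nat_lit 0x0))) (.node 1 (.leaf (nat_lit 0x0)) (.leaf (nat_lit 0x0)))) (.node 2 (.node 1 (.leaf (nat_lit 0x0)) (.leaf (nat_lit 0x0))) (.node 1 (.leaf (nat_lit 0x0)) (.leaf (nat_lit 0x0))))) (.node 4 (.node 2 (.node 1 (.leaf (nat_lit 0x0)) (.leaf (nat_lit 0x0))) (.node 1 (.leaf (nat_lit 0x0)) (.leaf (nat_lit 0x0)))) (.node 2 (.node 1 (.leaf (nat_lit 0x0)) (.leaf (nat_lit 0x0))) (.node 1 (.leaf (nat_lit 0x0)) (.leaf (nat_lit 0x0)))))))) (.node 32 (.node 16 (.node 8 (.node 4 (.node 2 (.node 1 (.leaf (nat_lit 0x0)) (.leaf (nat_lit 0x0))) (.node 1 (.leaf (nat_lit 0x0)) (.leaf (nat_lit 0x0)))) (.node 2 (.node 1 (.leaf (nat_lit 0x0)) (.leaf (nat_lit 0x0))) (.node 1 (.leaf (nat_lit 0x0)) (.leaf (nat_lit 0x0)))))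 (.node 4 (.node 2 (.node 1 (.leaf (nat_lit 0x0)) (.leaf (nat_lit 0x0))) (.node 1 (.leaf (nat_lit 0x0)) (.leaf (nat_lit 0x0)))) (.node 2 (.node 1 (.leaf (nat_lit 0x0)) (.leaf (nat_lit 0x0))) (.node 1 (.leaf (nat_lit 0x0)) (.leaf (nat_lit 0x0)))))) (.node 8 (.node 4 (.node 2 (.node 1 (.leaf (nat_lit 0x0)) (.leaf (nat_lit 0x0))) (.node 1 (.leaf (nat_lit 0x0)) (.leaf (nat_lit 0x0)))) (.node 2 (.node 1 (.leaf (nat_lit 0x0)) (.leaf (nat_lit 0x0))) (.node 1 (.leaf (nat_lit 0x0)) (.leaf (nat_lit 0x0))))) (.node 4 (.node 2 (.node 1 (.leaf (nat_lit 0x0)) (.leaf (nat_lit 0x0))) (.node 1 (.leaf (nat_lit 0x0)) (.leaf (nat_lit 0x0)))) (.node 2 (.node 1 (.leaf (nat_lit 0x0)) (.leaf (nat_lit 0x0))) (.node 1 (.leaf (nat_lit 0x0)) (.leaf (nat_lit 0x0))))))) (.node 16 (.node 8 (.node 4 (.node 2 (.node 1 (.leaf (nat_lit 0x0)) (.leaf (nat_lit 0x0))) (.node 1 (.leaf (nat_lit 0x0)) (.leaf (nat_lit 0x0)))) (.node 2 (.node 1 (.leaf (nat_lit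 0x0)) (.leaf (nat_lit 0x0))) (.node 1 (.leaf (nat_lit 0x0)) (.leaf (nat_lit 0x0))))) (.node 4 (.node 2 (.node 1 (.leaf (nat_lit 0x0)) (.leaf (nat_lit 0x0))) (.node 1 (.leaf (nat_lit 0x0)) (.leaf (nat_lit 0x0)))) (.node 2 (.node 1 (.leaf (nat_lit 0x0)) (.leaf (nat_lit 0x0))) (.node 1 (.leaf (nat_lit 0x0)) (.leaf (nat_lit 0x0)))))) (.node 8 (.node 4 (.node 2 (.node 1 (.leaf (nat_lit 0x0)) (.leaf (nat_lit 0x0))) (.node 1 (.leaf (nat_lit 0x0)) (.leaf (nat_lit 0x0)))) (.node 2 (.node 1 (.leaf (nat_lit 0x0)) (.leaf (nat_lit 0x0))) (.node 1 (.leaf (nat_lit 0x0)) (.leaf (nat_lit 0x0))))) (.node 4 (.node 2 (.node 1 (.leaf (nat_lit 0x0)) (.leaf (nat_lit 0x0))) (.node 1 (.leaf (nat_lit 0x0)) (.leaf (nat_lit 0x0)))) (.node 2 (.node 1 (.leaf (nat_lit 0x0)) (.leaf (nat_lit 0x0))) (.node 1 (.leaf (nat_lit 0x0)) (.leaf (nat_lit 0x0))))))))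

noncomputable def lvO4_7 : Tree :=
  .node 64 (.node 32 (.node 16 (.node 8 (.node 4 (.node 2 (.node 1 (.leaf (nat_lit 0x0)) (.leaf (nat_lit 0x0))) (.node 1 (.leaf (nat_lit 0x0)) (.leaf (nat_lit 0x0)))) (.node 2 (.node 1 (.leaf (nat_lit 0x0)) (.leaf (nat_lit 0x0))) (.node 1 (.leaf (nat_lit 0x0)) (.leaf (nat_lit 0x0))))) (.node 4 (.node 2 (.node 1 (.leaf (nat_lit 0x0)) (.leaf (nat_lit 0x0))) (.node 1 (.leaf (nat_lit 0x0)) (.leaf (nat_lit 0x0)))) (.node 2 (.node 1 (.leaf (nat_lit 0x0)) (.leaf (nat_lit 0x0))) (.node 1 (.leaf (nat_lit 0x0)) (.leaf (nat_lit 0x0)))))) (.node 8 (.node 4 (.node 2 (.node 1 (.leaf (nat_lit 0x0)) (.leaf (nat_lit 0x0))) (.node 1 (.leaf (nat_lit 0x0)) (.leaf (nat_lit 0x0)))) (.node 2 (.node 1 (.leaf (nat_lit 0x0)) (.leaf (nat_lit 0x0))) (.node 1 (.leaf (nat_lit 0x0)) (.leaf (nat_lit 0x0))))) (.node 4 (.node 2 (.node 1 (.leaf (nat_lit 0x0)) (.leaf (nat_lit 0x0))) (.node 1 (.leaf (nat_lit 0x0))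 (.leaf (nat_lit 0x0)))) (.node 2 (.node 1 (.leaf (nat_lit 0x0)) (.leaf (nat_lit 0x0))) (.node 1 (.leaf (nat_lit 0x0)) (.leaf (nat_lit 0x0))))))) (.node 16 (.node 8 (.node 4 (.node 2 (.node 1 (.leaf (nat_lit 0x0)) (.leaf (nat_lit 0x0))) (.node 1 (.leaf (nat_lit 0x0)) (.leaf (nat_lit 0x0)))) (.node 2 (.node 1 (.leaf (nat_lit 0x0)) (.leaf (nat_lit 0x0))) (.node 1 (.leaf (nat_lit 0x0)) (.leaf (nat_lit 0x0))))) (.node 4 (.node 2 (.node 1 (.leaf (nat_lit 0x0)) (.leaf (nat_lit 0x0))) (.node 1 (.leaf (nat_lit 0x0)) (.leaf (nat_lit 0x0)))) (.node 2 (.node 1 (.leaf (nat_lit 0x0)) (.leaf (nat_lit 0x0))) (.node 1 (.leaf (nat_lit 0x0)) (.leaf (nat_lit 0x0)))))) (.node 8 (.node 4 (.node 2 (.node 1 (.leaf (nat_lit 0x0)) (.leaf (nat_lit 0x0))) (.node 1 (.leaf (nat_lit 0x0)) (.leaf (nat_lit 0x0)))) (.node 2 (.node 1 (.leaf (nat_lit 0x0)) (.leaf (nat_lit 0x0))) (.node 1 (.leaf (nat_lit 0x0)) (.leaf (nat_lit 0x0))))) (.node 4 (.node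 2 (.node 1 (.leaf (nat_lit 0x0)) (.leaf (nat_lit 0x0))) (.node 1 (.leaf (nat_lit 0x0)) (.leaf (nat_lit 0x0)))) (.node 2 (.node 1 (.leaf (nat_lit 0x0)) (.leaf (nat_lit 0x0))) (.node 1 (.leaf (nat_lit 0x0)) (.leaf (nat_lit 0x0)))))))) (.node 32 (.node 16 (.node 8 (.node 4 (.node 2 (.node 1 (.leaf (nat_lit 0x0)) (.leaf (nat_lit 0x0))) (.node 1 (.leaf (nat_lit 0x0)) (.leaf (nat_lit 0x0)))) (.node 2 (.node 1 (.leaf (nat_lit 0x0)) (.leaf (nat_lit 0x0))) (.node 1 (.leaf (nat_lit 0x0)) (.leaf (nat_lit 0x0))))) (.node 4 (.node 2 (.node 1 (.leaf (nat_lit 0x0)) (.leaf (nat_lit 0x0))) (.node 1 (.leaf (nat_lit 0x0)) (.leaf (nat_lit 0x0)))) (.node 2 (.node 1 (.leaf (nat_lit 0x0)) (.leaf (nat_lit 0x0))) (.node 1 (.leaf (nat_lit 0x0)) (.leaf (nat_lit 0x0)))))) (.node 8 (.node 4 (.node 2 (.node 1 (.leaf (nat_lit 0x0)) (.leaf (nat_lit 0x0))) (.node 1 (.leaf (nat_lit 0x0)) (.leaf (nat_lit 0x0)))) (.node 2 (.node 1 (.leaf (nat_lit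 0x0)) (.leaf (nat_lit 0x0))) (.node 1 (.leaf (nat_lit 0x0)) (.leaf (nat_lit 0x0))))) (.node 4 (.node 2 (.node 1 (.leaf (nat_lit 0x0)) (.leaf (nat_lit 0x0))) (.node 1 (.leaf (nat_lit 0x0)) (.leaf (nat_lit 0x0)))) (.node 2 (.node 1 (.leaf (nat_lit 0x0)) (.leaf (nat_lit 0x0))) (.node 1 (.leaf (nat_lit 0x0)) (.leaf (nat_lit 0x0))))))) (.node 16 (.node 8 (.node 4 (.node 2 (.node 1 (.leaf (nat_lit 0x0)) (.leaf (nat_lit 0x0))) (.node 1 (.leaf (nat_lit 0x0)) (.leaf (nat_lit 0x0)))) (.node 2 (.node 1 (.leaf (nat_lit 0x0)) (.leaf (nat_lit 0x0))) (.node 1 (.leaf (nat_lit 0x0)) (.leaf (nat_lit 0x0))))) (.node 4 (.node 2 (.node 1 (.leaf (nat_lit 0x0)) (.leaf (nat_lit 0x0))) (.node 1 (.leaf (nat_lit 0x0)) (.leaf (nat_lit 0x0)))) (.node 2 (.node 1 (.leaf (nat_lit 0x0)) (.leaf (nat_lit 0x0))) (.node 1 (.leaf (nat_lit 0x0)) (.leaf (nat_lit 0x0)))))) (.node 8 (.node 4 (.node 2 (.node 1 (.leaf (nat_lit 0x0)) (.leaf (nat_lit 0x0)))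 (.node 1 (.leaf (nat_lit 0x0)) (.leaf (nat_lit 0x0)))) (.node 2 (.node 1 (.leaf (nat_lit 0x0)) (.leaf (nat_lit 0x0))) (.node 1 (.leaf (nat_lit 0x0)) (.leaf (nat_lit 0x0))))) (.node 4 (.node 2 (.node 1 (.leaf (nat_lit 0x0)) (.leaf (nat_lit 0x0))) (.node 1 (.leaf (nat_lit 0x0)) (.leaf (nat_lit 0x0)))) (.node 2 (.node 1 (.leaf (nat_lit 0x0)) (.leaf (nat_lit 0x0))) (.node 1 (.leaf (nat_lit 0x0)) (.leaf (nat_lit 0x0))))))))

noncomputable def lvO4_8 : Tree :=
  .node 64 (.node 32 (.node 16 (.node 8 (.node 4 (.node 2 (.node 1 (.leaf (nat_lit 0x0)) (.leaf (nat_lit 0x0))) (.node 1 (.leaf (nat_lit 0x0)) (.leaf (nat_lit 0x0)))) (.node 2 (.node 1 (.leaf (nat_lit 0x0)) (.leaf (nat_lit 0x0))) (.node 1 (.leaf (nat_lit 0x0)) (.leaf (nat_lit 0x0))))) (.node 4 (.node 2 (.node 1 (.leaf (nat_lit 0x0)) (.leaf (nat_lit 0x0))) (.node 1 (.leaf (nat_lit 0x0)) (.leaf (nat_lit 0x0)))) (.node 2 (.node 1 (.leaf (nat_lit 0x0)) (.leaf (nat_lit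 0x0))) (.node 1 (.leaf (nat_lit 0x0)) (.leaf (nat_lit 0x0)))))) (.node 8 (.node 4 (.node 2 (.node 1 (.leaf (nat_lit 0x0)) (.leaf (nat_lit 0x0))) (.node 1 (.leaf (nat_lit 0x0)) (.leaf (nat_lit 0x0)))) (.node 2 (.node 1 (.leaf (nat_lit 0x0)) (.leaf (nat_lit 0x0))) (.node 1 (.leaf (nat_lit 0x0)) (.leaf (nat_lit 0x0))))) (.node 4 (.node 2 (.node 1 (.leaf (nat_lit 0x0)) (.leaf (nat_lit 0x0))) (.node 1 (.leaf (nat_lit 0x0)) (.leaf (nat_lit 0x0)))) (.node 2 (.node 1 (.leaf (nat_lit 0x0)) (.leaf (nat_lit 0x0))) (.node 1 (.leaf (nat_lit 0x0)) (.leaf (nat_lit 0x0))))))) (.node 16 (.node 8 (.node 4 (.node 2 (.node 1 (.leaf (nat_lit 0x0)) (.leaf (nat_lit 0x0))) (.node 1 (.leaf (nat_lit 0x0)) (.leaf (nat_lit 0x0)))) (.node 2 (.node 1 (.leaf (nat_lit 0x0)) (.leaf (nat_lit 0x0))) (.node 1 (.leaf (nat_lit 0x0)) (.leaf (nat_lit 0x0))))) (.node 4 (.node 2 (.node 1 (.leaf (nat_lit 0x0)) (.leaf (nat_lit 0x0))) (.node 1 (.leaf (nat_lit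 0x0)) (.leaf (nat_lit 0x0)))) (.node 2 (.node 1 (.leaf (nat_lit 0x0)) (.leaf (nat_lit 0x0))) (.node 1 (.leaf (nat_lit 0x0)) (.leaf (nat_lit 0x0)))))) (.node 8 (.node 4 (.node 2 (.node 1 (.leaf (nat_lit 0x0)) (.leaf (nat_lit 0x0))) (.node 1 (.leaf (nat_lit 0x0)) (.leaf (nat_lit 0x0)))) (.node 2 (.node 1 (.leaf (nat_lit 0x0)) (.leaf (nat_lit 0x0))) (.node 1 (.leaf (nat_lit 0x0)) (.leaf (nat_lit 0x0))))) (.node 4 (.node 2 (.node 1 (.leaf (nat_lit 0x0)) (.leaf (nat_lit 0x0))) (.node 1 (.leaf (nat_lit 0x0)) (.leaf (nat_lit 0x0)))) (.node 2 (.node 1 (.leaf (nat_lit 0x0)) (.leaf (nat_lit 0x0))) (.node 1 (.leaf (nat_lit 0x0)) (.leaf (nat_lit 0x0)))))))) (.node 32 (.node 16 (.node 8 (.node 4 (.node 2 (.node 1 (.leaf (nat_lit 0x0)) (.leaf (nat_lit 0x0))) (.node 1 (.leaf (nat_lit 0x0)) (.leaf (nat_lit 0x0)))) (.node 2 (.node 1 (.leaf (nat_lit 0x0)) (.leaf (nat_lit 0x0))) (.node 1 (.leaf (nat_lit 0x0)) (.leaf (nat_lit 0x0)))))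 (.node 4 (.node 2 (.node 1 (.leaf (nat_lit 0x0)) (.leaf (nat_lit 0x0))) (.node 1 (.leaf (nat_lit 0x0)) (.leaf (nat_lit 0x0)))) (.node 2 (.node 1 (.leaf (nat_lit 0x0)) (.leaf (nat_lit 0x0))) (.node 1 (.leaf (nat_lit 0x0)) (.leaf (nat_lit 0x0)))))) (.node 8 (.node 4 (.node 2 (.node 1 (.leaf (nat_lit 0x0)) (.leaf (nat_lit 0x0))) (.node 1 (.leaf (nat_lit 0x0)) (.leaf (nat_lit 0x0)))) (.node 2 (.node 1 (.leaf (nat_lit 0x0)) (.leaf (nat_lit 0x0))) (.node 1 (.leaf (nat_lit 0x0)) (.leaf (nat_lit 0x0))))) (.node 4 (.node 2 (.node 1 (.leaf (nat_lit 0x0)) (.leaf (nat_lit 0x0))) (.node 1 (.leaf (nat_lit 0x0)) (.leaf (nat_lit 0x0)))) (.node 2 (.node 1 (.leaf (nat_lit 0x0)) (.leaf (nat_lit 0x0))) (.node 1 (.leaf (nat_lit 0x0)) (.leaf (nat_lit 0x0))))))) (.node 16 (.node 8 (.node 4 (.node 2 (.node 1 (.leaf (nat_lit 0x0)) (.leaf (nat_lit 0x0))) (.node 1 (.leaf (nat_lit 0x0)) (.leaf (nat_lit 0x0)))) (.node 2 (.node 1 (.leaf (nat_lit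 0x0)) (.leaf (nat_lit 0x0))) (.node 1 (.leaf (nat_lit 0x0)) (.leaf (nat_lit 0x0))))) (.node 4 (.node 2 (.node 1 (.leaf (nat_lit 0x0)) (.leaf (nat_lit 0x0))) (.node 1 (.leaf (nat_lit 0x0)) (.leaf (nat_lit 0x0)))) (.node 2 (.node 1 (.leaf (nat_lit 0x0)) (.leaf (nat_lit 0x0))) (.node 1 (.leaf (nat_lit 0x0)) (.leaf (nat_lit 0x0)))))) (.node 8 (.node 4 (.node 2 (.node 1 (.leaf (nat_lit 0x0)) (.leaf (nat_lit 0x0))) (.node 1 (.leaf (nat_lit 0x0)) (.leaf (nat_lit 0x0)))) (.node 2 (.node 1 (.leaf (nat_lit 0x0)) (.leaf (nat_lit 0x0))) (.node 1 (.leaf (nat_lit 0x0)) (.leaf (nat_lit 0x0))))) (.node 4 (.node 2 (.node 1 (.leaf (nat_lit 0x0)) (.leaf (nat_lit 0x0))) (.node 1 (.leaf (nat_lit 0x0)) (.leaf (nat_lit 0x0)))) (.node 2 (.node 1 (.leaf (nat_lit 0x0)) (.leaf (nat_lit 0x0))) (.node 1 (.leaf (nat_lit 0x0)) (.leaf (nat_lit 0x0))))))))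

noncomputable def lvO4_9 : Tree :=
  .node 64 (.node 32 (.node 16 (.node 8 (.node 4 (.node 2 (.node 1 (.leaf (nat_lit 0x0)) (.leaf (nat_lit 0x0))) (.node 1 (.leaf (nat_lit 0x0)) (.leaf (nat_lit 0x0)))) (.node 2 (.node 1 (.leaf (nat_lit 0x0)) (.leaf (nat_lit 0x0))) (.node 1 (.leaf (nat_lit 0x0)) (.leaf (nat_lit 0x0))))) (.node 4 (.node 2 (.node 1 (.leaf (nat_lit 0x0)) (.leaf (nat_lit 0x0))) (.node 1 (.leaf (nat_lit 0x0)) (.leaf (nat_lit 0x0)))) (.node 2 (.node 1 (.leaf (nat_lit 0x0)) (.leaf (nat_lit 0x0))) (.node 1 (.leaf (nat_lit 0x0)) (.leaf (nat_lit 0x0)))))) (.node 8 (.node 4 (.node 2 (.node 1 (.leaf (nat_lit 0x0)) (.leaf (nat_lit 0x0))) (.node 1 (.leaf (nat_lit 0x0)) (.leaf (nat_lit 0x0)))) (.node 2 (.node 1 (.leaf (nat_lit 0x0)) (.leaf (nat_lit 0x0))) (.node 1 (.leaf (nat_lit 0x0)) (.leaf (nat_lit 0x0))))) (.node 4 (.node 2 (.node 1 (.leaf (nat_lit 0x0)) (.leaf (nat_lit 0x0))) (.node 1 (.leaf (nat_lit 0x0))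 (.leaf (nat_lit 0x0)))) (.node 2 (.node 1 (.leaf (nat_lit 0x0)) (.leaf (nat_lit 0x0))) (.node 1 (.leaf (nat_lit 0x0)) (.leaf (nat_lit 0x0))))))) (.node 16 (.node 8 (.node 4 (.node 2 (.node 1 (.leaf (nat_lit 0x0)) (.leaf (nat_lit 0x0))) (.node 1 (.leaf (nat_lit 0x0)) (.leaf (nat_lit 0x0)))) (.node 2 (.node 1 (.leaf (nat_lit 0x0)) (.leaf (nat_lit 0x0))) (.node 1 (.leaf (nat_lit 0x0)) (.leaf (nat_lit 0x0))))) (.node 4 (.node 2 (.node 1 (.leaf (nat_lit 0x0)) (.leaf (nat_lit 0x0))) (.node 1 (.leaf (nat_lit 0x0)) (.leaf (nat_lit 0x0)))) (.node 2 (.node 1 (.leaf (nat_lit 0x0)) (.leaf (nat_lit 0x0))) (.node 1 (.leaf (nat_lit 0x0)) (.leaf (nat_lit 0x0)))))) (.node 8 (.node 4 (.node 2 (.node 1 (.leaf (nat_lit 0x0)) (.leaf (nat_lit 0x0))) (.node 1 (.leaf (nat_lit 0x0)) (.leaf (nat_lit 0x0)))) (.node 2 (.node 1 (.leaf (nat_lit 0x0)) (.leaf (nat_lit 0x0))) (.node 1 (.leaf (nat_lit 0x0)) (.leaf (nat_lit 0x0))))) (.node 4 (.node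 2 (.node 1 (.leaf (nat_lit 0x0)) (.leaf (nat_lit 0x0))) (.node 1 (.leaf (nat_lit 0x0)) (.leaf (nat_lit 0x0)))) (.node 2 (.node 1 (.leaf (nat_lit 0x0)) (.leaf (nat_lit 0x0))) (.node 1 (.leaf (nat_lit 0x0)) (.leaf (nat_lit 0x0)))))))) (.node 32 (.node 16 (.node 8 (.node 4 (.node 2 (.node 1 (.leaf (nat_lit 0x0)) (.leaf (nat_lit 0x0))) (.node 1 (.leaf (nat_lit 0x0)) (.leaf (nat_lit 0x0)))) (.node 2 (.node 1 (.leaf (nat_lit 0x0)) (.leaf (nat_lit 0x0))) (.node 1 (.leaf (nat_lit 0x0)) (.leaf (nat_lit 0x0))))) (.node 4 (.node 2 (.node 1 (.leaf (nat_lit 0x0)) (.leaf (nat_lit 0x0))) (.node 1 (.leaf (nat_lit 0x0)) (.leaf (nat_lit 0x0)))) (.node 2 (.node 1 (.leaf (nat_lit 0x0)) (.leaf (nat_lit 0x0))) (.node 1 (.leaf (nat_lit 0x0)) (.leaf (nat_lit 0x0)))))) (.node 8 (.node 4 (.node 2 (.node 1 (.leaf (nat_lit 0x0)) (.leaf (nat_lit 0x0))) (.node 1 (.leaf (nat_lit 0x0)) (.leaf (nat_lit 0x0)))) (.node 2 (.node 1 (.leaf (nat_lit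 0x0)) (.leaf (nat_lit 0x0))) (.node 1 (.leaf (nat_lit 0x0)) (.leaf (nat_lit 0x0))))) (.node 4 (.node 2 (.node 1 (.leaf (nat_lit 0x0)) (.leaf (nat_lit 0x0))) (.node 1 (.leaf (nat_lit 0x0)) (.leaf (nat_lit 0x0)))) (.node 2 (.node 1 (.leaf (nat_lit 0x0)) (.leaf (nat_lit 0x0))) (.node 1 (.leaf (nat_lit 0x0)) (.leaf (nat_lit 0x0))))))) (.node 16 (.node 8 (.node 4 (.node 2 (.node 1 (.leaf (nat_lit 0x0)) (.leaf (nat_lit 0x0))) (.node 1 (.leaf (nat_lit 0x0)) (.leaf (nat_lit 0x0)))) (.node 2 (.node 1 (.leaf (nat_lit 0x0)) (.leaf (nat_lit 0x0))) (.node 1 (.leaf (nat_lit 0x0)) (.leaf (nat_lit 0x0))))) (.node 4 (.node 2 (.node 1 (.leaf (nat_lit 0x0)) (.leaf (nat_lit 0x0))) (.node 1 (.leaf (nat_lit 0x0)) (.leaf (nat_lit 0x0)))) (.node 2 (.node 1 (.leaf (nat_lit 0x0)) (.leaf (nat_lit 0x0))) (.node 1 (.leaf (nat_lit 0x0)) (.leaf (nat_lit 0x0)))))) (.node 8 (.node 4 (.node 2 (.node 1 (.leaf (nat_lit 0x0)) (.leaf (nat_lit 0x0)))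 (.node 1 (.leaf (nat_lit 0x0)) (.leaf (nat_lit 0x0)))) (.node 2 (.node 1 (.leaf (nat_lit 0x0)) (.leaf (nat_lit 0x0))) (.node 1 (.leaf (nat_lit 0x0)) (.leaf (nat_lit 0x0))))) (.node 4 (.node 2 (.node 1 (.leaf (nat_lit 0x0)) (.leaf (nat_lit 0x0))) (.node 1 (.leaf (nat_lit 0x0)) (.leaf (nat_lit 0x0)))) (.node 2 (.node 1 (.leaf (nat_lit 0x0)) (.leaf (nat_lit 0x0))) (.node 1 (.leaf (nat_lit 0x0)) (.leaf (nat_lit 0x0))))))))

noncomputable def lvO4_10 : Tree :=
  .node 64 (.node 32 (.node 16 (.node 8 (.node 4 (.node 2 (.node 1 (.leaf (nat_lit 0x0)) (.leaf (nat_lit 0x0))) (.node 1 (.leaf (nat_lit 0x0)) (.leaf (nat_lit 0x0)))) (.node 2 (.node 1 (.leaf (nat_lit 0x0)) (.leaf (nat_lit 0x0))) (.node 1 (.leaf (nat_lit 0x0)) (.leaf (nat_lit 0x0))))) (.node 4 (.node 2 (.node 1 (.leaf (nat_lit 0x0)) (.leaf (nat_lit 0x0))) (.node 1 (.leaf (nat_lit 0x0)) (.leaf (nat_lit 0x0)))) (.node 2 (.node 1 (.leaf (nat_lit 0x0)) (.leaf (nat_lit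 0x0))) (.node 1 (.leaf (nat_lit 0x0)) (.leaf (nat_lit 0x0)))))) (.node 8 (.node 4 (.node 2 (.node 1 (.leaf (nat_lit 0x0)) (.leaf (nat_lit 0x0))) (.node 1 (.leaf (nat_lit 0x0)) (.leaf (nat_lit 0x0)))) (.node 2 (.node 1 (.leaf (nat_lit 0x0)) (.leaf (nat_lit 0x0))) (.node 1 (.leaf (nat_lit 0x0)) (.leaf (nat_lit 0x0))))) (.node 4 (.node 2 (.node 1 (.leaf (nat_lit 0x0)) (.leaf (nat_lit 0x0))) (.node 1 (.leaf (nat_lit 0x0)) (.leaf (nat_lit 0x0)))) (.node 2 (.node 1 (.leaf (nat_lit 0x0)) (.leaf (nat_lit 0x0))) (.node 1 (.leaf (nat_lit 0x0)) (.leaf (nat_lit 0x0))))))) (.node 16 (.node 8 (.node 4 (.node 2 (.node 1 (.leaf (nat_lit 0x0)) (.leaf (nat_lit 0x0))) (.node 1 (.leaf (nat_lit 0x0)) (.leaf (nat_lit 0x0)))) (.node 2 (.node 1 (.leaf (nat_lit 0x0)) (.leaf (nat_lit 0x0))) (.node 1 (.leaf (nat_lit 0x0)) (.leaf (nat_lit 0x0))))) (.node 4 (.node 2 (.node 1 (.leaf (nat_lit 0x0)) (.leaf (nat_lit 0x0))) (.node 1 (.leaf (nat_lit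 0x0)) (.leaf (nat_lit 0x0)))) (.node 2 (.node 1 (.leaf (nat_lit 0x0)) (.leaf (nat_lit 0x0))) (.node 1 (.leaf (nat_lit 0x0)) (.leaf (nat_lit 0x0)))))) (.node 8 (.node 4 (.node 2 (.node 1 (.leaf (nat_lit 0x0)) (.leaf (nat_lit 0x0))) (.node 1 (.leaf (nat_lit 0x0)) (.leaf (nat_lit 0x0)))) (.node 2 (.node 1 (.leaf (nat_lit 0x0)) (.leaf (nat_lit 0x0))) (.node 1 (.leaf (nat_lit 0x0)) (.leaf (nat_lit 0x0))))) (.node 4 (.node 2 (.node 1 (.leaf (nat_lit 0x0)) (.leaf (nat_lit 0x0))) (.node 1 (.leaf (nat_lit 0x0)) (.leaf (nat_lit 0x0)))) (.node 2 (.node 1 (.leaf (nat_lit 0x0)) (.leaf (nat_lit 0x0))) (.node 1 (.leaf (nat_lit 0x0)) (.leaf (nat_lit 0x0)))))))) (.node 32 (.node 16 (.node 8 (.node 4 (.node 2 (.node 1 (.leaf (nat_lit 0x0)) (.leaf (nat_lit 0x0))) (.node 1 (.leaf (nat_lit 0x0)) (.leaf (nat_lit 0x0)))) (.node 2 (.node 1 (.leaf (nat_lit 0x0)) (.leaf (nat_lit 0x0))) (.node 1 (.leaf (nat_lit 0x0)) (.leaf (nat_lit 0x0)))))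 (.node 4 (.node 2 (.node 1 (.leaf (nat_lit 0x0)) (.leaf (nat_lit 0x0))) (.node 1 (.leaf (nat_lit 0x0)) (.leaf (nat_lit 0x0)))) (.node 2 (.node 1 (.leaf (nat_lit 0x0)) (.leaf (nat_lit 0x0))) (.node 1 (.leaf (nat_lit 0x0)) (.leaf (nat_lit 0x0)))))) (.node 8 (.node 4 (.node 2 (.node 1 (.leaf (nat_lit 0x0)) (.leaf (nat_lit 0x0))) (.node 1 (.leaf (nat_lit 0x0)) (.leaf (nat_lit 0x0)))) (.node 2 (.node 1 (.leaf (nat_lit 0x0)) (.leaf (nat_lit 0x0))) (.node 1 (.leaf (nat_lit 0x0)) (.leaf (nat_lit 0x0))))) (.node 4 (.node 2 (.node 1 (.leaf (nat_lit 0x0)) (.leaf (nat_lit 0x0))) (.node 1 (.leaf (nat_lit 0x0)) (.leaf (nat_lit 0x0)))) (.node 2 (.node 1 (.leaf (nat_lit 0x0)) (.leaf (nat_lit 0x0))) (.node 1 (.leaf (nat_lit 0x0)) (.leaf (nat_lit 0x0))))))) (.node 16 (.node 8 (.node 4 (.node 2 (.node 1 (.leaf (nat_lit 0x0)) (.leaf (nat_lit 0x0))) (.node 1 (.leaf (nat_lit 0x0)) (.leaf (nat_lit 0x0)))) (.node 2 (.node 1 (.leaf (nat_lit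 0x0)) (.leaf (nat_lit 0x0))) (.node 1 (.leaf (nat_lit 0x0)) (.leaf (nat_lit 0x0))))) (.node 4 (.node 2 (.node 1 (.leaf (nat_lit 0x0)) (.leaf (nat_lit 0x0))) (.node 1 (.leaf (nat_lit 0x0)) (.leaf (nat_lit 0x0)))) (.node 2 (.node 1 (.leaf (nat_lit 0x0)) (.leaf (nat_lit 0x0))) (.node 1 (.leaf (nat_lit 0x0)) (.leaf (nat_lit 0x0)))))) (.node 8 (.node 4 (.node 2 (.node 1 (.leaf (nat_lit 0x0)) (.leaf (nat_lit 0x0))) (.node 1 (.leaf (nat_lit 0x0)) (.leaf (nat_lit 0x0)))) (.node 2 (.node 1 (.leaf (nat_lit 0x0)) (.leaf (nat_lit 0x0))) (.node 1 (.leaf (nat_lit 0x0)) (.leaf (nat_lit 0x0))))) (.node 4 (.node 2 (.node 1 (.leaf (nat_lit 0x0)) (.leaf (nat_lit 0x0))) (.node 1 (.leaf (nat_lit 0x0)) (.leaf (nat_lit 0x0)))) (.node 2 (.node 1 (.leaf (nat_lit 0x0)) (.leaf (nat_lit 0x0))) (.node 1 (.leaf (nat_lit 0x0)) (.leaf (nat_lit 0x0))))))))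

noncomputable def lvO4_11 : Tree :=
  .node 64 (.node 32 (.node 16 (.node 8 (.node 4 (.node 2 (.node 1 (.leaf (nat_lit 0x0)) (.leaf (nat_lit 0x0))) (.node 1 (.leaf (nat_lit 0x0)) (.leaf (nat_lit 0x0)))) (.node 2 (.node 1 (.leaf (nat_lit 0x0)) (.leaf (nat_lit 0x0))) (.node 1 (.leaf (nat_lit 0x0)) (.leaf (nat_lit 0x0))))) (.node 4 (.node 2 (.node 1 (.leaf (nat_lit 0x0)) (.leaf (nat_lit 0x0))) (.node 1 (.leaf (nat_lit 0x0)) (.leaf (nat_lit 0x0)))) (.node 2 (.node 1 (.leaf (nat_lit 0x0)) (.leaf (nat_lit 0x0))) (.node 1 (.leaf (nat_lit 0x0)) (.leaf (nat_lit 0x0)))))) (.node 8 (.node 4 (.node 2 (.node 1 (.leaf (nat_lit 0x0)) (.leaf (nat_lit 0x0))) (.node 1 (.leaf (nat_lit 0x0)) (.leaf (nat_lit 0x0)))) (.node 2 (.node 1 (.leaf (nat_lit 0x0)) (.leaf (nat_lit 0x0))) (.node 1 (.leaf (nat_lit 0x0)) (.leaf (nat_lit 0x0))))) (.node 4 (.node 2 (.node 1 (.leaf (nat_lit 0x0)) (.leaf (nat_lit 0x0))) (.node 1 (.leaf (nat_lit 0x0))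 (.leaf (nat_lit 0x0)))) (.node 2 (.node 1 (.leaf (nat_lit 0x0)) (.leaf (nat_lit 0x0))) (.node 1 (.leaf (nat_lit 0x0)) (.leaf (nat_lit 0x0))))))) (.node 16 (.node 8 (.node 4 (.node 2 (.node 1 (.leaf (nat_lit 0x0)) (.leaf (nat_lit 0x0))) (.node 1 (.leaf (nat_lit 0x0)) (.leaf (nat_lit 0x0)))) (.node 2 (.node 1 (.leaf (nat_lit 0x0)) (.leaf (nat_lit 0x0))) (.node 1 (.leaf (nat_lit 0x0)) (.leaf (nat_lit 0x0))))) (.node 4 (.node 2 (.node 1 (.leaf (nat_lit 0x0)) (.leaf (nat_lit 0x0))) (.node 1 (.leaf (nat_lit 0x0)) (.leaf (nat_lit 0x0)))) (.node 2 (.node 1 (.leaf (nat_lit 0x0)) (.leaf (nat_lit 0x0))) (.node 1 (.leaf (nat_lit 0x0)) (.leaf (nat_lit 0x0)))))) (.node 8 (.node 4 (.node 2 (.node 1 (.leaf (nat_lit 0x0)) (.leaf (nat_lit 0x0))) (.node 1 (.leaf (nat_lit 0x0)) (.leaf (nat_lit 0x0)))) (.node 2 (.node 1 (.leaf (nat_lit 0x0)) (.leaf (nat_lit 0x0))) (.node 1 (.leaf (nat_lit 0x0)) (.leaf (nat_lit 0x0))))) (.node 4 (.node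 2 (.node 1 (.leaf (nat_lit 0x0)) (.leaf (nat_lit 0x0))) (.node 1 (.leaf (nat_lit 0x0)) (.leaf (nat_lit 0x0)))) (.node 2 (.node 1 (.leaf (nat_lit 0x0)) (.leaf (nat_lit 0x0))) (.node 1 (.leaf (nat_lit 0x0)) (.leaf (nat_lit 0x0)))))))) (.node 32 (.node 16 (.node 8 (.node 4 (.node 2 (.node 1 (.leaf (nat_lit 0x0)) (.leaf (nat_lit 0x0))) (.node 1 (.leaf (nat_lit 0x0)) (.leaf (nat_lit 0x0)))) (.node 2 (.node 1 (.leaf (nat_lit 0x0)) (.leaf (nat_lit 0x0))) (.node 1 (.leaf (nat_lit 0x0)) (.leaf (nat_lit 0x0))))) (.node 4 (.node 2 (.node 1 (.leaf (nat_lit 0x0)) (.leaf (nat_lit 0x0))) (.node 1 (.leaf (nat_lit 0x0)) (.leaf (nat_lit 0x0)))) (.node 2 (.node 1 (.leaf (nat_lit 0x0)) (.leaf (nat_lit 0x0))) (.node 1 (.leaf (nat_lit 0x0)) (.leaf (nat_lit 0x0)))))) (.node 8 (.node 4 (.node 2 (.node 1 (.leaf (nat_lit 0x0)) (.leaf (nat_lit 0x0))) (.node 1 (.leaf (nat_lit 0x0)) (.leaf (nat_lit 0x0)))) (.node 2 (.node 1 (.leaf (nat_lit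 0x0)) (.leaf (nat_lit 0x0))) (.node 1 (.leaf (nat_lit 0x0)) (.leaf (nat_lit 0x0))))) (.node 4 (.node 2 (.node 1 (.leaf (nat_lit 0x0)) (.leaf (nat_lit 0x0))) (.node 1 (.leaf (nat_lit 0x0)) (.leaf (nat_lit 0x0)))) (.node 2 (.node 1 (.leaf (nat_lit 0x0)) (.leaf (nat_lit 0x0))) (.node 1 (.leaf (nat_lit 0x0)) (.leaf (nat_lit 0x0))))))) (.node 16 (.node 8 (.node 4 (.node 2 (.node 1 (.leaf (nat_lit 0x0)) (.leaf (nat_lit 0x0))) (.node 1 (.leaf (nat_lit 0x0)) (.leaf (nat_lit 0x0)))) (.node 2 (.node 1 (.leaf (nat_lit 0x0)) (.leaf (nat_lit 0x0))) (.node 1 (.leaf (nat_lit 0x0)) (.leaf (nat_lit 0x0))))) (.node 4 (.node 2 (.node 1 (.leaf (nat_lit 0x0)) (.leaf (nat_lit 0x0))) (.node 1 (.leaf (nat_lit 0x0)) (.leaf (nat_lit 0x0)))) (.node 2 (.node 1 (.leaf (nat_lit 0x0)) (.leaf (nat_lit 0x0))) (.node 1 (.leaf (nat_lit 0x0)) (.leaf (nat_lit 0x0)))))) (.node 8 (.node 4 (.node 2 (.node 1 (.leaf (nat_lit 0x0)) (.leaf (nat_lit 0x0)))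 (.node 1 (.leaf (nat_lit 0x0)) (.leaf (nat_lit 0x0)))) (.node 2 (.node 1 (.leaf (nat_lit 0x0)) (.leaf (nat_lit 0x0))) (.node 1 (.leaf (nat_lit 0x0)) (.leaf (nat_lit 0x0))))) (.node 4 (.node 2 (.node 1 (.leaf (nat_lit 0x0)) (.leaf (nat_lit 0x0))) (.node 1 (.leaf (nat_lit 0x0)) (.leaf (nat_lit 0x0)))) (.node 2 (.node 1 (.leaf (nat_lit 0x0)) (.leaf (nat_lit 0x0))) (.node 1 (.leaf (nat_lit 0x0)) (.leaf (nat_lit 0x0))))))))

noncomputable def lvO4_12 : Tree :=
  .node 64 (.node 32 (.node 16 (.node 8 (.node 4 (.node 2 (.node 1 (.leaf (nat_lit 0x0)) (.leaf (nat_lit 0x0))) (.node 1 (.leaf (nat_lit 0x0)) (.leaf (nat_lit 0x0)))) (.node 2 (.node 1 (.leaf (nat_lit 0x0)) (.leaf (nat_lit 0x0))) (.node 1 (.leaf (nat_lit 0x0)) (.leaf (nat_lit 0x0))))) (.node 4 (.node 2 (.node 1 (.leaf (nat_lit 0x0)) (.leaf (nat_lit 0x0))) (.node 1 (.leaf (nat_lit 0x0)) (.leaf (nat_lit 0x0)))) (.node 2 (.node 1 (.leaf (nat_lit 0x0)) (.leaf (nat_lit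 0x0))) (.node 1 (.leaf (nat_lit 0x0)) (.leaf (nat_lit 0x0)))))) (.node 8 (.node 4 (.node 2 (.node 1 (.leaf (nat_lit 0x0)) (.leaf (nat_lit 0x0))) (.node 1 (.leaf (nat_lit 0x0)) (.leaf (nat_lit 0x0)))) (.node 2 (.node 1 (.leaf (nat_lit 0x0)) (.leaf (nat_lit 0x0))) (.node 1 (.leaf (nat_lit 0x0)) (.leaf (nat_lit 0x0))))) (.node 4 (.node 2 (.node 1 (.leaf (nat_lit 0x0)) (.leaf (nat_lit 0x0))) (.node 1 (.leaf (nat_lit 0x0)) (.leaf (nat_lit 0x0)))) (.node 2 (.node 1 (.leaf (nat_lit 0x0)) (.leaf (nat_lit 0x0))) (.node 1 (.leaf (nat_lit 0x0)) (.leaf (nat_lit 0x0))))))) (.node 16 (.node 8 (.node 4 (.node 2 (.node 1 (.leaf (nat_lit 0x0)) (.leaf (nat_lit 0x0))) (.node 1 (.leaf (nat_lit 0x0)) (.leaf (nat_lit 0x0)))) (.node 2 (.node 1 (.leaf (nat_lit 0x0)) (.leaf (nat_lit 0x0))) (.node 1 (.leaf (nat_lit 0x0)) (.leaf (nat_lit 0x0))))) (.node 4 (.node 2 (.node 1 (.leaf (nat_lit 0x0)) (.leaf (nat_lit 0x0))) (.node 1 (.leaf (nat_lit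 0x0)) (.leaf (nat_lit 0x0)))) (.node 2 (.node 1 (.leaf (nat_lit 0x0)) (.leaf (nat_lit 0x0))) (.node 1 (.leaf (nat_lit 0x0)) (.leaf (nat_lit 0x0)))))) (.node 8 (.node 4 (.node 2 (.node 1 (.leaf (nat_lit 0x0)) (.leaf (nat_lit 0x0))) (.node 1 (.leaf (nat_lit 0x0)) (.leaf (nat_lit 0x0)))) (.node 2 (.node 1 (.leaf (nat_lit 0x0)) (.leaf (nat_lit 0x0))) (.node 1 (.leaf (nat_lit 0x0)) (.leaf (nat_lit 0x0))))) (.node 4 (.node 2 (.node 1 (.leaf (nat_lit 0x0)) (.leaf (nat_lit 0x0))) (.node 1 (.leaf (nat_lit 0x0)) (.leaf (nat_lit 0x0)))) (.node 2 (.node 1 (.leaf (nat_lit 0x0)) (.leaf (nat_lit 0x0))) (.node 1 (.leaf (nat_lit 0x0)) (.leaf (nat_lit 0x0)))))))) (.node 32 (.node 16 (.node 8 (.node 4 (.node 2 (.node 1 (.leaf (nat_lit 0x0)) (.leaf (nat_lit 0x0))) (.node 1 (.leaf (nat_lit 0x0)) (.leaf (nat_lit 0x0)))) (.node 2 (.node 1 (.leaf (nat_lit 0x0)) (.leaf (nat_lit 0x0))) (.node 1 (.leaf (nat_lit 0x0)) (.leaf (nat_lit 0x0)))))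 (.node 4 (.node 2 (.node 1 (.leaf (nat_lit 0x0)) (.leaf (nat_lit 0x0))) (.node 1 (.leaf (nat_lit 0x0)) (.leaf (nat_lit 0x0)))) (.node 2 (.node 1 (.leaf (nat_lit 0x0)) (.leaf (nat_lit 0x0))) (.node 1 (.leaf (nat_lit 0x0)) (.leaf (nat_lit 0x0)))))) (.node 8 (.node 4 (.node 2 (.node 1 (.leaf (nat_lit 0x0)) (.leaf (nat_lit 0x0))) (.node 1 (.leaf (nat_lit 0x0)) (.leaf (nat_lit 0x0)))) (.node 2 (.node 1 (.leaf (nat_lit 0x0)) (.leaf (nat_lit 0x0))) (.node 1 (.leaf (nat_lit 0x0)) (.leaf (nat_lit 0x0))))) (.node 4 (.node 2 (.node 1 (.leaf (nat_lit 0x0)) (.leaf (nat_lit 0x0))) (.node 1 (.leaf (nat_lit 0x0)) (.leaf (nat_lit 0x0)))) (.node 2 (.node 1 (.leaf (nat_lit 0x0)) (.leaf (nat_lit 0x0))) (.node 1 (.leaf (nat_lit 0x0)) (.leaf (nat_lit 0x0))))))) (.node 16 (.node 8 (.node 4 (.node 2 (.node 1 (.leaf (nat_lit 0x0)) (.leaf (nat_lit 0x0))) (.node 1 (.leaf (nat_lit 0x0)) (.leaf (nat_lit 0x0)))) (.node 2 (.node 1 (.leaf (nat_lit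 0x0)) (.leaf (nat_lit 0x0))) (.node 1 (.leaf (nat_lit 0x0)) (.leaf (nat_lit 0x0))))) (.node 4 (.node 2 (.node 1 (.leaf (nat_lit 0x0)) (.leaf (nat_lit 0x0))) (.node 1 (.leaf (nat_lit 0x0)) (.leaf (nat_lit 0x0)))) (.node 2 (.node 1 (.leaf (nat_lit 0x0)) (.leaf (nat_lit 0x0))) (.node 1 (.leaf (nat_lit 0x0)) (.leaf (nat_lit 0x0)))))) (.node 8 (.node 4 (.node 2 (.node 1 (.leaf (nat_lit 0x0)) (.leaf (nat_lit 0x0))) (.node 1 (.leaf (nat_lit 0x0)) (.leaf (nat_lit 0x0)))) (.node 2 (.node 1 (.leaf (nat_lit 0x0)) (.leaf (nat_lit 0x0))) (.node 1 (.leaf (nat_lit 0x0)) (.leaf (nat_lit 0x0))))) (.node 4 (.node 2 (.node 1 (.leaf (nat_lit 0x0)) (.leaf (nat_lit 0x0))) (.node 1 (.leaf (nat_lit 0x0)) (.leaf (nat_lit 0x0)))) (.node 2 (.node 1 (.leaf (nat_lit 0x0)) (.leaf (nat_lit 0x0))) (.node 1 (.leaf (nat_lit 0x0)) (.leaf (nat_lit 0x0))))))))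

noncomputable def lvO4_13 : Tree :=
  .node 64 (.node 32 (.node 16 (.node 8 (.node 4 (.node 2 (.node 1 (.leaf (nat_lit 0x0)) (.leaf (nat_lit 0x0))) (.node 1 (.leaf (nat_lit 0x0)) (.leaf (nat_lit 0x0)))) (.node 2 (.node 1 (.leaf (nat_lit 0x0)) (.leaf (nat_lit 0x0))) (.node 1 (.leaf (nat_lit 0x0)) (.leaf (nat_lit 0x0))))) (.node 4 (.node 2 (.node 1 (.leaf (nat_lit 0x0)) (.leaf (nat_lit 0x0))) (.node 1 (.leaf (nat_lit 0x0)) (.leaf (nat_lit 0x0)))) (.node 2 (.node 1 (.leaf (nat_lit 0x0)) (.leaf (nat_lit 0x0))) (.node 1 (.leaf (nat_lit 0x0)) (.leaf (nat_lit 0x0)))))) (.node 8 (.node 4 (.node 2 (.node 1 (.leaf (nat_lit 0x0)) (.leaf (nat_lit 0x0))) (.node 1 (.leaf (nat_lit 0x0)) (.leaf (nat_lit 0x0)))) (.node 2 (.node 1 (.leaf (nat_lit 0x0)) (.leaf (nat_lit 0x0))) (.node 1 (.leaf (nat_lit 0x0)) (.leaf (nat_lit 0x0))))) (.node 4 (.node 2 (.node 1 (.leaf (nat_lit 0x0)) (.leaf (nat_lit 0x0))) (.node 1 (.leaf (nat_lit 0x0))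 (.leaf (nat_lit 0x0)))) (.node 2 (.node 1 (.leaf (nat_lit 0x0)) (.leaf (nat_lit 0x0))) (.node 1 (.leaf (nat_lit 0x0)) (.leaf (nat_lit 0x0))))))) (.node 16 (.node 8 (.node 4 (.node 2 (.node 1 (.leaf (nat_lit 0x0)) (.leaf (nat_lit 0x0))) (.node 1 (.leaf (nat_lit 0x0)) (.leaf (nat_lit 0x0)))) (.node 2 (.node 1 (.leaf (nat_lit 0x0)) (.leaf (nat_lit 0x0))) (.node 1 (.leaf (nat_lit 0x0)) (.leaf (nat_lit 0x0))))) (.node 4 (.node 2 (.node 1 (.leaf (nat_lit 0x0)) (.leaf (nat_lit 0x0))) (.node 1 (.leaf (nat_lit 0x0)) (.leaf (nat_lit 0x0)))) (.node 2 (.node 1 (.leaf (nat_lit 0x0)) (.leaf (nat_lit 0x0))) (.node 1 (.leaf (nat_lit 0x0)) (.leaf (nat_lit 0x0)))))) (.node 8 (.node 4 (.node 2 (.node 1 (.leaf (nat_lit 0x0)) (.leaf (nat_lit 0x0))) (.node 1 (.leaf (nat_lit 0x0)) (.leaf (nat_lit 0x0)))) (.node 2 (.node 1 (.leaf (nat_lit 0x0)) (.leaf (nat_lit 0x0))) (.node 1 (.leaf (nat_lit 0x0)) (.leaf (nat_lit 0x0))))) (.node 4 (.node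 2 (.node 1 (.leaf (nat_lit 0x0)) (.leaf (nat_lit 0x0))) (.node 1 (.leaf (nat_lit 0x0)) (.leaf (nat_lit 0x0)))) (.node 2 (.node 1 (.leaf (nat_lit 0x0)) (.leaf (nat_lit 0x0))) (.node 1 (.leaf (nat_lit 0x0)) (.leaf (nat_lit 0x0)))))))) (.node 32 (.node 16 (.node 8 (.node 4 (.node 2 (.node 1 (.leaf (nat_lit 0x0)) (.leaf (nat_lit 0x0))) (.node 1 (.leaf (nat_lit 0x0)) (.leaf (nat_lit 0x0)))) (.node 2 (.node 1 (.leaf (nat_lit 0x0)) (.leaf (nat_lit 0x0))) (.node 1 (.leaf (nat_lit 0x0)) (.leaf (nat_lit 0x0))))) (.node 4 (.node 2 (.node 1 (.leaf (nat_lit 0x0)) (.leaf (nat_lit 0x0))) (.node 1 (.leaf (nat_lit 0x0)) (.leaf (nat_lit 0x0)))) (.node 2 (.node 1 (.leaf (nat_lit 0x0)) (.leaf (nat_lit 0x0))) (.node 1 (.leaf (nat_lit 0x0)) (.leaf (nat_lit 0x0)))))) (.node 8 (.node 4 (.node 2 (.node 1 (.leaf (nat_lit 0x0)) (.leaf (nat_lit 0x0))) (.node 1 (.leaf (nat_lit 0x0)) (.leaf (nat_lit 0x0)))) (.node 2 (.node 1 (.leaf (nat_lit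 0x0)) (.leaf (nat_lit 0x0))) (.node 1 (.leaf (nat_lit 0x0)) (.leaf (nat_lit 0x0))))) (.node 4 (.node 2 (.node 1 (.leaf (nat_lit 0x0)) (.leaf (nat_lit 0x0))) (.node 1 (.leaf (nat_lit 0x0)) (.leaf (nat_lit 0x0)))) (.node 2 (.node 1 (.leaf (nat_lit 0x0)) (.leaf (nat_lit 0x0))) (.node 1 (.leaf (nat_lit 0x0)) (.leaf (nat_lit 0x0))))))) (.node 16 (.node 8 (.node 4 (.node 2 (.node 1 (.leaf (nat_lit 0x0)) (.leaf (nat_lit 0x0))) (.node 1 (.leaf (nat_lit 0x0)) (.leaf (nat_lit 0x0)))) (.node 2 (.node 1 (.leaf (nat_lit 0x0)) (.leaf (nat_lit 0x0))) (.node 1 (.leaf (nat_lit 0x0)) (.leaf (nat_lit 0x0))))) (.node 4 (.node 2 (.node 1 (.leaf (nat_lit 0x0)) (.leaf (nat_lit 0x0))) (.node 1 (.leaf (nat_lit 0x0)) (.leaf (nat_lit 0x0)))) (.node 2 (.node 1 (.leaf (nat_lit 0x0)) (.leaf (nat_lit 0x0))) (.node 1 (.leaf (nat_lit 0x0)) (.leaf (nat_lit 0x0)))))) (.node 8 (.node 4 (.node 2 (.node 1 (.leaf (nat_lit 0x0)) (.leaf (nat_lit 0x0)))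 (.node 1 (.leaf (nat_lit 0x0)) (.leaf (nat_lit 0x0)))) (.node 2 (.node 1 (.leaf (nat_lit 0x0)) (.leaf (nat_lit 0x0))) (.node 1 (.leaf (nat_lit 0x0)) (.leaf (nat_lit 0x0))))) (.node 4 (.node 2 (.node 1 (.leaf (nat_lit 0x0)) (.leaf (nat_lit 0x0))) (.node 1 (.leaf (nat_lit 0x0)) (.leaf (nat_lit 0x0)))) (.node 2 (.node 1 (.leaf (nat_lit 0x0)) (.leaf (nat_lit 0x0))) (.node 1 (.leaf (nat_lit 0x0)) (.leaf (nat_lit 0x0))))))))

noncomputable def lvO4_14 : Tree :=
  .node 64 (.node 32 (.node 16 (.node 8 (.node 4 (.node 2 (.node 1 (.leaf (nat_lit 0x0)) (.leaf (nat_lit 0x0))) (.node 1 (.leaf (nat_lit 0x0)) (.leaf (nat_lit 0x0)))) (.node 2 (.node 1 (.leaf (nat_lit 0x0)) (.leaf (nat_lit 0x0))) (.node 1 (.leaf (nat_lit 0x0)) (.leaf (nat_lit 0x0))))) (.node 4 (.node 2 (.node 1 (.leaf (nat_lit 0x0)) (.leaf (nat_lit 0x0))) (.node 1 (.leaf (nat_lit 0x0)) (.leaf (nat_lit 0x0)))) (.node 2 (.node 1 (.leaf (nat_lit 0x0)) (.leaf (nat_lit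 0x0))) (.node 1 (.leaf (nat_lit 0x0)) (.leaf (nat_lit 0x0)))))) (.node 8 (.node 4 (.node 2 (.node 1 (.leaf (nat_lit 0x0)) (.leaf (nat_lit 0x0))) (.node 1 (.leaf (nat_lit 0x0)) (.leaf (nat_lit 0x0)))) (.node 2 (.node 1 (.leaf (nat_lit 0x0)) (.leaf (nat_lit 0x0))) (.node 1 (.leaf (nat_lit 0x0)) (.leaf (nat_lit 0x0))))) (.node 4 (.node 2 (.node 1 (.leaf (nat_lit 0x0)) (.leaf (nat_lit 0x0))) (.node 1 (.leaf (nat_lit 0x0)) (.leaf (nat_lit 0x0)))) (.node 2 (.node 1 (.leaf (nat_lit 0x0)) (.leaf (nat_lit 0x0))) (.node 1 (.leaf (nat_lit 0x0)) (.leaf (nat_lit 0x0))))))) (.node 16 (.node 8 (.node 4 (.node 2 (.node 1 (.leaf (nat_lit 0x0)) (.leaf (nat_lit 0x0))) (.node 1 (.leaf (nat_lit 0x0)) (.leaf (nat_lit 0x0)))) (.node 2 (.node 1 (.leaf (nat_lit 0x0)) (.leaf (nat_lit 0x0))) (.node 1 (.leaf (nat_lit 0x0)) (.leaf (nat_lit 0x0))))) (.node 4 (.node 2 (.node 1 (.leaf (nat_lit 0x0)) (.leaf (nat_lit 0x0))) (.node 1 (.leaf (nat_lit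 0x0)) (.leaf (nat_lit 0x0)))) (.node 2 (.node 1 (.leaf (nat_lit 0x0)) (.leaf (nat_lit 0x0))) (.node 1 (.leaf (nat_lit 0x0)) (.leaf (nat_lit 0x0)))))) (.node 8 (.node 4 (.node 2 (.node 1 (.leaf (nat_lit 0x0)) (.leaf (nat_lit 0x0))) (.node 1 (.leaf (nat_lit 0x0)) (.leaf (nat_lit 0x0)))) (.node 2 (.node 1 (.leaf (nat_lit 0x0)) (.leaf (nat_lit 0x0))) (.node 1 (.leaf (nat_lit 0x0)) (.leaf (nat_lit 0x0))))) (.node 4 (.node 2 (.node 1 (.leaf (nat_lit 0x0)) (.leaf (nat_lit 0x0))) (.node 1 (.leaf (nat_lit 0x0)) (.leaf (nat_lit 0x0)))) (.node 2 (.node 1 (.leaf (nat_lit 0x0)) (.leaf (nat_lit 0x0))) (.node 1 (.leaf (nat_lit 0x0)) (.leaf (nat_lit 0x0)))))))) (.node 32 (.node 16 (.node 8 (.node 4 (.node 2 (.node 1 (.leaf (nat_lit 0x0)) (.leaf (nat_lit 0x0))) (.node 1 (.leaf (nat_lit 0x0)) (.leaf (nat_lit 0x0)))) (.node 2 (.node 1 (.leaf (nat_lit 0x0)) (.leaf (nat_lit 0x0))) (.node 1 (.leaf (nat_lit 0x0)) (.leaf (nat_lit 0x0)))))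 (.node 4 (.node 2 (.node 1 (.leaf (nat_lit 0x0)) (.leaf (nat_lit 0x0))) (.node 1 (.leaf (nat_lit 0x0)) (.leaf (nat_lit 0x0)))) (.node 2 (.node 1 (.leaf (nat_lit 0x0)) (.leaf (nat_lit 0x0))) (.node 1 (.leaf (nat_lit 0x0)) (.leaf (nat_lit 0x0)))))) (.node 8 (.node 4 (.node 2 (.node 1 (.leaf (nat_lit 0x0)) (.leaf (nat_lit 0x0))) (.node 1 (.leaf (nat_lit 0x0)) (.leaf (nat_lit 0x0)))) (.node 2 (.node 1 (.leaf (nat_lit 0x0)) (.leaf (nat_lit 0x0))) (.node 1 (.leaf (nat_lit 0x0)) (.leaf (nat_lit 0x0))))) (.node 4 (.node 2 (.node 1 (.leaf (nat_lit 0x0)) (.leaf (nat_lit 0x0))) (.node 1 (.leaf (nat_lit 0x0)) (.leaf (nat_lit 0x0)))) (.node 2 (.node 1 (.leaf (nat_lit 0x0)) (.leaf (nat_lit 0x0))) (.node 1 (.leaf (nat_lit 0x0)) (.leaf (nat_lit 0x0))))))) (.node 16 (.node 8 (.node 4 (.node 2 (.node 1 (.leaf (nat_lit 0x0)) (.leaf (nat_lit 0x0))) (.node 1 (.leaf (nat_lit 0x0)) (.leaf (nat_lit 0x0)))) (.node 2 (.node 1 (.leaf (nat_lit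 0x0)) (.leaf (nat_lit 0x0))) (.node 1 (.leaf (nat_lit 0x0)) (.leaf (nat_lit 0x0))))) (.node 4 (.node 2 (.node 1 (.leaf (nat_lit 0x0)) (.leaf (nat_lit 0x0))) (.node 1 (.leaf (nat_lit 0x0)) (.leaf (nat_lit 0x0)))) (.node 2 (.node 1 (.leaf (nat_lit 0x0)) (.leaf (nat_lit 0x0))) (.node 1 (.leaf (nat_lit 0x0)) (.leaf (nat_lit 0x0)))))) (.node 8 (.node 4 (.node 2 (.node 1 (.leaf (nat_lit 0x0)) (.leaf (nat_lit 0x0))) (.node 1 (.leaf (nat_lit 0x0)) (.leaf (nat_lit 0x0)))) (.node 2 (.node 1 (.leaf (nat_lit 0x0)) (.leaf (nat_lit 0x0))) (.node 1 (.leaf (nat_lit 0x0)) (.leaf (nat_lit 0x0))))) (.node 4 (.node 2 (.node 1 (.leaf (nat_lit 0x0)) (.leaf (nat_lit 0x0))) (.node 1 (.leaf (nat_lit 0x0)) (.leaf (nat_lit 0x0)))) (.node 2 (.node 1 (.leaf (nat_lit 0x0)) (.leaf (nat_lit 0x0))) (.node 1 (.leaf (nat_lit 0x0)) (.leaf (nat_lit 0x0))))))))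

noncomputable def lvO4_15 : Tree :=
  .node 64 (.node 32 (.node 16 (.node 8 (.node 4 (.node 2 (.node 1 (.leaf (nat_lit 0x0)) (.leaf (nat_lit 0x0))) (.node 1 (.leaf (nat_lit 0x0)) (.leaf (nat_lit 0x0)))) (.node 2 (.node 1 (.leaf (nat_lit 0x0)) (.leaf (nat_lit 0x0))) (.node 1 (.leaf (nat_lit 0x0)) (.leaf (nat_lit 0x0))))) (.node 4 (.node 2 (.node 1 (.leaf (nat_lit 0x0)) (.leaf (nat_lit 0x0))) (.node 1 (.leaf (nat_lit 0x0)) (.leaf (nat_lit 0x0)))) (.node 2 (.node 1 (.leaf (nat_lit 0x0)) (.leaf (nat_lit 0x0))) (.node 1 (.leaf (nat_lit 0x0)) (.leaf (nat_lit 0x0)))))) (.node 8 (.node 4 (.node 2 (.node 1 (.leaf (nat_lit 0x0)) (.leaf (nat_lit 0x0))) (.node 1 (.leaf (nat_lit 0x0)) (.leaf (nat_lit 0x0)))) (.node 2 (.node 1 (.leaf (nat_lit 0x0)) (.leaf (nat_lit 0x0))) (.node 1 (.leaf (nat_lit 0x0)) (.leaf (nat_lit 0x0))))) (.node 4 (.node 2 (.node 1 (.leaf (nat_lit 0x0)) (.leaf (nat_lit 0x0))) (.node 1 (.leaf (nat_lit 0x0))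 (.leaf (nat_lit 0x0)))) (.node 2 (.node 1 (.leaf (nat_lit 0x0)) (.leaf (nat_lit 0x0))) (.node 1 (.leaf (nat_lit 0x0)) (.leaf (nat_lit 0x0))))))) (.node 16 (.node 8 (.node 4 (.node 2 (.node 1 (.leaf (nat_lit 0x0)) (.leaf (nat_lit 0x0))) (.node 1 (.leaf (nat_lit 0x0)) (.leaf (nat_lit 0x0)))) (.node 2 (.node 1 (.leaf (nat_lit 0x0)) (.leaf (nat_lit 0x0))) (.node 1 (.leaf (nat_lit 0x0)) (.leaf (nat_lit 0x0))))) (.node 4 (.node 2 (.node 1 (.leaf (nat_lit 0x0)) (.leaf (nat_lit 0x0))) (.node 1 (.leaf (nat_lit 0x0)) (.leaf (nat_lit 0x0)))) (.node 2 (.node 1 (.leaf (nat_lit 0x0)) (.leaf (nat_lit 0x0))) (.node 1 (.leaf (nat_lit 0x0)) (.leaf (nat_lit 0x0)))))) (.node 8 (.node 4 (.node 2 (.node 1 (.leaf (nat_lit 0x0)) (.leaf (nat_lit 0x0))) (.node 1 (.leaf (nat_lit 0x0)) (.leaf (nat_lit 0x0)))) (.node 2 (.node 1 (.leaf (nat_lit 0x0)) (.leaf (nat_lit 0x0))) (.node 1 (.leaf (nat_lit 0x0)) (.leaf (nat_lit 0x0))))) (.node 4 (.node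 2 (.node 1 (.leaf (nat_lit 0x0)) (.leaf (nat_lit 0x0))) (.node 1 (.leaf (nat_lit 0x0)) (.leaf (nat_lit 0x0)))) (.node 2 (.node 1 (.leaf (nat_lit 0x0)) (.leaf (nat_lit 0x0))) (.node 1 (.leaf (nat_lit 0x0)) (.leaf (nat_lit 0x0)))))))) (.node 32 (.node 16 (.node 8 (.node 4 (.node 2 (.node 1 (.leaf (nat_lit 0x0)) (.leaf (nat_lit 0x0))) (.node 1 (.leaf (nat_lit 0x0)) (.leaf (nat_lit 0x0)))) (.node 2 (.node 1 (.leaf (nat_lit 0x0)) (.leaf (nat_lit 0x0))) (.node 1 (.leaf (nat_lit 0x0)) (.leaf (nat_lit 0x0))))) (.node 4 (.node 2 (.node 1 (.leaf (nat_lit 0x0)) (.leaf (nat_lit 0x0))) (.node 1 (.leaf (nat_lit 0x0)) (.leaf (nat_lit 0x0)))) (.node 2 (.node 1 (.leaf (nat_lit 0x0)) (.leaf (nat_lit 0x0))) (.node 1 (.leaf (nat_lit 0x0)) (.leaf (nat_lit 0x0)))))) (.node 8 (.node 4 (.node 2 (.node 1 (.leaf (nat_lit 0x0)) (.leaf (nat_lit 0x0))) (.node 1 (.leaf (nat_lit 0x0)) (.leaf (nat_lit 0x0)))) (.node 2 (.node 1 (.leaf (nat_lit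 0x0)) (.leaf (nat_lit 0x0))) (.node 1 (.leaf (nat_lit 0x0)) (.leaf (nat_lit 0x0))))) (.node 4 (.node 2 (.node 1 (.leaf (nat_lit 0x0)) (.leaf (nat_lit 0x0))) (.node 1 (.leaf (nat_lit 0x0)) (.leaf (nat_lit 0x0)))) (.node 2 (.node 1 (.leaf (nat_lit 0x0)) (.leaf (nat_lit 0x0))) (.node 1 (.leaf (nat_lit 0x0)) (.leaf (nat_lit 0x0))))))) (.node 16 (.node 8 (.node 4 (.node 2 (.node 1 (.leaf (nat_lit 0x0)) (.leaf (nat_lit 0x0))) (.node 1 (.leaf (nat_lit 0x0)) (.leaf (nat_lit 0x0)))) (.node 2 (.node 1 (.leaf (nat_lit 0x0)) (.leaf (nat_lit 0x0))) (.node 1 (.leaf (nat_lit 0x0)) (.leaf (nat_lit 0x0))))) (.node 4 (.node 2 (.node 1 (.leaf (nat_lit 0x0)) (.leaf (nat_lit 0x0))) (.node 1 (.leaf (nat_lit 0x0)) (.leaf (nat_lit 0x0)))) (.node 2 (.node 1 (.leaf (nat_lit 0x0)) (.leaf (nat_lit 0x0))) (.node 1 (.leaf (nat_lit 0x0)) (.leaf (nat_lit 0x0)))))) (.node 8 (.node 4 (.node 2 (.node 1 (.leaf (nat_lit 0x0)) (.leaf (nat_lit 0x0)))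 (.node 1 (.leaf (nat_lit 0x0)) (.leaf (nat_lit 0x0)))) (.node 2 (.node 1 (.leaf (nat_lit 0x0)) (.leaf (nat_lit 0x0))) (.node 1 (.leaf (nat_lit 0x0)) (.leaf (nat_lit 0x0))))) (.node 4 (.node 2 (.node 1 (.leaf (nat_lit 0x0)) (.leaf (nat_lit 0x0))) (.node 1 (.leaf (nat_lit 0x0)) (.leaf (nat_lit 0x0)))) (.node 2 (.node 1 (.leaf (nat_lit 0x0)) (.leaf (nat_lit 0x0))) (.node 1 (.leaf (nat_lit 0x0)) (.leaf (nat_lit 0x0))))))))

noncomputable def lvO4_16 : Tree :=
  .node 64 (.node 32 (.node 16 (.node 8 (.node 4 (.node 2 (.node 1 (.leaf (nat_lit 0x0)) (.leaf (nat_lit 0x0))) (.node 1 (.leaf (nat_lit 0x0)) (.leaf (nat_lit 0x0)))) (.node 2 (.node 1 (.leaf (nat_lit 0x0)) (.leaf (nat_lit 0x0))) (.node 1 (.leaf (nat_lit 0x0)) (.leaf (nat_lit 0x0))))) (.node 4 (.node 2 (.node 1 (.leaf (nat_lit 0x0)) (.leaf (nat_lit 0x0))) (.node 1 (.leaf (nat_lit 0x0)) (.leaf (nat_lit 0x0)))) (.node 2 (.node 1 (.leaf (nat_lit 0x0)) (.leaf (nat_lit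 0x0))) (.node 1 (.leaf (nat_lit 0x0)) (.leaf (nat_lit 0x0)))))) (.node 8 (.node 4 (.node 2 (.node 1 (.leaf (nat_lit 0x0)) (.leaf (nat_lit 0x0))) (.node 1 (.leaf (nat_lit 0x0)) (.leaf (nat_lit 0x0)))) (.node 2 (.node 1 (.leaf (nat_lit 0x0)) (.leaf (nat_lit 0x0))) (.node 1 (.leaf (nat_lit 0x0)) (.leaf (nat_lit 0x0))))) (.node 4 (.node 2 (.node 1 (.leaf (nat_lit 0x0)) (.leaf (nat_lit 0x0))) (.node 1 (.leaf (nat_lit 0x0)) (.leaf (nat_lit 0x0)))) (.node 2 (.node 1 (.leaf (nat_lit 0x0)) (.leaf (nat_lit 0x0))) (.node 1 (.leaf (nat_lit 0x0)) (.leaf (nat_lit 0x0))))))) (.node 16 (.node 8 (.node 4 (.node 2 (.node 1 (.leaf (nat_lit 0x0)) (.leaf (nat_lit 0x0))) (.node 1 (.leaf (nat_lit 0x0)) (.leaf (nat_lit 0x0)))) (.node 2 (.node 1 (.leaf (nat_lit 0x0)) (.leaf (nat_lit 0x0))) (.node 1 (.leaf (nat_lit 0x0)) (.leaf (nat_lit 0x0))))) (.node 4 (.node 2 (.node 1 (.leaf (nat_lit 0x0)) (.leaf (nat_lit 0x0))) (.node 1 (.leaf (nat_lit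 0x0)) (.leaf (nat_lit 0x0)))) (.node 2 (.node 1 (.leaf (nat_lit 0x0)) (.leaf (nat_lit 0x0))) (.node 1 (.leaf (nat_lit 0x0)) (.leaf (nat_lit 0x0)))))) (.node 8 (.node 4 (.node 2 (.node 1 (.leaf (nat_lit 0x0)) (.leaf (nat_lit 0x0))) (.node 1 (.leaf (nat_lit 0x0)) (.leaf (nat_lit 0x0)))) (.node 2 (.node 1 (.leaf (nat_lit 0x0)) (.leaf (nat_lit 0x0))) (.node 1 (.leaf (nat_lit 0x0)) (.leaf (nat_lit 0x0))))) (.node 4 (.node 2 (.node 1 (.leaf (nat_lit 0x0)) (.leaf (nat_lit 0x0))) (.node 1 (.leaf (nat_lit 0x0)) (.leaf (nat_lit 0x0)))) (.node 2 (.node 1 (.leaf (nat_lit 0x0)) (.leaf (nat_lit 0x0))) (.node 1 (.leaf (nat_lit 0x0)) (.leaf (nat_lit 0x0)))))))) (.node 32 (.node 16 (.node 8 (.node 4 (.node 2 (.node 1 (.leaf (nat_lit 0x0)) (.leaf (nat_lit 0x0))) (.node 1 (.leaf (nat_lit 0x0)) (.leaf (nat_lit 0x0)))) (.node 2 (.node 1 (.leaf (nat_lit 0x0)) (.leaf (nat_lit 0x0))) (.node 1 (.leaf (nat_lit 0x0)) (.leaf (nat_lit 0x0)))))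 (.node 4 (.node 2 (.node 1 (.leaf (nat_lit 0x0)) (.leaf (nat_lit 0x0))) (.node 1 (.leaf (nat_lit 0x0)) (.leaf (nat_lit 0x0)))) (.node 2 (.node 1 (.leaf (nat_lit 0x0)) (.leaf (nat_lit 0x0))) (.node 1 (.leaf (nat_lit 0x0)) (.leaf (nat_lit 0x0)))))) (.node 8 (.node 4 (.node 2 (.node 1 (.leaf (nat_lit 0x0)) (.leaf (nat_lit 0x0))) (.node 1 (.leaf (nat_lit 0x0)) (.leaf (nat_lit 0x0)))) (.node 2 (.node 1 (.leaf (nat_lit 0x0)) (.leaf (nat_lit 0x0))) (.node 1 (.leaf (nat_lit 0x0)) (.leaf (nat_lit 0x0))))) (.node 4 (.node 2 (.node 1 (.leaf (nat_lit 0x0)) (.leaf (nat_lit 0x0))) (.node 1 (.leaf (nat_lit 0x0)) (.leaf (nat_lit 0x0)))) (.node 2 (.node 1 (.leaf (nat_lit 0x0)) (.leaf (nat_lit 0x0))) (.node 1 (.leaf (nat_lit 0x0)) (.leaf (nat_lit 0x0))))))) (.node 16 (.node 8 (.node 4 (.node 2 (.node 1 (.leaf (nat_lit 0x0)) (.leaf (nat_lit 0x0))) (.node 1 (.leaf (nat_lit 0x0)) (.leaf (nat_lit 0x0)))) (.node 2 (.node 1 (.leaf (nat_lit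 0x0)) (.leaf (nat_lit 0x0))) (.node 1 (.leaf (nat_lit 0x0)) (.leaf (nat_lit 0x0))))) (.node 4 (.node 2 (.node 1 (.leaf (nat_lit 0x0)) (.leaf (nat_lit 0x0))) (.node 1 (.leaf (nat_lit 0x0)) (.leaf (nat_lit 0x0)))) (.node 2 (.node 1 (.leaf (nat_lit 0x0)) (.leaf (nat_lit 0x0))) (.node 1 (.leaf (nat_lit 0x0)) (.leaf (nat_lit 0x0)))))) (.node 8 (.node 4 (.node 2 (.node 1 (.leaf (nat_lit 0x0)) (.leaf (nat_lit 0x0))) (.node 1 (.leaf (nat_lit 0x0)) (.leaf (nat_lit 0x0)))) (.node 2 (.node 1 (.leaf (nat_lit 0x0)) (.leaf (nat_lit 0x0))) (.node 1 (.leaf (nat_lit 0x0)) (.leaf (nat_lit 0x0))))) (.node 4 (.node 2 (.node 1 (.leaf (nat_lit 0x0)) (.leaf (nat_lit 0x0))) (.node 1 (.leaf (nat_lit 0x0)) (.leaf (nat_lit 0x0)))) (.node 2 (.node 1 (.leaf (nat_lit 0x0)) (.leaf (nat_lit 0x0))) (.node 1 (.leaf (nat_lit 0x0)) (.leaf (nat_lit 0x0))))))))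

noncomputable def lvO4_17 : Tree :=
  .node 64 (.node 32 (.node 16 (.node 8 (.node 4 (.node 2 (.node 1 (.leaf (nat_lit 0x0)) (.leaf (nat_lit 0x0))) (.node 1 (.leaf (nat_lit 0x0)) (.leaf (nat_lit 0x0)))) (.node 2 (.node 1 (.leaf (nat_lit 0x0)) (.leaf (nat_lit 0x0))) (.node 1 (.leaf (nat_lit 0x0)) (.leaf (nat_lit 0x0))))) (.node 4 (.node 2 (.node 1 (.leaf (nat_lit 0x0)) (.leaf (nat_lit 0x0))) (.node 1 (.leaf (nat_lit 0x0)) (.leaf (nat_lit 0x0)))) (.node 2 (.node 1 (.leaf (nat_lit 0x0)) (.leaf (nat_lit 0x0))) (.node 1 (.leaf (nat_lit 0x0)) (.leaf (nat_lit 0x0)))))) (.node 8 (.node 4 (.node 2 (.node 1 (.leaf (nat_lit 0x0)) (.leaf (nat_lit 0x0))) (.node 1 (.leaf (nat_lit 0x0)) (.leaf (nat_lit 0x0)))) (.node 2 (.node 1 (.leaf (nat_lit 0x0)) (.leaf (nat_lit 0x0))) (.node 1 (.leaf (nat_lit 0x0)) (.leaf (nat_lit 0x0))))) (.node 4 (.node 2 (.node 1 (.leaf (nat_lit 0x0)) (.leaf (nat_lit 0x0))) (.node 1 (.leaf (nat_lit 0x0))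 (.leaf (nat_lit 0x0)))) (.node 2 (.node 1 (.leaf (nat_lit 0x0)) (.leaf (nat_lit 0x0))) (.node 1 (.leaf (nat_lit 0x0)) (.leaf (nat_lit 0x0))))))) (.node 16 (.node 8 (.node 4 (.node 2 (.node 1 (.leaf (nat_lit 0x0)) (.leaf (nat_lit 0x0))) (.node 1 (.leaf (nat_lit 0x0)) (.leaf (nat_lit 0x0)))) (.node 2 (.node 1 (.leaf (nat_lit 0x0)) (.leaf (nat_lit 0x0))) (.node 1 (.leaf (nat_lit 0x0)) (.leaf (nat_lit 0x0))))) (.node 4 (.node 2 (.node 1 (.leaf (nat_lit 0x0)) (.leaf (nat_lit 0x0))) (.node 1 (.leaf (nat_lit 0x0)) (.leaf (nat_lit 0x0)))) (.node 2 (.node 1 (.leaf (nat_lit 0x0)) (.leaf (nat_lit 0x0))) (.node 1 (.leaf (nat_lit 0x0)) (.leaf (nat_lit 0x0)))))) (.node 8 (.node 4 (.node 2 (.node 1 (.leaf (nat_lit 0x0)) (.leaf (nat_lit 0x0))) (.node 1 (.leaf (nat_lit 0x0)) (.leaf (nat_lit 0x0)))) (.node 2 (.node 1 (.leaf (nat_lit 0x0)) (.leaf (nat_lit 0x0))) (.node 1 (.leaf (nat_lit 0x0)) (.leaf (nat_lit 0x0))))) (.node 4 (.node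 2 (.node 1 (.leaf (nat_lit 0x0)) (.leaf (nat_lit 0x0))) (.node 1 (.leaf (nat_lit 0x0)) (.leaf (nat_lit 0x0)))) (.node 2 (.node 1 (.leaf (nat_lit 0x0)) (.leaf (nat_lit 0x0))) (.node 1 (.leaf (nat_lit 0x0)) (.leaf (nat_lit 0x0)))))))) (.node 32 (.node 16 (.node 8 (.node 4 (.node 2 (.node 1 (.leaf (nat_lit 0x0)) (.leaf (nat_lit 0x0))) (.node 1 (.leaf (nat_lit 0x0)) (.leaf (nat_lit 0x0)))) (.node 2 (.node 1 (.leaf (nat_lit 0x0)) (.leaf (nat_lit 0x0))) (.node 1 (.leaf (nat_lit 0x0)) (.leaf (nat_lit 0x0))))) (.node 4 (.node 2 (.node 1 (.leaf (nat_lit 0x0)) (.leaf (nat_lit 0x0))) (.node 1 (.leaf (nat_lit 0x0)) (.leaf (nat_lit 0x0)))) (.node 2 (.node 1 (.leaf (nat_lit 0x0)) (.leaf (nat_lit 0x0))) (.node 1 (.leaf (nat_lit 0x0)) (.leaf (nat_lit 0x0)))))) (.node 8 (.node 4 (.node 2 (.node 1 (.leaf (nat_lit 0x0)) (.leaf (nat_lit 0x0))) (.node 1 (.leaf (nat_lit 0x0)) (.leaf (nat_lit 0x0)))) (.node 2 (.node 1 (.leaf (nat_lit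 0x0)) (.leaf (nat_lit 0x0))) (.node 1 (.leaf (nat_lit 0x0)) (.leaf (nat_lit 0x0))))) (.node 4 (.node 2 (.node 1 (.leaf (nat_lit 0x0)) (.leaf (nat_lit 0x0))) (.node 1 (.leaf (nat_lit 0x0)) (.leaf (nat_lit 0x0)))) (.node 2 (.node 1 (.leaf (nat_lit 0x0)) (.leaf (nat_lit 0x0))) (.node 1 (.leaf (nat_lit 0x0)) (.leaf (nat_lit 0x0))))))) (.node 16 (.node 8 (.node 4 (.node 2 (.node 1 (.leaf (nat_lit 0x0)) (.leaf (nat_lit 0x0))) (.node 1 (.leaf (nat_lit 0x0)) (.leaf (nat_lit 0x0)))) (.node 2 (.node 1 (.leaf (nat_lit 0x0)) (.leaf (nat_lit 0x0))) (.node 1 (.leaf (nat_lit 0x0)) (.leaf (nat_lit 0x0))))) (.node 4 (.node 2 (.node 1 (.leaf (nat_lit 0x0)) (.leaf (nat_lit 0x0))) (.node 1 (.leaf (nat_lit 0x0)) (.leaf (nat_lit 0x0)))) (.node 2 (.node 1 (.leaf (nat_lit 0x0)) (.leaf (nat_lit 0x0))) (.node 1 (.leaf (nat_lit 0x0)) (.leaf (nat_lit 0x0)))))) (.node 8 (.node 4 (.node 2 (.node 1 (.leaf (nat_lit 0x0)) (.leaf (nat_lit 0x0)))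 (.node 1 (.leaf (nat_lit 0x0)) (.leaf (nat_lit 0x0)))) (.node 2 (.node 1 (.leaf (nat_lit 0x0)) (.leaf (nat_lit 0x0))) (.node 1 (.leaf (nat_lit 0x0)) (.leaf (nat_lit 0x0))))) (.node 4 (.node 2 (.node 1 (.leaf (nat_lit 0x0)) (.leaf (nat_lit 0x0))) (.node 1 (.leaf (nat_lit 0x0)) (.leaf (nat_lit 0x0)))) (.node 2 (.node 1 (.leaf (nat_lit 0x0)) (.leaf (nat_lit 0x0))) (.node 1 (.leaf (nat_lit 0x0)) (.leaf (nat_lit 0x0))))))))

noncomputable def lvO4_18 : Tree :=
  .node 64 (.node 32 (.node 16 (.node 8 (.node 4 (.node 2 (.node 1 (.leaf (nat_lit 0x0)) (.leaf (nat_lit 0x0))) (.node 1 (.leaf (nat_lit 0x0)) (.leaf (nat_lit 0x0)))) (.node 2 (.node 1 (.leaf (nat_lit 0x0)) (.leaf (nat_lit 0x0))) (.node 1 (.leaf (nat_lit 0x0)) (.leaf (nat_lit 0x0))))) (.node 4 (.node 2 (.node 1 (.leaf (nat_lit 0x0)) (.leaf (nat_lit 0x0))) (.node 1 (.leaf (nat_lit 0x0)) (.leaf (nat_lit 0x0)))) (.node 2 (.node 1 (.leaf (nat_lit 0x0)) (.leaf (nat_lit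 0x0))) (.node 1 (.leaf (nat_lit 0x0)) (.leaf (nat_lit 0x0)))))) (.node 8 (.node 4 (.node 2 (.node 1 (.leaf (nat_lit 0x0)) (.leaf (nat_lit 0x0))) (.node 1 (.leaf (nat_lit 0x0)) (.leaf (nat_lit 0x0)))) (.node 2 (.node 1 (.leaf (nat_lit 0x0)) (.leaf (nat_lit 0x0))) (.node 1 (.leaf (nat_lit 0x0)) (.leaf (nat_lit 0x0))))) (.node 4 (.node 2 (.node 1 (.leaf (nat_lit 0x0)) (.leaf (nat_lit 0x0))) (.node 1 (.leaf (nat_lit 0x0)) (.leaf (nat_lit 0x0)))) (.node 2 (.node 1 (.leaf (nat_lit 0x0)) (.leaf (nat_lit 0x0))) (.node 1 (.leaf (nat_lit 0x0)) (.leaf (nat_lit 0x0))))))) (.node 16 (.node 8 (.node 4 (.node 2 (.node 1 (.leaf (nat_lit 0x0)) (.leaf (nat_lit 0x0))) (.node 1 (.leaf (nat_lit 0x0)) (.leaf (nat_lit 0x0)))) (.node 2 (.node 1 (.leaf (nat_lit 0x0)) (.leaf (nat_lit 0x0))) (.node 1 (.leaf (nat_lit 0x0)) (.leaf (nat_lit 0x0))))) (.node 4 (.node 2 (.node 1 (.leaf (nat_lit 0x0)) (.leaf (nat_lit 0x0))) (.node 1 (.leaf (nat_lit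 0x0)) (.leaf (nat_lit 0x0)))) (.node 2 (.node 1 (.leaf (nat_lit 0x0)) (.leaf (nat_lit 0x0))) (.node 1 (.leaf (nat_lit 0x0)) (.leaf (nat_lit 0x0)))))) (.node 8 (.node 4 (.node 2 (.node 1 (.leaf (nat_lit 0x0)) (.leaf (nat_lit 0x0))) (.node 1 (.leaf (nat_lit 0x0)) (.leaf (nat_lit 0x0)))) (.node 2 (.node 1 (.leaf (nat_lit 0x0)) (.leaf (nat_lit 0x0))) (.node 1 (.leaf (nat_lit 0x0)) (.leaf (nat_lit 0x0))))) (.node 4 (.node 2 (.node 1 (.leaf (nat_lit 0x0)) (.leaf (nat_lit 0x0))) (.node 1 (.leaf (nat_lit 0x0)) (.leaf (nat_lit 0x0)))) (.node 2 (.node 1 (.leaf (nat_lit 0x0)) (.leaf (nat_lit 0x0))) (.node 1 (.leaf (nat_lit 0x0)) (.leaf (nat_lit 0x0)))))))) (.node 32 (.node 16 (.node 8 (.node 4 (.node 2 (.node 1 (.leaf (nat_lit 0x0)) (.leaf (nat_lit 0x0))) (.node 1 (.leaf (nat_lit 0x0)) (.leaf (nat_lit 0x0)))) (.node 2 (.node 1 (.leaf (nat_lit 0x0)) (.leaf (nat_lit 0x0))) (.node 1 (.leaf (nat_lit 0x0)) (.leaf (nat_lit 0x0)))))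 (.node 4 (.node 2 (.node 1 (.leaf (nat_lit 0x0)) (.leaf (nat_lit 0x0))) (.node 1 (.leaf (nat_lit 0x0)) (.leaf (nat_lit 0x0)))) (.node 2 (.node 1 (.leaf (nat_lit 0x0)) (.leaf (nat_lit 0x0))) (.node 1 (.leaf (nat_lit 0x0)) (.leaf (nat_lit 0x0)))))) (.node 8 (.node 4 (.node 2 (.node 1 (.leaf (nat_lit 0x0)) (.leaf (nat_lit 0x0))) (.node 1 (.leaf (nat_lit 0x0)) (.leaf (nat_lit 0x0)))) (.node 2 (.node 1 (.leaf (nat_lit 0x0)) (.leaf (nat_lit 0x0))) (.node 1 (.leaf (nat_lit 0x0)) (.leaf (nat_lit 0x0))))) (.node 4 (.node 2 (.node 1 (.leaf (nat_lit 0x0)) (.leaf (nat_lit 0x0))) (.node 1 (.leaf (nat_lit 0x0)) (.leaf (nat_lit 0x0)))) (.node 2 (.node 1 (.leaf (nat_lit 0x0)) (.leaf (nat_lit 0x0))) (.node 1 (.leaf (nat_lit 0x0)) (.leaf (nat_lit 0x0))))))) (.node 16 (.node 8 (.node 4 (.node 2 (.node 1 (.leaf (nat_lit 0x0)) (.leaf (nat_lit 0x0))) (.node 1 (.leaf (nat_lit 0x0)) (.leaf (nat_lit 0x0)))) (.node 2 (.node 1 (.leaf (nat_lit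 0x0)) (.leaf (nat_lit 0x0))) (.node 1 (.leaf (nat_lit 0x0)) (.leaf (nat_lit 0x0))))) (.node 4 (.node 2 (.node 1 (.leaf (nat_lit 0x0)) (.leaf (nat_lit 0x0))) (.node 1 (.leaf (nat_lit 0x0)) (.leaf (nat_lit 0x0)))) (.node 2 (.node 1 (.leaf (nat_lit 0x0)) (.leaf (nat_lit 0x0))) (.node 1 (.leaf (nat_lit 0x0)) (.leaf (nat_lit 0x0)))))) (.node 8 (.node 4 (.node 2 (.node 1 (.leaf (nat_lit 0x0)) (.leaf (nat_lit 0x0))) (.node 1 (.leaf (nat_lit 0x0)) (.leaf (nat_lit 0x0)))) (.node 2 (.node 1 (.leaf (nat_lit 0x0)) (.leaf (nat_lit 0x0))) (.node 1 (.leaf (nat_lit 0x0)) (.leaf (nat_lit 0x0))))) (.node 4 (.node 2 (.node 1 (.leaf (nat_lit 0x0)) (.leaf (nat_lit 0x0))) (.node 1 (.leaf (nat_lit 0x0)) (.leaf (nat_lit 0x0)))) (.node 2 (.node 1 (.leaf (nat_lit 0x0)) (.leaf (nat_lit 0x0))) (.node 1 (.leaf (nat_lit 0x0)) (.leaf (nat_lit 0x0))))))))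

noncomputable def lvO4_19 : Tree :=
  .node 64 (.node 32 (.node 16 (.node 8 (.node 4 (.node 2 (.node 1 (.leaf (nat_lit 0x0)) (.leaf (nat_lit 0x0))) (.node 1 (.leaf (nat_lit 0x0)) (.leaf (nat_lit 0x0)))) (.node 2 (.node 1 (.leaf (nat_lit 0x0)) (.leaf (nat_lit 0x0))) (.node 1 (.leaf (nat_lit 0x0)) (.leaf (nat_lit 0x0))))) (.node 4 (.node 2 (.node 1 (.leaf (nat_lit 0x0)) (.leaf (nat_lit 0x0))) (.node 1 (.leaf (nat_lit 0x0)) (.leaf (nat_lit 0x0)))) (.node 2 (.node 1 (.leaf (nat_lit 0x0)) (.leaf (nat_lit 0x0))) (.node 1 (.leaf (nat_lit 0x0)) (.leaf (nat_lit 0x0)))))) (.node 8 (.node 4 (.node 2 (.node 1 (.leaf (nat_lit 0x0)) (.leaf (nat_lit 0x0))) (.node 1 (.leaf (nat_lit 0x0)) (.leaf (nat_lit 0x0)))) (.node 2 (.node 1 (.leaf (nat_lit 0x0)) (.leaf (nat_lit 0x0))) (.node 1 (.leaf (nat_lit 0x0)) (.leaf (nat_lit 0x0))))) (.node 4 (.node 2 (.node 1 (.leaf (nat_lit 0x0)) (.leaf (nat_lit 0x0))) (.node 1 (.leaf (nat_lit 0x0))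 (.leaf (nat_lit 0x0)))) (.node 2 (.node 1 (.leaf (nat_lit 0x0)) (.leaf (nat_lit 0x0))) (.node 1 (.leaf (nat_lit 0x0)) (.leaf (nat_lit 0x0))))))) (.node 16 (.node 8 (.node 4 (.node 2 (.node 1 (.leaf (nat_lit 0x0)) (.leaf (nat_lit 0x0))) (.node 1 (.leaf (nat_lit 0x0)) (.leaf (nat_lit 0x0)))) (.node 2 (.node 1 (.leaf (nat_lit 0x0)) (.leaf (nat_lit 0x0))) (.node 1 (.leaf (nat_lit 0x0)) (.leaf (nat_lit 0x0))))) (.node 4 (.node 2 (.node 1 (.leaf (nat_lit 0x0)) (.leaf (nat_lit 0x0))) (.node 1 (.leaf (nat_lit 0x0)) (.leaf (nat_lit 0x0)))) (.node 2 (.node 1 (.leaf (nat_lit 0x0)) (.leaf (nat_lit 0x0))) (.node 1 (.leaf (nat_lit 0x0)) (.leaf (nat_lit 0x0)))))) (.node 8 (.node 4 (.node 2 (.node 1 (.leaf (nat_lit 0x0)) (.leaf (nat_lit 0x0))) (.node 1 (.leaf (nat_lit 0x0)) (.leaf (nat_lit 0x0)))) (.node 2 (.node 1 (.leaf (nat_lit 0x0)) (.leaf (nat_lit 0x0))) (.node 1 (.leaf (nat_lit 0x0)) (.leaf (nat_lit 0x0))))) (.node 4 (.node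 2 (.node 1 (.leaf (nat_lit 0x0)) (.leaf (nat_lit 0x0))) (.node 1 (.leaf (nat_lit 0x0)) (.leaf (nat_lit 0x0)))) (.node 2 (.node 1 (.leaf (nat_lit 0x0)) (.leaf (nat_lit 0x0))) (.node 1 (.leaf (nat_lit 0x0)) (.leaf (nat_lit 0x0)))))))) (.node 32 (.node 16 (.node 8 (.node 4 (.node 2 (.node 1 (.leaf (nat_lit 0x0)) (.leaf (nat_lit 0x0))) (.node 1 (.leaf (nat_lit 0x0)) (.leaf (nat_lit 0x0)))) (.node 2 (.node 1 (.leaf (nat_lit 0x0)) (.leaf (nat_lit 0x0))) (.node 1 (.leaf (nat_lit 0x0)) (.leaf (nat_lit 0x0))))) (.node 4 (.node 2 (.node 1 (.leaf (nat_lit 0x0)) (.leaf (nat_lit 0x0))) (.node 1 (.leaf (nat_lit 0x0)) (.leaf (nat_lit 0x0)))) (.node 2 (.node 1 (.leaf (nat_lit 0x0)) (.leaf (nat_lit 0x0))) (.node 1 (.leaf (nat_lit 0x0)) (.leaf (nat_lit 0x0)))))) (.node 8 (.node 4 (.node 2 (.node 1 (.leaf (nat_lit 0x0)) (.leaf (nat_lit 0x0))) (.node 1 (.leaf (nat_lit 0x0)) (.leaf (nat_lit 0x0)))) (.node 2 (.node 1 (.leaf (nat_lit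 0x0)) (.leaf (nat_lit 0x0))) (.node 1 (.leaf (nat_lit 0x0)) (.leaf (nat_lit 0x0))))) (.node 4 (.node 2 (.node 1 (.leaf (nat_lit 0x0)) (.leaf (nat_lit 0x0))) (.node 1 (.leaf (nat_lit 0x0)) (.leaf (nat_lit 0x0)))) (.node 2 (.node 1 (.leaf (nat_lit 0x0)) (.leaf (nat_lit 0x0))) (.node 1 (.leaf (nat_lit 0x0)) (.leaf (nat_lit 0x0))))))) (.node 16 (.node 8 (.node 4 (.node 2 (.node 1 (.leaf (nat_lit 0x0)) (.leaf (nat_lit 0x0))) (.node 1 (.leaf (nat_lit 0x0)) (.leaf (nat_lit 0x0)))) (.node 2 (.node 1 (.leaf (nat_lit 0x0)) (.leaf (nat_lit 0x0))) (.node 1 (.leaf (nat_lit 0x0)) (.leaf (nat_lit 0x0))))) (.node 4 (.node 2 (.node 1 (.leaf (nat_lit 0x0)) (.leaf (nat_lit 0x0))) (.node 1 (.leaf (nat_lit 0x0)) (.leaf (nat_lit 0x0)))) (.node 2 (.node 1 (.leaf (nat_lit 0x0)) (.leaf (nat_lit 0x0))) (.node 1 (.leaf (nat_lit 0x0)) (.leaf (nat_lit 0x0)))))) (.node 8 (.node 4 (.node 2 (.node 1 (.leaf (nat_lit 0x0)) (.leaf (nat_lit 0x0)))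 (.node 1 (.leaf (nat_lit 0x0)) (.leaf (nat_lit 0x0)))) (.node 2 (.node 1 (.leaf (nat_lit 0x0)) (.leaf (nat_lit 0x0))) (.node 1 (.leaf (nat_lit 0x0)) (.leaf (nat_lit 0x0))))) (.node 4 (.node 2 (.node 1 (.leaf (nat_lit 0x0)) (.leaf (nat_lit 0x0))) (.node 1 (.leaf (nat_lit 0x0)) (.leaf (nat_lit 0x0)))) (.node 2 (.node 1 (.leaf (nat_lit 0x0)) (.leaf (nat_lit 0x0))) (.node 1 (.leaf (nat_lit 0x0)) (.leaf (nat_lit 0x0))))))))

noncomputable def lvO4_20 : Tree :=
  .node 64 (.node 32 (.node 16 (.node 8 (.node 4 (.node 2 (.node 1 (.leaf (nat_lit 0x0)) (.leaf (nat_lit 0x0))) (.node 1 (.leaf (nat_lit 0x0)) (.leaf (nat_lit 0x0)))) (.node 2 (.node 1 (.leaf (nat_lit 0x0)) (.leaf (nat_lit 0x0))) (.node 1 (.leaf (nat_lit 0x0)) (.leaf (nat_lit 0x0))))) (.node 4 (.node 2 (.node 1 (.leaf (nat_lit 0x0)) (.leaf (nat_lit 0x0))) (.node 1 (.leaf (nat_lit 0x0)) (.leaf (nat_lit 0x0)))) (.node 2 (.node 1 (.leaf (nat_lit 0x0)) (.leaf (nat_lit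 0x0))) (.node 1 (.leaf (nat_lit 0x0)) (.leaf (nat_lit 0x0)))))) (.node 8 (.node 4 (.node 2 (.node 1 (.leaf (nat_lit 0x0)) (.leaf (nat_lit 0x0))) (.node 1 (.leaf (nat_lit 0x0)) (.leaf (nat_lit 0x0)))) (.node 2 (.node 1 (.leaf (nat_lit 0x0)) (.leaf (nat_lit 0x0))) (.node 1 (.leaf (nat_lit 0x0)) (.leaf (nat_lit 0x0))))) (.node 4 (.node 2 (.node 1 (.leaf (nat_lit 0x0)) (.leaf (nat_lit 0x0))) (.node 1 (.leaf (nat_lit 0x0)) (.leaf (nat_lit 0x0)))) (.node 2 (.node 1 (.leaf (nat_lit 0x0)) (.leaf (nat_lit 0x0))) (.node 1 (.leaf (nat_lit 0x0)) (.leaf (nat_lit 0x0))))))) (.node 16 (.node 8 (.node 4 (.node 2 (.node 1 (.leaf (nat_lit 0x0)) (.leaf (nat_lit 0x0))) (.node 1 (.leaf (nat_lit 0x0)) (.leaf (nat_lit 0x0)))) (.node 2 (.node 1 (.leaf (nat_lit 0x0)) (.leaf (nat_lit 0x0))) (.node 1 (.leaf (nat_lit 0x0)) (.leaf (nat_lit 0x0))))) (.node 4 (.node 2 (.node 1 (.leaf (nat_lit 0x0)) (.leaf (nat_lit 0x0))) (.node 1 (.leaf (nat_lit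 0x0)) (.leaf (nat_lit 0x0)))) (.node 2 (.node 1 (.leaf (nat_lit 0x0)) (.leaf (nat_lit 0x0))) (.node 1 (.leaf (nat_lit 0x0)) (.leaf (nat_lit 0x0)))))) (.node 8 (.node 4 (.node 2 (.node 1 (.leaf (nat_lit 0x0)) (.leaf (nat_lit 0x0))) (.node 1 (.leaf (nat_lit 0x0)) (.leaf (nat_lit 0x0)))) (.node 2 (.node 1 (.leaf (nat_lit 0x0)) (.leaf (nat_lit 0x0))) (.node 1 (.leaf (nat_lit 0x0)) (.leaf (nat_lit 0x0))))) (.node 4 (.node 2 (.node 1 (.leaf (nat_lit 0x0)) (.leaf (nat_lit 0x0))) (.node 1 (.leaf (nat_lit 0x0)) (.leaf (nat_lit 0x0)))) (.node 2 (.node 1 (.leaf (nat_lit 0x0)) (.leaf (nat_lit 0x0))) (.node 1 (.leaf (nat_lit 0x0)) (.leaf (nat_lit 0x0)))))))) (.node 32 (.node 16 (.node 8 (.node 4 (.node 2 (.node 1 (.leaf (nat_lit 0x0)) (.leaf (nat_lit 0x0))) (.node 1 (.leaf (nat_lit 0x0)) (.leaf (nat_lit 0x0)))) (.node 2 (.node 1 (.leaf (nat_lit 0x0)) (.leaf (nat_lit 0x0))) (.node 1 (.leaf (nat_lit 0x0)) (.leaf (nat_lit 0x0)))))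 (.node 4 (.node 2 (.node 1 (.leaf (nat_lit 0x0)) (.leaf (nat_lit 0x0))) (.node 1 (.leaf (nat_lit 0x0)) (.leaf (nat_lit 0x0)))) (.node 2 (.node 1 (.leaf (nat_lit 0x0)) (.leaf (nat_lit 0x0))) (.node 1 (.leaf (nat_lit 0x0)) (.leaf (nat_lit 0x0)))))) (.node 8 (.node 4 (.node 2 (.node 1 (.leaf (nat_lit 0x0)) (.leaf (nat_lit 0x0))) (.node 1 (.leaf (nat_lit 0x0)) (.leaf (nat_lit 0x0)))) (.node 2 (.node 1 (.leaf (nat_lit 0x0)) (.leaf (nat_lit 0x0))) (.node 1 (.leaf (nat_lit 0x0)) (.leaf (nat_lit 0x0))))) (.node 4 (.node 2 (.node 1 (.leaf (nat_lit 0x0)) (.leaf (nat_lit 0x0))) (.node 1 (.leaf (nat_lit 0x0)) (.leaf (nat_lit 0x0)))) (.node 2 (.node 1 (.leaf (nat_lit 0x0)) (.leaf (nat_lit 0x0))) (.node 1 (.leaf (nat_lit 0x0)) (.leaf (nat_lit 0x0))))))) (.node 16 (.node 8 (.node 4 (.node 2 (.node 1 (.leaf (nat_lit 0x0)) (.leaf (nat_lit 0x0))) (.node 1 (.leaf (nat_lit 0x0)) (.leaf (nat_lit 0x0)))) (.node 2 (.node 1 (.leaf (nat_lit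 0x0)) (.leaf (nat_lit 0x0))) (.node 1 (.leaf (nat_lit 0x0)) (.leaf (nat_lit 0x0))))) (.node 4 (.node 2 (.node 1 (.leaf (nat_lit 0x0)) (.leaf (nat_lit 0x0))) (.node 1 (.leaf (nat_lit 0x0)) (.leaf (nat_lit 0x0)))) (.node 2 (.node 1 (.leaf (nat_lit 0x0)) (.leaf (nat_lit 0x0))) (.node 1 (.leaf (nat_lit 0x0)) (.leaf (nat_lit 0x0)))))) (.node 8 (.node 4 (.node 2 (.node 1 (.leaf (nat_lit 0x0)) (.leaf (nat_lit 0x0))) (.node 1 (.leaf (nat_lit 0x0)) (.leaf (nat_lit 0x0)))) (.node 2 (.node 1 (.leaf (nat_lit 0x0)) (.leaf (nat_lit 0x0))) (.node 1 (.leaf (nat_lit 0x0)) (.leaf (nat_lit 0x0))))) (.node 4 (.node 2 (.node 1 (.leaf (nat_lit 0x0)) (.leaf (nat_lit 0x0))) (.node 1 (.leaf (nat_lit 0x0)) (.leaf (nat_lit 0x0)))) (.node 2 (.node 1 (.leaf (nat_lit 0x0)) (.leaf (nat_lit 0x0))) (.node 1 (.leaf (nat_lit 0x0)) (.leaf (nat_lit 0x0))))))))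

noncomputable def lvO4_21 : Tree :=
  .node 64 (.node 32 (.node 16 (.node 8 (.node 4 (.node 2 (.node 1 (.leaf (nat_lit 0x0)) (.leaf (nat_lit 0x0))) (.node 1 (.leaf (nat_lit 0x0)) (.leaf (nat_lit 0x0)))) (.node 2 (.node 1 (.leaf (nat_lit 0x0)) (.leaf (nat_lit 0x0))) (.node 1 (.leaf (nat_lit 0x0)) (.leaf (nat_lit 0x0))))) (.node 4 (.node 2 (.node 1 (.leaf (nat_lit 0x0)) (.leaf (nat_lit 0x0))) (.node 1 (.leaf (nat_lit 0x0)) (.leaf (nat_lit 0x0)))) (.node 2 (.node 1 (.leaf (nat_lit 0x0)) (.leaf (nat_lit 0x0))) (.node 1 (.leaf (nat_lit 0x0)) (.leaf (nat_lit 0x0)))))) (.node 8 (.node 4 (.node 2 (.node 1 (.leaf (nat_lit 0x0)) (.leaf (nat_lit 0x0))) (.node 1 (.leaf (nat_lit 0x0)) (.leaf (nat_lit 0x0)))) (.node 2 (.node 1 (.leaf (nat_lit 0x0)) (.leaf (nat_lit 0x0))) (.node 1 (.leaf (nat_lit 0x0)) (.leaf (nat_lit 0x0))))) (.node 4 (.node 2 (.node 1 (.leaf (nat_lit 0x0)) (.leaf (nat_lit 0x0))) (.node 1 (.leaf (nat_lit 0x0))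 (.leaf (nat_lit 0x0)))) (.node 2 (.node 1 (.leaf (nat_lit 0x0)) (.leaf (nat_lit 0x0))) (.node 1 (.leaf (nat_lit 0x0)) (.leaf (nat_lit 0x0))))))) (.node 16 (.node 8 (.node 4 (.node 2 (.node 1 (.leaf (nat_lit 0x0)) (.leaf (nat_lit 0x0))) (.node 1 (.leaf (nat_lit 0x0)) (.leaf (nat_lit 0x0)))) (.node 2 (.node 1 (.leaf (nat_lit 0x0)) (.leaf (nat_lit 0x0))) (.node 1 (.leaf (nat_lit 0x0)) (.leaf (nat_lit 0x0))))) (.node 4 (.node 2 (.node 1 (.leaf (nat_lit 0x0)) (.leaf (nat_lit 0x0))) (.node 1 (.leaf (nat_lit 0x0)) (.leaf (nat_lit 0x0)))) (.node 2 (.node 1 (.leaf (nat_lit 0x0)) (.leaf (nat_lit 0x0))) (.node 1 (.leaf (nat_lit 0x0)) (.leaf (nat_lit 0x0)))))) (.node 8 (.node 4 (.node 2 (.node 1 (.leaf (nat_lit 0x0)) (.leaf (nat_lit 0x0))) (.node 1 (.leaf (nat_lit 0x0)) (.leaf (nat_lit 0x0)))) (.node 2 (.node 1 (.leaf (nat_lit 0x0)) (.leaf (nat_lit 0x0))) (.node 1 (.leaf (nat_lit 0x0)) (.leaf (nat_lit 0x0))))) (.node 4 (.node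 2 (.node 1 (.leaf (nat_lit 0x0)) (.leaf (nat_lit 0x0))) (.node 1 (.leaf (nat_lit 0x0)) (.leaf (nat_lit 0x0)))) (.node 2 (.node 1 (.leaf (nat_lit 0x0)) (.leaf (nat_lit 0x0))) (.node 1 (.leaf (nat_lit 0x0)) (.leaf (nat_lit 0x0)))))))) (.node 32 (.node 16 (.node 8 (.node 4 (.node 2 (.node 1 (.leaf (nat_lit 0x0)) (.leaf (nat_lit 0x0))) (.node 1 (.leaf (nat_lit 0x0)) (.leaf (nat_lit 0x0)))) (.node 2 (.node 1 (.leaf (nat_lit 0x0)) (.leaf (nat_lit 0x0))) (.node 1 (.leaf (nat_lit 0x0)) (.leaf (nat_lit 0x0))))) (.node 4 (.node 2 (.node 1 (.leaf (nat_lit 0x0)) (.leaf (nat_lit 0x0))) (.node 1 (.leaf (nat_lit 0x0)) (.leaf (nat_lit 0x0)))) (.node 2 (.node 1 (.leaf (nat_lit 0x0)) (.leaf (nat_lit 0x0))) (.node 1 (.leaf (nat_lit 0x0)) (.leaf (nat_lit 0x0)))))) (.node 8 (.node 4 (.node 2 (.node 1 (.leaf (nat_lit 0x0)) (.leaf (nat_lit 0x0))) (.node 1 (.leaf (nat_lit 0x0)) (.leaf (nat_lit 0x0)))) (.node 2 (.node 1 (.leaf (nat_lit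 0x0)) (.leaf (nat_lit 0x0))) (.node 1 (.leaf (nat_lit 0x0)) (.leaf (nat_lit 0x0))))) (.node 4 (.node 2 (.node 1 (.leaf (nat_lit 0x0)) (.leaf (nat_lit 0x0))) (.node 1 (.leaf (nat_lit 0x0)) (.leaf (nat_lit 0x0)))) (.node 2 (.node 1 (.leaf (nat_lit 0x0)) (.leaf (nat_lit 0x0))) (.node 1 (.leaf (nat_lit 0x0)) (.leaf (nat_lit 0x0))))))) (.node 16 (.node 8 (.node 4 (.node 2 (.node 1 (.leaf (nat_lit 0x0)) (.leaf (nat_lit 0x0))) (.node 1 (.leaf (nat_lit 0x0)) (.leaf (nat_lit 0x0)))) (.node 2 (.node 1 (.leaf (nat_lit 0x0)) (.leaf (nat_lit 0x0))) (.node 1 (.leaf (nat_lit 0x0)) (.leaf (nat_lit 0x0))))) (.node 4 (.node 2 (.node 1 (.leaf (nat_lit 0x0)) (.leaf (nat_lit 0x0))) (.node 1 (.leaf (nat_lit 0x0)) (.leaf (nat_lit 0x0)))) (.node 2 (.node 1 (.leaf (nat_lit 0x0)) (.leaf (nat_lit 0x0))) (.node 1 (.leaf (nat_lit 0x0)) (.leaf (nat_lit 0x0)))))) (.node 8 (.node 4 (.node 2 (.node 1 (.leaf (nat_lit 0x0)) (.leaf (nat_lit 0x0)))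 (.node 1 (.leaf (nat_lit 0x0)) (.leaf (nat_lit 0x0)))) (.node 2 (.node 1 (.leaf (nat_lit 0x0)) (.leaf (nat_lit 0x0))) (.node 1 (.leaf (nat_lit 0x0)) (.leaf (nat_lit 0x0))))) (.node 4 (.node 2 (.node 1 (.leaf (nat_lit 0x0)) (.leaf (nat_lit 0x0))) (.node 1 (.leaf (nat_lit 0x0)) (.leaf (nat_lit 0x0)))) (.node 2 (.node 1 (.leaf (nat_lit 0x0)) (.leaf (nat_lit 0x0))) (.node 1 (.leaf (nat_lit 0x0)) (.leaf (nat_lit 0x0))))))))

noncomputable def lvO4_22 : Tree :=
  .node 64 (.node 32 (.node 16 (.node 8 (.node 4 (.node 2 (.node 1 (.leaf (nat_lit 0x0)) (.leaf (nat_lit 0x0))) (.node 1 (.leaf (nat_lit 0x0)) (.leaf (nat_lit 0x0)))) (.node 2 (.node 1 (.leaf (nat_lit 0x0)) (.leaf (nat_lit 0x0))) (.node 1 (.leaf (nat_lit 0x0)) (.leaf (nat_lit 0x0))))) (.node 4 (.node 2 (.node 1 (.leaf (nat_lit 0x0)) (.leaf (nat_lit 0x0))) (.node 1 (.leaf (nat_lit 0x0)) (.leaf (nat_lit 0x0)))) (.node 2 (.node 1 (.leaf (nat_lit 0x0)) (.leaf (nat_lit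 0x0))) (.node 1 (.leaf (nat_lit 0x0)) (.leaf (nat_lit 0x0)))))) (.node 8 (.node 4 (.node 2 (.node 1 (.leaf (nat_lit 0x0)) (.leaf (nat_lit 0x0))) (.node 1 (.leaf (nat_lit 0x0)) (.leaf (nat_lit 0x0)))) (.node 2 (.node 1 (.leaf (nat_lit 0x0)) (.leaf (nat_lit 0x0))) (.node 1 (.leaf (nat_lit 0x0)) (.leaf (nat_lit 0x0))))) (.node 4 (.node 2 (.node 1 (.leaf (nat_lit 0x0)) (.leaf (nat_lit 0x0))) (.node 1 (.leaf (nat_lit 0x0)) (.leaf (nat_lit 0x0)))) (.node 2 (.node 1 (.leaf (nat_lit 0x0)) (.leaf (nat_lit 0x0))) (.node 1 (.leaf (nat_lit 0x0)) (.leaf (nat_lit 0x0))))))) (.node 16 (.node 8 (.node 4 (.node 2 (.node 1 (.leaf (nat_lit 0x0)) (.leaf (nat_lit 0x0))) (.node 1 (.leaf (nat_lit 0x0)) (.leaf (nat_lit 0x0)))) (.node 2 (.node 1 (.leaf (nat_lit 0x0)) (.leaf (nat_lit 0x0))) (.node 1 (.leaf (nat_lit 0x0)) (.leaf (nat_lit 0x0))))) (.node 4 (.node 2 (.node 1 (.leaf (nat_lit 0x0)) (.leaf (nat_lit 0x0))) (.node 1 (.leaf (nat_lit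 0x0)) (.leaf (nat_lit 0x0)))) (.node 2 (.node 1 (.leaf (nat_lit 0x0)) (.leaf (nat_lit 0x0))) (.node 1 (.leaf (nat_lit 0x0)) (.leaf (nat_lit 0x0)))))) (.node 8 (.node 4 (.node 2 (.node 1 (.leaf (nat_lit 0x0)) (.leaf (nat_lit 0x0))) (.node 1 (.leaf (nat_lit 0x0)) (.leaf (nat_lit 0x0)))) (.node 2 (.node 1 (.leaf (nat_lit 0x0)) (.leaf (nat_lit 0x0))) (.node 1 (.leaf (nat_lit 0x0)) (.leaf (nat_lit 0x0))))) (.node 4 (.node 2 (.node 1 (.leaf (nat_lit 0x0)) (.leaf (nat_lit 0x0))) (.node 1 (.leaf (nat_lit 0x0)) (.leaf (nat_lit 0x0)))) (.node 2 (.node 1 (.leaf (nat_lit 0x0)) (.leaf (nat_lit 0x0))) (.node 1 (.leaf (nat_lit 0x0)) (.leaf (nat_lit 0x0)))))))) (.node 32 (.node 16 (.node 8 (.node 4 (.node 2 (.node 1 (.leaf (nat_lit 0x0)) (.leaf (nat_lit 0x0))) (.node 1 (.leaf (nat_lit 0x0)) (.leaf (nat_lit 0x0)))) (.node 2 (.node 1 (.leaf (nat_lit 0x0)) (.leaf (nat_lit 0x0))) (.node 1 (.leaf (nat_lit 0x0)) (.leaf (nat_lit 0x0)))))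 (.node 4 (.node 2 (.node 1 (.leaf (nat_lit 0x0)) (.leaf (nat_lit 0x0))) (.node 1 (.leaf (nat_lit 0x0)) (.leaf (nat_lit 0x0)))) (.node 2 (.node 1 (.leaf (nat_lit 0x0)) (.leaf (nat_lit 0x0))) (.node 1 (.leaf (nat_lit 0x0)) (.leaf (nat_lit 0x0)))))) (.node 8 (.node 4 (.node 2 (.node 1 (.leaf (nat_lit 0x0)) (.leaf (nat_lit 0x0))) (.node 1 (.leaf (nat_lit 0x0)) (.leaf (nat_lit 0x0)))) (.node 2 (.node 1 (.leaf (nat_lit 0x0)) (.leaf (nat_lit 0x0))) (.node 1 (.leaf (nat_lit 0x0)) (.leaf (nat_lit 0x0))))) (.node 4 (.node 2 (.node 1 (.leaf (nat_lit 0x0)) (.leaf (nat_lit 0x0))) (.node 1 (.leaf (nat_lit 0x0)) (.leaf (nat_lit 0x0)))) (.node 2 (.node 1 (.leaf (nat_lit 0x0)) (.leaf (nat_lit 0x0))) (.node 1 (.leaf (nat_lit 0x0)) (.leaf (nat_lit 0x0))))))) (.node 16 (.node 8 (.node 4 (.node 2 (.node 1 (.leaf (nat_lit 0x0)) (.leaf (nat_lit 0x0))) (.node 1 (.leaf (nat_lit 0x0)) (.leaf (nat_lit 0x0)))) (.node 2 (.node 1 (.leaf (nat_lit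 0x0)) (.leaf (nat_lit 0x0))) (.node 1 (.leaf (nat_lit 0x0)) (.leaf (nat_lit 0x0))))) (.node 4 (.node 2 (.node 1 (.leaf (nat_lit 0x0)) (.leaf (nat_lit 0x0))) (.node 1 (.leaf (nat_lit 0x0)) (.leaf (nat_lit 0x0)))) (.node 2 (.node 1 (.leaf (nat_lit 0x0)) (.leaf (nat_lit 0x0))) (.node 1 (.leaf (nat_lit 0x0)) (.leaf (nat_lit 0x0)))))) (.node 8 (.node 4 (.node 2 (.node 1 (.leaf (nat_lit 0x0)) (.leaf (nat_lit 0x0))) (.node 1 (.leaf (nat_lit 0x0)) (.leaf (nat_lit 0x0)))) (.node 2 (.node 1 (.leaf (nat_lit 0x0)) (.leaf (nat_lit 0x0))) (.node 1 (.leaf (nat_lit 0x0)) (.leaf (nat_lit 0x0))))) (.node 4 (.node 2 (.node 1 (.leaf (nat_lit 0x0)) (.leaf (nat_lit 0x0))) (.node 1 (.leaf (nat_lit 0x0)) (.leaf (nat_lit 0x0)))) (.node 2 (.node 1 (.leaf (nat_lit 0x0)) (.leaf (nat_lit 0x0))) (.node 1 (.leaf (nat_lit 0x0)) (.leaf (nat_lit 0x0))))))))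

noncomputable def lvO4_23 : Tree :=
  .node 64 (.node 32 (.node 16 (.node 8 (.node 4 (.node 2 (.node 1 (.leaf (nat_lit 0x0)) (.leaf (nat_lit 0x0))) (.node 1 (.leaf (nat_lit 0x0)) (.leaf (nat_lit 0x0)))) (.node 2 (.node 1 (.leaf (nat_lit 0x0)) (.leaf (nat_lit 0x0))) (.node 1 (.leaf (nat_lit 0x0)) (.leaf (nat_lit 0x0))))) (.node 4 (.node 2 (.node 1 (.leaf (nat_lit 0x0)) (.leaf (nat_lit 0x0))) (.node 1 (.leaf (nat_lit 0x0)) (.leaf (nat_lit 0x0)))) (.node 2 (.node 1 (.leaf (nat_lit 0x0)) (.leaf (nat_lit 0x0))) (.node 1 (.leaf (nat_lit 0x0)) (.leaf (nat_lit 0x0)))))) (.node 8 (.node 4 (.node 2 (.node 1 (.leaf (nat_lit 0x0)) (.leaf (nat_lit 0x0))) (.node 1 (.leaf (nat_lit 0x0)) (.leaf (nat_lit 0x0)))) (.node 2 (.node 1 (.leaf (nat_lit 0x0)) (.leaf (nat_lit 0x0))) (.node 1 (.leaf (nat_lit 0x0)) (.leaf (nat_lit 0x0))))) (.node 4 (.node 2 (.node 1 (.leaf (nat_lit 0x0)) (.leaf (nat_lit 0x0))) (.node 1 (.leaf (nat_lit 0x0))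 (.leaf (nat_lit 0x0)))) (.node 2 (.node 1 (.leaf (nat_lit 0x0)) (.leaf (nat_lit 0x0))) (.node 1 (.leaf (nat_lit 0x0)) (.leaf (nat_lit 0x0))))))) (.node 16 (.node 8 (.node 4 (.node 2 (.node 1 (.leaf (nat_lit 0x0)) (.leaf (nat_lit 0x0))) (.node 1 (.leaf (nat_lit 0x0)) (.leaf (nat_lit 0x0)))) (.node 2 (.node 1 (.leaf (nat_lit 0x0)) (.leaf (nat_lit 0x0))) (.node 1 (.leaf (nat_lit 0x0)) (.leaf (nat_lit 0x0))))) (.node 4 (.node 2 (.node 1 (.leaf (nat_lit 0x0)) (.leaf (nat_lit 0x0))) (.node 1 (.leaf (nat_lit 0x0)) (.leaf (nat_lit 0x0)))) (.node 2 (.node 1 (.leaf (nat_lit 0x0)) (.leaf (nat_lit 0x0))) (.node 1 (.leaf (nat_lit 0x0)) (.leaf (nat_lit 0x0)))))) (.node 8 (.node 4 (.node 2 (.node 1 (.leaf (nat_lit 0x0)) (.leaf (nat_lit 0x0))) (.node 1 (.leaf (nat_lit 0x0)) (.leaf (nat_lit 0x0)))) (.node 2 (.node 1 (.leaf (nat_lit 0x0)) (.leaf (nat_lit 0x0))) (.node 1 (.leaf (nat_lit 0x0)) (.leaf (nat_lit 0x0))))) (.node 4 (.node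 2 (.node 1 (.leaf (nat_lit 0x0)) (.leaf (nat_lit 0x0))) (.node 1 (.leaf (nat_lit 0x0)) (.leaf (nat_lit 0x0)))) (.node 2 (.node 1 (.leaf (nat_lit 0x0)) (.leaf (nat_lit 0x0))) (.node 1 (.leaf (nat_lit 0x0)) (.leaf (nat_lit 0x0)))))))) (.node 32 (.node 16 (.node 8 (.node 4 (.node 2 (.node 1 (.leaf (nat_lit 0x0)) (.leaf (nat_lit 0x0))) (.node 1 (.leaf (nat_lit 0x0)) (.leaf (nat_lit 0x0)))) (.node 2 (.node 1 (.leaf (nat_lit 0x0)) (.leaf (nat_lit 0x0))) (.node 1 (.leaf (nat_lit 0x0)) (.leaf (nat_lit 0x0))))) (.node 4 (.node 2 (.node 1 (.leaf (nat_lit 0x0)) (.leaf (nat_lit 0x0))) (.node 1 (.leaf (nat_lit 0x0)) (.leaf (nat_lit 0x0)))) (.node 2 (.node 1 (.leaf (nat_lit 0x0)) (.leaf (nat_lit 0x0))) (.node 1 (.leaf (nat_lit 0x0)) (.leaf (nat_lit 0x0)))))) (.node 8 (.node 4 (.node 2 (.node 1 (.leaf (nat_lit 0x0)) (.leaf (nat_lit 0x0))) (.node 1 (.leaf (nat_lit 0x0)) (.leaf (nat_lit 0x0)))) (.node 2 (.node 1 (.leaf (nat_lit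 0x0)) (.leaf (nat_lit 0x0))) (.node 1 (.leaf (nat_lit 0x0)) (.leaf (nat_lit 0x0))))) (.node 4 (.node 2 (.node 1 (.leaf (nat_lit 0x0)) (.leaf (nat_lit 0x0))) (.node 1 (.leaf (nat_lit 0x0)) (.leaf (nat_lit 0x0)))) (.node 2 (.node 1 (.leaf (nat_lit 0x0)) (.leaf (nat_lit 0x0))) (.node 1 (.leaf (nat_lit 0x0)) (.leaf (nat_lit 0x0))))))) (.node 16 (.node 8 (.node 4 (.node 2 (.node 1 (.leaf (nat_lit 0x0)) (.leaf (nat_lit 0x0))) (.node 1 (.leaf (nat_lit 0x0)) (.leaf (nat_lit 0x0)))) (.node 2 (.node 1 (.leaf (nat_lit 0x0)) (.leaf (nat_lit 0x0))) (.node 1 (.leaf (nat_lit 0x0)) (.leaf (nat_lit 0x0))))) (.node 4 (.node 2 (.node 1 (.leaf (nat_lit 0x0)) (.leaf (nat_lit 0x0))) (.node 1 (.leaf (nat_lit 0x0)) (.leaf (nat_lit 0x0)))) (.node 2 (.node 1 (.leaf (nat_lit 0x0)) (.leaf (nat_lit 0x0))) (.node 1 (.leaf (nat_lit 0x0)) (.leaf (nat_lit 0x0)))))) (.node 8 (.node 4 (.node 2 (.node 1 (.leaf (nat_lit 0x0)) (.leaf (nat_lit 0x0)))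 (.node 1 (.leaf (nat_lit 0x0)) (.leaf (nat_lit 0x0)))) (.node 2 (.node 1 (.leaf (nat_lit 0x0)) (.leaf (nat_lit 0x0))) (.node 1 (.leaf (nat_lit 0x0)) (.leaf (nat_lit 0x0))))) (.node 4 (.node 2 (.node 1 (.leaf (nat_lit 0x0)) (.leaf (nat_lit 0x0))) (.node 1 (.leaf (nat_lit 0x0)) (.leaf (nat_lit 0x0)))) (.node 2 (.node 1 (.leaf (nat_lit 0x0)) (.leaf (nat_lit 0x0))) (.node 1 (.leaf (nat_lit 0x0)) (.leaf (nat_lit 0x0))))))))

noncomputable def lvO4_24 : Tree :=
  .node 43 (.node 21 (.node 10 (.node 5 (.node 2 (.node 1 (.leaf (nat_lit 0x0)) (.leaf (nat_lit 0x0))) (.node 1 (.leaf (nat_lit 0x0)) (.node 1 (.leaf (nat_lit 0x0)) (.leaf (nat_lit 0x0))))) (.node 2 (.node 1 (.leaf (nat_lit 0x0)) (.leaf (nat_lit 0x0))) (.node 1 (.leaf (nat_lit 0x0)) (.node 1 (.leaf (nat_lit 0x0)) (.leaf (nat_lit 0x0)))))) (.node 5 (.node 2 (.node 1 (.leaf (nat_lit 0x0)) (.leaf (nat_lit 0x0))) (.node 1 (.leaf (nat_lit 0x0)) (.node 1 (.leaf (nat_lit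 0x0)) (.leaf (nat_lit 0x0))))) (.node 3 (.node 1 (.leaf (nat_lit 0x0)) (.node 1 (.leaf (nat_lit 0x0)) (.leaf (nat_lit 0x0)))) (.node 1 (.leaf (nat_lit 0x0)) (.node 1 (.leaf (nat_lit 0x0)) (.leaf (nat_lit 0x0))))))) (.node 11 (.node 5 (.node 2 (.node 1 (.leaf (nat_lit 0x0)) (.leaf (nat_lit 0x0))) (.node 1 (.leaf (nat_lit 0x0)) (.node 1 (.leaf (nat_lit 0x0)) (.leaf (nat_lit 0x0))))) (.node 3 (.node 1 (.leaf (nat_lit 0x0)) (.node 1 (.leaf (nat_lit 0x0)) (.leaf (nat_lit 0x0)))) (.node 1 (.leaf (nat_lit 0x0)) (.node 1 (.leaf (nat_lit 0x0)) (.leaf (nat_lit 0x0)))))) (.node 5 (.node 2 (.node 1 (.leaf (nat_lit 0x0)) (.leaf (nat_lit 0x0))) (.node 1 (.leaf (nat_lit 0x0)) (.node 1 (.leaf (nat_lit 0x0)) (.leaf (nat_lit 0x0))))) (.node 3 (.node 1 (.leaf (nat_lit 0x0)) (.node 1 (.leaf (nat_lit 0x0)) (.leaf (nat_lit 0x0)))) (.node 1 (.leaf (nat_lit 0x0)) (.node 1 (.leaf (nat_lit 0x0)) (.leaf (nat_lit 0x0)))))))) (.node 22 (.node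 11 (.node 5 (.node 2 (.node 1 (.leaf (nat_lit 0x0)) (.leaf (nat_lit 0x0))) (.node 1 (.leaf (nat_lit 0x0)) (.node 1 (.leaf (nat_lit 0x0)) (.leaf (nat_lit 0x0))))) (.node 3 (.node 1 (.leaf (nat_lit 0x0)) (.node 1 (.leaf (nat_lit 0x0)) (.leaf (nat_lit 0x0)))) (.node 1 (.leaf (nat_lit 0x0)) (.node 1 (.leaf (nat_lit 0x0)) (.leaf (nat_lit 0x0)))))) (.node 5 (.node 2 (.node 1 (.leaf (nat_lit 0x0)) (.leaf (nat_lit 0x0))) (.node 1 (.leaf (nat_lit 0x0)) (.node 1 (.leaf (nat_lit 0x0)) (.leaf (nat_lit 0x0))))) (.node 3 (.node 1 (.leaf (nat_lit 0x0)) (.node 1 (.leaf (nat_lit 0x0)) (.leaf (nat_lit 0x0)))) (.node 1 (.leaf (nat_lit 0x0)) (.node 1 (.leaf (nat_lit 0x0)) (.leaf (nat_lit 0x0))))))) (.node 11 (.node 5 (.node 2 (.node 1 (.leaf (nat_lit 0x0)) (.leaf (nat_lit 0x0))) (.node 1 (.leaf (nat_lit 0x0)) (.node 1 (.leaf (nat_lit 0x0)) (.leaf (nat_lit 0x0))))) (.node 3 (.node 1 (.leaf (nat_lit 0x0)) (.node 1 (.leaf (nat_lit 0x0))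 (.leaf (nat_lit 0x0)))) (.node 1 (.leaf (nat_lit 0x0)) (.node 1 (.leaf (nat_lit 0x0)) (.leaf (nat_lit 0x0)))))) (.node 5 (.node 2 (.node 1 (.leaf (nat_lit 0x0)) (.leaf (nat_lit 0x0))) (.node 1 (.leaf (nat_lit 0x0)) (.node 1 (.leaf (nat_lit 0x0)) (.leaf (nat_lit 0x0))))) (.node 3 (.node 1 (.leaf (nat_lit 0x0)) (.node 1 (.leaf (nat_lit 0x0)) (.leaf (nat_lit 0x0)))) (.node 1 (.leaf (nat_lit 0x0)) (.node 1 (.leaf (nat_lit 0x0)) (.leaf (nat_lit 0x0))))))))

noncomputable def lvO4 : Tree :=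
  .node 1536 (.node 768 (.node 384 (.node 128 (lvO4_0) (.node 128 (lvO4_1) (lvO4_2))) (.node 128 (lvO4_3) (.node 128 (lvO4_4) (lvO4_5)))) (.node 384 (.node 128 (lvO4_6) (.node 128 (lvO4_7) (lvO4_8))) (.node 128 (lvO4_9) (.node 128 (lvO4_10) (lvO4_11))))) (.node 768 (.node 384 (.node 128 (lvO4_12) (.node 128 (lvO4_13) (lvO4_14))) (.node 128 (lvO4_15) (.node 128 (lvO4_16) (lvO4_17)))) (.node 384 (.node 128 (lvO4_18) (.node 128 (lvO4_19) (lvO4_20))) (.node 256 (.node 128 (lvO4_21) (lvO4_22)) (.node 128 (lvO4_23) (lvO4_24)))))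

noncomputable def lvP4_0 : ℕ := nat_lit 0xc1900c5200c1600c5400c2e00c4200c4600c3600bd300ba800ba500c3700c4100c4f00c4000c4d00c3a00c3b00bac00c4e00bd500bd600b8e00bc500ba100b7b00c3900bcc00c5000b9f00c3500bbf00c4900bca00bd100c0a00c3000c2900c1c00c0e00c5500be600c1500b3b00c1d00c2500c2d00c0d00c2f00c3100c2200b5500b0d00b0b00c0400bad00b0a00c1300c3200c1100c2700bfc00bfd00c0600c5300bee00bfb00c2a00af500af400af300be700c2600c1a00c1700bf900bf800bf700c1200bef00c0c00c2300b4400afe00ad600baa00b5700b8000b5000b3e00c5600bf300c2b00b4000c3300ad900ad800b2700af100c1400abe00abd00bed00b3100c2c00aec00aeb00be500b4900b6400b5300b1a00c2800b2c00b2b00b3a00bff00bdd00bb600a8c00bb700bdc00be100be900c0000bea00be000b8d00c4a00c5100c3f00c4300bc400bcf00c3d00c3400ba600ba000c4500b9400c3800b5a00b5900b9e00a6100bd400bb900a6000b8f00b1d00bc900c4b00bba00a5600a3b00bcb00a2e00bd200a4300bb200bd800bb100bb000a1c00bde00a1a00a1900a1800b0000b0f00b8900b8a00afd00b8800c4700c3e00b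9800b9700b9600bc200b7c00ba700b8b00c3c00b6700b6600b7a00a0100a0000b5e00bce00c4c009fd009fc00bbb00b7700b7600b9b00b6b00ba300c4800b7300b7200bcd00a7100c4400b8600a0b00ba9009df009de00afc00bdf00a9000be200ac400ac300a8400a6700bd000b6d00b6c00bc600a6c009e6009e500a4500bd7009e4009fe009c2009c100b6a00b9c009c000a58009f6009f500b5d00bc7009f400a7a00bdb00aa000a9f00a8b00a7800a9b00a3000a5000a4f00a6400bc000a4e00b7f00bda00bfe00c0500b4f00b5200be80099100b5600b4c0099000b8100b540098500b6300bd900b5f00b650097900b6000c2000c0200adc00b2600c0b00bf400c1800b2800bf500bfa00b3700b2a00bf200be300af900af000b1900b2000b2100c0700ae400a9500a9400aef00beb00a930094e0095000b1200b3c00b100094f00add00956009330094300b1600a3900a3600a3500b2f00b1400c0f00b13009440092700b3300b300091800b3400b3d0092f00b4100c1f00b0700c2400c0300b0400b0300b0200908009060090500a1000c2100c1e009030090200a1e00ad700b0c00c0100a0700a0600ad500ae700ae600b2400ac200c0800c1b00ae300ae200b3f00ada00aa700aa600a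c100bf000aa5008ee008ed00a9a00b36008e9008e800b1500c10008e700abc00abb00aea00aac00af700ab700ab600b3500c0900ab50096400b4300ace00acd00a70008f7008ce008cd00a0a00afa008cc00997009d1009d000b510099c009ca009c90098700b58009c80095800aaf00aae00b2900b3800aad0095d008db008da00932008d900b42008d800bf6008eb008b8008b700aab008b600aed008b500bf100947008e5008e400a99008e300b2d008e200bec0097a009ab009aa0099400b4a009a9009a500977009a400b480091b0094100940009540093f00b1c0093e00be400ac700a8300b4d00acc00a8500b7d00b8200a8800a8700acb00b61008860088800a7e00a8d00a7c0088700ac80088e0087c00a8e0087800a9100aa300b4700a9c00b4500aa40086f00b460096c0086d00a9d00bab0096000b85009ea00a4400b9300b7100bb800a4800a4900ba200a4600b7400a5f00a4a00b7000b7800a5e00b5b00bc300a05009fb00a2f00a3c00a3d00b9000bbc00a4c009f0009a2009a1009fa009a000b680099f00bc80083200bbd0083b0083a0083f00a3e0083d00a2500a6500a2200a6a0083c009eb008400081d00a690083100a2a00a57009240092300921009200091f00bc1009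1d00a5400a2800a2700b9900a2600bbe00833008150081400a5a00a55008060080500a5b00a660081b0081a00a6d0095f00b870093700bae00a1600a1300a1200bb500bb400a0f00a0e007f4007f3008fe00bb3007f0007ef0090b00baf007ee009e3008f600a20008f1008f0009e200b83008ef009f3009f200a41009c700b91009ee009ed00a6b00ba4009ec009e8009b4009b3009c6009b200b6e009b100b9d00a5d007dd007dc00a29007db00b9a007da00b9500a03009be009bd00a5c009bc00b92009bb00b8c0084f009d8009d70096300a6f009d6007e7007c5007c4008f5007c300a08007c200b8400890008c1008c000a8600a89008bf00895008bd008bc0087b008bb00a92008ba00b7e00843009b9009b800a47009b700a62009b600b79007d000a6e007cf007ce00b75007b3009f8007b2007b100b6f007d800a52007d7007d600b6900870008a7008a60088c008a500a7b008a400b62008a20086e008a1008a000a790082f00a330082e0082d00b5c009ce0098600a81009d500b4b0098a0098b00a8f0098800ac50098f0098c009d400ac90098e00aa100b4e00786007850078a00980007880097f009950097c0099a00787009cf0078b00777009990099600775007740099d009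af00a7700a75009a600a72009b00076c0076b00a76009190092800a34007560075e0096a008630085b0085a0076a009a700a730093000ad200aff008490084800ad100ad3008470093100ae100ab400b11009340093500af600b220094d00ab90094c0093600ab30093a00abf0094b00b3900b2300a9700b250091a009290092a00ade0093c00b170093b00b320089e00aa90089d0089c00b2e007280072600b180073000732007350090e00731007340092b0095700955009100090f0095b0073600713007120095a0072700916009150094500812008110081000b1f0080e0080d0080c00b1e0080a009700091400ae8009130091200b1b0070a0094900971006fe0094a00972007100095e0096600a1f0084e0082100b0500823006f4009010090000b0e008fc008fb00b09008fa00b08006ed006ec007f8006eb00b06006ea00b01008d3007e500965007e4007e2007e1008d2007e000acf007df00afb00adf008e0008df0095c008de00af8008dd00af2008ab00ab1008aa008a900aee006dc00ae9006db006da00ae5008b300ae0008b2008b100adb00798007c8007c70089900741008ca008c90084d008c800961008c700ad4006c6008f3006c5006c400ad00078e007bc007bb00989007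ba00992007b900aca007b70099e007b6007b500ac6008af00952008ae008ad00ac0006d3006d200aba00ab8006b9006b800ab200ab0006d9006d800aaa00aa8007a60097b007a5007a400aa2007a3007a20097800a9e007250072400a9800a9600879008d70079300792008d60087a00983008c600a7d0087d0087e0099b00a7f00885009cc008840087f008c500882009d20088300a8a00a80009ad00a820068d0068f006920068e00691008740088f0088d008720087100893006930067c0067b0089200679008960089b0097600973009680096700670009750097400807008160091e00a2b008620086100a740085e0066100658006630086500752008590075b0096d0074e0076d0066e00969007690081c00a230081e009dd0073f00a0d0073e0073c0073b009dc0073a009e00073900a2100a240081f0082000a020082700a3f0083900a6800828009c4008370083600a6300a400063500a4200a4b0082b00a2c0082a0082900a59007a00079f00a5300a510062d0062c00a2d00a4d0063400636006380062200645007fa00715007fb00637008180081700841007fd008460085300617008450085200803008340086600707007060070500a3a007040070300a3800a370070100867006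57008010080000a3200a310061100868007020060900869006fd00615008540070f0090c0090a0071600a1400718006030090900a1d007ec007eb007ea00a1b007e900a17005fc00a15005fb005fa00a11006e400851006e3006e200a0c006e0009da006df006de00a09007d400a04007d3007d2009ff007aa007a9009f9009f7005ef005ee009f1009ef007b0007af009e9009e70069d006cb006ca00797006c900897006c8007c00084b007bf007be009e1005df005de009db009d9006bf0088a006be006bd009d3006bc006bb009cd009cb007ad007ac009c5009c3005e8009bf006ba005d5009ba006b7005ec009b5006d7006b0006af009ae009ac006ad009a80062b0062a009a3006ae007760097d00778007cd0069b0089a0069900698007cc00697008d4006960097e007790077a008940077f00981007840099800780008c300782007810099300982005af009840098d005ae005b0005b2005a3005bf0067e005b100772007710078c0076f007910079c00599007900079b005970079d006780074d0086b0086a00856006720058f0086c0066f00711006ff0070b0080b0075700917007580075c0096f0096e0096b0057e00580007540057f0075d005730075f008090065e0066a006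530074c0085c008580064f00671008570066d0082200911007140092c0071e0071d00640008f90063f0063e0090d0063c008d00063b0063a009620071f0092d0072e0072d009590072c0072b0095300951005550092e0093800552009390063300722007210094800946006ab009420079e0054d0093d007a1005540071a005600054500562007440061c006f50061a006f6007480070d0073700745006f800747006190053c0074600616006fc00760008020060f0060e00926009250060c00922007090076200572006fa0091c0060d007630060b00764006080076500614007f9007f7007f50061d0052f0052e007f6005fe006e800907006e7006e6009040052700526008ff008fd005f5005f4005f3008f8005f2005f1008f4008f2006d6006d5008ec008ea006b2008e6005f00051d008e1005ed006b6008dc007ae005cc005e5005e4006a9005e200795005e1005e0008d5006c3006c2008d1008cf00512008cb005dd005da005d9008c4008c2005d7008be006d1006b4008b9005d8008b4005d6008b0005d4008ac005eb005d0008a800723008a30054c0089f005cf005cb006cf005ca006d00067a0077b008730067d008750068500684005ba0079a005b9005b8005b6007ca005b5005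b40089800686008760068b0068a0089100689006880088b00889004e70087700880004e400881005ad004e600681004f2004db004f4006a00059e0059c006a40067600694006a100674006a30059b004d2006a200598006a500596008550064e00767005920074a00591007680058e00667007fe006180075100804006590065c0066000860008640085f0075a0085d004b2004b3004a8004b70065600662007530066500700006510058b004c40056e004c30074f0074b005900058d007170071900564006230081900624006420082500495008240055b0055a005590085000558005570084c0084a006320063100844008420062f0083e005560048b0082600553008380055100628008350072000830006aa0082c006ac005470049b0062000494006440047f006460054400540006040064a0053e0064b007fc00613006470053f006690053d006680053b00666006fb0053700813007ff0080f00610004a5008080053600535005330053a006f3006f00046e006f2006f10052900528005f9005f8007f2007f100466007ed005250052200521007e8007e60051f007e3007a8005ea007de00520007d90051e007d50051c007d1006b500517006a8005160051500514007cb007c9005dc007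c600513007c1005110050f007bd007ab007b8005e7007b40050e0050d0050c0051b007a7006290048600508006a6006cd005030050400505007700059a0067f00680004f6005a400773005a5005bc0077d004330077c004ed004ec004eb00799004ea004e90079600794005ac005ab0078f0078d005a900789004e8004290077e004e500783004e3004dd00439005a100432005be00420005c0004da004d6005c4004d4005c50076e00595005c1004d5005c7004d3005c6004d1004d000766007490056b0066c004cd004cc004ca007500040a004030061b0070e00546004100056d0057800755005770057d007610065f007590065d003f0003eb003fa00575003f30040d005830040c00582006550060a00407005850065400406004050064d004cb004c90061e006260062500497004960055f0055e0071c00743003d40071b00493004900048f00742007400048d0073d0072a00550007380048e007330048c0072f0048a004890072900627005cd005ce00481003dc00567005430056100480005860047e0047c005680070c00588006f7005870047b0047a004790060700708006f900538003e4004750047400472004780060100600003b3006020046d0046900468006ef00524006ee004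67006e90046500463006e5006d4006e1006b1006dd004620046100460005d30045c0045b006ce0045a006cc006c1006c70045900458006c0006b3005190045600455004540045f0054b003ca004500044c0044a006a70044b0044d004490059d00677004dc00380003860059f005a7005a60043500434004f1004f0006830069f0037500682004310042e0042d0069e0069c0042b0069a00687004e2006950042c006900042a0068c0042800427004220037d004f9004d9004f300421004fd0041f0041d004fa00675004ff00673004fe0041c0041b0041a004190066b0064c0049f004160041500413003560058a0034c004b9004a2004a100589003460044800541004af00621004ae0035900652004a7004b40065b003580065a006640057c0057b00336004ac0033d00353004bd0035200350004ba004b60034f0034e0057100534005700065000349003480056a0041400412005490056600548003db003d7003d6006490049200648003d500643003d3003d100641006300063d0062e00639003d0003cf003ce003cd0054a005060050700324003c50049c0061f004bc003c4003c3004be0061200605003c1003c0003bf0053200606004760032b003bb003ba003b8003be0052c003b4005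2d003b2003b0003af005ff005f7005fd003ae003ad005f6005e9005d1003ab003aa003a90050b003a5005e6005e3005db003a3003a2005d20045d003a00039f0039e003a800485003160039a00394005c800393005c9004470040000500003950039600391004d70043f005a20043e0043c002d7002e000442002df004df004f8004de0037c0037800377005c300430005c200376005bd0037400372005bb005aa005b7005a8005b300371003700036f0036e002ce003690043a005a0004410036800367004430059400593003650036400363003620058c00569003df0035f0035e0035c0056f004c7002ac003f5003e7003e6004c6004c5002a2004a300584003e2003e1004c1004c00029d004bf003970038d00482002b3003ea003f70057a002b200579002b000576003f600581002af002ae004b1004b000290002a9003fc003f9002a8002a7003f200574002a5002a4004a4004730056c002a00029f0049e0035d0035b0049a0032500483003230032100320005650055d005630031f0031e0055c0054f0054e0031c0031b0031a00319004840044e0044f003130029b003fd00542003110031000539005300030e0030d0030c0047100531003bc002860030800307003060030b0052b004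6c0030500304003020052a0052300301003000051a00509002fe002fd002fc0045300518003a400510002f7002f60050a003a6002f4002f3002f2002fb003c900277002f1002f0002ee002ed0050100502003920038c003900038f0038e0034400444002ef002ea004230024f0037f00383004fc0024e004fb0024c00388003850024b0024a00438002cf00424002cd002cb002ca004f7004ef004f5002c9002c8004ee004e1004e0002c6002c5002c4002c3002c00024700389004d8002be002bd004cf004ce002bb002ba002b9002b8004c80049d00326002b6002b5002b4004a90033a003380040f0040e0021d0033f003310033000339004b80032e0032d004090040800213004c200329003280040200401003fe003c7003c60022500224004ad00340004bb0022300222004b5004aa002200021f003ef003ee002060021b0033c004ab0021900218004a60021600215003e3003b9004a00021200211003de00499003da00283002820028000498004910027f0027e00488004870027c0027b0027a00279003c80039800399003430021a0047d0027500274004770046f002720027100270003b700470003090026f0046b0026e0026d0046a004640026a002690045e004510026700266002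650039d002f800457002630026200452002f90026100315003ff0025e0044500446002ec002eb002e4002e9002e8002e7002e6002e50038a0025f001d60025a002d9002d2002d10036b0036a001d2001d10043d002da00440001d0001cf001cd002d60043b001cb001ca004370037b0023a0023900237004360042f0023600235004260042500233002320023100230002dd001cc0041e0022d0022c00418004170022a002290022800411003dd00227003ec0029700295003f4003e800293002920035500354001a500296003fb0028c0028b0040b00289002880034b0034a004040028500284003450029800342001af001ae001ac003f8003ed001ab001aa003f1001a8001a700335003340029a00312003e9001a3001a2003e5001a00019f0032a003e00019e003d9001fe001fd003d8003d2001fa001f9003cc003cb001f7001f6001f500314001a4003c2001f3001f2003bd003b5001f1003b6003b1001f0001ef0026b003ac001ec001eb003a70039b001ea00264003a1001e80039c00260001e30038b0025d0025c0025b0025300259002580025700256002550016f002e100170002e20016e00381002430024100242003870023d0023c00244002dc0016900168001660038400382001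650016400246002bf0037e00161001600037a001bd001bc0037900373001b9001b80036d0036c001b6001b5001b40016200366001b2001b10036100360001b00035a0020f0020d0033e003320020c0020b003570020900208002ab002aa002100028d0035100204002030034d0020100200002a100347001ff003330014b0014a003410033b00147001460033700144001430028f002760032f00141001400032c0013f0032700322001900018f001480031d0018c0018b00318003170018a001420030f001880030a003030018600185001ed002ff00183002fa001e9002f5001e7001e600122001e4002e3001e2001e1001e000121001de001dd001dc001db0011700254001d5001e5002510011400113001c7001c5002d8002d3001c4001c3001c80023e002de001c0001bf002d40010e0010d002db002d50010a001090022e002d00010600105002cc00154001530010b002c7001500014f002c2002c10014e00107002bc0014c002b70028e0019d0019c0029c002b10019900198002ad00196001950021c00205002a60019300192002a3001910029e00299000f6000f5001fb00294000f2000f100291000f0001f40028a000ee00287002810013400133000f30027d0013100278000ef002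73001870026c0012e001840026800182000e1001800017f0017e0017d00252001df0017a000d8001780017700176000d70017400173001da001160017c001d90016c0016b00250000cc000cb0023f0015e0015d002480024d0015a00159001c100249001560015500245000c6000c5001ba00240000c2000c1001b30023b000bf00238000fb000fa000c300234000f80022f000c00022b002260013e0013d0019a002210013a001390021e00138001940021700136002140020e000b4000b30018d0020a000b1002070018900202000b5001fc000e6000b2001f8000b00012f001ee0012d000e2001810012a000a9001280012700126000a80012400123001d70017b00179001750011e000a00011c0011b0009f001190012c00172000cf000ce001d80011100110001d40009500094001d300104001030015b001ce00100000ff00157001c9000fd001c60008e0008d00151001c20008b0014d001be0008f001bb000b70008c001b70008a001ad000ec000eb0013b001a9000e9001a600137001a1001350019b00083001320019700130000840018e00082000e4000e3001180012b0012900125000de0007d000dc000db0007c000d9001200011f0011d0011a00075000d300074000d100073001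7100098000970016d000c9000c80016a0006a0006900167000bd000bc0010100163000ba000fe0015f000fc0015c00065000f900158000f7000660015200064000ed00149000ae000ea00145000e8000e70013c000e5000600005f000aa000e0000df000dd000da0005c000a40005b000a20005a000d6000d5000d4000d2000d0000550009a00054001150006e0006d0011200091000900006b0010f0004c000be0010c00088000bb00108000b9000b800102000b60004900048000af000f4000ad000ac000ab000450007e000a7000a6000a5000a3000a10004300077000420009e0009d0009c0009b000990003d0003c000cd0004f0004e00050000ca000670004d000c700089000c40008700086000850003400081000800007f000320007b0007a000790007800076000300002f0007200071000700006f0002a00092000960003800039000930003700036000630006200061000240005e0005d00059000580005700056000210002c0005300052000510001c000680006c0002800027000260004700046000440002300041000400003f000160001f0001e0003b0003a0004b0004a0001b0001a0003300019000180002e0002d0003e000140001300029000350001200031000100000f000200000e0002b0000d000250000b000220000a000090001d000080000700017000150000500011000060000c0000400003000020000100000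

noncomputable def lvP4_1 : ℕ := nat_lit 0xbfc00c2e00c5300c1600c5500bd500c3a00c4900c4300c4700b9700bbf00bd600c3600b8e00ba800c5000bcc00b8900bd300c5100c4a00c4800bd400ba700bd000b9f00c4500c4600c3c00bca00c4b00c4f00c3800bcf00bf800c1c00c2500c3200c2600c5200c2800bee00bfa00c1300c3100be600c1a00c0e00c2900b0d00c0500c2400b0400b4400b0f00b0300c2a00c3000af400c0d00c5600b3e00c0c00c5400c2c00bf300c1d00c0800c1b00ae300b1a00c2f00c2700c0600b4000c3300ad900af500b3100c1700b5500c2000b0c00b4300afd00bda00be200b5600c1800c1900c1400b3b00c0b00c0a00c0900ab500b3c00b3f00bfb00b3800aad00aec00c0700c1500bf000aa500b2c00bd900bdb00b5200c0f00c2d00beb00a9300b3700b8000bdc00bd800b8200bb200be100bdd00b6400b5700b4900bb600b7300c4100c4200bc500c4e00bb900c3400b7b00bd100b9800b8b00c3b00bbb00c3500bc000a4e00b6700b7800c3f00bd200a5e00ba300a3500b5a00c3700a2e00a4c00a5700b9400bbe00bc400a6a00bde00be000a1a00a1900a1300bb700bb500bb400a0f00a1e00c1f00c4400a7100c0100b8600c4d00ba100b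ce00c4c009fd00b8f00a6700c3e00bcd00c3900bc7009f400b6d00b91009ee00a3000ba600ba500ba4009ec00bcb00a6c009e600a0100a5800bc200c4000bd7009e400ba000bab00bac00ba900a2000b8800a6f009d600a0700a8c00b4d00bff00b58009c800a8d00ba200c3d00b9c009c000a6100b9300b92009bb00a6500b8d00b8c00a6b00a62009b6009f600b7a00b7900b9000b6e009b100a5000b9e00b9d00b4700be900b4a009a900a8800b4500b4800b9900b680099f00a5f00bc900bc800ac400c0000b5000c2300b4c00be800b5300ac900bfe00b540098e00a9000b4f0099a00aa000bea00a9b00a7a00a7500a7800c0400ad600ab700b1000bf900af100bfd00b1200b2700c2b00be30094e00abe00b3a00ae700ada00b1300b160094300bef00b1500b1c0093e00aa700be500be400b3900abf00b3d00bf500b410094b00af70094d0095700b3200b33009230091f00bc100a950091800be700b340093b0094500b2000ae400b1b00b1900b280095b00b2600bad0090600c2200afe00c2100c1e009030090100b0e008fc0090b00b0b00b0a00b09008fa00bae0096400c0300baa00b83008ef00ace00b36008e900add0095800c1200c1100c10008e700bf400b3500b2d008e200a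af00bed00bec00adf008e00091b00af900af8008dd00b3000af300af20095d008db008ee0094700b2400b42008d800af000bf700bf600aff00c0200afa008cc009600096500961008c7008f100ad500ad400a8f00a89008bf0099100a8100a92008ba0099500b7f00b7e00af600aed008b50095000bf200bf100ae100ae0008b200955008b100adc00adb00ad80095c00952008ae008e5008ad00ac100ac000abd00ade00ab1008aa00941008a900aef00aee00aeb00a7700a7b008a40098f00b6300b62008a000a7200a7900b5f00ae800aa90089d0094c0089c00b2f00b2e00b2b009ca00a7c00b810099700a7e00a8400bdf00b6100886009d100a8b00a8a009d200a8e00b7d00a91008830099c008850088f00a850089300a83009ab00b65009a400b600097a009730097900863009670097700b8a00ad3009df009be00a2200b77009fe00a4300a3e0083f00b7c00a2500a4500b5b0083a009c200bc600bc300a6400a60009f3009e800a2600a2a0083100b6b00a3b00bbd00a2900a330082e009b40082d00b5d00b5c00b590082900a560083600a6300a6800a69009c400a6600b7400a6d00bb80083700a03008390084100a4800a5900a5a00bbc0081000b1f0080d0080c00b1e00b1d009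70009a2008060080500b5e00a5b00bba0082a008340086600a3c009f000a3200a3100a2f00a46008460085300a440084700a0b0090e00b00007f400bb3007f000bb100bb000baf007ee00a1d007ec007f800a1c00a1b007e900b0500a1800a170084f007e400b8700acf007df009d800afc00afb00a5d007dd009eb0084300b9b00b9a007da00b7100b9600b9500a5c00a52007d7009b9007d600b6a00b6900b6600a0500a04007d300a55007d200a00009ff009fc00a4100a6e007cf009fb007ce00b7600b7500b7200a0d00a08007c20084900b8500b84008510084b007bf007e2007be009e2009e1009de0099b00992007b90088800acb00aca009830099e007b60088d007b500ac700ac600ac300a02009f8007b20083d007b100b7000b6f00b6c007af009ea009e9009e7009e5007ac009c6009c5009c3009c1007a9009fa009f9009f7009f5009760097b007a500884007a400aa300aa200a9f007a2009680097800a9e00a9c0079f00a5400a5300a5100a4f008bd0097c00ac80089000985009800078a00acc0097f0098700aa100785008c100b5100b4e009940099000781009930099800999008c30099600ac50099d00b4b0078200895007840078c0098a00988007910079c00986008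a700aa400b46008a100a9d008700086b0086a0086f00912009150091d0075d0075c0085a00a740075b0096d008560086e0086d0090f008f700ad7009e000739008ce00a7000a210091000abc008eb0092f0092b0073400ac20093300b230093200a9700731008b80073000b2900b2500b2a00956009540094f00913009160072700aac007260092700b1800b210072400a9900a9800a9600a94007210094600944009510072b0072d00a1f00953009590095a00b2200ab90095e0096600b110072e00737007450093400948009490097100b17007060070500a3a00a390070300a3800a3700a360086700a34006fe00a9a0094a0097200b140076000929009280091c0091a00919007470093100930009370073e007fb00a10007fa007f500b08006ed00b0700b06006ea00b0200b010090800907006e700a14006e600905009040090200741006e200ad200a0c009da006df008ca006de00a0a00a0900a0600aea00ae9006db00ab4006da00ae600ae500ae2006d800aab00aaa00aa800aa6006d5008ed008ec008ea008e8006d200abb00aba00ab800ab60089a00897006c800793008f9008f3006c50073c006c400ad100ad000acd006c2008d2008d1008cf008cd008940088a006be00788006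bd009d4009d3009d0006bb009ce009cd009cb009c9006b800ab300ab200ab000aae006b6008dc008da008d9006b4008b9008b7008b6006b2008e6008e4008e3006af009af009ae009ac009aa006ad009a8009a6009a5006ab00942009400093f0087100798008d400696007c800872009cf0078e008780087400691009d50087c00a800087b009ad0068e007bc0068d00a8600a8200a870088e0088c0088700889006880068a0088b008910089200a7f009cc008960089b00a7d0068b00694006a10087d006a30087a00879009b000a76009a700a73007670076c0076b00800008030080a008140085e006610096c00865008640066200660008620065e0074e0096b0096a0085c0074d0074a0076a00672007fd0081a00817007e70063e009e30090d008d00063b007c50063a00963009620095f0081b0081800637009c7006360081d00a4000a490063400a4700a4200a4b00a4a008400062f0083c0083b0062c0081500a2d00a4d00a3d0062a009a3009a1009a0006280083500833008320083e008420063100644006420090a007480090c00844008450085200a3f0085400a2400a23006470081f0081e0086800a2c00a2b0060e0092600925009240060c009220092100920007620091e007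53006090086900a2800a2700666008160070900808008070060d006690081c006190082100823006f6008fe006f5006f0006f400a1600a15005fb005fa00a1200a1100a0e005f8007f3007f2007f1007ef005f4009dd005f3008f8008f6005f1008f5008f4008f2008f0005ee009f2009f1009ef009ed005ec009b5009b3009b2005ea007de007dc007db005e8009bf009bd009bc0079a00795005e100699005e0008d6008d5005de009dc009db009d9009d7005dc007c6007c4007c3005d9008c5008c4008c2008c0005d7008be008bc008bb005d5009ba009b8009b7007d1007d0006d1007b4007b3005d8007d9007d8005f0005d0008a8008a6008a5008a3008a200720008300082f007230076f00774007710069d005b8008d7007ca005b5006cb005b400899008980077500772005b1008c6005b000777009820098b005ae00989009840098d0098c0078b005a90078700786007890078d005ab005be005bc006a40078f007900079b009810079d0097e0097d005c10077900778005c7007760059b00858009750097400969008550066c0067000592006f8006fa006fc007010057f0070a007540096e007560075e0085b0065f0057d0075f007610096f0058200758006570085d00667005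8b0064f008590076d0074f0064e0066e0059100715007100070d007120071a005600055a008d300559008500084e005570084d0084c0084a0084800554007130092e00938009350055200939009360093a0055000736007350073300732005560054d0093d0092a0093c0089f0089e006ae00729007280062b007380074400743005610055e0071e0064a007f70064b007f900822007460092d0092c0076500911007fc00587007140053f007630091700702005370081300812008110080f0080e008020080b006550076400914007ff0070b00610006ff00536007110053d00716007180090900604006010060000603005280052600900008ff008fd008fb00524006ee006ec006eb00521007e8007e6007e50051f007e3007e1007e00051d008e1008df008de008ac008ab007a8006dd006dc00520008b4008b3006ba006a6006a800516005cb00514007cc007cb007c9007c700512008cb008c9008c8006c7006c6005130050f007bd007bb007ba007b8007b7007ae008b0008af007ab006d3005e7006b90050e006d90051e007a7007a60079e007a3006270072500629006cd005e500503005cc006740067e00679006760067b00681004f2004ec007cd004eb00799004e90079700796007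9400792004e60067c00877008800087e004e4008810087f00882004e20069300692006900068f004e800695006a00069f004f3004f000685005c4005c50077b006a20087600875006a5008730076e004fe0067d004d50067a004d3007690074b0086c0076600857007490058f004cd0075100615006130066a0061100656004b30085f0065800861006630057e007520057c00664004b6004b400665008600080900659005720056e00750004b900654004a20074c006710056b004cc0061a0061c00496004940061700620008240062200492006450048f00742007400073f0048d0073d0073b0073a0048b00826008200082700838008280072a00639006380048e006350048c0082c0082b007a1007a0005cf0062d0054c0056700566006460064800825004bc006240048000568006f30071900588007170070f00668008190070c007fe006f7006180047b008040060b0070800707006fd00704006fb0057100801006f900538004750047a0061d007f60052c0052f0052e00468006ef00466007ed007eb007ea005fd005fc0046700463006e5006e4006e3006e1006e0006d7007d5007d4006d4007aa006b1005ef00462007b0005d60045b006cf006ce0045a006cc006ca006c9007c1007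c0006c1005df00459006c0006bf006b7006bc006b5007ad006b3005190045600461006b0006aa0054a0054b006d0006a9006a70044a0044c00597005950059c0059e004340043200599005a10077c005a300430005bf0042d0069e0069c0069b0042b0069a0069800697004290077e0077a0077f007830078000687005b3005b20042c005af0042a004f9004f8005c0005c20077d00441005a500421004fa00680004ff0067f00678005c6007730067500770006730059a0041c0041b0066f0066d0064d007680066b0064c0041600653004c6004c10053e0053c005430056f004060057500573003f300759007570075a00580004b2004b1003f9003f70058300581003f500578003e70075500700004a5004a3004100065100584003e2005900049f0041500540005470049b003d600649003d40071b005450071d0056300562003d5003d100641006400063f0063d0063c006330072f0071f006300072c0062e00555003d0003cf00722006ac00508004860049c0049a00626005860071c0061f00546003c4004be0061e006160061b006140070e0061200605003c1005350060f0060800607004a40060600476003bb003c0006f2006f10046c0046e003b4003af005ff005fe006e9006e8005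f700527003ae005f6005f5005ed005f2005eb006d6005e9005d1003ab0050d003a5005e6005e4005e3005e2005dd006c3005db003a3005da005d4005d3005d20045d003a0003aa005cd0048400485005c8005c9005ca003930039400447004d4004d2004d90038500383004d6004dd0043900377005c30037500682004db00684004f5004f40037600372005bb005ba005b9005b7005b6005ad0068c00686005aa00689005a8004e700371003700043a00438005a7004fd00683005a0004dc00368004430059f005980059d0059600677005940059300365003640058e0058d0056a0058c005690035f0040f0040a004090065200650003490040300402004000047c004ac0047f0033d004a9004c40034f0065a004a80033a004b70065c0065d003f0003ef004bd004bb0033f004af0033100339003590065b004b80032e0060a003e400407004c3004c200329004cb003df0035e0048100625003dc0032500320005650056400643006230055d004950031f0055c0055b005530055800551006320054f0054e0031c0031b005ce00450003ca003da003fd0054900544006210054200311005410053b0053a00539005300030e004740053300532003e300531003bc003080030d006020052b003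b300305003020052a0052900525005f90052300301005220051c0051b0051a00509002fe004550051800517005150051100510002f70050c0050b0050a003a6002f4002fd00506003c8003c90050100505005020050400500004bf00449002ed002ee0038c0041d0043c00420002d70044200440002d90043f002d200422005a60037d002cf002ca004f7004f6005bd005a4004ef00433002c9004ee004ed004e5004ea004e3005ac004e1004e0002c6002c50037b00389004df004da005a2004d8002be004d7004d1004d0004cf004ce002bb002ba004ca004c90049e004c80049d002b60058500356003550057600574002a50058a0034c0034b005700056d0056c002a000589003460034500448002f000344003c5003ec002a800579003eb00297003fa003f40040d002b000577003e8002930057b003360033500296002b30057a003fb0028c002af0040c0040b00289005340032b0040500404002850041400326002b500548004990032400283002800049800497004930055f004910027f004900048a0048900488004870027c0027b005070039a003160034300342004820047e0047d002750047900478004770046f00272003ba00472004710032a00470003090026f002710046d005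2d0046b0026e0046a0046900465004640026a004600045f0045e00451002670039f0045c003a4004580045700263004540045300452002f900261002660044e0031400315003ff00445004460044d0044b0039200444003900038f0038e003fe003910025e002e400369003810024b004fb003800024300386002420024f004fc003870023d004de00437002ce0023a00237004360043500431004f10042f002360042e004280042700426004250023300232002dd002dc004230041f0041e0022d0041a0041900418004170022a002290041300412003de00411003dd00227004ba004b500220004c7002ac002ab004ad004ab00219004aa004a7004a600216004c5002a2002a1004a1004a000212004c00029d0038d003130029b0020d0033e0035300224004ae003320020c00358003500035700209004b0002900028f00210002230035200351002040034e0034d0020100473002860034800347001ff0035d003db00483003d9001fe003d8003d7003d3003d2001fa003ce003cd003cc003cb001f7001f60044f002f100277003c70028d003c3003c2001f3003bf003be003bd003b5001f100307003b8003b7003b6003b2003b1001f0003b0003ad003ac001ec003a9003a8003a70039b001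ea002f3002f8003a2003a1001e80039e0039d0039c00398003970038b0039600395002ec002eb0038a002e9002e8002e7002e6002e5002ea001e300251002530043d0043b001cb002c000247001c5002d8002e0001d10043e002d3001c4001c8001d0002df002de001c00037c004240037a001bd00379003780037400373001b90036f0036e0036d0036c001b6001b50036b0023e0036700366001b200363003620036100360001b00035c0035b0035a003fc003f8001ab003f6003f2003f1001a80040e0021d0021c003ed003ea003e9001a3003e6003e5001a00040800213003e1003e00019e00401001ac003c60028e0019d0029c002b2002a9002b100199002ae002ad00196003ee00206001af0021a002a7002a600193002a4002a300191003b90029f0029e003230032200190003210031e0031d0018c0031a0031900318003170018a0039900205003100030f001880030c0030b0030a003060030400303001860026b00300002ff00183002fc002fb002fa00264002f6002f5002f200260002e3002ef0025d0025c0025b002e10025900258002570025600255001d90025a0017c001d60016c003880038400165003820037f0037e00161001660036a0023f0015e002480024e0024c002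4d0015a00169001cc0024a0024900156002cd002cc00154002cb002c8002c700150002c4002c3002c2002c10014e001c1002bd002bc0014c002b9002b8002b7002b40014b00341003400033c0033b0014700338003370014400354001a50033300312003300032f001410032d0032c0013f0034a00328003270021b002260013e0022500222002210013a0021f0021e0013800334001a40021800217001360021500214002110028200281001340019a0027e0027d001310027a0027900278001940027400273002700026d0026c0012e001ed002690026800265001e900262001e7001e6001d7001e40025f001e2001e1001e00017b001de001dd001dc001db001720016f0011400122002e2001d8001110010e002db002da002d6002d50010a002d4002bf002d1002d000106001cd001d300104001d2001cf001ce0010000162001ca001c9000fd0023900238000fb0015b0023500234000f800231002300022f001570022c0022b002280029a00299000f6002980029500294000f20029200291000f0002aa002760028b0028a000ee002880028700284001ae001ad000ec00148001aa001a9000e9001a7001a600142001a2001a10019f001fd001fc000e60013b001f9001f8001f500137001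f200187001ef001ee00184001eb001820012b001800017f0017e0017d00170001210017a001200017800177001760011f001740017300117000cf002520025400250000cc0016e0016d000c90024600245000c6002440024100240000c20022e0023c0023b000bf0016800167000bd0010b0016400163000ba00107001600015f001bc001bb000b700101001b8001b7001b4000fe001b10020f0020e000b4001fb0020b0020a000b10020800207001f40020300202002000014a00149000ae000f3001460014500143000ef00140000ed0018f0018e000ea0018b000e80012f001850012d00118000e10012a000e0001280012700126000df0012400123001e5001df000d8000d70011e000d60011c0011b000d500119000e2001da0017100098001d5001d400095001130011200091001c7001c60008e001ba001c3001c20008b001b3001bf001be0010d0010c00088000c30010900108000c000105000be0015300152000bb0014f000b90019c0019b000830018d0019800197001950018900192000b5000f5000f4000b2000f1000b0000af00133000ad000e4000e30012c00181000a9000a8000de000a7000dc000db000a6000d90017900175000a00009f0009e000d30009d000d10009c001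16001150006e0016b0016a0006a000cb000ca000670015d0015c000650015100159001580014d001550008f000c5000c40008c000c10008a00089000fa00087001350013d0013c00132001390013000084000b3000820008100080000aa00129001250007d0007c0007b000a40007a000a2000790011d0011a000750007400073000720009a00071000ce000cd0004f001100010f0004c000500009400093000fc0010300102000f9000ff000f7000660008d000640006300062000e7000eb000e5000600005f0005e0007e000dd000da0005c0005b0005a000590007700058000d4000d2000d00005500054000530005200097000960003800092000c8000c70003900069000b8000bc000b6000490004800047000ac000ab0004500044000a5000a3000a1000430004200041000400009b000990003d0003c0003b0006b0006d0006c00068000900002800027000860008500034000330007f000320007800076000300002f0002e0001f000700006f0002a000290004d0004e0004b0004a0001b00061000240005d00019000570005600021000200003e00014000510001c000370003600035000120004600031000100003f000160002c0002b0000d0003a000260002500023000220000a0002d000090001e0001d0001a000070001800017000150001300005000110000f0000e0000c0000b00006000080000400003000020000100000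

noncomputable def lvP4_2 : ℕ := nat_lit 0xc4200c4f00c5000c4600c4900c1900c5400c5500c1c00c2a00c1100c0e00c1a00c5200c0a00c1d00c5300c0600c0400c3200c5600c0d00c3300c3100bfd00c1400c1500c1700c1600c2c00c2d00c2f00c2e00c2800c2b00c4000c4300c3f00bd300c3700c3600c3800c3900c3400c4d00bd400c3500bd600bbf00bc500bb700bb600bde00bb100bac00bad00bb000c4700c4e00ba500c4a00c5100ba100c3b00c3a00c3c00c3d00ba800bce00c4c00b9600b9400c4b00c4100bcc00ba300c4800b8d00ba600b8b00c4500bd800c4400b8a00ba900baa00c0000be200be100c3e00bd500bd000bd100b8f00b8e00bd700b7200bd200b7c00b7b00b9c00b6c00b9e00ba000b9f00bc700b6600bc900bea00bdb00bdf00bcb00bca00bc000b5900bc600bff00bfe00b5500be800c2200b5600b5000be900b5700b4900c0500bf700c2700bfc00c2900c3000bf500bfa00bfb00b3b00c1200b3100c0c00be700be600beb00b2b00bed00be300c2500b3c00b2a00b4000b1d00be500c2600b1900b2100b3300b1a00b3400b2700b4100c2400c2300b0b00b0a00b0700b0d00c2100c1e00b0200b0000c1f00c2000afe00c0100c0200c1300b3e00c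0800c1b00af300c0b00af100c1800bef00bee00bf000aeb00bf200b3600ae600ae400af500af400c1000ae200c0f00af700adc00af900ada00bf900bf800c0900ad800c0700c0300b4400b4300ad700ad600afa00acd00afc00b5300b8100b8000b5800ac300b5400bf400bf300b3800abd00b3a00add00b4200ab600b3d00ad900bf600ac200aed00aae00aef00abe00bf100af000b2d00aa600b2f00aec00bec00b6500b6400b4a00a9f00b5100b6000b4800b3000b1c00a9400b2900b2c00be400b7f00bda00bdd00be000b7d00b8200a8c00b6100bdc00a8d00a8700a9000a8400a9100b6300bd900b5f00a7a00b4600a7800b8900b8800b7600bb800bc200a6700ba700b7400bc400bcf00b7800a6000b7a00a6100b9b00a5800bba00bbc00a5600bcd00b5e00b6800a4f00b6a00b5a00bc800bc300b5b00a6500bb900a6a00a4a00a6c00a4900a6900bbd00a5700a3900a3600bc100b5d00a2f00bbb00bbe00a3d00a5a00a3b00a3000a5b00a2e00a4500a6d00a4300b0f00a1c00bb200a7100bb500bb400a1800a1600bb300a1200a1000a1a00a1900baf00a0e00bae00a0b00bab00afd00b8300a0600b8500b9100a0000b93009fe00b9800b9700ba4009fc00ba200b6b00b6e009f500b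7000b6700b9d00a5d009f2009f000a0100b9a009ed00b99009fd00b9500a03009ea00a05009e800b7700b92009e500b9000b7300b8c00b8700b8600a6f009de00a70009e300a08009d700a0a009df00b8400acc00a89009d000a8b00ac800a92009c900a8e00ac400b7e00b7100a62009c100a6400b6d00b79009eb00a6e009bd00a66009bc009e600b75009e4009c7009f8009b8009fa009b7009c200b6f009c0009fb00a52009b300a54009b2009f600b69009f400aa400a7b009aa00a8600aa000b62009a500a9d00a7900a9b00a5500a33009a100a47009a000a5000b5c00a4e00ac700b4b00b4d0099700ac500b4f00b5200ac90099000acb0099100b4e00aa10099500b4c0099a0098c0099c0098b00999009870099d0098500aa300b4700a9c00b450097a00a76009790096c00a730097700b0c00ad300ad500abb00b1100b240095800b2600b220095600b3f00ab900b2800abf0094f00ac100b3700b39009500094e00aea0094700b1400b170094400b3500b2000b3200a9a00aa90094000aab0093f00a9500b2e00a930093c009430093a00b2500b230095700a970095500b120095b00b10009360095d009350095a0093300b180094500b160092400b1f009210092000b1e00a35009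7000a990091a0091900b1500b1b00b130092a0094900971009270091b0094a0097200918009320095e009660092f0095f009640090e00a1e0090800b0e0090500b0400b0300b090090200b0800900008fe0090600b06008fb00b050090300b01008f7008f600aff00acf008f000ad100a0700afb00adf008ed00ae1008eb00ae700af8008e800af600ae300af200aac00ab1008e400ab3008e300aa700aee00aa5008ee00ae9008df00ae8008de008e900ae5008e700abc00ae0008da00ade008d900ab700adb00ab500ad200961008cd0096300ace00ad4008d3008f3008c9008f5008c8008ce00ad0008cc009d500992008c000994009d100aca009cf0099e008bc00996008bb009ca00ac6009c800ab400952008b700954008b600aaf00ac000aad008b3008db00aba00ab8008d8008af008b800ab200ab0008b5008ab008e500aaa00aa8008e2009b00097b008a600989008a5009ab00aa2009a9008a2009a70097800a9e009a40089e0094100a9800a960093e009ce00a7d00a810089000a8300a7f0088e00a8f009cc00a85009d200887009d400a8800a8a00888008860088200a8200a800088f009ad0088d00a7e0089300a7c0087f008950087e008920087c0087b008960089b00878009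af00a7700a75009a600a720087000975009740086f00a2700a2b00a3400865008610096d00a740085b0085a009690086e0086d00a230084f00a20009e000848009e20096000a2100a2400a410084300a4400a3f0084000a6b00a4800a6800a46009c40083c009c60083b00a5f00a6300a5e0083f0083d0083a00a2800a2c0083300a5c0083200a3c00a5900a4c0082f009a200a5300a510099f0082b00a4d0083100a4b00828008270093700a4200a400084100a3e00a25008460085300a220082000845008520081d00a2d008340086600a2a008120081100a3a009230080e00a3800a370091f008670091d0080700a2900a3200a3100a26008680081500814008690080600805008540081b0081a00a1f0084e007fb0090b007fa0090900a1d007f300a1300a1b007ef00a0f00a17007f400a15007eb00a14007ea007f000a11007ee007e7007e500a0d00a0c009da007e1009dc007e0008f100a09008ef009f300a04007dc00a02007db009ee009ff009ec007d8009b4009f9009f7009b1007d4007dd009f1009ef007da007d0009be009e9009e7009bb008d700897007c700899009dd0084b007c40084d007c3009d8009e1009d6007c0007c5009db009d9007c2008c60088a007bb0088c007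ba008c1009d3008bf007b7008bd009cd009cb008ba007b3009b9009c5009c3009b6007b0009bf007cf007ce007ad009ba007b2007b1007aa009b5007d7007d6007a6008a7009ae009ac008a4007a3009a8008a1008a0007a0009a30082e0082d0097d00798008d400792008d60097e009830078e00986009810078b0099b0098a0099800988008c300787008c5007860098f009930098e0078a00788007850098d007800077f00984009820078c009800097f007910079c0097c0077a007900079b007770079d0077500774009760097300968009670086c0076c0076b00914009170091e009280096f0075e008630075d0096e0075f0075700756007520085c0096b0096a0074e0074d008570076a0076900911009300092c007410073f009650090d008d00073b008d20073a008490096200847009310092d007360095c0073500934009590094d007320094c00953009510094b007340072c0073100730007280092900948009460093b00725009420089d0089c007220093d007270072600939009380071f007440071d0082300748008210092e00737007450092b00747009100090f0074600713007120076000916009150070700926009250081000704009220080d0080c007620080a008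09006ff0091c0091300912007630070a0070900764006fe006fd00765007100070f0090c0090a006f6007f8006f5007f6006f40090100907006ec006eb008fc00904008fa006e8006ed008ff008fd006ea006e4008f9006e3008f8007e4006e0007e2008f4008f2007df006dc008e0008ec008ea008dd006d9008e6008aa008a9006d6008e1006db006da006d3008dc008b2008b1007cd00795006ca00797006c9007c8008d5006c6008ca008d1008cf008c7006c3008cb006c5006c4006bf007bc008c4008c2007b9006bc008be007b6007b5006b9008b9008ae008ad008b4006d2006d1008b0006b8006b7008ac006d8006d7006b0008a8007a5007a4008a3007a2007a10089f00724007230087300879008750069d0069b0089a007ca00698007cc0069700793008980087a008760069300894006920087d00891008850068f008840088b008890088300691006890068e0068d008810088000686006a000684006a40087700694006a100874006a30087200871006a20067c0067b006a500679006780076d0086b0086a008560085500768006700066f007fe00801008040080b0066300816008600086400862006610075b0075a0065c006620085f0085e0066500658006570085d00667006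530074f00859008580064f0064e0066e0066d008220081c008190081e008250064500640008510063f008500073e0063c0073c0084c0084a00739006380081f008440084200839006350083e00837008360063200637006360083800634006330062d008350082a00829008300079f0079e0082c0062c0062b0082600644008240064600623006220064a007180064b007160071500647008180081700669007fd007fc0066800617006160066600803008020060f0081300706007050080f007030070200701007000080800800007ff006110061000609006080061500614007f9007f7007f500604006f2006f100603005fe005fc007ec007f2007f1007e9005f9007ed005fb005fa005f5007e8007e6006e2005f2007e3006df006de005ef007de007d3007d2007d9007a9007a8007d5005ee005ed007d1007af007ae006d0006a8005e4006a9005e2006cb007cb007c9006c8005df007c6007bf007be007c1005de005dd005da007bd006be006bd007b8006bb006ba007b4007ac007ab005e8005e7005d5005d4005ec005eb007a7006af006ae006ad006ac0062a00629006cd006cf005ca005cc007700077b0077600773007780077d005bf005ba0079a005b900799005b60069900796007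9400696005b2007790078f0078d00784005af007890078200781005ac005b1005b000783005ae005ad0077e005be0077c005c0005a4005a3005c4005c50067e005c10077200771005c70076f0076e005c600599005980059700596006720067100767007660074a007490058f0058e0066a007110070e007510070b007550058000761007580075c0057f0057e0065e0065d00759005830057700582007540075300573005720065400750005850056e0056d0074c0074b0056b0058d00717007190056400562007140071c007430071e0055f005600055b00742007400063e005580073d0063b0063a00555007380072e0072d007330072b0072a0072f00554005530055200551007290072100720006ab006aa0054d0054c0056700625005610071b0071a005860054500544005680061d0061c005880061a00619005870070d0070c006f8006f70053c0053b006fc006fb007080060e0060d0060c0060b0060a006fa006f900538005330053a006f3006f0006020052f0052e00529006ef00527006ee006e7006e6006e9005260052500522006e5005f4005f3006e1005f1005f0006dd006d5006d4006b2006b10051d0051c006b6006b500517005e5006ce00515006cc005e1005e0006c7006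c2006c10051200511006c0005d9005d8005d7005d6006b4006b3005190050c0051b005d0005cf005ce0054b006a6005cb006a700504005050067a006770067f00680004f6004f40067d006830069f00685004f1004f2004ed0069e0069c005b8004ea0069a005b5005b4004e7006950068b0068a0069000688006870068c004e6004e5004e4004e3004f9005a6004f30068200681004fd004db004da004fa0059e004ff0059c0059b004fe00676006750067400673004d2004d1004d00059200591005900066c0066b0064c004ca0058b0058a005890061b006180062100652004c30065b00659004b700664006600065f004b3004b20057b004bd004ae004b60065a004ba004a8004a70065600655004a500570004c40065100650004a10064d0049f004c90061e006260049b00497006490049500648006240064200643004940049300490006410055a005590063d00557005560063900631006300062f0062e0048b0048a004890062800627005cd004860049c0054800547004bc006200061f0047f0047e004be005400053f0053e0053d0061300612006050047900607005370053600535005340060600476004720047800601006000052d0046e0046d00469005ff00528005fd005f8005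f70046600465005f600521005200051f0051e005ea005e9005d100460005d30045c005e600516005e30051400513005dc005db004580050f0050e0050d005d20045d004540045f005080050700485005c8005c9005030044b0044d004470059d0059a005a2004420043e0059f005a70043900435005c300433005c2005a5005bc005bd00432004310042e005bb004ec004eb005b7004e9004e8005b3005ab005aa005a9005a80042900428004270043a004de004dd00441005a1005a0004200041f00443004d6004d5004d4004d30059500594005930041a00419004cd004cc004cb0058c0056900413004c70040a004c50056f005840040500403004c000400005410057a00546003fa00576004100040c0058100578003f6003f30057d0057c003f0004b0003f900579003fc003eb003ea003f20040d0057500574003e600571003e400407004060056c003e10056a003df004120054900566003dc003db003d70056500496005630055e0055d003d4003d30055c0048f0048e0048d0048c005500054f0054e003ce003cd0054a00506003ca00483003fd00481004800054300542003c30047c0047b0047a0053900530003bf0053200475004740047300531003bc003b8003be0052c0052b003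b3003b2003b00052a00468004670052400523003ad0046300462004610051a00509003a90050b005180045b0045a0045900510003a200456004550050a003a60039e003a8004500044f003c9005010044c005020044a00449004480050000395003960038c004d7004fc004dc0038600385004fb00388003800037f004df004f80037d0037c00378004f700434004f5004f0004ef0037500374004ee0042d0042c0042b0042a004e2004e1004e00036f0036e00424003890042200421004d9004d8003670041d0041c0041b004cf004ce0036300362004160041500414004c80049d0035c004b9003560040e004a9004b80034e004c60034c00408004a3004a2004c200348004c10034600401004bf003970034400482004ad00352004bb004af003400033d004b50035900358004b4004aa00338004b100336003ee0033c00353004ac004ab00330003500034f004a60032d004a40032b00349004a0003280049e003260035b0049a0049900324003230032100498003d6003d500492004910031e003d1003d0003cf00488004870031a00319004840044e0031600343003c6003c5003c40047d00310003c1003c0004770046f0030c00471003bb003ba003b90047000309003060030b003b4004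6c0046b003040046a003af003ae0046400300003ab003aa0045e00451002fc00453003a5003a4003a300457002f6003a00039f00452002f9002f2002fb0039a0039900315003ff004450044600394003930039200391003900038f0038e0038d00444002ef002e4004230043d002df004400043f002da002d7002d6002e00043c0043b002d10043800437002ce002cd002cb004360037700376004300042f002c80037200371003700042600425002c4002c3002dd0036a00369003680041e002bd00365003640041800417002b9002b80035f0035e0035d00411003dd002b4003f5003f4002ae0040f002ac00354003ec003fb002a7003e8003e70040b002a400409002a20034a003e2004040029f004020029d003fe003c70029b00298003f8002b3002b2003f7003ed00295002b0002af003f100292003ef00290003340029a002a9002a8003e90028b002a5003e500288003e300286002a0003e000284003de00325003da003d900282003d8003200031f003d20027e0031c0031b003cc003cb0027a00279003c80039800277003130031200311003c2002740030e0030d003bd003b500270003b70030800307003b600305003b10026d0030200301003ac00269002fe002fd003a70039b002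650039d002f8002f7003a100262002f4002f30039c002f1002f00038b002ee002ed002ec002eb002ea002e9002e8002e7002e6002e50038a0025f002e20025300381003870024a0036b0024700244003840024f0024e003830038200241002460024c0024b0037e0023c002cf0037b0037a0023900379002ca002c90037300235002c6002c50036d0036c0023100230002c0002bf002be003660022c002bb002ba003610036000228002b6002b50035a0033f0033e002220033a00339003570021f003550021d002aa003320033100351002180032e0034d002150034b00213003290034700211003450022500342003330020f0034100224002230033b0020b00220003370020800335002060021b0021a002190032f00203002160032c002000032a00212003270028300322001fd002800027f0031d001f90027c0027b0031800317001f50031400276002750030f001f200272002710030a0026f0026e00303001ef0026b0026a002ff001eb0026700266002fa0026400263002f50026100260002e30025e0025d0025c0025b0025a002590025800257002560025500254002e1001e5001d6001d5002d9002d8001cf002d3002d2002de001ca001d2002dc002d4001c7002db001d1001d0002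d5001c3001cd001cc001cb002d0001bf0023a002cc001bc0023700236002c7001b80023300232002c2002c1001b40022e0022d002bc001b10022a00229002b700227001ae0029c0029700296002b1001aa00293002ad001a7002ab001a50028e0028d0028c002a6001a200289002a30019f002a1002850029e001af002990019c001ac001ab0029400198001a800291001950028f001a4001a30028a00192001a0002870019e001fe002810018f001fb001fa0027d0018b001f7001f600278001f4001f300273001f1001f00026c00185001ed001ec00268001ea001e9001e8001e7001e600252001e4001e3001e2001e1001e0001df001de001dd001dc001db001da0016f0016e0017000251002500016b001680024800243002420024d001640023f0023e0023d002490016000169002450015d0016600165002400015900162001610023b00155001bd0023800153001ba001b9002340014f001b6001b50022f001b3001b20022b001b000210002260014a0020d0020c0022100146002090021e001430021c002050020400217001400020100214001ff0014b0020e0013d00148001470020a0013900144002070014200141002020013f00190001fc001330018d0018c001f80018a00189001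880018700186001ee00184001830018200181001800017f0017e0017d00122001210017a001790017800177001760017500174001730011700116001d7001d9001d80011300114001d400110001c8001d30010d001c5001c4001ce00109001c1001c0001c9001050010e001c6001030010b0010a001c2000ff0010700106001be00154001bb000fa0015100150001b70014e0014d0014c0019d001ad000f50019a00199001a9000f100196001a60019400193001a100191000f60019b000eb000f3000f200197000f0000ef000ee00135001340018e0013200131001300012f0012e0012d000e2000e10012a001290012800127001260012500124001230017c0017b000d8000d70011e0011d0011c0011b0011a00119001180017200171000ce0016c0016d000cb000cc0016a000c80015e00167000c50015b0015a00163000c100157001560015f000c60015c000bc000c3000c200158000c0000bf000fc000fb00152000f9000f8000f70013e00149000b30013b0013a00145001380013700136000b5000b40013c000b2000b1000b0000e7000e6000e5000e4000e30012c0012b000a9000a8000de000dd000dc000db000da000d9001200011f000a00009f000d4000d3000d2000d1000d0000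cf0011500097001110011200094000950010f00090001040010c0008d001010010000108000fe000fd0008f0008e001020008c0008b0008a000b8000b7000b6000ed000ec000f4000ea000e9000e8000840008300082000ac000ab000aa000e0000df0007d0007c000a5000a4000a3000a2000a1000d6000d50007500074000730009b0009a0009900098000cd0006d000c9000ca000690006b0006a000c7000be000bd000c4000bb000ba000b90006600065000640008600085000af000ae000ad000600005f0007f0007e000a7000a60005c0005b0005a0007800077000760009e0009d0009c0005500054000700006f0006e000960004e0009200091000930004d0004c0008900088000870004900048000610008100080000450005d0007b0007a000790004300042000570005600072000710003d0003c00051000500004f0006c00068000670003700036000630006200034000460005e000320005900058000300002f0003f0002c00053000520002a0003a00039000380004b0004a00026000470002400044000230004100040000210002d0003e0001e0003b0001c0002800027000350001a0003300031000180002e000160001f0002b00013000290001b0002500019000220000f000200000e000140001d000120000b0001000017000150000d00008000110000a000090000c0000700006000050000400003000020000100000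

noncomputable def lv4 : Level := ⟨4, 2, lvO4, [lvP4_0, lvP4_1, lvP4_2], [[1, 2], [3, 1], [1, 0, 1]]⟩

noncomputable def lvO5_0 : Tree :=
  .node 64 (.node 32 (.node 16 (.node 8 (.node 4 (.node 2 (.node 1 (.leaf (nat_lit 0x0)) (.leaf (nat_lit 0x0))) (.node 1 (.leaf (nat_lit 0x0)) (.leaf (nat_lit 0x0)))) (.node 2 (.node 1 (.leaf (nat_lit 0x0)) (.leaf (nat_lit 0x10000000))) (.node 1 (.leaf (nat_lit 0x0)) (.leaf (nat_lit 0x0))))) (.node 4 (.node 2 (.node 1 (.leaf (nat_lit 0x20000501)) (.leaf (nat_lit 0x0))) (.node 1 (.leaf (nat_lit 0x0)) (.leaf (nat_lit 0x0)))) (.node 2 (.node 1 (.leaf (nat_lit 0x20000500)) (.leaf (nat_lit 0x0))) (.node 1 (.leaf (nat_lit 0x0)) (.leaf (nat_lit 0x0)))))) (.node 8 (.node 4 (.node 2 (.node 1 (.leaf (nat_lit 0x0)) (.leaf (nat_lit 0x0))) (.node 1 (.leaf (nat_lit 0x0)) (.leaf (nat_lit 0x0)))) (.node 2 (.node 1 (.leaf (nat_lit 0x0)) (.leaf (nat_lit 0x0))) (.node 1 (.leaf (nat_lit 0x0)) (.leaf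 (nat_lit 0x0))))) (.node 4 (.node 2 (.node 1 (.leaf (nat_lit 0x0)) (.leaf (nat_lit 0x0))) (.node 1 (.leaf (nat_lit 0x0)) (.leaf (nat_lit 0x0)))) (.node 2 (.node 1 (.leaf (nat_lit 0x0)) (.leaf (nat_lit 0x0))) (.node 1 (.leaf (nat_lit 0x0)) (.leaf (nat_lit 0x0))))))) (.node 16 (.node 8 (.node 4 (.node 2 (.node 1 (.leaf (nat_lit 0x0)) (.leaf (nat_lit 0x0))) (.node 1 (.leaf (nat_lit 0x0)) (.leaf (nat_lit 0x0)))) (.node 2 (.node 1 (.leaf (nat_lit 0x0)) (.leaf (nat_lit 0x0))) (.node 1 (.leaf (nat_lit 0x0)) (.leaf (nat_lit 0x0))))) (.node 4 (.node 2 (.node 1 (.leaf (nat_lit 0x0)) (.leaf (nat_lit 0x0))) (.node 1 (.leaf (nat_lit 0x0)) (.leaf (nat_lit 0x0)))) (.node 2 (.node 1 (.leaf (nat_lit 0x0)) (.leaf (nat_lit 0x0))) (.node 1 (.leaf (nat_lit 0x0)) (.leaf (nat_lit 0x0)))))) (.node 8 (.node 4 (.node 2 (.node 1 (.leaf (nat_lit 0x0)) (.leaf (nat_lit 0x0))) (.node 1 (.leaf (nat_lit 0x0)) (.leaf (nat_lit 0x0)))) (.node 2 (.node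 1 (.leaf (nat_lit 0x0)) (.leaf (nat_lit 0x0))) (.node 1 (.leaf (nat_lit 0x0)) (.leaf (nat_lit 0x0))))) (.node 4 (.node 2 (.node 1 (.leaf (nat_lit 0x0)) (.leaf (nat_lit 0x0))) (.node 1 (.leaf (nat_lit 0x0)) (.leaf (nat_lit 0x0)))) (.node 2 (.node 1 (.leaf (nat_lit 0x0)) (.leaf (nat_lit 0x0))) (.node 1 (.leaf (nat_lit 0x0)) (.leaf (nat_lit 0x0)))))))) (.node 32 (.node 16 (.node 8 (.node 4 (.node 2 (.node 1 (.leaf (nat_lit 0x0)) (.leaf (nat_lit 0x0))) (.node 1 (.leaf (nat_lit 0x0)) (.leaf (nat_lit 0x0)))) (.node 2 (.node 1 (.leaf (nat_lit 0x0)) (.leaf (nat_lit 0x0))) (.node 1 (.leaf (nat_lit 0x0)) (.leaf (nat_lit 0x0))))) (.node 4 (.node 2 (.node 1 (.leaf (nat_lit 0x0)) (.leaf (nat_lit 0x0))) (.node 1 (.leaf (nat_lit 0x0)) (.leaf (nat_lit 0x0)))) (.node 2 (.node 1 (.leaf (nat_lit 0x0)) (.leaf (nat_lit 0x0))) (.node 1 (.leaf (nat_lit 0x0)) (.leaf (nat_lit 0x0)))))) (.node 8 (.node 4 (.node 2 (.node 1 (.leaf (nat_lit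 0x0)) (.leaf (nat_lit 0x0))) (.node 1 (.leaf (nat_lit 0x0)) (.leaf (nat_lit 0x0)))) (.node 2 (.node 1 (.leaf (nat_lit 0x0)) (.leaf (nat_lit 0x0))) (.node 1 (.leaf (nat_lit 0x0)) (.leaf (nat_lit 0x0))))) (.node 4 (.node 2 (.node 1 (.leaf (nat_lit 0x0)) (.leaf (nat_lit 0x0))) (.node 1 (.leaf (nat_lit 0x0)) (.leaf (nat_lit 0x0)))) (.node 2 (.node 1 (.leaf (nat_lit 0x0)) (.leaf (nat_lit 0x0))) (.node 1 (.leaf (nat_lit 0x0)) (.leaf (nat_lit 0x0))))))) (.node 16 (.node 8 (.node 4 (.node 2 (.node 1 (.leaf (nat_lit 0x0)) (.leaf (nat_lit 0x0))) (.node 1 (.leaf (nat_lit 0x0)) (.leaf (nat_lit 0x0)))) (.node 2 (.node 1 (.leaf (nat_lit 0x0)) (.leaf (nat_lit 0x0))) (.node 1 (.leaf (nat_lit 0x0)) (.leaf (nat_lit 0x0))))) (.node 4 (.node 2 (.node 1 (.leaf (nat_lit 0x0)) (.leaf (nat_lit 0x0))) (.node 1 (.leaf (nat_lit 0x0)) (.leaf (nat_lit 0x0)))) (.node 2 (.node 1 (.leaf (nat_lit 0x0)) (.leaf (nat_lit 0x0))) (.node 1 (.leaf (nat_lit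 0x0)) (.leaf (nat_lit 0x0)))))) (.node 8 (.node 4 (.node 2 (.node 1 (.leaf (nat_lit 0x0)) (.leaf (nat_lit 0x0))) (.node 1 (.leaf (nat_lit 0x0)) (.leaf (nat_lit 0x0)))) (.node 2 (.node 1 (.leaf (nat_lit 0x0)) (.leaf (nat_lit 0x0))) (.node 1 (.leaf (nat_lit 0x0)) (.leaf (nat_lit 0x0))))) (.node 4 (.node 2 (.node 1 (.leaf (nat_lit 0x0)) (.leaf (nat_lit 0x0))) (.node 1 (.leaf (nat_lit 0x0)) (.leaf (nat_lit 0x0)))) (.node 2 (.node 1 (.leaf (nat_lit 0x0)) (.leaf (nat_lit 0x0))) (.node 1 (.leaf (nat_lit 0x0)) (.leaf (nat_lit 0x0))))))))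

noncomputable def lvO5_1 : Tree :=
  .node 64 (.node 32 (.node 16 (.node 8 (.node 4 (.node 2 (.node 1 (.leaf (nat_lit 0x0)) (.leaf (nat_lit 0x0))) (.node 1 (.leaf (nat_lit 0x0)) (.leaf (nat_lit 0x0)))) (.node 2 (.node 1 (.leaf (nat_lit 0x0)) (.leaf (nat_lit 0x0))) (.node 1 (.leaf (nat_lit 0x0)) (.leaf (nat_lit 0x0))))) (.node 4 (.node 2 (.node 1 (.leaf (nat_lit 0x0)) (.leaf (nat_lit 0x0))) (.node 1 (.leaf (nat_lit 0x0)) (.leaf (nat_lit 0x0)))) (.node 2 (.node 1 (.leaf (nat_lit 0x0)) (.leaf (nat_lit 0x0))) (.node 1 (.leaf (nat_lit 0x0)) (.leaf (nat_lit 0x0)))))) (.node 8 (.node 4 (.node 2 (.node 1 (.leaf (nat_lit 0x0)) (.leaf (nat_lit 0x0))) (.node 1 (.leaf (nat_lit 0x0)) (.leaf (nat_lit 0x0)))) (.node 2 (.node 1 (.leaf (nat_lit 0x0)) (.leaf (nat_lit 0x0))) (.node 1 (.leaf (nat_lit 0x0)) (.leaf (nat_lit 0x0))))) (.node 4 (.node 2 (.node 1 (.leaf (nat_lit 0x0)) (.leaf (nat_lit 0x0))) (.node 1 (.leaf (nat_lit 0x0))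 (.leaf (nat_lit 0x0)))) (.node 2 (.node 1 (.leaf (nat_lit 0x0)) (.leaf (nat_lit 0x0))) (.node 1 (.leaf (nat_lit 0x0)) (.leaf (nat_lit 0x0))))))) (.node 16 (.node 8 (.node 4 (.node 2 (.node 1 (.leaf (nat_lit 0x0)) (.leaf (nat_lit 0x0))) (.node 1 (.leaf (nat_lit 0x0)) (.leaf (nat_lit 0x0)))) (.node 2 (.node 1 (.leaf (nat_lit 0x0)) (.leaf (nat_lit 0x0))) (.node 1 (.leaf (nat_lit 0x0)) (.leaf (nat_lit 0x0))))) (.node 4 (.node 2 (.node 1 (.leaf (nat_lit 0x0)) (.leaf (nat_lit 0x0))) (.node 1 (.leaf (nat_lit 0x0)) (.leaf (nat_lit 0x0)))) (.node 2 (.node 1 (.leaf (nat_lit 0x0)) (.leaf (nat_lit 0x0))) (.node 1 (.leaf (nat_lit 0x0)) (.leaf (nat_lit 0x0)))))) (.node 8 (.node 4 (.node 2 (.node 1 (.leaf (nat_lit 0x0)) (.leaf (nat_lit 0x0))) (.node 1 (.leaf (nat_lit 0x0)) (.leaf (nat_lit 0x0)))) (.node 2 (.node 1 (.leaf (nat_lit 0x0)) (.leaf (nat_lit 0x0))) (.node 1 (.leaf (nat_lit 0x0)) (.leaf (nat_lit 0x0))))) (.node 4 (.node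 2 (.node 1 (.leaf (nat_lit 0x0)) (.leaf (nat_lit 0x0))) (.node 1 (.leaf (nat_lit 0x0)) (.leaf (nat_lit 0x0)))) (.node 2 (.node 1 (.leaf (nat_lit 0x0)) (.leaf (nat_lit 0x0))) (.node 1 (.leaf (nat_lit 0x0)) (.leaf (nat_lit 0x0)))))))) (.node 32 (.node 16 (.node 8 (.node 4 (.node 2 (.node 1 (.leaf (nat_lit 0x0)) (.leaf (nat_lit 0x0))) (.node 1 (.leaf (nat_lit 0x0)) (.leaf (nat_lit 0x0)))) (.node 2 (.node 1 (.leaf (nat_lit 0x0)) (.leaf (nat_lit 0x0))) (.node 1 (.leaf (nat_lit 0x0)) (.leaf (nat_lit 0x0))))) (.node 4 (.node 2 (.node 1 (.leaf (nat_lit 0x0)) (.leaf (nat_lit 0x0))) (.node 1 (.leaf (nat_lit 0x0)) (.leaf (nat_lit 0x0)))) (.node 2 (.node 1 (.leaf (nat_lit 0x0)) (.leaf (nat_lit 0x0))) (.node 1 (.leaf (nat_lit 0x0)) (.leaf (nat_lit 0x0)))))) (.node 8 (.node 4 (.node 2 (.node 1 (.leaf (nat_lit 0x0)) (.leaf (nat_lit 0x0))) (.node 1 (.leaf (nat_lit 0x0)) (.leaf (nat_lit 0x0)))) (.node 2 (.node 1 (.leaf (nat_lit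 0x0)) (.leaf (nat_lit 0x0))) (.node 1 (.leaf (nat_lit 0x0)) (.leaf (nat_lit 0x0))))) (.node 4 (.node 2 (.node 1 (.leaf (nat_lit 0x0)) (.leaf (nat_lit 0x0))) (.node 1 (.leaf (nat_lit 0x0)) (.leaf (nat_lit 0x0)))) (.node 2 (.node 1 (.leaf (nat_lit 0x0)) (.leaf (nat_lit 0x0))) (.node 1 (.leaf (nat_lit 0x0)) (.leaf (nat_lit 0x0))))))) (.node 16 (.node 8 (.node 4 (.node 2 (.node 1 (.leaf (nat_lit 0x0)) (.leaf (nat_lit 0x0))) (.node 1 (.leaf (nat_lit 0x0)) (.leaf (nat_lit 0x0)))) (.node 2 (.node 1 (.leaf (nat_lit 0x0)) (.leaf (nat_lit 0x0))) (.node 1 (.leaf (nat_lit 0x0)) (.leaf (nat_lit 0x0))))) (.node 4 (.node 2 (.node 1 (.leaf (nat_lit 0x0)) (.leaf (nat_lit 0x0))) (.node 1 (.leaf (nat_lit 0x0)) (.leaf (nat_lit 0x0)))) (.node 2 (.node 1 (.leaf (nat_lit 0x0)) (.leaf (nat_lit 0x0))) (.node 1 (.leaf (nat_lit 0x0)) (.leaf (nat_lit 0x0)))))) (.node 8 (.node 4 (.node 2 (.node 1 (.leaf (nat_lit 0x0)) (.leaf (nat_lit 0x0)))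 (.node 1 (.leaf (nat_lit 0x0)) (.leaf (nat_lit 0x0)))) (.node 2 (.node 1 (.leaf (nat_lit 0x0)) (.leaf (nat_lit 0x0))) (.node 1 (.leaf (nat_lit 0x0)) (.leaf (nat_lit 0x0))))) (.node 4 (.node 2 (.node 1 (.leaf (nat_lit 0x0)) (.leaf (nat_lit 0x0))) (.node 1 (.leaf (nat_lit 0x0)) (.leaf (nat_lit 0x0)))) (.node 2 (.node 1 (.leaf (nat_lit 0x0)) (.leaf (nat_lit 0x0))) (.node 1 (.leaf (nat_lit 0x0)) (.leaf (nat_lit 0x0))))))))

noncomputable def lvO5_2 : Tree :=
  .node 64 (.node 32 (.node 16 (.node 8 (.node 4 (.node 2 (.node 1 (.leaf (nat_lit 0x0)) (.leaf (nat_lit 0x0))) (.node 1 (.leaf (nat_lit 0x0)) (.leaf (nat_lit 0x0)))) (.node 2 (.node 1 (.leaf (nat_lit 0x0)) (.leaf (nat_lit 0x0))) (.node 1 (.leaf (nat_lit 0x0)) (.leaf (nat_lit 0x0))))) (.node 4 (.node 2 (.node 1 (.leaf (nat_lit 0x0)) (.leaf (nat_lit 0x0))) (.node 1 (.leaf (nat_lit 0x0)) (.leaf (nat_lit 0x0)))) (.node 2 (.node 1 (.leaf (nat_lit 0x0)) (.leaf (nat_lit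 0x0))) (.node 1 (.leaf (nat_lit 0x0)) (.leaf (nat_lit 0x0)))))) (.node 8 (.node 4 (.node 2 (.node 1 (.leaf (nat_lit 0x0)) (.leaf (nat_lit 0x0))) (.node 1 (.leaf (nat_lit 0x0)) (.leaf (nat_lit 0x0)))) (.node 2 (.node 1 (.leaf (nat_lit 0x0)) (.leaf (nat_lit 0x0))) (.node 1 (.leaf (nat_lit 0x0)) (.leaf (nat_lit 0x0))))) (.node 4 (.node 2 (.node 1 (.leaf (nat_lit 0x0)) (.leaf (nat_lit 0x0))) (.node 1 (.leaf (nat_lit 0x0)) (.leaf (nat_lit 0x0)))) (.node 2 (.node 1 (.leaf (nat_lit 0x0)) (.leaf (nat_lit 0x0))) (.node 1 (.leaf (nat_lit 0x0)) (.leaf (nat_lit 0x0))))))) (.node 16 (.node 8 (.node 4 (.node 2 (.node 1 (.leaf (nat_lit 0x0)) (.leaf (nat_lit 0x0))) (.node 1 (.leaf (nat_lit 0x0)) (.leaf (nat_lit 0x0)))) (.node 2 (.node 1 (.leaf (nat_lit 0x0)) (.leaf (nat_lit 0x0))) (.node 1 (.leaf (nat_lit 0x0)) (.leaf (nat_lit 0x0))))) (.node 4 (.node 2 (.node 1 (.leaf (nat_lit 0x0)) (.leaf (nat_lit 0x0))) (.node 1 (.leaf (nat_lit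 0x0)) (.leaf (nat_lit 0x0)))) (.node 2 (.node 1 (.leaf (nat_lit 0x0)) (.leaf (nat_lit 0x0))) (.node 1 (.leaf (nat_lit 0x0)) (.leaf (nat_lit 0x0)))))) (.node 8 (.node 4 (.node 2 (.node 1 (.leaf (nat_lit 0x0)) (.leaf (nat_lit 0x0))) (.node 1 (.leaf (nat_lit 0x0)) (.leaf (nat_lit 0x0)))) (.node 2 (.node 1 (.leaf (nat_lit 0x0)) (.leaf (nat_lit 0x0))) (.node 1 (.leaf (nat_lit 0x0)) (.leaf (nat_lit 0x0))))) (.node 4 (.node 2 (.node 1 (.leaf (nat_lit 0x0)) (.leaf (nat_lit 0x0))) (.node 1 (.leaf (nat_lit 0x0)) (.leaf (nat_lit 0x0)))) (.node 2 (.node 1 (.leaf (nat_lit 0x0)) (.leaf (nat_lit 0x0))) (.node 1 (.leaf (nat_lit 0x0)) (.leaf (nat_lit 0x0)))))))) (.node 32 (.node 16 (.node 8 (.node 4 (.node 2 (.node 1 (.leaf (nat_lit 0x0)) (.leaf (nat_lit 0x0))) (.node 1 (.leaf (nat_lit 0x0)) (.leaf (nat_lit 0x0)))) (.node 2 (.node 1 (.leaf (nat_lit 0x0)) (.leaf (nat_lit 0x0))) (.node 1 (.leaf (nat_lit 0x0)) (.leaf (nat_lit 0x0)))))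 (.node 4 (.node 2 (.node 1 (.leaf (nat_lit 0x0)) (.leaf (nat_lit 0x0))) (.node 1 (.leaf (nat_lit 0x0)) (.leaf (nat_lit 0x0)))) (.node 2 (.node 1 (.leaf (nat_lit 0x0)) (.leaf (nat_lit 0x0))) (.node 1 (.leaf (nat_lit 0x0)) (.leaf (nat_lit 0x0)))))) (.node 8 (.node 4 (.node 2 (.node 1 (.leaf (nat_lit 0x0)) (.leaf (nat_lit 0x0))) (.node 1 (.leaf (nat_lit 0x0)) (.leaf (nat_lit 0x0)))) (.node 2 (.node 1 (.leaf (nat_lit 0x0)) (.leaf (nat_lit 0x0))) (.node 1 (.leaf (nat_lit 0x0)) (.leaf (nat_lit 0x0))))) (.node 4 (.node 2 (.node 1 (.leaf (nat_lit 0x0)) (.leaf (nat_lit 0x0))) (.node 1 (.leaf (nat_lit 0x0)) (.leaf (nat_lit 0x0)))) (.node 2 (.node 1 (.leaf (nat_lit 0x0)) (.leaf (nat_lit 0x0))) (.node 1 (.leaf (nat_lit 0x0)) (.leaf (nat_lit 0x0))))))) (.node 16 (.node 8 (.node 4 (.node 2 (.node 1 (.leaf (nat_lit 0x0)) (.leaf (nat_lit 0x0))) (.node 1 (.leaf (nat_lit 0x0)) (.leaf (nat_lit 0x0)))) (.node 2 (.node 1 (.leaf (nat_lit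 0x0)) (.leaf (nat_lit 0x0))) (.node 1 (.leaf (nat_lit 0x0)) (.leaf (nat_lit 0x0))))) (.node 4 (.node 2 (.node 1 (.leaf (nat_lit 0x0)) (.leaf (nat_lit 0x0))) (.node 1 (.leaf (nat_lit 0x0)) (.leaf (nat_lit 0x0)))) (.node 2 (.node 1 (.leaf (nat_lit 0x0)) (.leaf (nat_lit 0x0))) (.node 1 (.leaf (nat_lit 0x0)) (.leaf (nat_lit 0x0)))))) (.node 8 (.node 4 (.node 2 (.node 1 (.leaf (nat_lit 0x0)) (.leaf (nat_lit 0x0))) (.node 1 (.leaf (nat_lit 0x0)) (.leaf (nat_lit 0x0)))) (.node 2 (.node 1 (.leaf (nat_lit 0x0)) (.leaf (nat_lit 0x0))) (.node 1 (.leaf (nat_lit 0x0)) (.leaf (nat_lit 0x0))))) (.node 4 (.node 2 (.node 1 (.leaf (nat_lit 0x0)) (.leaf (nat_lit 0x0))) (.node 1 (.leaf (nat_lit 0x0)) (.leaf (nat_lit 0x0)))) (.node 2 (.node 1 (.leaf (nat_lit 0x0)) (.leaf (nat_lit 0x0))) (.node 1 (.leaf (nat_lit 0x0)) (.leaf (nat_lit 0x0))))))))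

noncomputable def lvO5_3 : Tree :=
  .node 64 (.node 32 (.node 16 (.node 8 (.node 4 (.node 2 (.node 1 (.leaf (nat_lit 0x0)) (.leaf (nat_lit 0x0))) (.node 1 (.leaf (nat_lit 0x0)) (.leaf (nat_lit 0x0)))) (.node 2 (.node 1 (.leaf (nat_lit 0x0)) (.leaf (nat_lit 0x0))) (.node 1 (.leaf (nat_lit 0x0)) (.leaf (nat_lit 0x0))))) (.node 4 (.node 2 (.node 1 (.leaf (nat_lit 0x0)) (.leaf (nat_lit 0x0))) (.node 1 (.leaf (nat_lit 0x0)) (.leaf (nat_lit 0x0)))) (.node 2 (.node 1 (.leaf (nat_lit 0x0)) (.leaf (nat_lit 0x0))) (.node 1 (.leaf (nat_lit 0x0)) (.leaf (nat_lit 0x0)))))) (.node 8 (.node 4 (.node 2 (.node 1 (.leaf (nat_lit 0x0)) (.leaf (nat_lit 0x0))) (.node 1 (.leaf (nat_lit 0x0)) (.leaf (nat_lit 0x0)))) (.node 2 (.node 1 (.leaf (nat_lit 0x0)) (.leaf (nat_lit 0x0))) (.node 1 (.leaf (nat_lit 0x0)) (.leaf (nat_lit 0x0))))) (.node 4 (.node 2 (.node 1 (.leaf (nat_lit 0x0)) (.leaf (nat_lit 0x0))) (.node 1 (.leaf (nat_lit 0x0))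 (.leaf (nat_lit 0x0)))) (.node 2 (.node 1 (.leaf (nat_lit 0x0)) (.leaf (nat_lit 0x0))) (.node 1 (.leaf (nat_lit 0x0)) (.leaf (nat_lit 0x0))))))) (.node 16 (.node 8 (.node 4 (.node 2 (.node 1 (.leaf (nat_lit 0x0)) (.leaf (nat_lit 0x0))) (.node 1 (.leaf (nat_lit 0x0)) (.leaf (nat_lit 0x0)))) (.node 2 (.node 1 (.leaf (nat_lit 0x0)) (.leaf (nat_lit 0x0))) (.node 1 (.leaf (nat_lit 0x0)) (.leaf (nat_lit 0x0))))) (.node 4 (.node 2 (.node 1 (.leaf (nat_lit 0x0)) (.leaf (nat_lit 0x0))) (.node 1 (.leaf (nat_lit 0x0)) (.leaf (nat_lit 0x0)))) (.node 2 (.node 1 (.leaf (nat_lit 0x0)) (.leaf (nat_lit 0x0))) (.node 1 (.leaf (nat_lit 0x0)) (.leaf (nat_lit 0x0)))))) (.node 8 (.node 4 (.node 2 (.node 1 (.leaf (nat_lit 0x0)) (.leaf (nat_lit 0x0))) (.node 1 (.leaf (nat_lit 0x0)) (.leaf (nat_lit 0x0)))) (.node 2 (.node 1 (.leaf (nat_lit 0x0)) (.leaf (nat_lit 0x0))) (.node 1 (.leaf (nat_lit 0x0)) (.leaf (nat_lit 0x0))))) (.node 4 (.node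 2 (.node 1 (.leaf (nat_lit 0x0)) (.leaf (nat_lit 0x0))) (.node 1 (.leaf (nat_lit 0x0)) (.leaf (nat_lit 0x0)))) (.node 2 (.node 1 (.leaf (nat_lit 0x0)) (.leaf (nat_lit 0x0))) (.node 1 (.leaf (nat_lit 0x0)) (.leaf (nat_lit 0x0)))))))) (.node 32 (.node 16 (.node 8 (.node 4 (.node 2 (.node 1 (.leaf (nat_lit 0x0)) (.leaf (nat_lit 0x0))) (.node 1 (.leaf (nat_lit 0x0)) (.leaf (nat_lit 0x0)))) (.node 2 (.node 1 (.leaf (nat_lit 0x0)) (.leaf (nat_lit 0x0))) (.node 1 (.leaf (nat_lit 0x0)) (.leaf (nat_lit 0x0))))) (.node 4 (.node 2 (.node 1 (.leaf (nat_lit 0x0)) (.leaf (nat_lit 0x0))) (.node 1 (.leaf (nat_lit 0x0)) (.leaf (nat_lit 0x0)))) (.node 2 (.node 1 (.leaf (nat_lit 0x0)) (.leaf (nat_lit 0x0))) (.node 1 (.leaf (nat_lit 0x0)) (.leaf (nat_lit 0x0)))))) (.node 8 (.node 4 (.node 2 (.node 1 (.leaf (nat_lit 0x0)) (.leaf (nat_lit 0x0))) (.node 1 (.leaf (nat_lit 0x0)) (.leaf (nat_lit 0x0)))) (.node 2 (.node 1 (.leaf (nat_lit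 0x0)) (.leaf (nat_lit 0x0))) (.node 1 (.leaf (nat_lit 0x0)) (.leaf (nat_lit 0x0))))) (.node 4 (.node 2 (.node 1 (.leaf (nat_lit 0x0)) (.leaf (nat_lit 0x0))) (.node 1 (.leaf (nat_lit 0x0)) (.leaf (nat_lit 0x0)))) (.node 2 (.node 1 (.leaf (nat_lit 0x0)) (.leaf (nat_lit 0x0))) (.node 1 (.leaf (nat_lit 0x0)) (.leaf (nat_lit 0x0))))))) (.node 16 (.node 8 (.node 4 (.node 2 (.node 1 (.leaf (nat_lit 0x0)) (.leaf (nat_lit 0x0))) (.node 1 (.leaf (nat_lit 0x0)) (.leaf (nat_lit 0x0)))) (.node 2 (.node 1 (.leaf (nat_lit 0x0)) (.leaf (nat_lit 0x0))) (.node 1 (.leaf (nat_lit 0x0)) (.leaf (nat_lit 0x0))))) (.node 4 (.node 2 (.node 1 (.leaf (nat_lit 0x0)) (.leaf (nat_lit 0x0))) (.node 1 (.leaf (nat_lit 0x0)) (.leaf (nat_lit 0x0)))) (.node 2 (.node 1 (.leaf (nat_lit 0x0)) (.leaf (nat_lit 0x0))) (.node 1 (.leaf (nat_lit 0x0)) (.leaf (nat_lit 0x0)))))) (.node 8 (.node 4 (.node 2 (.node 1 (.leaf (nat_lit 0x0)) (.leaf (nat_lit 0x0)))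 (.node 1 (.leaf (nat_lit 0x0)) (.leaf (nat_lit 0x0)))) (.node 2 (.node 1 (.leaf (nat_lit 0x0)) (.leaf (nat_lit 0x0))) (.node 1 (.leaf (nat_lit 0x0)) (.leaf (nat_lit 0x0))))) (.node 4 (.node 2 (.node 1 (.leaf (nat_lit 0x0)) (.leaf (nat_lit 0x0))) (.node 1 (.leaf (nat_lit 0x0)) (.leaf (nat_lit 0x0)))) (.node 2 (.node 1 (.leaf (nat_lit 0x0)) (.leaf (nat_lit 0x0))) (.node 1 (.leaf (nat_lit 0x0)) (.leaf (nat_lit 0x0))))))))

noncomputable def lvO5_4 : Tree :=
  .node 64 (.node 32 (.node 16 (.node 8 (.node 4 (.node 2 (.node 1 (.leaf (nat_lit 0x0)) (.leaf (nat_lit 0x0))) (.node 1 (.leaf (nat_lit 0x0)) (.leaf (nat_lit 0x0)))) (.node 2 (.node 1 (.leaf (nat_lit 0x0)) (.leaf (nat_lit 0x0))) (.node 1 (.leaf (nat_lit 0x0)) (.leaf (nat_lit 0x0))))) (.node 4 (.node 2 (.node 1 (.leaf (nat_lit 0x0)) (.leaf (nat_lit 0x0))) (.node 1 (.leaf (nat_lit 0x0)) (.leaf (nat_lit 0x0)))) (.node 2 (.node 1 (.leaf (nat_lit 0x0)) (.leaf (nat_lit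 0x0))) (.node 1 (.leaf (nat_lit 0x0)) (.leaf (nat_lit 0x0)))))) (.node 8 (.node 4 (.node 2 (.node 1 (.leaf (nat_lit 0x0)) (.leaf (nat_lit 0x0))) (.node 1 (.leaf (nat_lit 0x0)) (.leaf (nat_lit 0x0)))) (.node 2 (.node 1 (.leaf (nat_lit 0x0)) (.leaf (nat_lit 0x0))) (.node 1 (.leaf (nat_lit 0x0)) (.leaf (nat_lit 0x0))))) (.node 4 (.node 2 (.node 1 (.leaf (nat_lit 0x0)) (.leaf (nat_lit 0x0))) (.node 1 (.leaf (nat_lit 0x0)) (.leaf (nat_lit 0x0)))) (.node 2 (.node 1 (.leaf (nat_lit 0x0)) (.leaf (nat_lit 0x0))) (.node 1 (.leaf (nat_lit 0x0)) (.leaf (nat_lit 0x0))))))) (.node 16 (.node 8 (.node 4 (.node 2 (.node 1 (.leaf (nat_lit 0x0)) (.leaf (nat_lit 0x0))) (.node 1 (.leaf (nat_lit 0x0)) (.leaf (nat_lit 0x0)))) (.node 2 (.node 1 (.leaf (nat_lit 0x0)) (.leaf (nat_lit 0x0))) (.node 1 (.leaf (nat_lit 0x0)) (.leaf (nat_lit 0x0))))) (.node 4 (.node 2 (.node 1 (.leaf (nat_lit 0x0)) (.leaf (nat_lit 0x0))) (.node 1 (.leaf (nat_lit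 0x0)) (.leaf (nat_lit 0x0)))) (.node 2 (.node 1 (.leaf (nat_lit 0x0)) (.leaf (nat_lit 0x0))) (.node 1 (.leaf (nat_lit 0x0)) (.leaf (nat_lit 0x0)))))) (.node 8 (.node 4 (.node 2 (.node 1 (.leaf (nat_lit 0x0)) (.leaf (nat_lit 0x0))) (.node 1 (.leaf (nat_lit 0x0)) (.leaf (nat_lit 0x0)))) (.node 2 (.node 1 (.leaf (nat_lit 0x0)) (.leaf (nat_lit 0x0))) (.node 1 (.leaf (nat_lit 0x0)) (.leaf (nat_lit 0x0))))) (.node 4 (.node 2 (.node 1 (.leaf (nat_lit 0x0)) (.leaf (nat_lit 0x0))) (.node 1 (.leaf (nat_lit 0x0)) (.leaf (nat_lit 0x0)))) (.node 2 (.node 1 (.leaf (nat_lit 0x0)) (.leaf (nat_lit 0x0))) (.node 1 (.leaf (nat_lit 0x0)) (.leaf (nat_lit 0x0)))))))) (.node 32 (.node 16 (.node 8 (.node 4 (.node 2 (.node 1 (.leaf (nat_lit 0x0)) (.leaf (nat_lit 0x0))) (.node 1 (.leaf (nat_lit 0x0)) (.leaf (nat_lit 0x0)))) (.node 2 (.node 1 (.leaf (nat_lit 0x0)) (.leaf (nat_lit 0x0))) (.node 1 (.leaf (nat_lit 0x0)) (.leaf (nat_lit 0x0)))))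 (.node 4 (.node 2 (.node 1 (.leaf (nat_lit 0x0)) (.leaf (nat_lit 0x0))) (.node 1 (.leaf (nat_lit 0x0)) (.leaf (nat_lit 0x0)))) (.node 2 (.node 1 (.leaf (nat_lit 0x0)) (.leaf (nat_lit 0x0))) (.node 1 (.leaf (nat_lit 0x0)) (.leaf (nat_lit 0x0)))))) (.node 8 (.node 4 (.node 2 (.node 1 (.leaf (nat_lit 0x0)) (.leaf (nat_lit 0x0))) (.node 1 (.leaf (nat_lit 0x0)) (.leaf (nat_lit 0x0)))) (.node 2 (.node 1 (.leaf (nat_lit 0x0)) (.leaf (nat_lit 0x0))) (.node 1 (.leaf (nat_lit 0x0)) (.leaf (nat_lit 0x0))))) (.node 4 (.node 2 (.node 1 (.leaf (nat_lit 0x0)) (.leaf (nat_lit 0x0))) (.node 1 (.leaf (nat_lit 0x0)) (.leaf (nat_lit 0x0)))) (.node 2 (.node 1 (.leaf (nat_lit 0x0)) (.leaf (nat_lit 0x0))) (.node 1 (.leaf (nat_lit 0x0)) (.leaf (nat_lit 0x0))))))) (.node 16 (.node 8 (.node 4 (.node 2 (.node 1 (.leaf (nat_lit 0x0)) (.leaf (nat_lit 0x0))) (.node 1 (.leaf (nat_lit 0x0)) (.leaf (nat_lit 0x0)))) (.node 2 (.node 1 (.leaf (nat_lit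 0x0)) (.leaf (nat_lit 0x0))) (.node 1 (.leaf (nat_lit 0x0)) (.leaf (nat_lit 0x0))))) (.node 4 (.node 2 (.node 1 (.leaf (nat_lit 0x0)) (.leaf (nat_lit 0x0))) (.node 1 (.leaf (nat_lit 0x0)) (.leaf (nat_lit 0x0)))) (.node 2 (.node 1 (.leaf (nat_lit 0x0)) (.leaf (nat_lit 0x0))) (.node 1 (.leaf (nat_lit 0x0)) (.leaf (nat_lit 0x0)))))) (.node 8 (.node 4 (.node 2 (.node 1 (.leaf (nat_lit 0x0)) (.leaf (nat_lit 0x0))) (.node 1 (.leaf (nat_lit 0x0)) (.leaf (nat_lit 0x0)))) (.node 2 (.node 1 (.leaf (nat_lit 0x0)) (.leaf (nat_lit 0x0))) (.node 1 (.leaf (nat_lit 0x0)) (.leaf (nat_lit 0x0))))) (.node 4 (.node 2 (.node 1 (.leaf (nat_lit 0x0)) (.leaf (nat_lit 0x0))) (.node 1 (.leaf (nat_lit 0x0)) (.leaf (nat_lit 0x0)))) (.node 2 (.node 1 (.leaf (nat_lit 0x0)) (.leaf (nat_lit 0x0))) (.node 1 (.leaf (nat_lit 0x0)) (.leaf (nat_lit 0x0))))))))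

noncomputable def lvO5_5 : Tree :=
  .node 64 (.node 32 (.node 16 (.node 8 (.node 4 (.node 2 (.node 1 (.leaf (nat_lit 0x0)) (.leaf (nat_lit 0x0))) (.node 1 (.leaf (nat_lit 0x0)) (.leaf (nat_lit 0x0)))) (.node 2 (.node 1 (.leaf (nat_lit 0x0)) (.leaf (nat_lit 0x0))) (.node 1 (.leaf (nat_lit 0x0)) (.leaf (nat_lit 0x0))))) (.node 4 (.node 2 (.node 1 (.leaf (nat_lit 0x0)) (.leaf (nat_lit 0x0))) (.node 1 (.leaf (nat_lit 0x0)) (.leaf (nat_lit 0x0)))) (.node 2 (.node 1 (.leaf (nat_lit 0x0)) (.leaf (nat_lit 0x0))) (.node 1 (.leaf (nat_lit 0x0)) (.leaf (nat_lit 0x0)))))) (.node 8 (.node 4 (.node 2 (.node 1 (.leaf (nat_lit 0x0)) (.leaf (nat_lit 0x0))) (.node 1 (.leaf (nat_lit 0x0)) (.leaf (nat_lit 0x0)))) (.node 2 (.node 1 (.leaf (nat_lit 0x0)) (.leaf (nat_lit 0x0))) (.node 1 (.leaf (nat_lit 0x0)) (.leaf (nat_lit 0x0))))) (.node 4 (.node 2 (.node 1 (.leaf (nat_lit 0x0)) (.leaf (nat_lit 0x0))) (.node 1 (.leaf (nat_lit 0x0))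 (.leaf (nat_lit 0x0)))) (.node 2 (.node 1 (.leaf (nat_lit 0x0)) (.leaf (nat_lit 0x0))) (.node 1 (.leaf (nat_lit 0x0)) (.leaf (nat_lit 0x0))))))) (.node 16 (.node 8 (.node 4 (.node 2 (.node 1 (.leaf (nat_lit 0x0)) (.leaf (nat_lit 0x0))) (.node 1 (.leaf (nat_lit 0x0)) (.leaf (nat_lit 0x0)))) (.node 2 (.node 1 (.leaf (nat_lit 0x0)) (.leaf (nat_lit 0x0))) (.node 1 (.leaf (nat_lit 0x0)) (.leaf (nat_lit 0x0))))) (.node 4 (.node 2 (.node 1 (.leaf (nat_lit 0x0)) (.leaf (nat_lit 0x0))) (.node 1 (.leaf (nat_lit 0x0)) (.leaf (nat_lit 0x0)))) (.node 2 (.node 1 (.leaf (nat_lit 0x0)) (.leaf (nat_lit 0x0))) (.node 1 (.leaf (nat_lit 0x0)) (.leaf (nat_lit 0x0)))))) (.node 8 (.node 4 (.node 2 (.node 1 (.leaf (nat_lit 0x0)) (.leaf (nat_lit 0x0))) (.node 1 (.leaf (nat_lit 0x0)) (.leaf (nat_lit 0x0)))) (.node 2 (.node 1 (.leaf (nat_lit 0x0)) (.leaf (nat_lit 0x0))) (.node 1 (.leaf (nat_lit 0x0)) (.leaf (nat_lit 0x0))))) (.node 4 (.node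 2 (.node 1 (.leaf (nat_lit 0x0)) (.leaf (nat_lit 0x0))) (.node 1 (.leaf (nat_lit 0x0)) (.leaf (nat_lit 0x0)))) (.node 2 (.node 1 (.leaf (nat_lit 0x0)) (.leaf (nat_lit 0x0))) (.node 1 (.leaf (nat_lit 0x0)) (.leaf (nat_lit 0x0)))))))) (.node 32 (.node 16 (.node 8 (.node 4 (.node 2 (.node 1 (.leaf (nat_lit 0x0)) (.leaf (nat_lit 0x0))) (.node 1 (.leaf (nat_lit 0x0)) (.leaf (nat_lit 0x0)))) (.node 2 (.node 1 (.leaf (nat_lit 0x0)) (.leaf (nat_lit 0x0))) (.node 1 (.leaf (nat_lit 0x0)) (.leaf (nat_lit 0x0))))) (.node 4 (.node 2 (.node 1 (.leaf (nat_lit 0x0)) (.leaf (nat_lit 0x0))) (.node 1 (.leaf (nat_lit 0x0)) (.leaf (nat_lit 0x0)))) (.node 2 (.node 1 (.leaf (nat_lit 0x0)) (.leaf (nat_lit 0x0))) (.node 1 (.leaf (nat_lit 0x0)) (.leaf (nat_lit 0x0)))))) (.node 8 (.node 4 (.node 2 (.node 1 (.leaf (nat_lit 0x0)) (.leaf (nat_lit 0x0))) (.node 1 (.leaf (nat_lit 0x0)) (.leaf (nat_lit 0x0)))) (.node 2 (.node 1 (.leaf (nat_lit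 0x0)) (.leaf (nat_lit 0x0))) (.node 1 (.leaf (nat_lit 0x0)) (.leaf (nat_lit 0x0))))) (.node 4 (.node 2 (.node 1 (.leaf (nat_lit 0x0)) (.leaf (nat_lit 0x0))) (.node 1 (.leaf (nat_lit 0x0)) (.leaf (nat_lit 0x0)))) (.node 2 (.node 1 (.leaf (nat_lit 0x0)) (.leaf (nat_lit 0x0))) (.node 1 (.leaf (nat_lit 0x0)) (.leaf (nat_lit 0x0))))))) (.node 16 (.node 8 (.node 4 (.node 2 (.node 1 (.leaf (nat_lit 0x0)) (.leaf (nat_lit 0x0))) (.node 1 (.leaf (nat_lit 0x0)) (.leaf (nat_lit 0x0)))) (.node 2 (.node 1 (.leaf (nat_lit 0x0)) (.leaf (nat_lit 0x0))) (.node 1 (.leaf (nat_lit 0x0)) (.leaf (nat_lit 0x0))))) (.node 4 (.node 2 (.node 1 (.leaf (nat_lit 0x0)) (.leaf (nat_lit 0x0))) (.node 1 (.leaf (nat_lit 0x0)) (.leaf (nat_lit 0x0)))) (.node 2 (.node 1 (.leaf (nat_lit 0x0)) (.leaf (nat_lit 0x0))) (.node 1 (.leaf (nat_lit 0x0)) (.leaf (nat_lit 0x0)))))) (.node 8 (.node 4 (.node 2 (.node 1 (.leaf (nat_lit 0x0)) (.leaf (nat_lit 0x0)))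 (.node 1 (.leaf (nat_lit 0x0)) (.leaf (nat_lit 0x0)))) (.node 2 (.node 1 (.leaf (nat_lit 0x0)) (.leaf (nat_lit 0x0))) (.node 1 (.leaf (nat_lit 0x0)) (.leaf (nat_lit 0x0))))) (.node 4 (.node 2 (.node 1 (.leaf (nat_lit 0x0)) (.leaf (nat_lit 0x0))) (.node 1 (.leaf (nat_lit 0x0)) (.leaf (nat_lit 0x0)))) (.node 2 (.node 1 (.leaf (nat_lit 0x0)) (.leaf (nat_lit 0x0))) (.node 1 (.leaf (nat_lit 0x0)) (.leaf (nat_lit 0x0))))))))

noncomputable def lvO5_6 : Tree :=
  .node 64 (.node 32 (.node 16 (.node 8 (.node 4 (.node 2 (.node 1 (.leaf (nat_lit 0x0)) (.leaf (nat_lit 0x0))) (.node 1 (.leaf (nat_lit 0x0)) (.leaf (nat_lit 0x0)))) (.node 2 (.node 1 (.leaf (nat_lit 0x0)) (.leaf (nat_lit 0x0))) (.node 1 (.leaf (nat_lit 0x0)) (.leaf (nat_lit 0x0))))) (.node 4 (.node 2 (.node 1 (.leaf (nat_lit 0x0)) (.leaf (nat_lit 0x0))) (.node 1 (.leaf (nat_lit 0x0)) (.leaf (nat_lit 0x0)))) (.node 2 (.node 1 (.leaf (nat_lit 0x0)) (.leaf (nat_lit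 0x0))) (.node 1 (.leaf (nat_lit 0x0)) (.leaf (nat_lit 0x0)))))) (.node 8 (.node 4 (.node 2 (.node 1 (.leaf (nat_lit 0x0)) (.leaf (nat_lit 0x0))) (.node 1 (.leaf (nat_lit 0x0)) (.leaf (nat_lit 0x0)))) (.node 2 (.node 1 (.leaf (nat_lit 0x0)) (.leaf (nat_lit 0x0))) (.node 1 (.leaf (nat_lit 0x0)) (.leaf (nat_lit 0x0))))) (.node 4 (.node 2 (.node 1 (.leaf (nat_lit 0x0)) (.leaf (nat_lit 0x0))) (.node 1 (.leaf (nat_lit 0x0)) (.leaf (nat_lit 0x0)))) (.node 2 (.node 1 (.leaf (nat_lit 0x0)) (.leaf (nat_lit 0x0))) (.node 1 (.leaf (nat_lit 0x0)) (.leaf (nat_lit 0x0))))))) (.node 16 (.node 8 (.node 4 (.node 2 (.node 1 (.leaf (nat_lit 0x0)) (.leaf (nat_lit 0x0))) (.node 1 (.leaf (nat_lit 0x0)) (.leaf (nat_lit 0x0)))) (.node 2 (.node 1 (.leaf (nat_lit 0x0)) (.leaf (nat_lit 0x0))) (.node 1 (.leaf (nat_lit 0x0)) (.leaf (nat_lit 0x0))))) (.node 4 (.node 2 (.node 1 (.leaf (nat_lit 0x0)) (.leaf (nat_lit 0x0))) (.node 1 (.leaf (nat_lit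 0x0)) (.leaf (nat_lit 0x0)))) (.node 2 (.node 1 (.leaf (nat_lit 0x0)) (.leaf (nat_lit 0x0))) (.node 1 (.leaf (nat_lit 0x0)) (.leaf (nat_lit 0x0)))))) (.node 8 (.node 4 (.node 2 (.node 1 (.leaf (nat_lit 0x0)) (.leaf (nat_lit 0x0))) (.node 1 (.leaf (nat_lit 0x0)) (.leaf (nat_lit 0x0)))) (.node 2 (.node 1 (.leaf (nat_lit 0x0)) (.leaf (nat_lit 0x0))) (.node 1 (.leaf (nat_lit 0x0)) (.leaf (nat_lit 0x0))))) (.node 4 (.node 2 (.node 1 (.leaf (nat_lit 0x0)) (.leaf (nat_lit 0x0))) (.node 1 (.leaf (nat_lit 0x0)) (.leaf (nat_lit 0x0)))) (.node 2 (.node 1 (.leaf (nat_lit 0x0)) (.leaf (nat_lit 0x0))) (.node 1 (.leaf (nat_lit 0x0)) (.leaf (nat_lit 0x0)))))))) (.node 32 (.node 16 (.node 8 (.node 4 (.node 2 (.node 1 (.leaf (nat_lit 0x0)) (.leaf (nat_lit 0x0))) (.node 1 (.leaf (nat_lit 0x0)) (.leaf (nat_lit 0x0)))) (.node 2 (.node 1 (.leaf (nat_lit 0x0)) (.leaf (nat_lit 0x0))) (.node 1 (.leaf (nat_lit 0x0)) (.leaf (nat_lit 0x0)))))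 (.node 4 (.node 2 (.node 1 (.leaf (nat_lit 0x0)) (.leaf (nat_lit 0x0))) (.node 1 (.leaf (nat_lit 0x0)) (.leaf (nat_lit 0x0)))) (.node 2 (.node 1 (.leaf (nat_lit 0x0)) (.leaf (nat_lit 0x0))) (.node 1 (.leaf (nat_lit 0x0)) (.leaf (nat_lit 0x0)))))) (.node 8 (.node 4 (.node 2 (.node 1 (.leaf (nat_lit 0x0)) (.leaf (nat_lit 0x0))) (.node 1 (.leaf (nat_lit 0x0)) (.leaf (nat_lit 0x0)))) (.node 2 (.node 1 (.leaf (nat_lit 0x0)) (.leaf (nat_lit 0x0))) (.node 1 (.leaf (nat_lit 0x0)) (.leaf (nat_lit 0x0))))) (.node 4 (.node 2 (.node 1 (.leaf (nat_lit 0x0)) (.leaf (nat_lit 0x0))) (.node 1 (.leaf (nat_lit 0x0)) (.leaf (nat_lit 0x0)))) (.node 2 (.node 1 (.leaf (nat_lit 0x0)) (.leaf (nat_lit 0x0))) (.node 1 (.leaf (nat_lit 0x0)) (.leaf (nat_lit 0x0))))))) (.node 16 (.node 8 (.node 4 (.node 2 (.node 1 (.leaf (nat_lit 0x0)) (.leaf (nat_lit 0x0))) (.node 1 (.leaf (nat_lit 0x0)) (.leaf (nat_lit 0x0)))) (.node 2 (.node 1 (.leaf (nat_lit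 0x0)) (.leaf (nat_lit 0x0))) (.node 1 (.leaf (nat_lit 0x0)) (.leaf (nat_lit 0x0))))) (.node 4 (.node 2 (.node 1 (.leaf (nat_lit 0x0)) (.leaf (nat_lit 0x0))) (.node 1 (.leaf (nat_lit 0x0)) (.leaf (nat_lit 0x0)))) (.node 2 (.node 1 (.leaf (nat_lit 0x0)) (.leaf (nat_lit 0x0))) (.node 1 (.leaf (nat_lit 0x0)) (.leaf (nat_lit 0x0)))))) (.node 8 (.node 4 (.node 2 (.node 1 (.leaf (nat_lit 0x0)) (.leaf (nat_lit 0x0))) (.node 1 (.leaf (nat_lit 0x0)) (.leaf (nat_lit 0x0)))) (.node 2 (.node 1 (.leaf (nat_lit 0x0)) (.leaf (nat_lit 0x0))) (.node 1 (.leaf (nat_lit 0x0)) (.leaf (nat_lit 0x0))))) (.node 4 (.node 2 (.node 1 (.leaf (nat_lit 0x0)) (.leaf (nat_lit 0x0))) (.node 1 (.leaf (nat_lit 0x0)) (.leaf (nat_lit 0x0)))) (.node 2 (.node 1 (.leaf (nat_lit 0x0)) (.leaf (nat_lit 0x0))) (.node 1 (.leaf (nat_lit 0x0)) (.leaf (nat_lit 0x0))))))))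

noncomputable def lvO5_7 : Tree :=
  .node 64 (.node 32 (.node 16 (.node 8 (.node 4 (.node 2 (.node 1 (.leaf (nat_lit 0x0)) (.leaf (nat_lit 0x0))) (.node 1 (.leaf (nat_lit 0x0)) (.leaf (nat_lit 0x0)))) (.node 2 (.node 1 (.leaf (nat_lit 0x0)) (.leaf (nat_lit 0x0))) (.node 1 (.leaf (nat_lit 0x0)) (.leaf (nat_lit 0x0))))) (.node 4 (.node 2 (.node 1 (.leaf (nat_lit 0x0)) (.leaf (nat_lit 0x0))) (.node 1 (.leaf (nat_lit 0x0)) (.leaf (nat_lit 0x0)))) (.node 2 (.node 1 (.leaf (nat_lit 0x0)) (.leaf (nat_lit 0x0))) (.node 1 (.leaf (nat_lit 0x0)) (.leaf (nat_lit 0x0)))))) (.node 8 (.node 4 (.node 2 (.node 1 (.leaf (nat_lit 0x0)) (.leaf (nat_lit 0x0))) (.node 1 (.leaf (nat_lit 0x0)) (.leaf (nat_lit 0x0)))) (.node 2 (.node 1 (.leaf (nat_lit 0x0)) (.leaf (nat_lit 0x0))) (.node 1 (.leaf (nat_lit 0x0)) (.leaf (nat_lit 0x0))))) (.node 4 (.node 2 (.node 1 (.leaf (nat_lit 0x0)) (.leaf (nat_lit 0x0))) (.node 1 (.leaf (nat_lit 0x0))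 (.leaf (nat_lit 0x0)))) (.node 2 (.node 1 (.leaf (nat_lit 0x0)) (.leaf (nat_lit 0x0))) (.node 1 (.leaf (nat_lit 0x0)) (.leaf (nat_lit 0x0))))))) (.node 16 (.node 8 (.node 4 (.node 2 (.node 1 (.leaf (nat_lit 0x0)) (.leaf (nat_lit 0x0))) (.node 1 (.leaf (nat_lit 0x0)) (.leaf (nat_lit 0x0)))) (.node 2 (.node 1 (.leaf (nat_lit 0x0)) (.leaf (nat_lit 0x0))) (.node 1 (.leaf (nat_lit 0x0)) (.leaf (nat_lit 0x0))))) (.node 4 (.node 2 (.node 1 (.leaf (nat_lit 0x0)) (.leaf (nat_lit 0x0))) (.node 1 (.leaf (nat_lit 0x0)) (.leaf (nat_lit 0x0)))) (.node 2 (.node 1 (.leaf (nat_lit 0x0)) (.leaf (nat_lit 0x0))) (.node 1 (.leaf (nat_lit 0x0)) (.leaf (nat_lit 0x0)))))) (.node 8 (.node 4 (.node 2 (.node 1 (.leaf (nat_lit 0x0)) (.leaf (nat_lit 0x0))) (.node 1 (.leaf (nat_lit 0x0)) (.leaf (nat_lit 0x0)))) (.node 2 (.node 1 (.leaf (nat_lit 0x0)) (.leaf (nat_lit 0x0))) (.node 1 (.leaf (nat_lit 0x0)) (.leaf (nat_lit 0x0))))) (.node 4 (.node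 2 (.node 1 (.leaf (nat_lit 0x0)) (.leaf (nat_lit 0x0))) (.node 1 (.leaf (nat_lit 0x0)) (.leaf (nat_lit 0x0)))) (.node 2 (.node 1 (.leaf (nat_lit 0x0)) (.leaf (nat_lit 0x0))) (.node 1 (.leaf (nat_lit 0x0)) (.leaf (nat_lit 0x0)))))))) (.node 32 (.node 16 (.node 8 (.node 4 (.node 2 (.node 1 (.leaf (nat_lit 0x0)) (.leaf (nat_lit 0x0))) (.node 1 (.leaf (nat_lit 0x0)) (.leaf (nat_lit 0x0)))) (.node 2 (.node 1 (.leaf (nat_lit 0x0)) (.leaf (nat_lit 0x0))) (.node 1 (.leaf (nat_lit 0x0)) (.leaf (nat_lit 0x0))))) (.node 4 (.node 2 (.node 1 (.leaf (nat_lit 0x0)) (.leaf (nat_lit 0x0))) (.node 1 (.leaf (nat_lit 0x0)) (.leaf (nat_lit 0x0)))) (.node 2 (.node 1 (.leaf (nat_lit 0x0)) (.leaf (nat_lit 0x0))) (.node 1 (.leaf (nat_lit 0x0)) (.leaf (nat_lit 0x0)))))) (.node 8 (.node 4 (.node 2 (.node 1 (.leaf (nat_lit 0x0)) (.leaf (nat_lit 0x0))) (.node 1 (.leaf (nat_lit 0x0)) (.leaf (nat_lit 0x0)))) (.node 2 (.node 1 (.leaf (nat_lit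 0x0)) (.leaf (nat_lit 0x0))) (.node 1 (.leaf (nat_lit 0x0)) (.leaf (nat_lit 0x0))))) (.node 4 (.node 2 (.node 1 (.leaf (nat_lit 0x0)) (.leaf (nat_lit 0x0))) (.node 1 (.leaf (nat_lit 0x0)) (.leaf (nat_lit 0x0)))) (.node 2 (.node 1 (.leaf (nat_lit 0x0)) (.leaf (nat_lit 0x0))) (.node 1 (.leaf (nat_lit 0x0)) (.leaf (nat_lit 0x0))))))) (.node 16 (.node 8 (.node 4 (.node 2 (.node 1 (.leaf (nat_lit 0x0)) (.leaf (nat_lit 0x0))) (.node 1 (.leaf (nat_lit 0x0)) (.leaf (nat_lit 0x0)))) (.node 2 (.node 1 (.leaf (nat_lit 0x0)) (.leaf (nat_lit 0x0))) (.node 1 (.leaf (nat_lit 0x0)) (.leaf (nat_lit 0x0))))) (.node 4 (.node 2 (.node 1 (.leaf (nat_lit 0x0)) (.leaf (nat_lit 0x0))) (.node 1 (.leaf (nat_lit 0x0)) (.leaf (nat_lit 0x0)))) (.node 2 (.node 1 (.leaf (nat_lit 0x0)) (.leaf (nat_lit 0x0))) (.node 1 (.leaf (nat_lit 0x0)) (.leaf (nat_lit 0x0)))))) (.node 8 (.node 4 (.node 2 (.node 1 (.leaf (nat_lit 0x0)) (.leaf (nat_lit 0x0)))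 (.node 1 (.leaf (nat_lit 0x0)) (.leaf (nat_lit 0x0)))) (.node 2 (.node 1 (.leaf (nat_lit 0x0)) (.leaf (nat_lit 0x0))) (.node 1 (.leaf (nat_lit 0x0)) (.leaf (nat_lit 0x0))))) (.node 4 (.node 2 (.node 1 (.leaf (nat_lit 0x0)) (.leaf (nat_lit 0x0))) (.node 1 (.leaf (nat_lit 0x0)) (.leaf (nat_lit 0x0)))) (.node 2 (.node 1 (.leaf (nat_lit 0x0)) (.leaf (nat_lit 0x0))) (.node 1 (.leaf (nat_lit 0x0)) (.leaf (nat_lit 0x0))))))))

noncomputable def lvO5_8 : Tree :=
  .node 64 (.node 32 (.node 16 (.node 8 (.node 4 (.node 2 (.node 1 (.leaf (nat_lit 0x0)) (.leaf (nat_lit 0x0))) (.node 1 (.leaf (nat_lit 0x0)) (.leaf (nat_lit 0x0)))) (.node 2 (.node 1 (.leaf (nat_lit 0x0)) (.leaf (nat_lit 0x0))) (.node 1 (.leaf (nat_lit 0x0)) (.leaf (nat_lit 0x0))))) (.node 4 (.node 2 (.node 1 (.leaf (nat_lit 0x0)) (.leaf (nat_lit 0x0))) (.node 1 (.leaf (nat_lit 0x0)) (.leaf (nat_lit 0x0)))) (.node 2 (.node 1 (.leaf (nat_lit 0x0)) (.leaf (nat_lit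 0x0))) (.node 1 (.leaf (nat_lit 0x0)) (.leaf (nat_lit 0x0)))))) (.node 8 (.node 4 (.node 2 (.node 1 (.leaf (nat_lit 0x0)) (.leaf (nat_lit 0x0))) (.node 1 (.leaf (nat_lit 0x0)) (.leaf (nat_lit 0x0)))) (.node 2 (.node 1 (.leaf (nat_lit 0x0)) (.leaf (nat_lit 0x0))) (.node 1 (.leaf (nat_lit 0x0)) (.leaf (nat_lit 0x0))))) (.node 4 (.node 2 (.node 1 (.leaf (nat_lit 0x0)) (.leaf (nat_lit 0x0))) (.node 1 (.leaf (nat_lit 0x0)) (.leaf (nat_lit 0x0)))) (.node 2 (.node 1 (.leaf (nat_lit 0x0)) (.leaf (nat_lit 0x0))) (.node 1 (.leaf (nat_lit 0x0)) (.leaf (nat_lit 0x0))))))) (.node 16 (.node 8 (.node 4 (.node 2 (.node 1 (.leaf (nat_lit 0x0)) (.leaf (nat_lit 0x0))) (.node 1 (.leaf (nat_lit 0x0)) (.leaf (nat_lit 0x0)))) (.node 2 (.node 1 (.leaf (nat_lit 0x0)) (.leaf (nat_lit 0x0))) (.node 1 (.leaf (nat_lit 0x0)) (.leaf (nat_lit 0x0))))) (.node 4 (.node 2 (.node 1 (.leaf (nat_lit 0x0)) (.leaf (nat_lit 0x0))) (.node 1 (.leaf (nat_lit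 0x0)) (.leaf (nat_lit 0x0)))) (.node 2 (.node 1 (.leaf (nat_lit 0x0)) (.leaf (nat_lit 0x0))) (.node 1 (.leaf (nat_lit 0x0)) (.leaf (nat_lit 0x0)))))) (.node 8 (.node 4 (.node 2 (.node 1 (.leaf (nat_lit 0x0)) (.leaf (nat_lit 0x0))) (.node 1 (.leaf (nat_lit 0x0)) (.leaf (nat_lit 0x0)))) (.node 2 (.node 1 (.leaf (nat_lit 0x0)) (.leaf (nat_lit 0x0))) (.node 1 (.leaf (nat_lit 0x0)) (.leaf (nat_lit 0x0))))) (.node 4 (.node 2 (.node 1 (.leaf (nat_lit 0x0)) (.leaf (nat_lit 0x0))) (.node 1 (.leaf (nat_lit 0x0)) (.leaf (nat_lit 0x0)))) (.node 2 (.node 1 (.leaf (nat_lit 0x0)) (.leaf (nat_lit 0x0))) (.node 1 (.leaf (nat_lit 0x0)) (.leaf (nat_lit 0x0)))))))) (.node 32 (.node 16 (.node 8 (.node 4 (.node 2 (.node 1 (.leaf (nat_lit 0x0)) (.leaf (nat_lit 0x0))) (.node 1 (.leaf (nat_lit 0x0)) (.leaf (nat_lit 0x0)))) (.node 2 (.node 1 (.leaf (nat_lit 0x0)) (.leaf (nat_lit 0x0))) (.node 1 (.leaf (nat_lit 0x0)) (.leaf (nat_lit 0x0)))))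 (.node 4 (.node 2 (.node 1 (.leaf (nat_lit 0x0)) (.leaf (nat_lit 0x0))) (.node 1 (.leaf (nat_lit 0x0)) (.leaf (nat_lit 0x0)))) (.node 2 (.node 1 (.leaf (nat_lit 0x0)) (.leaf (nat_lit 0x0))) (.node 1 (.leaf (nat_lit 0x0)) (.leaf (nat_lit 0x0)))))) (.node 8 (.node 4 (.node 2 (.node 1 (.leaf (nat_lit 0x0)) (.leaf (nat_lit 0x0))) (.node 1 (.leaf (nat_lit 0x0)) (.leaf (nat_lit 0x0)))) (.node 2 (.node 1 (.leaf (nat_lit 0x0)) (.leaf (nat_lit 0x0))) (.node 1 (.leaf (nat_lit 0x0)) (.leaf (nat_lit 0x0))))) (.node 4 (.node 2 (.node 1 (.leaf (nat_lit 0x0)) (.leaf (nat_lit 0x0))) (.node 1 (.leaf (nat_lit 0x0)) (.leaf (nat_lit 0x0)))) (.node 2 (.node 1 (.leaf (nat_lit 0x0)) (.leaf (nat_lit 0x0))) (.node 1 (.leaf (nat_lit 0x0)) (.leaf (nat_lit 0x0))))))) (.node 16 (.node 8 (.node 4 (.node 2 (.node 1 (.leaf (nat_lit 0x0)) (.leaf (nat_lit 0x0))) (.node 1 (.leaf (nat_lit 0x0)) (.leaf (nat_lit 0x0)))) (.node 2 (.node 1 (.leaf (nat_lit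 0x0)) (.leaf (nat_lit 0x0))) (.node 1 (.leaf (nat_lit 0x0)) (.leaf (nat_lit 0x0))))) (.node 4 (.node 2 (.node 1 (.leaf (nat_lit 0x0)) (.leaf (nat_lit 0x0))) (.node 1 (.leaf (nat_lit 0x0)) (.leaf (nat_lit 0x0)))) (.node 2 (.node 1 (.leaf (nat_lit 0x0)) (.leaf (nat_lit 0x0))) (.node 1 (.leaf (nat_lit 0x0)) (.leaf (nat_lit 0x0)))))) (.node 8 (.node 4 (.node 2 (.node 1 (.leaf (nat_lit 0x0)) (.leaf (nat_lit 0x0))) (.node 1 (.leaf (nat_lit 0x0)) (.leaf (nat_lit 0x0)))) (.node 2 (.node 1 (.leaf (nat_lit 0x0)) (.leaf (nat_lit 0x0))) (.node 1 (.leaf (nat_lit 0x0)) (.leaf (nat_lit 0x0))))) (.node 4 (.node 2 (.node 1 (.leaf (nat_lit 0x0)) (.leaf (nat_lit 0x0))) (.node 1 (.leaf (nat_lit 0x0)) (.leaf (nat_lit 0x0)))) (.node 2 (.node 1 (.leaf (nat_lit 0x0)) (.leaf (nat_lit 0x0))) (.node 1 (.leaf (nat_lit 0x0)) (.leaf (nat_lit 0x0))))))))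

noncomputable def lvO5_9 : Tree :=
  .node 64 (.node 32 (.node 16 (.node 8 (.node 4 (.node 2 (.node 1 (.leaf (nat_lit 0x0)) (.leaf (nat_lit 0x0))) (.node 1 (.leaf (nat_lit 0x0)) (.leaf (nat_lit 0x0)))) (.node 2 (.node 1 (.leaf (nat_lit 0x0)) (.leaf (nat_lit 0x0))) (.node 1 (.leaf (nat_lit 0x0)) (.leaf (nat_lit 0x0))))) (.node 4 (.node 2 (.node 1 (.leaf (nat_lit 0x0)) (.leaf (nat_lit 0x0))) (.node 1 (.leaf (nat_lit 0x0)) (.leaf (nat_lit 0x0)))) (.node 2 (.node 1 (.leaf (nat_lit 0x0)) (.leaf (nat_lit 0x0))) (.node 1 (.leaf (nat_lit 0x0)) (.leaf (nat_lit 0x0)))))) (.node 8 (.node 4 (.node 2 (.node 1 (.leaf (nat_lit 0x0)) (.leaf (nat_lit 0x0))) (.node 1 (.leaf (nat_lit 0x0)) (.leaf (nat_lit 0x0)))) (.node 2 (.node 1 (.leaf (nat_lit 0x0)) (.leaf (nat_lit 0x0))) (.node 1 (.leaf (nat_lit 0x0)) (.leaf (nat_lit 0x0))))) (.node 4 (.node 2 (.node 1 (.leaf (nat_lit 0x0)) (.leaf (nat_lit 0x0))) (.node 1 (.leaf (nat_lit 0x0))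 (.leaf (nat_lit 0x0)))) (.node 2 (.node 1 (.leaf (nat_lit 0x0)) (.leaf (nat_lit 0x0))) (.node 1 (.leaf (nat_lit 0x0)) (.leaf (nat_lit 0x0))))))) (.node 16 (.node 8 (.node 4 (.node 2 (.node 1 (.leaf (nat_lit 0x0)) (.leaf (nat_lit 0x0))) (.node 1 (.leaf (nat_lit 0x0)) (.leaf (nat_lit 0x0)))) (.node 2 (.node 1 (.leaf (nat_lit 0x0)) (.leaf (nat_lit 0x0))) (.node 1 (.leaf (nat_lit 0x0)) (.leaf (nat_lit 0x0))))) (.node 4 (.node 2 (.node 1 (.leaf (nat_lit 0x0)) (.leaf (nat_lit 0x0))) (.node 1 (.leaf (nat_lit 0x0)) (.leaf (nat_lit 0x0)))) (.node 2 (.node 1 (.leaf (nat_lit 0x0)) (.leaf (nat_lit 0x0))) (.node 1 (.leaf (nat_lit 0x0)) (.leaf (nat_lit 0x0)))))) (.node 8 (.node 4 (.node 2 (.node 1 (.leaf (nat_lit 0x0)) (.leaf (nat_lit 0x0))) (.node 1 (.leaf (nat_lit 0x0)) (.leaf (nat_lit 0x0)))) (.node 2 (.node 1 (.leaf (nat_lit 0x0)) (.leaf (nat_lit 0x0))) (.node 1 (.leaf (nat_lit 0x0)) (.leaf (nat_lit 0x0))))) (.node 4 (.node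 2 (.node 1 (.leaf (nat_lit 0x0)) (.leaf (nat_lit 0x0))) (.node 1 (.leaf (nat_lit 0x0)) (.leaf (nat_lit 0x0)))) (.node 2 (.node 1 (.leaf (nat_lit 0x0)) (.leaf (nat_lit 0x0))) (.node 1 (.leaf (nat_lit 0x0)) (.leaf (nat_lit 0x0)))))))) (.node 32 (.node 16 (.node 8 (.node 4 (.node 2 (.node 1 (.leaf (nat_lit 0x0)) (.leaf (nat_lit 0x0))) (.node 1 (.leaf (nat_lit 0x0)) (.leaf (nat_lit 0x0)))) (.node 2 (.node 1 (.leaf (nat_lit 0x0)) (.leaf (nat_lit 0x0))) (.node 1 (.leaf (nat_lit 0x0)) (.leaf (nat_lit 0x0))))) (.node 4 (.node 2 (.node 1 (.leaf (nat_lit 0x0)) (.leaf (nat_lit 0x0))) (.node 1 (.leaf (nat_lit 0x0)) (.leaf (nat_lit 0x0)))) (.node 2 (.node 1 (.leaf (nat_lit 0x0)) (.leaf (nat_lit 0x0))) (.node 1 (.leaf (nat_lit 0x0)) (.leaf (nat_lit 0x0)))))) (.node 8 (.node 4 (.node 2 (.node 1 (.leaf (nat_lit 0x0)) (.leaf (nat_lit 0x0))) (.node 1 (.leaf (nat_lit 0x0)) (.leaf (nat_lit 0x0)))) (.node 2 (.node 1 (.leaf (nat_lit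 0x0)) (.leaf (nat_lit 0x0))) (.node 1 (.leaf (nat_lit 0x0)) (.leaf (nat_lit 0x0))))) (.node 4 (.node 2 (.node 1 (.leaf (nat_lit 0x0)) (.leaf (nat_lit 0x0))) (.node 1 (.leaf (nat_lit 0x0)) (.leaf (nat_lit 0x0)))) (.node 2 (.node 1 (.leaf (nat_lit 0x0)) (.leaf (nat_lit 0x0))) (.node 1 (.leaf (nat_lit 0x0)) (.leaf (nat_lit 0x0))))))) (.node 16 (.node 8 (.node 4 (.node 2 (.node 1 (.leaf (nat_lit 0x0)) (.leaf (nat_lit 0x0))) (.node 1 (.leaf (nat_lit 0x0)) (.leaf (nat_lit 0x0)))) (.node 2 (.node 1 (.leaf (nat_lit 0x0)) (.leaf (nat_lit 0x0))) (.node 1 (.leaf (nat_lit 0x0)) (.leaf (nat_lit 0x0))))) (.node 4 (.node 2 (.node 1 (.leaf (nat_lit 0x0)) (.leaf (nat_lit 0x0))) (.node 1 (.leaf (nat_lit 0x0)) (.leaf (nat_lit 0x0)))) (.node 2 (.node 1 (.leaf (nat_lit 0x0)) (.leaf (nat_lit 0x0))) (.node 1 (.leaf (nat_lit 0x0)) (.leaf (nat_lit 0x0)))))) (.node 8 (.node 4 (.node 2 (.node 1 (.leaf (nat_lit 0x0)) (.leaf (nat_lit 0x0)))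 (.node 1 (.leaf (nat_lit 0x0)) (.leaf (nat_lit 0x0)))) (.node 2 (.node 1 (.leaf (nat_lit 0x0)) (.leaf (nat_lit 0x0))) (.node 1 (.leaf (nat_lit 0x0)) (.leaf (nat_lit 0x0))))) (.node 4 (.node 2 (.node 1 (.leaf (nat_lit 0x0)) (.leaf (nat_lit 0x0))) (.node 1 (.leaf (nat_lit 0x0)) (.leaf (nat_lit 0x0)))) (.node 2 (.node 1 (.leaf (nat_lit 0x0)) (.leaf (nat_lit 0x0))) (.node 1 (.leaf (nat_lit 0x0)) (.leaf (nat_lit 0x0))))))))

noncomputable def lvO5_10 : Tree :=
  .node 64 (.node 32 (.node 16 (.node 8 (.node 4 (.node 2 (.node 1 (.leaf (nat_lit 0x0)) (.leaf (nat_lit 0x0))) (.node 1 (.leaf (nat_lit 0x0)) (.leaf (nat_lit 0x0)))) (.node 2 (.node 1 (.leaf (nat_lit 0x0)) (.leaf (nat_lit 0x0))) (.node 1 (.leaf (nat_lit 0x0)) (.leaf (nat_lit 0x0))))) (.node 4 (.node 2 (.node 1 (.leaf (nat_lit 0x0)) (.leaf (nat_lit 0x0))) (.node 1 (.leaf (nat_lit 0x0)) (.leaf (nat_lit 0x0)))) (.node 2 (.node 1 (.leaf (nat_lit 0x0)) (.leaf (nat_lit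 0x0))) (.node 1 (.leaf (nat_lit 0x0)) (.leaf (nat_lit 0x0)))))) (.node 8 (.node 4 (.node 2 (.node 1 (.leaf (nat_lit 0x0)) (.leaf (nat_lit 0x0))) (.node 1 (.leaf (nat_lit 0x0)) (.leaf (nat_lit 0x0)))) (.node 2 (.node 1 (.leaf (nat_lit 0x0)) (.leaf (nat_lit 0x0))) (.node 1 (.leaf (nat_lit 0x0)) (.leaf (nat_lit 0x0))))) (.node 4 (.node 2 (.node 1 (.leaf (nat_lit 0x0)) (.leaf (nat_lit 0x0))) (.node 1 (.leaf (nat_lit 0x0)) (.leaf (nat_lit 0x0)))) (.node 2 (.node 1 (.leaf (nat_lit 0x0)) (.leaf (nat_lit 0x0))) (.node 1 (.leaf (nat_lit 0x0)) (.leaf (nat_lit 0x0))))))) (.node 16 (.node 8 (.node 4 (.node 2 (.node 1 (.leaf (nat_lit 0x0)) (.leaf (nat_lit 0x0))) (.node 1 (.leaf (nat_lit 0x0)) (.leaf (nat_lit 0x0)))) (.node 2 (.node 1 (.leaf (nat_lit 0x0)) (.leaf (nat_lit 0x0))) (.node 1 (.leaf (nat_lit 0x0)) (.leaf (nat_lit 0x0))))) (.node 4 (.node 2 (.node 1 (.leaf (nat_lit 0x0)) (.leaf (nat_lit 0x0))) (.node 1 (.leaf (nat_lit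 0x0)) (.leaf (nat_lit 0x0)))) (.node 2 (.node 1 (.leaf (nat_lit 0x0)) (.leaf (nat_lit 0x0))) (.node 1 (.leaf (nat_lit 0x0)) (.leaf (nat_lit 0x0)))))) (.node 8 (.node 4 (.node 2 (.node 1 (.leaf (nat_lit 0x0)) (.leaf (nat_lit 0x0))) (.node 1 (.leaf (nat_lit 0x0)) (.leaf (nat_lit 0x0)))) (.node 2 (.node 1 (.leaf (nat_lit 0x0)) (.leaf (nat_lit 0x0))) (.node 1 (.leaf (nat_lit 0x0)) (.leaf (nat_lit 0x0))))) (.node 4 (.node 2 (.node 1 (.leaf (nat_lit 0x0)) (.leaf (nat_lit 0x0))) (.node 1 (.leaf (nat_lit 0x0)) (.leaf (nat_lit 0x0)))) (.node 2 (.node 1 (.leaf (nat_lit 0x0)) (.leaf (nat_lit 0x0))) (.node 1 (.leaf (nat_lit 0x0)) (.leaf (nat_lit 0x0)))))))) (.node 32 (.node 16 (.node 8 (.node 4 (.node 2 (.node 1 (.leaf (nat_lit 0x0)) (.leaf (nat_lit 0x0))) (.node 1 (.leaf (nat_lit 0x0)) (.leaf (nat_lit 0x0)))) (.node 2 (.node 1 (.leaf (nat_lit 0x0)) (.leaf (nat_lit 0x0))) (.node 1 (.leaf (nat_lit 0x0)) (.leaf (nat_lit 0x0)))))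 (.node 4 (.node 2 (.node 1 (.leaf (nat_lit 0x0)) (.leaf (nat_lit 0x0))) (.node 1 (.leaf (nat_lit 0x0)) (.leaf (nat_lit 0x0)))) (.node 2 (.node 1 (.leaf (nat_lit 0x0)) (.leaf (nat_lit 0x0))) (.node 1 (.leaf (nat_lit 0x0)) (.leaf (nat_lit 0x0)))))) (.node 8 (.node 4 (.node 2 (.node 1 (.leaf (nat_lit 0x0)) (.leaf (nat_lit 0x0))) (.node 1 (.leaf (nat_lit 0x0)) (.leaf (nat_lit 0x0)))) (.node 2 (.node 1 (.leaf (nat_lit 0x0)) (.leaf (nat_lit 0x0))) (.node 1 (.leaf (nat_lit 0x0)) (.leaf (nat_lit 0x0))))) (.node 4 (.node 2 (.node 1 (.leaf (nat_lit 0x0)) (.leaf (nat_lit 0x0))) (.node 1 (.leaf (nat_lit 0x0)) (.leaf (nat_lit 0x0)))) (.node 2 (.node 1 (.leaf (nat_lit 0x0)) (.leaf (nat_lit 0x0))) (.node 1 (.leaf (nat_lit 0x0)) (.leaf (nat_lit 0x0))))))) (.node 16 (.node 8 (.node 4 (.node 2 (.node 1 (.leaf (nat_lit 0x0)) (.leaf (nat_lit 0x0))) (.node 1 (.leaf (nat_lit 0x0)) (.leaf (nat_lit 0x0)))) (.node 2 (.node 1 (.leaf (nat_lit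 0x0)) (.leaf (nat_lit 0x0))) (.node 1 (.leaf (nat_lit 0x0)) (.leaf (nat_lit 0x0))))) (.node 4 (.node 2 (.node 1 (.leaf (nat_lit 0x0)) (.leaf (nat_lit 0x0))) (.node 1 (.leaf (nat_lit 0x0)) (.leaf (nat_lit 0x0)))) (.node 2 (.node 1 (.leaf (nat_lit 0x0)) (.leaf (nat_lit 0x0))) (.node 1 (.leaf (nat_lit 0x0)) (.leaf (nat_lit 0x0)))))) (.node 8 (.node 4 (.node 2 (.node 1 (.leaf (nat_lit 0x0)) (.leaf (nat_lit 0x0))) (.node 1 (.leaf (nat_lit 0x0)) (.leaf (nat_lit 0x0)))) (.node 2 (.node 1 (.leaf (nat_lit 0x0)) (.leaf (nat_lit 0x0))) (.node 1 (.leaf (nat_lit 0x0)) (.leaf (nat_lit 0x0))))) (.node 4 (.node 2 (.node 1 (.leaf (nat_lit 0x0)) (.leaf (nat_lit 0x0))) (.node 1 (.leaf (nat_lit 0x0)) (.leaf (nat_lit 0x0)))) (.node 2 (.node 1 (.leaf (nat_lit 0x0)) (.leaf (nat_lit 0x0))) (.node 1 (.leaf (nat_lit 0x0)) (.leaf (nat_lit 0x0))))))))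

noncomputable def lvO5_11 : Tree :=
  .node 64 (.node 32 (.node 16 (.node 8 (.node 4 (.node 2 (.node 1 (.leaf (nat_lit 0x0)) (.leaf (nat_lit 0x0))) (.node 1 (.leaf (nat_lit 0x0)) (.leaf (nat_lit 0x0)))) (.node 2 (.node 1 (.leaf (nat_lit 0x0)) (.leaf (nat_lit 0x0))) (.node 1 (.leaf (nat_lit 0x0)) (.leaf (nat_lit 0x0))))) (.node 4 (.node 2 (.node 1 (.leaf (nat_lit 0x0)) (.leaf (nat_lit 0x0))) (.node 1 (.leaf (nat_lit 0x0)) (.leaf (nat_lit 0x0)))) (.node 2 (.node 1 (.leaf (nat_lit 0x0)) (.leaf (nat_lit 0x0))) (.node 1 (.leaf (nat_lit 0x0)) (.leaf (nat_lit 0x0)))))) (.node 8 (.node 4 (.node 2 (.node 1 (.leaf (nat_lit 0x0)) (.leaf (nat_lit 0x0))) (.node 1 (.leaf (nat_lit 0x0)) (.leaf (nat_lit 0x0)))) (.node 2 (.node 1 (.leaf (nat_lit 0x0)) (.leaf (nat_lit 0x0))) (.node 1 (.leaf (nat_lit 0x0)) (.leaf (nat_lit 0x0))))) (.node 4 (.node 2 (.node 1 (.leaf (nat_lit 0x0)) (.leaf (nat_lit 0x0))) (.node 1 (.leaf (nat_lit 0x0))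 (.leaf (nat_lit 0x0)))) (.node 2 (.node 1 (.leaf (nat_lit 0x0)) (.leaf (nat_lit 0x0))) (.node 1 (.leaf (nat_lit 0x0)) (.leaf (nat_lit 0x0))))))) (.node 16 (.node 8 (.node 4 (.node 2 (.node 1 (.leaf (nat_lit 0x0)) (.leaf (nat_lit 0x0))) (.node 1 (.leaf (nat_lit 0x0)) (.leaf (nat_lit 0x0)))) (.node 2 (.node 1 (.leaf (nat_lit 0x0)) (.leaf (nat_lit 0x0))) (.node 1 (.leaf (nat_lit 0x0)) (.leaf (nat_lit 0x0))))) (.node 4 (.node 2 (.node 1 (.leaf (nat_lit 0x0)) (.leaf (nat_lit 0x0))) (.node 1 (.leaf (nat_lit 0x0)) (.leaf (nat_lit 0x0)))) (.node 2 (.node 1 (.leaf (nat_lit 0x0)) (.leaf (nat_lit 0x0))) (.node 1 (.leaf (nat_lit 0x0)) (.leaf (nat_lit 0x0)))))) (.node 8 (.node 4 (.node 2 (.node 1 (.leaf (nat_lit 0x0)) (.leaf (nat_lit 0x0))) (.node 1 (.leaf (nat_lit 0x0)) (.leaf (nat_lit 0x0)))) (.node 2 (.node 1 (.leaf (nat_lit 0x0)) (.leaf (nat_lit 0x0))) (.node 1 (.leaf (nat_lit 0x0)) (.leaf (nat_lit 0x0))))) (.node 4 (.node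 2 (.node 1 (.leaf (nat_lit 0x0)) (.leaf (nat_lit 0x0))) (.node 1 (.leaf (nat_lit 0x0)) (.leaf (nat_lit 0x0)))) (.node 2 (.node 1 (.leaf (nat_lit 0x0)) (.leaf (nat_lit 0x0))) (.node 1 (.leaf (nat_lit 0x0)) (.leaf (nat_lit 0x0)))))))) (.node 32 (.node 16 (.node 8 (.node 4 (.node 2 (.node 1 (.leaf (nat_lit 0x0)) (.leaf (nat_lit 0x0))) (.node 1 (.leaf (nat_lit 0x0)) (.leaf (nat_lit 0x0)))) (.node 2 (.node 1 (.leaf (nat_lit 0x0)) (.leaf (nat_lit 0x0))) (.node 1 (.leaf (nat_lit 0x0)) (.leaf (nat_lit 0x0))))) (.node 4 (.node 2 (.node 1 (.leaf (nat_lit 0x0)) (.leaf (nat_lit 0x0))) (.node 1 (.leaf (nat_lit 0x0)) (.leaf (nat_lit 0x0)))) (.node 2 (.node 1 (.leaf (nat_lit 0x0)) (.leaf (nat_lit 0x0))) (.node 1 (.leaf (nat_lit 0x0)) (.leaf (nat_lit 0x0)))))) (.node 8 (.node 4 (.node 2 (.node 1 (.leaf (nat_lit 0x0)) (.leaf (nat_lit 0x0))) (.node 1 (.leaf (nat_lit 0x0)) (.leaf (nat_lit 0x0)))) (.node 2 (.node 1 (.leaf (nat_lit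 0x0)) (.leaf (nat_lit 0x0))) (.node 1 (.leaf (nat_lit 0x0)) (.leaf (nat_lit 0x0))))) (.node 4 (.node 2 (.node 1 (.leaf (nat_lit 0x0)) (.leaf (nat_lit 0x0))) (.node 1 (.leaf (nat_lit 0x0)) (.leaf (nat_lit 0x0)))) (.node 2 (.node 1 (.leaf (nat_lit 0x0)) (.leaf (nat_lit 0x0))) (.node 1 (.leaf (nat_lit 0x0)) (.leaf (nat_lit 0x0))))))) (.node 16 (.node 8 (.node 4 (.node 2 (.node 1 (.leaf (nat_lit 0x0)) (.leaf (nat_lit 0x0))) (.node 1 (.leaf (nat_lit 0x0)) (.leaf (nat_lit 0x0)))) (.node 2 (.node 1 (.leaf (nat_lit 0x0)) (.leaf (nat_lit 0x0))) (.node 1 (.leaf (nat_lit 0x0)) (.leaf (nat_lit 0x0))))) (.node 4 (.node 2 (.node 1 (.leaf (nat_lit 0x0)) (.leaf (nat_lit 0x0))) (.node 1 (.leaf (nat_lit 0x0)) (.leaf (nat_lit 0x0)))) (.node 2 (.node 1 (.leaf (nat_lit 0x0)) (.leaf (nat_lit 0x0))) (.node 1 (.leaf (nat_lit 0x0)) (.leaf (nat_lit 0x0)))))) (.node 8 (.node 4 (.node 2 (.node 1 (.leaf (nat_lit 0x0)) (.leaf (nat_lit 0x0)))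 (.node 1 (.leaf (nat_lit 0x0)) (.leaf (nat_lit 0x0)))) (.node 2 (.node 1 (.leaf (nat_lit 0x0)) (.leaf (nat_lit 0x0))) (.node 1 (.leaf (nat_lit 0x0)) (.leaf (nat_lit 0x0))))) (.node 4 (.node 2 (.node 1 (.leaf (nat_lit 0x0)) (.leaf (nat_lit 0x0))) (.node 1 (.leaf (nat_lit 0x0)) (.leaf (nat_lit 0x0)))) (.node 2 (.node 1 (.leaf (nat_lit 0x0)) (.leaf (nat_lit 0x0))) (.node 1 (.leaf (nat_lit 0x0)) (.leaf (nat_lit 0x0))))))))

noncomputable def lvO5_12 : Tree :=
  .node 64 (.node 32 (.node 16 (.node 8 (.node 4 (.node 2 (.node 1 (.leaf (nat_lit 0x0)) (.leaf (nat_lit 0x0))) (.node 1 (.leaf (nat_lit 0x0)) (.leaf (nat_lit 0x0)))) (.node 2 (.node 1 (.leaf (nat_lit 0x0)) (.leaf (nat_lit 0x0))) (.node 1 (.leaf (nat_lit 0x0)) (.leaf (nat_lit 0x0))))) (.node 4 (.node 2 (.node 1 (.leaf (nat_lit 0x0)) (.leaf (nat_lit 0x0))) (.node 1 (.leaf (nat_lit 0x0)) (.leaf (nat_lit 0x0)))) (.node 2 (.node 1 (.leaf (nat_lit 0x0)) (.leaf (nat_lit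 0x0))) (.node 1 (.leaf (nat_lit 0x0)) (.leaf (nat_lit 0x0)))))) (.node 8 (.node 4 (.node 2 (.node 1 (.leaf (nat_lit 0x0)) (.leaf (nat_lit 0x0))) (.node 1 (.leaf (nat_lit 0x0)) (.leaf (nat_lit 0x0)))) (.node 2 (.node 1 (.leaf (nat_lit 0x0)) (.leaf (nat_lit 0x0))) (.node 1 (.leaf (nat_lit 0x0)) (.leaf (nat_lit 0x0))))) (.node 4 (.node 2 (.node 1 (.leaf (nat_lit 0x0)) (.leaf (nat_lit 0x0))) (.node 1 (.leaf (nat_lit 0x0)) (.leaf (nat_lit 0x0)))) (.node 2 (.node 1 (.leaf (nat_lit 0x0)) (.leaf (nat_lit 0x0))) (.node 1 (.leaf (nat_lit 0x0)) (.leaf (nat_lit 0x0))))))) (.node 16 (.node 8 (.node 4 (.node 2 (.node 1 (.leaf (nat_lit 0x0)) (.leaf (nat_lit 0x0))) (.node 1 (.leaf (nat_lit 0x0)) (.leaf (nat_lit 0x0)))) (.node 2 (.node 1 (.leaf (nat_lit 0x0)) (.leaf (nat_lit 0x0))) (.node 1 (.leaf (nat_lit 0x0)) (.leaf (nat_lit 0x0))))) (.node 4 (.node 2 (.node 1 (.leaf (nat_lit 0x0)) (.leaf (nat_lit 0x0))) (.node 1 (.leaf (nat_lit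 0x0)) (.leaf (nat_lit 0x0)))) (.node 2 (.node 1 (.leaf (nat_lit 0x0)) (.leaf (nat_lit 0x0))) (.node 1 (.leaf (nat_lit 0x0)) (.leaf (nat_lit 0x0)))))) (.node 8 (.node 4 (.node 2 (.node 1 (.leaf (nat_lit 0x0)) (.leaf (nat_lit 0x0))) (.node 1 (.leaf (nat_lit 0x0)) (.leaf (nat_lit 0x0)))) (.node 2 (.node 1 (.leaf (nat_lit 0x0)) (.leaf (nat_lit 0x0))) (.node 1 (.leaf (nat_lit 0x0)) (.leaf (nat_lit 0x0))))) (.node 4 (.node 2 (.node 1 (.leaf (nat_lit 0x0)) (.leaf (nat_lit 0x0))) (.node 1 (.leaf (nat_lit 0x0)) (.leaf (nat_lit 0x0)))) (.node 2 (.node 1 (.leaf (nat_lit 0x0)) (.leaf (nat_lit 0x0))) (.node 1 (.leaf (nat_lit 0x0)) (.leaf (nat_lit 0x0)))))))) (.node 32 (.node 16 (.node 8 (.node 4 (.node 2 (.node 1 (.leaf (nat_lit 0x0)) (.leaf (nat_lit 0x0))) (.node 1 (.leaf (nat_lit 0x0)) (.leaf (nat_lit 0x0)))) (.node 2 (.node 1 (.leaf (nat_lit 0x0)) (.leaf (nat_lit 0x0))) (.node 1 (.leaf (nat_lit 0x0)) (.leaf (nat_lit 0x0)))))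 (.node 4 (.node 2 (.node 1 (.leaf (nat_lit 0x0)) (.leaf (nat_lit 0x0))) (.node 1 (.leaf (nat_lit 0x0)) (.leaf (nat_lit 0x0)))) (.node 2 (.node 1 (.leaf (nat_lit 0x0)) (.leaf (nat_lit 0x0))) (.node 1 (.leaf (nat_lit 0x0)) (.leaf (nat_lit 0x0)))))) (.node 8 (.node 4 (.node 2 (.node 1 (.leaf (nat_lit 0x0)) (.leaf (nat_lit 0x0))) (.node 1 (.leaf (nat_lit 0x0)) (.leaf (nat_lit 0x0)))) (.node 2 (.node 1 (.leaf (nat_lit 0x0)) (.leaf (nat_lit 0x0))) (.node 1 (.leaf (nat_lit 0x0)) (.leaf (nat_lit 0x0))))) (.node 4 (.node 2 (.node 1 (.leaf (nat_lit 0x0)) (.leaf (nat_lit 0x0))) (.node 1 (.leaf (nat_lit 0x0)) (.leaf (nat_lit 0x0)))) (.node 2 (.node 1 (.leaf (nat_lit 0x0)) (.leaf (nat_lit 0x0))) (.node 1 (.leaf (nat_lit 0x0)) (.leaf (nat_lit 0x0))))))) (.node 16 (.node 8 (.node 4 (.node 2 (.node 1 (.leaf (nat_lit 0x0)) (.leaf (nat_lit 0x0))) (.node 1 (.leaf (nat_lit 0x0)) (.leaf (nat_lit 0x0)))) (.node 2 (.node 1 (.leaf (nat_lit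 0x0)) (.leaf (nat_lit 0x0))) (.node 1 (.leaf (nat_lit 0x0)) (.leaf (nat_lit 0x0))))) (.node 4 (.node 2 (.node 1 (.leaf (nat_lit 0x0)) (.leaf (nat_lit 0x0))) (.node 1 (.leaf (nat_lit 0x0)) (.leaf (nat_lit 0x0)))) (.node 2 (.node 1 (.leaf (nat_lit 0x0)) (.leaf (nat_lit 0x0))) (.node 1 (.leaf (nat_lit 0x0)) (.leaf (nat_lit 0x0)))))) (.node 8 (.node 4 (.node 2 (.node 1 (.leaf (nat_lit 0x0)) (.leaf (nat_lit 0x0))) (.node 1 (.leaf (nat_lit 0x0)) (.leaf (nat_lit 0x0)))) (.node 2 (.node 1 (.leaf (nat_lit 0x0)) (.leaf (nat_lit 0x0))) (.node 1 (.leaf (nat_lit 0x0)) (.leaf (nat_lit 0x0))))) (.node 4 (.node 2 (.node 1 (.leaf (nat_lit 0x0)) (.leaf (nat_lit 0x0))) (.node 1 (.leaf (nat_lit 0x0)) (.leaf (nat_lit 0x0)))) (.node 2 (.node 1 (.leaf (nat_lit 0x0)) (.leaf (nat_lit 0x0))) (.node 1 (.leaf (nat_lit 0x0)) (.leaf (nat_lit 0x0))))))))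

noncomputable def lvO5_13 : Tree :=
  .node 64 (.node 32 (.node 16 (.node 8 (.node 4 (.node 2 (.node 1 (.leaf (nat_lit 0x0)) (.leaf (nat_lit 0x0))) (.node 1 (.leaf (nat_lit 0x0)) (.leaf (nat_lit 0x0)))) (.node 2 (.node 1 (.leaf (nat_lit 0x0)) (.leaf (nat_lit 0x0))) (.node 1 (.leaf (nat_lit 0x0)) (.leaf (nat_lit 0x0))))) (.node 4 (.node 2 (.node 1 (.leaf (nat_lit 0x0)) (.leaf (nat_lit 0x0))) (.node 1 (.leaf (nat_lit 0x0)) (.leaf (nat_lit 0x0)))) (.node 2 (.node 1 (.leaf (nat_lit 0x0)) (.leaf (nat_lit 0x0))) (.node 1 (.leaf (nat_lit 0x0)) (.leaf (nat_lit 0x0)))))) (.node 8 (.node 4 (.node 2 (.node 1 (.leaf (nat_lit 0x0)) (.leaf (nat_lit 0x0))) (.node 1 (.leaf (nat_lit 0x0)) (.leaf (nat_lit 0x0)))) (.node 2 (.node 1 (.leaf (nat_lit 0x0)) (.leaf (nat_lit 0x0))) (.node 1 (.leaf (nat_lit 0x0)) (.leaf (nat_lit 0x0))))) (.node 4 (.node 2 (.node 1 (.leaf (nat_lit 0x0)) (.leaf (nat_lit 0x0))) (.node 1 (.leaf (nat_lit 0x0))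 (.leaf (nat_lit 0x0)))) (.node 2 (.node 1 (.leaf (nat_lit 0x0)) (.leaf (nat_lit 0x0))) (.node 1 (.leaf (nat_lit 0x0)) (.leaf (nat_lit 0x0))))))) (.node 16 (.node 8 (.node 4 (.node 2 (.node 1 (.leaf (nat_lit 0x0)) (.leaf (nat_lit 0x0))) (.node 1 (.leaf (nat_lit 0x0)) (.leaf (nat_lit 0x0)))) (.node 2 (.node 1 (.leaf (nat_lit 0x0)) (.leaf (nat_lit 0x0))) (.node 1 (.leaf (nat_lit 0x0)) (.leaf (nat_lit 0x0))))) (.node 4 (.node 2 (.node 1 (.leaf (nat_lit 0x0)) (.leaf (nat_lit 0x0))) (.node 1 (.leaf (nat_lit 0x0)) (.leaf (nat_lit 0x0)))) (.node 2 (.node 1 (.leaf (nat_lit 0x0)) (.leaf (nat_lit 0x0))) (.node 1 (.leaf (nat_lit 0x0)) (.leaf (nat_lit 0x0)))))) (.node 8 (.node 4 (.node 2 (.node 1 (.leaf (nat_lit 0x0)) (.leaf (nat_lit 0x0))) (.node 1 (.leaf (nat_lit 0x0)) (.leaf (nat_lit 0x0)))) (.node 2 (.node 1 (.leaf (nat_lit 0x0)) (.leaf (nat_lit 0x0))) (.node 1 (.leaf (nat_lit 0x0)) (.leaf (nat_lit 0x0))))) (.node 4 (.node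 2 (.node 1 (.leaf (nat_lit 0x0)) (.leaf (nat_lit 0x0))) (.node 1 (.leaf (nat_lit 0x0)) (.leaf (nat_lit 0x0)))) (.node 2 (.node 1 (.leaf (nat_lit 0x0)) (.leaf (nat_lit 0x0))) (.node 1 (.leaf (nat_lit 0x0)) (.leaf (nat_lit 0x0)))))))) (.node 32 (.node 16 (.node 8 (.node 4 (.node 2 (.node 1 (.leaf (nat_lit 0x0)) (.leaf (nat_lit 0x0))) (.node 1 (.leaf (nat_lit 0x0)) (.leaf (nat_lit 0x0)))) (.node 2 (.node 1 (.leaf (nat_lit 0x0)) (.leaf (nat_lit 0x0))) (.node 1 (.leaf (nat_lit 0x0)) (.leaf (nat_lit 0x0))))) (.node 4 (.node 2 (.node 1 (.leaf (nat_lit 0x0)) (.leaf (nat_lit 0x0))) (.node 1 (.leaf (nat_lit 0x0)) (.leaf (nat_lit 0x0)))) (.node 2 (.node 1 (.leaf (nat_lit 0x0)) (.leaf (nat_lit 0x0))) (.node 1 (.leaf (nat_lit 0x0)) (.leaf (nat_lit 0x0)))))) (.node 8 (.node 4 (.node 2 (.node 1 (.leaf (nat_lit 0x0)) (.leaf (nat_lit 0x0))) (.node 1 (.leaf (nat_lit 0x0)) (.leaf (nat_lit 0x0)))) (.node 2 (.node 1 (.leaf (nat_lit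 0x0)) (.leaf (nat_lit 0x0))) (.node 1 (.leaf (nat_lit 0x0)) (.leaf (nat_lit 0x0))))) (.node 4 (.node 2 (.node 1 (.leaf (nat_lit 0x0)) (.leaf (nat_lit 0x0))) (.node 1 (.leaf (nat_lit 0x0)) (.leaf (nat_lit 0x0)))) (.node 2 (.node 1 (.leaf (nat_lit 0x0)) (.leaf (nat_lit 0x0))) (.node 1 (.leaf (nat_lit 0x0)) (.leaf (nat_lit 0x0))))))) (.node 16 (.node 8 (.node 4 (.node 2 (.node 1 (.leaf (nat_lit 0x0)) (.leaf (nat_lit 0x0))) (.node 1 (.leaf (nat_lit 0x0)) (.leaf (nat_lit 0x0)))) (.node 2 (.node 1 (.leaf (nat_lit 0x0)) (.leaf (nat_lit 0x0))) (.node 1 (.leaf (nat_lit 0x0)) (.leaf (nat_lit 0x0))))) (.node 4 (.node 2 (.node 1 (.leaf (nat_lit 0x0)) (.leaf (nat_lit 0x0))) (.node 1 (.leaf (nat_lit 0x0)) (.leaf (nat_lit 0x0)))) (.node 2 (.node 1 (.leaf (nat_lit 0x0)) (.leaf (nat_lit 0x0))) (.node 1 (.leaf (nat_lit 0x0)) (.leaf (nat_lit 0x0)))))) (.node 8 (.node 4 (.node 2 (.node 1 (.leaf (nat_lit 0x0)) (.leaf (nat_lit 0x0)))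 (.node 1 (.leaf (nat_lit 0x0)) (.leaf (nat_lit 0x0)))) (.node 2 (.node 1 (.leaf (nat_lit 0x0)) (.leaf (nat_lit 0x0))) (.node 1 (.leaf (nat_lit 0x0)) (.leaf (nat_lit 0x0))))) (.node 4 (.node 2 (.node 1 (.leaf (nat_lit 0x0)) (.leaf (nat_lit 0x0))) (.node 1 (.leaf (nat_lit 0x0)) (.leaf (nat_lit 0x0)))) (.node 2 (.node 1 (.leaf (nat_lit 0x0)) (.leaf (nat_lit 0x0))) (.node 1 (.leaf (nat_lit 0x0)) (.leaf (nat_lit 0x0))))))))

noncomputable def lvO5_14 : Tree :=
  .node 64 (.node 32 (.node 16 (.node 8 (.node 4 (.node 2 (.node 1 (.leaf (nat_lit 0x0)) (.leaf (nat_lit 0x0))) (.node 1 (.leaf (nat_lit 0x0)) (.leaf (nat_lit 0x0)))) (.node 2 (.node 1 (.leaf (nat_lit 0x0)) (.leaf (nat_lit 0x0))) (.node 1 (.leaf (nat_lit 0x0)) (.leaf (nat_lit 0x0))))) (.node 4 (.node 2 (.node 1 (.leaf (nat_lit 0x0)) (.leaf (nat_lit 0x0))) (.node 1 (.leaf (nat_lit 0x0)) (.leaf (nat_lit 0x0)))) (.node 2 (.node 1 (.leaf (nat_lit 0x0)) (.leaf (nat_lit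 0x0))) (.node 1 (.leaf (nat_lit 0x0)) (.leaf (nat_lit 0x0)))))) (.node 8 (.node 4 (.node 2 (.node 1 (.leaf (nat_lit 0x0)) (.leaf (nat_lit 0x0))) (.node 1 (.leaf (nat_lit 0x0)) (.leaf (nat_lit 0x0)))) (.node 2 (.node 1 (.leaf (nat_lit 0x0)) (.leaf (nat_lit 0x0))) (.node 1 (.leaf (nat_lit 0x0)) (.leaf (nat_lit 0x0))))) (.node 4 (.node 2 (.node 1 (.leaf (nat_lit 0x0)) (.leaf (nat_lit 0x0))) (.node 1 (.leaf (nat_lit 0x0)) (.leaf (nat_lit 0x0)))) (.node 2 (.node 1 (.leaf (nat_lit 0x0)) (.leaf (nat_lit 0x0))) (.node 1 (.leaf (nat_lit 0x0)) (.leaf (nat_lit 0x0))))))) (.node 16 (.node 8 (.node 4 (.node 2 (.node 1 (.leaf (nat_lit 0x0)) (.leaf (nat_lit 0x0))) (.node 1 (.leaf (nat_lit 0x0)) (.leaf (nat_lit 0x0)))) (.node 2 (.node 1 (.leaf (nat_lit 0x0)) (.leaf (nat_lit 0x0))) (.node 1 (.leaf (nat_lit 0x0)) (.leaf (nat_lit 0x0))))) (.node 4 (.node 2 (.node 1 (.leaf (nat_lit 0x0)) (.leaf (nat_lit 0x0))) (.node 1 (.leaf (nat_lit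 0x0)) (.leaf (nat_lit 0x0)))) (.node 2 (.node 1 (.leaf (nat_lit 0x0)) (.leaf (nat_lit 0x0))) (.node 1 (.leaf (nat_lit 0x0)) (.leaf (nat_lit 0x0)))))) (.node 8 (.node 4 (.node 2 (.node 1 (.leaf (nat_lit 0x0)) (.leaf (nat_lit 0x0))) (.node 1 (.leaf (nat_lit 0x0)) (.leaf (nat_lit 0x0)))) (.node 2 (.node 1 (.leaf (nat_lit 0x0)) (.leaf (nat_lit 0x0))) (.node 1 (.leaf (nat_lit 0x0)) (.leaf (nat_lit 0x0))))) (.node 4 (.node 2 (.node 1 (.leaf (nat_lit 0x0)) (.leaf (nat_lit 0x0))) (.node 1 (.leaf (nat_lit 0x0)) (.leaf (nat_lit 0x0)))) (.node 2 (.node 1 (.leaf (nat_lit 0x0)) (.leaf (nat_lit 0x0))) (.node 1 (.leaf (nat_lit 0x0)) (.leaf (nat_lit 0x0)))))))) (.node 32 (.node 16 (.node 8 (.node 4 (.node 2 (.node 1 (.leaf (nat_lit 0x0)) (.leaf (nat_lit 0x0))) (.node 1 (.leaf (nat_lit 0x0)) (.leaf (nat_lit 0x0)))) (.node 2 (.node 1 (.leaf (nat_lit 0x0)) (.leaf (nat_lit 0x0))) (.node 1 (.leaf (nat_lit 0x0)) (.leaf (nat_lit 0x0)))))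 (.node 4 (.node 2 (.node 1 (.leaf (nat_lit 0x0)) (.leaf (nat_lit 0x0))) (.node 1 (.leaf (nat_lit 0x0)) (.leaf (nat_lit 0x0)))) (.node 2 (.node 1 (.leaf (nat_lit 0x0)) (.leaf (nat_lit 0x0))) (.node 1 (.leaf (nat_lit 0x0)) (.leaf (nat_lit 0x0)))))) (.node 8 (.node 4 (.node 2 (.node 1 (.leaf (nat_lit 0x0)) (.leaf (nat_lit 0x0))) (.node 1 (.leaf (nat_lit 0x0)) (.leaf (nat_lit 0x0)))) (.node 2 (.node 1 (.leaf (nat_lit 0x0)) (.leaf (nat_lit 0x0))) (.node 1 (.leaf (nat_lit 0x0)) (.leaf (nat_lit 0x0))))) (.node 4 (.node 2 (.node 1 (.leaf (nat_lit 0x0)) (.leaf (nat_lit 0x0))) (.node 1 (.leaf (nat_lit 0x0)) (.leaf (nat_lit 0x0)))) (.node 2 (.node 1 (.leaf (nat_lit 0x0)) (.leaf (nat_lit 0x0))) (.node 1 (.leaf (nat_lit 0x0)) (.leaf (nat_lit 0x0))))))) (.node 16 (.node 8 (.node 4 (.node 2 (.node 1 (.leaf (nat_lit 0x0)) (.leaf (nat_lit 0x0))) (.node 1 (.leaf (nat_lit 0x0)) (.leaf (nat_lit 0x0)))) (.node 2 (.node 1 (.leaf (nat_lit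 0x0)) (.leaf (nat_lit 0x0))) (.node 1 (.leaf (nat_lit 0x0)) (.leaf (nat_lit 0x0))))) (.node 4 (.node 2 (.node 1 (.leaf (nat_lit 0x0)) (.leaf (nat_lit 0x0))) (.node 1 (.leaf (nat_lit 0x0)) (.leaf (nat_lit 0x0)))) (.node 2 (.node 1 (.leaf (nat_lit 0x0)) (.leaf (nat_lit 0x0))) (.node 1 (.leaf (nat_lit 0x0)) (.leaf (nat_lit 0x0)))))) (.node 8 (.node 4 (.node 2 (.node 1 (.leaf (nat_lit 0x0)) (.leaf (nat_lit 0x0))) (.node 1 (.leaf (nat_lit 0x0)) (.leaf (nat_lit 0x0)))) (.node 2 (.node 1 (.leaf (nat_lit 0x0)) (.leaf (nat_lit 0x0))) (.node 1 (.leaf (nat_lit 0x0)) (.leaf (nat_lit 0x0))))) (.node 4 (.node 2 (.node 1 (.leaf (nat_lit 0x0)) (.leaf (nat_lit 0x0))) (.node 1 (.leaf (nat_lit 0x0)) (.leaf (nat_lit 0x0)))) (.node 2 (.node 1 (.leaf (nat_lit 0x0)) (.leaf (nat_lit 0x0))) (.node 1 (.leaf (nat_lit 0x0)) (.leaf (nat_lit 0x0))))))))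

noncomputable def lvO5_15 : Tree :=
  .node 64 (.node 32 (.node 16 (.node 8 (.node 4 (.node 2 (.node 1 (.leaf (nat_lit 0x0)) (.leaf (nat_lit 0x0))) (.node 1 (.leaf (nat_lit 0x0)) (.leaf (nat_lit 0x0)))) (.node 2 (.node 1 (.leaf (nat_lit 0x0)) (.leaf (nat_lit 0x0))) (.node 1 (.leaf (nat_lit 0x0)) (.leaf (nat_lit 0x0))))) (.node 4 (.node 2 (.node 1 (.leaf (nat_lit 0x0)) (.leaf (nat_lit 0x0))) (.node 1 (.leaf (nat_lit 0x0)) (.leaf (nat_lit 0x0)))) (.node 2 (.node 1 (.leaf (nat_lit 0x0)) (.leaf (nat_lit 0x0))) (.node 1 (.leaf (nat_lit 0x0)) (.leaf (nat_lit 0x0)))))) (.node 8 (.node 4 (.node 2 (.node 1 (.leaf (nat_lit 0x0)) (.leaf (nat_lit 0x0))) (.node 1 (.leaf (nat_lit 0x0)) (.leaf (nat_lit 0x0)))) (.node 2 (.node 1 (.leaf (nat_lit 0x0)) (.leaf (nat_lit 0x0))) (.node 1 (.leaf (nat_lit 0x0)) (.leaf (nat_lit 0x0))))) (.node 4 (.node 2 (.node 1 (.leaf (nat_lit 0x0)) (.leaf (nat_lit 0x0))) (.node 1 (.leaf (nat_lit 0x0))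 (.leaf (nat_lit 0x0)))) (.node 2 (.node 1 (.leaf (nat_lit 0x0)) (.leaf (nat_lit 0x0))) (.node 1 (.leaf (nat_lit 0x0)) (.leaf (nat_lit 0x0))))))) (.node 16 (.node 8 (.node 4 (.node 2 (.node 1 (.leaf (nat_lit 0x0)) (.leaf (nat_lit 0x0))) (.node 1 (.leaf (nat_lit 0x0)) (.leaf (nat_lit 0x0)))) (.node 2 (.node 1 (.leaf (nat_lit 0x0)) (.leaf (nat_lit 0x0))) (.node 1 (.leaf (nat_lit 0x0)) (.leaf (nat_lit 0x0))))) (.node 4 (.node 2 (.node 1 (.leaf (nat_lit 0x0)) (.leaf (nat_lit 0x0))) (.node 1 (.leaf (nat_lit 0x0)) (.leaf (nat_lit 0x0)))) (.node 2 (.node 1 (.leaf (nat_lit 0x0)) (.leaf (nat_lit 0x0))) (.node 1 (.leaf (nat_lit 0x0)) (.leaf (nat_lit 0x0)))))) (.node 8 (.node 4 (.node 2 (.node 1 (.leaf (nat_lit 0x0)) (.leaf (nat_lit 0x0))) (.node 1 (.leaf (nat_lit 0x0)) (.leaf (nat_lit 0x0)))) (.node 2 (.node 1 (.leaf (nat_lit 0x0)) (.leaf (nat_lit 0x0))) (.node 1 (.leaf (nat_lit 0x0)) (.leaf (nat_lit 0x0))))) (.node 4 (.node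 2 (.node 1 (.leaf (nat_lit 0x0)) (.leaf (nat_lit 0x0))) (.node 1 (.leaf (nat_lit 0x0)) (.leaf (nat_lit 0x0)))) (.node 2 (.node 1 (.leaf (nat_lit 0x0)) (.leaf (nat_lit 0x0))) (.node 1 (.leaf (nat_lit 0x0)) (.leaf (nat_lit 0x0)))))))) (.node 32 (.node 16 (.node 8 (.node 4 (.node 2 (.node 1 (.leaf (nat_lit 0x0)) (.leaf (nat_lit 0x0))) (.node 1 (.leaf (nat_lit 0x0)) (.leaf (nat_lit 0x0)))) (.node 2 (.node 1 (.leaf (nat_lit 0x0)) (.leaf (nat_lit 0x0))) (.node 1 (.leaf (nat_lit 0x0)) (.leaf (nat_lit 0x0))))) (.node 4 (.node 2 (.node 1 (.leaf (nat_lit 0x0)) (.leaf (nat_lit 0x0))) (.node 1 (.leaf (nat_lit 0x0)) (.leaf (nat_lit 0x0)))) (.node 2 (.node 1 (.leaf (nat_lit 0x0)) (.leaf (nat_lit 0x0))) (.node 1 (.leaf (nat_lit 0x0)) (.leaf (nat_lit 0x0)))))) (.node 8 (.node 4 (.node 2 (.node 1 (.leaf (nat_lit 0x0)) (.leaf (nat_lit 0x0))) (.node 1 (.leaf (nat_lit 0x0)) (.leaf (nat_lit 0x0)))) (.node 2 (.node 1 (.leaf (nat_lit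 0x0)) (.leaf (nat_lit 0x0))) (.node 1 (.leaf (nat_lit 0x0)) (.leaf (nat_lit 0x0))))) (.node 4 (.node 2 (.node 1 (.leaf (nat_lit 0x0)) (.leaf (nat_lit 0x0))) (.node 1 (.leaf (nat_lit 0x0)) (.leaf (nat_lit 0x0)))) (.node 2 (.node 1 (.leaf (nat_lit 0x0)) (.leaf (nat_lit 0x0))) (.node 1 (.leaf (nat_lit 0x0)) (.leaf (nat_lit 0x0))))))) (.node 16 (.node 8 (.node 4 (.node 2 (.node 1 (.leaf (nat_lit 0x0)) (.leaf (nat_lit 0x0))) (.node 1 (.leaf (nat_lit 0x0)) (.leaf (nat_lit 0x0)))) (.node 2 (.node 1 (.leaf (nat_lit 0x0)) (.leaf (nat_lit 0x0))) (.node 1 (.leaf (nat_lit 0x0)) (.leaf (nat_lit 0x0))))) (.node 4 (.node 2 (.node 1 (.leaf (nat_lit 0x0)) (.leaf (nat_lit 0x0))) (.node 1 (.leaf (nat_lit 0x0)) (.leaf (nat_lit 0x0)))) (.node 2 (.node 1 (.leaf (nat_lit 0x0)) (.leaf (nat_lit 0x0))) (.node 1 (.leaf (nat_lit 0x0)) (.leaf (nat_lit 0x0)))))) (.node 8 (.node 4 (.node 2 (.node 1 (.leaf (nat_lit 0x0)) (.leaf (nat_lit 0x0)))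 (.node 1 (.leaf (nat_lit 0x0)) (.leaf (nat_lit 0x0)))) (.node 2 (.node 1 (.leaf (nat_lit 0x0)) (.leaf (nat_lit 0x0))) (.node 1 (.leaf (nat_lit 0x0)) (.leaf (nat_lit 0x0))))) (.node 4 (.node 2 (.node 1 (.leaf (nat_lit 0x0)) (.leaf (nat_lit 0x0))) (.node 1 (.leaf (nat_lit 0x0)) (.leaf (nat_lit 0x0)))) (.node 2 (.node 1 (.leaf (nat_lit 0x0)) (.leaf (nat_lit 0x0))) (.node 1 (.leaf (nat_lit 0x0)) (.leaf (nat_lit 0x0))))))))

noncomputable def lvO5_16 : Tree :=
  .node 64 (.node 32 (.node 16 (.node 8 (.node 4 (.node 2 (.node 1 (.leaf (nat_lit 0x0)) (.leaf (nat_lit 0x0))) (.node 1 (.leaf (nat_lit 0x0)) (.leaf (nat_lit 0x0)))) (.node 2 (.node 1 (.leaf (nat_lit 0x0)) (.leaf (nat_lit 0x0))) (.node 1 (.leaf (nat_lit 0x0)) (.leaf (nat_lit 0x0))))) (.node 4 (.node 2 (.node 1 (.leaf (nat_lit 0x0)) (.leaf (nat_lit 0x0))) (.node 1 (.leaf (nat_lit 0x0)) (.leaf (nat_lit 0x0)))) (.node 2 (.node 1 (.leaf (nat_lit 0x0)) (.leaf (nat_lit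 0x0))) (.node 1 (.leaf (nat_lit 0x0)) (.leaf (nat_lit 0x0)))))) (.node 8 (.node 4 (.node 2 (.node 1 (.leaf (nat_lit 0x0)) (.leaf (nat_lit 0x0))) (.node 1 (.leaf (nat_lit 0x0)) (.leaf (nat_lit 0x0)))) (.node 2 (.node 1 (.leaf (nat_lit 0x0)) (.leaf (nat_lit 0x0))) (.node 1 (.leaf (nat_lit 0x0)) (.leaf (nat_lit 0x0))))) (.node 4 (.node 2 (.node 1 (.leaf (nat_lit 0x0)) (.leaf (nat_lit 0x0))) (.node 1 (.leaf (nat_lit 0x0)) (.leaf (nat_lit 0x0)))) (.node 2 (.node 1 (.leaf (nat_lit 0x0)) (.leaf (nat_lit 0x0))) (.node 1 (.leaf (nat_lit 0x0)) (.leaf (nat_lit 0x0))))))) (.node 16 (.node 8 (.node 4 (.node 2 (.node 1 (.leaf (nat_lit 0x0)) (.leaf (nat_lit 0x0))) (.node 1 (.leaf (nat_lit 0x0)) (.leaf (nat_lit 0x0)))) (.node 2 (.node 1 (.leaf (nat_lit 0x0)) (.leaf (nat_lit 0x0))) (.node 1 (.leaf (nat_lit 0x0)) (.leaf (nat_lit 0x0))))) (.node 4 (.node 2 (.node 1 (.leaf (nat_lit 0x0)) (.leaf (nat_lit 0x0))) (.node 1 (.leaf (nat_lit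 0x0)) (.leaf (nat_lit 0x0)))) (.node 2 (.node 1 (.leaf (nat_lit 0x0)) (.leaf (nat_lit 0x0))) (.node 1 (.leaf (nat_lit 0x0)) (.leaf (nat_lit 0x0)))))) (.node 8 (.node 4 (.node 2 (.node 1 (.leaf (nat_lit 0x0)) (.leaf (nat_lit 0x0))) (.node 1 (.leaf (nat_lit 0x0)) (.leaf (nat_lit 0x0)))) (.node 2 (.node 1 (.leaf (nat_lit 0x0)) (.leaf (nat_lit 0x0))) (.node 1 (.leaf (nat_lit 0x0)) (.leaf (nat_lit 0x0))))) (.node 4 (.node 2 (.node 1 (.leaf (nat_lit 0x0)) (.leaf (nat_lit 0x0))) (.node 1 (.leaf (nat_lit 0x0)) (.leaf (nat_lit 0x0)))) (.node 2 (.node 1 (.leaf (nat_lit 0x0)) (.leaf (nat_lit 0x0))) (.node 1 (.leaf (nat_lit 0x0)) (.leaf (nat_lit 0x0)))))))) (.node 32 (.node 16 (.node 8 (.node 4 (.node 2 (.node 1 (.leaf (nat_lit 0x0)) (.leaf (nat_lit 0x0))) (.node 1 (.leaf (nat_lit 0x0)) (.leaf (nat_lit 0x0)))) (.node 2 (.node 1 (.leaf (nat_lit 0x0)) (.leaf (nat_lit 0x0))) (.node 1 (.leaf (nat_lit 0x0)) (.leaf (nat_lit 0x0)))))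 (.node 4 (.node 2 (.node 1 (.leaf (nat_lit 0x0)) (.leaf (nat_lit 0x0))) (.node 1 (.leaf (nat_lit 0x0)) (.leaf (nat_lit 0x0)))) (.node 2 (.node 1 (.leaf (nat_lit 0x0)) (.leaf (nat_lit 0x0))) (.node 1 (.leaf (nat_lit 0x0)) (.leaf (nat_lit 0x0)))))) (.node 8 (.node 4 (.node 2 (.node 1 (.leaf (nat_lit 0x0)) (.leaf (nat_lit 0x0))) (.node 1 (.leaf (nat_lit 0x0)) (.leaf (nat_lit 0x0)))) (.node 2 (.node 1 (.leaf (nat_lit 0x0)) (.leaf (nat_lit 0x0))) (.node 1 (.leaf (nat_lit 0x0)) (.leaf (nat_lit 0x0))))) (.node 4 (.node 2 (.node 1 (.leaf (nat_lit 0x0)) (.leaf (nat_lit 0x0))) (.node 1 (.leaf (nat_lit 0x0)) (.leaf (nat_lit 0x0)))) (.node 2 (.node 1 (.leaf (nat_lit 0x0)) (.leaf (nat_lit 0x0))) (.node 1 (.leaf (nat_lit 0x0)) (.leaf (nat_lit 0x0))))))) (.node 16 (.node 8 (.node 4 (.node 2 (.node 1 (.leaf (nat_lit 0x0)) (.leaf (nat_lit 0x0))) (.node 1 (.leaf (nat_lit 0x0)) (.leaf (nat_lit 0x0)))) (.node 2 (.node 1 (.leaf (nat_lit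 0x0)) (.leaf (nat_lit 0x0))) (.node 1 (.leaf (nat_lit 0x0)) (.leaf (nat_lit 0x0))))) (.node 4 (.node 2 (.node 1 (.leaf (nat_lit 0x0)) (.leaf (nat_lit 0x0))) (.node 1 (.leaf (nat_lit 0x0)) (.leaf (nat_lit 0x0)))) (.node 2 (.node 1 (.leaf (nat_lit 0x0)) (.leaf (nat_lit 0x0))) (.node 1 (.leaf (nat_lit 0x0)) (.leaf (nat_lit 0x0)))))) (.node 8 (.node 4 (.node 2 (.node 1 (.leaf (nat_lit 0x0)) (.leaf (nat_lit 0x0))) (.node 1 (.leaf (nat_lit 0x0)) (.leaf (nat_lit 0x0)))) (.node 2 (.node 1 (.leaf (nat_lit 0x0)) (.leaf (nat_lit 0x0))) (.node 1 (.leaf (nat_lit 0x0)) (.leaf (nat_lit 0x0))))) (.node 4 (.node 2 (.node 1 (.leaf (nat_lit 0x0)) (.leaf (nat_lit 0x0))) (.node 1 (.leaf (nat_lit 0x0)) (.leaf (nat_lit 0x0)))) (.node 2 (.node 1 (.leaf (nat_lit 0x0)) (.leaf (nat_lit 0x0))) (.node 1 (.leaf (nat_lit 0x0)) (.leaf (nat_lit 0x0))))))))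

noncomputable def lvO5_17 : Tree :=
  .node 64 (.node 32 (.node 16 (.node 8 (.node 4 (.node 2 (.node 1 (.leaf (nat_lit 0x0)) (.leaf (nat_lit 0x0))) (.node 1 (.leaf (nat_lit 0x0)) (.leaf (nat_lit 0x0)))) (.node 2 (.node 1 (.leaf (nat_lit 0x0)) (.leaf (nat_lit 0x0))) (.node 1 (.leaf (nat_lit 0x0)) (.leaf (nat_lit 0x0))))) (.node 4 (.node 2 (.node 1 (.leaf (nat_lit 0x0)) (.leaf (nat_lit 0x0))) (.node 1 (.leaf (nat_lit 0x0)) (.leaf (nat_lit 0x0)))) (.node 2 (.node 1 (.leaf (nat_lit 0x0)) (.leaf (nat_lit 0x0))) (.node 1 (.leaf (nat_lit 0x0)) (.leaf (nat_lit 0x0)))))) (.node 8 (.node 4 (.node 2 (.node 1 (.leaf (nat_lit 0x0)) (.leaf (nat_lit 0x0))) (.node 1 (.leaf (nat_lit 0x0)) (.leaf (nat_lit 0x0)))) (.node 2 (.node 1 (.leaf (nat_lit 0x0)) (.leaf (nat_lit 0x0))) (.node 1 (.leaf (nat_lit 0x0)) (.leaf (nat_lit 0x0))))) (.node 4 (.node 2 (.node 1 (.leaf (nat_lit 0x0)) (.leaf (nat_lit 0x0))) (.node 1 (.leaf (nat_lit 0x0))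 (.leaf (nat_lit 0x0)))) (.node 2 (.node 1 (.leaf (nat_lit 0x0)) (.leaf (nat_lit 0x0))) (.node 1 (.leaf (nat_lit 0x0)) (.leaf (nat_lit 0x0))))))) (.node 16 (.node 8 (.node 4 (.node 2 (.node 1 (.leaf (nat_lit 0x0)) (.leaf (nat_lit 0x0))) (.node 1 (.leaf (nat_lit 0x0)) (.leaf (nat_lit 0x0)))) (.node 2 (.node 1 (.leaf (nat_lit 0x0)) (.leaf (nat_lit 0x0))) (.node 1 (.leaf (nat_lit 0x0)) (.leaf (nat_lit 0x0))))) (.node 4 (.node 2 (.node 1 (.leaf (nat_lit 0x0)) (.leaf (nat_lit 0x0))) (.node 1 (.leaf (nat_lit 0x0)) (.leaf (nat_lit 0x0)))) (.node 2 (.node 1 (.leaf (nat_lit 0x0)) (.leaf (nat_lit 0x0))) (.node 1 (.leaf (nat_lit 0x0)) (.leaf (nat_lit 0x0)))))) (.node 8 (.node 4 (.node 2 (.node 1 (.leaf (nat_lit 0x0)) (.leaf (nat_lit 0x0))) (.node 1 (.leaf (nat_lit 0x0)) (.leaf (nat_lit 0x0)))) (.node 2 (.node 1 (.leaf (nat_lit 0x0)) (.leaf (nat_lit 0x0))) (.node 1 (.leaf (nat_lit 0x0)) (.leaf (nat_lit 0x0))))) (.node 4 (.node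 2 (.node 1 (.leaf (nat_lit 0x0)) (.leaf (nat_lit 0x0))) (.node 1 (.leaf (nat_lit 0x0)) (.leaf (nat_lit 0x0)))) (.node 2 (.node 1 (.leaf (nat_lit 0x0)) (.leaf (nat_lit 0x0))) (.node 1 (.leaf (nat_lit 0x0)) (.leaf (nat_lit 0x0)))))))) (.node 32 (.node 16 (.node 8 (.node 4 (.node 2 (.node 1 (.leaf (nat_lit 0x0)) (.leaf (nat_lit 0x0))) (.node 1 (.leaf (nat_lit 0x0)) (.leaf (nat_lit 0x0)))) (.node 2 (.node 1 (.leaf (nat_lit 0x0)) (.leaf (nat_lit 0x0))) (.node 1 (.leaf (nat_lit 0x0)) (.leaf (nat_lit 0x0))))) (.node 4 (.node 2 (.node 1 (.leaf (nat_lit 0x0)) (.leaf (nat_lit 0x0))) (.node 1 (.leaf (nat_lit 0x0)) (.leaf (nat_lit 0x0)))) (.node 2 (.node 1 (.leaf (nat_lit 0x0)) (.leaf (nat_lit 0x0))) (.node 1 (.leaf (nat_lit 0x0)) (.leaf (nat_lit 0x0)))))) (.node 8 (.node 4 (.node 2 (.node 1 (.leaf (nat_lit 0x0)) (.leaf (nat_lit 0x0))) (.node 1 (.leaf (nat_lit 0x0)) (.leaf (nat_lit 0x0)))) (.node 2 (.node 1 (.leaf (nat_lit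 0x0)) (.leaf (nat_lit 0x0))) (.node 1 (.leaf (nat_lit 0x0)) (.leaf (nat_lit 0x0))))) (.node 4 (.node 2 (.node 1 (.leaf (nat_lit 0x0)) (.leaf (nat_lit 0x0))) (.node 1 (.leaf (nat_lit 0x0)) (.leaf (nat_lit 0x0)))) (.node 2 (.node 1 (.leaf (nat_lit 0x0)) (.leaf (nat_lit 0x0))) (.node 1 (.leaf (nat_lit 0x0)) (.leaf (nat_lit 0x0))))))) (.node 16 (.node 8 (.node 4 (.node 2 (.node 1 (.leaf (nat_lit 0x0)) (.leaf (nat_lit 0x0))) (.node 1 (.leaf (nat_lit 0x0)) (.leaf (nat_lit 0x0)))) (.node 2 (.node 1 (.leaf (nat_lit 0x0)) (.leaf (nat_lit 0x0))) (.node 1 (.leaf (nat_lit 0x0)) (.leaf (nat_lit 0x0))))) (.node 4 (.node 2 (.node 1 (.leaf (nat_lit 0x0)) (.leaf (nat_lit 0x0))) (.node 1 (.leaf (nat_lit 0x0)) (.leaf (nat_lit 0x0)))) (.node 2 (.node 1 (.leaf (nat_lit 0x0)) (.leaf (nat_lit 0x0))) (.node 1 (.leaf (nat_lit 0x0)) (.leaf (nat_lit 0x0)))))) (.node 8 (.node 4 (.node 2 (.node 1 (.leaf (nat_lit 0x0)) (.leaf (nat_lit 0x0)))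 (.node 1 (.leaf (nat_lit 0x0)) (.leaf (nat_lit 0x0)))) (.node 2 (.node 1 (.leaf (nat_lit 0x0)) (.leaf (nat_lit 0x0))) (.node 1 (.leaf (nat_lit 0x0)) (.leaf (nat_lit 0x0))))) (.node 4 (.node 2 (.node 1 (.leaf (nat_lit 0x0)) (.leaf (nat_lit 0x0))) (.node 1 (.leaf (nat_lit 0x0)) (.leaf (nat_lit 0x0)))) (.node 2 (.node 1 (.leaf (nat_lit 0x0)) (.leaf (nat_lit 0x0))) (.node 1 (.leaf (nat_lit 0x0)) (.leaf (nat_lit 0x0))))))))

noncomputable def lvO5_18 : Tree :=
  .node 64 (.node 32 (.node 16 (.node 8 (.node 4 (.node 2 (.node 1 (.leaf (nat_lit 0x0)) (.leaf (nat_lit 0x0))) (.node 1 (.leaf (nat_lit 0x0)) (.leaf (nat_lit 0x0)))) (.node 2 (.node 1 (.leaf (nat_lit 0x0)) (.leaf (nat_lit 0x0))) (.node 1 (.leaf (nat_lit 0x0)) (.leaf (nat_lit 0x0))))) (.node 4 (.node 2 (.node 1 (.leaf (nat_lit 0x0)) (.leaf (nat_lit 0x0))) (.node 1 (.leaf (nat_lit 0x0)) (.leaf (nat_lit 0x0)))) (.node 2 (.node 1 (.leaf (nat_lit 0x0)) (.leaf (nat_lit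 0x0))) (.node 1 (.leaf (nat_lit 0x0)) (.leaf (nat_lit 0x0)))))) (.node 8 (.node 4 (.node 2 (.node 1 (.leaf (nat_lit 0x0)) (.leaf (nat_lit 0x0))) (.node 1 (.leaf (nat_lit 0x0)) (.leaf (nat_lit 0x0)))) (.node 2 (.node 1 (.leaf (nat_lit 0x0)) (.leaf (nat_lit 0x0))) (.node 1 (.leaf (nat_lit 0x0)) (.leaf (nat_lit 0x0))))) (.node 4 (.node 2 (.node 1 (.leaf (nat_lit 0x0)) (.leaf (nat_lit 0x0))) (.node 1 (.leaf (nat_lit 0x0)) (.leaf (nat_lit 0x0)))) (.node 2 (.node 1 (.leaf (nat_lit 0x0)) (.leaf (nat_lit 0x0))) (.node 1 (.leaf (nat_lit 0x0)) (.leaf (nat_lit 0x0))))))) (.node 16 (.node 8 (.node 4 (.node 2 (.node 1 (.leaf (nat_lit 0x0)) (.leaf (nat_lit 0x0))) (.node 1 (.leaf (nat_lit 0x0)) (.leaf (nat_lit 0x0)))) (.node 2 (.node 1 (.leaf (nat_lit 0x0)) (.leaf (nat_lit 0x0))) (.node 1 (.leaf (nat_lit 0x0)) (.leaf (nat_lit 0x0))))) (.node 4 (.node 2 (.node 1 (.leaf (nat_lit 0x0)) (.leaf (nat_lit 0x0))) (.node 1 (.leaf (nat_lit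 0x0)) (.leaf (nat_lit 0x0)))) (.node 2 (.node 1 (.leaf (nat_lit 0x0)) (.leaf (nat_lit 0x0))) (.node 1 (.leaf (nat_lit 0x0)) (.leaf (nat_lit 0x0)))))) (.node 8 (.node 4 (.node 2 (.node 1 (.leaf (nat_lit 0x0)) (.leaf (nat_lit 0x0))) (.node 1 (.leaf (nat_lit 0x0)) (.leaf (nat_lit 0x0)))) (.node 2 (.node 1 (.leaf (nat_lit 0x0)) (.leaf (nat_lit 0x0))) (.node 1 (.leaf (nat_lit 0x0)) (.leaf (nat_lit 0x0))))) (.node 4 (.node 2 (.node 1 (.leaf (nat_lit 0x0)) (.leaf (nat_lit 0x0))) (.node 1 (.leaf (nat_lit 0x0)) (.leaf (nat_lit 0x0)))) (.node 2 (.node 1 (.leaf (nat_lit 0x0)) (.leaf (nat_lit 0x0))) (.node 1 (.leaf (nat_lit 0x0)) (.leaf (nat_lit 0x0)))))))) (.node 32 (.node 16 (.node 8 (.node 4 (.node 2 (.node 1 (.leaf (nat_lit 0x0)) (.leaf (nat_lit 0x0))) (.node 1 (.leaf (nat_lit 0x0)) (.leaf (nat_lit 0x0)))) (.node 2 (.node 1 (.leaf (nat_lit 0x0)) (.leaf (nat_lit 0x0))) (.node 1 (.leaf (nat_lit 0x0)) (.leaf (nat_lit 0x0)))))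 (.node 4 (.node 2 (.node 1 (.leaf (nat_lit 0x0)) (.leaf (nat_lit 0x0))) (.node 1 (.leaf (nat_lit 0x0)) (.leaf (nat_lit 0x0)))) (.node 2 (.node 1 (.leaf (nat_lit 0x0)) (.leaf (nat_lit 0x0))) (.node 1 (.leaf (nat_lit 0x0)) (.leaf (nat_lit 0x0)))))) (.node 8 (.node 4 (.node 2 (.node 1 (.leaf (nat_lit 0x0)) (.leaf (nat_lit 0x0))) (.node 1 (.leaf (nat_lit 0x0)) (.leaf (nat_lit 0x0)))) (.node 2 (.node 1 (.leaf (nat_lit 0x0)) (.leaf (nat_lit 0x0))) (.node 1 (.leaf (nat_lit 0x0)) (.leaf (nat_lit 0x0))))) (.node 4 (.node 2 (.node 1 (.leaf (nat_lit 0x0)) (.leaf (nat_lit 0x0))) (.node 1 (.leaf (nat_lit 0x0)) (.leaf (nat_lit 0x0)))) (.node 2 (.node 1 (.leaf (nat_lit 0x0)) (.leaf (nat_lit 0x0))) (.node 1 (.leaf (nat_lit 0x0)) (.leaf (nat_lit 0x0))))))) (.node 16 (.node 8 (.node 4 (.node 2 (.node 1 (.leaf (nat_lit 0x0)) (.leaf (nat_lit 0x0))) (.node 1 (.leaf (nat_lit 0x0)) (.leaf (nat_lit 0x0)))) (.node 2 (.node 1 (.leaf (nat_lit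 0x0)) (.leaf (nat_lit 0x0))) (.node 1 (.leaf (nat_lit 0x0)) (.leaf (nat_lit 0x0))))) (.node 4 (.node 2 (.node 1 (.leaf (nat_lit 0x0)) (.leaf (nat_lit 0x0))) (.node 1 (.leaf (nat_lit 0x0)) (.leaf (nat_lit 0x0)))) (.node 2 (.node 1 (.leaf (nat_lit 0x0)) (.leaf (nat_lit 0x0))) (.node 1 (.leaf (nat_lit 0x0)) (.leaf (nat_lit 0x0)))))) (.node 8 (.node 4 (.node 2 (.node 1 (.leaf (nat_lit 0x0)) (.leaf (nat_lit 0x0))) (.node 1 (.leaf (nat_lit 0x0)) (.leaf (nat_lit 0x0)))) (.node 2 (.node 1 (.leaf (nat_lit 0x0)) (.leaf (nat_lit 0x0))) (.node 1 (.leaf (nat_lit 0x0)) (.leaf (nat_lit 0x0))))) (.node 4 (.node 2 (.node 1 (.leaf (nat_lit 0x0)) (.leaf (nat_lit 0x0))) (.node 1 (.leaf (nat_lit 0x0)) (.leaf (nat_lit 0x0)))) (.node 2 (.node 1 (.leaf (nat_lit 0x0)) (.leaf (nat_lit 0x0))) (.node 1 (.leaf (nat_lit 0x0)) (.leaf (nat_lit 0x0))))))))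

noncomputable def lvO5_19 : Tree :=
  .node 64 (.node 32 (.node 16 (.node 8 (.node 4 (.node 2 (.node 1 (.leaf (nat_lit 0x0)) (.leaf (nat_lit 0x0))) (.node 1 (.leaf (nat_lit 0x0)) (.leaf (nat_lit 0x0)))) (.node 2 (.node 1 (.leaf (nat_lit 0x0)) (.leaf (nat_lit 0x0))) (.node 1 (.leaf (nat_lit 0x0)) (.leaf (nat_lit 0x0))))) (.node 4 (.node 2 (.node 1 (.leaf (nat_lit 0x0)) (.leaf (nat_lit 0x0))) (.node 1 (.leaf (nat_lit 0x0)) (.leaf (nat_lit 0x0)))) (.node 2 (.node 1 (.leaf (nat_lit 0x0)) (.leaf (nat_lit 0x0))) (.node 1 (.leaf (nat_lit 0x0)) (.leaf (nat_lit 0x0)))))) (.node 8 (.node 4 (.node 2 (.node 1 (.leaf (nat_lit 0x0)) (.leaf (nat_lit 0x0))) (.node 1 (.leaf (nat_lit 0x0)) (.leaf (nat_lit 0x0)))) (.node 2 (.node 1 (.leaf (nat_lit 0x0)) (.leaf (nat_lit 0x0))) (.node 1 (.leaf (nat_lit 0x0)) (.leaf (nat_lit 0x0))))) (.node 4 (.node 2 (.node 1 (.leaf (nat_lit 0x0)) (.leaf (nat_lit 0x0))) (.node 1 (.leaf (nat_lit 0x0))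 (.leaf (nat_lit 0x0)))) (.node 2 (.node 1 (.leaf (nat_lit 0x0)) (.leaf (nat_lit 0x0))) (.node 1 (.leaf (nat_lit 0x0)) (.leaf (nat_lit 0x0))))))) (.node 16 (.node 8 (.node 4 (.node 2 (.node 1 (.leaf (nat_lit 0x0)) (.leaf (nat_lit 0x0))) (.node 1 (.leaf (nat_lit 0x0)) (.leaf (nat_lit 0x0)))) (.node 2 (.node 1 (.leaf (nat_lit 0x0)) (.leaf (nat_lit 0x0))) (.node 1 (.leaf (nat_lit 0x0)) (.leaf (nat_lit 0x0))))) (.node 4 (.node 2 (.node 1 (.leaf (nat_lit 0x0)) (.leaf (nat_lit 0x0))) (.node 1 (.leaf (nat_lit 0x0)) (.leaf (nat_lit 0x0)))) (.node 2 (.node 1 (.leaf (nat_lit 0x0)) (.leaf (nat_lit 0x0))) (.node 1 (.leaf (nat_lit 0x0)) (.leaf (nat_lit 0x0)))))) (.node 8 (.node 4 (.node 2 (.node 1 (.leaf (nat_lit 0x0)) (.leaf (nat_lit 0x0))) (.node 1 (.leaf (nat_lit 0x0)) (.leaf (nat_lit 0x0)))) (.node 2 (.node 1 (.leaf (nat_lit 0x0)) (.leaf (nat_lit 0x0))) (.node 1 (.leaf (nat_lit 0x0)) (.leaf (nat_lit 0x0))))) (.node 4 (.node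 2 (.node 1 (.leaf (nat_lit 0x0)) (.leaf (nat_lit 0x0))) (.node 1 (.leaf (nat_lit 0x0)) (.leaf (nat_lit 0x0)))) (.node 2 (.node 1 (.leaf (nat_lit 0x0)) (.leaf (nat_lit 0x0))) (.node 1 (.leaf (nat_lit 0x0)) (.leaf (nat_lit 0x0)))))))) (.node 32 (.node 16 (.node 8 (.node 4 (.node 2 (.node 1 (.leaf (nat_lit 0x0)) (.leaf (nat_lit 0x0))) (.node 1 (.leaf (nat_lit 0x0)) (.leaf (nat_lit 0x0)))) (.node 2 (.node 1 (.leaf (nat_lit 0x0)) (.leaf (nat_lit 0x0))) (.node 1 (.leaf (nat_lit 0x0)) (.leaf (nat_lit 0x0))))) (.node 4 (.node 2 (.node 1 (.leaf (nat_lit 0x0)) (.leaf (nat_lit 0x0))) (.node 1 (.leaf (nat_lit 0x0)) (.leaf (nat_lit 0x0)))) (.node 2 (.node 1 (.leaf (nat_lit 0x0)) (.leaf (nat_lit 0x0))) (.node 1 (.leaf (nat_lit 0x0)) (.leaf (nat_lit 0x0)))))) (.node 8 (.node 4 (.node 2 (.node 1 (.leaf (nat_lit 0x0)) (.leaf (nat_lit 0x0))) (.node 1 (.leaf (nat_lit 0x0)) (.leaf (nat_lit 0x0)))) (.node 2 (.node 1 (.leaf (nat_lit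 0x0)) (.leaf (nat_lit 0x0))) (.node 1 (.leaf (nat_lit 0x0)) (.leaf (nat_lit 0x0))))) (.node 4 (.node 2 (.node 1 (.leaf (nat_lit 0x0)) (.leaf (nat_lit 0x0))) (.node 1 (.leaf (nat_lit 0x0)) (.leaf (nat_lit 0x0)))) (.node 2 (.node 1 (.leaf (nat_lit 0x0)) (.leaf (nat_lit 0x0))) (.node 1 (.leaf (nat_lit 0x0)) (.leaf (nat_lit 0x0))))))) (.node 16 (.node 8 (.node 4 (.node 2 (.node 1 (.leaf (nat_lit 0x0)) (.leaf (nat_lit 0x0))) (.node 1 (.leaf (nat_lit 0x0)) (.leaf (nat_lit 0x0)))) (.node 2 (.node 1 (.leaf (nat_lit 0x0)) (.leaf (nat_lit 0x0))) (.node 1 (.leaf (nat_lit 0x0)) (.leaf (nat_lit 0x0))))) (.node 4 (.node 2 (.node 1 (.leaf (nat_lit 0x0)) (.leaf (nat_lit 0x0))) (.node 1 (.leaf (nat_lit 0x0)) (.leaf (nat_lit 0x0)))) (.node 2 (.node 1 (.leaf (nat_lit 0x0)) (.leaf (nat_lit 0x0))) (.node 1 (.leaf (nat_lit 0x0)) (.leaf (nat_lit 0x0)))))) (.node 8 (.node 4 (.node 2 (.node 1 (.leaf (nat_lit 0x0)) (.leaf (nat_lit 0x0)))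 (.node 1 (.leaf (nat_lit 0x0)) (.leaf (nat_lit 0x0)))) (.node 2 (.node 1 (.leaf (nat_lit 0x0)) (.leaf (nat_lit 0x0))) (.node 1 (.leaf (nat_lit 0x0)) (.leaf (nat_lit 0x0))))) (.node 4 (.node 2 (.node 1 (.leaf (nat_lit 0x0)) (.leaf (nat_lit 0x0))) (.node 1 (.leaf (nat_lit 0x0)) (.leaf (nat_lit 0x0)))) (.node 2 (.node 1 (.leaf (nat_lit 0x0)) (.leaf (nat_lit 0x0))) (.node 1 (.leaf (nat_lit 0x0)) (.leaf (nat_lit 0x0))))))))

noncomputable def lvO5_20 : Tree :=
  .node 64 (.node 32 (.node 16 (.node 8 (.node 4 (.node 2 (.node 1 (.leaf (nat_lit 0x0)) (.leaf (nat_lit 0x0))) (.node 1 (.leaf (nat_lit 0x0)) (.leaf (nat_lit 0x0)))) (.node 2 (.node 1 (.leaf (nat_lit 0x0)) (.leaf (nat_lit 0x0))) (.node 1 (.leaf (nat_lit 0x0)) (.leaf (nat_lit 0x0))))) (.node 4 (.node 2 (.node 1 (.leaf (nat_lit 0x0)) (.leaf (nat_lit 0x0))) (.node 1 (.leaf (nat_lit 0x0)) (.leaf (nat_lit 0x0)))) (.node 2 (.node 1 (.leaf (nat_lit 0x0)) (.leaf (nat_lit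 0x0))) (.node 1 (.leaf (nat_lit 0x0)) (.leaf (nat_lit 0x0)))))) (.node 8 (.node 4 (.node 2 (.node 1 (.leaf (nat_lit 0x0)) (.leaf (nat_lit 0x0))) (.node 1 (.leaf (nat_lit 0x0)) (.leaf (nat_lit 0x0)))) (.node 2 (.node 1 (.leaf (nat_lit 0x0)) (.leaf (nat_lit 0x0))) (.node 1 (.leaf (nat_lit 0x0)) (.leaf (nat_lit 0x0))))) (.node 4 (.node 2 (.node 1 (.leaf (nat_lit 0x0)) (.leaf (nat_lit 0x0))) (.node 1 (.leaf (nat_lit 0x0)) (.leaf (nat_lit 0x0)))) (.node 2 (.node 1 (.leaf (nat_lit 0x0)) (.leaf (nat_lit 0x0))) (.node 1 (.leaf (nat_lit 0x0)) (.leaf (nat_lit 0x0))))))) (.node 16 (.node 8 (.node 4 (.node 2 (.node 1 (.leaf (nat_lit 0x0)) (.leaf (nat_lit 0x0))) (.node 1 (.leaf (nat_lit 0x0)) (.leaf (nat_lit 0x0)))) (.node 2 (.node 1 (.leaf (nat_lit 0x0)) (.leaf (nat_lit 0x0))) (.node 1 (.leaf (nat_lit 0x0)) (.leaf (nat_lit 0x0))))) (.node 4 (.node 2 (.node 1 (.leaf (nat_lit 0x0)) (.leaf (nat_lit 0x0))) (.node 1 (.leaf (nat_lit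 0x0)) (.leaf (nat_lit 0x0)))) (.node 2 (.node 1 (.leaf (nat_lit 0x0)) (.leaf (nat_lit 0x0))) (.node 1 (.leaf (nat_lit 0x0)) (.leaf (nat_lit 0x0)))))) (.node 8 (.node 4 (.node 2 (.node 1 (.leaf (nat_lit 0x0)) (.leaf (nat_lit 0x0))) (.node 1 (.leaf (nat_lit 0x0)) (.leaf (nat_lit 0x0)))) (.node 2 (.node 1 (.leaf (nat_lit 0x0)) (.leaf (nat_lit 0x0))) (.node 1 (.leaf (nat_lit 0x0)) (.leaf (nat_lit 0x0))))) (.node 4 (.node 2 (.node 1 (.leaf (nat_lit 0x0)) (.leaf (nat_lit 0x0))) (.node 1 (.leaf (nat_lit 0x0)) (.leaf (nat_lit 0x0)))) (.node 2 (.node 1 (.leaf (nat_lit 0x0)) (.leaf (nat_lit 0x0))) (.node 1 (.leaf (nat_lit 0x0)) (.leaf (nat_lit 0x0)))))))) (.node 32 (.node 16 (.node 8 (.node 4 (.node 2 (.node 1 (.leaf (nat_lit 0x0)) (.leaf (nat_lit 0x0))) (.node 1 (.leaf (nat_lit 0x0)) (.leaf (nat_lit 0x0)))) (.node 2 (.node 1 (.leaf (nat_lit 0x0)) (.leaf (nat_lit 0x0))) (.node 1 (.leaf (nat_lit 0x0)) (.leaf (nat_lit 0x0)))))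 (.node 4 (.node 2 (.node 1 (.leaf (nat_lit 0x0)) (.leaf (nat_lit 0x0))) (.node 1 (.leaf (nat_lit 0x0)) (.leaf (nat_lit 0x0)))) (.node 2 (.node 1 (.leaf (nat_lit 0x0)) (.leaf (nat_lit 0x0))) (.node 1 (.leaf (nat_lit 0x0)) (.leaf (nat_lit 0x0)))))) (.node 8 (.node 4 (.node 2 (.node 1 (.leaf (nat_lit 0x0)) (.leaf (nat_lit 0x0))) (.node 1 (.leaf (nat_lit 0x0)) (.leaf (nat_lit 0x0)))) (.node 2 (.node 1 (.leaf (nat_lit 0x0)) (.leaf (nat_lit 0x0))) (.node 1 (.leaf (nat_lit 0x0)) (.leaf (nat_lit 0x0))))) (.node 4 (.node 2 (.node 1 (.leaf (nat_lit 0x0)) (.leaf (nat_lit 0x0))) (.node 1 (.leaf (nat_lit 0x0)) (.leaf (nat_lit 0x0)))) (.node 2 (.node 1 (.leaf (nat_lit 0x0)) (.leaf (nat_lit 0x0))) (.node 1 (.leaf (nat_lit 0x0)) (.leaf (nat_lit 0x0))))))) (.node 16 (.node 8 (.node 4 (.node 2 (.node 1 (.leaf (nat_lit 0x0)) (.leaf (nat_lit 0x0))) (.node 1 (.leaf (nat_lit 0x0)) (.leaf (nat_lit 0x0)))) (.node 2 (.node 1 (.leaf (nat_lit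 0x0)) (.leaf (nat_lit 0x0))) (.node 1 (.leaf (nat_lit 0x0)) (.leaf (nat_lit 0x0))))) (.node 4 (.node 2 (.node 1 (.leaf (nat_lit 0x0)) (.leaf (nat_lit 0x0))) (.node 1 (.leaf (nat_lit 0x0)) (.leaf (nat_lit 0x0)))) (.node 2 (.node 1 (.leaf (nat_lit 0x0)) (.leaf (nat_lit 0x0))) (.node 1 (.leaf (nat_lit 0x0)) (.leaf (nat_lit 0x0)))))) (.node 8 (.node 4 (.node 2 (.node 1 (.leaf (nat_lit 0x0)) (.leaf (nat_lit 0x0))) (.node 1 (.leaf (nat_lit 0x0)) (.leaf (nat_lit 0x0)))) (.node 2 (.node 1 (.leaf (nat_lit 0x0)) (.leaf (nat_lit 0x0))) (.node 1 (.leaf (nat_lit 0x0)) (.leaf (nat_lit 0x0))))) (.node 4 (.node 2 (.node 1 (.leaf (nat_lit 0x0)) (.leaf (nat_lit 0x0))) (.node 1 (.leaf (nat_lit 0x0)) (.leaf (nat_lit 0x0)))) (.node 2 (.node 1 (.leaf (nat_lit 0x0)) (.leaf (nat_lit 0x0))) (.node 1 (.leaf (nat_lit 0x0)) (.leaf (nat_lit 0x0))))))))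

noncomputable def lvO5_21 : Tree :=
  .node 64 (.node 32 (.node 16 (.node 8 (.node 4 (.node 2 (.node 1 (.leaf (nat_lit 0x0)) (.leaf (nat_lit 0x0))) (.node 1 (.leaf (nat_lit 0x0)) (.leaf (nat_lit 0x0)))) (.node 2 (.node 1 (.leaf (nat_lit 0x0)) (.leaf (nat_lit 0x0))) (.node 1 (.leaf (nat_lit 0x0)) (.leaf (nat_lit 0x0))))) (.node 4 (.node 2 (.node 1 (.leaf (nat_lit 0x0)) (.leaf (nat_lit 0x0))) (.node 1 (.leaf (nat_lit 0x0)) (.leaf (nat_lit 0x0)))) (.node 2 (.node 1 (.leaf (nat_lit 0x0)) (.leaf (nat_lit 0x0))) (.node 1 (.leaf (nat_lit 0x0)) (.leaf (nat_lit 0x0)))))) (.node 8 (.node 4 (.node 2 (.node 1 (.leaf (nat_lit 0x0)) (.leaf (nat_lit 0x0))) (.node 1 (.leaf (nat_lit 0x0)) (.leaf (nat_lit 0x0)))) (.node 2 (.node 1 (.leaf (nat_lit 0x0)) (.leaf (nat_lit 0x0))) (.node 1 (.leaf (nat_lit 0x0)) (.leaf (nat_lit 0x0))))) (.node 4 (.node 2 (.node 1 (.leaf (nat_lit 0x0)) (.leaf (nat_lit 0x0))) (.node 1 (.leaf (nat_lit 0x0))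 (.leaf (nat_lit 0x0)))) (.node 2 (.node 1 (.leaf (nat_lit 0x0)) (.leaf (nat_lit 0x0))) (.node 1 (.leaf (nat_lit 0x0)) (.leaf (nat_lit 0x0))))))) (.node 16 (.node 8 (.node 4 (.node 2 (.node 1 (.leaf (nat_lit 0x0)) (.leaf (nat_lit 0x0))) (.node 1 (.leaf (nat_lit 0x0)) (.leaf (nat_lit 0x0)))) (.node 2 (.node 1 (.leaf (nat_lit 0x0)) (.leaf (nat_lit 0x0))) (.node 1 (.leaf (nat_lit 0x0)) (.leaf (nat_lit 0x0))))) (.node 4 (.node 2 (.node 1 (.leaf (nat_lit 0x0)) (.leaf (nat_lit 0x0))) (.node 1 (.leaf (nat_lit 0x0)) (.leaf (nat_lit 0x0)))) (.node 2 (.node 1 (.leaf (nat_lit 0x0)) (.leaf (nat_lit 0x0))) (.node 1 (.leaf (nat_lit 0x0)) (.leaf (nat_lit 0x0)))))) (.node 8 (.node 4 (.node 2 (.node 1 (.leaf (nat_lit 0x0)) (.leaf (nat_lit 0x0))) (.node 1 (.leaf (nat_lit 0x0)) (.leaf (nat_lit 0x0)))) (.node 2 (.node 1 (.leaf (nat_lit 0x0)) (.leaf (nat_lit 0x0))) (.node 1 (.leaf (nat_lit 0x0)) (.leaf (nat_lit 0x0))))) (.node 4 (.node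 2 (.node 1 (.leaf (nat_lit 0x0)) (.leaf (nat_lit 0x0))) (.node 1 (.leaf (nat_lit 0x0)) (.leaf (nat_lit 0x0)))) (.node 2 (.node 1 (.leaf (nat_lit 0x0)) (.leaf (nat_lit 0x0))) (.node 1 (.leaf (nat_lit 0x0)) (.leaf (nat_lit 0x0)))))))) (.node 32 (.node 16 (.node 8 (.node 4 (.node 2 (.node 1 (.leaf (nat_lit 0x0)) (.leaf (nat_lit 0x0))) (.node 1 (.leaf (nat_lit 0x0)) (.leaf (nat_lit 0x0)))) (.node 2 (.node 1 (.leaf (nat_lit 0x0)) (.leaf (nat_lit 0x0))) (.node 1 (.leaf (nat_lit 0x0)) (.leaf (nat_lit 0x0))))) (.node 4 (.node 2 (.node 1 (.leaf (nat_lit 0x0)) (.leaf (nat_lit 0x0))) (.node 1 (.leaf (nat_lit 0x0)) (.leaf (nat_lit 0x0)))) (.node 2 (.node 1 (.leaf (nat_lit 0x0)) (.leaf (nat_lit 0x0))) (.node 1 (.leaf (nat_lit 0x0)) (.leaf (nat_lit 0x0)))))) (.node 8 (.node 4 (.node 2 (.node 1 (.leaf (nat_lit 0x0)) (.leaf (nat_lit 0x0))) (.node 1 (.leaf (nat_lit 0x0)) (.leaf (nat_lit 0x0)))) (.node 2 (.node 1 (.leaf (nat_lit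 0x0)) (.leaf (nat_lit 0x0))) (.node 1 (.leaf (nat_lit 0x0)) (.leaf (nat_lit 0x0))))) (.node 4 (.node 2 (.node 1 (.leaf (nat_lit 0x0)) (.leaf (nat_lit 0x0))) (.node 1 (.leaf (nat_lit 0x0)) (.leaf (nat_lit 0x0)))) (.node 2 (.node 1 (.leaf (nat_lit 0x0)) (.leaf (nat_lit 0x0))) (.node 1 (.leaf (nat_lit 0x0)) (.leaf (nat_lit 0x0))))))) (.node 16 (.node 8 (.node 4 (.node 2 (.node 1 (.leaf (nat_lit 0x0)) (.leaf (nat_lit 0x0))) (.node 1 (.leaf (nat_lit 0x0)) (.leaf (nat_lit 0x0)))) (.node 2 (.node 1 (.leaf (nat_lit 0x0)) (.leaf (nat_lit 0x0))) (.node 1 (.leaf (nat_lit 0x0)) (.leaf (nat_lit 0x0))))) (.node 4 (.node 2 (.node 1 (.leaf (nat_lit 0x0)) (.leaf (nat_lit 0x0))) (.node 1 (.leaf (nat_lit 0x0)) (.leaf (nat_lit 0x0)))) (.node 2 (.node 1 (.leaf (nat_lit 0x0)) (.leaf (nat_lit 0x0))) (.node 1 (.leaf (nat_lit 0x0)) (.leaf (nat_lit 0x0)))))) (.node 8 (.node 4 (.node 2 (.node 1 (.leaf (nat_lit 0x0)) (.leaf (nat_lit 0x0)))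 (.node 1 (.leaf (nat_lit 0x0)) (.leaf (nat_lit 0x0)))) (.node 2 (.node 1 (.leaf (nat_lit 0x0)) (.leaf (nat_lit 0x0))) (.node 1 (.leaf (nat_lit 0x0)) (.leaf (nat_lit 0x0))))) (.node 4 (.node 2 (.node 1 (.leaf (nat_lit 0x0)) (.leaf (nat_lit 0x0))) (.node 1 (.leaf (nat_lit 0x0)) (.leaf (nat_lit 0x0)))) (.node 2 (.node 1 (.leaf (nat_lit 0x0)) (.leaf (nat_lit 0x0))) (.node 1 (.leaf (nat_lit 0x0)) (.leaf (nat_lit 0x0))))))))

noncomputable def lvO5_22 : Tree :=
  .node 64 (.node 32 (.node 16 (.node 8 (.node 4 (.node 2 (.node 1 (.leaf (nat_lit 0x0)) (.leaf (nat_lit 0x0))) (.node 1 (.leaf (nat_lit 0x0)) (.leaf (nat_lit 0x0)))) (.node 2 (.node 1 (.leaf (nat_lit 0x0)) (.leaf (nat_lit 0x0))) (.node 1 (.leaf (nat_lit 0x0)) (.leaf (nat_lit 0x0))))) (.node 4 (.node 2 (.node 1 (.leaf (nat_lit 0x0)) (.leaf (nat_lit 0x0))) (.node 1 (.leaf (nat_lit 0x0)) (.leaf (nat_lit 0x0)))) (.node 2 (.node 1 (.leaf (nat_lit 0x0)) (.leaf (nat_lit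 0x0))) (.node 1 (.leaf (nat_lit 0x0)) (.leaf (nat_lit 0x0)))))) (.node 8 (.node 4 (.node 2 (.node 1 (.leaf (nat_lit 0x0)) (.leaf (nat_lit 0x0))) (.node 1 (.leaf (nat_lit 0x0)) (.leaf (nat_lit 0x0)))) (.node 2 (.node 1 (.leaf (nat_lit 0x0)) (.leaf (nat_lit 0x0))) (.node 1 (.leaf (nat_lit 0x0)) (.leaf (nat_lit 0x0))))) (.node 4 (.node 2 (.node 1 (.leaf (nat_lit 0x0)) (.leaf (nat_lit 0x0))) (.node 1 (.leaf (nat_lit 0x0)) (.leaf (nat_lit 0x0)))) (.node 2 (.node 1 (.leaf (nat_lit 0x0)) (.leaf (nat_lit 0x0))) (.node 1 (.leaf (nat_lit 0x0)) (.leaf (nat_lit 0x0))))))) (.node 16 (.node 8 (.node 4 (.node 2 (.node 1 (.leaf (nat_lit 0x0)) (.leaf (nat_lit 0x0))) (.node 1 (.leaf (nat_lit 0x0)) (.leaf (nat_lit 0x0)))) (.node 2 (.node 1 (.leaf (nat_lit 0x0)) (.leaf (nat_lit 0x0))) (.node 1 (.leaf (nat_lit 0x0)) (.leaf (nat_lit 0x0))))) (.node 4 (.node 2 (.node 1 (.leaf (nat_lit 0x0)) (.leaf (nat_lit 0x0))) (.node 1 (.leaf (nat_lit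 0x0)) (.leaf (nat_lit 0x0)))) (.node 2 (.node 1 (.leaf (nat_lit 0x0)) (.leaf (nat_lit 0x0))) (.node 1 (.leaf (nat_lit 0x0)) (.leaf (nat_lit 0x0)))))) (.node 8 (.node 4 (.node 2 (.node 1 (.leaf (nat_lit 0x0)) (.leaf (nat_lit 0x0))) (.node 1 (.leaf (nat_lit 0x0)) (.leaf (nat_lit 0x0)))) (.node 2 (.node 1 (.leaf (nat_lit 0x0)) (.leaf (nat_lit 0x0))) (.node 1 (.leaf (nat_lit 0x0)) (.leaf (nat_lit 0x0))))) (.node 4 (.node 2 (.node 1 (.leaf (nat_lit 0x0)) (.leaf (nat_lit 0x0))) (.node 1 (.leaf (nat_lit 0x0)) (.leaf (nat_lit 0x0)))) (.node 2 (.node 1 (.leaf (nat_lit 0x0)) (.leaf (nat_lit 0x0))) (.node 1 (.leaf (nat_lit 0x0)) (.leaf (nat_lit 0x0)))))))) (.node 32 (.node 16 (.node 8 (.node 4 (.node 2 (.node 1 (.leaf (nat_lit 0x0)) (.leaf (nat_lit 0x0))) (.node 1 (.leaf (nat_lit 0x0)) (.leaf (nat_lit 0x0)))) (.node 2 (.node 1 (.leaf (nat_lit 0x0)) (.leaf (nat_lit 0x0))) (.node 1 (.leaf (nat_lit 0x0)) (.leaf (nat_lit 0x0)))))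 (.node 4 (.node 2 (.node 1 (.leaf (nat_lit 0x0)) (.leaf (nat_lit 0x0))) (.node 1 (.leaf (nat_lit 0x0)) (.leaf (nat_lit 0x0)))) (.node 2 (.node 1 (.leaf (nat_lit 0x0)) (.leaf (nat_lit 0x0))) (.node 1 (.leaf (nat_lit 0x0)) (.leaf (nat_lit 0x0)))))) (.node 8 (.node 4 (.node 2 (.node 1 (.leaf (nat_lit 0x0)) (.leaf (nat_lit 0x0))) (.node 1 (.leaf (nat_lit 0x0)) (.leaf (nat_lit 0x0)))) (.node 2 (.node 1 (.leaf (nat_lit 0x0)) (.leaf (nat_lit 0x0))) (.node 1 (.leaf (nat_lit 0x0)) (.leaf (nat_lit 0x0))))) (.node 4 (.node 2 (.node 1 (.leaf (nat_lit 0x0)) (.leaf (nat_lit 0x0))) (.node 1 (.leaf (nat_lit 0x0)) (.leaf (nat_lit 0x0)))) (.node 2 (.node 1 (.leaf (nat_lit 0x0)) (.leaf (nat_lit 0x0))) (.node 1 (.leaf (nat_lit 0x0)) (.leaf (nat_lit 0x0))))))) (.node 16 (.node 8 (.node 4 (.node 2 (.node 1 (.leaf (nat_lit 0x0)) (.leaf (nat_lit 0x0))) (.node 1 (.leaf (nat_lit 0x0)) (.leaf (nat_lit 0x0)))) (.node 2 (.node 1 (.leaf (nat_lit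 0x0)) (.leaf (nat_lit 0x0))) (.node 1 (.leaf (nat_lit 0x0)) (.leaf (nat_lit 0x0))))) (.node 4 (.node 2 (.node 1 (.leaf (nat_lit 0x0)) (.leaf (nat_lit 0x0))) (.node 1 (.leaf (nat_lit 0x0)) (.leaf (nat_lit 0x0)))) (.node 2 (.node 1 (.leaf (nat_lit 0x0)) (.leaf (nat_lit 0x0))) (.node 1 (.leaf (nat_lit 0x0)) (.leaf (nat_lit 0x0)))))) (.node 8 (.node 4 (.node 2 (.node 1 (.leaf (nat_lit 0x0)) (.leaf (nat_lit 0x0))) (.node 1 (.leaf (nat_lit 0x0)) (.leaf (nat_lit 0x0)))) (.node 2 (.node 1 (.leaf (nat_lit 0x0)) (.leaf (nat_lit 0x0))) (.node 1 (.leaf (nat_lit 0x0)) (.leaf (nat_lit 0x0))))) (.node 4 (.node 2 (.node 1 (.leaf (nat_lit 0x0)) (.leaf (nat_lit 0x0))) (.node 1 (.leaf (nat_lit 0x0)) (.leaf (nat_lit 0x0)))) (.node 2 (.node 1 (.leaf (nat_lit 0x0)) (.leaf (nat_lit 0x0))) (.node 1 (.leaf (nat_lit 0x0)) (.leaf (nat_lit 0x0))))))))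

noncomputable def lvO5_23 : Tree :=
  .node 64 (.node 32 (.node 16 (.node 8 (.node 4 (.node 2 (.node 1 (.leaf (nat_lit 0x0)) (.leaf (nat_lit 0x0))) (.node 1 (.leaf (nat_lit 0x0)) (.leaf (nat_lit 0x0)))) (.node 2 (.node 1 (.leaf (nat_lit 0x0)) (.leaf (nat_lit 0x0))) (.node 1 (.leaf (nat_lit 0x0)) (.leaf (nat_lit 0x0))))) (.node 4 (.node 2 (.node 1 (.leaf (nat_lit 0x0)) (.leaf (nat_lit 0x0))) (.node 1 (.leaf (nat_lit 0x0)) (.leaf (nat_lit 0x0)))) (.node 2 (.node 1 (.leaf (nat_lit 0x0)) (.leaf (nat_lit 0x0))) (.node 1 (.leaf (nat_lit 0x0)) (.leaf (nat_lit 0x0)))))) (.node 8 (.node 4 (.node 2 (.node 1 (.leaf (nat_lit 0x0)) (.leaf (nat_lit 0x0))) (.node 1 (.leaf (nat_lit 0x0)) (.leaf (nat_lit 0x0)))) (.node 2 (.node 1 (.leaf (nat_lit 0x0)) (.leaf (nat_lit 0x0))) (.node 1 (.leaf (nat_lit 0x0)) (.leaf (nat_lit 0x0))))) (.node 4 (.node 2 (.node 1 (.leaf (nat_lit 0x0)) (.leaf (nat_lit 0x0))) (.node 1 (.leaf (nat_lit 0x0))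 (.leaf (nat_lit 0x0)))) (.node 2 (.node 1 (.leaf (nat_lit 0x0)) (.leaf (nat_lit 0x0))) (.node 1 (.leaf (nat_lit 0x0)) (.leaf (nat_lit 0x0))))))) (.node 16 (.node 8 (.node 4 (.node 2 (.node 1 (.leaf (nat_lit 0x0)) (.leaf (nat_lit 0x0))) (.node 1 (.leaf (nat_lit 0x0)) (.leaf (nat_lit 0x0)))) (.node 2 (.node 1 (.leaf (nat_lit 0x0)) (.leaf (nat_lit 0x0))) (.node 1 (.leaf (nat_lit 0x0)) (.leaf (nat_lit 0x0))))) (.node 4 (.node 2 (.node 1 (.leaf (nat_lit 0x0)) (.leaf (nat_lit 0x0))) (.node 1 (.leaf (nat_lit 0x0)) (.leaf (nat_lit 0x0)))) (.node 2 (.node 1 (.leaf (nat_lit 0x0)) (.leaf (nat_lit 0x0))) (.node 1 (.leaf (nat_lit 0x0)) (.leaf (nat_lit 0x0)))))) (.node 8 (.node 4 (.node 2 (.node 1 (.leaf (nat_lit 0x0)) (.leaf (nat_lit 0x0))) (.node 1 (.leaf (nat_lit 0x0)) (.leaf (nat_lit 0x0)))) (.node 2 (.node 1 (.leaf (nat_lit 0x0)) (.leaf (nat_lit 0x0))) (.node 1 (.leaf (nat_lit 0x0)) (.leaf (nat_lit 0x0))))) (.node 4 (.node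 2 (.node 1 (.leaf (nat_lit 0x0)) (.leaf (nat_lit 0x0))) (.node 1 (.leaf (nat_lit 0x0)) (.leaf (nat_lit 0x0)))) (.node 2 (.node 1 (.leaf (nat_lit 0x0)) (.leaf (nat_lit 0x0))) (.node 1 (.leaf (nat_lit 0x0)) (.leaf (nat_lit 0x0)))))))) (.node 32 (.node 16 (.node 8 (.node 4 (.node 2 (.node 1 (.leaf (nat_lit 0x0)) (.leaf (nat_lit 0x0))) (.node 1 (.leaf (nat_lit 0x0)) (.leaf (nat_lit 0x0)))) (.node 2 (.node 1 (.leaf (nat_lit 0x0)) (.leaf (nat_lit 0x0))) (.node 1 (.leaf (nat_lit 0x0)) (.leaf (nat_lit 0x0))))) (.node 4 (.node 2 (.node 1 (.leaf (nat_lit 0x0)) (.leaf (nat_lit 0x0))) (.node 1 (.leaf (nat_lit 0x0)) (.leaf (nat_lit 0x0)))) (.node 2 (.node 1 (.leaf (nat_lit 0x0)) (.leaf (nat_lit 0x0))) (.node 1 (.leaf (nat_lit 0x0)) (.leaf (nat_lit 0x0)))))) (.node 8 (.node 4 (.node 2 (.node 1 (.leaf (nat_lit 0x0)) (.leaf (nat_lit 0x0))) (.node 1 (.leaf (nat_lit 0x0)) (.leaf (nat_lit 0x0)))) (.node 2 (.node 1 (.leaf (nat_lit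 0x0)) (.leaf (nat_lit 0x0))) (.node 1 (.leaf (nat_lit 0x0)) (.leaf (nat_lit 0x0))))) (.node 4 (.node 2 (.node 1 (.leaf (nat_lit 0x0)) (.leaf (nat_lit 0x0))) (.node 1 (.leaf (nat_lit 0x0)) (.leaf (nat_lit 0x0)))) (.node 2 (.node 1 (.leaf (nat_lit 0x0)) (.leaf (nat_lit 0x0))) (.node 1 (.leaf (nat_lit 0x0)) (.leaf (nat_lit 0x0))))))) (.node 16 (.node 8 (.node 4 (.node 2 (.node 1 (.leaf (nat_lit 0x0)) (.leaf (nat_lit 0x0))) (.node 1 (.leaf (nat_lit 0x0)) (.leaf (nat_lit 0x0)))) (.node 2 (.node 1 (.leaf (nat_lit 0x0)) (.leaf (nat_lit 0x0))) (.node 1 (.leaf (nat_lit 0x0)) (.leaf (nat_lit 0x0))))) (.node 4 (.node 2 (.node 1 (.leaf (nat_lit 0x0)) (.leaf (nat_lit 0x0))) (.node 1 (.leaf (nat_lit 0x0)) (.leaf (nat_lit 0x0)))) (.node 2 (.node 1 (.leaf (nat_lit 0x0)) (.leaf (nat_lit 0x0))) (.node 1 (.leaf (nat_lit 0x0)) (.leaf (nat_lit 0x0)))))) (.node 8 (.node 4 (.node 2 (.node 1 (.leaf (nat_lit 0x0)) (.leaf (nat_lit 0x0)))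 (.node 1 (.leaf (nat_lit 0x0)) (.leaf (nat_lit 0x0)))) (.node 2 (.node 1 (.leaf (nat_lit 0x0)) (.leaf (nat_lit 0x0))) (.node 1 (.leaf (nat_lit 0x0)) (.leaf (nat_lit 0x0))))) (.node 4 (.node 2 (.node 1 (.leaf (nat_lit 0x0)) (.leaf (nat_lit 0x0))) (.node 1 (.leaf (nat_lit 0x0)) (.leaf (nat_lit 0x0)))) (.node 2 (.node 1 (.leaf (nat_lit 0x0)) (.leaf (nat_lit 0x0))) (.node 1 (.leaf (nat_lit 0x0)) (.leaf (nat_lit 0x0))))))))

noncomputable def lvO5_24 : Tree :=
  .node 43 (.node 21 (.node 10 (.node 5 (.node 2 (.node 1 (.leaf (nat_lit 0x0)) (.leaf (nat_lit 0x0))) (.node 1 (.leaf (nat_lit 0x0)) (.node 1 (.leaf (nat_lit 0x0)) (.leaf (nat_lit 0x0))))) (.node 2 (.node 1 (.leaf (nat_lit 0x0)) (.leaf (nat_lit 0x0))) (.node 1 (.leaf (nat_lit 0x0)) (.node 1 (.leaf (nat_lit 0x0)) (.leaf (nat_lit 0x0)))))) (.node 5 (.node 2 (.node 1 (.leaf (nat_lit 0x0)) (.leaf (nat_lit 0x0))) (.node 1 (.leaf (nat_lit 0x0)) (.node 1 (.leaf (nat_lit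 0x0)) (.leaf (nat_lit 0x0))))) (.node 3 (.node 1 (.leaf (nat_lit 0x0)) (.node 1 (.leaf (nat_lit 0x0)) (.leaf (nat_lit 0x0)))) (.node 1 (.leaf (nat_lit 0x0)) (.node 1 (.leaf (nat_lit 0x0)) (.leaf (nat_lit 0x0))))))) (.node 11 (.node 5 (.node 2 (.node 1 (.leaf (nat_lit 0x0)) (.leaf (nat_lit 0x0))) (.node 1 (.leaf (nat_lit 0x0)) (.node 1 (.leaf (nat_lit 0x0)) (.leaf (nat_lit 0x0))))) (.node 3 (.node 1 (.leaf (nat_lit 0x0)) (.node 1 (.leaf (nat_lit 0x0)) (.leaf (nat_lit 0x0)))) (.node 1 (.leaf (nat_lit 0x0)) (.node 1 (.leaf (nat_lit 0x0)) (.leaf (nat_lit 0x0)))))) (.node 5 (.node 2 (.node 1 (.leaf (nat_lit 0x0)) (.leaf (nat_lit 0x0))) (.node 1 (.leaf (nat_lit 0x0)) (.node 1 (.leaf (nat_lit 0x0)) (.leaf (nat_lit 0x0))))) (.node 3 (.node 1 (.leaf (nat_lit 0x0)) (.node 1 (.leaf (nat_lit 0x0)) (.leaf (nat_lit 0x0)))) (.node 1 (.leaf (nat_lit 0x0)) (.node 1 (.leaf (nat_lit 0x0)) (.leaf (nat_lit 0x0)))))))) (.node 22 (.node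 11 (.node 5 (.node 2 (.node 1 (.leaf (nat_lit 0x0)) (.leaf (nat_lit 0x0))) (.node 1 (.leaf (nat_lit 0x0)) (.node 1 (.leaf (nat_lit 0x0)) (.leaf (nat_lit 0x0))))) (.node 3 (.node 1 (.leaf (nat_lit 0x0)) (.node 1 (.leaf (nat_lit 0x0)) (.leaf (nat_lit 0x0)))) (.node 1 (.leaf (nat_lit 0x0)) (.node 1 (.leaf (nat_lit 0x0)) (.leaf (nat_lit 0x0)))))) (.node 5 (.node 2 (.node 1 (.leaf (nat_lit 0x0)) (.leaf (nat_lit 0x0))) (.node 1 (.leaf (nat_lit 0x0)) (.node 1 (.leaf (nat_lit 0x0)) (.leaf (nat_lit 0x0))))) (.node 3 (.node 1 (.leaf (nat_lit 0x0)) (.node 1 (.leaf (nat_lit 0x0)) (.leaf (nat_lit 0x0)))) (.node 1 (.leaf (nat_lit 0x0)) (.node 1 (.leaf (nat_lit 0x0)) (.leaf (nat_lit 0x0))))))) (.node 11 (.node 5 (.node 2 (.node 1 (.leaf (nat_lit 0x0)) (.leaf (nat_lit 0x0))) (.node 1 (.leaf (nat_lit 0x0)) (.node 1 (.leaf (nat_lit 0x0)) (.leaf (nat_lit 0x0))))) (.node 3 (.node 1 (.leaf (nat_lit 0x0)) (.node 1 (.leaf (nat_lit 0x0))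 (.leaf (nat_lit 0x0)))) (.node 1 (.leaf (nat_lit 0x0)) (.node 1 (.leaf (nat_lit 0x0)) (.leaf (nat_lit 0x0)))))) (.node 5 (.node 2 (.node 1 (.leaf (nat_lit 0x0)) (.leaf (nat_lit 0x0))) (.node 1 (.leaf (nat_lit 0x0)) (.node 1 (.leaf (nat_lit 0x0)) (.leaf (nat_lit 0x0))))) (.node 3 (.node 1 (.leaf (nat_lit 0x0)) (.node 1 (.leaf (nat_lit 0x0)) (.leaf (nat_lit 0x0)))) (.node 1 (.leaf (nat_lit 0x0)) (.node 1 (.leaf (nat_lit 0x0)) (.leaf (nat_lit 0x0))))))))

noncomputable def lvO5 : Tree :=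
  .node 1536 (.node 768 (.node 384 (.node 128 (lvO5_0) (.node 128 (lvO5_1) (lvO5_2))) (.node 128 (lvO5_3) (.node 128 (lvO5_4) (lvO5_5)))) (.node 384 (.node 128 (lvO5_6) (.node 128 (lvO5_7) (lvO5_8))) (.node 128 (lvO5_9) (.node 128 (lvO5_10) (lvO5_11))))) (.node 768 (.node 384 (.node 128 (lvO5_12) (.node 128 (lvO5_13) (lvO5_14))) (.node 128 (lvO5_15) (.node 128 (lvO5_16) (lvO5_17)))) (.node 384 (.node 128 (lvO5_18) (.node 128 (lvO5_19) (lvO5_20))) (.node 256 (.node 128 (lvO5_21) (lvO5_22)) (.node 128 (lvO5_23) (lvO5_24)))))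

noncomputable def lvP5_0 : ℕ := nat_lit 0xc4200c4f00c5000c4600c4900c1900c5400c5500c1c00c2a00c1100c0e00c1a00c5200c0a00c1d00c5300c0600c0400c3200c5600c0d00c3300c3100bfd00c1400c1500c1700c1600c2c00c2d00c2f00c2e00c2800c2b00c4000c4300c3f00bd300c3700c3600c3800c3900c3400c4d00bd400c3500bd600bbf00bc500bb700bb600bde00bb100bac00bad00bb000c4700c4e00ba500c4a00c5100ba100c3b00c3a00c3c00c3d00ba800bce00c4c00b9600b9400c4b00c4100bcc00ba300c4800b8d00ba600b8b00c4500bd800c4400b8a00ba900baa00c0000be200be100c3e00bd500bd000bd100b8f00b8e00bd700b7200bd200b7c00b7b00b9c00b6c00b9e00ba000b9f00bc700b6600bc900bea00bdb00bdf00bcb00bca00bc000b5900bc600bff00bfe00b5500be800c2200b5600b5000be900b5700b4900c0500bf700c2700bfc00c2900c3000bf500bfa00bfb00b3b00c1200b3100c0c00be700be600beb00b2b00bed00be300c2500b3c00b2a00b4000b1d00be500c2600b1900b2100b3300b1a00b3400b2700b4100c2400c2300b0b00b0a00b0700b0d00c2100c1e00b0200b0000c1f00c2000afe00c0100c0200c1300b3e00c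0800c1b00af300c0b00af100c1800bef00bee00bf000aeb00bf200b3600ae600ae400af500af400c1000ae200c0f00af700adc00af900ada00bf900bf800c0900ad800c0700c0300b4400b4300ad700ad600afa00acd00afc00b5300b8100b8000b5800ac300b5400bf400bf300b3800abd00b3a00add00b4200ab600b3d00ad900bf600ac200aed00aae00aef00abe00bf100af000b2d00aa600b2f00aec00bec00b6500b6400b4a00a9f00b5100b6000b4800b3000b1c00a9400b2900b2c00be400b7f00bda00bdd00be000b7d00b8200a8c00b6100bdc00a8d00a8700a9000a8400a9100b6300bd900b5f00a7a00b4600a7800b8900b8800b7600bb800bc200a6700ba700b7400bc400bcf00b7800a6000b7a00a6100b9b00a5800bba00bbc00a5600bcd00b5e00b6800a4f00b6a00b5a00bc800bc300b5b00a6500bb900a6a00a4a00a6c00a4900a6900bbd00a5700a3900a3600bc100b5d00a2f00bbb00bbe00a3d00a5a00a3b00a3000a5b00a2e00a4500a6d00a4300b0f00a1c00bb200a7100bb500bb400a1800a1600bb300a1200a1000a1a00a1900baf00a0e00bae00a0b00bab00afd00b8300a0600b8500b9100a0000b93009fe00b9800b9700ba4009fc00ba200b6b00b6e009f500b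7000b6700b9d00a5d009f2009f000a0100b9a009ed00b99009fd00b9500a03009ea00a05009e800b7700b92009e500b9000b7300b8c00b8700b8600a6f009de00a70009e300a08009d700a0a009df00b8400acc00a89009d000a8b00ac800a92009c900a8e00ac400b7e00b7100a62009c100a6400b6d00b79009eb00a6e009bd00a66009bc009e600b75009e4009c7009f8009b8009fa009b7009c200b6f009c0009fb00a52009b300a54009b2009f600b69009f400aa400a7b009aa00a8600aa000b62009a500a9d00a7900a9b00a5500a33009a100a47009a000a5000b5c00a4e00ac700b4b00b4d0099700ac500b4f00b5200ac90099000acb0099100b4e00aa10099500b4c0099a0098c0099c0098b00999009870099d0098500aa300b4700a9c00b450097a00a76009790096c00a730097700b0c00ad300ad500abb00b1100b240095800b2600b220095600b3f00ab900b2800abf0094f00ac100b3700b39009500094e00aea0094700b1400b170094400b3500b2000b3200a9a00aa90094000aab0093f00a9500b2e00a930093c009430093a00b2500b230095700a970095500b120095b00b10009360095d009350095a0093300b180094500b160092400b1f009210092000b1e00a35009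7000a990091a0091900b1500b1b00b130092a0094900971009270091b0094a0097200918009320095e009660092f0095f009640090e00a1e0090800b0e0090500b0400b0300b090090200b0800900008fe0090600b06008fb00b050090300b01008f7008f600aff00acf008f000ad100a0700afb00adf008ed00ae1008eb00ae700af8008e800af600ae300af200aac00ab1008e400ab3008e300aa700aee00aa5008ee00ae9008df00ae8008de008e900ae5008e700abc00ae0008da00ade008d900ab700adb00ab500ad200961008cd0096300ace00ad4008d3008f3008c9008f5008c8008ce00ad0008cc009d500992008c000994009d100aca009cf0099e008bc00996008bb009ca00ac6009c800ab400952008b700954008b600aaf00ac000aad008b3008db00aba00ab8008d8008af008b800ab200ab0008b5008ab008e500aaa00aa8008e2009b00097b008a600989008a5009ab00aa2009a9008a2009a70097800a9e009a40089e0094100a9800a960093e009ce00a7d00a810089000a8300a7f0088e00a8f009cc00a85009d200887009d400a8800a8a00888008860088200a8200a800088f009ad0088d00a7e0089300a7c0087f008950087e008920087c0087b008960089b00878009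af00a7700a75009a600a720087000975009740086f00a2700a2b00a3400865008610096d00a740085b0085a009690086e0086d00a230084f00a20009e000848009e20096000a2100a2400a410084300a4400a3f0084000a6b00a4800a6800a46009c40083c009c60083b00a5f00a6300a5e0083f0083d0083a00a2800a2c0083300a5c0083200a3c00a5900a4c0082f009a200a5300a510099f0082b00a4d0083100a4b00828008270093700a4200a400084100a3e00a25008460085300a220082000845008520081d00a2d008340086600a2a008120081100a3a009230080e00a3800a370091f008670091d0080700a2900a3200a3100a26008680081500814008690080600805008540081b0081a00a1f0084e007fb0090b007fa0090900a1d007f300a1300a1b007ef00a0f00a17007f400a15007eb00a14007ea007f000a11007ee007e7007e500a0d00a0c009da007e1009dc007e0008f100a09008ef009f300a04007dc00a02007db009ee009ff009ec007d8009b4009f9009f7009b1007d4007dd009f1009ef007da007d0009be009e9009e7009bb008d700897007c700899009dd0084b007c40084d007c3009d8009e1009d6007c0007c5009db009d9007c2008c60088a007bb0088c007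ba008c1009d3008bf007b7008bd009cd009cb008ba007b3009b9009c5009c3009b6007b0009bf007cf007ce007ad009ba007b2007b1007aa009b5007d7007d6007a6008a7009ae009ac008a4007a3009a8008a1008a0007a0009a30082e0082d0097d00798008d400792008d60097e009830078e00986009810078b0099b0098a0099800988008c300787008c5007860098f009930098e0078a00788007850098d007800077f00984009820078c009800097f007910079c0097c0077a007900079b007770079d0077500774009760097300968009670086c0076c0076b00914009170091e009280096f0075e008630075d0096e0075f0075700756007520085c0096b0096a0074e0074d008570076a0076900911009300092c007410073f009650090d008d00073b008d20073a008490096200847009310092d007360095c0073500934009590094d007320094c00953009510094b007340072c0073100730007280092900948009460093b00725009420089d0089c007220093d007270072600939009380071f007440071d0082300748008210092e00737007450092b00747009100090f0074600713007120076000916009150070700926009250081000704009220080d0080c007620080a008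09006ff0091c0091300912007630070a0070900764006fe006fd00765007100070f0090c0090a006f6007f8006f5007f6006f40090100907006ec006eb008fc00904008fa006e8006ed008ff008fd006ea006e4008f9006e3008f8007e4006e0007e2008f4008f2007df006dc008e0008ec008ea008dd006d9008e6008aa008a9006d6008e1006db006da006d3008dc008b2008b1007cd00795006ca00797006c9007c8008d5006c6008ca008d1008cf008c7006c3008cb006c5006c4006bf007bc008c4008c2007b9006bc008be007b6007b5006b9008b9008ae008ad008b4006d2006d1008b0006b8006b7008ac006d8006d7006b0008a8007a5007a4008a3007a2007a10089f00724007230087300879008750069d0069b0089a007ca00698007cc0069700793008980087a008760069300894006920087d00891008850068f008840088b008890088300691006890068e0068d008810088000686006a000684006a40087700694006a100874006a30087200871006a20067c0067b006a500679006780076d0086b0086a008560085500768006700066f007fe00801008040080b0066300816008600086400862006610075b0075a0065c006620085f0085e0066500658006570085d00667006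530074f00859008580064f0064e0066e0066d008220081c008190081e008250064500640008510063f008500073e0063c0073c0084c0084a00739006380081f008440084200839006350083e00837008360063200637006360083800634006330062d008350082a00829008300079f0079e0082c0062c0062b0082600644008240064600623006220064a007180064b007160071500647008180081700669007fd007fc0066800617006160066600803008020060f0081300706007050080f007030070200701007000080800800007ff006110061000609006080061500614007f9007f7007f500604006f2006f100603005fe005fc007ec007f2007f1007e9005f9007ed005fb005fa005f5007e8007e6006e2005f2007e3006df006de005ef007de007d3007d2007d9007a9007a8007d5005ee005ed007d1007af007ae006d0006a8005e4006a9005e2006cb007cb007c9006c8005df007c6007bf007be007c1005de005dd005da007bd006be006bd007b8006bb006ba007b4007ac007ab005e8005e7005d5005d4005ec005eb007a7006af006ae006ad006ac0062a00629006cd006cf005ca005cc007700077b0077600773007780077d005bf005ba0079a005b900799005b60069900796007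9400696005b2007790078f0078d00784005af007890078200781005ac005b1005b000783005ae005ad0077e005be0077c005c0005a4005a3005c4005c50067e005c10077200771005c70076f0076e005c600599005980059700596006720067100767007660074a007490058f0058e0066a007110070e007510070b007550058000761007580075c0057f0057e0065e0065d00759005830057700582007540075300573005720065400750005850056e0056d0074c0074b0056b0058d00717007190056400562007140071c007430071e0055f005600055b00742007400063e005580073d0063b0063a00555007380072e0072d007330072b0072a0072f00554005530055200551007290072100720006ab006aa0054d0054c0056700625005610071b0071a005860054500544005680061d0061c005880061a00619005870070d0070c006f8006f70053c0053b006fc006fb007080060e0060d0060c0060b0060a006fa006f900538005330053a006f3006f0006020052f0052e00529006ef00527006ee006e7006e6006e9005260052500522006e5005f4005f3006e1005f1005f0006dd006d5006d4006b2006b10051d0051c006b6006b500517005e5006ce00515006cc005e1005e0006c7006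c2006c10051200511006c0005d9005d8005d7005d6006b4006b3005190050c0051b005d0005cf005ce0054b006a6005cb006a700504005050067a006770067f00680004f6004f40067d006830069f00685004f1004f2004ed0069e0069c005b8004ea0069a005b5005b4004e7006950068b0068a0069000688006870068c004e6004e5004e4004e3004f9005a6004f30068200681004fd004db004da004fa0059e004ff0059c0059b004fe00676006750067400673004d2004d1004d00059200591005900066c0066b0064c004ca0058b0058a005890061b006180062100652004c30065b00659004b700664006600065f004b3004b20057b004bd004ae004b60065a004ba004a8004a70065600655004a500570004c40065100650004a10064d0049f004c90061e006260049b00497006490049500648006240064200643004940049300490006410055a005590063d00557005560063900631006300062f0062e0048b0048a004890062800627005cd004860049c0054800547004bc006200061f0047f0047e004be005400053f0053e0053d0061300612006050047900607005370053600535005340060600476004720047800601006000052d0046e0046d00469005ff00528005fd005f8005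f70046600465005f600521005200051f0051e005ea005e9005d100460005d30045c005e600516005e30051400513005dc005db004580050f0050e0050d005d20045d004540045f005080050700485005c8005c9005030044b0044d004470059d0059a005a2004420043e0059f005a70043900435005c300433005c2005a5005bc005bd00432004310042e005bb004ec004eb005b7004e9004e8005b3005ab005aa005a9005a80042900428004270043a004de004dd00441005a1005a0004200041f00443004d6004d5004d4004d30059500594005930041a00419004cd004cc004cb0058c0056900413004c70040a004c50056f005840040500403004c000400005410057a00546003fa00576004100040c0058100578003f6003f30057d0057c003f0004b0003f900579003fc003eb003ea003f20040d0057500574003e600571003e400407004060056c003e10056a003df004120054900566003dc003db003d70056500496005630055e0055d003d4003d30055c0048f0048e0048d0048c005500054f0054e003ce003cd0054a00506003ca00483003fd00481004800054300542003c30047c0047b0047a0053900530003bf0053200475004740047300531003bc003b8003be0052c0052b003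b3003b2003b00052a00468004670052400523003ad0046300462004610051a00509003a90050b005180045b0045a0045900510003a200456004550050a003a60039e003a8004500044f003c9005010044c005020044a00449004480050000395003960038c004d7004fc004dc0038600385004fb00388003800037f004df004f80037d0037c00378004f700434004f5004f0004ef0037500374004ee0042d0042c0042b0042a004e2004e1004e00036f0036e00424003890042200421004d9004d8003670041d0041c0041b004cf004ce0036300362004160041500414004c80049d0035c004b9003560040e004a9004b80034e004c60034c00408004a3004a2004c200348004c10034600401004bf003970034400482004ad00352004bb004af003400033d004b50035900358004b4004aa00338004b100336003ee0033c00353004ac004ab00330003500034f004a60032d004a40032b00349004a0003280049e003260035b0049a0049900324003230032100498003d6003d500492004910031e003d1003d0003cf00488004870031a00319004840044e0031600343003c6003c5003c40047d00310003c1003c0004770046f0030c00471003bb003ba003b90047000309003060030b003b4004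6c0046b003040046a003af003ae0046400300003ab003aa0045e00451002fc00453003a5003a4003a300457002f6003a00039f00452002f9002f2002fb0039a0039900315003ff004450044600394003930039200391003900038f0038e0038d00444002ef002e4004230043d002df004400043f002da002d7002d6002e00043c0043b002d10043800437002ce002cd002cb004360037700376004300042f002c80037200371003700042600425002c4002c3002dd0036a00369003680041e002bd00365003640041800417002b9002b80035f0035e0035d00411003dd002b4003f5003f4002ae0040f002ac00354003ec003fb002a7003e8003e70040b002a400409002a20034a003e2004040029f004020029d003fe003c70029b00298003f8002b3002b2003f7003ed00295002b0002af003f100292003ef00290003340029a002a9002a8003e90028b002a5003e500288003e300286002a0003e000284003de00325003da003d900282003d8003200031f003d20027e0031c0031b003cc003cb0027a00279003c80039800277003130031200311003c2002740030e0030d003bd003b500270003b70030800307003b600305003b10026d0030200301003ac00269002fe002fd003a70039b002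650039d002f8002f7003a100262002f4002f30039c002f1002f00038b002ee002ed002ec002eb002ea002e9002e8002e7002e6002e50038a0025f002e20025300381003870024a0036b0024700244003840024f0024e003830038200241002460024c0024b0037e0023c002cf0037b0037a0023900379002ca002c90037300235002c6002c50036d0036c0023100230002c0002bf002be003660022c002bb002ba003610036000228002b6002b50035a0033f0033e002220033a00339003570021f003550021d002aa003320033100351002180032e0034d002150034b00213003290034700211003450022500342003330020f0034100224002230033b0020b00220003370020800335002060021b0021a002190032f00203002160032c002000032a00212003270028300322001fd002800027f0031d001f90027c0027b0031800317001f50031400276002750030f001f200272002710030a0026f0026e00303001ef0026b0026a002ff001eb0026700266002fa0026400263002f50026100260002e30025e0025d0025c0025b0025a002590025800257002560025500254002e1001e5001d6001d5002d9002d8001cf002d3002d2002de001ca001d2002dc002d4001c7002db001d1001d0002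d5001c3001cd001cc001cb002d0001bf0023a002cc001bc0023700236002c7001b80023300232002c2002c1001b40022e0022d002bc001b10022a00229002b700227001ae0029c0029700296002b1001aa00293002ad001a7002ab001a50028e0028d0028c002a6001a200289002a30019f002a1002850029e001af002990019c001ac001ab0029400198001a800291001950028f001a4001a30028a00192001a0002870019e001fe002810018f001fb001fa0027d0018b001f7001f600278001f4001f300273001f1001f00026c00185001ed001ec00268001ea001e9001e8001e7001e600252001e4001e3001e2001e1001e0001df001de001dd001dc001db001da0016f0016e0017000251002500016b001680024800243002420024d001640023f0023e0023d002490016000169002450015d0016600165002400015900162001610023b00155001bd0023800153001ba001b9002340014f001b6001b50022f001b3001b20022b001b000210002260014a0020d0020c0022100146002090021e001430021c002050020400217001400020100214001ff0014b0020e0013d00148001470020a0013900144002070014200141002020013f00190001fc001330018d0018c001f80018a00189001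880018700186001ee00184001830018200181001800017f0017e0017d00122001210017a001790017800177001760017500174001730011700116001d7001d9001d80011300114001d400110001c8001d30010d001c5001c4001ce00109001c1001c0001c9001050010e001c6001030010b0010a001c2000ff0010700106001be00154001bb000fa0015100150001b70014e0014d0014c0019d001ad000f50019a00199001a9000f100196001a60019400193001a100191000f60019b000eb000f3000f200197000f0000ef000ee00135001340018e0013200131001300012f0012e0012d000e2000e10012a001290012800127001260012500124001230017c0017b000d8000d70011e0011d0011c0011b0011a00119001180017200171000ce0016c0016d000cb000cc0016a000c80015e00167000c50015b0015a00163000c100157001560015f000c60015c000bc000c3000c200158000c0000bf000fc000fb00152000f9000f8000f70013e00149000b30013b0013a00145001380013700136000b5000b40013c000b2000b1000b0000e7000e6000e5000e4000e30012c0012b000a9000a8000de000dd000dc000db000da000d9001200011f000a00009f000d4000d3000d2000d1000d0000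cf0011500097001110011200094000950010f00090001040010c0008d001010010000108000fe000fd0008f0008e001020008c0008b0008a000b8000b7000b6000ed000ec000f4000ea000e9000e8000840008300082000ac000ab000aa000e0000df0007d0007c000a5000a4000a3000a2000a1000d6000d50007500074000730009b0009a0009900098000cd0006d000c9000ca000690006b0006a000c7000be000bd000c4000bb000ba000b90006600065000640008600085000af000ae000ad000600005f0007f0007e000a7000a60005c0005b0005a0007800077000760009e0009d0009c0005500054000700006f0006e000960004e0009200091000930004d0004c0008900088000870004900048000610008100080000450005d0007b0007a000790004300042000570005600072000710003d0003c00051000500004f0006c00068000670003700036000630006200034000460005e000320005900058000300002f0003f0002c00053000520002a0003a00039000380004b0004a00026000470002400044000230004100040000210002d0003e0001e0003b0001c0002800027000350001a0003300031000180002e000160001f0002b00013000290001b0002500019000220000f000200000e000140001d000120000b0001000017000150000d00008000110000a000090000c0000700006000050000400003000020000100000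

noncomputable def lv5 : Level := ⟨5, 3, lvO5, [lvP5_0], [[0, 2, 0]]⟩

noncomputable def lvO6_0 : Tree :=
  .node 64 (.node 32 (.node 16 (.node 8 (.node 4 (.node 2 (.node 1 (.leaf (nat_lit 0x0)) (.leaf (nat_lit 0x0))) (.node 1 (.leaf (nat_lit 0x0)) (.leaf (nat_lit 0x0)))) (.node 2 (.node 1 (.leaf (nat_lit 0x0)) (.leaf (nat_lit 0x0))) (.node 1 (.leaf (nat_lit 0x0)) (.leaf (nat_lit 0x0))))) (.node 4 (.node 2 (.node 1 (.leaf (nat_lit 0x10000000)) (.leaf (nat_lit 0x0))) (.node 1 (.leaf (nat_lit 0x0)) (.leaf (nat_lit 0x0)))) (.node 2 (.node 1 (.leaf (nat_lit 0x20000800)) (.leaf (nat_lit 0x0))) (.node 1 (.leaf (nat_lit 0x0)) (.leaf (nat_lit 0x0)))))) (.node 8 (.node 4 (.node 2 (.node 1 (.leaf (nat_lit 0x0)) (.leaf (nat_lit 0x0))) (.node 1 (.leaf (nat_lit 0x0)) (.leaf (nat_lit 0x0)))) (.node 2 (.node 1 (.leaf (nat_lit 0x0)) (.leaf (nat_lit 0x0))) (.node 1 (.leaf (nat_lit 0x0)) (.leaf (nat_lit 0x0))))) (.node 4 (.node 2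 (.node 1 (.leaf (nat_lit 0x0)) (.leaf (nat_lit 0x0))) (.node 1 (.leaf (nat_lit 0x0)) (.leaf (nat_lit 0x0)))) (.node 2 (.node 1 (.leaf (nat_lit 0x0)) (.leaf (nat_lit 0x0))) (.node 1 (.leaf (nat_lit 0x0)) (.leaf (nat_lit 0x0))))))) (.node 16 (.node 8 (.node 4 (.node 2 (.node 1 (.leaf (nat_lit 0x0)) (.leaf (nat_lit 0x0))) (.node 1 (.leaf (nat_lit 0x0)) (.leaf (nat_lit 0x0)))) (.node 2 (.node 1 (.leaf (nat_lit 0x0)) (.leaf (nat_lit 0x0))) (.node 1 (.leaf (nat_lit 0x0)) (.leaf (nat_lit 0x0))))) (.node 4 (.node 2 (.node 1 (.leaf (nat_lit 0x0)) (.leaf (nat_lit 0x0))) (.node 1 (.leaf (nat_lit 0x0)) (.leaf (nat_lit 0x0)))) (.node 2 (.node 1 (.leaf (nat_lit 0x0)) (.leaf (nat_lit 0x0))) (.node 1 (.leaf (nat_lit 0x0)) (.leaf (nat_lit 0x0)))))) (.node 8 (.node 4 (.node 2 (.node 1 (.leaf (nat_lit 0x0)) (.leaf (nat_lit 0x0))) (.node 1 (.leaf (nat_lit 0x0)) (.leaf (nat_lit 0x0)))) (.node 2 (.node 1 (.leaf (nat_lit 0x0)) (.leaf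 (nat_lit 0x0))) (.node 1 (.leaf (nat_lit 0x0)) (.leaf (nat_lit 0x0))))) (.node 4 (.node 2 (.node 1 (.leaf (nat_lit 0x0)) (.leaf (nat_lit 0x0))) (.node 1 (.leaf (nat_lit 0x0)) (.leaf (nat_lit 0x0)))) (.node 2 (.node 1 (.leaf (nat_lit 0x0)) (.leaf (nat_lit 0x0))) (.node 1 (.leaf (nat_lit 0x0)) (.leaf (nat_lit 0x0)))))))) (.node 32 (.node 16 (.node 8 (.node 4 (.node 2 (.node 1 (.leaf (nat_lit 0x0)) (.leaf (nat_lit 0x0))) (.node 1 (.leaf (nat_lit 0x0)) (.leaf (nat_lit 0x0)))) (.node 2 (.node 1 (.leaf (nat_lit 0x0)) (.leaf (nat_lit 0x0))) (.node 1 (.leaf (nat_lit 0x0)) (.leaf (nat_lit 0x0))))) (.node 4 (.node 2 (.node 1 (.leaf (nat_lit 0x0)) (.leaf (nat_lit 0x0))) (.node 1 (.leaf (nat_lit 0x0)) (.leaf (nat_lit 0x0)))) (.node 2 (.node 1 (.leaf (nat_lit 0x0)) (.leaf (nat_lit 0x0))) (.node 1 (.leaf (nat_lit 0x0)) (.leaf (nat_lit 0x0)))))) (.node 8 (.node 4 (.node 2 (.node 1 (.leaf (nat_lit 0x0)) (.leaf (nat_lit 0x0))) (.node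 1 (.leaf (nat_lit 0x0)) (.leaf (nat_lit 0x0)))) (.node 2 (.node 1 (.leaf (nat_lit 0x0)) (.leaf (nat_lit 0x0))) (.node 1 (.leaf (nat_lit 0x0)) (.leaf (nat_lit 0x0))))) (.node 4 (.node 2 (.node 1 (.leaf (nat_lit 0x0)) (.leaf (nat_lit 0x0))) (.node 1 (.leaf (nat_lit 0x0)) (.leaf (nat_lit 0x0)))) (.node 2 (.node 1 (.leaf (nat_lit 0x0)) (.leaf (nat_lit 0x0))) (.node 1 (.leaf (nat_lit 0x0)) (.leaf (nat_lit 0x0))))))) (.node 16 (.node 8 (.node 4 (.node 2 (.node 1 (.leaf (nat_lit 0x0)) (.leaf (nat_lit 0x0))) (.node 1 (.leaf (nat_lit 0x0)) (.leaf (nat_lit 0x0)))) (.node 2 (.node 1 (.leaf (nat_lit 0x0)) (.leaf (nat_lit 0x0))) (.node 1 (.leaf (nat_lit 0x0)) (.leaf (nat_lit 0x0))))) (.node 4 (.node 2 (.node 1 (.leaf (nat_lit 0x0)) (.leaf (nat_lit 0x0))) (.node 1 (.leaf (nat_lit 0x0)) (.leaf (nat_lit 0x0)))) (.node 2 (.node 1 (.leaf (nat_lit 0x0)) (.leaf (nat_lit 0x0))) (.node 1 (.leaf (nat_lit 0x0)) (.leaf (nat_lit 0x0))))))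 (.node 8 (.node 4 (.node 2 (.node 1 (.leaf (nat_lit 0x0)) (.leaf (nat_lit 0x0))) (.node 1 (.leaf (nat_lit 0x0)) (.leaf (nat_lit 0x0)))) (.node 2 (.node 1 (.leaf (nat_lit 0x0)) (.leaf (nat_lit 0x0))) (.node 1 (.leaf (nat_lit 0x0)) (.leaf (nat_lit 0x0))))) (.node 4 (.node 2 (.node 1 (.leaf (nat_lit 0x0)) (.leaf (nat_lit 0x0))) (.node 1 (.leaf (nat_lit 0x0)) (.leaf (nat_lit 0x0)))) (.node 2 (.node 1 (.leaf (nat_lit 0x0)) (.leaf (nat_lit 0x0))) (.node 1 (.leaf (nat_lit 0x0)) (.leaf (nat_lit 0x0))))))))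

noncomputable def lvO6_1 : Tree :=
  .node 64 (.node 32 (.node 16 (.node 8 (.node 4 (.node 2 (.node 1 (.leaf (nat_lit 0x0)) (.leaf (nat_lit 0x0))) (.node 1 (.leaf (nat_lit 0x0)) (.leaf (nat_lit 0x0)))) (.node 2 (.node 1 (.leaf (nat_lit 0x0)) (.leaf (nat_lit 0x0))) (.node 1 (.leaf (nat_lit 0x0)) (.leaf (nat_lit 0x0))))) (.node 4 (.node 2 (.node 1 (.leaf (nat_lit 0x0)) (.leaf (nat_lit 0x0))) (.node 1 (.leaf (nat_lit 0x0)) (.leaf (nat_lit 0x0)))) (.node 2 (.node 1 (.leaf (nat_lit 0x0)) (.leaf (nat_lit 0x0))) (.node 1 (.leaf (nat_lit 0x0)) (.leaf (nat_lit 0x0)))))) (.node 8 (.node 4 (.node 2 (.node 1 (.leaf (nat_lit 0x0)) (.leaf (nat_lit 0x0))) (.node 1 (.leaf (nat_lit 0x0)) (.leaf (nat_lit 0x0)))) (.node 2 (.node 1 (.leaf (nat_lit 0x0)) (.leaf (nat_lit 0x0))) (.node 1 (.leaf (nat_lit 0x0)) (.leaf (nat_lit 0x0))))) (.node 4 (.node 2 (.node 1 (.leaf (nat_lit 0x0)) (.leaf (nat_lit 0x0))) (.node 1 (.leaf (nat_lit 0x0))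 (.leaf (nat_lit 0x0)))) (.node 2 (.node 1 (.leaf (nat_lit 0x0)) (.leaf (nat_lit 0x0))) (.node 1 (.leaf (nat_lit 0x0)) (.leaf (nat_lit 0x0))))))) (.node 16 (.node 8 (.node 4 (.node 2 (.node 1 (.leaf (nat_lit 0x0)) (.leaf (nat_lit 0x0))) (.node 1 (.leaf (nat_lit 0x0)) (.leaf (nat_lit 0x0)))) (.node 2 (.node 1 (.leaf (nat_lit 0x0)) (.leaf (nat_lit 0x0))) (.node 1 (.leaf (nat_lit 0x0)) (.leaf (nat_lit 0x0))))) (.node 4 (.node 2 (.node 1 (.leaf (nat_lit 0x0)) (.leaf (nat_lit 0x0))) (.node 1 (.leaf (nat_lit 0x0)) (.leaf (nat_lit 0x0)))) (.node 2 (.node 1 (.leaf (nat_lit 0x0)) (.leaf (nat_lit 0x0))) (.node 1 (.leaf (nat_lit 0x0)) (.leaf (nat_lit 0x0)))))) (.node 8 (.node 4 (.node 2 (.node 1 (.leaf (nat_lit 0x0)) (.leaf (nat_lit 0x0))) (.node 1 (.leaf (nat_lit 0x0)) (.leaf (nat_lit 0x0)))) (.node 2 (.node 1 (.leaf (nat_lit 0x0)) (.leaf (nat_lit 0x0))) (.node 1 (.leaf (nat_lit 0x0)) (.leaf (nat_lit 0x0))))) (.node 4 (.node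 2 (.node 1 (.leaf (nat_lit 0x0)) (.leaf (nat_lit 0x0))) (.node 1 (.leaf (nat_lit 0x0)) (.leaf (nat_lit 0x0)))) (.node 2 (.node 1 (.leaf (nat_lit 0x0)) (.leaf (nat_lit 0x0))) (.node 1 (.leaf (nat_lit 0x0)) (.leaf (nat_lit 0x0)))))))) (.node 32 (.node 16 (.node 8 (.node 4 (.node 2 (.node 1 (.leaf (nat_lit 0x0)) (.leaf (nat_lit 0x0))) (.node 1 (.leaf (nat_lit 0x0)) (.leaf (nat_lit 0x0)))) (.node 2 (.node 1 (.leaf (nat_lit 0x0)) (.leaf (nat_lit 0x0))) (.node 1 (.leaf (nat_lit 0x0)) (.leaf (nat_lit 0x0))))) (.node 4 (.node 2 (.node 1 (.leaf (nat_lit 0x0)) (.leaf (nat_lit 0x0))) (.node 1 (.leaf (nat_lit 0x0)) (.leaf (nat_lit 0x0)))) (.node 2 (.node 1 (.leaf (nat_lit 0x0)) (.leaf (nat_lit 0x0))) (.node 1 (.leaf (nat_lit 0x0)) (.leaf (nat_lit 0x0)))))) (.node 8 (.node 4 (.node 2 (.node 1 (.leaf (nat_lit 0x0)) (.leaf (nat_lit 0x0))) (.node 1 (.leaf (nat_lit 0x0)) (.leaf (nat_lit 0x0)))) (.node 2 (.node 1 (.leaf (nat_lit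 0x0)) (.leaf (nat_lit 0x0))) (.node 1 (.leaf (nat_lit 0x0)) (.leaf (nat_lit 0x0))))) (.node 4 (.node 2 (.node 1 (.leaf (nat_lit 0x0)) (.leaf (nat_lit 0x0))) (.node 1 (.leaf (nat_lit 0x0)) (.leaf (nat_lit 0x0)))) (.node 2 (.node 1 (.leaf (nat_lit 0x0)) (.leaf (nat_lit 0x0))) (.node 1 (.leaf (nat_lit 0x0)) (.leaf (nat_lit 0x0))))))) (.node 16 (.node 8 (.node 4 (.node 2 (.node 1 (.leaf (nat_lit 0x0)) (.leaf (nat_lit 0x0))) (.node 1 (.leaf (nat_lit 0x0)) (.leaf (nat_lit 0x0)))) (.node 2 (.node 1 (.leaf (nat_lit 0x0)) (.leaf (nat_lit 0x0))) (.node 1 (.leaf (nat_lit 0x0)) (.leaf (nat_lit 0x0))))) (.node 4 (.node 2 (.node 1 (.leaf (nat_lit 0x0)) (.leaf (nat_lit 0x0))) (.node 1 (.leaf (nat_lit 0x0)) (.leaf (nat_lit 0x0)))) (.node 2 (.node 1 (.leaf (nat_lit 0x0)) (.leaf (nat_lit 0x0))) (.node 1 (.leaf (nat_lit 0x0)) (.leaf (nat_lit 0x0)))))) (.node 8 (.node 4 (.node 2 (.node 1 (.leaf (nat_lit 0x0)) (.leaf (nat_lit 0x0)))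 (.node 1 (.leaf (nat_lit 0x0)) (.leaf (nat_lit 0x0)))) (.node 2 (.node 1 (.leaf (nat_lit 0x0)) (.leaf (nat_lit 0x0))) (.node 1 (.leaf (nat_lit 0x0)) (.leaf (nat_lit 0x0))))) (.node 4 (.node 2 (.node 1 (.leaf (nat_lit 0x0)) (.leaf (nat_lit 0x0))) (.node 1 (.leaf (nat_lit 0x0)) (.leaf (nat_lit 0x0)))) (.node 2 (.node 1 (.leaf (nat_lit 0x0)) (.leaf (nat_lit 0x0))) (.node 1 (.leaf (nat_lit 0x0)) (.leaf (nat_lit 0x0))))))))

noncomputable def lvO6_2 : Tree :=
  .node 64 (.node 32 (.node 16 (.node 8 (.node 4 (.node 2 (.node 1 (.leaf (nat_lit 0x0)) (.leaf (nat_lit 0x0))) (.node 1 (.leaf (nat_lit 0x0)) (.leaf (nat_lit 0x0)))) (.node 2 (.node 1 (.leaf (nat_lit 0x0)) (.leaf (nat_lit 0x0))) (.node 1 (.leaf (nat_lit 0x0)) (.leaf (nat_lit 0x0))))) (.node 4 (.node 2 (.node 1 (.leaf (nat_lit 0x0)) (.leaf (nat_lit 0x0))) (.node 1 (.leaf (nat_lit 0x0)) (.leaf (nat_lit 0x0)))) (.node 2 (.node 1 (.leaf (nat_lit 0x0)) (.leaf (nat_lit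 0x0))) (.node 1 (.leaf (nat_lit 0x0)) (.leaf (nat_lit 0x0)))))) (.node 8 (.node 4 (.node 2 (.node 1 (.leaf (nat_lit 0x0)) (.leaf (nat_lit 0x0))) (.node 1 (.leaf (nat_lit 0x0)) (.leaf (nat_lit 0x0)))) (.node 2 (.node 1 (.leaf (nat_lit 0x0)) (.leaf (nat_lit 0x0))) (.node 1 (.leaf (nat_lit 0x0)) (.leaf (nat_lit 0x0))))) (.node 4 (.node 2 (.node 1 (.leaf (nat_lit 0x0)) (.leaf (nat_lit 0x0))) (.node 1 (.leaf (nat_lit 0x0)) (.leaf (nat_lit 0x0)))) (.node 2 (.node 1 (.leaf (nat_lit 0x0)) (.leaf (nat_lit 0x0))) (.node 1 (.leaf (nat_lit 0x0)) (.leaf (nat_lit 0x0))))))) (.node 16 (.node 8 (.node 4 (.node 2 (.node 1 (.leaf (nat_lit 0x0)) (.leaf (nat_lit 0x0))) (.node 1 (.leaf (nat_lit 0x0)) (.leaf (nat_lit 0x0)))) (.node 2 (.node 1 (.leaf (nat_lit 0x0)) (.leaf (nat_lit 0x0))) (.node 1 (.leaf (nat_lit 0x0)) (.leaf (nat_lit 0x0))))) (.node 4 (.node 2 (.node 1 (.leaf (nat_lit 0x0)) (.leaf (nat_lit 0x0))) (.node 1 (.leaf (nat_lit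 0x0)) (.leaf (nat_lit 0x0)))) (.node 2 (.node 1 (.leaf (nat_lit 0x0)) (.leaf (nat_lit 0x0))) (.node 1 (.leaf (nat_lit 0x0)) (.leaf (nat_lit 0x0)))))) (.node 8 (.node 4 (.node 2 (.node 1 (.leaf (nat_lit 0x0)) (.leaf (nat_lit 0x0))) (.node 1 (.leaf (nat_lit 0x0)) (.leaf (nat_lit 0x0)))) (.node 2 (.node 1 (.leaf (nat_lit 0x0)) (.leaf (nat_lit 0x0))) (.node 1 (.leaf (nat_lit 0x0)) (.leaf (nat_lit 0x0))))) (.node 4 (.node 2 (.node 1 (.leaf (nat_lit 0x0)) (.leaf (nat_lit 0x0))) (.node 1 (.leaf (nat_lit 0x0)) (.leaf (nat_lit 0x0)))) (.node 2 (.node 1 (.leaf (nat_lit 0x0)) (.leaf (nat_lit 0x0))) (.node 1 (.leaf (nat_lit 0x0)) (.leaf (nat_lit 0x0)))))))) (.node 32 (.node 16 (.node 8 (.node 4 (.node 2 (.node 1 (.leaf (nat_lit 0x0)) (.leaf (nat_lit 0x0))) (.node 1 (.leaf (nat_lit 0x0)) (.leaf (nat_lit 0x0)))) (.node 2 (.node 1 (.leaf (nat_lit 0x0)) (.leaf (nat_lit 0x0))) (.node 1 (.leaf (nat_lit 0x0)) (.leaf (nat_lit 0x0)))))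 (.node 4 (.node 2 (.node 1 (.leaf (nat_lit 0x0)) (.leaf (nat_lit 0x0))) (.node 1 (.leaf (nat_lit 0x0)) (.leaf (nat_lit 0x0)))) (.node 2 (.node 1 (.leaf (nat_lit 0x0)) (.leaf (nat_lit 0x0))) (.node 1 (.leaf (nat_lit 0x0)) (.leaf (nat_lit 0x0)))))) (.node 8 (.node 4 (.node 2 (.node 1 (.leaf (nat_lit 0x0)) (.leaf (nat_lit 0x0))) (.node 1 (.leaf (nat_lit 0x0)) (.leaf (nat_lit 0x0)))) (.node 2 (.node 1 (.leaf (nat_lit 0x0)) (.leaf (nat_lit 0x0))) (.node 1 (.leaf (nat_lit 0x0)) (.leaf (nat_lit 0x0))))) (.node 4 (.node 2 (.node 1 (.leaf (nat_lit 0x0)) (.leaf (nat_lit 0x0))) (.node 1 (.leaf (nat_lit 0x0)) (.leaf (nat_lit 0x0)))) (.node 2 (.node 1 (.leaf (nat_lit 0x0)) (.leaf (nat_lit 0x0))) (.node 1 (.leaf (nat_lit 0x0)) (.leaf (nat_lit 0x0))))))) (.node 16 (.node 8 (.node 4 (.node 2 (.node 1 (.leaf (nat_lit 0x0)) (.leaf (nat_lit 0x0))) (.node 1 (.leaf (nat_lit 0x0)) (.leaf (nat_lit 0x0)))) (.node 2 (.node 1 (.leaf (nat_lit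 0x0)) (.leaf (nat_lit 0x0))) (.node 1 (.leaf (nat_lit 0x0)) (.leaf (nat_lit 0x0))))) (.node 4 (.node 2 (.node 1 (.leaf (nat_lit 0x0)) (.leaf (nat_lit 0x0))) (.node 1 (.leaf (nat_lit 0x0)) (.leaf (nat_lit 0x0)))) (.node 2 (.node 1 (.leaf (nat_lit 0x0)) (.leaf (nat_lit 0x0))) (.node 1 (.leaf (nat_lit 0x0)) (.leaf (nat_lit 0x0)))))) (.node 8 (.node 4 (.node 2 (.node 1 (.leaf (nat_lit 0x0)) (.leaf (nat_lit 0x0))) (.node 1 (.leaf (nat_lit 0x0)) (.leaf (nat_lit 0x0)))) (.node 2 (.node 1 (.leaf (nat_lit 0x0)) (.leaf (nat_lit 0x0))) (.node 1 (.leaf (nat_lit 0x0)) (.leaf (nat_lit 0x0))))) (.node 4 (.node 2 (.node 1 (.leaf (nat_lit 0x0)) (.leaf (nat_lit 0x0))) (.node 1 (.leaf (nat_lit 0x0)) (.leaf (nat_lit 0x0)))) (.node 2 (.node 1 (.leaf (nat_lit 0x0)) (.leaf (nat_lit 0x0))) (.node 1 (.leaf (nat_lit 0x0)) (.leaf (nat_lit 0x0))))))))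

noncomputable def lvO6_3 : Tree :=
  .node 64 (.node 32 (.node 16 (.node 8 (.node 4 (.node 2 (.node 1 (.leaf (nat_lit 0x0)) (.leaf (nat_lit 0x0))) (.node 1 (.leaf (nat_lit 0x0)) (.leaf (nat_lit 0x0)))) (.node 2 (.node 1 (.leaf (nat_lit 0x0)) (.leaf (nat_lit 0x0))) (.node 1 (.leaf (nat_lit 0x0)) (.leaf (nat_lit 0x0))))) (.node 4 (.node 2 (.node 1 (.leaf (nat_lit 0x0)) (.leaf (nat_lit 0x0))) (.node 1 (.leaf (nat_lit 0x0)) (.leaf (nat_lit 0x0)))) (.node 2 (.node 1 (.leaf (nat_lit 0x0)) (.leaf (nat_lit 0x0))) (.node 1 (.leaf (nat_lit 0x0)) (.leaf (nat_lit 0x0)))))) (.node 8 (.node 4 (.node 2 (.node 1 (.leaf (nat_lit 0x0)) (.leaf (nat_lit 0x0))) (.node 1 (.leaf (nat_lit 0x0)) (.leaf (nat_lit 0x0)))) (.node 2 (.node 1 (.leaf (nat_lit 0x0)) (.leaf (nat_lit 0x0))) (.node 1 (.leaf (nat_lit 0x0)) (.leaf (nat_lit 0x0))))) (.node 4 (.node 2 (.node 1 (.leaf (nat_lit 0x0)) (.leaf (nat_lit 0x0))) (.node 1 (.leaf (nat_lit 0x0))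 (.leaf (nat_lit 0x0)))) (.node 2 (.node 1 (.leaf (nat_lit 0x0)) (.leaf (nat_lit 0x0))) (.node 1 (.leaf (nat_lit 0x0)) (.leaf (nat_lit 0x0))))))) (.node 16 (.node 8 (.node 4 (.node 2 (.node 1 (.leaf (nat_lit 0x0)) (.leaf (nat_lit 0x0))) (.node 1 (.leaf (nat_lit 0x0)) (.leaf (nat_lit 0x0)))) (.node 2 (.node 1 (.leaf (nat_lit 0x0)) (.leaf (nat_lit 0x0))) (.node 1 (.leaf (nat_lit 0x0)) (.leaf (nat_lit 0x0))))) (.node 4 (.node 2 (.node 1 (.leaf (nat_lit 0x0)) (.leaf (nat_lit 0x0))) (.node 1 (.leaf (nat_lit 0x0)) (.leaf (nat_lit 0x0)))) (.node 2 (.node 1 (.leaf (nat_lit 0x0)) (.leaf (nat_lit 0x0))) (.node 1 (.leaf (nat_lit 0x0)) (.leaf (nat_lit 0x0)))))) (.node 8 (.node 4 (.node 2 (.node 1 (.leaf (nat_lit 0x0)) (.leaf (nat_lit 0x0))) (.node 1 (.leaf (nat_lit 0x0)) (.leaf (nat_lit 0x0)))) (.node 2 (.node 1 (.leaf (nat_lit 0x0)) (.leaf (nat_lit 0x0))) (.node 1 (.leaf (nat_lit 0x0)) (.leaf (nat_lit 0x0))))) (.node 4 (.node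 2 (.node 1 (.leaf (nat_lit 0x0)) (.leaf (nat_lit 0x0))) (.node 1 (.leaf (nat_lit 0x0)) (.leaf (nat_lit 0x0)))) (.node 2 (.node 1 (.leaf (nat_lit 0x0)) (.leaf (nat_lit 0x0))) (.node 1 (.leaf (nat_lit 0x0)) (.leaf (nat_lit 0x0)))))))) (.node 32 (.node 16 (.node 8 (.node 4 (.node 2 (.node 1 (.leaf (nat_lit 0x0)) (.leaf (nat_lit 0x0))) (.node 1 (.leaf (nat_lit 0x0)) (.leaf (nat_lit 0x0)))) (.node 2 (.node 1 (.leaf (nat_lit 0x0)) (.leaf (nat_lit 0x0))) (.node 1 (.leaf (nat_lit 0x0)) (.leaf (nat_lit 0x0))))) (.node 4 (.node 2 (.node 1 (.leaf (nat_lit 0x0)) (.leaf (nat_lit 0x0))) (.node 1 (.leaf (nat_lit 0x0)) (.leaf (nat_lit 0x0)))) (.node 2 (.node 1 (.leaf (nat_lit 0x0)) (.leaf (nat_lit 0x0))) (.node 1 (.leaf (nat_lit 0x0)) (.leaf (nat_lit 0x0)))))) (.node 8 (.node 4 (.node 2 (.node 1 (.leaf (nat_lit 0x0)) (.leaf (nat_lit 0x0))) (.node 1 (.leaf (nat_lit 0x0)) (.leaf (nat_lit 0x0)))) (.node 2 (.node 1 (.leaf (nat_lit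 0x0)) (.leaf (nat_lit 0x0))) (.node 1 (.leaf (nat_lit 0x0)) (.leaf (nat_lit 0x0))))) (.node 4 (.node 2 (.node 1 (.leaf (nat_lit 0x0)) (.leaf (nat_lit 0x0))) (.node 1 (.leaf (nat_lit 0x0)) (.leaf (nat_lit 0x0)))) (.node 2 (.node 1 (.leaf (nat_lit 0x0)) (.leaf (nat_lit 0x0))) (.node 1 (.leaf (nat_lit 0x0)) (.leaf (nat_lit 0x0))))))) (.node 16 (.node 8 (.node 4 (.node 2 (.node 1 (.leaf (nat_lit 0x0)) (.leaf (nat_lit 0x0))) (.node 1 (.leaf (nat_lit 0x0)) (.leaf (nat_lit 0x0)))) (.node 2 (.node 1 (.leaf (nat_lit 0x0)) (.leaf (nat_lit 0x0))) (.node 1 (.leaf (nat_lit 0x0)) (.leaf (nat_lit 0x0))))) (.node 4 (.node 2 (.node 1 (.leaf (nat_lit 0x0)) (.leaf (nat_lit 0x0))) (.node 1 (.leaf (nat_lit 0x0)) (.leaf (nat_lit 0x0)))) (.node 2 (.node 1 (.leaf (nat_lit 0x0)) (.leaf (nat_lit 0x0))) (.node 1 (.leaf (nat_lit 0x0)) (.leaf (nat_lit 0x0)))))) (.node 8 (.node 4 (.node 2 (.node 1 (.leaf (nat_lit 0x0)) (.leaf (nat_lit 0x0)))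 (.node 1 (.leaf (nat_lit 0x0)) (.leaf (nat_lit 0x0)))) (.node 2 (.node 1 (.leaf (nat_lit 0x0)) (.leaf (nat_lit 0x0))) (.node 1 (.leaf (nat_lit 0x0)) (.leaf (nat_lit 0x0))))) (.node 4 (.node 2 (.node 1 (.leaf (nat_lit 0x0)) (.leaf (nat_lit 0x0))) (.node 1 (.leaf (nat_lit 0x0)) (.leaf (nat_lit 0x0)))) (.node 2 (.node 1 (.leaf (nat_lit 0x0)) (.leaf (nat_lit 0x0))) (.node 1 (.leaf (nat_lit 0x0)) (.leaf (nat_lit 0x0))))))))

noncomputable def lvO6_4 : Tree :=
  .node 64 (.node 32 (.node 16 (.node 8 (.node 4 (.node 2 (.node 1 (.leaf (nat_lit 0x0)) (.leaf (nat_lit 0x0))) (.node 1 (.leaf (nat_lit 0x0)) (.leaf (nat_lit 0x0)))) (.node 2 (.node 1 (.leaf (nat_lit 0x0)) (.leaf (nat_lit 0x0))) (.node 1 (.leaf (nat_lit 0x0)) (.leaf (nat_lit 0x0))))) (.node 4 (.node 2 (.node 1 (.leaf (nat_lit 0x0)) (.leaf (nat_lit 0x0))) (.node 1 (.leaf (nat_lit 0x0)) (.leaf (nat_lit 0x0)))) (.node 2 (.node 1 (.leaf (nat_lit 0x0)) (.leaf (nat_lit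 0x0))) (.node 1 (.leaf (nat_lit 0x0)) (.leaf (nat_lit 0x0)))))) (.node 8 (.node 4 (.node 2 (.node 1 (.leaf (nat_lit 0x0)) (.leaf (nat_lit 0x0))) (.node 1 (.leaf (nat_lit 0x0)) (.leaf (nat_lit 0x0)))) (.node 2 (.node 1 (.leaf (nat_lit 0x0)) (.leaf (nat_lit 0x0))) (.node 1 (.leaf (nat_lit 0x0)) (.leaf (nat_lit 0x0))))) (.node 4 (.node 2 (.node 1 (.leaf (nat_lit 0x0)) (.leaf (nat_lit 0x0))) (.node 1 (.leaf (nat_lit 0x0)) (.leaf (nat_lit 0x0)))) (.node 2 (.node 1 (.leaf (nat_lit 0x0)) (.leaf (nat_lit 0x0))) (.node 1 (.leaf (nat_lit 0x0)) (.leaf (nat_lit 0x0))))))) (.node 16 (.node 8 (.node 4 (.node 2 (.node 1 (.leaf (nat_lit 0x0)) (.leaf (nat_lit 0x0))) (.node 1 (.leaf (nat_lit 0x0)) (.leaf (nat_lit 0x0)))) (.node 2 (.node 1 (.leaf (nat_lit 0x0)) (.leaf (nat_lit 0x0))) (.node 1 (.leaf (nat_lit 0x0)) (.leaf (nat_lit 0x0))))) (.node 4 (.node 2 (.node 1 (.leaf (nat_lit 0x0)) (.leaf (nat_lit 0x0))) (.node 1 (.leaf (nat_lit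 0x0)) (.leaf (nat_lit 0x0)))) (.node 2 (.node 1 (.leaf (nat_lit 0x0)) (.leaf (nat_lit 0x0))) (.node 1 (.leaf (nat_lit 0x0)) (.leaf (nat_lit 0x0)))))) (.node 8 (.node 4 (.node 2 (.node 1 (.leaf (nat_lit 0x0)) (.leaf (nat_lit 0x0))) (.node 1 (.leaf (nat_lit 0x0)) (.leaf (nat_lit 0x0)))) (.node 2 (.node 1 (.leaf (nat_lit 0x0)) (.leaf (nat_lit 0x0))) (.node 1 (.leaf (nat_lit 0x0)) (.leaf (nat_lit 0x0))))) (.node 4 (.node 2 (.node 1 (.leaf (nat_lit 0x0)) (.leaf (nat_lit 0x0))) (.node 1 (.leaf (nat_lit 0x0)) (.leaf (nat_lit 0x0)))) (.node 2 (.node 1 (.leaf (nat_lit 0x0)) (.leaf (nat_lit 0x0))) (.node 1 (.leaf (nat_lit 0x0)) (.leaf (nat_lit 0x0)))))))) (.node 32 (.node 16 (.node 8 (.node 4 (.node 2 (.node 1 (.leaf (nat_lit 0x0)) (.leaf (nat_lit 0x0))) (.node 1 (.leaf (nat_lit 0x0)) (.leaf (nat_lit 0x0)))) (.node 2 (.node 1 (.leaf (nat_lit 0x0)) (.leaf (nat_lit 0x0))) (.node 1 (.leaf (nat_lit 0x0)) (.leaf (nat_lit 0x0)))))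 (.node 4 (.node 2 (.node 1 (.leaf (nat_lit 0x0)) (.leaf (nat_lit 0x0))) (.node 1 (.leaf (nat_lit 0x0)) (.leaf (nat_lit 0x0)))) (.node 2 (.node 1 (.leaf (nat_lit 0x0)) (.leaf (nat_lit 0x0))) (.node 1 (.leaf (nat_lit 0x0)) (.leaf (nat_lit 0x0)))))) (.node 8 (.node 4 (.node 2 (.node 1 (.leaf (nat_lit 0x0)) (.leaf (nat_lit 0x0))) (.node 1 (.leaf (nat_lit 0x0)) (.leaf (nat_lit 0x0)))) (.node 2 (.node 1 (.leaf (nat_lit 0x0)) (.leaf (nat_lit 0x0))) (.node 1 (.leaf (nat_lit 0x0)) (.leaf (nat_lit 0x0))))) (.node 4 (.node 2 (.node 1 (.leaf (nat_lit 0x0)) (.leaf (nat_lit 0x0))) (.node 1 (.leaf (nat_lit 0x0)) (.leaf (nat_lit 0x0)))) (.node 2 (.node 1 (.leaf (nat_lit 0x0)) (.leaf (nat_lit 0x0))) (.node 1 (.leaf (nat_lit 0x0)) (.leaf (nat_lit 0x0))))))) (.node 16 (.node 8 (.node 4 (.node 2 (.node 1 (.leaf (nat_lit 0x0)) (.leaf (nat_lit 0x0))) (.node 1 (.leaf (nat_lit 0x0)) (.leaf (nat_lit 0x0)))) (.node 2 (.node 1 (.leaf (nat_lit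 0x0)) (.leaf (nat_lit 0x0))) (.node 1 (.leaf (nat_lit 0x0)) (.leaf (nat_lit 0x0))))) (.node 4 (.node 2 (.node 1 (.leaf (nat_lit 0x0)) (.leaf (nat_lit 0x0))) (.node 1 (.leaf (nat_lit 0x0)) (.leaf (nat_lit 0x0)))) (.node 2 (.node 1 (.leaf (nat_lit 0x0)) (.leaf (nat_lit 0x0))) (.node 1 (.leaf (nat_lit 0x0)) (.leaf (nat_lit 0x0)))))) (.node 8 (.node 4 (.node 2 (.node 1 (.leaf (nat_lit 0x0)) (.leaf (nat_lit 0x0))) (.node 1 (.leaf (nat_lit 0x0)) (.leaf (nat_lit 0x0)))) (.node 2 (.node 1 (.leaf (nat_lit 0x0)) (.leaf (nat_lit 0x0))) (.node 1 (.leaf (nat_lit 0x0)) (.leaf (nat_lit 0x0))))) (.node 4 (.node 2 (.node 1 (.leaf (nat_lit 0x0)) (.leaf (nat_lit 0x0))) (.node 1 (.leaf (nat_lit 0x0)) (.leaf (nat_lit 0x0)))) (.node 2 (.node 1 (.leaf (nat_lit 0x0)) (.leaf (nat_lit 0x0))) (.node 1 (.leaf (nat_lit 0x0)) (.leaf (nat_lit 0x0))))))))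

noncomputable def lvO6_5 : Tree :=
  .node 64 (.node 32 (.node 16 (.node 8 (.node 4 (.node 2 (.node 1 (.leaf (nat_lit 0x0)) (.leaf (nat_lit 0x0))) (.node 1 (.leaf (nat_lit 0x0)) (.leaf (nat_lit 0x0)))) (.node 2 (.node 1 (.leaf (nat_lit 0x0)) (.leaf (nat_lit 0x0))) (.node 1 (.leaf (nat_lit 0x0)) (.leaf (nat_lit 0x0))))) (.node 4 (.node 2 (.node 1 (.leaf (nat_lit 0x0)) (.leaf (nat_lit 0x0))) (.node 1 (.leaf (nat_lit 0x0)) (.leaf (nat_lit 0x0)))) (.node 2 (.node 1 (.leaf (nat_lit 0x0)) (.leaf (nat_lit 0x0))) (.node 1 (.leaf (nat_lit 0x0)) (.leaf (nat_lit 0x0)))))) (.node 8 (.node 4 (.node 2 (.node 1 (.leaf (nat_lit 0x0)) (.leaf (nat_lit 0x0))) (.node 1 (.leaf (nat_lit 0x0)) (.leaf (nat_lit 0x0)))) (.node 2 (.node 1 (.leaf (nat_lit 0x0)) (.leaf (nat_lit 0x0))) (.node 1 (.leaf (nat_lit 0x0)) (.leaf (nat_lit 0x0))))) (.node 4 (.node 2 (.node 1 (.leaf (nat_lit 0x0)) (.leaf (nat_lit 0x0))) (.node 1 (.leaf (nat_lit 0x0))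 (.leaf (nat_lit 0x0)))) (.node 2 (.node 1 (.leaf (nat_lit 0x0)) (.leaf (nat_lit 0x0))) (.node 1 (.leaf (nat_lit 0x0)) (.leaf (nat_lit 0x0))))))) (.node 16 (.node 8 (.node 4 (.node 2 (.node 1 (.leaf (nat_lit 0x0)) (.leaf (nat_lit 0x0))) (.node 1 (.leaf (nat_lit 0x0)) (.leaf (nat_lit 0x0)))) (.node 2 (.node 1 (.leaf (nat_lit 0x0)) (.leaf (nat_lit 0x0))) (.node 1 (.leaf (nat_lit 0x0)) (.leaf (nat_lit 0x0))))) (.node 4 (.node 2 (.node 1 (.leaf (nat_lit 0x0)) (.leaf (nat_lit 0x0))) (.node 1 (.leaf (nat_lit 0x0)) (.leaf (nat_lit 0x0)))) (.node 2 (.node 1 (.leaf (nat_lit 0x0)) (.leaf (nat_lit 0x0))) (.node 1 (.leaf (nat_lit 0x0)) (.leaf (nat_lit 0x0)))))) (.node 8 (.node 4 (.node 2 (.node 1 (.leaf (nat_lit 0x0)) (.leaf (nat_lit 0x0))) (.node 1 (.leaf (nat_lit 0x0)) (.leaf (nat_lit 0x0)))) (.node 2 (.node 1 (.leaf (nat_lit 0x0)) (.leaf (nat_lit 0x0))) (.node 1 (.leaf (nat_lit 0x0)) (.leaf (nat_lit 0x0))))) (.node 4 (.node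 2 (.node 1 (.leaf (nat_lit 0x0)) (.leaf (nat_lit 0x0))) (.node 1 (.leaf (nat_lit 0x0)) (.leaf (nat_lit 0x0)))) (.node 2 (.node 1 (.leaf (nat_lit 0x0)) (.leaf (nat_lit 0x0))) (.node 1 (.leaf (nat_lit 0x0)) (.leaf (nat_lit 0x0)))))))) (.node 32 (.node 16 (.node 8 (.node 4 (.node 2 (.node 1 (.leaf (nat_lit 0x0)) (.leaf (nat_lit 0x0))) (.node 1 (.leaf (nat_lit 0x0)) (.leaf (nat_lit 0x0)))) (.node 2 (.node 1 (.leaf (nat_lit 0x0)) (.leaf (nat_lit 0x0))) (.node 1 (.leaf (nat_lit 0x0)) (.leaf (nat_lit 0x0))))) (.node 4 (.node 2 (.node 1 (.leaf (nat_lit 0x0)) (.leaf (nat_lit 0x0))) (.node 1 (.leaf (nat_lit 0x0)) (.leaf (nat_lit 0x0)))) (.node 2 (.node 1 (.leaf (nat_lit 0x0)) (.leaf (nat_lit 0x0))) (.node 1 (.leaf (nat_lit 0x0)) (.leaf (nat_lit 0x0)))))) (.node 8 (.node 4 (.node 2 (.node 1 (.leaf (nat_lit 0x0)) (.leaf (nat_lit 0x0))) (.node 1 (.leaf (nat_lit 0x0)) (.leaf (nat_lit 0x0)))) (.node 2 (.node 1 (.leaf (nat_lit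 0x0)) (.leaf (nat_lit 0x0))) (.node 1 (.leaf (nat_lit 0x0)) (.leaf (nat_lit 0x0))))) (.node 4 (.node 2 (.node 1 (.leaf (nat_lit 0x0)) (.leaf (nat_lit 0x0))) (.node 1 (.leaf (nat_lit 0x0)) (.leaf (nat_lit 0x0)))) (.node 2 (.node 1 (.leaf (nat_lit 0x0)) (.leaf (nat_lit 0x0))) (.node 1 (.leaf (nat_lit 0x0)) (.leaf (nat_lit 0x0))))))) (.node 16 (.node 8 (.node 4 (.node 2 (.node 1 (.leaf (nat_lit 0x0)) (.leaf (nat_lit 0x0))) (.node 1 (.leaf (nat_lit 0x0)) (.leaf (nat_lit 0x0)))) (.node 2 (.node 1 (.leaf (nat_lit 0x0)) (.leaf (nat_lit 0x0))) (.node 1 (.leaf (nat_lit 0x0)) (.leaf (nat_lit 0x0))))) (.node 4 (.node 2 (.node 1 (.leaf (nat_lit 0x0)) (.leaf (nat_lit 0x0))) (.node 1 (.leaf (nat_lit 0x0)) (.leaf (nat_lit 0x0)))) (.node 2 (.node 1 (.leaf (nat_lit 0x0)) (.leaf (nat_lit 0x0))) (.node 1 (.leaf (nat_lit 0x0)) (.leaf (nat_lit 0x0)))))) (.node 8 (.node 4 (.node 2 (.node 1 (.leaf (nat_lit 0x0)) (.leaf (nat_lit 0x0)))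 (.node 1 (.leaf (nat_lit 0x0)) (.leaf (nat_lit 0x0)))) (.node 2 (.node 1 (.leaf (nat_lit 0x0)) (.leaf (nat_lit 0x0))) (.node 1 (.leaf (nat_lit 0x0)) (.leaf (nat_lit 0x0))))) (.node 4 (.node 2 (.node 1 (.leaf (nat_lit 0x0)) (.leaf (nat_lit 0x0))) (.node 1 (.leaf (nat_lit 0x0)) (.leaf (nat_lit 0x0)))) (.node 2 (.node 1 (.leaf (nat_lit 0x0)) (.leaf (nat_lit 0x0))) (.node 1 (.leaf (nat_lit 0x0)) (.leaf (nat_lit 0x0))))))))

noncomputable def lvO6_6 : Tree :=
  .node 64 (.node 32 (.node 16 (.node 8 (.node 4 (.node 2 (.node 1 (.leaf (nat_lit 0x0)) (.leaf (nat_lit 0x0))) (.node 1 (.leaf (nat_lit 0x0)) (.leaf (nat_lit 0x0)))) (.node 2 (.node 1 (.leaf (nat_lit 0x0)) (.leaf (nat_lit 0x0))) (.node 1 (.leaf (nat_lit 0x0)) (.leaf (nat_lit 0x0))))) (.node 4 (.node 2 (.node 1 (.leaf (nat_lit 0x0)) (.leaf (nat_lit 0x0))) (.node 1 (.leaf (nat_lit 0x0)) (.leaf (nat_lit 0x0)))) (.node 2 (.node 1 (.leaf (nat_lit 0x0)) (.leaf (nat_lit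 0x0))) (.node 1 (.leaf (nat_lit 0x0)) (.leaf (nat_lit 0x0)))))) (.node 8 (.node 4 (.node 2 (.node 1 (.leaf (nat_lit 0x0)) (.leaf (nat_lit 0x0))) (.node 1 (.leaf (nat_lit 0x0)) (.leaf (nat_lit 0x0)))) (.node 2 (.node 1 (.leaf (nat_lit 0x0)) (.leaf (nat_lit 0x0))) (.node 1 (.leaf (nat_lit 0x0)) (.leaf (nat_lit 0x0))))) (.node 4 (.node 2 (.node 1 (.leaf (nat_lit 0x0)) (.leaf (nat_lit 0x0))) (.node 1 (.leaf (nat_lit 0x0)) (.leaf (nat_lit 0x0)))) (.node 2 (.node 1 (.leaf (nat_lit 0x0)) (.leaf (nat_lit 0x0))) (.node 1 (.leaf (nat_lit 0x0)) (.leaf (nat_lit 0x0))))))) (.node 16 (.node 8 (.node 4 (.node 2 (.node 1 (.leaf (nat_lit 0x0)) (.leaf (nat_lit 0x0))) (.node 1 (.leaf (nat_lit 0x0)) (.leaf (nat_lit 0x0)))) (.node 2 (.node 1 (.leaf (nat_lit 0x0)) (.leaf (nat_lit 0x0))) (.node 1 (.leaf (nat_lit 0x0)) (.leaf (nat_lit 0x0))))) (.node 4 (.node 2 (.node 1 (.leaf (nat_lit 0x0)) (.leaf (nat_lit 0x0))) (.node 1 (.leaf (nat_lit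 0x0)) (.leaf (nat_lit 0x0)))) (.node 2 (.node 1 (.leaf (nat_lit 0x0)) (.leaf (nat_lit 0x0))) (.node 1 (.leaf (nat_lit 0x0)) (.leaf (nat_lit 0x0)))))) (.node 8 (.node 4 (.node 2 (.node 1 (.leaf (nat_lit 0x0)) (.leaf (nat_lit 0x0))) (.node 1 (.leaf (nat_lit 0x0)) (.leaf (nat_lit 0x0)))) (.node 2 (.node 1 (.leaf (nat_lit 0x0)) (.leaf (nat_lit 0x0))) (.node 1 (.leaf (nat_lit 0x0)) (.leaf (nat_lit 0x0))))) (.node 4 (.node 2 (.node 1 (.leaf (nat_lit 0x0)) (.leaf (nat_lit 0x0))) (.node 1 (.leaf (nat_lit 0x0)) (.leaf (nat_lit 0x0)))) (.node 2 (.node 1 (.leaf (nat_lit 0x0)) (.leaf (nat_lit 0x0))) (.node 1 (.leaf (nat_lit 0x0)) (.leaf (nat_lit 0x0)))))))) (.node 32 (.node 16 (.node 8 (.node 4 (.node 2 (.node 1 (.leaf (nat_lit 0x0)) (.leaf (nat_lit 0x0))) (.node 1 (.leaf (nat_lit 0x0)) (.leaf (nat_lit 0x0)))) (.node 2 (.node 1 (.leaf (nat_lit 0x0)) (.leaf (nat_lit 0x0))) (.node 1 (.leaf (nat_lit 0x0)) (.leaf (nat_lit 0x0)))))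 (.node 4 (.node 2 (.node 1 (.leaf (nat_lit 0x0)) (.leaf (nat_lit 0x0))) (.node 1 (.leaf (nat_lit 0x0)) (.leaf (nat_lit 0x0)))) (.node 2 (.node 1 (.leaf (nat_lit 0x0)) (.leaf (nat_lit 0x0))) (.node 1 (.leaf (nat_lit 0x0)) (.leaf (nat_lit 0x0)))))) (.node 8 (.node 4 (.node 2 (.node 1 (.leaf (nat_lit 0x0)) (.leaf (nat_lit 0x0))) (.node 1 (.leaf (nat_lit 0x0)) (.leaf (nat_lit 0x0)))) (.node 2 (.node 1 (.leaf (nat_lit 0x0)) (.leaf (nat_lit 0x0))) (.node 1 (.leaf (nat_lit 0x0)) (.leaf (nat_lit 0x0))))) (.node 4 (.node 2 (.node 1 (.leaf (nat_lit 0x0)) (.leaf (nat_lit 0x0))) (.node 1 (.leaf (nat_lit 0x0)) (.leaf (nat_lit 0x0)))) (.node 2 (.node 1 (.leaf (nat_lit 0x0)) (.leaf (nat_lit 0x0))) (.node 1 (.leaf (nat_lit 0x0)) (.leaf (nat_lit 0x0))))))) (.node 16 (.node 8 (.node 4 (.node 2 (.node 1 (.leaf (nat_lit 0x0)) (.leaf (nat_lit 0x0))) (.node 1 (.leaf (nat_lit 0x0)) (.leaf (nat_lit 0x0)))) (.node 2 (.node 1 (.leaf (nat_lit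 0x0)) (.leaf (nat_lit 0x0))) (.node 1 (.leaf (nat_lit 0x0)) (.leaf (nat_lit 0x0))))) (.node 4 (.node 2 (.node 1 (.leaf (nat_lit 0x0)) (.leaf (nat_lit 0x0))) (.node 1 (.leaf (nat_lit 0x0)) (.leaf (nat_lit 0x0)))) (.node 2 (.node 1 (.leaf (nat_lit 0x0)) (.leaf (nat_lit 0x0))) (.node 1 (.leaf (nat_lit 0x0)) (.leaf (nat_lit 0x0)))))) (.node 8 (.node 4 (.node 2 (.node 1 (.leaf (nat_lit 0x0)) (.leaf (nat_lit 0x0))) (.node 1 (.leaf (nat_lit 0x0)) (.leaf (nat_lit 0x0)))) (.node 2 (.node 1 (.leaf (nat_lit 0x0)) (.leaf (nat_lit 0x0))) (.node 1 (.leaf (nat_lit 0x0)) (.leaf (nat_lit 0x0))))) (.node 4 (.node 2 (.node 1 (.leaf (nat_lit 0x0)) (.leaf (nat_lit 0x0))) (.node 1 (.leaf (nat_lit 0x0)) (.leaf (nat_lit 0x0)))) (.node 2 (.node 1 (.leaf (nat_lit 0x0)) (.leaf (nat_lit 0x0))) (.node 1 (.leaf (nat_lit 0x0)) (.leaf (nat_lit 0x0))))))))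

noncomputable def lvO6_7 : Tree :=
  .node 64 (.node 32 (.node 16 (.node 8 (.node 4 (.node 2 (.node 1 (.leaf (nat_lit 0x0)) (.leaf (nat_lit 0x0))) (.node 1 (.leaf (nat_lit 0x0)) (.leaf (nat_lit 0x0)))) (.node 2 (.node 1 (.leaf (nat_lit 0x0)) (.leaf (nat_lit 0x0))) (.node 1 (.leaf (nat_lit 0x0)) (.leaf (nat_lit 0x0))))) (.node 4 (.node 2 (.node 1 (.leaf (nat_lit 0x0)) (.leaf (nat_lit 0x0))) (.node 1 (.leaf (nat_lit 0x0)) (.leaf (nat_lit 0x0)))) (.node 2 (.node 1 (.leaf (nat_lit 0x0)) (.leaf (nat_lit 0x0))) (.node 1 (.leaf (nat_lit 0x0)) (.leaf (nat_lit 0x0)))))) (.node 8 (.node 4 (.node 2 (.node 1 (.leaf (nat_lit 0x0)) (.leaf (nat_lit 0x0))) (.node 1 (.leaf (nat_lit 0x0)) (.leaf (nat_lit 0x0)))) (.node 2 (.node 1 (.leaf (nat_lit 0x0)) (.leaf (nat_lit 0x0))) (.node 1 (.leaf (nat_lit 0x0)) (.leaf (nat_lit 0x0))))) (.node 4 (.node 2 (.node 1 (.leaf (nat_lit 0x0)) (.leaf (nat_lit 0x0))) (.node 1 (.leaf (nat_lit 0x0))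 (.leaf (nat_lit 0x0)))) (.node 2 (.node 1 (.leaf (nat_lit 0x0)) (.leaf (nat_lit 0x0))) (.node 1 (.leaf (nat_lit 0x0)) (.leaf (nat_lit 0x0))))))) (.node 16 (.node 8 (.node 4 (.node 2 (.node 1 (.leaf (nat_lit 0x0)) (.leaf (nat_lit 0x0))) (.node 1 (.leaf (nat_lit 0x0)) (.leaf (nat_lit 0x0)))) (.node 2 (.node 1 (.leaf (nat_lit 0x0)) (.leaf (nat_lit 0x0))) (.node 1 (.leaf (nat_lit 0x0)) (.leaf (nat_lit 0x0))))) (.node 4 (.node 2 (.node 1 (.leaf (nat_lit 0x0)) (.leaf (nat_lit 0x0))) (.node 1 (.leaf (nat_lit 0x0)) (.leaf (nat_lit 0x0)))) (.node 2 (.node 1 (.leaf (nat_lit 0x0)) (.leaf (nat_lit 0x0))) (.node 1 (.leaf (nat_lit 0x0)) (.leaf (nat_lit 0x0)))))) (.node 8 (.node 4 (.node 2 (.node 1 (.leaf (nat_lit 0x0)) (.leaf (nat_lit 0x0))) (.node 1 (.leaf (nat_lit 0x0)) (.leaf (nat_lit 0x0)))) (.node 2 (.node 1 (.leaf (nat_lit 0x0)) (.leaf (nat_lit 0x0))) (.node 1 (.leaf (nat_lit 0x0)) (.leaf (nat_lit 0x0))))) (.node 4 (.node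 2 (.node 1 (.leaf (nat_lit 0x0)) (.leaf (nat_lit 0x0))) (.node 1 (.leaf (nat_lit 0x0)) (.leaf (nat_lit 0x0)))) (.node 2 (.node 1 (.leaf (nat_lit 0x0)) (.leaf (nat_lit 0x0))) (.node 1 (.leaf (nat_lit 0x0)) (.leaf (nat_lit 0x0)))))))) (.node 32 (.node 16 (.node 8 (.node 4 (.node 2 (.node 1 (.leaf (nat_lit 0x0)) (.leaf (nat_lit 0x0))) (.node 1 (.leaf (nat_lit 0x0)) (.leaf (nat_lit 0x0)))) (.node 2 (.node 1 (.leaf (nat_lit 0x0)) (.leaf (nat_lit 0x0))) (.node 1 (.leaf (nat_lit 0x0)) (.leaf (nat_lit 0x0))))) (.node 4 (.node 2 (.node 1 (.leaf (nat_lit 0x0)) (.leaf (nat_lit 0x0))) (.node 1 (.leaf (nat_lit 0x0)) (.leaf (nat_lit 0x0)))) (.node 2 (.node 1 (.leaf (nat_lit 0x0)) (.leaf (nat_lit 0x0))) (.node 1 (.leaf (nat_lit 0x0)) (.leaf (nat_lit 0x0)))))) (.node 8 (.node 4 (.node 2 (.node 1 (.leaf (nat_lit 0x0)) (.leaf (nat_lit 0x0))) (.node 1 (.leaf (nat_lit 0x0)) (.leaf (nat_lit 0x0)))) (.node 2 (.node 1 (.leaf (nat_lit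 0x0)) (.leaf (nat_lit 0x0))) (.node 1 (.leaf (nat_lit 0x0)) (.leaf (nat_lit 0x0))))) (.node 4 (.node 2 (.node 1 (.leaf (nat_lit 0x0)) (.leaf (nat_lit 0x0))) (.node 1 (.leaf (nat_lit 0x0)) (.leaf (nat_lit 0x0)))) (.node 2 (.node 1 (.leaf (nat_lit 0x0)) (.leaf (nat_lit 0x0))) (.node 1 (.leaf (nat_lit 0x0)) (.leaf (nat_lit 0x0))))))) (.node 16 (.node 8 (.node 4 (.node 2 (.node 1 (.leaf (nat_lit 0x0)) (.leaf (nat_lit 0x0))) (.node 1 (.leaf (nat_lit 0x0)) (.leaf (nat_lit 0x0)))) (.node 2 (.node 1 (.leaf (nat_lit 0x0)) (.leaf (nat_lit 0x0))) (.node 1 (.leaf (nat_lit 0x0)) (.leaf (nat_lit 0x0))))) (.node 4 (.node 2 (.node 1 (.leaf (nat_lit 0x0)) (.leaf (nat_lit 0x0))) (.node 1 (.leaf (nat_lit 0x0)) (.leaf (nat_lit 0x0)))) (.node 2 (.node 1 (.leaf (nat_lit 0x0)) (.leaf (nat_lit 0x0))) (.node 1 (.leaf (nat_lit 0x0)) (.leaf (nat_lit 0x0)))))) (.node 8 (.node 4 (.node 2 (.node 1 (.leaf (nat_lit 0x0)) (.leaf (nat_lit 0x0)))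 (.node 1 (.leaf (nat_lit 0x0)) (.leaf (nat_lit 0x0)))) (.node 2 (.node 1 (.leaf (nat_lit 0x0)) (.leaf (nat_lit 0x0))) (.node 1 (.leaf (nat_lit 0x0)) (.leaf (nat_lit 0x0))))) (.node 4 (.node 2 (.node 1 (.leaf (nat_lit 0x0)) (.leaf (nat_lit 0x0))) (.node 1 (.leaf (nat_lit 0x0)) (.leaf (nat_lit 0x0)))) (.node 2 (.node 1 (.leaf (nat_lit 0x0)) (.leaf (nat_lit 0x0))) (.node 1 (.leaf (nat_lit 0x0)) (.leaf (nat_lit 0x0))))))))

noncomputable def lvO6_8 : Tree :=
  .node 64 (.node 32 (.node 16 (.node 8 (.node 4 (.node 2 (.node 1 (.leaf (nat_lit 0x0)) (.leaf (nat_lit 0x0))) (.node 1 (.leaf (nat_lit 0x0)) (.leaf (nat_lit 0x0)))) (.node 2 (.node 1 (.leaf (nat_lit 0x0)) (.leaf (nat_lit 0x0))) (.node 1 (.leaf (nat_lit 0x0)) (.leaf (nat_lit 0x0))))) (.node 4 (.node 2 (.node 1 (.leaf (nat_lit 0x0)) (.leaf (nat_lit 0x0))) (.node 1 (.leaf (nat_lit 0x0)) (.leaf (nat_lit 0x0)))) (.node 2 (.node 1 (.leaf (nat_lit 0x0)) (.leaf (nat_lit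 0x0))) (.node 1 (.leaf (nat_lit 0x0)) (.leaf (nat_lit 0x0)))))) (.node 8 (.node 4 (.node 2 (.node 1 (.leaf (nat_lit 0x0)) (.leaf (nat_lit 0x0))) (.node 1 (.leaf (nat_lit 0x0)) (.leaf (nat_lit 0x0)))) (.node 2 (.node 1 (.leaf (nat_lit 0x0)) (.leaf (nat_lit 0x0))) (.node 1 (.leaf (nat_lit 0x0)) (.leaf (nat_lit 0x0))))) (.node 4 (.node 2 (.node 1 (.leaf (nat_lit 0x0)) (.leaf (nat_lit 0x0))) (.node 1 (.leaf (nat_lit 0x0)) (.leaf (nat_lit 0x0)))) (.node 2 (.node 1 (.leaf (nat_lit 0x0)) (.leaf (nat_lit 0x0))) (.node 1 (.leaf (nat_lit 0x0)) (.leaf (nat_lit 0x0))))))) (.node 16 (.node 8 (.node 4 (.node 2 (.node 1 (.leaf (nat_lit 0x0)) (.leaf (nat_lit 0x0))) (.node 1 (.leaf (nat_lit 0x0)) (.leaf (nat_lit 0x0)))) (.node 2 (.node 1 (.leaf (nat_lit 0x0)) (.leaf (nat_lit 0x0))) (.node 1 (.leaf (nat_lit 0x0)) (.leaf (nat_lit 0x0))))) (.node 4 (.node 2 (.node 1 (.leaf (nat_lit 0x0)) (.leaf (nat_lit 0x0))) (.node 1 (.leaf (nat_lit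 0x0)) (.leaf (nat_lit 0x0)))) (.node 2 (.node 1 (.leaf (nat_lit 0x0)) (.leaf (nat_lit 0x0))) (.node 1 (.leaf (nat_lit 0x0)) (.leaf (nat_lit 0x0)))))) (.node 8 (.node 4 (.node 2 (.node 1 (.leaf (nat_lit 0x0)) (.leaf (nat_lit 0x0))) (.node 1 (.leaf (nat_lit 0x0)) (.leaf (nat_lit 0x0)))) (.node 2 (.node 1 (.leaf (nat_lit 0x0)) (.leaf (nat_lit 0x0))) (.node 1 (.leaf (nat_lit 0x0)) (.leaf (nat_lit 0x0))))) (.node 4 (.node 2 (.node 1 (.leaf (nat_lit 0x0)) (.leaf (nat_lit 0x0))) (.node 1 (.leaf (nat_lit 0x0)) (.leaf (nat_lit 0x0)))) (.node 2 (.node 1 (.leaf (nat_lit 0x0)) (.leaf (nat_lit 0x0))) (.node 1 (.leaf (nat_lit 0x0)) (.leaf (nat_lit 0x0)))))))) (.node 32 (.node 16 (.node 8 (.node 4 (.node 2 (.node 1 (.leaf (nat_lit 0x0)) (.leaf (nat_lit 0x0))) (.node 1 (.leaf (nat_lit 0x0)) (.leaf (nat_lit 0x0)))) (.node 2 (.node 1 (.leaf (nat_lit 0x0)) (.leaf (nat_lit 0x0))) (.node 1 (.leaf (nat_lit 0x0)) (.leaf (nat_lit 0x0)))))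 (.node 4 (.node 2 (.node 1 (.leaf (nat_lit 0x0)) (.leaf (nat_lit 0x0))) (.node 1 (.leaf (nat_lit 0x0)) (.leaf (nat_lit 0x0)))) (.node 2 (.node 1 (.leaf (nat_lit 0x0)) (.leaf (nat_lit 0x0))) (.node 1 (.leaf (nat_lit 0x0)) (.leaf (nat_lit 0x0)))))) (.node 8 (.node 4 (.node 2 (.node 1 (.leaf (nat_lit 0x0)) (.leaf (nat_lit 0x0))) (.node 1 (.leaf (nat_lit 0x0)) (.leaf (nat_lit 0x0)))) (.node 2 (.node 1 (.leaf (nat_lit 0x0)) (.leaf (nat_lit 0x0))) (.node 1 (.leaf (nat_lit 0x0)) (.leaf (nat_lit 0x0))))) (.node 4 (.node 2 (.node 1 (.leaf (nat_lit 0x0)) (.leaf (nat_lit 0x0))) (.node 1 (.leaf (nat_lit 0x0)) (.leaf (nat_lit 0x0)))) (.node 2 (.node 1 (.leaf (nat_lit 0x0)) (.leaf (nat_lit 0x0))) (.node 1 (.leaf (nat_lit 0x0)) (.leaf (nat_lit 0x0))))))) (.node 16 (.node 8 (.node 4 (.node 2 (.node 1 (.leaf (nat_lit 0x0)) (.leaf (nat_lit 0x0))) (.node 1 (.leaf (nat_lit 0x0)) (.leaf (nat_lit 0x0)))) (.node 2 (.node 1 (.leaf (nat_lit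 0x0)) (.leaf (nat_lit 0x0))) (.node 1 (.leaf (nat_lit 0x0)) (.leaf (nat_lit 0x0))))) (.node 4 (.node 2 (.node 1 (.leaf (nat_lit 0x0)) (.leaf (nat_lit 0x0))) (.node 1 (.leaf (nat_lit 0x0)) (.leaf (nat_lit 0x0)))) (.node 2 (.node 1 (.leaf (nat_lit 0x0)) (.leaf (nat_lit 0x0))) (.node 1 (.leaf (nat_lit 0x0)) (.leaf (nat_lit 0x0)))))) (.node 8 (.node 4 (.node 2 (.node 1 (.leaf (nat_lit 0x0)) (.leaf (nat_lit 0x0))) (.node 1 (.leaf (nat_lit 0x0)) (.leaf (nat_lit 0x0)))) (.node 2 (.node 1 (.leaf (nat_lit 0x0)) (.leaf (nat_lit 0x0))) (.node 1 (.leaf (nat_lit 0x0)) (.leaf (nat_lit 0x0))))) (.node 4 (.node 2 (.node 1 (.leaf (nat_lit 0x0)) (.leaf (nat_lit 0x0))) (.node 1 (.leaf (nat_lit 0x0)) (.leaf (nat_lit 0x0)))) (.node 2 (.node 1 (.leaf (nat_lit 0x0)) (.leaf (nat_lit 0x0))) (.node 1 (.leaf (nat_lit 0x0)) (.leaf (nat_lit 0x0))))))))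

noncomputable def lvO6_9 : Tree :=
  .node 64 (.node 32 (.node 16 (.node 8 (.node 4 (.node 2 (.node 1 (.leaf (nat_lit 0x0)) (.leaf (nat_lit 0x0))) (.node 1 (.leaf (nat_lit 0x0)) (.leaf (nat_lit 0x0)))) (.node 2 (.node 1 (.leaf (nat_lit 0x0)) (.leaf (nat_lit 0x0))) (.node 1 (.leaf (nat_lit 0x0)) (.leaf (nat_lit 0x0))))) (.node 4 (.node 2 (.node 1 (.leaf (nat_lit 0x0)) (.leaf (nat_lit 0x0))) (.node 1 (.leaf (nat_lit 0x0)) (.leaf (nat_lit 0x0)))) (.node 2 (.node 1 (.leaf (nat_lit 0x0)) (.leaf (nat_lit 0x0))) (.node 1 (.leaf (nat_lit 0x0)) (.leaf (nat_lit 0x0)))))) (.node 8 (.node 4 (.node 2 (.node 1 (.leaf (nat_lit 0x0)) (.leaf (nat_lit 0x0))) (.node 1 (.leaf (nat_lit 0x0)) (.leaf (nat_lit 0x0)))) (.node 2 (.node 1 (.leaf (nat_lit 0x0)) (.leaf (nat_lit 0x0))) (.node 1 (.leaf (nat_lit 0x0)) (.leaf (nat_lit 0x0))))) (.node 4 (.node 2 (.node 1 (.leaf (nat_lit 0x0)) (.leaf (nat_lit 0x0))) (.node 1 (.leaf (nat_lit 0x0))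 (.leaf (nat_lit 0x0)))) (.node 2 (.node 1 (.leaf (nat_lit 0x0)) (.leaf (nat_lit 0x0))) (.node 1 (.leaf (nat_lit 0x0)) (.leaf (nat_lit 0x0))))))) (.node 16 (.node 8 (.node 4 (.node 2 (.node 1 (.leaf (nat_lit 0x0)) (.leaf (nat_lit 0x0))) (.node 1 (.leaf (nat_lit 0x0)) (.leaf (nat_lit 0x0)))) (.node 2 (.node 1 (.leaf (nat_lit 0x0)) (.leaf (nat_lit 0x0))) (.node 1 (.leaf (nat_lit 0x0)) (.leaf (nat_lit 0x0))))) (.node 4 (.node 2 (.node 1 (.leaf (nat_lit 0x0)) (.leaf (nat_lit 0x0))) (.node 1 (.leaf (nat_lit 0x0)) (.leaf (nat_lit 0x0)))) (.node 2 (.node 1 (.leaf (nat_lit 0x0)) (.leaf (nat_lit 0x0))) (.node 1 (.leaf (nat_lit 0x0)) (.leaf (nat_lit 0x0)))))) (.node 8 (.node 4 (.node 2 (.node 1 (.leaf (nat_lit 0x0)) (.leaf (nat_lit 0x0))) (.node 1 (.leaf (nat_lit 0x0)) (.leaf (nat_lit 0x0)))) (.node 2 (.node 1 (.leaf (nat_lit 0x0)) (.leaf (nat_lit 0x0))) (.node 1 (.leaf (nat_lit 0x0)) (.leaf (nat_lit 0x0))))) (.node 4 (.node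 2 (.node 1 (.leaf (nat_lit 0x0)) (.leaf (nat_lit 0x0))) (.node 1 (.leaf (nat_lit 0x0)) (.leaf (nat_lit 0x0)))) (.node 2 (.node 1 (.leaf (nat_lit 0x0)) (.leaf (nat_lit 0x0))) (.node 1 (.leaf (nat_lit 0x0)) (.leaf (nat_lit 0x0)))))))) (.node 32 (.node 16 (.node 8 (.node 4 (.node 2 (.node 1 (.leaf (nat_lit 0x0)) (.leaf (nat_lit 0x0))) (.node 1 (.leaf (nat_lit 0x0)) (.leaf (nat_lit 0x0)))) (.node 2 (.node 1 (.leaf (nat_lit 0x0)) (.leaf (nat_lit 0x0))) (.node 1 (.leaf (nat_lit 0x0)) (.leaf (nat_lit 0x0))))) (.node 4 (.node 2 (.node 1 (.leaf (nat_lit 0x0)) (.leaf (nat_lit 0x0))) (.node 1 (.leaf (nat_lit 0x0)) (.leaf (nat_lit 0x0)))) (.node 2 (.node 1 (.leaf (nat_lit 0x0)) (.leaf (nat_lit 0x0))) (.node 1 (.leaf (nat_lit 0x0)) (.leaf (nat_lit 0x0)))))) (.node 8 (.node 4 (.node 2 (.node 1 (.leaf (nat_lit 0x0)) (.leaf (nat_lit 0x0))) (.node 1 (.leaf (nat_lit 0x0)) (.leaf (nat_lit 0x0)))) (.node 2 (.node 1 (.leaf (nat_lit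 0x0)) (.leaf (nat_lit 0x0))) (.node 1 (.leaf (nat_lit 0x0)) (.leaf (nat_lit 0x0))))) (.node 4 (.node 2 (.node 1 (.leaf (nat_lit 0x0)) (.leaf (nat_lit 0x0))) (.node 1 (.leaf (nat_lit 0x0)) (.leaf (nat_lit 0x0)))) (.node 2 (.node 1 (.leaf (nat_lit 0x0)) (.leaf (nat_lit 0x0))) (.node 1 (.leaf (nat_lit 0x0)) (.leaf (nat_lit 0x0))))))) (.node 16 (.node 8 (.node 4 (.node 2 (.node 1 (.leaf (nat_lit 0x0)) (.leaf (nat_lit 0x0))) (.node 1 (.leaf (nat_lit 0x0)) (.leaf (nat_lit 0x0)))) (.node 2 (.node 1 (.leaf (nat_lit 0x0)) (.leaf (nat_lit 0x0))) (.node 1 (.leaf (nat_lit 0x0)) (.leaf (nat_lit 0x0))))) (.node 4 (.node 2 (.node 1 (.leaf (nat_lit 0x0)) (.leaf (nat_lit 0x0))) (.node 1 (.leaf (nat_lit 0x0)) (.leaf (nat_lit 0x0)))) (.node 2 (.node 1 (.leaf (nat_lit 0x0)) (.leaf (nat_lit 0x0))) (.node 1 (.leaf (nat_lit 0x0)) (.leaf (nat_lit 0x0)))))) (.node 8 (.node 4 (.node 2 (.node 1 (.leaf (nat_lit 0x0)) (.leaf (nat_lit 0x0)))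 (.node 1 (.leaf (nat_lit 0x0)) (.leaf (nat_lit 0x0)))) (.node 2 (.node 1 (.leaf (nat_lit 0x0)) (.leaf (nat_lit 0x0))) (.node 1 (.leaf (nat_lit 0x0)) (.leaf (nat_lit 0x0))))) (.node 4 (.node 2 (.node 1 (.leaf (nat_lit 0x0)) (.leaf (nat_lit 0x0))) (.node 1 (.leaf (nat_lit 0x0)) (.leaf (nat_lit 0x0)))) (.node 2 (.node 1 (.leaf (nat_lit 0x0)) (.leaf (nat_lit 0x0))) (.node 1 (.leaf (nat_lit 0x0)) (.leaf (nat_lit 0x0))))))))

noncomputable def lvO6_10 : Tree :=
  .node 64 (.node 32 (.node 16 (.node 8 (.node 4 (.node 2 (.node 1 (.leaf (nat_lit 0x0)) (.leaf (nat_lit 0x0))) (.node 1 (.leaf (nat_lit 0x0)) (.leaf (nat_lit 0x0)))) (.node 2 (.node 1 (.leaf (nat_lit 0x0)) (.leaf (nat_lit 0x0))) (.node 1 (.leaf (nat_lit 0x0)) (.leaf (nat_lit 0x0))))) (.node 4 (.node 2 (.node 1 (.leaf (nat_lit 0x0)) (.leaf (nat_lit 0x0))) (.node 1 (.leaf (nat_lit 0x0)) (.leaf (nat_lit 0x0)))) (.node 2 (.node 1 (.leaf (nat_lit 0x0)) (.leaf (nat_lit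 0x0))) (.node 1 (.leaf (nat_lit 0x0)) (.leaf (nat_lit 0x0)))))) (.node 8 (.node 4 (.node 2 (.node 1 (.leaf (nat_lit 0x0)) (.leaf (nat_lit 0x0))) (.node 1 (.leaf (nat_lit 0x0)) (.leaf (nat_lit 0x0)))) (.node 2 (.node 1 (.leaf (nat_lit 0x0)) (.leaf (nat_lit 0x0))) (.node 1 (.leaf (nat_lit 0x0)) (.leaf (nat_lit 0x0))))) (.node 4 (.node 2 (.node 1 (.leaf (nat_lit 0x0)) (.leaf (nat_lit 0x0))) (.node 1 (.leaf (nat_lit 0x0)) (.leaf (nat_lit 0x0)))) (.node 2 (.node 1 (.leaf (nat_lit 0x0)) (.leaf (nat_lit 0x0))) (.node 1 (.leaf (nat_lit 0x0)) (.leaf (nat_lit 0x0))))))) (.node 16 (.node 8 (.node 4 (.node 2 (.node 1 (.leaf (nat_lit 0x0)) (.leaf (nat_lit 0x0))) (.node 1 (.leaf (nat_lit 0x0)) (.leaf (nat_lit 0x0)))) (.node 2 (.node 1 (.leaf (nat_lit 0x0)) (.leaf (nat_lit 0x0))) (.node 1 (.leaf (nat_lit 0x0)) (.leaf (nat_lit 0x0))))) (.node 4 (.node 2 (.node 1 (.leaf (nat_lit 0x0)) (.leaf (nat_lit 0x0))) (.node 1 (.leaf (nat_lit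 0x0)) (.leaf (nat_lit 0x0)))) (.node 2 (.node 1 (.leaf (nat_lit 0x0)) (.leaf (nat_lit 0x0))) (.node 1 (.leaf (nat_lit 0x0)) (.leaf (nat_lit 0x0)))))) (.node 8 (.node 4 (.node 2 (.node 1 (.leaf (nat_lit 0x0)) (.leaf (nat_lit 0x0))) (.node 1 (.leaf (nat_lit 0x0)) (.leaf (nat_lit 0x0)))) (.node 2 (.node 1 (.leaf (nat_lit 0x0)) (.leaf (nat_lit 0x0))) (.node 1 (.leaf (nat_lit 0x0)) (.leaf (nat_lit 0x0))))) (.node 4 (.node 2 (.node 1 (.leaf (nat_lit 0x0)) (.leaf (nat_lit 0x0))) (.node 1 (.leaf (nat_lit 0x0)) (.leaf (nat_lit 0x0)))) (.node 2 (.node 1 (.leaf (nat_lit 0x0)) (.leaf (nat_lit 0x0))) (.node 1 (.leaf (nat_lit 0x0)) (.leaf (nat_lit 0x0)))))))) (.node 32 (.node 16 (.node 8 (.node 4 (.node 2 (.node 1 (.leaf (nat_lit 0x0)) (.leaf (nat_lit 0x0))) (.node 1 (.leaf (nat_lit 0x0)) (.leaf (nat_lit 0x0)))) (.node 2 (.node 1 (.leaf (nat_lit 0x0)) (.leaf (nat_lit 0x0))) (.node 1 (.leaf (nat_lit 0x0)) (.leaf (nat_lit 0x0)))))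 (.node 4 (.node 2 (.node 1 (.leaf (nat_lit 0x0)) (.leaf (nat_lit 0x0))) (.node 1 (.leaf (nat_lit 0x0)) (.leaf (nat_lit 0x0)))) (.node 2 (.node 1 (.leaf (nat_lit 0x0)) (.leaf (nat_lit 0x0))) (.node 1 (.leaf (nat_lit 0x0)) (.leaf (nat_lit 0x0)))))) (.node 8 (.node 4 (.node 2 (.node 1 (.leaf (nat_lit 0x0)) (.leaf (nat_lit 0x0))) (.node 1 (.leaf (nat_lit 0x0)) (.leaf (nat_lit 0x0)))) (.node 2 (.node 1 (.leaf (nat_lit 0x0)) (.leaf (nat_lit 0x0))) (.node 1 (.leaf (nat_lit 0x0)) (.leaf (nat_lit 0x0))))) (.node 4 (.node 2 (.node 1 (.leaf (nat_lit 0x0)) (.leaf (nat_lit 0x0))) (.node 1 (.leaf (nat_lit 0x0)) (.leaf (nat_lit 0x0)))) (.node 2 (.node 1 (.leaf (nat_lit 0x0)) (.leaf (nat_lit 0x0))) (.node 1 (.leaf (nat_lit 0x0)) (.leaf (nat_lit 0x0))))))) (.node 16 (.node 8 (.node 4 (.node 2 (.node 1 (.leaf (nat_lit 0x0)) (.leaf (nat_lit 0x0))) (.node 1 (.leaf (nat_lit 0x0)) (.leaf (nat_lit 0x0)))) (.node 2 (.node 1 (.leaf (nat_lit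 0x0)) (.leaf (nat_lit 0x0))) (.node 1 (.leaf (nat_lit 0x0)) (.leaf (nat_lit 0x0))))) (.node 4 (.node 2 (.node 1 (.leaf (nat_lit 0x0)) (.leaf (nat_lit 0x0))) (.node 1 (.leaf (nat_lit 0x0)) (.leaf (nat_lit 0x0)))) (.node 2 (.node 1 (.leaf (nat_lit 0x0)) (.leaf (nat_lit 0x0))) (.node 1 (.leaf (nat_lit 0x0)) (.leaf (nat_lit 0x0)))))) (.node 8 (.node 4 (.node 2 (.node 1 (.leaf (nat_lit 0x0)) (.leaf (nat_lit 0x0))) (.node 1 (.leaf (nat_lit 0x0)) (.leaf (nat_lit 0x0)))) (.node 2 (.node 1 (.leaf (nat_lit 0x0)) (.leaf (nat_lit 0x0))) (.node 1 (.leaf (nat_lit 0x0)) (.leaf (nat_lit 0x0))))) (.node 4 (.node 2 (.node 1 (.leaf (nat_lit 0x0)) (.leaf (nat_lit 0x0))) (.node 1 (.leaf (nat_lit 0x0)) (.leaf (nat_lit 0x0)))) (.node 2 (.node 1 (.leaf (nat_lit 0x0)) (.leaf (nat_lit 0x0))) (.node 1 (.leaf (nat_lit 0x0)) (.leaf (nat_lit 0x0))))))))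

noncomputable def lvO6_11 : Tree :=
  .node 64 (.node 32 (.node 16 (.node 8 (.node 4 (.node 2 (.node 1 (.leaf (nat_lit 0x0)) (.leaf (nat_lit 0x0))) (.node 1 (.leaf (nat_lit 0x0)) (.leaf (nat_lit 0x0)))) (.node 2 (.node 1 (.leaf (nat_lit 0x0)) (.leaf (nat_lit 0x0))) (.node 1 (.leaf (nat_lit 0x0)) (.leaf (nat_lit 0x0))))) (.node 4 (.node 2 (.node 1 (.leaf (nat_lit 0x0)) (.leaf (nat_lit 0x0))) (.node 1 (.leaf (nat_lit 0x0)) (.leaf (nat_lit 0x0)))) (.node 2 (.node 1 (.leaf (nat_lit 0x0)) (.leaf (nat_lit 0x0))) (.node 1 (.leaf (nat_lit 0x0)) (.leaf (nat_lit 0x0)))))) (.node 8 (.node 4 (.node 2 (.node 1 (.leaf (nat_lit 0x0)) (.leaf (nat_lit 0x0))) (.node 1 (.leaf (nat_lit 0x0)) (.leaf (nat_lit 0x0)))) (.node 2 (.node 1 (.leaf (nat_lit 0x0)) (.leaf (nat_lit 0x0))) (.node 1 (.leaf (nat_lit 0x0)) (.leaf (nat_lit 0x0))))) (.node 4 (.node 2 (.node 1 (.leaf (nat_lit 0x0)) (.leaf (nat_lit 0x0))) (.node 1 (.leaf (nat_lit 0x0))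 (.leaf (nat_lit 0x0)))) (.node 2 (.node 1 (.leaf (nat_lit 0x0)) (.leaf (nat_lit 0x0))) (.node 1 (.leaf (nat_lit 0x0)) (.leaf (nat_lit 0x0))))))) (.node 16 (.node 8 (.node 4 (.node 2 (.node 1 (.leaf (nat_lit 0x0)) (.leaf (nat_lit 0x0))) (.node 1 (.leaf (nat_lit 0x0)) (.leaf (nat_lit 0x0)))) (.node 2 (.node 1 (.leaf (nat_lit 0x0)) (.leaf (nat_lit 0x0))) (.node 1 (.leaf (nat_lit 0x0)) (.leaf (nat_lit 0x0))))) (.node 4 (.node 2 (.node 1 (.leaf (nat_lit 0x0)) (.leaf (nat_lit 0x0))) (.node 1 (.leaf (nat_lit 0x0)) (.leaf (nat_lit 0x0)))) (.node 2 (.node 1 (.leaf (nat_lit 0x0)) (.leaf (nat_lit 0x0))) (.node 1 (.leaf (nat_lit 0x0)) (.leaf (nat_lit 0x0)))))) (.node 8 (.node 4 (.node 2 (.node 1 (.leaf (nat_lit 0x0)) (.leaf (nat_lit 0x0))) (.node 1 (.leaf (nat_lit 0x0)) (.leaf (nat_lit 0x0)))) (.node 2 (.node 1 (.leaf (nat_lit 0x0)) (.leaf (nat_lit 0x0))) (.node 1 (.leaf (nat_lit 0x0)) (.leaf (nat_lit 0x0))))) (.node 4 (.node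 2 (.node 1 (.leaf (nat_lit 0x0)) (.leaf (nat_lit 0x0))) (.node 1 (.leaf (nat_lit 0x0)) (.leaf (nat_lit 0x0)))) (.node 2 (.node 1 (.leaf (nat_lit 0x0)) (.leaf (nat_lit 0x0))) (.node 1 (.leaf (nat_lit 0x0)) (.leaf (nat_lit 0x0)))))))) (.node 32 (.node 16 (.node 8 (.node 4 (.node 2 (.node 1 (.leaf (nat_lit 0x0)) (.leaf (nat_lit 0x0))) (.node 1 (.leaf (nat_lit 0x0)) (.leaf (nat_lit 0x0)))) (.node 2 (.node 1 (.leaf (nat_lit 0x0)) (.leaf (nat_lit 0x0))) (.node 1 (.leaf (nat_lit 0x0)) (.leaf (nat_lit 0x0))))) (.node 4 (.node 2 (.node 1 (.leaf (nat_lit 0x0)) (.leaf (nat_lit 0x0))) (.node 1 (.leaf (nat_lit 0x0)) (.leaf (nat_lit 0x0)))) (.node 2 (.node 1 (.leaf (nat_lit 0x0)) (.leaf (nat_lit 0x0))) (.node 1 (.leaf (nat_lit 0x0)) (.leaf (nat_lit 0x0)))))) (.node 8 (.node 4 (.node 2 (.node 1 (.leaf (nat_lit 0x0)) (.leaf (nat_lit 0x0))) (.node 1 (.leaf (nat_lit 0x0)) (.leaf (nat_lit 0x0)))) (.node 2 (.node 1 (.leaf (nat_lit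 0x0)) (.leaf (nat_lit 0x0))) (.node 1 (.leaf (nat_lit 0x0)) (.leaf (nat_lit 0x0))))) (.node 4 (.node 2 (.node 1 (.leaf (nat_lit 0x0)) (.leaf (nat_lit 0x0))) (.node 1 (.leaf (nat_lit 0x0)) (.leaf (nat_lit 0x0)))) (.node 2 (.node 1 (.leaf (nat_lit 0x0)) (.leaf (nat_lit 0x0))) (.node 1 (.leaf (nat_lit 0x0)) (.leaf (nat_lit 0x0))))))) (.node 16 (.node 8 (.node 4 (.node 2 (.node 1 (.leaf (nat_lit 0x0)) (.leaf (nat_lit 0x0))) (.node 1 (.leaf (nat_lit 0x0)) (.leaf (nat_lit 0x0)))) (.node 2 (.node 1 (.leaf (nat_lit 0x0)) (.leaf (nat_lit 0x0))) (.node 1 (.leaf (nat_lit 0x0)) (.leaf (nat_lit 0x0))))) (.node 4 (.node 2 (.node 1 (.leaf (nat_lit 0x0)) (.leaf (nat_lit 0x0))) (.node 1 (.leaf (nat_lit 0x0)) (.leaf (nat_lit 0x0)))) (.node 2 (.node 1 (.leaf (nat_lit 0x0)) (.leaf (nat_lit 0x0))) (.node 1 (.leaf (nat_lit 0x0)) (.leaf (nat_lit 0x0)))))) (.node 8 (.node 4 (.node 2 (.node 1 (.leaf (nat_lit 0x0)) (.leaf (nat_lit 0x0)))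 (.node 1 (.leaf (nat_lit 0x0)) (.leaf (nat_lit 0x0)))) (.node 2 (.node 1 (.leaf (nat_lit 0x0)) (.leaf (nat_lit 0x0))) (.node 1 (.leaf (nat_lit 0x0)) (.leaf (nat_lit 0x0))))) (.node 4 (.node 2 (.node 1 (.leaf (nat_lit 0x0)) (.leaf (nat_lit 0x0))) (.node 1 (.leaf (nat_lit 0x0)) (.leaf (nat_lit 0x0)))) (.node 2 (.node 1 (.leaf (nat_lit 0x0)) (.leaf (nat_lit 0x0))) (.node 1 (.leaf (nat_lit 0x0)) (.leaf (nat_lit 0x0))))))))

noncomputable def lvO6_12 : Tree :=
  .node 64 (.node 32 (.node 16 (.node 8 (.node 4 (.node 2 (.node 1 (.leaf (nat_lit 0x0)) (.leaf (nat_lit 0x0))) (.node 1 (.leaf (nat_lit 0x0)) (.leaf (nat_lit 0x0)))) (.node 2 (.node 1 (.leaf (nat_lit 0x0)) (.leaf (nat_lit 0x0))) (.node 1 (.leaf (nat_lit 0x0)) (.leaf (nat_lit 0x0))))) (.node 4 (.node 2 (.node 1 (.leaf (nat_lit 0x0)) (.leaf (nat_lit 0x0))) (.node 1 (.leaf (nat_lit 0x0)) (.leaf (nat_lit 0x0)))) (.node 2 (.node 1 (.leaf (nat_lit 0x0)) (.leaf (nat_lit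 0x0))) (.node 1 (.leaf (nat_lit 0x0)) (.leaf (nat_lit 0x0)))))) (.node 8 (.node 4 (.node 2 (.node 1 (.leaf (nat_lit 0x0)) (.leaf (nat_lit 0x0))) (.node 1 (.leaf (nat_lit 0x0)) (.leaf (nat_lit 0x0)))) (.node 2 (.node 1 (.leaf (nat_lit 0x0)) (.leaf (nat_lit 0x0))) (.node 1 (.leaf (nat_lit 0x0)) (.leaf (nat_lit 0x0))))) (.node 4 (.node 2 (.node 1 (.leaf (nat_lit 0x0)) (.leaf (nat_lit 0x0))) (.node 1 (.leaf (nat_lit 0x0)) (.leaf (nat_lit 0x0)))) (.node 2 (.node 1 (.leaf (nat_lit 0x0)) (.leaf (nat_lit 0x0))) (.node 1 (.leaf (nat_lit 0x0)) (.leaf (nat_lit 0x0))))))) (.node 16 (.node 8 (.node 4 (.node 2 (.node 1 (.leaf (nat_lit 0x0)) (.leaf (nat_lit 0x0))) (.node 1 (.leaf (nat_lit 0x0)) (.leaf (nat_lit 0x0)))) (.node 2 (.node 1 (.leaf (nat_lit 0x0)) (.leaf (nat_lit 0x0))) (.node 1 (.leaf (nat_lit 0x0)) (.leaf (nat_lit 0x0))))) (.node 4 (.node 2 (.node 1 (.leaf (nat_lit 0x0)) (.leaf (nat_lit 0x0))) (.node 1 (.leaf (nat_lit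 0x0)) (.leaf (nat_lit 0x0)))) (.node 2 (.node 1 (.leaf (nat_lit 0x0)) (.leaf (nat_lit 0x0))) (.node 1 (.leaf (nat_lit 0x0)) (.leaf (nat_lit 0x0)))))) (.node 8 (.node 4 (.node 2 (.node 1 (.leaf (nat_lit 0x0)) (.leaf (nat_lit 0x0))) (.node 1 (.leaf (nat_lit 0x0)) (.leaf (nat_lit 0x0)))) (.node 2 (.node 1 (.leaf (nat_lit 0x0)) (.leaf (nat_lit 0x0))) (.node 1 (.leaf (nat_lit 0x0)) (.leaf (nat_lit 0x0))))) (.node 4 (.node 2 (.node 1 (.leaf (nat_lit 0x0)) (.leaf (nat_lit 0x0))) (.node 1 (.leaf (nat_lit 0x0)) (.leaf (nat_lit 0x0)))) (.node 2 (.node 1 (.leaf (nat_lit 0x0)) (.leaf (nat_lit 0x0))) (.node 1 (.leaf (nat_lit 0x0)) (.leaf (nat_lit 0x0)))))))) (.node 32 (.node 16 (.node 8 (.node 4 (.node 2 (.node 1 (.leaf (nat_lit 0x0)) (.leaf (nat_lit 0x0))) (.node 1 (.leaf (nat_lit 0x0)) (.leaf (nat_lit 0x0)))) (.node 2 (.node 1 (.leaf (nat_lit 0x0)) (.leaf (nat_lit 0x0))) (.node 1 (.leaf (nat_lit 0x0)) (.leaf (nat_lit 0x0)))))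 (.node 4 (.node 2 (.node 1 (.leaf (nat_lit 0x0)) (.leaf (nat_lit 0x0))) (.node 1 (.leaf (nat_lit 0x0)) (.leaf (nat_lit 0x0)))) (.node 2 (.node 1 (.leaf (nat_lit 0x0)) (.leaf (nat_lit 0x0))) (.node 1 (.leaf (nat_lit 0x0)) (.leaf (nat_lit 0x0)))))) (.node 8 (.node 4 (.node 2 (.node 1 (.leaf (nat_lit 0x0)) (.leaf (nat_lit 0x0))) (.node 1 (.leaf (nat_lit 0x0)) (.leaf (nat_lit 0x0)))) (.node 2 (.node 1 (.leaf (nat_lit 0x0)) (.leaf (nat_lit 0x0))) (.node 1 (.leaf (nat_lit 0x0)) (.leaf (nat_lit 0x0))))) (.node 4 (.node 2 (.node 1 (.leaf (nat_lit 0x0)) (.leaf (nat_lit 0x0))) (.node 1 (.leaf (nat_lit 0x0)) (.leaf (nat_lit 0x0)))) (.node 2 (.node 1 (.leaf (nat_lit 0x0)) (.leaf (nat_lit 0x0))) (.node 1 (.leaf (nat_lit 0x0)) (.leaf (nat_lit 0x0))))))) (.node 16 (.node 8 (.node 4 (.node 2 (.node 1 (.leaf (nat_lit 0x0)) (.leaf (nat_lit 0x0))) (.node 1 (.leaf (nat_lit 0x0)) (.leaf (nat_lit 0x0)))) (.node 2 (.node 1 (.leaf (nat_lit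 0x0)) (.leaf (nat_lit 0x0))) (.node 1 (.leaf (nat_lit 0x0)) (.leaf (nat_lit 0x0))))) (.node 4 (.node 2 (.node 1 (.leaf (nat_lit 0x0)) (.leaf (nat_lit 0x0))) (.node 1 (.leaf (nat_lit 0x0)) (.leaf (nat_lit 0x0)))) (.node 2 (.node 1 (.leaf (nat_lit 0x0)) (.leaf (nat_lit 0x0))) (.node 1 (.leaf (nat_lit 0x0)) (.leaf (nat_lit 0x0)))))) (.node 8 (.node 4 (.node 2 (.node 1 (.leaf (nat_lit 0x0)) (.leaf (nat_lit 0x0))) (.node 1 (.leaf (nat_lit 0x0)) (.leaf (nat_lit 0x0)))) (.node 2 (.node 1 (.leaf (nat_lit 0x0)) (.leaf (nat_lit 0x0))) (.node 1 (.leaf (nat_lit 0x0)) (.leaf (nat_lit 0x0))))) (.node 4 (.node 2 (.node 1 (.leaf (nat_lit 0x0)) (.leaf (nat_lit 0x0))) (.node 1 (.leaf (nat_lit 0x0)) (.leaf (nat_lit 0x0)))) (.node 2 (.node 1 (.leaf (nat_lit 0x0)) (.leaf (nat_lit 0x0))) (.node 1 (.leaf (nat_lit 0x0)) (.leaf (nat_lit 0x0))))))))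

noncomputable def lvO6_13 : Tree :=
  .node 64 (.node 32 (.node 16 (.node 8 (.node 4 (.node 2 (.node 1 (.leaf (nat_lit 0x0)) (.leaf (nat_lit 0x0))) (.node 1 (.leaf (nat_lit 0x0)) (.leaf (nat_lit 0x0)))) (.node 2 (.node 1 (.leaf (nat_lit 0x0)) (.leaf (nat_lit 0x0))) (.node 1 (.leaf (nat_lit 0x0)) (.leaf (nat_lit 0x0))))) (.node 4 (.node 2 (.node 1 (.leaf (nat_lit 0x0)) (.leaf (nat_lit 0x0))) (.node 1 (.leaf (nat_lit 0x0)) (.leaf (nat_lit 0x0)))) (.node 2 (.node 1 (.leaf (nat_lit 0x0)) (.leaf (nat_lit 0x0))) (.node 1 (.leaf (nat_lit 0x0)) (.leaf (nat_lit 0x0)))))) (.node 8 (.node 4 (.node 2 (.node 1 (.leaf (nat_lit 0x0)) (.leaf (nat_lit 0x0))) (.node 1 (.leaf (nat_lit 0x0)) (.leaf (nat_lit 0x0)))) (.node 2 (.node 1 (.leaf (nat_lit 0x0)) (.leaf (nat_lit 0x0))) (.node 1 (.leaf (nat_lit 0x0)) (.leaf (nat_lit 0x0))))) (.node 4 (.node 2 (.node 1 (.leaf (nat_lit 0x0)) (.leaf (nat_lit 0x0))) (.node 1 (.leaf (nat_lit 0x0))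 (.leaf (nat_lit 0x0)))) (.node 2 (.node 1 (.leaf (nat_lit 0x0)) (.leaf (nat_lit 0x0))) (.node 1 (.leaf (nat_lit 0x0)) (.leaf (nat_lit 0x0))))))) (.node 16 (.node 8 (.node 4 (.node 2 (.node 1 (.leaf (nat_lit 0x0)) (.leaf (nat_lit 0x0))) (.node 1 (.leaf (nat_lit 0x0)) (.leaf (nat_lit 0x0)))) (.node 2 (.node 1 (.leaf (nat_lit 0x0)) (.leaf (nat_lit 0x0))) (.node 1 (.leaf (nat_lit 0x0)) (.leaf (nat_lit 0x0))))) (.node 4 (.node 2 (.node 1 (.leaf (nat_lit 0x0)) (.leaf (nat_lit 0x0))) (.node 1 (.leaf (nat_lit 0x0)) (.leaf (nat_lit 0x0)))) (.node 2 (.node 1 (.leaf (nat_lit 0x0)) (.leaf (nat_lit 0x0))) (.node 1 (.leaf (nat_lit 0x0)) (.leaf (nat_lit 0x0)))))) (.node 8 (.node 4 (.node 2 (.node 1 (.leaf (nat_lit 0x0)) (.leaf (nat_lit 0x0))) (.node 1 (.leaf (nat_lit 0x0)) (.leaf (nat_lit 0x0)))) (.node 2 (.node 1 (.leaf (nat_lit 0x0)) (.leaf (nat_lit 0x0))) (.node 1 (.leaf (nat_lit 0x0)) (.leaf (nat_lit 0x0))))) (.node 4 (.node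 2 (.node 1 (.leaf (nat_lit 0x0)) (.leaf (nat_lit 0x0))) (.node 1 (.leaf (nat_lit 0x0)) (.leaf (nat_lit 0x0)))) (.node 2 (.node 1 (.leaf (nat_lit 0x0)) (.leaf (nat_lit 0x0))) (.node 1 (.leaf (nat_lit 0x0)) (.leaf (nat_lit 0x0)))))))) (.node 32 (.node 16 (.node 8 (.node 4 (.node 2 (.node 1 (.leaf (nat_lit 0x0)) (.leaf (nat_lit 0x0))) (.node 1 (.leaf (nat_lit 0x0)) (.leaf (nat_lit 0x0)))) (.node 2 (.node 1 (.leaf (nat_lit 0x0)) (.leaf (nat_lit 0x0))) (.node 1 (.leaf (nat_lit 0x0)) (.leaf (nat_lit 0x0))))) (.node 4 (.node 2 (.node 1 (.leaf (nat_lit 0x0)) (.leaf (nat_lit 0x0))) (.node 1 (.leaf (nat_lit 0x0)) (.leaf (nat_lit 0x0)))) (.node 2 (.node 1 (.leaf (nat_lit 0x0)) (.leaf (nat_lit 0x0))) (.node 1 (.leaf (nat_lit 0x0)) (.leaf (nat_lit 0x0)))))) (.node 8 (.node 4 (.node 2 (.node 1 (.leaf (nat_lit 0x0)) (.leaf (nat_lit 0x0))) (.node 1 (.leaf (nat_lit 0x0)) (.leaf (nat_lit 0x0)))) (.node 2 (.node 1 (.leaf (nat_lit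 0x0)) (.leaf (nat_lit 0x0))) (.node 1 (.leaf (nat_lit 0x0)) (.leaf (nat_lit 0x0))))) (.node 4 (.node 2 (.node 1 (.leaf (nat_lit 0x0)) (.leaf (nat_lit 0x0))) (.node 1 (.leaf (nat_lit 0x0)) (.leaf (nat_lit 0x0)))) (.node 2 (.node 1 (.leaf (nat_lit 0x0)) (.leaf (nat_lit 0x0))) (.node 1 (.leaf (nat_lit 0x0)) (.leaf (nat_lit 0x0))))))) (.node 16 (.node 8 (.node 4 (.node 2 (.node 1 (.leaf (nat_lit 0x0)) (.leaf (nat_lit 0x0))) (.node 1 (.leaf (nat_lit 0x0)) (.leaf (nat_lit 0x0)))) (.node 2 (.node 1 (.leaf (nat_lit 0x0)) (.leaf (nat_lit 0x0))) (.node 1 (.leaf (nat_lit 0x0)) (.leaf (nat_lit 0x0))))) (.node 4 (.node 2 (.node 1 (.leaf (nat_lit 0x0)) (.leaf (nat_lit 0x0))) (.node 1 (.leaf (nat_lit 0x0)) (.leaf (nat_lit 0x0)))) (.node 2 (.node 1 (.leaf (nat_lit 0x0)) (.leaf (nat_lit 0x0))) (.node 1 (.leaf (nat_lit 0x0)) (.leaf (nat_lit 0x0)))))) (.node 8 (.node 4 (.node 2 (.node 1 (.leaf (nat_lit 0x0)) (.leaf (nat_lit 0x0)))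 (.node 1 (.leaf (nat_lit 0x0)) (.leaf (nat_lit 0x0)))) (.node 2 (.node 1 (.leaf (nat_lit 0x0)) (.leaf (nat_lit 0x0))) (.node 1 (.leaf (nat_lit 0x0)) (.leaf (nat_lit 0x0))))) (.node 4 (.node 2 (.node 1 (.leaf (nat_lit 0x0)) (.leaf (nat_lit 0x0))) (.node 1 (.leaf (nat_lit 0x0)) (.leaf (nat_lit 0x0)))) (.node 2 (.node 1 (.leaf (nat_lit 0x0)) (.leaf (nat_lit 0x0))) (.node 1 (.leaf (nat_lit 0x0)) (.leaf (nat_lit 0x0))))))))

noncomputable def lvO6_14 : Tree :=
  .node 64 (.node 32 (.node 16 (.node 8 (.node 4 (.node 2 (.node 1 (.leaf (nat_lit 0x0)) (.leaf (nat_lit 0x0))) (.node 1 (.leaf (nat_lit 0x0)) (.leaf (nat_lit 0x0)))) (.node 2 (.node 1 (.leaf (nat_lit 0x0)) (.leaf (nat_lit 0x0))) (.node 1 (.leaf (nat_lit 0x0)) (.leaf (nat_lit 0x0))))) (.node 4 (.node 2 (.node 1 (.leaf (nat_lit 0x0)) (.leaf (nat_lit 0x0))) (.node 1 (.leaf (nat_lit 0x0)) (.leaf (nat_lit 0x0)))) (.node 2 (.node 1 (.leaf (nat_lit 0x0)) (.leaf (nat_lit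 0x0))) (.node 1 (.leaf (nat_lit 0x0)) (.leaf (nat_lit 0x0)))))) (.node 8 (.node 4 (.node 2 (.node 1 (.leaf (nat_lit 0x0)) (.leaf (nat_lit 0x0))) (.node 1 (.leaf (nat_lit 0x0)) (.leaf (nat_lit 0x0)))) (.node 2 (.node 1 (.leaf (nat_lit 0x0)) (.leaf (nat_lit 0x0))) (.node 1 (.leaf (nat_lit 0x0)) (.leaf (nat_lit 0x0))))) (.node 4 (.node 2 (.node 1 (.leaf (nat_lit 0x0)) (.leaf (nat_lit 0x0))) (.node 1 (.leaf (nat_lit 0x0)) (.leaf (nat_lit 0x0)))) (.node 2 (.node 1 (.leaf (nat_lit 0x0)) (.leaf (nat_lit 0x0))) (.node 1 (.leaf (nat_lit 0x0)) (.leaf (nat_lit 0x0))))))) (.node 16 (.node 8 (.node 4 (.node 2 (.node 1 (.leaf (nat_lit 0x0)) (.leaf (nat_lit 0x0))) (.node 1 (.leaf (nat_lit 0x0)) (.leaf (nat_lit 0x0)))) (.node 2 (.node 1 (.leaf (nat_lit 0x0)) (.leaf (nat_lit 0x0))) (.node 1 (.leaf (nat_lit 0x0)) (.leaf (nat_lit 0x0))))) (.node 4 (.node 2 (.node 1 (.leaf (nat_lit 0x0)) (.leaf (nat_lit 0x0))) (.node 1 (.leaf (nat_lit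 0x0)) (.leaf (nat_lit 0x0)))) (.node 2 (.node 1 (.leaf (nat_lit 0x0)) (.leaf (nat_lit 0x0))) (.node 1 (.leaf (nat_lit 0x0)) (.leaf (nat_lit 0x0)))))) (.node 8 (.node 4 (.node 2 (.node 1 (.leaf (nat_lit 0x0)) (.leaf (nat_lit 0x0))) (.node 1 (.leaf (nat_lit 0x0)) (.leaf (nat_lit 0x0)))) (.node 2 (.node 1 (.leaf (nat_lit 0x0)) (.leaf (nat_lit 0x0))) (.node 1 (.leaf (nat_lit 0x0)) (.leaf (nat_lit 0x0))))) (.node 4 (.node 2 (.node 1 (.leaf (nat_lit 0x0)) (.leaf (nat_lit 0x0))) (.node 1 (.leaf (nat_lit 0x0)) (.leaf (nat_lit 0x0)))) (.node 2 (.node 1 (.leaf (nat_lit 0x0)) (.leaf (nat_lit 0x0))) (.node 1 (.leaf (nat_lit 0x0)) (.leaf (nat_lit 0x0)))))))) (.node 32 (.node 16 (.node 8 (.node 4 (.node 2 (.node 1 (.leaf (nat_lit 0x0)) (.leaf (nat_lit 0x0))) (.node 1 (.leaf (nat_lit 0x0)) (.leaf (nat_lit 0x0)))) (.node 2 (.node 1 (.leaf (nat_lit 0x0)) (.leaf (nat_lit 0x0))) (.node 1 (.leaf (nat_lit 0x0)) (.leaf (nat_lit 0x0)))))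 (.node 4 (.node 2 (.node 1 (.leaf (nat_lit 0x0)) (.leaf (nat_lit 0x0))) (.node 1 (.leaf (nat_lit 0x0)) (.leaf (nat_lit 0x0)))) (.node 2 (.node 1 (.leaf (nat_lit 0x0)) (.leaf (nat_lit 0x0))) (.node 1 (.leaf (nat_lit 0x0)) (.leaf (nat_lit 0x0)))))) (.node 8 (.node 4 (.node 2 (.node 1 (.leaf (nat_lit 0x0)) (.leaf (nat_lit 0x0))) (.node 1 (.leaf (nat_lit 0x0)) (.leaf (nat_lit 0x0)))) (.node 2 (.node 1 (.leaf (nat_lit 0x0)) (.leaf (nat_lit 0x0))) (.node 1 (.leaf (nat_lit 0x0)) (.leaf (nat_lit 0x0))))) (.node 4 (.node 2 (.node 1 (.leaf (nat_lit 0x0)) (.leaf (nat_lit 0x0))) (.node 1 (.leaf (nat_lit 0x0)) (.leaf (nat_lit 0x0)))) (.node 2 (.node 1 (.leaf (nat_lit 0x0)) (.leaf (nat_lit 0x0))) (.node 1 (.leaf (nat_lit 0x0)) (.leaf (nat_lit 0x0))))))) (.node 16 (.node 8 (.node 4 (.node 2 (.node 1 (.leaf (nat_lit 0x0)) (.leaf (nat_lit 0x0))) (.node 1 (.leaf (nat_lit 0x0)) (.leaf (nat_lit 0x0)))) (.node 2 (.node 1 (.leaf (nat_lit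 0x0)) (.leaf (nat_lit 0x0))) (.node 1 (.leaf (nat_lit 0x0)) (.leaf (nat_lit 0x0))))) (.node 4 (.node 2 (.node 1 (.leaf (nat_lit 0x0)) (.leaf (nat_lit 0x0))) (.node 1 (.leaf (nat_lit 0x0)) (.leaf (nat_lit 0x0)))) (.node 2 (.node 1 (.leaf (nat_lit 0x0)) (.leaf (nat_lit 0x0))) (.node 1 (.leaf (nat_lit 0x0)) (.leaf (nat_lit 0x0)))))) (.node 8 (.node 4 (.node 2 (.node 1 (.leaf (nat_lit 0x0)) (.leaf (nat_lit 0x0))) (.node 1 (.leaf (nat_lit 0x0)) (.leaf (nat_lit 0x0)))) (.node 2 (.node 1 (.leaf (nat_lit 0x0)) (.leaf (nat_lit 0x0))) (.node 1 (.leaf (nat_lit 0x0)) (.leaf (nat_lit 0x0))))) (.node 4 (.node 2 (.node 1 (.leaf (nat_lit 0x0)) (.leaf (nat_lit 0x0))) (.node 1 (.leaf (nat_lit 0x0)) (.leaf (nat_lit 0x0)))) (.node 2 (.node 1 (.leaf (nat_lit 0x0)) (.leaf (nat_lit 0x0))) (.node 1 (.leaf (nat_lit 0x0)) (.leaf (nat_lit 0x0))))))))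

noncomputable def lvO6_15 : Tree :=
  .node 64 (.node 32 (.node 16 (.node 8 (.node 4 (.node 2 (.node 1 (.leaf (nat_lit 0x0)) (.leaf (nat_lit 0x0))) (.node 1 (.leaf (nat_lit 0x0)) (.leaf (nat_lit 0x0)))) (.node 2 (.node 1 (.leaf (nat_lit 0x0)) (.leaf (nat_lit 0x0))) (.node 1 (.leaf (nat_lit 0x0)) (.leaf (nat_lit 0x0))))) (.node 4 (.node 2 (.node 1 (.leaf (nat_lit 0x0)) (.leaf (nat_lit 0x0))) (.node 1 (.leaf (nat_lit 0x0)) (.leaf (nat_lit 0x0)))) (.node 2 (.node 1 (.leaf (nat_lit 0x0)) (.leaf (nat_lit 0x0))) (.node 1 (.leaf (nat_lit 0x0)) (.leaf (nat_lit 0x0)))))) (.node 8 (.node 4 (.node 2 (.node 1 (.leaf (nat_lit 0x0)) (.leaf (nat_lit 0x0))) (.node 1 (.leaf (nat_lit 0x0)) (.leaf (nat_lit 0x0)))) (.node 2 (.node 1 (.leaf (nat_lit 0x0)) (.leaf (nat_lit 0x0))) (.node 1 (.leaf (nat_lit 0x0)) (.leaf (nat_lit 0x0))))) (.node 4 (.node 2 (.node 1 (.leaf (nat_lit 0x0)) (.leaf (nat_lit 0x0))) (.node 1 (.leaf (nat_lit 0x0))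 (.leaf (nat_lit 0x0)))) (.node 2 (.node 1 (.leaf (nat_lit 0x0)) (.leaf (nat_lit 0x0))) (.node 1 (.leaf (nat_lit 0x0)) (.leaf (nat_lit 0x0))))))) (.node 16 (.node 8 (.node 4 (.node 2 (.node 1 (.leaf (nat_lit 0x0)) (.leaf (nat_lit 0x0))) (.node 1 (.leaf (nat_lit 0x0)) (.leaf (nat_lit 0x0)))) (.node 2 (.node 1 (.leaf (nat_lit 0x0)) (.leaf (nat_lit 0x0))) (.node 1 (.leaf (nat_lit 0x0)) (.leaf (nat_lit 0x0))))) (.node 4 (.node 2 (.node 1 (.leaf (nat_lit 0x0)) (.leaf (nat_lit 0x0))) (.node 1 (.leaf (nat_lit 0x0)) (.leaf (nat_lit 0x0)))) (.node 2 (.node 1 (.leaf (nat_lit 0x0)) (.leaf (nat_lit 0x0))) (.node 1 (.leaf (nat_lit 0x0)) (.leaf (nat_lit 0x0)))))) (.node 8 (.node 4 (.node 2 (.node 1 (.leaf (nat_lit 0x0)) (.leaf (nat_lit 0x0))) (.node 1 (.leaf (nat_lit 0x0)) (.leaf (nat_lit 0x0)))) (.node 2 (.node 1 (.leaf (nat_lit 0x0)) (.leaf (nat_lit 0x0))) (.node 1 (.leaf (nat_lit 0x0)) (.leaf (nat_lit 0x0))))) (.node 4 (.node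 2 (.node 1 (.leaf (nat_lit 0x0)) (.leaf (nat_lit 0x0))) (.node 1 (.leaf (nat_lit 0x0)) (.leaf (nat_lit 0x0)))) (.node 2 (.node 1 (.leaf (nat_lit 0x0)) (.leaf (nat_lit 0x0))) (.node 1 (.leaf (nat_lit 0x0)) (.leaf (nat_lit 0x0)))))))) (.node 32 (.node 16 (.node 8 (.node 4 (.node 2 (.node 1 (.leaf (nat_lit 0x0)) (.leaf (nat_lit 0x0))) (.node 1 (.leaf (nat_lit 0x0)) (.leaf (nat_lit 0x0)))) (.node 2 (.node 1 (.leaf (nat_lit 0x0)) (.leaf (nat_lit 0x0))) (.node 1 (.leaf (nat_lit 0x0)) (.leaf (nat_lit 0x0))))) (.node 4 (.node 2 (.node 1 (.leaf (nat_lit 0x0)) (.leaf (nat_lit 0x0))) (.node 1 (.leaf (nat_lit 0x0)) (.leaf (nat_lit 0x0)))) (.node 2 (.node 1 (.leaf (nat_lit 0x0)) (.leaf (nat_lit 0x0))) (.node 1 (.leaf (nat_lit 0x0)) (.leaf (nat_lit 0x0)))))) (.node 8 (.node 4 (.node 2 (.node 1 (.leaf (nat_lit 0x0)) (.leaf (nat_lit 0x0))) (.node 1 (.leaf (nat_lit 0x0)) (.leaf (nat_lit 0x0)))) (.node 2 (.node 1 (.leaf (nat_lit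 0x0)) (.leaf (nat_lit 0x0))) (.node 1 (.leaf (nat_lit 0x0)) (.leaf (nat_lit 0x0))))) (.node 4 (.node 2 (.node 1 (.leaf (nat_lit 0x0)) (.leaf (nat_lit 0x0))) (.node 1 (.leaf (nat_lit 0x0)) (.leaf (nat_lit 0x0)))) (.node 2 (.node 1 (.leaf (nat_lit 0x0)) (.leaf (nat_lit 0x0))) (.node 1 (.leaf (nat_lit 0x0)) (.leaf (nat_lit 0x0))))))) (.node 16 (.node 8 (.node 4 (.node 2 (.node 1 (.leaf (nat_lit 0x0)) (.leaf (nat_lit 0x0))) (.node 1 (.leaf (nat_lit 0x0)) (.leaf (nat_lit 0x0)))) (.node 2 (.node 1 (.leaf (nat_lit 0x0)) (.leaf (nat_lit 0x0))) (.node 1 (.leaf (nat_lit 0x0)) (.leaf (nat_lit 0x0))))) (.node 4 (.node 2 (.node 1 (.leaf (nat_lit 0x0)) (.leaf (nat_lit 0x0))) (.node 1 (.leaf (nat_lit 0x0)) (.leaf (nat_lit 0x0)))) (.node 2 (.node 1 (.leaf (nat_lit 0x0)) (.leaf (nat_lit 0x0))) (.node 1 (.leaf (nat_lit 0x0)) (.leaf (nat_lit 0x0)))))) (.node 8 (.node 4 (.node 2 (.node 1 (.leaf (nat_lit 0x0)) (.leaf (nat_lit 0x0)))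 (.node 1 (.leaf (nat_lit 0x0)) (.leaf (nat_lit 0x0)))) (.node 2 (.node 1 (.leaf (nat_lit 0x0)) (.leaf (nat_lit 0x0))) (.node 1 (.leaf (nat_lit 0x0)) (.leaf (nat_lit 0x0))))) (.node 4 (.node 2 (.node 1 (.leaf (nat_lit 0x0)) (.leaf (nat_lit 0x0))) (.node 1 (.leaf (nat_lit 0x0)) (.leaf (nat_lit 0x0)))) (.node 2 (.node 1 (.leaf (nat_lit 0x0)) (.leaf (nat_lit 0x0))) (.node 1 (.leaf (nat_lit 0x0)) (.leaf (nat_lit 0x0))))))))

noncomputable def lvO6_16 : Tree :=
  .node 64 (.node 32 (.node 16 (.node 8 (.node 4 (.node 2 (.node 1 (.leaf (nat_lit 0x0)) (.leaf (nat_lit 0x0))) (.node 1 (.leaf (nat_lit 0x0)) (.leaf (nat_lit 0x0)))) (.node 2 (.node 1 (.leaf (nat_lit 0x0)) (.leaf (nat_lit 0x0))) (.node 1 (.leaf (nat_lit 0x0)) (.leaf (nat_lit 0x0))))) (.node 4 (.node 2 (.node 1 (.leaf (nat_lit 0x0)) (.leaf (nat_lit 0x0))) (.node 1 (.leaf (nat_lit 0x0)) (.leaf (nat_lit 0x0)))) (.node 2 (.node 1 (.leaf (nat_lit 0x0)) (.leaf (nat_lit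 0x0))) (.node 1 (.leaf (nat_lit 0x0)) (.leaf (nat_lit 0x0)))))) (.node 8 (.node 4 (.node 2 (.node 1 (.leaf (nat_lit 0x0)) (.leaf (nat_lit 0x0))) (.node 1 (.leaf (nat_lit 0x0)) (.leaf (nat_lit 0x0)))) (.node 2 (.node 1 (.leaf (nat_lit 0x0)) (.leaf (nat_lit 0x0))) (.node 1 (.leaf (nat_lit 0x0)) (.leaf (nat_lit 0x0))))) (.node 4 (.node 2 (.node 1 (.leaf (nat_lit 0x0)) (.leaf (nat_lit 0x0))) (.node 1 (.leaf (nat_lit 0x0)) (.leaf (nat_lit 0x0)))) (.node 2 (.node 1 (.leaf (nat_lit 0x0)) (.leaf (nat_lit 0x0))) (.node 1 (.leaf (nat_lit 0x0)) (.leaf (nat_lit 0x0))))))) (.node 16 (.node 8 (.node 4 (.node 2 (.node 1 (.leaf (nat_lit 0x0)) (.leaf (nat_lit 0x0))) (.node 1 (.leaf (nat_lit 0x0)) (.leaf (nat_lit 0x0)))) (.node 2 (.node 1 (.leaf (nat_lit 0x0)) (.leaf (nat_lit 0x0))) (.node 1 (.leaf (nat_lit 0x0)) (.leaf (nat_lit 0x0))))) (.node 4 (.node 2 (.node 1 (.leaf (nat_lit 0x0)) (.leaf (nat_lit 0x0))) (.node 1 (.leaf (nat_lit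 0x0)) (.leaf (nat_lit 0x0)))) (.node 2 (.node 1 (.leaf (nat_lit 0x0)) (.leaf (nat_lit 0x0))) (.node 1 (.leaf (nat_lit 0x0)) (.leaf (nat_lit 0x0)))))) (.node 8 (.node 4 (.node 2 (.node 1 (.leaf (nat_lit 0x0)) (.leaf (nat_lit 0x0))) (.node 1 (.leaf (nat_lit 0x0)) (.leaf (nat_lit 0x0)))) (.node 2 (.node 1 (.leaf (nat_lit 0x0)) (.leaf (nat_lit 0x0))) (.node 1 (.leaf (nat_lit 0x0)) (.leaf (nat_lit 0x0))))) (.node 4 (.node 2 (.node 1 (.leaf (nat_lit 0x0)) (.leaf (nat_lit 0x0))) (.node 1 (.leaf (nat_lit 0x0)) (.leaf (nat_lit 0x0)))) (.node 2 (.node 1 (.leaf (nat_lit 0x0)) (.leaf (nat_lit 0x0))) (.node 1 (.leaf (nat_lit 0x0)) (.leaf (nat_lit 0x0)))))))) (.node 32 (.node 16 (.node 8 (.node 4 (.node 2 (.node 1 (.leaf (nat_lit 0x0)) (.leaf (nat_lit 0x0))) (.node 1 (.leaf (nat_lit 0x0)) (.leaf (nat_lit 0x0)))) (.node 2 (.node 1 (.leaf (nat_lit 0x0)) (.leaf (nat_lit 0x0))) (.node 1 (.leaf (nat_lit 0x0)) (.leaf (nat_lit 0x0)))))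 (.node 4 (.node 2 (.node 1 (.leaf (nat_lit 0x0)) (.leaf (nat_lit 0x0))) (.node 1 (.leaf (nat_lit 0x0)) (.leaf (nat_lit 0x0)))) (.node 2 (.node 1 (.leaf (nat_lit 0x0)) (.leaf (nat_lit 0x0))) (.node 1 (.leaf (nat_lit 0x0)) (.leaf (nat_lit 0x0)))))) (.node 8 (.node 4 (.node 2 (.node 1 (.leaf (nat_lit 0x0)) (.leaf (nat_lit 0x0))) (.node 1 (.leaf (nat_lit 0x0)) (.leaf (nat_lit 0x0)))) (.node 2 (.node 1 (.leaf (nat_lit 0x0)) (.leaf (nat_lit 0x0))) (.node 1 (.leaf (nat_lit 0x0)) (.leaf (nat_lit 0x0))))) (.node 4 (.node 2 (.node 1 (.leaf (nat_lit 0x0)) (.leaf (nat_lit 0x0))) (.node 1 (.leaf (nat_lit 0x0)) (.leaf (nat_lit 0x0)))) (.node 2 (.node 1 (.leaf (nat_lit 0x0)) (.leaf (nat_lit 0x0))) (.node 1 (.leaf (nat_lit 0x0)) (.leaf (nat_lit 0x0))))))) (.node 16 (.node 8 (.node 4 (.node 2 (.node 1 (.leaf (nat_lit 0x0)) (.leaf (nat_lit 0x0))) (.node 1 (.leaf (nat_lit 0x0)) (.leaf (nat_lit 0x0)))) (.node 2 (.node 1 (.leaf (nat_lit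 0x0)) (.leaf (nat_lit 0x0))) (.node 1 (.leaf (nat_lit 0x0)) (.leaf (nat_lit 0x0))))) (.node 4 (.node 2 (.node 1 (.leaf (nat_lit 0x0)) (.leaf (nat_lit 0x0))) (.node 1 (.leaf (nat_lit 0x0)) (.leaf (nat_lit 0x0)))) (.node 2 (.node 1 (.leaf (nat_lit 0x0)) (.leaf (nat_lit 0x0))) (.node 1 (.leaf (nat_lit 0x0)) (.leaf (nat_lit 0x0)))))) (.node 8 (.node 4 (.node 2 (.node 1 (.leaf (nat_lit 0x0)) (.leaf (nat_lit 0x0))) (.node 1 (.leaf (nat_lit 0x0)) (.leaf (nat_lit 0x0)))) (.node 2 (.node 1 (.leaf (nat_lit 0x0)) (.leaf (nat_lit 0x0))) (.node 1 (.leaf (nat_lit 0x0)) (.leaf (nat_lit 0x0))))) (.node 4 (.node 2 (.node 1 (.leaf (nat_lit 0x0)) (.leaf (nat_lit 0x0))) (.node 1 (.leaf (nat_lit 0x0)) (.leaf (nat_lit 0x0)))) (.node 2 (.node 1 (.leaf (nat_lit 0x0)) (.leaf (nat_lit 0x0))) (.node 1 (.leaf (nat_lit 0x0)) (.leaf (nat_lit 0x0))))))))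

noncomputable def lvO6_17 : Tree :=
  .node 64 (.node 32 (.node 16 (.node 8 (.node 4 (.node 2 (.node 1 (.leaf (nat_lit 0x0)) (.leaf (nat_lit 0x0))) (.node 1 (.leaf (nat_lit 0x0)) (.leaf (nat_lit 0x0)))) (.node 2 (.node 1 (.leaf (nat_lit 0x0)) (.leaf (nat_lit 0x0))) (.node 1 (.leaf (nat_lit 0x0)) (.leaf (nat_lit 0x0))))) (.node 4 (.node 2 (.node 1 (.leaf (nat_lit 0x0)) (.leaf (nat_lit 0x0))) (.node 1 (.leaf (nat_lit 0x0)) (.leaf (nat_lit 0x0)))) (.node 2 (.node 1 (.leaf (nat_lit 0x0)) (.leaf (nat_lit 0x0))) (.node 1 (.leaf (nat_lit 0x0)) (.leaf (nat_lit 0x0)))))) (.node 8 (.node 4 (.node 2 (.node 1 (.leaf (nat_lit 0x0)) (.leaf (nat_lit 0x0))) (.node 1 (.leaf (nat_lit 0x0)) (.leaf (nat_lit 0x0)))) (.node 2 (.node 1 (.leaf (nat_lit 0x0)) (.leaf (nat_lit 0x0))) (.node 1 (.leaf (nat_lit 0x0)) (.leaf (nat_lit 0x0))))) (.node 4 (.node 2 (.node 1 (.leaf (nat_lit 0x0)) (.leaf (nat_lit 0x0))) (.node 1 (.leaf (nat_lit 0x0))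 (.leaf (nat_lit 0x0)))) (.node 2 (.node 1 (.leaf (nat_lit 0x0)) (.leaf (nat_lit 0x0))) (.node 1 (.leaf (nat_lit 0x0)) (.leaf (nat_lit 0x0))))))) (.node 16 (.node 8 (.node 4 (.node 2 (.node 1 (.leaf (nat_lit 0x0)) (.leaf (nat_lit 0x0))) (.node 1 (.leaf (nat_lit 0x0)) (.leaf (nat_lit 0x0)))) (.node 2 (.node 1 (.leaf (nat_lit 0x0)) (.leaf (nat_lit 0x0))) (.node 1 (.leaf (nat_lit 0x0)) (.leaf (nat_lit 0x0))))) (.node 4 (.node 2 (.node 1 (.leaf (nat_lit 0x0)) (.leaf (nat_lit 0x0))) (.node 1 (.leaf (nat_lit 0x0)) (.leaf (nat_lit 0x0)))) (.node 2 (.node 1 (.leaf (nat_lit 0x0)) (.leaf (nat_lit 0x0))) (.node 1 (.leaf (nat_lit 0x0)) (.leaf (nat_lit 0x0)))))) (.node 8 (.node 4 (.node 2 (.node 1 (.leaf (nat_lit 0x0)) (.leaf (nat_lit 0x0))) (.node 1 (.leaf (nat_lit 0x0)) (.leaf (nat_lit 0x0)))) (.node 2 (.node 1 (.leaf (nat_lit 0x0)) (.leaf (nat_lit 0x0))) (.node 1 (.leaf (nat_lit 0x0)) (.leaf (nat_lit 0x0))))) (.node 4 (.node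 2 (.node 1 (.leaf (nat_lit 0x0)) (.leaf (nat_lit 0x0))) (.node 1 (.leaf (nat_lit 0x0)) (.leaf (nat_lit 0x0)))) (.node 2 (.node 1 (.leaf (nat_lit 0x0)) (.leaf (nat_lit 0x0))) (.node 1 (.leaf (nat_lit 0x0)) (.leaf (nat_lit 0x0)))))))) (.node 32 (.node 16 (.node 8 (.node 4 (.node 2 (.node 1 (.leaf (nat_lit 0x0)) (.leaf (nat_lit 0x0))) (.node 1 (.leaf (nat_lit 0x0)) (.leaf (nat_lit 0x0)))) (.node 2 (.node 1 (.leaf (nat_lit 0x0)) (.leaf (nat_lit 0x0))) (.node 1 (.leaf (nat_lit 0x0)) (.leaf (nat_lit 0x0))))) (.node 4 (.node 2 (.node 1 (.leaf (nat_lit 0x0)) (.leaf (nat_lit 0x0))) (.node 1 (.leaf (nat_lit 0x0)) (.leaf (nat_lit 0x0)))) (.node 2 (.node 1 (.leaf (nat_lit 0x0)) (.leaf (nat_lit 0x0))) (.node 1 (.leaf (nat_lit 0x0)) (.leaf (nat_lit 0x0)))))) (.node 8 (.node 4 (.node 2 (.node 1 (.leaf (nat_lit 0x0)) (.leaf (nat_lit 0x0))) (.node 1 (.leaf (nat_lit 0x0)) (.leaf (nat_lit 0x0)))) (.node 2 (.node 1 (.leaf (nat_lit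 0x0)) (.leaf (nat_lit 0x0))) (.node 1 (.leaf (nat_lit 0x0)) (.leaf (nat_lit 0x0))))) (.node 4 (.node 2 (.node 1 (.leaf (nat_lit 0x0)) (.leaf (nat_lit 0x0))) (.node 1 (.leaf (nat_lit 0x0)) (.leaf (nat_lit 0x0)))) (.node 2 (.node 1 (.leaf (nat_lit 0x0)) (.leaf (nat_lit 0x0))) (.node 1 (.leaf (nat_lit 0x0)) (.leaf (nat_lit 0x0))))))) (.node 16 (.node 8 (.node 4 (.node 2 (.node 1 (.leaf (nat_lit 0x0)) (.leaf (nat_lit 0x0))) (.node 1 (.leaf (nat_lit 0x0)) (.leaf (nat_lit 0x0)))) (.node 2 (.node 1 (.leaf (nat_lit 0x0)) (.leaf (nat_lit 0x0))) (.node 1 (.leaf (nat_lit 0x0)) (.leaf (nat_lit 0x0))))) (.node 4 (.node 2 (.node 1 (.leaf (nat_lit 0x0)) (.leaf (nat_lit 0x0))) (.node 1 (.leaf (nat_lit 0x0)) (.leaf (nat_lit 0x0)))) (.node 2 (.node 1 (.leaf (nat_lit 0x0)) (.leaf (nat_lit 0x0))) (.node 1 (.leaf (nat_lit 0x0)) (.leaf (nat_lit 0x0)))))) (.node 8 (.node 4 (.node 2 (.node 1 (.leaf (nat_lit 0x0)) (.leaf (nat_lit 0x0)))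 (.node 1 (.leaf (nat_lit 0x0)) (.leaf (nat_lit 0x0)))) (.node 2 (.node 1 (.leaf (nat_lit 0x0)) (.leaf (nat_lit 0x0))) (.node 1 (.leaf (nat_lit 0x0)) (.leaf (nat_lit 0x0))))) (.node 4 (.node 2 (.node 1 (.leaf (nat_lit 0x0)) (.leaf (nat_lit 0x0))) (.node 1 (.leaf (nat_lit 0x0)) (.leaf (nat_lit 0x0)))) (.node 2 (.node 1 (.leaf (nat_lit 0x0)) (.leaf (nat_lit 0x0))) (.node 1 (.leaf (nat_lit 0x0)) (.leaf (nat_lit 0x0))))))))

noncomputable def lvO6_18 : Tree :=
  .node 64 (.node 32 (.node 16 (.node 8 (.node 4 (.node 2 (.node 1 (.leaf (nat_lit 0x0)) (.leaf (nat_lit 0x0))) (.node 1 (.leaf (nat_lit 0x0)) (.leaf (nat_lit 0x0)))) (.node 2 (.node 1 (.leaf (nat_lit 0x0)) (.leaf (nat_lit 0x0))) (.node 1 (.leaf (nat_lit 0x0)) (.leaf (nat_lit 0x0))))) (.node 4 (.node 2 (.node 1 (.leaf (nat_lit 0x0)) (.leaf (nat_lit 0x0))) (.node 1 (.leaf (nat_lit 0x0)) (.leaf (nat_lit 0x0)))) (.node 2 (.node 1 (.leaf (nat_lit 0x0)) (.leaf (nat_lit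 0x0))) (.node 1 (.leaf (nat_lit 0x0)) (.leaf (nat_lit 0x0)))))) (.node 8 (.node 4 (.node 2 (.node 1 (.leaf (nat_lit 0x0)) (.leaf (nat_lit 0x0))) (.node 1 (.leaf (nat_lit 0x0)) (.leaf (nat_lit 0x0)))) (.node 2 (.node 1 (.leaf (nat_lit 0x0)) (.leaf (nat_lit 0x0))) (.node 1 (.leaf (nat_lit 0x0)) (.leaf (nat_lit 0x0))))) (.node 4 (.node 2 (.node 1 (.leaf (nat_lit 0x0)) (.leaf (nat_lit 0x0))) (.node 1 (.leaf (nat_lit 0x0)) (.leaf (nat_lit 0x0)))) (.node 2 (.node 1 (.leaf (nat_lit 0x0)) (.leaf (nat_lit 0x0))) (.node 1 (.leaf (nat_lit 0x0)) (.leaf (nat_lit 0x0))))))) (.node 16 (.node 8 (.node 4 (.node 2 (.node 1 (.leaf (nat_lit 0x0)) (.leaf (nat_lit 0x0))) (.node 1 (.leaf (nat_lit 0x0)) (.leaf (nat_lit 0x0)))) (.node 2 (.node 1 (.leaf (nat_lit 0x0)) (.leaf (nat_lit 0x0))) (.node 1 (.leaf (nat_lit 0x0)) (.leaf (nat_lit 0x0))))) (.node 4 (.node 2 (.node 1 (.leaf (nat_lit 0x0)) (.leaf (nat_lit 0x0))) (.node 1 (.leaf (nat_lit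 0x0)) (.leaf (nat_lit 0x0)))) (.node 2 (.node 1 (.leaf (nat_lit 0x0)) (.leaf (nat_lit 0x0))) (.node 1 (.leaf (nat_lit 0x0)) (.leaf (nat_lit 0x0)))))) (.node 8 (.node 4 (.node 2 (.node 1 (.leaf (nat_lit 0x0)) (.leaf (nat_lit 0x0))) (.node 1 (.leaf (nat_lit 0x0)) (.leaf (nat_lit 0x0)))) (.node 2 (.node 1 (.leaf (nat_lit 0x0)) (.leaf (nat_lit 0x0))) (.node 1 (.leaf (nat_lit 0x0)) (.leaf (nat_lit 0x0))))) (.node 4 (.node 2 (.node 1 (.leaf (nat_lit 0x0)) (.leaf (nat_lit 0x0))) (.node 1 (.leaf (nat_lit 0x0)) (.leaf (nat_lit 0x0)))) (.node 2 (.node 1 (.leaf (nat_lit 0x0)) (.leaf (nat_lit 0x0))) (.node 1 (.leaf (nat_lit 0x0)) (.leaf (nat_lit 0x0)))))))) (.node 32 (.node 16 (.node 8 (.node 4 (.node 2 (.node 1 (.leaf (nat_lit 0x0)) (.leaf (nat_lit 0x0))) (.node 1 (.leaf (nat_lit 0x0)) (.leaf (nat_lit 0x0)))) (.node 2 (.node 1 (.leaf (nat_lit 0x0)) (.leaf (nat_lit 0x0))) (.node 1 (.leaf (nat_lit 0x0)) (.leaf (nat_lit 0x0)))))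 (.node 4 (.node 2 (.node 1 (.leaf (nat_lit 0x0)) (.leaf (nat_lit 0x0))) (.node 1 (.leaf (nat_lit 0x0)) (.leaf (nat_lit 0x0)))) (.node 2 (.node 1 (.leaf (nat_lit 0x0)) (.leaf (nat_lit 0x0))) (.node 1 (.leaf (nat_lit 0x0)) (.leaf (nat_lit 0x0)))))) (.node 8 (.node 4 (.node 2 (.node 1 (.leaf (nat_lit 0x0)) (.leaf (nat_lit 0x0))) (.node 1 (.leaf (nat_lit 0x0)) (.leaf (nat_lit 0x0)))) (.node 2 (.node 1 (.leaf (nat_lit 0x0)) (.leaf (nat_lit 0x0))) (.node 1 (.leaf (nat_lit 0x0)) (.leaf (nat_lit 0x0))))) (.node 4 (.node 2 (.node 1 (.leaf (nat_lit 0x0)) (.leaf (nat_lit 0x0))) (.node 1 (.leaf (nat_lit 0x0)) (.leaf (nat_lit 0x0)))) (.node 2 (.node 1 (.leaf (nat_lit 0x0)) (.leaf (nat_lit 0x0))) (.node 1 (.leaf (nat_lit 0x0)) (.leaf (nat_lit 0x0))))))) (.node 16 (.node 8 (.node 4 (.node 2 (.node 1 (.leaf (nat_lit 0x0)) (.leaf (nat_lit 0x0))) (.node 1 (.leaf (nat_lit 0x0)) (.leaf (nat_lit 0x0)))) (.node 2 (.node 1 (.leaf (nat_lit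 0x0)) (.leaf (nat_lit 0x0))) (.node 1 (.leaf (nat_lit 0x0)) (.leaf (nat_lit 0x0))))) (.node 4 (.node 2 (.node 1 (.leaf (nat_lit 0x0)) (.leaf (nat_lit 0x0))) (.node 1 (.leaf (nat_lit 0x0)) (.leaf (nat_lit 0x0)))) (.node 2 (.node 1 (.leaf (nat_lit 0x0)) (.leaf (nat_lit 0x0))) (.node 1 (.leaf (nat_lit 0x0)) (.leaf (nat_lit 0x0)))))) (.node 8 (.node 4 (.node 2 (.node 1 (.leaf (nat_lit 0x0)) (.leaf (nat_lit 0x0))) (.node 1 (.leaf (nat_lit 0x0)) (.leaf (nat_lit 0x0)))) (.node 2 (.node 1 (.leaf (nat_lit 0x0)) (.leaf (nat_lit 0x0))) (.node 1 (.leaf (nat_lit 0x0)) (.leaf (nat_lit 0x0))))) (.node 4 (.node 2 (.node 1 (.leaf (nat_lit 0x0)) (.leaf (nat_lit 0x0))) (.node 1 (.leaf (nat_lit 0x0)) (.leaf (nat_lit 0x0)))) (.node 2 (.node 1 (.leaf (nat_lit 0x0)) (.leaf (nat_lit 0x0))) (.node 1 (.leaf (nat_lit 0x0)) (.leaf (nat_lit 0x0))))))))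

noncomputable def lvO6_19 : Tree :=
  .node 64 (.node 32 (.node 16 (.node 8 (.node 4 (.node 2 (.node 1 (.leaf (nat_lit 0x0)) (.leaf (nat_lit 0x0))) (.node 1 (.leaf (nat_lit 0x0)) (.leaf (nat_lit 0x0)))) (.node 2 (.node 1 (.leaf (nat_lit 0x0)) (.leaf (nat_lit 0x0))) (.node 1 (.leaf (nat_lit 0x0)) (.leaf (nat_lit 0x0))))) (.node 4 (.node 2 (.node 1 (.leaf (nat_lit 0x0)) (.leaf (nat_lit 0x0))) (.node 1 (.leaf (nat_lit 0x0)) (.leaf (nat_lit 0x0)))) (.node 2 (.node 1 (.leaf (nat_lit 0x0)) (.leaf (nat_lit 0x0))) (.node 1 (.leaf (nat_lit 0x0)) (.leaf (nat_lit 0x0)))))) (.node 8 (.node 4 (.node 2 (.node 1 (.leaf (nat_lit 0x0)) (.leaf (nat_lit 0x0))) (.node 1 (.leaf (nat_lit 0x0)) (.leaf (nat_lit 0x0)))) (.node 2 (.node 1 (.leaf (nat_lit 0x0)) (.leaf (nat_lit 0x0))) (.node 1 (.leaf (nat_lit 0x0)) (.leaf (nat_lit 0x0))))) (.node 4 (.node 2 (.node 1 (.leaf (nat_lit 0x0)) (.leaf (nat_lit 0x0))) (.node 1 (.leaf (nat_lit 0x0))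 (.leaf (nat_lit 0x0)))) (.node 2 (.node 1 (.leaf (nat_lit 0x0)) (.leaf (nat_lit 0x0))) (.node 1 (.leaf (nat_lit 0x0)) (.leaf (nat_lit 0x0))))))) (.node 16 (.node 8 (.node 4 (.node 2 (.node 1 (.leaf (nat_lit 0x0)) (.leaf (nat_lit 0x0))) (.node 1 (.leaf (nat_lit 0x0)) (.leaf (nat_lit 0x0)))) (.node 2 (.node 1 (.leaf (nat_lit 0x0)) (.leaf (nat_lit 0x0))) (.node 1 (.leaf (nat_lit 0x0)) (.leaf (nat_lit 0x0))))) (.node 4 (.node 2 (.node 1 (.leaf (nat_lit 0x0)) (.leaf (nat_lit 0x0))) (.node 1 (.leaf (nat_lit 0x0)) (.leaf (nat_lit 0x0)))) (.node 2 (.node 1 (.leaf (nat_lit 0x0)) (.leaf (nat_lit 0x0))) (.node 1 (.leaf (nat_lit 0x0)) (.leaf (nat_lit 0x0)))))) (.node 8 (.node 4 (.node 2 (.node 1 (.leaf (nat_lit 0x0)) (.leaf (nat_lit 0x0))) (.node 1 (.leaf (nat_lit 0x0)) (.leaf (nat_lit 0x0)))) (.node 2 (.node 1 (.leaf (nat_lit 0x0)) (.leaf (nat_lit 0x0))) (.node 1 (.leaf (nat_lit 0x0)) (.leaf (nat_lit 0x0))))) (.node 4 (.node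 2 (.node 1 (.leaf (nat_lit 0x0)) (.leaf (nat_lit 0x0))) (.node 1 (.leaf (nat_lit 0x0)) (.leaf (nat_lit 0x0)))) (.node 2 (.node 1 (.leaf (nat_lit 0x0)) (.leaf (nat_lit 0x0))) (.node 1 (.leaf (nat_lit 0x0)) (.leaf (nat_lit 0x0)))))))) (.node 32 (.node 16 (.node 8 (.node 4 (.node 2 (.node 1 (.leaf (nat_lit 0x0)) (.leaf (nat_lit 0x0))) (.node 1 (.leaf (nat_lit 0x0)) (.leaf (nat_lit 0x0)))) (.node 2 (.node 1 (.leaf (nat_lit 0x0)) (.leaf (nat_lit 0x0))) (.node 1 (.leaf (nat_lit 0x0)) (.leaf (nat_lit 0x0))))) (.node 4 (.node 2 (.node 1 (.leaf (nat_lit 0x0)) (.leaf (nat_lit 0x0))) (.node 1 (.leaf (nat_lit 0x0)) (.leaf (nat_lit 0x0)))) (.node 2 (.node 1 (.leaf (nat_lit 0x0)) (.leaf (nat_lit 0x0))) (.node 1 (.leaf (nat_lit 0x0)) (.leaf (nat_lit 0x0)))))) (.node 8 (.node 4 (.node 2 (.node 1 (.leaf (nat_lit 0x0)) (.leaf (nat_lit 0x0))) (.node 1 (.leaf (nat_lit 0x0)) (.leaf (nat_lit 0x0)))) (.node 2 (.node 1 (.leaf (nat_lit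 0x0)) (.leaf (nat_lit 0x0))) (.node 1 (.leaf (nat_lit 0x0)) (.leaf (nat_lit 0x0))))) (.node 4 (.node 2 (.node 1 (.leaf (nat_lit 0x0)) (.leaf (nat_lit 0x0))) (.node 1 (.leaf (nat_lit 0x0)) (.leaf (nat_lit 0x0)))) (.node 2 (.node 1 (.leaf (nat_lit 0x0)) (.leaf (nat_lit 0x0))) (.node 1 (.leaf (nat_lit 0x0)) (.leaf (nat_lit 0x0))))))) (.node 16 (.node 8 (.node 4 (.node 2 (.node 1 (.leaf (nat_lit 0x0)) (.leaf (nat_lit 0x0))) (.node 1 (.leaf (nat_lit 0x0)) (.leaf (nat_lit 0x0)))) (.node 2 (.node 1 (.leaf (nat_lit 0x0)) (.leaf (nat_lit 0x0))) (.node 1 (.leaf (nat_lit 0x0)) (.leaf (nat_lit 0x0))))) (.node 4 (.node 2 (.node 1 (.leaf (nat_lit 0x0)) (.leaf (nat_lit 0x0))) (.node 1 (.leaf (nat_lit 0x0)) (.leaf (nat_lit 0x0)))) (.node 2 (.node 1 (.leaf (nat_lit 0x0)) (.leaf (nat_lit 0x0))) (.node 1 (.leaf (nat_lit 0x0)) (.leaf (nat_lit 0x0)))))) (.node 8 (.node 4 (.node 2 (.node 1 (.leaf (nat_lit 0x0)) (.leaf (nat_lit 0x0)))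 (.node 1 (.leaf (nat_lit 0x0)) (.leaf (nat_lit 0x0)))) (.node 2 (.node 1 (.leaf (nat_lit 0x0)) (.leaf (nat_lit 0x0))) (.node 1 (.leaf (nat_lit 0x0)) (.leaf (nat_lit 0x0))))) (.node 4 (.node 2 (.node 1 (.leaf (nat_lit 0x0)) (.leaf (nat_lit 0x0))) (.node 1 (.leaf (nat_lit 0x0)) (.leaf (nat_lit 0x0)))) (.node 2 (.node 1 (.leaf (nat_lit 0x0)) (.leaf (nat_lit 0x0))) (.node 1 (.leaf (nat_lit 0x0)) (.leaf (nat_lit 0x0))))))))

noncomputable def lvO6_20 : Tree :=
  .node 64 (.node 32 (.node 16 (.node 8 (.node 4 (.node 2 (.node 1 (.leaf (nat_lit 0x0)) (.leaf (nat_lit 0x0))) (.node 1 (.leaf (nat_lit 0x0)) (.leaf (nat_lit 0x0)))) (.node 2 (.node 1 (.leaf (nat_lit 0x0)) (.leaf (nat_lit 0x0))) (.node 1 (.leaf (nat_lit 0x0)) (.leaf (nat_lit 0x0))))) (.node 4 (.node 2 (.node 1 (.leaf (nat_lit 0x0)) (.leaf (nat_lit 0x0))) (.node 1 (.leaf (nat_lit 0x0)) (.leaf (nat_lit 0x0)))) (.node 2 (.node 1 (.leaf (nat_lit 0x0)) (.leaf (nat_lit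 0x0))) (.node 1 (.leaf (nat_lit 0x0)) (.leaf (nat_lit 0x0)))))) (.node 8 (.node 4 (.node 2 (.node 1 (.leaf (nat_lit 0x0)) (.leaf (nat_lit 0x0))) (.node 1 (.leaf (nat_lit 0x0)) (.leaf (nat_lit 0x0)))) (.node 2 (.node 1 (.leaf (nat_lit 0x0)) (.leaf (nat_lit 0x0))) (.node 1 (.leaf (nat_lit 0x0)) (.leaf (nat_lit 0x0))))) (.node 4 (.node 2 (.node 1 (.leaf (nat_lit 0x0)) (.leaf (nat_lit 0x0))) (.node 1 (.leaf (nat_lit 0x0)) (.leaf (nat_lit 0x0)))) (.node 2 (.node 1 (.leaf (nat_lit 0x0)) (.leaf (nat_lit 0x0))) (.node 1 (.leaf (nat_lit 0x0)) (.leaf (nat_lit 0x0))))))) (.node 16 (.node 8 (.node 4 (.node 2 (.node 1 (.leaf (nat_lit 0x0)) (.leaf (nat_lit 0x0))) (.node 1 (.leaf (nat_lit 0x0)) (.leaf (nat_lit 0x0)))) (.node 2 (.node 1 (.leaf (nat_lit 0x0)) (.leaf (nat_lit 0x0))) (.node 1 (.leaf (nat_lit 0x0)) (.leaf (nat_lit 0x0))))) (.node 4 (.node 2 (.node 1 (.leaf (nat_lit 0x0)) (.leaf (nat_lit 0x0))) (.node 1 (.leaf (nat_lit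 0x0)) (.leaf (nat_lit 0x0)))) (.node 2 (.node 1 (.leaf (nat_lit 0x0)) (.leaf (nat_lit 0x0))) (.node 1 (.leaf (nat_lit 0x0)) (.leaf (nat_lit 0x0)))))) (.node 8 (.node 4 (.node 2 (.node 1 (.leaf (nat_lit 0x0)) (.leaf (nat_lit 0x0))) (.node 1 (.leaf (nat_lit 0x0)) (.leaf (nat_lit 0x0)))) (.node 2 (.node 1 (.leaf (nat_lit 0x0)) (.leaf (nat_lit 0x0))) (.node 1 (.leaf (nat_lit 0x0)) (.leaf (nat_lit 0x0))))) (.node 4 (.node 2 (.node 1 (.leaf (nat_lit 0x0)) (.leaf (nat_lit 0x0))) (.node 1 (.leaf (nat_lit 0x0)) (.leaf (nat_lit 0x0)))) (.node 2 (.node 1 (.leaf (nat_lit 0x0)) (.leaf (nat_lit 0x0))) (.node 1 (.leaf (nat_lit 0x0)) (.leaf (nat_lit 0x0)))))))) (.node 32 (.node 16 (.node 8 (.node 4 (.node 2 (.node 1 (.leaf (nat_lit 0x0)) (.leaf (nat_lit 0x0))) (.node 1 (.leaf (nat_lit 0x0)) (.leaf (nat_lit 0x0)))) (.node 2 (.node 1 (.leaf (nat_lit 0x0)) (.leaf (nat_lit 0x0))) (.node 1 (.leaf (nat_lit 0x0)) (.leaf (nat_lit 0x0)))))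 (.node 4 (.node 2 (.node 1 (.leaf (nat_lit 0x0)) (.leaf (nat_lit 0x0))) (.node 1 (.leaf (nat_lit 0x0)) (.leaf (nat_lit 0x0)))) (.node 2 (.node 1 (.leaf (nat_lit 0x0)) (.leaf (nat_lit 0x0))) (.node 1 (.leaf (nat_lit 0x0)) (.leaf (nat_lit 0x0)))))) (.node 8 (.node 4 (.node 2 (.node 1 (.leaf (nat_lit 0x0)) (.leaf (nat_lit 0x0))) (.node 1 (.leaf (nat_lit 0x0)) (.leaf (nat_lit 0x0)))) (.node 2 (.node 1 (.leaf (nat_lit 0x0)) (.leaf (nat_lit 0x0))) (.node 1 (.leaf (nat_lit 0x0)) (.leaf (nat_lit 0x0))))) (.node 4 (.node 2 (.node 1 (.leaf (nat_lit 0x0)) (.leaf (nat_lit 0x0))) (.node 1 (.leaf (nat_lit 0x0)) (.leaf (nat_lit 0x0)))) (.node 2 (.node 1 (.leaf (nat_lit 0x0)) (.leaf (nat_lit 0x0))) (.node 1 (.leaf (nat_lit 0x0)) (.leaf (nat_lit 0x0))))))) (.node 16 (.node 8 (.node 4 (.node 2 (.node 1 (.leaf (nat_lit 0x0)) (.leaf (nat_lit 0x0))) (.node 1 (.leaf (nat_lit 0x0)) (.leaf (nat_lit 0x0)))) (.node 2 (.node 1 (.leaf (nat_lit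 0x0)) (.leaf (nat_lit 0x0))) (.node 1 (.leaf (nat_lit 0x0)) (.leaf (nat_lit 0x0))))) (.node 4 (.node 2 (.node 1 (.leaf (nat_lit 0x0)) (.leaf (nat_lit 0x0))) (.node 1 (.leaf (nat_lit 0x0)) (.leaf (nat_lit 0x0)))) (.node 2 (.node 1 (.leaf (nat_lit 0x0)) (.leaf (nat_lit 0x0))) (.node 1 (.leaf (nat_lit 0x0)) (.leaf (nat_lit 0x0)))))) (.node 8 (.node 4 (.node 2 (.node 1 (.leaf (nat_lit 0x0)) (.leaf (nat_lit 0x0))) (.node 1 (.leaf (nat_lit 0x0)) (.leaf (nat_lit 0x0)))) (.node 2 (.node 1 (.leaf (nat_lit 0x0)) (.leaf (nat_lit 0x0))) (.node 1 (.leaf (nat_lit 0x0)) (.leaf (nat_lit 0x0))))) (.node 4 (.node 2 (.node 1 (.leaf (nat_lit 0x0)) (.leaf (nat_lit 0x0))) (.node 1 (.leaf (nat_lit 0x0)) (.leaf (nat_lit 0x0)))) (.node 2 (.node 1 (.leaf (nat_lit 0x0)) (.leaf (nat_lit 0x0))) (.node 1 (.leaf (nat_lit 0x0)) (.leaf (nat_lit 0x0))))))))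

noncomputable def lvO6_21 : Tree :=
  .node 64 (.node 32 (.node 16 (.node 8 (.node 4 (.node 2 (.node 1 (.leaf (nat_lit 0x0)) (.leaf (nat_lit 0x0))) (.node 1 (.leaf (nat_lit 0x0)) (.leaf (nat_lit 0x0)))) (.node 2 (.node 1 (.leaf (nat_lit 0x0)) (.leaf (nat_lit 0x0))) (.node 1 (.leaf (nat_lit 0x0)) (.leaf (nat_lit 0x0))))) (.node 4 (.node 2 (.node 1 (.leaf (nat_lit 0x0)) (.leaf (nat_lit 0x0))) (.node 1 (.leaf (nat_lit 0x0)) (.leaf (nat_lit 0x0)))) (.node 2 (.node 1 (.leaf (nat_lit 0x0)) (.leaf (nat_lit 0x0))) (.node 1 (.leaf (nat_lit 0x0)) (.leaf (nat_lit 0x0)))))) (.node 8 (.node 4 (.node 2 (.node 1 (.leaf (nat_lit 0x0)) (.leaf (nat_lit 0x0))) (.node 1 (.leaf (nat_lit 0x0)) (.leaf (nat_lit 0x0)))) (.node 2 (.node 1 (.leaf (nat_lit 0x0)) (.leaf (nat_lit 0x0))) (.node 1 (.leaf (nat_lit 0x0)) (.leaf (nat_lit 0x0))))) (.node 4 (.node 2 (.node 1 (.leaf (nat_lit 0x0)) (.leaf (nat_lit 0x0))) (.node 1 (.leaf (nat_lit 0x0))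 (.leaf (nat_lit 0x0)))) (.node 2 (.node 1 (.leaf (nat_lit 0x0)) (.leaf (nat_lit 0x0))) (.node 1 (.leaf (nat_lit 0x0)) (.leaf (nat_lit 0x0))))))) (.node 16 (.node 8 (.node 4 (.node 2 (.node 1 (.leaf (nat_lit 0x0)) (.leaf (nat_lit 0x0))) (.node 1 (.leaf (nat_lit 0x0)) (.leaf (nat_lit 0x0)))) (.node 2 (.node 1 (.leaf (nat_lit 0x0)) (.leaf (nat_lit 0x0))) (.node 1 (.leaf (nat_lit 0x0)) (.leaf (nat_lit 0x0))))) (.node 4 (.node 2 (.node 1 (.leaf (nat_lit 0x0)) (.leaf (nat_lit 0x0))) (.node 1 (.leaf (nat_lit 0x0)) (.leaf (nat_lit 0x0)))) (.node 2 (.node 1 (.leaf (nat_lit 0x0)) (.leaf (nat_lit 0x0))) (.node 1 (.leaf (nat_lit 0x0)) (.leaf (nat_lit 0x0)))))) (.node 8 (.node 4 (.node 2 (.node 1 (.leaf (nat_lit 0x0)) (.leaf (nat_lit 0x0))) (.node 1 (.leaf (nat_lit 0x0)) (.leaf (nat_lit 0x0)))) (.node 2 (.node 1 (.leaf (nat_lit 0x0)) (.leaf (nat_lit 0x0))) (.node 1 (.leaf (nat_lit 0x0)) (.leaf (nat_lit 0x0))))) (.node 4 (.node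 2 (.node 1 (.leaf (nat_lit 0x0)) (.leaf (nat_lit 0x0))) (.node 1 (.leaf (nat_lit 0x0)) (.leaf (nat_lit 0x0)))) (.node 2 (.node 1 (.leaf (nat_lit 0x0)) (.leaf (nat_lit 0x0))) (.node 1 (.leaf (nat_lit 0x0)) (.leaf (nat_lit 0x0)))))))) (.node 32 (.node 16 (.node 8 (.node 4 (.node 2 (.node 1 (.leaf (nat_lit 0x0)) (.leaf (nat_lit 0x0))) (.node 1 (.leaf (nat_lit 0x0)) (.leaf (nat_lit 0x0)))) (.node 2 (.node 1 (.leaf (nat_lit 0x0)) (.leaf (nat_lit 0x0))) (.node 1 (.leaf (nat_lit 0x0)) (.leaf (nat_lit 0x0))))) (.node 4 (.node 2 (.node 1 (.leaf (nat_lit 0x0)) (.leaf (nat_lit 0x0))) (.node 1 (.leaf (nat_lit 0x0)) (.leaf (nat_lit 0x0)))) (.node 2 (.node 1 (.leaf (nat_lit 0x0)) (.leaf (nat_lit 0x0))) (.node 1 (.leaf (nat_lit 0x0)) (.leaf (nat_lit 0x0)))))) (.node 8 (.node 4 (.node 2 (.node 1 (.leaf (nat_lit 0x0)) (.leaf (nat_lit 0x0))) (.node 1 (.leaf (nat_lit 0x0)) (.leaf (nat_lit 0x0)))) (.node 2 (.node 1 (.leaf (nat_lit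 0x0)) (.leaf (nat_lit 0x0))) (.node 1 (.leaf (nat_lit 0x0)) (.leaf (nat_lit 0x0))))) (.node 4 (.node 2 (.node 1 (.leaf (nat_lit 0x0)) (.leaf (nat_lit 0x0))) (.node 1 (.leaf (nat_lit 0x0)) (.leaf (nat_lit 0x0)))) (.node 2 (.node 1 (.leaf (nat_lit 0x0)) (.leaf (nat_lit 0x0))) (.node 1 (.leaf (nat_lit 0x0)) (.leaf (nat_lit 0x0))))))) (.node 16 (.node 8 (.node 4 (.node 2 (.node 1 (.leaf (nat_lit 0x0)) (.leaf (nat_lit 0x0))) (.node 1 (.leaf (nat_lit 0x0)) (.leaf (nat_lit 0x0)))) (.node 2 (.node 1 (.leaf (nat_lit 0x0)) (.leaf (nat_lit 0x0))) (.node 1 (.leaf (nat_lit 0x0)) (.leaf (nat_lit 0x0))))) (.node 4 (.node 2 (.node 1 (.leaf (nat_lit 0x0)) (.leaf (nat_lit 0x0))) (.node 1 (.leaf (nat_lit 0x0)) (.leaf (nat_lit 0x0)))) (.node 2 (.node 1 (.leaf (nat_lit 0x0)) (.leaf (nat_lit 0x0))) (.node 1 (.leaf (nat_lit 0x0)) (.leaf (nat_lit 0x0)))))) (.node 8 (.node 4 (.node 2 (.node 1 (.leaf (nat_lit 0x0)) (.leaf (nat_lit 0x0)))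 (.node 1 (.leaf (nat_lit 0x0)) (.leaf (nat_lit 0x0)))) (.node 2 (.node 1 (.leaf (nat_lit 0x0)) (.leaf (nat_lit 0x0))) (.node 1 (.leaf (nat_lit 0x0)) (.leaf (nat_lit 0x0))))) (.node 4 (.node 2 (.node 1 (.leaf (nat_lit 0x0)) (.leaf (nat_lit 0x0))) (.node 1 (.leaf (nat_lit 0x0)) (.leaf (nat_lit 0x0)))) (.node 2 (.node 1 (.leaf (nat_lit 0x0)) (.leaf (nat_lit 0x0))) (.node 1 (.leaf (nat_lit 0x0)) (.leaf (nat_lit 0x0))))))))

noncomputable def lvO6_22 : Tree :=
  .node 64 (.node 32 (.node 16 (.node 8 (.node 4 (.node 2 (.node 1 (.leaf (nat_lit 0x0)) (.leaf (nat_lit 0x0))) (.node 1 (.leaf (nat_lit 0x0)) (.leaf (nat_lit 0x0)))) (.node 2 (.node 1 (.leaf (nat_lit 0x0)) (.leaf (nat_lit 0x0))) (.node 1 (.leaf (nat_lit 0x0)) (.leaf (nat_lit 0x0))))) (.node 4 (.node 2 (.node 1 (.leaf (nat_lit 0x0)) (.leaf (nat_lit 0x0))) (.node 1 (.leaf (nat_lit 0x0)) (.leaf (nat_lit 0x0)))) (.node 2 (.node 1 (.leaf (nat_lit 0x0)) (.leaf (nat_lit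 0x0))) (.node 1 (.leaf (nat_lit 0x0)) (.leaf (nat_lit 0x0)))))) (.node 8 (.node 4 (.node 2 (.node 1 (.leaf (nat_lit 0x0)) (.leaf (nat_lit 0x0))) (.node 1 (.leaf (nat_lit 0x0)) (.leaf (nat_lit 0x0)))) (.node 2 (.node 1 (.leaf (nat_lit 0x0)) (.leaf (nat_lit 0x0))) (.node 1 (.leaf (nat_lit 0x0)) (.leaf (nat_lit 0x0))))) (.node 4 (.node 2 (.node 1 (.leaf (nat_lit 0x0)) (.leaf (nat_lit 0x0))) (.node 1 (.leaf (nat_lit 0x0)) (.leaf (nat_lit 0x0)))) (.node 2 (.node 1 (.leaf (nat_lit 0x0)) (.leaf (nat_lit 0x0))) (.node 1 (.leaf (nat_lit 0x0)) (.leaf (nat_lit 0x0))))))) (.node 16 (.node 8 (.node 4 (.node 2 (.node 1 (.leaf (nat_lit 0x0)) (.leaf (nat_lit 0x0))) (.node 1 (.leaf (nat_lit 0x0)) (.leaf (nat_lit 0x0)))) (.node 2 (.node 1 (.leaf (nat_lit 0x0)) (.leaf (nat_lit 0x0))) (.node 1 (.leaf (nat_lit 0x0)) (.leaf (nat_lit 0x0))))) (.node 4 (.node 2 (.node 1 (.leaf (nat_lit 0x0)) (.leaf (nat_lit 0x0))) (.node 1 (.leaf (nat_lit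 0x0)) (.leaf (nat_lit 0x0)))) (.node 2 (.node 1 (.leaf (nat_lit 0x0)) (.leaf (nat_lit 0x0))) (.node 1 (.leaf (nat_lit 0x0)) (.leaf (nat_lit 0x0)))))) (.node 8 (.node 4 (.node 2 (.node 1 (.leaf (nat_lit 0x0)) (.leaf (nat_lit 0x0))) (.node 1 (.leaf (nat_lit 0x0)) (.leaf (nat_lit 0x0)))) (.node 2 (.node 1 (.leaf (nat_lit 0x0)) (.leaf (nat_lit 0x0))) (.node 1 (.leaf (nat_lit 0x0)) (.leaf (nat_lit 0x0))))) (.node 4 (.node 2 (.node 1 (.leaf (nat_lit 0x0)) (.leaf (nat_lit 0x0))) (.node 1 (.leaf (nat_lit 0x0)) (.leaf (nat_lit 0x0)))) (.node 2 (.node 1 (.leaf (nat_lit 0x0)) (.leaf (nat_lit 0x0))) (.node 1 (.leaf (nat_lit 0x0)) (.leaf (nat_lit 0x0)))))))) (.node 32 (.node 16 (.node 8 (.node 4 (.node 2 (.node 1 (.leaf (nat_lit 0x0)) (.leaf (nat_lit 0x0))) (.node 1 (.leaf (nat_lit 0x0)) (.leaf (nat_lit 0x0)))) (.node 2 (.node 1 (.leaf (nat_lit 0x0)) (.leaf (nat_lit 0x0))) (.node 1 (.leaf (nat_lit 0x0)) (.leaf (nat_lit 0x0)))))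 (.node 4 (.node 2 (.node 1 (.leaf (nat_lit 0x0)) (.leaf (nat_lit 0x0))) (.node 1 (.leaf (nat_lit 0x0)) (.leaf (nat_lit 0x0)))) (.node 2 (.node 1 (.leaf (nat_lit 0x0)) (.leaf (nat_lit 0x0))) (.node 1 (.leaf (nat_lit 0x0)) (.leaf (nat_lit 0x0)))))) (.node 8 (.node 4 (.node 2 (.node 1 (.leaf (nat_lit 0x0)) (.leaf (nat_lit 0x0))) (.node 1 (.leaf (nat_lit 0x0)) (.leaf (nat_lit 0x0)))) (.node 2 (.node 1 (.leaf (nat_lit 0x0)) (.leaf (nat_lit 0x0))) (.node 1 (.leaf (nat_lit 0x0)) (.leaf (nat_lit 0x0))))) (.node 4 (.node 2 (.node 1 (.leaf (nat_lit 0x0)) (.leaf (nat_lit 0x0))) (.node 1 (.leaf (nat_lit 0x0)) (.leaf (nat_lit 0x0)))) (.node 2 (.node 1 (.leaf (nat_lit 0x0)) (.leaf (nat_lit 0x0))) (.node 1 (.leaf (nat_lit 0x0)) (.leaf (nat_lit 0x0))))))) (.node 16 (.node 8 (.node 4 (.node 2 (.node 1 (.leaf (nat_lit 0x0)) (.leaf (nat_lit 0x0))) (.node 1 (.leaf (nat_lit 0x0)) (.leaf (nat_lit 0x0)))) (.node 2 (.node 1 (.leaf (nat_lit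 0x0)) (.leaf (nat_lit 0x0))) (.node 1 (.leaf (nat_lit 0x0)) (.leaf (nat_lit 0x0))))) (.node 4 (.node 2 (.node 1 (.leaf (nat_lit 0x0)) (.leaf (nat_lit 0x0))) (.node 1 (.leaf (nat_lit 0x0)) (.leaf (nat_lit 0x0)))) (.node 2 (.node 1 (.leaf (nat_lit 0x0)) (.leaf (nat_lit 0x0))) (.node 1 (.leaf (nat_lit 0x0)) (.leaf (nat_lit 0x0)))))) (.node 8 (.node 4 (.node 2 (.node 1 (.leaf (nat_lit 0x0)) (.leaf (nat_lit 0x0))) (.node 1 (.leaf (nat_lit 0x0)) (.leaf (nat_lit 0x0)))) (.node 2 (.node 1 (.leaf (nat_lit 0x0)) (.leaf (nat_lit 0x0))) (.node 1 (.leaf (nat_lit 0x0)) (.leaf (nat_lit 0x0))))) (.node 4 (.node 2 (.node 1 (.leaf (nat_lit 0x0)) (.leaf (nat_lit 0x0))) (.node 1 (.leaf (nat_lit 0x0)) (.leaf (nat_lit 0x0)))) (.node 2 (.node 1 (.leaf (nat_lit 0x0)) (.leaf (nat_lit 0x0))) (.node 1 (.leaf (nat_lit 0x0)) (.leaf (nat_lit 0x0))))))))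

noncomputable def lvO6_23 : Tree :=
  .node 64 (.node 32 (.node 16 (.node 8 (.node 4 (.node 2 (.node 1 (.leaf (nat_lit 0x0)) (.leaf (nat_lit 0x0))) (.node 1 (.leaf (nat_lit 0x0)) (.leaf (nat_lit 0x0)))) (.node 2 (.node 1 (.leaf (nat_lit 0x0)) (.leaf (nat_lit 0x0))) (.node 1 (.leaf (nat_lit 0x0)) (.leaf (nat_lit 0x0))))) (.node 4 (.node 2 (.node 1 (.leaf (nat_lit 0x0)) (.leaf (nat_lit 0x0))) (.node 1 (.leaf (nat_lit 0x0)) (.leaf (nat_lit 0x0)))) (.node 2 (.node 1 (.leaf (nat_lit 0x0)) (.leaf (nat_lit 0x0))) (.node 1 (.leaf (nat_lit 0x0)) (.leaf (nat_lit 0x0)))))) (.node 8 (.node 4 (.node 2 (.node 1 (.leaf (nat_lit 0x0)) (.leaf (nat_lit 0x0))) (.node 1 (.leaf (nat_lit 0x0)) (.leaf (nat_lit 0x0)))) (.node 2 (.node 1 (.leaf (nat_lit 0x0)) (.leaf (nat_lit 0x0))) (.node 1 (.leaf (nat_lit 0x0)) (.leaf (nat_lit 0x0))))) (.node 4 (.node 2 (.node 1 (.leaf (nat_lit 0x0)) (.leaf (nat_lit 0x0))) (.node 1 (.leaf (nat_lit 0x0))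 (.leaf (nat_lit 0x0)))) (.node 2 (.node 1 (.leaf (nat_lit 0x0)) (.leaf (nat_lit 0x0))) (.node 1 (.leaf (nat_lit 0x0)) (.leaf (nat_lit 0x0))))))) (.node 16 (.node 8 (.node 4 (.node 2 (.node 1 (.leaf (nat_lit 0x0)) (.leaf (nat_lit 0x0))) (.node 1 (.leaf (nat_lit 0x0)) (.leaf (nat_lit 0x0)))) (.node 2 (.node 1 (.leaf (nat_lit 0x0)) (.leaf (nat_lit 0x0))) (.node 1 (.leaf (nat_lit 0x0)) (.leaf (nat_lit 0x0))))) (.node 4 (.node 2 (.node 1 (.leaf (nat_lit 0x0)) (.leaf (nat_lit 0x0))) (.node 1 (.leaf (nat_lit 0x0)) (.leaf (nat_lit 0x0)))) (.node 2 (.node 1 (.leaf (nat_lit 0x0)) (.leaf (nat_lit 0x0))) (.node 1 (.leaf (nat_lit 0x0)) (.leaf (nat_lit 0x0)))))) (.node 8 (.node 4 (.node 2 (.node 1 (.leaf (nat_lit 0x0)) (.leaf (nat_lit 0x0))) (.node 1 (.leaf (nat_lit 0x0)) (.leaf (nat_lit 0x0)))) (.node 2 (.node 1 (.leaf (nat_lit 0x0)) (.leaf (nat_lit 0x0))) (.node 1 (.leaf (nat_lit 0x0)) (.leaf (nat_lit 0x0))))) (.node 4 (.node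 2 (.node 1 (.leaf (nat_lit 0x0)) (.leaf (nat_lit 0x0))) (.node 1 (.leaf (nat_lit 0x0)) (.leaf (nat_lit 0x0)))) (.node 2 (.node 1 (.leaf (nat_lit 0x0)) (.leaf (nat_lit 0x0))) (.node 1 (.leaf (nat_lit 0x0)) (.leaf (nat_lit 0x0)))))))) (.node 32 (.node 16 (.node 8 (.node 4 (.node 2 (.node 1 (.leaf (nat_lit 0x0)) (.leaf (nat_lit 0x0))) (.node 1 (.leaf (nat_lit 0x0)) (.leaf (nat_lit 0x0)))) (.node 2 (.node 1 (.leaf (nat_lit 0x0)) (.leaf (nat_lit 0x0))) (.node 1 (.leaf (nat_lit 0x0)) (.leaf (nat_lit 0x0))))) (.node 4 (.node 2 (.node 1 (.leaf (nat_lit 0x0)) (.leaf (nat_lit 0x0))) (.node 1 (.leaf (nat_lit 0x0)) (.leaf (nat_lit 0x0)))) (.node 2 (.node 1 (.leaf (nat_lit 0x0)) (.leaf (nat_lit 0x0))) (.node 1 (.leaf (nat_lit 0x0)) (.leaf (nat_lit 0x0)))))) (.node 8 (.node 4 (.node 2 (.node 1 (.leaf (nat_lit 0x0)) (.leaf (nat_lit 0x0))) (.node 1 (.leaf (nat_lit 0x0)) (.leaf (nat_lit 0x0)))) (.node 2 (.node 1 (.leaf (nat_lit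 0x0)) (.leaf (nat_lit 0x0))) (.node 1 (.leaf (nat_lit 0x0)) (.leaf (nat_lit 0x0))))) (.node 4 (.node 2 (.node 1 (.leaf (nat_lit 0x0)) (.leaf (nat_lit 0x0))) (.node 1 (.leaf (nat_lit 0x0)) (.leaf (nat_lit 0x0)))) (.node 2 (.node 1 (.leaf (nat_lit 0x0)) (.leaf (nat_lit 0x0))) (.node 1 (.leaf (nat_lit 0x0)) (.leaf (nat_lit 0x0))))))) (.node 16 (.node 8 (.node 4 (.node 2 (.node 1 (.leaf (nat_lit 0x0)) (.leaf (nat_lit 0x0))) (.node 1 (.leaf (nat_lit 0x0)) (.leaf (nat_lit 0x0)))) (.node 2 (.node 1 (.leaf (nat_lit 0x0)) (.leaf (nat_lit 0x0))) (.node 1 (.leaf (nat_lit 0x0)) (.leaf (nat_lit 0x0))))) (.node 4 (.node 2 (.node 1 (.leaf (nat_lit 0x0)) (.leaf (nat_lit 0x0))) (.node 1 (.leaf (nat_lit 0x0)) (.leaf (nat_lit 0x0)))) (.node 2 (.node 1 (.leaf (nat_lit 0x0)) (.leaf (nat_lit 0x0))) (.node 1 (.leaf (nat_lit 0x0)) (.leaf (nat_lit 0x0)))))) (.node 8 (.node 4 (.node 2 (.node 1 (.leaf (nat_lit 0x0)) (.leaf (nat_lit 0x0)))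 (.node 1 (.leaf (nat_lit 0x0)) (.leaf (nat_lit 0x0)))) (.node 2 (.node 1 (.leaf (nat_lit 0x0)) (.leaf (nat_lit 0x0))) (.node 1 (.leaf (nat_lit 0x0)) (.leaf (nat_lit 0x0))))) (.node 4 (.node 2 (.node 1 (.leaf (nat_lit 0x0)) (.leaf (nat_lit 0x0))) (.node 1 (.leaf (nat_lit 0x0)) (.leaf (nat_lit 0x0)))) (.node 2 (.node 1 (.leaf (nat_lit 0x0)) (.leaf (nat_lit 0x0))) (.node 1 (.leaf (nat_lit 0x0)) (.leaf (nat_lit 0x0))))))))

noncomputable def lvO6_24 : Tree :=
  .node 43 (.node 21 (.node 10 (.node 5 (.node 2 (.node 1 (.leaf (nat_lit 0x0)) (.leaf (nat_lit 0x0))) (.node 1 (.leaf (nat_lit 0x0)) (.node 1 (.leaf (nat_lit 0x0)) (.leaf (nat_lit 0x0))))) (.node 2 (.node 1 (.leaf (nat_lit 0x0)) (.leaf (nat_lit 0x0))) (.node 1 (.leaf (nat_lit 0x0)) (.node 1 (.leaf (nat_lit 0x0)) (.leaf (nat_lit 0x0)))))) (.node 5 (.node 2 (.node 1 (.leaf (nat_lit 0x0)) (.leaf (nat_lit 0x0))) (.node 1 (.leaf (nat_lit 0x0)) (.node 1 (.leaf (nat_lit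 0x0)) (.leaf (nat_lit 0x0))))) (.node 3 (.node 1 (.leaf (nat_lit 0x0)) (.node 1 (.leaf (nat_lit 0x0)) (.leaf (nat_lit 0x0)))) (.node 1 (.leaf (nat_lit 0x0)) (.node 1 (.leaf (nat_lit 0x0)) (.leaf (nat_lit 0x0))))))) (.node 11 (.node 5 (.node 2 (.node 1 (.leaf (nat_lit 0x0)) (.leaf (nat_lit 0x0))) (.node 1 (.leaf (nat_lit 0x0)) (.node 1 (.leaf (nat_lit 0x0)) (.leaf (nat_lit 0x0))))) (.node 3 (.node 1 (.leaf (nat_lit 0x0)) (.node 1 (.leaf (nat_lit 0x0)) (.leaf (nat_lit 0x0)))) (.node 1 (.leaf (nat_lit 0x0)) (.node 1 (.leaf (nat_lit 0x0)) (.leaf (nat_lit 0x0)))))) (.node 5 (.node 2 (.node 1 (.leaf (nat_lit 0x0)) (.leaf (nat_lit 0x0))) (.node 1 (.leaf (nat_lit 0x0)) (.node 1 (.leaf (nat_lit 0x0)) (.leaf (nat_lit 0x0))))) (.node 3 (.node 1 (.leaf (nat_lit 0x0)) (.node 1 (.leaf (nat_lit 0x0)) (.leaf (nat_lit 0x0)))) (.node 1 (.leaf (nat_lit 0x0)) (.node 1 (.leaf (nat_lit 0x0)) (.leaf (nat_lit 0x0)))))))) (.node 22 (.node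 11 (.node 5 (.node 2 (.node 1 (.leaf (nat_lit 0x0)) (.leaf (nat_lit 0x0))) (.node 1 (.leaf (nat_lit 0x0)) (.node 1 (.leaf (nat_lit 0x0)) (.leaf (nat_lit 0x0))))) (.node 3 (.node 1 (.leaf (nat_lit 0x0)) (.node 1 (.leaf (nat_lit 0x0)) (.leaf (nat_lit 0x0)))) (.node 1 (.leaf (nat_lit 0x0)) (.node 1 (.leaf (nat_lit 0x0)) (.leaf (nat_lit 0x0)))))) (.node 5 (.node 2 (.node 1 (.leaf (nat_lit 0x0)) (.leaf (nat_lit 0x0))) (.node 1 (.leaf (nat_lit 0x0)) (.node 1 (.leaf (nat_lit 0x0)) (.leaf (nat_lit 0x0))))) (.node 3 (.node 1 (.leaf (nat_lit 0x0)) (.node 1 (.leaf (nat_lit 0x0)) (.leaf (nat_lit 0x0)))) (.node 1 (.leaf (nat_lit 0x0)) (.node 1 (.leaf (nat_lit 0x0)) (.leaf (nat_lit 0x0))))))) (.node 11 (.node 5 (.node 2 (.node 1 (.leaf (nat_lit 0x0)) (.leaf (nat_lit 0x0))) (.node 1 (.leaf (nat_lit 0x0)) (.node 1 (.leaf (nat_lit 0x0)) (.leaf (nat_lit 0x0))))) (.node 3 (.node 1 (.leaf (nat_lit 0x0)) (.node 1 (.leaf (nat_lit 0x0))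 (.leaf (nat_lit 0x0)))) (.node 1 (.leaf (nat_lit 0x0)) (.node 1 (.leaf (nat_lit 0x0)) (.leaf (nat_lit 0x0)))))) (.node 5 (.node 2 (.node 1 (.leaf (nat_lit 0x0)) (.leaf (nat_lit 0x0))) (.node 1 (.leaf (nat_lit 0x0)) (.node 1 (.leaf (nat_lit 0x0)) (.leaf (nat_lit 0x0))))) (.node 3 (.node 1 (.leaf (nat_lit 0x0)) (.node 1 (.leaf (nat_lit 0x0)) (.leaf (nat_lit 0x0)))) (.node 1 (.leaf (nat_lit 0x0)) (.node 1 (.leaf (nat_lit 0x0)) (.leaf (nat_lit 0x0))))))))

noncomputable def lvO6 : Tree :=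
  .node 1536 (.node 768 (.node 384 (.node 128 (lvO6_0) (.node 128 (lvO6_1) (lvO6_2))) (.node 128 (lvO6_3) (.node 128 (lvO6_4) (lvO6_5)))) (.node 384 (.node 128 (lvO6_6) (.node 128 (lvO6_7) (lvO6_8))) (.node 128 (lvO6_9) (.node 128 (lvO6_10) (lvO6_11))))) (.node 768 (.node 384 (.node 128 (lvO6_12) (.node 128 (lvO6_13) (lvO6_14))) (.node 128 (lvO6_15) (.node 128 (lvO6_16) (lvO6_17)))) (.node 384 (.node 128 (lvO6_18) (.node 128 (lvO6_19) (lvO6_20))) (.node 256 (.node 128 (lvO6_21) (lvO6_22)) (.node 128 (lvO6_23) (lvO6_24)))))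

noncomputable def lv6 : Level := ⟨8, 2, lvO6, [], []⟩

noncomputable def levels : List Level := [lv0, lv1, lv2, lv3, lv4, lv5, lv6]

def roots : List (ℕ × List ℕ) := [(2, [7, 3, 5, 4, 0, 1, 3, 2, 6, 3])]

def cover : List (ℕ × ℕ) := [(1, 2), (3, 2), (6, 2), (0, 1), (4, 3), (7, 6), (5, 4)]

theorem levels_ok : levelsOK table.n table.P levels = true := by decide +kernel

theorem levels_prod : prodM levels = 4585351680 := by decide +kernel

theorem roots_ok : rootsOK table 13 roots = true := by decide +kernel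

theorem cover_ok : coverOK table (roots.map Prod.fst) cover = true := by decide +kernel

end Cfsg.Agent.InvChar.Coset.Fi3159
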