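import Cfsg.Prelude.Def_Classical
import Cfsg.Agent.Lib.CosetCert.Finish

/-!
# Negatives of reflections in dimension seven over the field with three elements
-/

set_option autoImplicit false
set_option linter.all false

noncomputable section

namespace Cfsg.Agent.InvChar.Coset.FiOrth

open Cfsg.Agent.CosetCert Matrix

/-- The index type of the vectors. -/
abbrev I7 : Type := Unit ⊕ (Fin 3 ⊕ Fin 3)

def pos : I7 → ℕ
  | .inl _ => 0
  | .inr (.inl i) => 1 + i.val
  | .inr (.inr i) => 4 + i.val

def digit (n k : ℕ) : ℕ := n / 3 ^ k % 3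

def vec (n : ℕ) (i : I7) : ZMod 3 := (digit n (pos i) : ℕ)

/-- The polar form with `a`, as coefficients. -/
def dual (a : ℕ) : I7 → ZMod 3
  | .inl _ => 2 * vec a (.inl ())
  | .inr (.inl i) => vec a (.inr (.inr i))
  | .inr (.inr i) => vec a (.inr (.inl i))

/-- The negative of the reflection in `a`, for `Q a = 2`. -/
def negRefl (a : ℕ) : Matrix I7 I7 (ZMod 3) :=
  fun i j => -((if i = j then 1 else 0) - 2 * dual a j * vec a i)

def polar (a : ℕ) (v : I7 → ZMod 3) : ZMod 3 := ∑ j, dual a j * v j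

theorem negRefl_mulVec (a : ℕ) (v : I7 → ZMod 3) (i : I7) :
    (negRefl a *ᵥ v) i = -(v i - 2 * polar a v * vec a i) := by
  rw [neg_sub]
  simp only [negRefl, Matrix.mulVec, dotProduct, polar, Finset.mul_sum, Finset.sum_mul]
  rw [show (∑ j, -((if i = j then (1 : ZMod 3) else 0) - 2 * dual a j * vec a i) * v j) =
      ∑ j, (2 * (dual a j * v j) * vec a i - (if i = j then v j else 0)) from
    Finset.sum_congr rfl fun j _ => by split <;> ring,
    Finset.sum_sub_distrib, Finset.sum_ite_eq, if_pos (Finset.mem_univ i)]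

theorem quad_negRefl (a : ℕ) (ha : Cfsg.quadFormOdd 3 (ZMod 3) (vec a) = 2) (v : I7 → ZMod 3) :
    Cfsg.quadFormOdd 3 (ZMod 3) (negRefl a *ᵥ v) = Cfsg.quadFormOdd 3 (ZMod 3) v := by
  simp only [Cfsg.quadFormOdd, negRefl_mulVec, polar, Fintype.sum_sum_type, Fin.sum_univ_three,
    Finset.univ_unique, Finset.sum_singleton, dual] at ha ⊢
  have h3 : (3 : ZMod 3) = 0 := rfl
  simp only [show (default : Unit) = () from rfl] at ha ⊢
  linear_combination (4 * (2 * vec a (.inl ()) * v (.inl ()) +
      (vec a (.inr (.inr 0)) * v (.inr (.inl 0)) + vec a (.inr (.inr 1)) * v (.inr (.inl 1)) +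
          vec a (.inr (.inr 2)) * v (.inr (.inl 2)) +
        (vec a (.inr (.inl 0)) * v (.inr (.inr 0)) + vec a (.inr (.inl 1)) * v (.inr (.inr 1)) +
          vec a (.inr (.inl 2)) * v (.inr (.inr 2))))) ^ 2) * ha +
    (2 * (2 * vec a (.inl ()) * v (.inl ()) +
      (vec a (.inr (.inr 0)) * v (.inr (.inl 0)) + vec a (.inr (.inr 1)) * v (.inr (.inl 1)) +
          vec a (.inr (.inr 2)) * v (.inr (.inl 2)) +
        (vec a (.inr (.inl 0)) * v (.inr (.inr 0)) + vec a (.inr (.inl 1)) * v (.inr (.inr 1)) +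
          vec a (.inr (.inl 2)) * v (.inr (.inr 2))))) ^ 2) * h3

def coef (a n : ℕ) : ℕ :=
  (2 * digit a 0 * digit n 0 + digit a 4 * digit n 1 + digit a 5 * digit n 2 + digit a 6 * digit n 3 +
    digit a 1 * digit n 4 + digit a 2 * digit n 5 + digit a 3 * digit n 6) % 3

def mix (a n k : ℕ) : ℕ := (2 * digit n k + 2 * coef a n * digit a k) % 3

/-- The action of `negRefl a` on codes. -/
def step (a n : ℕ) : ℕ :=
  mix a n 0 + 3 * (mix a n 1 + 3 * (mix a n 2 + 3 * (mix a n 3 + 3 * (mix a n 4 + 3 * (mix a n 5 + 3 * mix a n 6)))))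

theorem digit_pack {e : ℕ → ℕ} (he : ∀ k, e k < 3) : ∀ k < 7,
    digit (e 0 + 3 * (e 1 + 3 * (e 2 + 3 * (e 3 + 3 * (e 4 + 3 * (e 5 + 3 * e 6)))))) k = e k := by
  intro k hk
  have := he 0; have := he 1; have := he 2; have := he 3; have := he 4; have := he 5; have := he 6
  interval_cases k <;> simp only [digit] <;> norm_num <;> omega

theorem pos_lt (i : I7) : pos i < 7 := by
  rcases i with u | i | i <;> simp only [pos] <;> omega

theorem vec_step (a n : ℕ) : vec (step a n) = negRefl a *ᵥ vec n := by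
  funext i
  rw [negRefl_mulVec]
  have h3 : (3 : ZMod 3) = 0 := rfl
  have h1 : polar a (vec n) = ((2 * digit a 0 * digit n 0 + digit a 4 * digit n 1 + digit a 5 * digit n 2 +
      digit a 6 * digit n 3 + digit a 1 * digit n 4 + digit a 2 * digit n 5 + digit a 3 * digit n 6 : ℕ) : ZMod 3) := by
    simp only [polar, dual, vec, pos, Fintype.sum_sum_type, Fin.sum_univ_three, Finset.univ_unique, Finset.sum_singleton]
    push_cast
    simp only [Fin.val_zero, Fin.val_one, Fin.val_two, Nat.add_zero, Nat.reduceAdd, PUnit.default_eq_unit]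
    ring
  rw [h1]
  unfold vec
  rw [step, digit_pack (e := mix a n) (fun k => Nat.mod_lt _ (by norm_num : 0 < 3)) _ (pos_lt i), mix, coef]
  simp only [ZMod.natCast_mod, Nat.cast_mul, Nat.cast_add, Nat.cast_ofNat]
  linear_combination ((digit n (pos i) : ℕ) : ZMod 3) * h3

/-- The code of a vector of the standard basis. -/
def unit7 : I7 → ℕ := fun i => 3 ^ pos i

theorem vec_unit (i : I7) : vec (unit7 i) = Pi.single i 1 := by
  revert i
  decide +kernel

/-- The action of a word on codes, first letter first. -/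
def stepWord (A : List ℕ) (w : List ℕ) : ℕ → ℕ :=
  List.rec (motive := fun _ => ℕ → ℕ) (fun c => c) (fun y _ ih c => ih (step (nthNat A y) c)) w

end Cfsg.Agent.InvChar.Coset.FiOrth
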