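import Cfsg.Agent.InvChar.Coset.Fi22Order
import Cfsg.Agent.InvChar.Coset.FiOrthRefl
import Cfsg.Agent.InvChar.Coset.Fi3159Levels
import Cfsg.Agent.S0292
import Cfsg.Agent.S0295

/-!
# A subgroup of Fi22 isomorphic to the orthogonal group in dimension seven over the field with three elements
-/

set_option autoImplicit false
set_option linter.all false

noncomputable section

namespace Cfsg.Agent.InvChar.Coset.FiOrth

open Cfsg.Agent.CosetCert Matrix

/-- The vectors of the reflections. -/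
def roots7 : List ℕ := [389, 1693, 1302, 757, 959, 242, 1584, 280]

abbrev O7 : Subgroup (GL I7 (ZMod 3)) := Cfsg.isometryGroup (ZMod 3) (Cfsg.quadFormOdd 3 (ZMod 3))

theorem roots7_quad : ∀ x < 8, Cfsg.quadFormOdd 3 (ZMod 3) (vec (nthNat roots7 x)) = 2 := by decide +kernel

theorem roots7_sq : ∀ x < 8, ∀ i : I7,
    step (nthNat roots7 x) (step (nthNat roots7 x) (unit7 i)) = unit7 i := by decide +kernel

theorem negRefl_sq {x : ℕ} (hx : x < 8) : negRefl (nthNat roots7 x) * negRefl (nthNat roots7 x) = 1 := by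
  refine Matrix.ext_of_mulVec_single fun i => ?_
  rw [← vec_unit, ← Matrix.mulVec_mulVec, ← vec_step, ← vec_step, roots7_sq x hx i, Matrix.one_mulVec]

def iso7 (x : ℕ) : O7 :=
  if hx : x < 8 then
    ⟨⟨negRefl (nthNat roots7 x), negRefl (nthNat roots7 x), negRefl_sq hx, negRefl_sq hx⟩,
      fun u _ => quad_negRefl _ (roots7_quad x hx) u⟩
  else 1

theorem iso7_sq (x : ℕ) : iso7 x * iso7 x = 1 := by
  unfold iso7
  split
  · next hx => exact Subtype.ext (Units.ext (negRefl_sq hx))
  · exact one_mul 1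

theorem iso7_coe {x : ℕ} (hx : x < 8) : ((iso7 x : GL I7 (ZMod 3)) : Matrix I7 I7 (ZMod 3)) = negRefl (nthNat roots7 x) := by
  rw [iso7, dif_pos hx]

theorem wprod_iso7 : ∀ w : List ℕ, (∀ y ∈ w, y < 8) → ∀ n : ℕ,
    (((wprod iso7 w : O7) : GL I7 (ZMod 3)) : Matrix I7 I7 (ZMod 3)) *ᵥ vec n = vec (stepWord roots7 w n)
  | [], _, n => by simp [wprod, stepWord]
  | y :: w, hw, n => by
    rw [wprod, Subgroup.coe_mul, Units.val_mul, ← Matrix.mulVec_mulVec, iso7_coe (hw y List.mem_cons_self),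
      ← vec_step, wprod_iso7 w (fun z hz => hw z (List.mem_cons_of_mem _ hz))]
    rfl

/-- The relators among the last eight generators, in local letters. -/
theorem words_fix : ∀ w ∈ Fi3159.table.C.W, (∀ y ∈ w, y < 8) ∧ ∀ i : I7, stepWord roots7 w (unit7 i) = unit7 i := by
  decide +kernel

theorem iso7_rel : ∀ w ∈ Fi3159.table.C.W, wprod iso7 w = 1 := by
  intro w hw
  obtain ⟨hlt, hfix⟩ := words_fix w hw
  refine Subtype.ext (Units.ext (Matrix.ext_of_mulVec_single fun i => ?_))
  rw [← vec_unit, wprod_iso7 w hlt, hfix i]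
  simp

def top8 : List ℕ := [1, 2, 3, 4, 5, 6, 7, 8]

/-- The generators in the triple product. -/
def g3 (x : ℕ) : Cfsg.Spor.Fi22 × (O7 × Equiv.Perm (Fin Fi3159.table.n)) :=
  if x < 8 then (Fi22B.data.gen (nthNat top8 x), iso7 x, tau Fi3159.checked x) else 1

def P7 : Subgroup (Cfsg.Spor.Fi22 × (O7 × Equiv.Perm (Fin Fi3159.table.n))) :=
  Subgroup.closure (g3 '' {x | x < 8})

def gP (x : ℕ) : P7 :=
  if hx : x < 8 then ⟨g3 x, Subgroup.subset_closure ⟨x, hx, rfl⟩⟩ else 1

theorem gP_coe (x : ℕ) : (gP x : Cfsg.Spor.Fi22 × (O7 × Equiv.Perm (Fin Fi3159.table.n))) = g3 x := by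
  unfold gP
  split
  · rfl
  · next hx => rw [g3, if_neg hx]; rfl

theorem g3_eq {x : ℕ} (hx : x < 8) : g3 x = (Fi22B.data.gen (nthNat top8 x), iso7 x, tau Fi3159.checked x) := if_pos hx

theorem g3_sq (x : ℕ) : g3 x * g3 x = 1 := by
  unfold g3
  split
  · exact Prod.ext (Fi22B.data.gen_sq _) (Prod.ext (iso7_sq x) (tau_sq Fi3159.checked x))
  · exact one_mul 1

theorem gP_sq (x : ℕ) : gP x * gP x = 1 := Subtype.ext (by rw [Subgroup.coe_mul, gP_coe]; exact g3_sq x)

theorem gP_rel : ∀ w ∈ Fi3159.table.C.W, wprod gP w = 1 := by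
  intro w hw
  refine Subtype.ext ?_
  show P7.subtype (wprod gP w) = 1
  rw [map_wprod, show (fun x => P7.subtype (gP x)) = g3 from funext gP_coe]
  have key : ∀ v : List ℕ, (∀ y ∈ v, y < 8) → wprod g3 v =
      (wprod (fun x => Fi22B.data.gen (nthNat top8 x)) v, wprod iso7 v, wprod (tau Fi3159.checked) v) := by
    intro v
    induction v with
    | nil => intro _; rfl
    | cons y v ih =>
      intro hy
      rw [wprod, ih (fun z hz => hy z (List.mem_cons_of_mem _ hz)), g3_eq (hy y List.mem_cons_self)]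
      rfl
  rw [key w (words_fix w hw).1, iso7_rel w hw, tau_rel Fi3159.checked w hw, ← wprod_mapWord,
    Fi22B.data.gen_rel _ (wordsIn_spec (top := top8) (l := Fi3159.table.C.W) (by decide +kernel) w hw)]
  rfl

theorem gP_top : Subgroup.closure (gP '' {x | x < Fi3159.table.C.K}) = ⊤ := by
  have hK : Fi3159.table.C.K = 8 := by decide +kernel
  apply Subgroup.map_injective P7.subtype_injective
  rw [MonoidHom.map_closure, ← MonoidHom.range_eq_map, Subgroup.range_subtype]
  conv_rhs => rw [P7]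
  congr 1
  rw [← Set.image_comp, hK]
  exact Set.image_congr fun x _ => gP_coe x

def toPerm7 : P7 →* Equiv.Perm (Fin Fi3159.table.n) :=
  ((MonoidHom.snd _ _).comp (MonoidHom.snd _ _)).comp P7.subtype

theorem toPerm7_gP (x : ℕ) : toPerm7 (gP x) = tau Fi3159.checked x := by
  show (gP x : Cfsg.Spor.Fi22 × (O7 × Equiv.Perm (Fin Fi3159.table.n))).2.2 = _
  rw [gP_coe]
  by_cases hx : x < 8
  · rw [g3_eq hx]
  · rw [g3, if_neg hx, tau, dif_neg (by rw [show Fi3159.table.C.K = 8 by decide +kernel]; exact hx)]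
    rfl

theorem bdd_P7 : Bdd (⊤ : Subgroup P7) (3159 * (28 * (27 * (16 * (120 * 1))))) := by
  have hV := gP_rel
  have h0 : Bdd (subg gP ([].map (nthNat [1, 2, 3, 4]))) 1 := bdd_subg_nil gP
  have h1 := bdd_subg Fi120.closed gP gP_sq Fi3159.table.C.W hV [1, 2, 3, 4] [] (by decide +kernel)
    (by decide +kernel) (by decide +kernel) (by decide +kernel) (by decide +kernel) h0
  have h2 := bdd_subg Fi16.closed gP gP_sq Fi3159.table.C.W hV [1, 2, 3, 4, 6] [0, 1, 2, 3] (by decide +kernel)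
    (by decide +kernel) (by decide +kernel) (by decide +kernel) (by decide +kernel) h1
  have h3 := bdd_subg Fi27.closed gP gP_sq Fi3159.table.C.W hV [0, 1, 2, 3, 4, 6] [1, 2, 3, 4, 5] (by decide +kernel)
    (by decide +kernel) (by decide +kernel) (by decide +kernel) (by decide +kernel) h2
  have h4 := bdd_subg Fi28.closed gP gP_sq Fi3159.table.C.W hV [0, 1, 2, 3, 4, 5, 6] [0, 1, 2, 3, 4, 6]
    (by decide +kernel) (by decide +kernel) (by decide +kernel) (by decide +kernel) (by decide +kernel) h3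
  have h5 := bdd_subg Fi3159.checked.closed gP gP_sq Fi3159.table.C.W hV [0, 1, 2, 3, 4, 5, 6, 7]
    [0, 1, 2, 3, 4, 5, 6] (by decide +kernel) (by decide +kernel) (by decide +kernel) (by decide +kernel)
    (by decide +kernel) h4
  have hl : ∀ x < Fi3159.table.C.K, x ∈ [0, 1, 2, 3, 4, 5, 6, 7] := by decide +kernel
  exact Bdd.top_of_gen gP_top hl h5

set_option maxRecDepth 100000 in
theorem prim7 : Prim Fi3159.table Fi3159.orbits := by
  refine Prim.mk' Fi3159.orbits_ok [1, 288, 630, 2240] ?_ ?_ ?_ ?_ ?_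
  · decide +kernel
  · decide +kernel
  · decide +kernel
  · decide +kernel
  · decide +kernel

theorem P7_simple : IsSimpleGroup P7 ∧ Nat.card P7 = 4585351680 := by
  have h := order_simple Fi3159.checked prim7 gP toPerm7 toPerm7_gP gP_sq gP_rel gP_top
    (H := Subgroup.closure (wprod gP '' {w | w ∈ Fi3159.table.C.S})) rfl bdd_P7 Fi3159.levels
    (by decide +kernel) Fi3159.levels_ok (Fi3159.levels_prod.trans (by norm_num)) (p := 13) (by norm_num)
    (by decide +kernel) (by decide +kernel) Fi3159.roots Fi3159.cover Fi3159.roots_ok Fi3159.cover_ok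
  exact ⟨h.1, h.2.1.trans (by norm_num)⟩

theorem injective_of_simple {A B : Type*} [Group A] [Group B] [IsSimpleGroup A] (f : A →* B) {a : A} (ha : f a ≠ 1) :
    Function.Injective f := by
  rw [← MonoidHom.ker_eq_bot_iff]
  rcases IsSimpleGroup.eq_bot_or_eq_top_of_normal f.ker inferInstance with h | h
  · exact h
  · exact absurd (h ▸ Subgroup.mem_top a : a ∈ f.ker) (fun h' => ha (MonoidHom.mem_ker.mp h'))

def toO7 : P7 →* O7 := ((MonoidHom.fst _ _).comp (MonoidHom.snd _ _)).comp P7.subtype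

theorem toO7_gP {x : ℕ} (hx : x < 8) : toO7 (gP x) = iso7 x := by
  show (gP x : Cfsg.Spor.Fi22 × (O7 × Equiv.Perm (Fin Fi3159.table.n))).2.1 = _
  rw [gP_coe, g3_eq hx]

theorem iso7_not_comm : iso7 0 * iso7 1 ≠ iso7 1 * iso7 0 := by
  intro h
  have h' := congrArg (fun t : O7 => ((t : GL I7 (ZMod 3)) : Matrix I7 I7 (ZMod 3)) *ᵥ vec 1) h
  simp only [Subgroup.coe_mul, Units.val_mul, iso7_coe (by norm_num : 0 < 8), iso7_coe (by norm_num : 1 < 8),
    ← Matrix.mulVec_mulVec, ← vec_step] at h'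
  revert h'
  decide +kernel

/-- The isomorphism. -/
theorem nonempty_iso :
    Nonempty (subg Fi22B.data.gen [1, 2, 3, 4, 5, 6, 7, 8] ≃* Cfsg.POmega (ZMod 3) (Cfsg.quadFormOdd 3 (ZMod 3))) := by
  obtain ⟨hs, hc⟩ := P7_simple
  haveI := hs
  haveI : Finite P7 := Nat.finite_of_card_ne_zero (by omega)
  have hne : gP 0 * gP 1 ≠ gP 1 * gP 0 := fun h => iso7_not_comm (by
    have := congrArg toO7 h
    rwa [map_mul, map_mul, toO7_gP (by norm_num), toO7_gP (by norm_num)] at this)
  have hperf : commutator P7 = ⊤ := by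
    rcases IsSimpleGroup.eq_bot_or_eq_top_of_normal (commutator P7) inferInstance with h | h
    · exfalso
      rw [commutator_def, Subgroup.commutator_eq_bot_iff_le_centralizer] at h
      exact hne (Subgroup.mem_centralizer_iff.mp (h (Subgroup.mem_top (gP 1))) (gP 0) (Subgroup.mem_top _))
    · exact h
  have hOm : ∀ p : P7, toO7 p ∈ Cfsg.Omega (ZMod 3) (Cfsg.quadFormOdd 3 (ZMod 3)) := by
    intro p
    have hp : p ∈ commutator P7 := hperf ▸ Subgroup.mem_top p
    have := Subgroup.mem_map_of_mem toO7 hp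
    rw [commutator_def, Subgroup.map_commutator] at this
    exact Subgroup.commutator_mono le_top le_top this
  let toOm : P7 →* Cfsg.Omega (ZMod 3) (Cfsg.quadFormOdd 3 (ZMod 3)) := toO7.codRestrict _ hOm
  let ψ : P7 →* Cfsg.POmega (ZMod 3) (Cfsg.quadFormOdd 3 (ZMod 3)) := (QuotientGroup.mk' _).comp toOm
  have hψ : ψ (gP 0) ≠ 1 := by
    intro h
    have hmem : toOm (gP 0) ∈ Subgroup.center (Cfsg.Omega (ZMod 3) (Cfsg.quadFormOdd 3 (ZMod 3))) :=
      (QuotientGroup.eq_one_iff _).mp h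
    have := congrArg Subtype.val (Subgroup.mem_center_iff.mp hmem (toOm (gP 1)))
    apply iso7_not_comm
    have h' : toO7 (gP 1) * toO7 (gP 0) = toO7 (gP 0) * toO7 (gP 1) := this
    rw [toO7_gP (by norm_num), toO7_gP (by norm_num)] at h'
    exact h'.symm
  have hinj := injective_of_simple ψ hψ
  have hcard := S0292.result (F := ZMod 3) (q := 3) (ZMod.card 3) (by decide) 3 le_rfl
  have hbij : Function.Bijective ψ := by
    haveI : Finite (Cfsg.POmega (ZMod 3) (Cfsg.quadFormOdd 3 (ZMod 3))) := inferInstance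
    refine hinj.bijective_of_nat_card_le ?_
    rw [hc]
    simp [Finset.prod_range_succ] at hcard
    omega
  let f : P7 →* Cfsg.Spor.Fi22 := (MonoidHom.fst _ _).comp P7.subtype
  have hf : ∀ x < 8, f (gP x) = Fi22B.data.gen (nthNat top8 x) := fun x hx => by
    show (gP x : Cfsg.Spor.Fi22 × (O7 × Equiv.Perm (Fin Fi3159.table.n))).1 = _
    rw [gP_coe, g3_eq hx]
  have hrange : f.range = subg Fi22B.data.gen [1, 2, 3, 4, 5, 6, 7, 8] := by
    rw [MonoidHom.range_eq_map, ← gP_top, MonoidHom.map_closure, ← Set.image_comp]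
    unfold subg
    congr 1
    rw [show Fi3159.table.C.K = 8 by decide +kernel]
    ext p
    constructor
    · rintro ⟨x, hx, rfl⟩
      exact ⟨_, nthNat_mem (l := top8) hx, (hf x hx).symm⟩
    · rintro ⟨y, hy, rfl⟩
      obtain ⟨x, hx, rfl⟩ := exists_nthNat (l := top8) hy
      exact ⟨x, hx, hf x hx⟩
  have hf1 : f (gP 0) ≠ 1 := by
    rw [hf 0 (by norm_num)]
    intro h
    have := congrArg (fun t => (Fi22B.data.hom Fi22B.checked t ⟨0, by decide +kernel⟩ : ℕ)) h
    simp only [Fi22B.data.hom_gen, map_one, Equiv.Perm.one_apply] at this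
    rw [tau_apply _ (by decide +kernel)] at this
    revert this
    decide +kernel
  exact ⟨((MonoidHom.ofInjective (injective_of_simple f hf1)).trans (MulEquiv.subgroupCongr hrange)).symm.trans
    (MulEquiv.ofBijective ψ hbij)⟩

end Cfsg.Agent.InvChar.Coset.FiOrth
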