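import Cfsg.Agent.InvChar.Coset.Fi23OutDefs

/-!
# Rows checked, a part
-/

set_option autoImplicit false
set_option linter.all false
set_option maxRecDepth 100000
set_option Elab.async false

noncomputable section

namespace Cfsg.Agent.InvChar.Coset.Fi23Out

open Cfsg.Agent.CosetCert TreePerm Fi23G

theorem row16 : scanR rowOne 12800 800 = true := by decide +kernel

theorem row17 : scanR rowOne 13600 800 = true := by decide +kernel

theorem row18 : scanR rowOne 14400 800 = true := by decide +kernel

theorem row19 : scanR rowOne 15200 800 = true := by decide +kernel

end Cfsg.Agent.InvChar.Coset.Fi23Out
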