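import Cfsg.Agent.InvChar.Coset.Fi23OutRows0
import Cfsg.Agent.InvChar.Coset.Fi23OutRows1
import Cfsg.Agent.InvChar.Coset.Fi23OutRows2
import Cfsg.Agent.InvChar.Coset.Fi23OutRows3
import Cfsg.Agent.InvChar.Coset.Fi23OutRows4
import Cfsg.Agent.InvChar.Coset.Fi23OutRows5
import Cfsg.Agent.InvChar.Coset.Fi23OutRows6
import Cfsg.Agent.InvChar.Coset.Fi23OutRows7
import Cfsg.Agent.InvChar.Coset.Fi23OutRows8
import Cfsg.Agent.InvChar.Coset.Fi23OutRows9

/-!
# The checks for the automorphisms of the presented group Fi23
-/

set_option autoImplicit false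
set_option linter.all false
set_option maxRecDepth 100000
set_option Elab.async false

noncomputable section

namespace Cfsg.Agent.InvChar.Coset.Fi23Out

open Cfsg.Agent.CosetCert TreePerm Fi23G

theorem upto0 : ∀ c < 800, rowOne c = true :=
  scan_add 0 800 (scan_zero rowOne) row0

theorem upto1 : ∀ c < 1600, rowOne c = true :=
  scan_add 800 800 upto0 row1

theorem upto2 : ∀ c < 2400, rowOne c = true :=
  scan_add 1600 800 upto1 row2

theorem upto3 : ∀ c < 3200, rowOne c = true :=
  scan_add 2400 800 upto2 row3

theorem upto4 : ∀ c < 4000, rowOne c = true :=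
  scan_add 3200 800 upto3 row4

theorem upto5 : ∀ c < 4800, rowOne c = true :=
  scan_add 4000 800 upto4 row5

theorem upto6 : ∀ c < 5600, rowOne c = true :=
  scan_add 4800 800 upto5 row6

theorem upto7 : ∀ c < 6400, rowOne c = true :=
  scan_add 5600 800 upto6 row7

theorem upto8 : ∀ c < 7200, rowOne c = true :=
  scan_add 6400 800 upto7 row8

theorem upto9 : ∀ c < 8000, rowOne c = true :=
  scan_add 7200 800 upto8 row9

theorem upto10 : ∀ c < 8800, rowOne c = true :=
  scan_add 8000 800 upto9 row10

theorem upto11 : ∀ c < 9600, rowOne c = true :=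
  scan_add 8800 800 upto10 row11

theorem upto12 : ∀ c < 10400, rowOne c = true :=
  scan_add 9600 800 upto11 row12

theorem upto13 : ∀ c < 11200, rowOne c = true :=
  scan_add 10400 800 upto12 row13

theorem upto14 : ∀ c < 12000, rowOne c = true :=
  scan_add 11200 800 upto13 row14

theorem upto15 : ∀ c < 12800, rowOne c = true :=
  scan_add 12000 800 upto14 row15

theorem upto16 : ∀ c < 13600, rowOne c = true :=
  scan_add 12800 800 upto15 row16

theorem upto17 : ∀ c < 14400, rowOne c = true :=
  scan_add 13600 800 upto16 row17

theorem upto18 : ∀ c < 15200, rowOne c = true :=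
  scan_add 14400 800 upto17 row18

theorem upto19 : ∀ c < 16000, rowOne c = true :=
  scan_add 15200 800 upto18 row19

theorem upto20 : ∀ c < 16800, rowOne c = true :=
  scan_add 16000 800 upto19 row20

theorem upto21 : ∀ c < 17600, rowOne c = true :=
  scan_add 16800 800 upto20 row21

theorem upto22 : ∀ c < 18400, rowOne c = true :=
  scan_add 17600 800 upto21 row22

theorem upto23 : ∀ c < 19200, rowOne c = true :=
  scan_add 18400 800 upto22 row23

theorem upto24 : ∀ c < 20000, rowOne c = true :=
  scan_add 19200 800 upto23 row24

theorem upto25 : ∀ c < 20800, rowOne c = true :=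
  scan_add 20000 800 upto24 row25

theorem upto26 : ∀ c < 21600, rowOne c = true :=
  scan_add 20800 800 upto25 row26

theorem upto27 : ∀ c < 22400, rowOne c = true :=
  scan_add 21600 800 upto26 row27

theorem upto28 : ∀ c < 23200, rowOne c = true :=
  scan_add 22400 800 upto27 row28

theorem upto29 : ∀ c < 24000, rowOne c = true :=
  scan_add 23200 800 upto28 row29

theorem upto30 : ∀ c < 24800, rowOne c = true :=
  scan_add 24000 800 upto29 row30

theorem upto31 : ∀ c < 25600, rowOne c = true :=
  scan_add 24800 800 upto30 row31

theorem upto32 : ∀ c < 26400, rowOne c = true :=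
  scan_add 25600 800 upto31 row32

theorem upto33 : ∀ c < 27200, rowOne c = true :=
  scan_add 26400 800 upto32 row33

theorem upto34 : ∀ c < 28000, rowOne c = true :=
  scan_add 27200 800 upto33 row34

theorem upto35 : ∀ c < 28800, rowOne c = true :=
  scan_add 28000 800 upto34 row35

theorem upto36 : ∀ c < 29600, rowOne c = true :=
  scan_add 28800 800 upto35 row36

theorem upto37 : ∀ c < 30400, rowOne c = true :=
  scan_add 29600 800 upto36 row37

theorem upto38 : ∀ c < 31200, rowOne c = true :=
  scan_add 30400 800 upto37 row38

theorem upto39 : ∀ c < 31671, rowOne c = true :=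
  scan_add 31200 471 upto38 row39

theorem rows_ok : ∀ c < 31671, rowOne c = true := upto39

theorem entries_ok : allOK entryOK listF = true := by decide +kernel

theorem orbit_in : allOK inF orbX = true := by decide +kernel

theorem orbit_pat : ∃ w, (x0, w) ∈ listF ∧ patFrom (unpackF 64 w []) x0 sigBits 1 = true :=
  ⟨(listF.find? fun e => Nat.beq e.1 x0).elim 0 Prod.snd, by decide +kernel, by decide +kernel⟩

theorem y_class : classY y0 = true := by decide +kernel

theorem close_one : closeOne = true := by decide +kernel

theorem close_two : closeTwo = true := by decide +kernel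

theorem levels_ok : allOK (fun m => gensOK m && orbitB m (levelNodes m) [ptG (og m)]) levelsHi = true := by
  decide +kernel

theorem small_words : smallOK pE = true ∧ smallOK gW = true ∧ smallOK kW = true ∧
    allOK (fun k => smallOK (genWord k)) [0, 1, 2, 3, 4, 5, 6, 7, 8, 9] = true ∧
    allOK (fun e : List ℕ × Bool => smallOK e.1) fsPat = true ∧ seqN permList pE 0 = ptE := by decide +kernel

end Cfsg.Agent.InvChar.Coset.Fi23Out
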