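import Cfsg.Agent.InvChar.Coset.Fi23Class
import Cfsg.Agent.InvChar.Coset.Fi23OutCheck

/-!
# The transpositions of the presented group Fi23 as points
-/

set_option autoImplicit false
set_option linter.all false
set_option maxRecDepth 100000

noncomputable section

namespace Cfsg.Agent.InvChar.Coset.Fi23Out

open Cfsg.Agent.CosetCert TreePerm Fi23G

/-- The letters: the generators and the central involution of the point stabiliser. -/
def lw (y : ℕ) : GG := if y = 17 then z else data.gen y

theorem lw_sq (y : ℕ) : lw y * lw y = 1 := by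
  unfold lw
  split
  exacts [z_sq, data.gen_sq y]

def gx (w : List ℕ) : GG := wprod lw w

theorem gx_cons (y : ℕ) (w : List ℕ) : gx (y :: w) = gx w * lw y := rfl

theorem gx_nil : gx [] = 1 := rfl

theorem gx_append : ∀ u w : List ℕ, gx (u ++ w) = gx w * gx u
  | [], w => by rw [List.nil_append, gx_nil, mul_one]
  | y :: u, w => by rw [List.cons_append, gx_cons, gx_cons, gx_append u w, mul_assoc]

theorem gx_reverse (w : List ℕ) : gx w.reverse = (gx w)⁻¹ := wprod_reverse lw lw_sq w

theorem gx_apply : ∀ {w : List ℕ}, letOK w = true → ∀ c : Fin 31671, (φ (gx w) c : ℕ) = seqN permList w c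
  | [], _, c => by rw [gx_nil, map_one]; rfl
  | y :: w, h, c => by
    simp only [letOK, Bool.and_eq_true, Bool.or_eq_true, Nat.blt_eq, Nat.beq_eq] at h
    rw [gx_cons, map_mul, Equiv.Perm.mul_apply, gx_apply h.2, seqN_cons]
    congr 1
    rcases h.1 with hy | hy
    · rw [lw, if_neg (by omega)]
      have := φ_point (w := [y]) (by simpa using hy) c
      rwa [show el [y] = data.gen y from one_mul _] at this
    · subst hy
      rw [lw, if_pos rfl]
      exact φ_z c

theorem letOK_append : ∀ {u w : List ℕ}, letOK u = true → letOK w = true → letOK (u ++ w) = true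
  | [], w, _, hw => hw
  | y :: u, w, hu, hw => by
    simp only [letOK, Bool.and_eq_true, List.cons_append] at hu ⊢
    exact ⟨hu.1, letOK_append hu.2 hw⟩

theorem smallOK_iff : ∀ {w : List ℕ}, smallOK w = true ↔ ∀ y ∈ w, y < 10
  | [] => by simp [smallOK]
  | y :: w => by simp [smallOK, smallOK_iff (w := w), Nat.blt_eq]

theorem letOK_small : ∀ {w : List ℕ}, (∀ y ∈ w, y < 10) → letOK w = true
  | [], _ => rfl
  | y :: w, h => by
    simp only [letOK, Bool.and_eq_true, Bool.or_eq_true, Nat.blt_eq]
    exact ⟨Or.inl (h y List.mem_cons_self), letOK_small fun a ha => h a (List.mem_cons_of_mem _ ha)⟩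

theorem conjW_ok {w : List ℕ} (h : smallOK w = true) : letOK (conjW w) = true := by
  refine letOK_append (letOK_small fun y hy => smallOK_iff.mp h y (List.mem_reverse.mp hy)) ?_
  simp only [letOK, Bool.and_eq_true, Bool.or_eq_true, Nat.beq_eq]
  exact ⟨Or.inr trivial, letOK_small (smallOK_iff.mp h)⟩

/-- An element carrying the first point to a given one. -/
def rp (c : Fin 31671) : GG := Classical.choose (transitive c)

theorem φ_rp (c : Fin 31671) : φ (rp c) base0 = c := Classical.choose_spec (transitive c)

/-- The transposition of a point. -/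
def dd (c : Fin 31671) : GG := rp c * z * (rp c)⁻¹

theorem dd_of {g : GG} {c : Fin 31671} (h : φ g base0 = c) : dd c = g * z * g⁻¹ := by
  have hm : g⁻¹ * rp c ∈ HH := mem_H_iff.mpr (by
    rw [map_mul, Equiv.Perm.mul_apply, φ_rp, map_inv, Equiv.Perm.inv_eq_iff_eq, h])
  calc dd c = g * ((g⁻¹ * rp c) * z * (g⁻¹ * rp c)⁻¹) * g⁻¹ := by rw [dd]; group
    _ = _ := by rw [conj_z hm]

theorem dd_base : dd base0 = z := by
  rw [dd_of (g := 1) (by rw [map_one]; rfl), one_mul, inv_one, mul_one]

theorem conj_dd (g : GG) (c : Fin 31671) : g * dd c * g⁻¹ = dd (φ g c) := by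
  rw [dd_of (g := g * rp c) (c := φ g c) (by rw [map_mul, Equiv.Perm.mul_apply, φ_rp]), dd]
  group

theorem dd_injective : Function.Injective dd := by
  intro c e h
  have hm : (rp c)⁻¹ * rp e ∈ HH := by
    rw [← centralizer_z, Subgroup.mem_centralizer_singleton_iff]
    unfold dd at h
    calc (rp c)⁻¹ * rp e * z = (rp c)⁻¹ * (rp e * z * (rp e)⁻¹) * rp e := by group
      _ = (rp c)⁻¹ * (rp c * z * (rp c)⁻¹) * rp e := by rw [h]
      _ = _ := by group
  have := H_fix0 hm
  rw [map_mul, Equiv.Perm.mul_apply, φ_rp, map_inv, Equiv.Perm.inv_eq_iff_eq, φ_rp] at this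
  exact this.symm

theorem commute_dd_iff {g : GG} {c : Fin 31671} : Commute g (dd c) ↔ φ g c = c := by
  constructor
  · intro h
    refine dd_injective ?_
    rw [← conj_dd, h.eq, mul_inv_cancel_right]
  · intro h
    have := conj_dd g c
    rw [h, mul_inv_eq_iff_eq_mul] at this
    exact this

theorem commute_conj {a b h : GG} : Commute (h * a * h⁻¹) (h * b * h⁻¹) ↔ Commute a b := by
  constructor
  · intro hc
    have := hc.map (MulAut.conj h⁻¹).toMonoidHom
    simpa [MulAut.conj_apply, mul_assoc] using this
  · intro hc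
    simpa [MulAut.conj_apply] using hc.map (MulAut.conj h).toMonoidHom

theorem commute_dd_move (g : GG) (a b : Fin 31671) : Commute (dd (φ g a)) (dd (φ g b)) ↔ Commute (dd a) (dd b) := by
  rw [← conj_dd, ← conj_dd, commute_conj]

/-- The point of a word. -/
def pw (w : List ℕ) : Fin 31671 := φ (gx w) base0

theorem pw_val {w : List ℕ} (h : smallOK w = true) : (pw w : ℕ) = seqN permList w 0 :=
  gx_apply (letOK_small (smallOK_iff.mp h)) base0

theorem dd_pw (w : List ℕ) : dd (pw w) = gx (conjW w) := by
  rw [pw, dd_of (g := gx w) rfl, conjW, gx_append, gx_cons, gx_reverse, lw, if_pos rfl]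

theorem mW_iff {w : List ℕ} (h : smallOK w = true) (c : Fin 31671) :
    mW w c = true ↔ Commute (dd (pw w)) (dd c) := by
  rw [commute_dd_iff, dd_pw, mW, Nat.beq_eq, ← gx_apply (conjW_ok h) c, ← Fin.ext_iff]

theorem genWord_small {k : ℕ} (hk : k < 10) : smallOK (genWord k) = true := by
  revert k
  decide +kernel

theorem ptG_run {k : ℕ} (hk : k < 10) : seqN permList (genWord k) 0 = ptG k := by
  revert k
  decide +kernel

theorem ptG_inj : ∀ a < 10, ∀ b < 10, ptG a = ptG b → a = b := by decide +kernel

theorem ptG_lt {k : ℕ} (hk : k < 10) : ptG k < 31671 := by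
  revert k
  decide +kernel

/-- The point of a generator. -/
def cpt (k : ℕ) : Fin 31671 := if hk : k < 10 then ⟨ptG k, ptG_lt hk⟩ else base0

theorem cpt_val {k : ℕ} (hk : k < 10) : (cpt k : ℕ) = ptG k := by rw [cpt, dif_pos hk]

theorem cpt_eq {k : ℕ} (hk : k < 10) : cpt k = pw (genWord k) :=
  Fin.ext (by rw [cpt_val hk, pw_val (genWord_small hk), ptG_run hk])

theorem φ_gen_val {k : ℕ} (hk : k < 10) (c : Fin 31671) : (φ (data.gen k) c : ℕ) = rd (nthT permList k) c := by
  have := φ_point (w := [k]) (by simpa using hk) c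
  rwa [show el [k] = data.gen k from one_mul _] at this

theorem gen_first : data.gen first = dd (cpt first) := by
  have hf : first < 10 := by decide
  refine φ_injective (Equiv.ext fun c => Fin.ext ?_)
  rw [cpt_eq hf, dd_pw, gx_apply (conjW_ok (genWord_small hf)), φ_gen_val hf]
  have h := rows_ok c c.2
  simp only [rowOne, firstOK, Bool.and_eq_true] at h
  exact (Nat.eq_of_beq_eq_true h.2.2.2.1).symm

theorem gen_step {a b : ℕ} (hw : [b, a, b, a, b, a] ∈ table.C.W) (ha : a < 10) (hb : b < 10)
    (hp : rd (nthT permList a) (rd (nthT permList b) (ptG a)) = ptG b) (h : data.gen a = dd (cpt a)) :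
    data.gen b = dd (cpt b) := by
  have hr := data.gen_rel _ hw
  simp only [wprod, one_mul] at hr
  have e : φ (data.gen a * data.gen b) (cpt a) = cpt b := Fin.ext (by
    rw [map_mul, Equiv.Perm.mul_apply, φ_gen_val ha, φ_gen_val hb, cpt_val ha, cpt_val hb]
    exact hp)
  have hbi := inv_eq_of_mul_eq_one_right (data.gen_sq b)
  have hai := inv_eq_of_mul_eq_one_right (data.gen_sq a)
  rw [← e, ← conj_dd, ← h, mul_inv_rev, hai, hbi]
  calc data.gen b = (data.gen a * data.gen b * data.gen a * data.gen b * data.gen a * data.gen b) * data.gen b := by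
        rw [hr, one_mul]
    _ = data.gen a * data.gen b * data.gen a * (data.gen b * data.gen a) := by
        rw [mul_assoc _ (data.gen b) (data.gen b), data.gen_sq, mul_one]
        group

theorem gen_dd : ∀ {k : ℕ}, k < 10 → data.gen k = dd (cpt k) := by
  have g1 : data.gen 1 = dd (cpt 1) := gen_first
  have g0 := gen_step (a := 1) (b := 0) (by decide +kernel) (by norm_num) (by norm_num) (by decide +kernel) g1
  have g2 := gen_step (a := 1) (b := 2) (by decide +kernel) (by norm_num) (by norm_num) (by decide +kernel) g1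
  have g3 := gen_step (a := 2) (b := 3) (by decide +kernel) (by norm_num) (by norm_num) (by decide +kernel) g2
  have g4 := gen_step (a := 3) (b := 4) (by decide +kernel) (by norm_num) (by norm_num) (by decide +kernel) g3
  have g5 := gen_step (a := 4) (b := 5) (by decide +kernel) (by norm_num) (by norm_num) (by decide +kernel) g4
  have g6 := gen_step (a := 5) (b := 6) (by decide +kernel) (by norm_num) (by norm_num) (by decide +kernel) g5
  have g7 := gen_step (a := 6) (b := 7) (by decide +kernel) (by norm_num) (by norm_num) (by decide +kernel) g6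
  have g8 := gen_step (a := 3) (b := 8) (by decide +kernel) (by norm_num) (by norm_num) (by decide +kernel) g3
  have g9 := gen_step (a := 8) (b := 9) (by decide +kernel) (by norm_num) (by norm_num) (by decide +kernel) g8
  intro k hk
  interval_cases k
  exacts [g0, g1, g2, g3, g4, g5, g6, g7, g8, g9]

theorem center_GG : Subgroup.center GG = ⊥ := by
  haveI := simple
  rcases IsSimpleGroup.eq_bot_or_eq_top_of_normal (Subgroup.center GG) inferInstance with h | h
  · exact h
  · exfalso
    have hH : HH = ⊤ := by
      rw [← centralizer_z, eq_top_iff]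
      intro g _
      rw [Subgroup.mem_centralizer_singleton_iff]
      exact (Subgroup.mem_center_iff.mp (h ▸ Subgroup.mem_top z) g)
    have := index_H
    rw [hH, Subgroup.index_top] at this
    norm_num at this

theorem eq_one_of_fix {v : GG} (h : ∀ k < 10, φ v (cpt k) = cpt k) : v = 1 := by
  have hc : ∀ g ∈ Subgroup.closure (data.gen '' {i | i < table.C.K}), Commute v g := by
    intro g hg
    induction hg using Subgroup.closure_induction with
    | mem y hy =>
      obtain ⟨k, hk, rfl⟩ := hy
      have hk' : k < 10 := K_eq ▸ hk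
      rw [gen_dd hk']
      exact commute_dd_iff.mpr (h k hk')
    | one => exact Commute.one_right v
    | mul a b _ _ ha hb => exact ha.mul_right hb
    | inv a _ ha => exact ha.inv_right
  have hz : v ∈ Subgroup.center GG :=
    Subgroup.mem_center_iff.mpr fun g => ((hc g (data.gen_top ▸ Subgroup.mem_top g)).eq).symm
  rw [center_GG, Subgroup.mem_bot] at hz
  exact hz

end Cfsg.Agent.InvChar.Coset.Fi23Out
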