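import Cfsg.Agent.Lib.CosetCert.Finish

/-!
# Isotropic lines of the hermitian space of dimension six on the rows of a table of Fi22
-/

set_option autoImplicit false
set_option linter.all false

namespace Cfsg.Agent.InvChar.Coset.FiUnit

open Cfsg.Agent.CosetCert

noncomputable def vt0 : Tree :=
  .node 128 (.node 64 (.node 32 (.node 16 (.node 8 (.node 4 (.node 2 (.node 1 (.leaf (nat_lit 0)) (.leaf (nat_lit 0))) (.node 1 (.leaf (nat_lit 0)) (.leaf (nat_lit 0)))) (.node 2 (.node 1 (.leaf (nat_lit 0)) (.leaf (nat_lit 0))) (.node 1 (.leaf (nat_lit 1280)) (.leaf (nat_lit 0))))) (.node 4 (.node 2 (.node 1 (.leaf (nat_lit 0)) (.leaf (nat_lit 0))) (.node 1 (.leaf (nat_lit 3773)) (.leaf (nat_lit 0)))) (.node 2 (.node 1 (.leaf (nat_lit 0)) (.leaf (nat_lit 0))) (.node 1 (.leaf (nat_lit 0)) (.leaf (nat_lit 0)))))) (.node 8 (.node 4 (.node 2 (.node 1 (.leaf (nat_lit 3005))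 (.leaf (nat_lit 3821))) (.node 1 (.leaf (nat_lit 2009)) (.leaf (nat_lit 0)))) (.node 2 (.node 1 (.leaf (nat_lit 0)) (.leaf (nat_lit 0))) (.node 1 (.leaf (nat_lit 0)) (.leaf (nat_lit 0))))) (.node 4 (.node 2 (.node 1 (.leaf (nat_lit 0)) (.leaf (nat_lit 0))) (.node 1 (.leaf (nat_lit 3053)) (.leaf (nat_lit 3545)))) (.node 2 (.node 1 (.leaf (nat_lit 3677)) (.leaf (nat_lit 1913))) (.node 1 (.leaf (nat_lit 2405)) (.leaf (nat_lit 0))))))) (.node 16 (.node 8 (.node 4 (.node 2 (.node 1 (.leaf (nat_lit 0)) (.leaf (nat_lit 0))) (.node 1 (.leaf (nat_lit 0)) (.leaf (nat_lit 0)))) (.node 2 (.node 1 (.leaf (nat_lit 0)) (.leaf (nat_lit 0))) (.node 1 (.leaf (nat_lit 0)) (.leaf (nat_lit 0))))) (.node 4 (.node 2 (.node 1 (.leaf (nat_lit 80)) (.leaf (nat_lit 2909))) (.node 1 (.leaf (nat_lit 3449)) (.leaf (nat_lit 5)))) (.node 2 (.node 1 (.leaf (nat_lit 1637)) (.leaf (nat_lit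 2829))) (.node 1 (.leaf (nat_lit 1961)) (.leaf (nat_lit 4085)))))) (.node 8 (.node 4 (.node 2 (.node 1 (.leaf (nat_lit 2453)) (.leaf (nat_lit 0))) (.node 1 (.leaf (nat_lit 0)) (.leaf (nat_lit 0)))) (.node 2 (.node 1 (.leaf (nat_lit 0)) (.leaf (nat_lit 0))) (.node 1 (.leaf (nat_lit 0)) (.leaf (nat_lit 0))))) (.node 4 (.node 2 (.node 1 (.leaf (nat_lit 0)) (.leaf (nat_lit 0))) (.node 1 (.leaf (nat_lit 0)) (.leaf (nat_lit 1445)))) (.node 2 (.node 1 (.leaf (nat_lit 0)) (.leaf (nat_lit 0))) (.node 1 (.leaf (nat_lit 144)) (.leaf (nat_lit 3597)))))))) (.node 32 (.node 16 (.node 8 (.node 4 (.node 2 (.node 1 (.leaf (nat_lit 3497)) (.leaf (nat_lit 1685))) (.node 1 (.leaf (nat_lit 9)) (.leaf (nat_lit 3337)))) (.node 2 (.node 1 (.leaf (nat_lit 3989)) (.leaf (nat_lit 2549))) (.node 1 (.leaf (nat_lit 2729)) (.leaf (nat_lit 0))))) (.node 4 (.node 2 (.node 1 (.leaf (nat_lit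 0)) (.leaf (nat_lit 0))) (.node 1 (.leaf (nat_lit 0)) (.leaf (nat_lit 0)))) (.node 2 (.node 1 (.leaf (nat_lit 0)) (.leaf (nat_lit 0))) (.node 1 (.leaf (nat_lit 0)) (.leaf (nat_lit 0)))))) (.node 8 (.node 4 (.node 2 (.node 1 (.leaf (nat_lit 0)) (.leaf (nat_lit 1397))) (.node 1 (.leaf (nat_lit 0)) (.leaf (nat_lit 0)))) (.node 2 (.node 1 (.leaf (nat_lit 0)) (.leaf (nat_lit 0))) (.node 1 (.leaf (nat_lit 3929)) (.leaf (nat_lit 0))))) (.node 4 (.node 2 (.node 1 (.leaf (nat_lit 208)) (.leaf (nat_lit 2768))) (.node 1 (.leaf (nat_lit 1801)) (.leaf (nat_lit 1781)))) (.node 2 (.node 1 (.leaf (nat_lit 13)) (.leaf (nat_lit 101))) (.node 1 (.leaf (nat_lit 1541)) (.leaf (nat_lit 3941))))))) (.node 16 (.node 8 (.node 4 (.node 2 (.node 1 (.leaf (nat_lit 2681)) (.leaf (nat_lit 1373))) (.node 1 (.leaf (nat_lit 0)) (.leaf (nat_lit 0)))) (.node 2 (.node 1 (.leaf (nat_lit 0)) (.leaf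 (nat_lit 0))) (.node 1 (.leaf (nat_lit 0)) (.leaf (nat_lit 0))))) (.node 4 (.node 2 (.node 1 (.leaf (nat_lit 0)) (.leaf (nat_lit 0))) (.node 1 (.leaf (nat_lit 4053)) (.leaf (nat_lit 0)))) (.node 2 (.node 1 (.leaf (nat_lit 0)) (.leaf (nat_lit 0))) (.node 1 (.leaf (nat_lit 0)) (.leaf (nat_lit 0)))))) (.node 8 (.node 4 (.node 2 (.node 1 (.leaf (nat_lit 1493)) (.leaf (nat_lit 4073))) (.node 1 (.leaf (nat_lit 0)) (.leaf (nat_lit 0)))) (.node 2 (.node 1 (.leaf (nat_lit 0)) (.leaf (nat_lit 0))) (.node 1 (.leaf (nat_lit 2813)) (.leaf (nat_lit 0))))) (.node 4 (.node 2 (.node 1 (.leaf (nat_lit 3984)) (.leaf (nat_lit 2309))) (.node 1 (.leaf (nat_lit 149)) (.leaf (nat_lit 217)))) (.node 2 (.node 1 (.leaf (nat_lit 2777)) (.leaf (nat_lit 1517))) (.node 1 (.leaf (nat_lit 0)) (.leaf (nat_lit 0))))))))) (.node 64 (.node 32 (.node 16 (.node 8 (.node 4 (.node 2 (.node 1 (.leaf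 (nat_lit 0)) (.leaf (nat_lit 0))) (.node 1 (.leaf (nat_lit 0)) (.leaf (nat_lit 0)))) (.node 2 (.node 1 (.leaf (nat_lit 0)) (.leaf (nat_lit 0))) (.node 1 (.leaf (nat_lit 0)) (.leaf (nat_lit 0))))) (.node 4 (.node 2 (.node 1 (.leaf (nat_lit 3957)) (.leaf (nat_lit 2745))) (.node 1 (.leaf (nat_lit 0)) (.leaf (nat_lit 0)))) (.node 2 (.node 1 (.leaf (nat_lit 0)) (.leaf (nat_lit 0))) (.node 1 (.leaf (nat_lit 0)) (.leaf (nat_lit 0)))))) (.node 8 (.node 4 (.node 2 (.node 1 (.leaf (nat_lit 3073)) (.leaf (nat_lit 4025))) (.node 1 (.leaf (nat_lit 2717)) (.leaf (nat_lit 0)))) (.node 2 (.node 1 (.leaf (nat_lit 0)) (.leaf (nat_lit 0))) (.node 1 (.leaf (nat_lit 0)) (.leaf (nat_lit 0))))) (.node 4 (.node 2 (.node 1 (.leaf (nat_lit 320)) (.leaf (nat_lit 0))) (.node 1 (.leaf (nat_lit 1360)) (.leaf (nat_lit 245)))) (.node 2 (.node 1 (.leaf (nat_lit 121)) (.leaf (nat_lit 189)))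 (.node 1 (.leaf (nat_lit 1469)) (.leaf (nat_lit 0))))))) (.node 16 (.node 8 (.node 4 (.node 2 (.node 1 (.leaf (nat_lit 0)) (.leaf (nat_lit 0))) (.node 1 (.leaf (nat_lit 0)) (.leaf (nat_lit 0)))) (.node 2 (.node 1 (.leaf (nat_lit 0)) (.leaf (nat_lit 0))) (.node 1 (.leaf (nat_lit 0)) (.leaf (nat_lit 0))))) (.node 4 (.node 2 (.node 1 (.leaf (nat_lit 0)) (.leaf (nat_lit 0))) (.node 1 (.leaf (nat_lit 0)) (.leaf (nat_lit 1009)))) (.node 2 (.node 1 (.leaf (nat_lit 4005)) (.leaf (nat_lit 2793))) (.node 1 (.leaf (nat_lit 1389)) (.leaf (nat_lit 0)))))) (.node 8 (.node 4 (.node 2 (.node 1 (.leaf (nat_lit 0)) (.leaf (nat_lit 0))) (.node 1 (.leaf (nat_lit 0)) (.leaf (nat_lit 0)))) (.node 2 (.node 1 (.leaf (nat_lit 0)) (.leaf (nat_lit 0))) (.node 1 (.leaf (nat_lit 0)) (.leaf (nat_lit 769))))) (.node 4 (.node 2 (.node 1 (.leaf (nat_lit 3076)) (.leaf (nat_lit 1028))) (.node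 1 (.leaf (nat_lit 2669)) (.leaf (nat_lit 784)))) (.node 2 (.node 1 (.leaf (nat_lit 0)) (.leaf (nat_lit 0))) (.node 1 (.leaf (nat_lit 0)) (.leaf (nat_lit 0)))))))) (.node 32 (.node 16 (.node 8 (.node 4 (.node 2 (.node 1 (.leaf (nat_lit 0)) (.leaf (nat_lit 1088))) (.node 1 (.leaf (nat_lit 272)) (.leaf (nat_lit 0)))) (.node 2 (.node 1 (.leaf (nat_lit 169)) (.leaf (nat_lit 237))) (.node 1 (.leaf (nat_lit 2304)) (.leaf (nat_lit 0))))) (.node 4 (.node 2 (.node 1 (.leaf (nat_lit 0)) (.leaf (nat_lit 0))) (.node 1 (.leaf (nat_lit 0)) (.leaf (nat_lit 0)))) (.node 2 (.node 1 (.leaf (nat_lit 0)) (.leaf (nat_lit 0))) (.node 1 (.leaf (nat_lit 0)) (.leaf (nat_lit 0)))))) (.node 8 (.node 4 (.node 2 (.node 1 (.leaf (nat_lit 0)) (.leaf (nat_lit 0))) (.node 1 (.leaf (nat_lit 0)) (.leaf (nat_lit 0)))) (.node 2 (.node 1 (.leaf (nat_lit 0)) (.leaf (nat_lit 3313))) (.node 1 (.leaf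 (nat_lit 913)) (.leaf (nat_lit 1012))))) (.node 4 (.node 2 (.node 1 (.leaf (nat_lit 340)) (.leaf (nat_lit 2649))) (.node 1 (.leaf (nat_lit 1437)) (.leaf (nat_lit 3792)))) (.node 2 (.node 1 (.leaf (nat_lit 0)) (.leaf (nat_lit 0))) (.node 1 (.leaf (nat_lit 0)) (.leaf (nat_lit 0))))))) (.node 16 (.node 8 (.node 4 (.node 2 (.node 1 (.leaf (nat_lit 0)) (.leaf (nat_lit 0))) (.node 1 (.leaf (nat_lit 0)) (.leaf (nat_lit 0)))) (.node 2 (.node 1 (.leaf (nat_lit 0)) (.leaf (nat_lit 0))) (.node 1 (.leaf (nat_lit 772)) (.leaf (nat_lit 260))))) (.node 4 (.node 2 (.node 1 (.leaf (nat_lit 2049)) (.leaf (nat_lit 1025))) (.node 1 (.leaf (nat_lit 2525)) (.leaf (nat_lit 3088)))) (.node 2 (.node 1 (.leaf (nat_lit 832)) (.leaf (nat_lit 0))) (.node 1 (.leaf (nat_lit 0)) (.leaf (nat_lit 0)))))) (.node 8 (.node 4 (.node 2 (.node 1 (.leaf (nat_lit 0)) (.leaf (nat_lit 0))) (.node 1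 (.leaf (nat_lit 0)) (.leaf (nat_lit 1040)))) (.node 2 (.node 1 (.leaf (nat_lit 576)) (.leaf (nat_lit 0))) (.node 1 (.leaf (nat_lit 93)) (.leaf (nat_lit 2896))))) (.node 4 (.node 2 (.node 1 (.leaf (nat_lit 3328)) (.leaf (nat_lit 0))) (.node 1 (.leaf (nat_lit 0)) (.leaf (nat_lit 0)))) (.node 2 (.node 1 (.leaf (nat_lit 0)) (.leaf (nat_lit 0))) (.node 1 (.leaf (nat_lit 0)) (.leaf (nat_lit 0)))))))))

noncomputable def vt1 : Tree :=
  .node 128 (.node 64 (.node 32 (.node 16 (.node 8 (.node 4 (.node 2 (.node 1 (.leaf (nat_lit 0)) (.leaf (nat_lit 0))) (.node 1 (.leaf (nat_lit 0)) (.leaf (nat_lit 0)))) (.node 2 (.node 1 (.leaf (nat_lit 0)) (.leaf (nat_lit 0))) (.node 1 (.leaf (nat_lit 0)) (.leaf (nat_lit 0))))) (.node 4 (.node 2 (.node 1 (.leaf (nat_lit 0)) (.leaf (nat_lit 0))) (.node 1 (.leaf (nat_lit 3217)) (.leaf (nat_lit 3316)))) (.node 2 (.node 1 (.leaf (nat_lit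 1108)) (.leaf (nat_lit 865))) (.node 1 (.leaf (nat_lit 916)) (.leaf (nat_lit 484)))))) (.node 8 (.node 4 (.node 2 (.node 1 (.leaf (nat_lit 673)) (.leaf (nat_lit 337))) (.node 1 (.leaf (nat_lit 1533)) (.leaf (nat_lit 3213)))) (.node 2 (.node 1 (.leaf (nat_lit 3024)) (.leaf (nat_lit 1936))) (.node 1 (.leaf (nat_lit 0)) (.leaf (nat_lit 0))))) (.node 4 (.node 2 (.node 1 (.leaf (nat_lit 0)) (.leaf (nat_lit 0))) (.node 1 (.leaf (nat_lit 0)) (.leaf (nat_lit 0)))) (.node 2 (.node 1 (.leaf (nat_lit 0)) (.leaf (nat_lit 0))) (.node 1 (.leaf (nat_lit 0)) (.leaf (nat_lit 0))))))) (.node 16 (.node 8 (.node 4 (.node 2 (.node 1 (.leaf (nat_lit 0)) (.leaf (nat_lit 0))) (.node 1 (.leaf (nat_lit 0)) (.leaf (nat_lit 2741)))) (.node 2 (.node 1 (.leaf (nat_lit 513)) (.leaf (nat_lit 257))) (.node 1 (.leaf (nat_lit 2052)) (.leaf (nat_lit 3689))))) (.node 4 (.node 2 (.node 1 (.leaf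 (nat_lit 1757)) (.leaf (nat_lit 2429))) (.node 1 (.leaf (nat_lit 3136)) (.leaf (nat_lit 528)))) (.node 2 (.node 1 (.leaf (nat_lit 0)) (.leaf (nat_lit 0))) (.node 1 (.leaf (nat_lit 0)) (.leaf (nat_lit 0)))))) (.node 8 (.node 4 (.node 2 (.node 1 (.leaf (nat_lit 0)) (.leaf (nat_lit 0))) (.node 1 (.leaf (nat_lit 0)) (.leaf (nat_lit 0)))) (.node 2 (.node 1 (.leaf (nat_lit 4013)) (.leaf (nat_lit 2112))) (.node 1 (.leaf (nat_lit 1744)) (.leaf (nat_lit 1680))))) (.node 4 (.node 2 (.node 1 (.leaf (nat_lit 3664)) (.leaf (nat_lit 0))) (.node 1 (.leaf (nat_lit 0)) (.leaf (nat_lit 0)))) (.node 2 (.node 1 (.leaf (nat_lit 0)) (.leaf (nat_lit 0))) (.node 1 (.leaf (nat_lit 0)) (.leaf (nat_lit 0)))))))) (.node 32 (.node 16 (.node 8 (.node 4 (.node 2 (.node 1 (.leaf (nat_lit 0)) (.leaf (nat_lit 0))) (.node 1 (.leaf (nat_lit 0)) (.leaf (nat_lit 0)))) (.node 2 (.node 1 (.leaf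 (nat_lit 0)) (.leaf (nat_lit 0))) (.node 1 (.leaf (nat_lit 0)) (.leaf (nat_lit 0))))) (.node 4 (.node 2 (.node 1 (.leaf (nat_lit 0)) (.leaf (nat_lit 0))) (.node 1 (.leaf (nat_lit 0)) (.leaf (nat_lit 0)))) (.node 2 (.node 1 (.leaf (nat_lit 0)) (.leaf (nat_lit 0))) (.node 1 (.leaf (nat_lit 0)) (.leaf (nat_lit 3169)))))) (.node 8 (.node 4 (.node 2 (.node 1 (.leaf (nat_lit 3220)) (.leaf (nat_lit 1252))) (.node 1 (.leaf (nat_lit 4069)) (.leaf (nat_lit 2209)))) (.node 2 (.node 1 (.leaf (nat_lit 1105)) (.leaf (nat_lit 868))) (.node 1 (.leaf (nat_lit 436)) (.leaf (nat_lit 625))))) (.node 4 (.node 2 (.node 1 (.leaf (nat_lit 481)) (.leaf (nat_lit 676))) (.node 1 (.leaf (nat_lit 1225)) (.leaf (nat_lit 3133)))) (.node 2 (.node 1 (.leaf (nat_lit 909)) (.leaf (nat_lit 3117))) (.node 1 (.leaf (nat_lit 3472)) (.leaf (nat_lit 2384))))))) (.node 16 (.node 8 (.node 4 (.node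 2 (.node 1 (.leaf (nat_lit 0)) (.leaf (nat_lit 0))) (.node 1 (.leaf (nat_lit 0)) (.leaf (nat_lit 0)))) (.node 2 (.node 1 (.leaf (nat_lit 0)) (.leaf (nat_lit 0))) (.node 1 (.leaf (nat_lit 0)) (.leaf (nat_lit 0))))) (.node 4 (.node 2 (.node 1 (.leaf (nat_lit 0)) (.leaf (nat_lit 0))) (.node 1 (.leaf (nat_lit 0)) (.leaf (nat_lit 0)))) (.node 2 (.node 1 (.leaf (nat_lit 0)) (.leaf (nat_lit 0))) (.node 1 (.leaf (nat_lit 0)) (.leaf (nat_lit 0)))))) (.node 8 (.node 4 (.node 2 (.node 1 (.leaf (nat_lit 0)) (.leaf (nat_lit 2789))) (.node 1 (.leaf (nat_lit 1385)) (.leaf (nat_lit 516)))) (.node 2 (.node 1 (.leaf (nat_lit 3797)) (.leaf (nat_lit 1973))) (.node 1 (.leaf (nat_lit 2921)) (.leaf (nat_lit 3737))))) (.node 4 (.node 2 (.node 1 (.leaf (nat_lit 0)) (.leaf (nat_lit 1661))) (.node 1 (.leaf (nat_lit 2477)) (.leaf (nat_lit 2045)))) (.node 2 (.node 1 (.leaf (nat_lit 2064))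 (.leaf (nat_lit 2960))) (.node 1 (.leaf (nat_lit 0)) (.leaf (nat_lit 0))))))))) (.node 64 (.node 32 (.node 16 (.node 8 (.node 4 (.node 2 (.node 1 (.leaf (nat_lit 0)) (.leaf (nat_lit 0))) (.node 1 (.leaf (nat_lit 0)) (.leaf (nat_lit 0)))) (.node 2 (.node 1 (.leaf (nat_lit 0)) (.leaf (nat_lit 0))) (.node 1 (.leaf (nat_lit 0)) (.leaf (nat_lit 3965))))) (.node 4 (.node 2 (.node 1 (.leaf (nat_lit 1529)) (.leaf (nat_lit 2512))) (.node 1 (.leaf (nat_lit 2448)) (.leaf (nat_lit 3536)))) (.node 2 (.node 1 (.leaf (nat_lit 0)) (.leaf (nat_lit 0))) (.node 1 (.leaf (nat_lit 0)) (.leaf (nat_lit 0)))))) (.node 8 (.node 4 (.node 2 (.node 1 (.leaf (nat_lit 0)) (.leaf (nat_lit 0))) (.node 1 (.leaf (nat_lit 0)) (.leaf (nat_lit 0)))) (.node 2 (.node 1 (.leaf (nat_lit 0)) (.leaf (nat_lit 0))) (.node 1 (.leaf (nat_lit 0)) (.leaf (nat_lit 0))))) (.node 4 (.node 2 (.node 1 (.leaf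 (nat_lit 0)) (.leaf (nat_lit 0))) (.node 1 (.leaf (nat_lit 0)) (.leaf (nat_lit 0)))) (.node 2 (.node 1 (.leaf (nat_lit 0)) (.leaf (nat_lit 0))) (.node 1 (.leaf (nat_lit 0)) (.leaf (nat_lit 0))))))) (.node 16 (.node 8 (.node 4 (.node 2 (.node 1 (.leaf (nat_lit 0)) (.leaf (nat_lit 0))) (.node 1 (.leaf (nat_lit 0)) (.leaf (nat_lit 0)))) (.node 2 (.node 1 (.leaf (nat_lit 0)) (.leaf (nat_lit 0))) (.node 1 (.leaf (nat_lit 0)) (.leaf (nat_lit 0))))) (.node 4 (.node 2 (.node 1 (.leaf (nat_lit 1285)) (.leaf (nat_lit 3172))) (.node 1 (.leaf (nat_lit 1204)) (.leaf (nat_lit 3925)))) (.node 2 (.node 1 (.leaf (nat_lit 2161)) (.leaf (nat_lit 1249))) (.node 1 (.leaf (nat_lit 4021)) (.leaf (nat_lit 2713)))))) (.node 8 (.node 4 (.node 2 (.node 1 (.leaf (nat_lit 2212)) (.leaf (nat_lit 293))) (.node 1 (.leaf (nat_lit 2565)) (.leaf (nat_lit 721)))) (.node 2 (.node 1 (.leaf (nat_lit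 433)) (.leaf (nat_lit 628))) (.node 1 (.leaf (nat_lit 1049)) (.leaf (nat_lit 2117))))) (.node 4 (.node 2 (.node 1 (.leaf (nat_lit 457)) (.leaf (nat_lit 1081))) (.node 1 (.leaf (nat_lit 829)) (.leaf (nat_lit 3277)))) (.node 2 (.node 1 (.leaf (nat_lit 0)) (.leaf (nat_lit 813))) (.node 1 (.leaf (nat_lit 3149)) (.leaf (nat_lit 3421)))))))) (.node 32 (.node 16 (.node 8 (.node 4 (.node 2 (.node 1 (.leaf (nat_lit 1616)) (.leaf (nat_lit 3408))) (.node 1 (.leaf (nat_lit 0)) (.leaf (nat_lit 0)))) (.node 2 (.node 1 (.leaf (nat_lit 0)) (.leaf (nat_lit 0))) (.node 1 (.leaf (nat_lit 0)) (.leaf (nat_lit 0))))) (.node 4 (.node 2 (.node 1 (.leaf (nat_lit 0)) (.leaf (nat_lit 0))) (.node 1 (.leaf (nat_lit 0)) (.leaf (nat_lit 0)))) (.node 2 (.node 1 (.leaf (nat_lit 0)) (.leaf (nat_lit 0))) (.node 1 (.leaf (nat_lit 0)) (.leaf (nat_lit 0)))))) (.node 8 (.node 4 (.node 2 (.node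 1 (.leaf (nat_lit 0)) (.leaf (nat_lit 0))) (.node 1 (.leaf (nat_lit 0)) (.leaf (nat_lit 0)))) (.node 2 (.node 1 (.leaf (nat_lit 0)) (.leaf (nat_lit 0))) (.node 1 (.leaf (nat_lit 0)) (.leaf (nat_lit 0))))) (.node 4 (.node 2 (.node 1 (.leaf (nat_lit 2645)) (.leaf (nat_lit 1433))) (.node 1 (.leaf (nat_lit 4061)) (.leaf (nat_lit 2489)))) (.node 2 (.node 1 (.leaf (nat_lit 3029)) (.leaf (nat_lit 3701))) (.node 1 (.leaf (nat_lit 3509)) (.leaf (nat_lit 2021))))))) (.node 16 (.node 8 (.node 4 (.node 2 (.node 1 (.leaf (nat_lit 0)) (.leaf (nat_lit 2969))) (.node 1 (.leaf (nat_lit 3833)) (.leaf (nat_lit 0)))) (.node 2 (.node 1 (.leaf (nat_lit 0)) (.leaf (nat_lit 3581))) (.node 1 (.leaf (nat_lit 1709)) (.leaf (nat_lit 1629))))) (.node 4 (.node 2 (.node 1 (.leaf (nat_lit 1949)) (.leaf (nat_lit 2393))) (.node 1 (.leaf (nat_lit 3728)) (.leaf (nat_lit 0)))) (.node 2 (.node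 1 (.leaf (nat_lit 0)) (.leaf (nat_lit 0))) (.node 1 (.leaf (nat_lit 0)) (.leaf (nat_lit 0)))))) (.node 8 (.node 4 (.node 2 (.node 1 (.leaf (nat_lit 0)) (.leaf (nat_lit 0))) (.node 1 (.leaf (nat_lit 0)) (.leaf (nat_lit 0)))) (.node 2 (.node 1 (.leaf (nat_lit 0)) (.leaf (nat_lit 0))) (.node 1 (.leaf (nat_lit 1501)) (.leaf (nat_lit 0))))) (.node 4 (.node 2 (.node 1 (.leaf (nat_lit 2000)) (.leaf (nat_lit 0))) (.node 1 (.leaf (nat_lit 0)) (.leaf (nat_lit 0)))) (.node 2 (.node 1 (.leaf (nat_lit 0)) (.leaf (nat_lit 0))) (.node 1 (.leaf (nat_lit 0)) (.leaf (nat_lit 0)))))))))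

noncomputable def vt2 : Tree :=
  .node 128 (.node 64 (.node 32 (.node 16 (.node 8 (.node 4 (.node 2 (.node 1 (.leaf (nat_lit 0)) (.leaf (nat_lit 0))) (.node 1 (.leaf (nat_lit 0)) (.leaf (nat_lit 0)))) (.node 2 (.node 1 (.leaf (nat_lit 0)) (.leaf (nat_lit 0))) (.node 1 (.leaf (nat_lit 0)) (.leaf (nat_lit 0))))) (.node 4 (.node 2 (.node 1 (.leaf (nat_lit 0)) (.leaf (nat_lit 0))) (.node 1 (.leaf (nat_lit 0)) (.leaf (nat_lit 0)))) (.node 2 (.node 1 (.leaf (nat_lit 0)) (.leaf (nat_lit 0))) (.node 1 (.leaf (nat_lit 0)) (.leaf (nat_lit 0)))))) (.node 8 (.node 4 (.node 2 (.node 1 (.leaf (nat_lit 0)) (.leaf (nat_lit 0))) (.node 1 (.leaf (nat_lit 0)) (.leaf (nat_lit 0)))) (.node 2 (.node 1 (.leaf (nat_lit 0)) (.leaf (nat_lit 0))) (.node 1 (.leaf (nat_lit 0)) (.leaf (nat_lit 0))))) (.node 4 (.node 2 (.node 1 (.leaf (nat_lit 0)) (.leaf (nat_lit 0))) (.node 1 (.leaf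 (nat_lit 0)) (.leaf (nat_lit 3849)))) (.node 2 (.node 1 (.leaf (nat_lit 2257)) (.leaf (nat_lit 1201))) (.node 1 (.leaf (nat_lit 2809)) (.leaf (nat_lit 2164))))))) (.node 16 (.node 8 (.node 4 (.node 2 (.node 1 (.leaf (nat_lit 325)) (.leaf (nat_lit 2665))) (.node 1 (.leaf (nat_lit 1405)) (.leaf (nat_lit 793)))) (.node 2 (.node 1 (.leaf (nat_lit 1061)) (.leaf (nat_lit 389))) (.node 1 (.leaf (nat_lit 1289)) (.leaf (nat_lit 724))))) (.node 4 (.node 2 (.node 1 (.leaf (nat_lit 3765)) (.leaf (nat_lit 2085))) (.node 1 (.leaf (nat_lit 281)) (.leaf (nat_lit 1097)))) (.node 2 (.node 1 (.leaf (nat_lit 581)) (.leaf (nat_lit 2069))) (.node 1 (.leaf (nat_lit 0)) (.leaf (nat_lit 313)))))) (.node 8 (.node 4 (.node 2 (.node 1 (.leaf (nat_lit 1161)) (.leaf (nat_lit 0))) (.node 1 (.leaf (nat_lit 973)) (.leaf (nat_lit 3101)))) (.node 2 (.node 1 (.leaf (nat_lit 0)) (.leaf (nat_lit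 0))) (.node 1 (.leaf (nat_lit 1885)) (.leaf (nat_lit 845))))) (.node 4 (.node 2 (.node 1 (.leaf (nat_lit 1773)) (.leaf (nat_lit 3565))) (.node 1 (.leaf (nat_lit 1705)) (.leaf (nat_lit 1872)))) (.node 2 (.node 1 (.leaf (nat_lit 0)) (.leaf (nat_lit 0))) (.node 1 (.leaf (nat_lit 0)) (.leaf (nat_lit 0)))))))) (.node 32 (.node 16 (.node 8 (.node 4 (.node 2 (.node 1 (.leaf (nat_lit 0)) (.leaf (nat_lit 0))) (.node 1 (.leaf (nat_lit 0)) (.leaf (nat_lit 0)))) (.node 2 (.node 1 (.leaf (nat_lit 0)) (.leaf (nat_lit 0))) (.node 1 (.leaf (nat_lit 0)) (.leaf (nat_lit 0))))) (.node 4 (.node 2 (.node 1 (.leaf (nat_lit 0)) (.leaf (nat_lit 0))) (.node 1 (.leaf (nat_lit 0)) (.leaf (nat_lit 0)))) (.node 2 (.node 1 (.leaf (nat_lit 0)) (.leaf (nat_lit 0))) (.node 1 (.leaf (nat_lit 0)) (.leaf (nat_lit 0)))))) (.node 8 (.node 4 (.node 2 (.node 1 (.leaf (nat_lit 0)) (.leaf (nat_lit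 0))) (.node 1 (.leaf (nat_lit 0)) (.leaf (nat_lit 0)))) (.node 2 (.node 1 (.leaf (nat_lit 0)) (.leaf (nat_lit 0))) (.node 1 (.leaf (nat_lit 0)) (.leaf (nat_lit 0))))) (.node 4 (.node 2 (.node 1 (.leaf (nat_lit 0)) (.leaf (nat_lit 1901))) (.node 1 (.leaf (nat_lit 1721)) (.leaf (nat_lit 2537)))) (.node 2 (.node 1 (.leaf (nat_lit 0)) (.leaf (nat_lit 2933))) (.node 1 (.leaf (nat_lit 3749)) (.leaf (nat_lit 0))))))) (.node 16 (.node 8 (.node 4 (.node 2 (.node 1 (.leaf (nat_lit 3557)) (.leaf (nat_lit 1877))) (.node 1 (.leaf (nat_lit 0)) (.leaf (nat_lit 0)))) (.node 2 (.node 1 (.leaf (nat_lit 36)) (.leaf (nat_lit 3065))) (.node 1 (.leaf (nat_lit 2985)) (.leaf (nat_lit 0))))) (.node 4 (.node 2 (.node 1 (.leaf (nat_lit 0)) (.leaf (nat_lit 0))) (.node 1 (.leaf (nat_lit 3485)) (.leaf (nat_lit 1625)))) (.node 2 (.node 1 (.leaf (nat_lit 2397)) (.leaf (nat_lit 717))) (.node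 1 (.leaf (nat_lit 0)) (.leaf (nat_lit 0)))))) (.node 8 (.node 4 (.node 2 (.node 1 (.leaf (nat_lit 0)) (.leaf (nat_lit 0))) (.node 1 (.leaf (nat_lit 0)) (.leaf (nat_lit 0)))) (.node 2 (.node 1 (.leaf (nat_lit 0)) (.leaf (nat_lit 0))) (.node 1 (.leaf (nat_lit 0)) (.leaf (nat_lit 0))))) (.node 4 (.node 2 (.node 1 (.leaf (nat_lit 0)) (.leaf (nat_lit 0))) (.node 1 (.leaf (nat_lit 0)) (.leaf (nat_lit 0)))) (.node 2 (.node 1 (.leaf (nat_lit 1293)) (.leaf (nat_lit 3845))) (.node 1 (.leaf (nat_lit 0)) (.leaf (nat_lit 0))))))))) (.node 64 (.node 32 (.node 16 (.node 8 (.node 4 (.node 2 (.node 1 (.leaf (nat_lit 0)) (.leaf (nat_lit 0))) (.node 1 (.leaf (nat_lit 0)) (.leaf (nat_lit 0)))) (.node 2 (.node 1 (.leaf (nat_lit 0)) (.leaf (nat_lit 0))) (.node 1 (.leaf (nat_lit 0)) (.leaf (nat_lit 0))))) (.node 4 (.node 2 (.node 1 (.leaf (nat_lit 0)) (.leaf (nat_lit 0))) (.node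 1 (.leaf (nat_lit 0)) (.leaf (nat_lit 0)))) (.node 2 (.node 1 (.leaf (nat_lit 0)) (.leaf (nat_lit 0))) (.node 1 (.leaf (nat_lit 0)) (.leaf (nat_lit 0)))))) (.node 8 (.node 4 (.node 2 (.node 1 (.leaf (nat_lit 0)) (.leaf (nat_lit 0))) (.node 1 (.leaf (nat_lit 0)) (.leaf (nat_lit 0)))) (.node 2 (.node 1 (.leaf (nat_lit 0)) (.leaf (nat_lit 0))) (.node 1 (.leaf (nat_lit 0)) (.leaf (nat_lit 0))))) (.node 4 (.node 2 (.node 1 (.leaf (nat_lit 0)) (.leaf (nat_lit 0))) (.node 1 (.leaf (nat_lit 0)) (.leaf (nat_lit 0)))) (.node 2 (.node 1 (.leaf (nat_lit 0)) (.leaf (nat_lit 0))) (.node 1 (.leaf (nat_lit 0)) (.leaf (nat_lit 0))))))) (.node 16 (.node 8 (.node 4 (.node 2 (.node 1 (.leaf (nat_lit 0)) (.leaf (nat_lit 0))) (.node 1 (.leaf (nat_lit 0)) (.leaf (nat_lit 0)))) (.node 2 (.node 1 (.leaf (nat_lit 2573)) (.leaf (nat_lit 2260))) (.node 1 (.leaf (nat_lit 3769)) (.leaf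 (nat_lit 1453))))) (.node 4 (.node 2 (.node 1 (.leaf (nat_lit 969)) (.leaf (nat_lit 1093))) (.node 1 (.leaf (nat_lit 277)) (.leaf (nat_lit 573)))) (.node 2 (.node 1 (.leaf (nat_lit 3097)) (.leaf (nat_lit 841))) (.node 1 (.leaf (nat_lit 0)) (.leaf (nat_lit 1157)))))) (.node 8 (.node 4 (.node 2 (.node 1 (.leaf (nat_lit 309)) (.leaf (nat_lit 3853))) (.node 1 (.leaf (nat_lit 2409)) (.leaf (nat_lit 2997)))) (.node 2 (.node 1 (.leaf (nat_lit 3813)) (.leaf (nat_lit 549))) (.node 1 (.leaf (nat_lit 2181)) (.leaf (nat_lit 0))))) (.node 4 (.node 2 (.node 1 (.leaf (nat_lit 329)) (.leaf (nat_lit 1065))) (.node 1 (.leaf (nat_lit 0)) (.leaf (nat_lit 533)))) (.node 2 (.node 1 (.leaf (nat_lit 2245)) (.leaf (nat_lit 0))) (.node 1 (.leaf (nat_lit 0)) (.leaf (nat_lit 2692)))))))) (.node 32 (.node 16 (.node 8 (.node 4 (.node 2 (.node 1 (.leaf (nat_lit 393)) (.leaf (nat_lit 2937)))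 (.node 1 (.leaf (nat_lit 0)) (.leaf (nat_lit 0)))) (.node 2 (.node 1 (.leaf (nat_lit 3933)) (.leaf (nat_lit 797))) (.node 1 (.leaf (nat_lit 1725)) (.leaf (nat_lit 0))))) (.node 4 (.node 2 (.node 1 (.leaf (nat_lit 0)) (.leaf (nat_lit 0))) (.node 1 (.leaf (nat_lit 2029)) (.leaf (nat_lit 2473)))) (.node 2 (.node 1 (.leaf (nat_lit 2541)) (.leaf (nat_lit 3517))) (.node 1 (.leaf (nat_lit 541)) (.leaf (nat_lit 1657)))))) (.node 8 (.node 4 (.node 2 (.node 1 (.leaf (nat_lit 3061)) (.leaf (nat_lit 0))) (.node 1 (.leaf (nat_lit 0)) (.leaf (nat_lit 0)))) (.node 2 (.node 1 (.leaf (nat_lit 0)) (.leaf (nat_lit 0))) (.node 1 (.leaf (nat_lit 0)) (.leaf (nat_lit 0))))) (.node 4 (.node 2 (.node 1 (.leaf (nat_lit 0)) (.leaf (nat_lit 0))) (.node 1 (.leaf (nat_lit 0)) (.leaf (nat_lit 0)))) (.node 2 (.node 1 (.leaf (nat_lit 0)) (.leaf (nat_lit 0))) (.node 1 (.leaf (nat_lit 0)) (.leaf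 (nat_lit 0))))))) (.node 16 (.node 8 (.node 4 (.node 2 (.node 1 (.leaf (nat_lit 0)) (.leaf (nat_lit 0))) (.node 1 (.leaf (nat_lit 0)) (.leaf (nat_lit 0)))) (.node 2 (.node 1 (.leaf (nat_lit 0)) (.leaf (nat_lit 0))) (.node 1 (.leaf (nat_lit 0)) (.leaf (nat_lit 0))))) (.node 4 (.node 2 (.node 1 (.leaf (nat_lit 0)) (.leaf (nat_lit 0))) (.node 1 (.leaf (nat_lit 0)) (.leaf (nat_lit 0)))) (.node 2 (.node 1 (.leaf (nat_lit 0)) (.leaf (nat_lit 0))) (.node 1 (.leaf (nat_lit 0)) (.leaf (nat_lit 0)))))) (.node 8 (.node 4 (.node 2 (.node 1 (.leaf (nat_lit 0)) (.leaf (nat_lit 0))) (.node 1 (.leaf (nat_lit 0)) (.leaf (nat_lit 0)))) (.node 2 (.node 1 (.leaf (nat_lit 0)) (.leaf (nat_lit 0))) (.node 1 (.leaf (nat_lit 3437)) (.leaf (nat_lit 0))))) (.node 4 (.node 2 (.node 1 (.leaf (nat_lit 1769)) (.leaf (nat_lit 0))) (.node 1 (.leaf (nat_lit 0)) (.leaf (nat_lit 132)))) (.node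 2 (.node 1 (.leaf (nat_lit 2981)) (.leaf (nat_lit 0))) (.node 1 (.leaf (nat_lit 0)) (.leaf (nat_lit 17)))))))))

noncomputable def vt3 : Tree :=
  .node 128 (.node 64 (.node 32 (.node 16 (.node 8 (.node 4 (.node 2 (.node 1 (.leaf (nat_lit 3413)) (.leaf (nat_lit 3573))) (.node 1 (.leaf (nat_lit 0)) (.leaf (nat_lit 0)))) (.node 2 (.node 1 (.leaf (nat_lit 0)) (.leaf (nat_lit 68))) (.node 1 (.leaf (nat_lit 33)) (.leaf (nat_lit 3753))))) (.node 4 (.node 2 (.node 1 (.leaf (nat_lit 0)) (.leaf (nat_lit 0))) (.node 1 (.leaf (nat_lit 0)) (.leaf (nat_lit 0)))) (.node 2 (.node 1 (.leaf (nat_lit 0)) (.leaf (nat_lit 2253))) (.node 1 (.leaf (nat_lit 0)) (.leaf (nat_lit 0)))))) (.node 8 (.node 4 (.node 2 (.node 1 (.leaf (nat_lit 0)) (.leaf (nat_lit 0))) (.node 1 (.leaf (nat_lit 0)) (.leaf (nat_lit 0)))) (.node 2 (.node 1 (.leaf (nat_lit 0)) (.leaf (nat_lit 0))) (.node 1 (.leaf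 (nat_lit 0)) (.leaf (nat_lit 0))))) (.node 4 (.node 2 (.node 1 (.leaf (nat_lit 2569)) (.leaf (nat_lit 0))) (.node 1 (.leaf (nat_lit 0)) (.leaf (nat_lit 0)))) (.node 2 (.node 1 (.leaf (nat_lit 0)) (.leaf (nat_lit 0))) (.node 1 (.leaf (nat_lit 0)) (.leaf (nat_lit 0))))))) (.node 16 (.node 8 (.node 4 (.node 2 (.node 1 (.leaf (nat_lit 0)) (.leaf (nat_lit 0))) (.node 1 (.leaf (nat_lit 0)) (.leaf (nat_lit 0)))) (.node 2 (.node 1 (.leaf (nat_lit 0)) (.leaf (nat_lit 0))) (.node 1 (.leaf (nat_lit 0)) (.leaf (nat_lit 0))))) (.node 4 (.node 2 (.node 1 (.leaf (nat_lit 0)) (.leaf (nat_lit 0))) (.node 1 (.leaf (nat_lit 0)) (.leaf (nat_lit 0)))) (.node 2 (.node 1 (.leaf (nat_lit 0)) (.leaf (nat_lit 0))) (.node 1 (.leaf (nat_lit 0)) (.leaf (nat_lit 0)))))) (.node 8 (.node 4 (.node 2 (.node 1 (.leaf (nat_lit 0)) (.leaf (nat_lit 0))) (.node 1 (.leaf (nat_lit 0)) (.leaf (nat_lit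 0)))) (.node 2 (.node 1 (.leaf (nat_lit 0)) (.leaf (nat_lit 0))) (.node 1 (.leaf (nat_lit 0)) (.leaf (nat_lit 0))))) (.node 4 (.node 2 (.node 1 (.leaf (nat_lit 0)) (.leaf (nat_lit 0))) (.node 1 (.leaf (nat_lit 0)) (.leaf (nat_lit 2413)))) (.node 2 (.node 1 (.leaf (nat_lit 2005)) (.leaf (nat_lit 3001))) (.node 1 (.leaf (nat_lit 3817)) (.leaf (nat_lit 653)))))))) (.node 32 (.node 16 (.node 8 (.node 4 (.node 2 (.node 1 (.leaf (nat_lit 3273)) (.leaf (nat_lit 825))) (.node 1 (.leaf (nat_lit 0)) (.leaf (nat_lit 1045)))) (.node 2 (.node 1 (.leaf (nat_lit 453)) (.leaf (nat_lit 2109))) (.node 1 (.leaf (nat_lit 0)) (.leaf (nat_lit 3145))))) (.node 4 (.node 2 (.node 1 (.leaf (nat_lit 809)) (.leaf (nat_lit 0))) (.node 1 (.leaf (nat_lit 0)) (.leaf (nat_lit 2596)))) (.node 2 (.node 1 (.leaf (nat_lit 1077)) (.leaf (nat_lit 2965))) (.node 1 (.leaf (nat_lit 2013)) (.leaf (nat_lit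 1641)))))) (.node 8 (.node 4 (.node 2 (.node 1 (.leaf (nat_lit 2457)) (.leaf (nat_lit 0))) (.node 1 (.leaf (nat_lit 3045)) (.leaf (nat_lit 3669)))) (.node 2 (.node 1 (.leaf (nat_lit 0)) (.leaf (nat_lit 645))) (.node 1 (.leaf (nat_lit 2101)) (.leaf (nat_lit 0))))) (.node 4 (.node 2 (.node 1 (.leaf (nat_lit 0)) (.leaf (nat_lit 3601))) (.node 1 (.leaf (nat_lit 297)) (.leaf (nat_lit 3033)))) (.node 2 (.node 1 (.leaf (nat_lit 0)) (.leaf (nat_lit 0))) (.node 1 (.leaf (nat_lit 1345)) (.leaf (nat_lit 709))))))) (.node 16 (.node 8 (.node 4 (.node 2 (.node 1 (.leaf (nat_lit 3477)) (.leaf (nat_lit 0))) (.node 1 (.leaf (nat_lit 0)) (.leaf (nat_lit 0)))) (.node 2 (.node 1 (.leaf (nat_lit 2612)) (.leaf (nat_lit 2689))) (.node 1 (.leaf (nat_lit 3705)) (.leaf (nat_lit 0))))) (.node 4 (.node 2 (.node 1 (.leaf (nat_lit 0)) (.leaf (nat_lit 0))) (.node 1 (.leaf (nat_lit 4077))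 (.leaf (nat_lit 1449)))) (.node 2 (.node 1 (.leaf (nat_lit 2493)) (.leaf (nat_lit 0))) (.node 1 (.leaf (nat_lit 0)) (.leaf (nat_lit 0)))))) (.node 8 (.node 4 (.node 2 (.node 1 (.leaf (nat_lit 0)) (.leaf (nat_lit 0))) (.node 1 (.leaf (nat_lit 1981)) (.leaf (nat_lit 2077)))) (.node 2 (.node 1 (.leaf (nat_lit 2425)) (.leaf (nat_lit 3829))) (.node 1 (.leaf (nat_lit 589)) (.leaf (nat_lit 1753))))) (.node 4 (.node 2 (.node 1 (.leaf (nat_lit 0)) (.leaf (nat_lit 0))) (.node 1 (.leaf (nat_lit 0)) (.leaf (nat_lit 0)))) (.node 2 (.node 1 (.leaf (nat_lit 0)) (.leaf (nat_lit 0))) (.node 1 (.leaf (nat_lit 0)) (.leaf (nat_lit 0))))))))) (.node 64 (.node 32 (.node 16 (.node 8 (.node 4 (.node 2 (.node 1 (.leaf (nat_lit 0)) (.leaf (nat_lit 0))) (.node 1 (.leaf (nat_lit 0)) (.leaf (nat_lit 0)))) (.node 2 (.node 1 (.leaf (nat_lit 0)) (.leaf (nat_lit 0))) (.node 1 (.leaf (nat_lit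 0)) (.leaf (nat_lit 0))))) (.node 4 (.node 2 (.node 1 (.leaf (nat_lit 0)) (.leaf (nat_lit 0))) (.node 1 (.leaf (nat_lit 0)) (.leaf (nat_lit 0)))) (.node 2 (.node 1 (.leaf (nat_lit 0)) (.leaf (nat_lit 0))) (.node 1 (.leaf (nat_lit 0)) (.leaf (nat_lit 0)))))) (.node 8 (.node 4 (.node 2 (.node 1 (.leaf (nat_lit 0)) (.leaf (nat_lit 0))) (.node 1 (.leaf (nat_lit 0)) (.leaf (nat_lit 0)))) (.node 2 (.node 1 (.leaf (nat_lit 0)) (.leaf (nat_lit 0))) (.node 1 (.leaf (nat_lit 0)) (.leaf (nat_lit 0))))) (.node 4 (.node 2 (.node 1 (.leaf (nat_lit 0)) (.leaf (nat_lit 0))) (.node 1 (.leaf (nat_lit 0)) (.leaf (nat_lit 0)))) (.node 2 (.node 1 (.leaf (nat_lit 0)) (.leaf (nat_lit 0))) (.node 1 (.leaf (nat_lit 0)) (.leaf (nat_lit 0))))))) (.node 16 (.node 8 (.node 4 (.node 2 (.node 1 (.leaf (nat_lit 0)) (.leaf (nat_lit 0))) (.node 1 (.leaf (nat_lit 0)) (.leaf (nat_lit 0)))) (.node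 2 (.node 1 (.leaf (nat_lit 0)) (.leaf (nat_lit 0))) (.node 1 (.leaf (nat_lit 0)) (.leaf (nat_lit 65))))) (.node 4 (.node 2 (.node 1 (.leaf (nat_lit 0)) (.leaf (nat_lit 0))) (.node 1 (.leaf (nat_lit 0)) (.leaf (nat_lit 52)))) (.node 2 (.node 1 (.leaf (nat_lit 129)) (.leaf (nat_lit 0))) (.node 1 (.leaf (nat_lit 0)) (.leaf (nat_lit 0)))))) (.node 8 (.node 4 (.node 2 (.node 1 (.leaf (nat_lit 193)) (.leaf (nat_lit 20))) (.node 1 (.leaf (nat_lit 2037)) (.leaf (nat_lit 0)))) (.node 2 (.node 1 (.leaf (nat_lit 0)) (.leaf (nat_lit 0))) (.node 1 (.leaf (nat_lit 0)) (.leaf (nat_lit 0))))) (.node 4 (.node 2 (.node 1 (.leaf (nat_lit 0)) (.leaf (nat_lit 1300))) (.node 1 (.leaf (nat_lit 0)) (.leaf (nat_lit 0)))) (.node 2 (.node 1 (.leaf (nat_lit 0)) (.leaf (nat_lit 0))) (.node 1 (.leaf (nat_lit 0)) (.leaf (nat_lit 0)))))))) (.node 32 (.node 16 (.node 8 (.node 4 (.node 2 (.node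 1 (.leaf (nat_lit 0)) (.leaf (nat_lit 0))) (.node 1 (.leaf (nat_lit 0)) (.leaf (nat_lit 0)))) (.node 2 (.node 1 (.leaf (nat_lit 0)) (.leaf (nat_lit 0))) (.node 1 (.leaf (nat_lit 0)) (.leaf (nat_lit 0))))) (.node 4 (.node 2 (.node 1 (.leaf (nat_lit 0)) (.leaf (nat_lit 0))) (.node 1 (.leaf (nat_lit 0)) (.leaf (nat_lit 0)))) (.node 2 (.node 1 (.leaf (nat_lit 0)) (.leaf (nat_lit 0))) (.node 1 (.leaf (nat_lit 0)) (.leaf (nat_lit 0)))))) (.node 8 (.node 4 (.node 2 (.node 1 (.leaf (nat_lit 0)) (.leaf (nat_lit 0))) (.node 1 (.leaf (nat_lit 0)) (.leaf (nat_lit 0)))) (.node 2 (.node 1 (.leaf (nat_lit 0)) (.leaf (nat_lit 0))) (.node 1 (.leaf (nat_lit 0)) (.leaf (nat_lit 0))))) (.node 4 (.node 2 (.node 1 (.leaf (nat_lit 0)) (.leaf (nat_lit 0))) (.node 1 (.leaf (nat_lit 0)) (.leaf (nat_lit 0)))) (.node 2 (.node 1 (.leaf (nat_lit 1645)) (.leaf (nat_lit 2461))) (.node 1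 (.leaf (nat_lit 3541)) (.leaf (nat_lit 1909))))))) (.node 16 (.node 8 (.node 4 (.node 2 (.node 1 (.leaf (nat_lit 0)) (.leaf (nat_lit 3049))) (.node 1 (.leaf (nat_lit 3673)) (.leaf (nat_lit 2189)))) (.node 2 (.node 1 (.leaf (nat_lit 557)) (.leaf (nat_lit 0))) (.node 1 (.leaf (nat_lit 3129)) (.leaf (nat_lit 905))))) (.node 4 (.node 2 (.node 1 (.leaf (nat_lit 0)) (.leaf (nat_lit 0))) (.node 1 (.leaf (nat_lit 3649)) (.leaf (nat_lit 1221)))) (.node 2 (.node 1 (.leaf (nat_lit 2917)) (.leaf (nat_lit 0))) (.node 1 (.leaf (nat_lit 0)) (.leaf (nat_lit 0)))))) (.node 8 (.node 4 (.node 2 (.node 1 (.leaf (nat_lit 1297)) (.leaf (nat_lit 3113))) (.node 1 (.leaf (nat_lit 0)) (.leaf (nat_lit 0)))) (.node 2 (.node 1 (.leaf (nat_lit 0)) (.leaf (nat_lit 2628))) (.node 1 (.leaf (nat_lit 2593)) (.leaf (nat_lit 3733))))) (.node 4 (.node 2 (.node 1 (.leaf (nat_lit 3549)) (.leaf (nat_lit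 1917))) (.node 1 (.leaf (nat_lit 0)) (.leaf (nat_lit 1689)))) (.node 2 (.node 1 (.leaf (nat_lit 2553)) (.leaf (nat_lit 0))) (.node 1 (.leaf (nat_lit 0)) (.leaf (nat_lit 2833)))))))))

noncomputable def vt4 : Tree :=
  .node 128 (.node 64 (.node 32 (.node 16 (.node 8 (.node 4 (.node 2 (.node 1 (.leaf (nat_lit 2901)) (.leaf (nat_lit 2821))) (.node 1 (.leaf (nat_lit 0)) (.leaf (nat_lit 0)))) (.node 2 (.node 1 (.leaf (nat_lit 1828)) (.leaf (nat_lit 565))) (.node 1 (.leaf (nat_lit 3429)) (.leaf (nat_lit 0))))) (.node 4 (.node 2 (.node 1 (.leaf (nat_lit 0)) (.leaf (nat_lit 0))) (.node 1 (.leaf (nat_lit 3777)) (.leaf (nat_lit 3604)))) (.node 2 (.node 1 (.leaf (nat_lit 3801)) (.leaf (nat_lit 0))) (.node 1 (.leaf (nat_lit 0)) (.leaf (nat_lit 0)))))) (.node 8 (.node 4 (.node 2 (.node 1 (.leaf (nat_lit 1313)) (.leaf (nat_lit 1348))) (.node 1 (.leaf (nat_lit 1941)) (.leaf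 (nat_lit 0)))) (.node 2 (.node 1 (.leaf (nat_lit 0)) (.leaf (nat_lit 0))) (.node 1 (.leaf (nat_lit 0)) (.leaf (nat_lit 0))))) (.node 4 (.node 2 (.node 1 (.leaf (nat_lit 0)) (.leaf (nat_lit 2756))) (.node 1 (.leaf (nat_lit 1476)) (.leaf (nat_lit 2609)))) (.node 2 (.node 1 (.leaf (nat_lit 4036)) (.leaf (nat_lit 0))) (.node 1 (.leaf (nat_lit 0)) (.leaf (nat_lit 0))))))) (.node 16 (.node 8 (.node 4 (.node 2 (.node 1 (.leaf (nat_lit 0)) (.leaf (nat_lit 0))) (.node 1 (.leaf (nat_lit 0)) (.leaf (nat_lit 4029)))) (.node 2 (.node 1 (.leaf (nat_lit 2749)) (.leaf (nat_lit 1401))) (.node 1 (.leaf (nat_lit 2805)) (.leaf (nat_lit 0))))) (.node 4 (.node 2 (.node 1 (.leaf (nat_lit 0)) (.leaf (nat_lit 0))) (.node 1 (.leaf (nat_lit 0)) (.leaf (nat_lit 0)))) (.node 2 (.node 1 (.leaf (nat_lit 0)) (.leaf (nat_lit 0))) (.node 1 (.leaf (nat_lit 2125)) (.leaf (nat_lit 2521))))))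 (.node 8 (.node 4 (.node 2 (.node 1 (.leaf (nat_lit 3333)) (.leaf (nat_lit 0))) (.node 1 (.leaf (nat_lit 0)) (.leaf (nat_lit 0)))) (.node 2 (.node 1 (.leaf (nat_lit 0)) (.leaf (nat_lit 0))) (.node 1 (.leaf (nat_lit 0)) (.leaf (nat_lit 0))))) (.node 4 (.node 2 (.node 1 (.leaf (nat_lit 0)) (.leaf (nat_lit 0))) (.node 1 (.leaf (nat_lit 0)) (.leaf (nat_lit 0)))) (.node 2 (.node 1 (.leaf (nat_lit 0)) (.leaf (nat_lit 0))) (.node 1 (.leaf (nat_lit 0)) (.leaf (nat_lit 0)))))))) (.node 32 (.node 16 (.node 8 (.node 4 (.node 2 (.node 1 (.leaf (nat_lit 0)) (.leaf (nat_lit 0))) (.node 1 (.leaf (nat_lit 0)) (.leaf (nat_lit 0)))) (.node 2 (.node 1 (.leaf (nat_lit 0)) (.leaf (nat_lit 0))) (.node 1 (.leaf (nat_lit 0)) (.leaf (nat_lit 0))))) (.node 4 (.node 2 (.node 1 (.leaf (nat_lit 0)) (.leaf (nat_lit 0))) (.node 1 (.leaf (nat_lit 0)) (.leaf (nat_lit 0)))) (.node 2 (.node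 1 (.leaf (nat_lit 0)) (.leaf (nat_lit 0))) (.node 1 (.leaf (nat_lit 0)) (.leaf (nat_lit 0)))))) (.node 8 (.node 4 (.node 2 (.node 1 (.leaf (nat_lit 0)) (.leaf (nat_lit 0))) (.node 1 (.leaf (nat_lit 0)) (.leaf (nat_lit 0)))) (.node 2 (.node 1 (.leaf (nat_lit 0)) (.leaf (nat_lit 0))) (.node 1 (.leaf (nat_lit 0)) (.leaf (nat_lit 0))))) (.node 4 (.node 2 (.node 1 (.leaf (nat_lit 0)) (.leaf (nat_lit 0))) (.node 1 (.leaf (nat_lit 0)) (.leaf (nat_lit 0)))) (.node 2 (.node 1 (.leaf (nat_lit 0)) (.leaf (nat_lit 0))) (.node 1 (.leaf (nat_lit 0)) (.leaf (nat_lit 0))))))) (.node 16 (.node 8 (.node 4 (.node 2 (.node 1 (.leaf (nat_lit 0)) (.leaf (nat_lit 0))) (.node 1 (.leaf (nat_lit 0)) (.leaf (nat_lit 0)))) (.node 2 (.node 1 (.leaf (nat_lit 0)) (.leaf (nat_lit 0))) (.node 1 (.leaf (nat_lit 0)) (.leaf (nat_lit 196))))) (.node 4 (.node 2 (.node 1 (.leaf (nat_lit 49)) (.leaf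 (nat_lit 0))) (.node 1 (.leaf (nat_lit 0)) (.leaf (nat_lit 0)))) (.node 2 (.node 1 (.leaf (nat_lit 0)) (.leaf (nat_lit 3889))) (.node 1 (.leaf (nat_lit 0)) (.leaf (nat_lit 0)))))) (.node 8 (.node 4 (.node 2 (.node 1 (.leaf (nat_lit 0)) (.leaf (nat_lit 0))) (.node 1 (.leaf (nat_lit 0)) (.leaf (nat_lit 0)))) (.node 2 (.node 1 (.leaf (nat_lit 0)) (.leaf (nat_lit 0))) (.node 1 (.leaf (nat_lit 0)) (.leaf (nat_lit 0))))) (.node 4 (.node 2 (.node 1 (.leaf (nat_lit 0)) (.leaf (nat_lit 0))) (.node 1 (.leaf (nat_lit 0)) (.leaf (nat_lit 0)))) (.node 2 (.node 1 (.leaf (nat_lit 0)) (.leaf (nat_lit 0))) (.node 1 (.leaf (nat_lit 0)) (.leaf (nat_lit 0))))))))) (.node 64 (.node 32 (.node 16 (.node 8 (.node 4 (.node 2 (.node 1 (.leaf (nat_lit 0)) (.leaf (nat_lit 0))) (.node 1 (.leaf (nat_lit 0)) (.leaf (nat_lit 0)))) (.node 2 (.node 1 (.leaf (nat_lit 0)) (.leaf (nat_lit 0)))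 (.node 1 (.leaf (nat_lit 0)) (.leaf (nat_lit 0))))) (.node 4 (.node 2 (.node 1 (.leaf (nat_lit 0)) (.leaf (nat_lit 0))) (.node 1 (.leaf (nat_lit 0)) (.leaf (nat_lit 0)))) (.node 2 (.node 1 (.leaf (nat_lit 0)) (.leaf (nat_lit 1693))) (.node 1 (.leaf (nat_lit 2557)) (.leaf (nat_lit 0)))))) (.node 8 (.node 4 (.node 2 (.node 1 (.leaf (nat_lit 3445)) (.leaf (nat_lit 1957))) (.node 1 (.leaf (nat_lit 0)) (.leaf (nat_lit 0)))) (.node 2 (.node 1 (.leaf (nat_lit 2881)) (.leaf (nat_lit 2905))) (.node 1 (.leaf (nat_lit 2825)) (.leaf (nat_lit 0))))) (.node 4 (.node 2 (.node 1 (.leaf (nat_lit 2093)) (.leaf (nat_lit 0))) (.node 1 (.leaf (nat_lit 0)) (.leaf (nat_lit 1924)))) (.node 2 (.node 1 (.leaf (nat_lit 3209)) (.leaf (nat_lit 0))) (.node 1 (.leaf (nat_lit 0)) (.leaf (nat_lit 0))))))) (.node 16 (.node 8 (.node 4 (.node 2 (.node 1 (.leaf (nat_lit 3617)) (.leaf (nat_lit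 3652))) (.node 1 (.leaf (nat_lit 3685)) (.leaf (nat_lit 0)))) (.node 2 (.node 1 (.leaf (nat_lit 0)) (.leaf (nat_lit 0))) (.node 1 (.leaf (nat_lit 0)) (.leaf (nat_lit 1473))))) (.node 4 (.node 2 (.node 1 (.leaf (nat_lit 0)) (.leaf (nat_lit 0))) (.node 1 (.leaf (nat_lit 0)) (.leaf (nat_lit 0)))) (.node 2 (.node 1 (.leaf (nat_lit 0)) (.leaf (nat_lit 0))) (.node 1 (.leaf (nat_lit 2580)) (.leaf (nat_lit 3860)))))) (.node 8 (.node 4 (.node 2 (.node 1 (.leaf (nat_lit 2625)) (.leaf (nat_lit 3892))) (.node 1 (.leaf (nat_lit 3453)) (.leaf (nat_lit 1965)))) (.node 2 (.node 1 (.leaf (nat_lit 0)) (.leaf (nat_lit 3364))) (.node 1 (.leaf (nat_lit 1785)) (.leaf (nat_lit 1545))))) (.node 4 (.node 2 (.node 1 (.leaf (nat_lit 0)) (.leaf (nat_lit 0))) (.node 1 (.leaf (nat_lit 0)) (.leaf (nat_lit 3009)))) (.node 2 (.node 1 (.leaf (nat_lit 2836)) (.leaf (nat_lit 3589))) (.node 1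 (.leaf (nat_lit 0)) (.leaf (nat_lit 0)))))))) (.node 32 (.node 16 (.node 8 (.node 4 (.node 2 (.node 1 (.leaf (nat_lit 0)) (.leaf (nat_lit 1860))) (.node 1 (.leaf (nat_lit 1825)) (.leaf (nat_lit 1893)))) (.node 2 (.node 1 (.leaf (nat_lit 0)) (.leaf (nat_lit 0))) (.node 1 (.leaf (nat_lit 0)) (.leaf (nat_lit 0))))) (.node 4 (.node 2 (.node 1 (.leaf (nat_lit 0)) (.leaf (nat_lit 0))) (.node 1 (.leaf (nat_lit 3633)) (.leaf (nat_lit 1121)))) (.node 2 (.node 1 (.leaf (nat_lit 3780)) (.leaf (nat_lit 2353))) (.node 1 (.leaf (nat_lit 0)) (.leaf (nat_lit 0)))))) (.node 8 (.node 4 (.node 2 (.node 1 (.leaf (nat_lit 0)) (.leaf (nat_lit 0))) (.node 1 (.leaf (nat_lit 0)) (.leaf (nat_lit 0)))) (.node 2 (.node 1 (.leaf (nat_lit 1409)) (.leaf (nat_lit 3969))) (.node 1 (.leaf (nat_lit 1316)) (.leaf (nat_lit 4033))))) (.node 4 (.node 2 (.node 1 (.leaf (nat_lit 0)) (.leaf (nat_lit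 0))) (.node 1 (.leaf (nat_lit 0)) (.leaf (nat_lit 0)))) (.node 2 (.node 1 (.leaf (nat_lit 0)) (.leaf (nat_lit 0))) (.node 1 (.leaf (nat_lit 0)) (.leaf (nat_lit 0))))))) (.node 16 (.node 8 (.node 4 (.node 2 (.node 1 (.leaf (nat_lit 0)) (.leaf (nat_lit 0))) (.node 1 (.leaf (nat_lit 1332)) (.leaf (nat_lit 2753)))) (.node 2 (.node 1 (.leaf (nat_lit 0)) (.leaf (nat_lit 0))) (.node 1 (.leaf (nat_lit 0)) (.leaf (nat_lit 0))))) (.node 4 (.node 2 (.node 1 (.leaf (nat_lit 0)) (.leaf (nat_lit 0))) (.node 1 (.leaf (nat_lit 0)) (.leaf (nat_lit 0)))) (.node 2 (.node 1 (.leaf (nat_lit 0)) (.leaf (nat_lit 0))) (.node 1 (.leaf (nat_lit 2797)) (.leaf (nat_lit 1497)))))) (.node 8 (.node 4 (.node 2 (.node 1 (.leaf (nat_lit 4057)) (.leaf (nat_lit 2709))) (.node 1 (.leaf (nat_lit 0)) (.leaf (nat_lit 0)))) (.node 2 (.node 1 (.leaf (nat_lit 0)) (.leaf (nat_lit 0))) (.node 1 (.leaf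 (nat_lit 0)) (.leaf (nat_lit 0))))) (.node 4 (.node 2 (.node 1 (.leaf (nat_lit 612)) (.leaf (nat_lit 1797))) (.node 1 (.leaf (nat_lit 0)) (.leaf (nat_lit 0)))) (.node 2 (.node 1 (.leaf (nat_lit 0)) (.leaf (nat_lit 0))) (.node 1 (.leaf (nat_lit 0)) (.leaf (nat_lit 0)))))))))

noncomputable def vt5 : Tree :=
  .node 128 (.node 64 (.node 32 (.node 16 (.node 8 (.node 4 (.node 2 (.node 1 (.leaf (nat_lit 0)) (.leaf (nat_lit 0))) (.node 1 (.leaf (nat_lit 0)) (.leaf (nat_lit 0)))) (.node 2 (.node 1 (.leaf (nat_lit 0)) (.leaf (nat_lit 0))) (.node 1 (.leaf (nat_lit 0)) (.leaf (nat_lit 0))))) (.node 4 (.node 2 (.node 1 (.leaf (nat_lit 0)) (.leaf (nat_lit 0))) (.node 1 (.leaf (nat_lit 0)) (.leaf (nat_lit 0)))) (.node 2 (.node 1 (.leaf (nat_lit 0)) (.leaf (nat_lit 0))) (.node 1 (.leaf (nat_lit 0)) (.leaf (nat_lit 0)))))) (.node 8 (.node 4 (.node 2 (.node 1 (.leaf (nat_lit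 0)) (.leaf (nat_lit 0))) (.node 1 (.leaf (nat_lit 0)) (.leaf (nat_lit 0)))) (.node 2 (.node 1 (.leaf (nat_lit 0)) (.leaf (nat_lit 0))) (.node 1 (.leaf (nat_lit 0)) (.leaf (nat_lit 0))))) (.node 4 (.node 2 (.node 1 (.leaf (nat_lit 0)) (.leaf (nat_lit 0))) (.node 1 (.leaf (nat_lit 0)) (.leaf (nat_lit 0)))) (.node 2 (.node 1 (.leaf (nat_lit 0)) (.leaf (nat_lit 0))) (.node 1 (.leaf (nat_lit 0)) (.leaf (nat_lit 0))))))) (.node 16 (.node 8 (.node 4 (.node 2 (.node 1 (.leaf (nat_lit 0)) (.leaf (nat_lit 0))) (.node 1 (.leaf (nat_lit 0)) (.leaf (nat_lit 0)))) (.node 2 (.node 1 (.leaf (nat_lit 0)) (.leaf (nat_lit 0))) (.node 1 (.leaf (nat_lit 0)) (.leaf (nat_lit 0))))) (.node 4 (.node 2 (.node 1 (.leaf (nat_lit 0)) (.leaf (nat_lit 0))) (.node 1 (.leaf (nat_lit 0)) (.leaf (nat_lit 0)))) (.node 2 (.node 1 (.leaf (nat_lit 0)) (.leaf (nat_lit 0))) (.node 1 (.leaf (nat_lit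 0)) (.leaf (nat_lit 0)))))) (.node 8 (.node 4 (.node 2 (.node 1 (.leaf (nat_lit 0)) (.leaf (nat_lit 0))) (.node 1 (.leaf (nat_lit 0)) (.leaf (nat_lit 0)))) (.node 2 (.node 1 (.leaf (nat_lit 0)) (.leaf (nat_lit 0))) (.node 1 (.leaf (nat_lit 0)) (.leaf (nat_lit 0))))) (.node 4 (.node 2 (.node 1 (.leaf (nat_lit 0)) (.leaf (nat_lit 0))) (.node 1 (.leaf (nat_lit 0)) (.leaf (nat_lit 0)))) (.node 2 (.node 1 (.leaf (nat_lit 0)) (.leaf (nat_lit 0))) (.node 1 (.leaf (nat_lit 0)) (.leaf (nat_lit 0)))))))) (.node 32 (.node 16 (.node 8 (.node 4 (.node 2 (.node 1 (.leaf (nat_lit 0)) (.leaf (nat_lit 0))) (.node 1 (.leaf (nat_lit 0)) (.leaf (nat_lit 173)))) (.node 2 (.node 1 (.leaf (nat_lit 1789)) (.leaf (nat_lit 1549))) (.node 1 (.leaf (nat_lit 0)) (.leaf (nat_lit 3460))))) (.node 4 (.node 2 (.node 1 (.leaf (nat_lit 3493)) (.leaf (nat_lit 0))) (.node 1 (.leaf (nat_lit 0))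 (.leaf (nat_lit 0)))) (.node 2 (.node 1 (.leaf (nat_lit 2849)) (.leaf (nat_lit 2884))) (.node 1 (.leaf (nat_lit 3593)) (.leaf (nat_lit 0)))))) (.node 8 (.node 4 (.node 2 (.node 1 (.leaf (nat_lit 0)) (.leaf (nat_lit 2653))) (.node 1 (.leaf (nat_lit 0)) (.leaf (nat_lit 0)))) (.node 2 (.node 1 (.leaf (nat_lit 0)) (.leaf (nat_lit 1844))) (.node 1 (.leaf (nat_lit 1921)) (.leaf (nat_lit 0))))) (.node 4 (.node 2 (.node 1 (.leaf (nat_lit 0)) (.leaf (nat_lit 0))) (.node 1 (.leaf (nat_lit 0)) (.leaf (nat_lit 0)))) (.node 2 (.node 1 (.leaf (nat_lit 0)) (.leaf (nat_lit 3713))) (.node 1 (.leaf (nat_lit 465)) (.leaf (nat_lit 3620))))))) (.node 16 (.node 8 (.node 4 (.node 2 (.node 1 (.leaf (nat_lit 2497)) (.leaf (nat_lit 0))) (.node 1 (.leaf (nat_lit 0)) (.leaf (nat_lit 0)))) (.node 2 (.node 1 (.leaf (nat_lit 0)) (.leaf (nat_lit 1329))) (.node 1 (.leaf (nat_lit 0)) (.leaf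 (nat_lit 0))))) (.node 4 (.node 2 (.node 1 (.leaf (nat_lit 0)) (.leaf (nat_lit 0))) (.node 1 (.leaf (nat_lit 0)) (.leaf (nat_lit 0)))) (.node 2 (.node 1 (.leaf (nat_lit 0)) (.leaf (nat_lit 0))) (.node 1 (.leaf (nat_lit 0)) (.leaf (nat_lit 0)))))) (.node 8 (.node 4 (.node 2 (.node 1 (.leaf (nat_lit 3908)) (.leaf (nat_lit 2577))) (.node 1 (.leaf (nat_lit 3857)) (.leaf (nat_lit 3972)))) (.node 2 (.node 1 (.leaf (nat_lit 253)) (.leaf (nat_lit 3501))) (.node 1 (.leaf (nat_lit 3341)) (.leaf (nat_lit 0))))) (.node 4 (.node 2 (.node 1 (.leaf (nat_lit 0)) (.leaf (nat_lit 3396))) (.node 1 (.leaf (nat_lit 3361)) (.leaf (nat_lit 2313)))) (.node 2 (.node 1 (.leaf (nat_lit 0)) (.leaf (nat_lit 0))) (.node 1 (.leaf (nat_lit 0)) (.leaf (nat_lit 0))))))))) (.node 64 (.node 32 (.node 16 (.node 8 (.node 4 (.node 2 (.node 1 (.leaf (nat_lit 0)) (.leaf (nat_lit 0))) (.node 1 (.leaf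 (nat_lit 2865)) (.leaf (nat_lit 353)))) (.node 2 (.node 1 (.leaf (nat_lit 3012)) (.leaf (nat_lit 1585))) (.node 1 (.leaf (nat_lit 0)) (.leaf (nat_lit 0))))) (.node 4 (.node 2 (.node 1 (.leaf (nat_lit 0)) (.leaf (nat_lit 0))) (.node 1 (.leaf (nat_lit 0)) (.leaf (nat_lit 0)))) (.node 2 (.node 1 (.leaf (nat_lit 1812)) (.leaf (nat_lit 2228))) (.node 1 (.leaf (nat_lit 1857)) (.leaf (nat_lit 2356)))))) (.node 8 (.node 4 (.node 2 (.node 1 (.leaf (nat_lit 0)) (.leaf (nat_lit 0))) (.node 1 (.leaf (nat_lit 0)) (.leaf (nat_lit 0)))) (.node 2 (.node 1 (.leaf (nat_lit 0)) (.leaf (nat_lit 0))) (.node 1 (.leaf (nat_lit 0)) (.leaf (nat_lit 0))))) (.node 4 (.node 2 (.node 1 (.leaf (nat_lit 0)) (.leaf (nat_lit 0))) (.node 1 (.leaf (nat_lit 1169)) (.leaf (nat_lit 3636)))) (.node 2 (.node 1 (.leaf (nat_lit 1124)) (.leaf (nat_lit 2433))) (.node 1 (.leaf (nat_lit 0)) (.leaf (nat_lit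 0))))))) (.node 16 (.node 8 (.node 4 (.node 2 (.node 1 (.leaf (nat_lit 0)) (.leaf (nat_lit 0))) (.node 1 (.leaf (nat_lit 0)) (.leaf (nat_lit 3873)))) (.node 2 (.node 1 (.leaf (nat_lit 1412)) (.leaf (nat_lit 0))) (.node 1 (.leaf (nat_lit 0)) (.leaf (nat_lit 0))))) (.node 4 (.node 2 (.node 1 (.leaf (nat_lit 0)) (.leaf (nat_lit 0))) (.node 1 (.leaf (nat_lit 0)) (.leaf (nat_lit 660)))) (.node 2 (.node 1 (.leaf (nat_lit 0)) (.leaf (nat_lit 0))) (.node 1 (.leaf (nat_lit 0)) (.leaf (nat_lit 0)))))) (.node 8 (.node 4 (.node 2 (.node 1 (.leaf (nat_lit 0)) (.leaf (nat_lit 0))) (.node 1 (.leaf (nat_lit 0)) (.leaf (nat_lit 0)))) (.node 2 (.node 1 (.leaf (nat_lit 0)) (.leaf (nat_lit 0))) (.node 1 (.leaf (nat_lit 0)) (.leaf (nat_lit 0))))) (.node 4 (.node 2 (.node 1 (.leaf (nat_lit 0)) (.leaf (nat_lit 0))) (.node 1 (.leaf (nat_lit 0)) (.leaf (nat_lit 3961)))) (.node 2 (.node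 1 (.leaf (nat_lit 609)) (.leaf (nat_lit 2661))) (.node 1 (.leaf (nat_lit 1381)) (.leaf (nat_lit 0)))))))) (.node 32 (.node 16 (.node 8 (.node 4 (.node 2 (.node 1 (.leaf (nat_lit 0)) (.leaf (nat_lit 0))) (.node 1 (.leaf (nat_lit 2148)) (.leaf (nat_lit 0)))) (.node 2 (.node 1 (.leaf (nat_lit 0)) (.leaf (nat_lit 0))) (.node 1 (.leaf (nat_lit 0)) (.leaf (nat_lit 0))))) (.node 4 (.node 2 (.node 1 (.leaf (nat_lit 0)) (.leaf (nat_lit 0))) (.node 1 (.leaf (nat_lit 0)) (.leaf (nat_lit 0)))) (.node 2 (.node 1 (.leaf (nat_lit 0)) (.leaf (nat_lit 0))) (.node 1 (.leaf (nat_lit 0)) (.leaf (nat_lit 0)))))) (.node 8 (.node 4 (.node 2 (.node 1 (.leaf (nat_lit 0)) (.leaf (nat_lit 0))) (.node 1 (.leaf (nat_lit 0)) (.leaf (nat_lit 0)))) (.node 2 (.node 1 (.leaf (nat_lit 0)) (.leaf (nat_lit 0))) (.node 1 (.leaf (nat_lit 0)) (.leaf (nat_lit 0))))) (.node 4 (.node 2 (.node 1 (.leaf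 (nat_lit 0)) (.leaf (nat_lit 0))) (.node 1 (.leaf (nat_lit 0)) (.leaf (nat_lit 0)))) (.node 2 (.node 1 (.leaf (nat_lit 0)) (.leaf (nat_lit 0))) (.node 1 (.leaf (nat_lit 0)) (.leaf (nat_lit 0))))))) (.node 16 (.node 8 (.node 4 (.node 2 (.node 1 (.leaf (nat_lit 0)) (.leaf (nat_lit 0))) (.node 1 (.leaf (nat_lit 0)) (.leaf (nat_lit 0)))) (.node 2 (.node 1 (.leaf (nat_lit 0)) (.leaf (nat_lit 0))) (.node 1 (.leaf (nat_lit 0)) (.leaf (nat_lit 0))))) (.node 4 (.node 2 (.node 1 (.leaf (nat_lit 0)) (.leaf (nat_lit 0))) (.node 1 (.leaf (nat_lit 0)) (.leaf (nat_lit 0)))) (.node 2 (.node 1 (.leaf (nat_lit 0)) (.leaf (nat_lit 0))) (.node 1 (.leaf (nat_lit 0)) (.leaf (nat_lit 0)))))) (.node 8 (.node 4 (.node 2 (.node 1 (.leaf (nat_lit 0)) (.leaf (nat_lit 0))) (.node 1 (.leaf (nat_lit 0)) (.leaf (nat_lit 0)))) (.node 2 (.node 1 (.leaf (nat_lit 125)) (.leaf (nat_lit 249)))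 (.node 1 (.leaf (nat_lit 2317)) (.leaf (nat_lit 0))))) (.node 4 (.node 2 (.node 1 (.leaf (nat_lit 0)) (.leaf (nat_lit 3380))) (.node 1 (.leaf (nat_lit 3457)) (.leaf (nat_lit 0)))) (.node 2 (.node 1 (.leaf (nat_lit 0)) (.leaf (nat_lit 0))) (.node 1 (.leaf (nat_lit 0)) (.leaf (nat_lit 0)))))))))

noncomputable def vt6 : Tree :=
  .node 128 (.node 64 (.node 32 (.node 16 (.node 8 (.node 4 (.node 2 (.node 1 (.leaf (nat_lit 0)) (.leaf (nat_lit 2945))) (.node 1 (.leaf (nat_lit 1233)) (.leaf (nat_lit 2852)))) (.node 2 (.node 1 (.leaf (nat_lit 1729)) (.leaf (nat_lit 0))) (.node 1 (.leaf (nat_lit 0)) (.leaf (nat_lit 4009))))) (.node 4 (.node 2 (.node 1 (.leaf (nat_lit 0)) (.leaf (nat_lit 0))) (.node 1 (.leaf (nat_lit 0)) (.leaf (nat_lit 0)))) (.node 2 (.node 1 (.leaf (nat_lit 0)) (.leaf (nat_lit 1988))) (.node 1 (.leaf (nat_lit 1841)) (.leaf (nat_lit 2500)))))) (.node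 8 (.node 4 (.node 2 (.node 1 (.leaf (nat_lit 0)) (.leaf (nat_lit 0))) (.node 1 (.leaf (nat_lit 0)) (.leaf (nat_lit 0)))) (.node 2 (.node 1 (.leaf (nat_lit 0)) (.leaf (nat_lit 0))) (.node 1 (.leaf (nat_lit 0)) (.leaf (nat_lit 0))))) (.node 4 (.node 2 (.node 1 (.leaf (nat_lit 0)) (.leaf (nat_lit 0))) (.node 1 (.leaf (nat_lit 369)) (.leaf (nat_lit 3716)))) (.node 2 (.node 1 (.leaf (nat_lit 468)) (.leaf (nat_lit 2321))) (.node 1 (.leaf (nat_lit 0)) (.leaf (nat_lit 0))))))) (.node 16 (.node 8 (.node 4 (.node 2 (.node 1 (.leaf (nat_lit 0)) (.leaf (nat_lit 0))) (.node 1 (.leaf (nat_lit 0)) (.leaf (nat_lit 0)))) (.node 2 (.node 1 (.leaf (nat_lit 0)) (.leaf (nat_lit 0))) (.node 1 (.leaf (nat_lit 0)) (.leaf (nat_lit 0))))) (.node 4 (.node 2 (.node 1 (.leaf (nat_lit 0)) (.leaf (nat_lit 3876))) (.node 1 (.leaf (nat_lit 3905)) (.leaf (nat_lit 756)))) (.node 2 (.node 1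 (.leaf (nat_lit 157)) (.leaf (nat_lit 89))) (.node 1 (.leaf (nat_lit 1805)) (.leaf (nat_lit 0)))))) (.node 8 (.node 4 (.node 2 (.node 1 (.leaf (nat_lit 0)) (.leaf (nat_lit 0))) (.node 1 (.leaf (nat_lit 0)) (.leaf (nat_lit 3348)))) (.node 2 (.node 1 (.leaf (nat_lit 692)) (.leaf (nat_lit 3393))) (.node 1 (.leaf (nat_lit 1588)) (.leaf (nat_lit 0))))) (.node 4 (.node 2 (.node 1 (.leaf (nat_lit 0)) (.leaf (nat_lit 0))) (.node 1 (.leaf (nat_lit 0)) (.leaf (nat_lit 0)))) (.node 2 (.node 1 (.leaf (nat_lit 0)) (.leaf (nat_lit 0))) (.node 1 (.leaf (nat_lit 0)) (.leaf (nat_lit 0)))))))) (.node 32 (.node 16 (.node 8 (.node 4 (.node 2 (.node 1 (.leaf (nat_lit 0)) (.leaf (nat_lit 401))) (.node 1 (.leaf (nat_lit 2868)) (.leaf (nat_lit 356)))) (.node 2 (.node 1 (.leaf (nat_lit 1665)) (.leaf (nat_lit 0))) (.node 1 (.leaf (nat_lit 0)) (.leaf (nat_lit 0))))) (.node 4 (.node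 2 (.node 1 (.leaf (nat_lit 0)) (.leaf (nat_lit 0))) (.node 1 (.leaf (nat_lit 0)) (.leaf (nat_lit 0)))) (.node 2 (.node 1 (.leaf (nat_lit 0)) (.leaf (nat_lit 0))) (.node 1 (.leaf (nat_lit 2276)) (.leaf (nat_lit 1809)))))) (.node 8 (.node 4 (.node 2 (.node 1 (.leaf (nat_lit 2225)) (.leaf (nat_lit 2436))) (.node 1 (.leaf (nat_lit 0)) (.leaf (nat_lit 0)))) (.node 2 (.node 1 (.leaf (nat_lit 0)) (.leaf (nat_lit 0))) (.node 1 (.leaf (nat_lit 0)) (.leaf (nat_lit 0))))) (.node 4 (.node 2 (.node 1 (.leaf (nat_lit 0)) (.leaf (nat_lit 0))) (.node 1 (.leaf (nat_lit 0)) (.leaf (nat_lit 0)))) (.node 2 (.node 1 (.leaf (nat_lit 0)) (.leaf (nat_lit 0))) (.node 1 (.leaf (nat_lit 0)) (.leaf (nat_lit 0))))))) (.node 16 (.node 8 (.node 4 (.node 2 (.node 1 (.leaf (nat_lit 0)) (.leaf (nat_lit 0))) (.node 1 (.leaf (nat_lit 1265)) (.leaf (nat_lit 1172)))) (.node 2 (.node 1 (.leaf (nat_lit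 657)) (.leaf (nat_lit 2337))) (.node 1 (.leaf (nat_lit 3281)) (.leaf (nat_lit 0))))) (.node 4 (.node 2 (.node 1 (.leaf (nat_lit 0)) (.leaf (nat_lit 0))) (.node 1 (.leaf (nat_lit 0)) (.leaf (nat_lit 0)))) (.node 2 (.node 1 (.leaf (nat_lit 0)) (.leaf (nat_lit 0))) (.node 1 (.leaf (nat_lit 0)) (.leaf (nat_lit 2196)))))) (.node 8 (.node 4 (.node 2 (.node 1 (.leaf (nat_lit 0)) (.leaf (nat_lit 0))) (.node 1 (.leaf (nat_lit 0)) (.leaf (nat_lit 0)))) (.node 2 (.node 1 (.leaf (nat_lit 0)) (.leaf (nat_lit 0))) (.node 1 (.leaf (nat_lit 0)) (.leaf (nat_lit 0))))) (.node 4 (.node 2 (.node 1 (.leaf (nat_lit 0)) (.leaf (nat_lit 0))) (.node 1 (.leaf (nat_lit 0)) (.leaf (nat_lit 0)))) (.node 2 (.node 1 (.leaf (nat_lit 0)) (.leaf (nat_lit 0))) (.node 1 (.leaf (nat_lit 0)) (.leaf (nat_lit 0))))))))) (.node 64 (.node 32 (.node 16 (.node 8 (.node 4 (.node 2 (.node 1 (.leaf (nat_lit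 0)) (.leaf (nat_lit 0))) (.node 1 (.leaf (nat_lit 0)) (.leaf (nat_lit 1429)))) (.node 2 (.node 1 (.leaf (nat_lit 2145)) (.leaf (nat_lit 948))) (.node 1 (.leaf (nat_lit 0)) (.leaf (nat_lit 0))))) (.node 4 (.node 2 (.node 1 (.leaf (nat_lit 0)) (.leaf (nat_lit 0))) (.node 1 (.leaf (nat_lit 0)) (.leaf (nat_lit 0)))) (.node 2 (.node 1 (.leaf (nat_lit 0)) (.leaf (nat_lit 0))) (.node 1 (.leaf (nat_lit 0)) (.leaf (nat_lit 0)))))) (.node 8 (.node 4 (.node 2 (.node 1 (.leaf (nat_lit 0)) (.leaf (nat_lit 0))) (.node 1 (.leaf (nat_lit 0)) (.leaf (nat_lit 0)))) (.node 2 (.node 1 (.leaf (nat_lit 0)) (.leaf (nat_lit 0))) (.node 1 (.leaf (nat_lit 0)) (.leaf (nat_lit 0))))) (.node 4 (.node 2 (.node 1 (.leaf (nat_lit 0)) (.leaf (nat_lit 0))) (.node 1 (.leaf (nat_lit 0)) (.leaf (nat_lit 0)))) (.node 2 (.node 1 (.leaf (nat_lit 0)) (.leaf (nat_lit 0))) (.node 1 (.leaf (nat_lit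 0)) (.leaf (nat_lit 0))))))) (.node 16 (.node 8 (.node 4 (.node 2 (.node 1 (.leaf (nat_lit 0)) (.leaf (nat_lit 0))) (.node 1 (.leaf (nat_lit 0)) (.leaf (nat_lit 0)))) (.node 2 (.node 1 (.leaf (nat_lit 0)) (.leaf (nat_lit 0))) (.node 1 (.leaf (nat_lit 0)) (.leaf (nat_lit 0))))) (.node 4 (.node 2 (.node 1 (.leaf (nat_lit 0)) (.leaf (nat_lit 0))) (.node 1 (.leaf (nat_lit 0)) (.leaf (nat_lit 221)))) (.node 2 (.node 1 (.leaf (nat_lit 2781)) (.leaf (nat_lit 153))) (.node 1 (.leaf (nat_lit 85)) (.leaf (nat_lit 0)))))) (.node 8 (.node 4 (.node 2 (.node 1 (.leaf (nat_lit 0)) (.leaf (nat_lit 0))) (.node 1 (.leaf (nat_lit 3524)) (.leaf (nat_lit 3377)))) (.node 2 (.node 1 (.leaf (nat_lit 1732)) (.leaf (nat_lit 0))) (.node 1 (.leaf (nat_lit 0)) (.leaf (nat_lit 0))))) (.node 4 (.node 2 (.node 1 (.leaf (nat_lit 0)) (.leaf (nat_lit 0))) (.node 1 (.leaf (nat_lit 0)) (.leaf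 (nat_lit 0)))) (.node 2 (.node 1 (.leaf (nat_lit 0)) (.leaf (nat_lit 0))) (.node 1 (.leaf (nat_lit 0)) (.leaf (nat_lit 1137)))))))) (.node 32 (.node 16 (.node 8 (.node 4 (.node 2 (.node 1 (.leaf (nat_lit 2948)) (.leaf (nat_lit 1236))) (.node 1 (.leaf (nat_lit 1553)) (.leaf (nat_lit 0)))) (.node 2 (.node 1 (.leaf (nat_lit 0)) (.leaf (nat_lit 0))) (.node 1 (.leaf (nat_lit 1525)) (.leaf (nat_lit 0))))) (.node 4 (.node 2 (.node 1 (.leaf (nat_lit 0)) (.leaf (nat_lit 0))) (.node 1 (.leaf (nat_lit 0)) (.leaf (nat_lit 0)))) (.node 2 (.node 1 (.leaf (nat_lit 0)) (.leaf (nat_lit 0))) (.node 1 (.leaf (nat_lit 0)) (.leaf (nat_lit 1985)))))) (.node 8 (.node 4 (.node 2 (.node 1 (.leaf (nat_lit 2324)) (.leaf (nat_lit 0))) (.node 1 (.leaf (nat_lit 0)) (.leaf (nat_lit 0)))) (.node 2 (.node 1 (.leaf (nat_lit 0)) (.leaf (nat_lit 0))) (.node 1 (.leaf (nat_lit 0)) (.leaf (nat_lit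 0))))) (.node 4 (.node 2 (.node 1 (.leaf (nat_lit 0)) (.leaf (nat_lit 0))) (.node 1 (.leaf (nat_lit 0)) (.leaf (nat_lit 0)))) (.node 2 (.node 1 (.leaf (nat_lit 0)) (.leaf (nat_lit 0))) (.node 1 (.leaf (nat_lit 0)) (.leaf (nat_lit 0))))))) (.node 16 (.node 8 (.node 4 (.node 2 (.node 1 (.leaf (nat_lit 0)) (.leaf (nat_lit 417))) (.node 1 (.leaf (nat_lit 372)) (.leaf (nat_lit 753)))) (.node 2 (.node 1 (.leaf (nat_lit 2369)) (.leaf (nat_lit 945))) (.node 1 (.leaf (nat_lit 0)) (.leaf (nat_lit 0))))) (.node 4 (.node 2 (.node 1 (.leaf (nat_lit 0)) (.leaf (nat_lit 0))) (.node 1 (.leaf (nat_lit 0)) (.leaf (nat_lit 0)))) (.node 2 (.node 1 (.leaf (nat_lit 0)) (.leaf (nat_lit 0))) (.node 1 (.leaf (nat_lit 2132)) (.leaf (nat_lit 2292)))))) (.node 8 (.node 4 (.node 2 (.node 1 (.leaf (nat_lit 109)) (.leaf (nat_lit 3949))) (.node 1 (.leaf (nat_lit 233)) (.leaf (nat_lit 165))))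 (.node 2 (.node 1 (.leaf (nat_lit 0)) (.leaf (nat_lit 0))) (.node 1 (.leaf (nat_lit 0)) (.leaf (nat_lit 0))))) (.node 4 (.node 2 (.node 1 (.leaf (nat_lit 0)) (.leaf (nat_lit 0))) (.node 1 (.leaf (nat_lit 740)) (.leaf (nat_lit 3345)))) (.node 2 (.node 1 (.leaf (nat_lit 689)) (.leaf (nat_lit 1668))) (.node 1 (.leaf (nat_lit 0)) (.leaf (nat_lit 0)))))))))

noncomputable def vt7 : Tree :=
  .node 128 (.node 64 (.node 32 (.node 16 (.node 8 (.node 4 (.node 2 (.node 1 (.leaf (nat_lit 0)) (.leaf (nat_lit 0))) (.node 1 (.leaf (nat_lit 0)) (.leaf (nat_lit 0)))) (.node 2 (.node 1 (.leaf (nat_lit 0)) (.leaf (nat_lit 0))) (.node 1 (.leaf (nat_lit 0)) (.leaf (nat_lit 0))))) (.node 4 (.node 2 (.node 1 (.leaf (nat_lit 0)) (.leaf (nat_lit 0))) (.node 1 (.leaf (nat_lit 0)) (.leaf (nat_lit 0)))) (.node 2 (.node 1 (.leaf (nat_lit 0)) (.leaf (nat_lit 0))) (.node 1 (.leaf (nat_lit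 497)) (.leaf (nat_lit 404)))))) (.node 8 (.node 4 (.node 2 (.node 1 (.leaf (nat_lit 1701)) (.leaf (nat_lit 1569))) (.node 1 (.leaf (nat_lit 977)) (.leaf (nat_lit 0)))) (.node 2 (.node 1 (.leaf (nat_lit 0)) (.leaf (nat_lit 0))) (.node 1 (.leaf (nat_lit 0)) (.leaf (nat_lit 0))))) (.node 4 (.node 2 (.node 1 (.leaf (nat_lit 0)) (.leaf (nat_lit 0))) (.node 1 (.leaf (nat_lit 0)) (.leaf (nat_lit 0)))) (.node 2 (.node 1 (.leaf (nat_lit 0)) (.leaf (nat_lit 0))) (.node 1 (.leaf (nat_lit 0)) (.leaf (nat_lit 0))))))) (.node 16 (.node 8 (.node 4 (.node 2 (.node 1 (.leaf (nat_lit 0)) (.leaf (nat_lit 0))) (.node 1 (.leaf (nat_lit 2273)) (.leaf (nat_lit 1268)))) (.node 2 (.node 1 (.leaf (nat_lit 2340)) (.leaf (nat_lit 3284))) (.node 1 (.leaf (nat_lit 0)) (.leaf (nat_lit 0))))) (.node 4 (.node 2 (.node 1 (.leaf (nat_lit 0)) (.leaf (nat_lit 0))) (.node 1 (.leaf (nat_lit 0))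 (.leaf (nat_lit 0)))) (.node 2 (.node 1 (.leaf (nat_lit 0)) (.leaf (nat_lit 0))) (.node 1 (.leaf (nat_lit 0)) (.leaf (nat_lit 0)))))) (.node 8 (.node 4 (.node 2 (.node 1 (.leaf (nat_lit 0)) (.leaf (nat_lit 0))) (.node 1 (.leaf (nat_lit 0)) (.leaf (nat_lit 0)))) (.node 2 (.node 1 (.leaf (nat_lit 0)) (.leaf (nat_lit 0))) (.node 1 (.leaf (nat_lit 0)) (.leaf (nat_lit 0))))) (.node 4 (.node 2 (.node 1 (.leaf (nat_lit 0)) (.leaf (nat_lit 0))) (.node 1 (.leaf (nat_lit 0)) (.leaf (nat_lit 0)))) (.node 2 (.node 1 (.leaf (nat_lit 3185)) (.leaf (nat_lit 2193))) (.node 1 (.leaf (nat_lit 996)) (.leaf (nat_lit 0)))))))) (.node 32 (.node 16 (.node 8 (.node 4 (.node 2 (.node 1 (.leaf (nat_lit 0)) (.leaf (nat_lit 0))) (.node 1 (.leaf (nat_lit 0)) (.leaf (nat_lit 0)))) (.node 2 (.node 1 (.leaf (nat_lit 0)) (.leaf (nat_lit 0))) (.node 1 (.leaf (nat_lit 0)) (.leaf (nat_lit 0)))))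 (.node 4 (.node 2 (.node 1 (.leaf (nat_lit 0)) (.leaf (nat_lit 0))) (.node 1 (.leaf (nat_lit 0)) (.leaf (nat_lit 0)))) (.node 2 (.node 1 (.leaf (nat_lit 0)) (.leaf (nat_lit 0))) (.node 1 (.leaf (nat_lit 0)) (.leaf (nat_lit 0)))))) (.node 8 (.node 4 (.node 2 (.node 1 (.leaf (nat_lit 0)) (.leaf (nat_lit 0))) (.node 1 (.leaf (nat_lit 0)) (.leaf (nat_lit 0)))) (.node 2 (.node 1 (.leaf (nat_lit 0)) (.leaf (nat_lit 0))) (.node 1 (.leaf (nat_lit 0)) (.leaf (nat_lit 0))))) (.node 4 (.node 2 (.node 1 (.leaf (nat_lit 0)) (.leaf (nat_lit 3252))) (.node 1 (.leaf (nat_lit 0)) (.leaf (nat_lit 0)))) (.node 2 (.node 1 (.leaf (nat_lit 0)) (.leaf (nat_lit 0))) (.node 1 (.leaf (nat_lit 0)) (.leaf (nat_lit 0))))))) (.node 16 (.node 8 (.node 4 (.node 2 (.node 1 (.leaf (nat_lit 0)) (.leaf (nat_lit 0))) (.node 1 (.leaf (nat_lit 0)) (.leaf (nat_lit 0)))) (.node 2 (.node 1 (.leaf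 (nat_lit 0)) (.leaf (nat_lit 0))) (.node 1 (.leaf (nat_lit 0)) (.leaf (nat_lit 0))))) (.node 4 (.node 2 (.node 1 (.leaf (nat_lit 0)) (.leaf (nat_lit 0))) (.node 1 (.leaf (nat_lit 0)) (.leaf (nat_lit 0)))) (.node 2 (.node 1 (.leaf (nat_lit 0)) (.leaf (nat_lit 0))) (.node 1 (.leaf (nat_lit 0)) (.leaf (nat_lit 0)))))) (.node 8 (.node 4 (.node 2 (.node 1 (.leaf (nat_lit 0)) (.leaf (nat_lit 0))) (.node 1 (.leaf (nat_lit 0)) (.leaf (nat_lit 0)))) (.node 2 (.node 1 (.leaf (nat_lit 0)) (.leaf (nat_lit 0))) (.node 1 (.leaf (nat_lit 0)) (.leaf (nat_lit 0))))) (.node 4 (.node 2 (.node 1 (.leaf (nat_lit 2685)) (.leaf (nat_lit 105))) (.node 1 (.leaf (nat_lit 3945)) (.leaf (nat_lit 229)))) (.node 2 (.node 1 (.leaf (nat_lit 0)) (.leaf (nat_lit 0))) (.node 1 (.leaf (nat_lit 0)) (.leaf (nat_lit 0))))))))) (.node 64 (.node 32 (.node 16 (.node 8 (.node 4 (.node 2 (.node 1 (.leaf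 (nat_lit 0)) (.leaf (nat_lit 3521))) (.node 1 (.leaf (nat_lit 1556)) (.leaf (nat_lit 0)))) (.node 2 (.node 1 (.leaf (nat_lit 0)) (.leaf (nat_lit 0))) (.node 1 (.leaf (nat_lit 0)) (.leaf (nat_lit 0))))) (.node 4 (.node 2 (.node 1 (.leaf (nat_lit 0)) (.leaf (nat_lit 0))) (.node 1 (.leaf (nat_lit 0)) (.leaf (nat_lit 0)))) (.node 2 (.node 1 (.leaf (nat_lit 0)) (.leaf (nat_lit 0))) (.node 1 (.leaf (nat_lit 0)) (.leaf (nat_lit 0)))))) (.node 8 (.node 4 (.node 2 (.node 1 (.leaf (nat_lit 0)) (.leaf (nat_lit 0))) (.node 1 (.leaf (nat_lit 0)) (.leaf (nat_lit 1185)))) (.node 2 (.node 1 (.leaf (nat_lit 1140)) (.leaf (nat_lit 1653))) (.node 1 (.leaf (nat_lit 1601)) (.leaf (nat_lit 3249))))) (.node 4 (.node 2 (.node 1 (.leaf (nat_lit 0)) (.leaf (nat_lit 0))) (.node 1 (.leaf (nat_lit 0)) (.leaf (nat_lit 0)))) (.node 2 (.node 1 (.leaf (nat_lit 0)) (.leaf (nat_lit 0))) (.node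 1 (.leaf (nat_lit 0)) (.leaf (nat_lit 0))))))) (.node 16 (.node 8 (.node 4 (.node 2 (.node 1 (.leaf (nat_lit 0)) (.leaf (nat_lit 0))) (.node 1 (.leaf (nat_lit 0)) (.leaf (nat_lit 0)))) (.node 2 (.node 1 (.leaf (nat_lit 0)) (.leaf (nat_lit 0))) (.node 1 (.leaf (nat_lit 0)) (.leaf (nat_lit 0))))) (.node 4 (.node 2 (.node 1 (.leaf (nat_lit 2372)) (.leaf (nat_lit 0))) (.node 1 (.leaf (nat_lit 0)) (.leaf (nat_lit 0)))) (.node 2 (.node 1 (.leaf (nat_lit 0)) (.leaf (nat_lit 0))) (.node 1 (.leaf (nat_lit 0)) (.leaf (nat_lit 0)))))) (.node 8 (.node 4 (.node 2 (.node 1 (.leaf (nat_lit 0)) (.leaf (nat_lit 0))) (.node 1 (.leaf (nat_lit 0)) (.leaf (nat_lit 0)))) (.node 2 (.node 1 (.leaf (nat_lit 0)) (.leaf (nat_lit 0))) (.node 1 (.leaf (nat_lit 0)) (.leaf (nat_lit 0))))) (.node 4 (.node 2 (.node 1 (.leaf (nat_lit 0)) (.leaf (nat_lit 0))) (.node 1 (.leaf (nat_lit 0)) (.leaf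 (nat_lit 0)))) (.node 2 (.node 1 (.leaf (nat_lit 0)) (.leaf (nat_lit 0))) (.node 1 (.leaf (nat_lit 0)) (.leaf (nat_lit 0)))))))) (.node 32 (.node 16 (.node 8 (.node 4 (.node 2 (.node 1 (.leaf (nat_lit 0)) (.leaf (nat_lit 420))) (.node 1 (.leaf (nat_lit 2129)) (.leaf (nat_lit 993)))) (.node 2 (.node 1 (.leaf (nat_lit 2289)) (.leaf (nat_lit 852))) (.node 1 (.leaf (nat_lit 0)) (.leaf (nat_lit 0))))) (.node 4 (.node 2 (.node 1 (.leaf (nat_lit 0)) (.leaf (nat_lit 0))) (.node 1 (.leaf (nat_lit 0)) (.leaf (nat_lit 596)))) (.node 2 (.node 1 (.leaf (nat_lit 0)) (.leaf (nat_lit 3997))) (.node 1 (.leaf (nat_lit 185)) (.leaf (nat_lit 1465)))))) (.node 8 (.node 4 (.node 2 (.node 1 (.leaf (nat_lit 117)) (.leaf (nat_lit 0))) (.node 1 (.leaf (nat_lit 0)) (.leaf (nat_lit 0)))) (.node 2 (.node 1 (.leaf (nat_lit 0)) (.leaf (nat_lit 0))) (.node 1 (.leaf (nat_lit 0)) (.leaf (nat_lit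 0))))) (.node 4 (.node 2 (.node 1 (.leaf (nat_lit 0)) (.leaf (nat_lit 737))) (.node 1 (.leaf (nat_lit 1765)) (.leaf (nat_lit 1572)))) (.node 2 (.node 1 (.leaf (nat_lit 980)) (.leaf (nat_lit 0))) (.node 1 (.leaf (nat_lit 0)) (.leaf (nat_lit 0))))))) (.node 16 (.node 8 (.node 4 (.node 2 (.node 1 (.leaf (nat_lit 0)) (.leaf (nat_lit 0))) (.node 1 (.leaf (nat_lit 0)) (.leaf (nat_lit 0)))) (.node 2 (.node 1 (.leaf (nat_lit 0)) (.leaf (nat_lit 0))) (.node 1 (.leaf (nat_lit 0)) (.leaf (nat_lit 0))))) (.node 4 (.node 2 (.node 1 (.leaf (nat_lit 0)) (.leaf (nat_lit 0))) (.node 1 (.leaf (nat_lit 0)) (.leaf (nat_lit 0)))) (.node 2 (.node 1 (.leaf (nat_lit 0)) (.leaf (nat_lit 0))) (.node 1 (.leaf (nat_lit 0)) (.leaf (nat_lit 0)))))) (.node 8 (.node 4 (.node 2 (.node 1 (.leaf (nat_lit 0)) (.leaf (nat_lit 0))) (.node 1 (.leaf (nat_lit 0)) (.leaf (nat_lit 0)))) (.node 2 (.node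 1 (.leaf (nat_lit 0)) (.leaf (nat_lit 500))) (.node 1 (.leaf (nat_lit 2389)) (.leaf (nat_lit 881))))) (.node 4 (.node 2 (.node 1 (.leaf (nat_lit 2469)) (.leaf (nat_lit 3417))) (.node 1 (.leaf (nat_lit 0)) (.leaf (nat_lit 0)))) (.node 2 (.node 1 (.leaf (nat_lit 0)) (.leaf (nat_lit 0))) (.node 1 (.leaf (nat_lit 0)) (.leaf (nat_lit 0)))))))))

noncomputable def vt8 : Tree :=
  .node 128 (.node 64 (.node 32 (.node 16 (.node 8 (.node 4 (.node 2 (.node 1 (.leaf (nat_lit 0)) (.leaf (nat_lit 0))) (.node 1 (.leaf (nat_lit 0)) (.leaf (nat_lit 0)))) (.node 2 (.node 1 (.leaf (nat_lit 0)) (.leaf (nat_lit 0))) (.node 1 (.leaf (nat_lit 0)) (.leaf (nat_lit 0))))) (.node 4 (.node 2 (.node 1 (.leaf (nat_lit 0)) (.leaf (nat_lit 0))) (.node 1 (.leaf (nat_lit 0)) (.leaf (nat_lit 3188)))) (.node 2 (.node 1 (.leaf (nat_lit 3233)) (.leaf (nat_lit 0))) (.node 1 (.leaf (nat_lit 0))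 (.leaf (nat_lit 0)))))) (.node 8 (.node 4 (.node 2 (.node 1 (.leaf (nat_lit 0)) (.leaf (nat_lit 0))) (.node 1 (.leaf (nat_lit 0)) (.leaf (nat_lit 0)))) (.node 2 (.node 1 (.leaf (nat_lit 0)) (.leaf (nat_lit 0))) (.node 1 (.leaf (nat_lit 0)) (.leaf (nat_lit 0))))) (.node 4 (.node 2 (.node 1 (.leaf (nat_lit 0)) (.leaf (nat_lit 0))) (.node 1 (.leaf (nat_lit 0)) (.leaf (nat_lit 0)))) (.node 2 (.node 1 (.leaf (nat_lit 0)) (.leaf (nat_lit 0))) (.node 1 (.leaf (nat_lit 0)) (.leaf (nat_lit 0))))))) (.node 16 (.node 8 (.node 4 (.node 2 (.node 1 (.leaf (nat_lit 0)) (.leaf (nat_lit 0))) (.node 1 (.leaf (nat_lit 0)) (.leaf (nat_lit 0)))) (.node 2 (.node 1 (.leaf (nat_lit 0)) (.leaf (nat_lit 3300))) (.node 1 (.leaf (nat_lit 0)) (.leaf (nat_lit 0))))) (.node 4 (.node 2 (.node 1 (.leaf (nat_lit 0)) (.leaf (nat_lit 0))) (.node 1 (.leaf (nat_lit 0)) (.leaf (nat_lit 0)))) (.node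 2 (.node 1 (.leaf (nat_lit 0)) (.leaf (nat_lit 0))) (.node 1 (.leaf (nat_lit 0)) (.leaf (nat_lit 0)))))) (.node 8 (.node 4 (.node 2 (.node 1 (.leaf (nat_lit 0)) (.leaf (nat_lit 0))) (.node 1 (.leaf (nat_lit 0)) (.leaf (nat_lit 0)))) (.node 2 (.node 1 (.leaf (nat_lit 0)) (.leaf (nat_lit 0))) (.node 1 (.leaf (nat_lit 0)) (.leaf (nat_lit 0))))) (.node 4 (.node 2 (.node 1 (.leaf (nat_lit 0)) (.leaf (nat_lit 0))) (.node 1 (.leaf (nat_lit 0)) (.leaf (nat_lit 0)))) (.node 2 (.node 1 (.leaf (nat_lit 0)) (.leaf (nat_lit 0))) (.node 1 (.leaf (nat_lit 0)) (.leaf (nat_lit 0)))))))) (.node 32 (.node 16 (.node 8 (.node 4 (.node 2 (.node 1 (.leaf (nat_lit 0)) (.leaf (nat_lit 0))) (.node 1 (.leaf (nat_lit 0)) (.leaf (nat_lit 0)))) (.node 2 (.node 1 (.leaf (nat_lit 0)) (.leaf (nat_lit 0))) (.node 1 (.leaf (nat_lit 0)) (.leaf (nat_lit 0))))) (.node 4 (.node 2 (.node 1 (.leaf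 (nat_lit 0)) (.leaf (nat_lit 0))) (.node 1 (.leaf (nat_lit 0)) (.leaf (nat_lit 0)))) (.node 2 (.node 1 (.leaf (nat_lit 0)) (.leaf (nat_lit 2733))) (.node 1 (.leaf (nat_lit 0)) (.leaf (nat_lit 0)))))) (.node 8 (.node 4 (.node 2 (.node 1 (.leaf (nat_lit 0)) (.leaf (nat_lit 0))) (.node 1 (.leaf (nat_lit 0)) (.leaf (nat_lit 0)))) (.node 2 (.node 1 (.leaf (nat_lit 0)) (.leaf (nat_lit 0))) (.node 1 (.leaf (nat_lit 0)) (.leaf (nat_lit 0))))) (.node 4 (.node 2 (.node 1 (.leaf (nat_lit 0)) (.leaf (nat_lit 0))) (.node 1 (.leaf (nat_lit 3993)) (.leaf (nat_lit 1749)))) (.node 2 (.node 1 (.leaf (nat_lit 181)) (.leaf (nat_lit 1461))) (.node 1 (.leaf (nat_lit 0)) (.leaf (nat_lit 0))))))) (.node 16 (.node 8 (.node 4 (.node 2 (.node 1 (.leaf (nat_lit 0)) (.leaf (nat_lit 0))) (.node 1 (.leaf (nat_lit 0)) (.leaf (nat_lit 0)))) (.node 2 (.node 1 (.leaf (nat_lit 1621)) (.leaf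 (nat_lit 1604))) (.node 1 (.leaf (nat_lit 0)) (.leaf (nat_lit 0))))) (.node 4 (.node 2 (.node 1 (.leaf (nat_lit 0)) (.leaf (nat_lit 0))) (.node 1 (.leaf (nat_lit 0)) (.leaf (nat_lit 0)))) (.node 2 (.node 1 (.leaf (nat_lit 0)) (.leaf (nat_lit 0))) (.node 1 (.leaf (nat_lit 0)) (.leaf (nat_lit 0)))))) (.node 8 (.node 4 (.node 2 (.node 1 (.leaf (nat_lit 0)) (.leaf (nat_lit 0))) (.node 1 (.leaf (nat_lit 0)) (.leaf (nat_lit 0)))) (.node 2 (.node 1 (.leaf (nat_lit 0)) (.leaf (nat_lit 0))) (.node 1 (.leaf (nat_lit 0)) (.leaf (nat_lit 0))))) (.node 4 (.node 2 (.node 1 (.leaf (nat_lit 0)) (.leaf (nat_lit 0))) (.node 1 (.leaf (nat_lit 0)) (.leaf (nat_lit 0)))) (.node 2 (.node 1 (.leaf (nat_lit 0)) (.leaf (nat_lit 0))) (.node 1 (.leaf (nat_lit 1188)) (.leaf (nat_lit 805))))))))) (.node 64 (.node 32 (.node 16 (.node 8 (.node 4 (.node 2 (.node 1 (.leaf (nat_lit 3297)) (.leaf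 (nat_lit 2421))) (.node 1 (.leaf (nat_lit 3561)) (.leaf (nat_lit 4093)))) (.node 2 (.node 1 (.leaf (nat_lit 0)) (.leaf (nat_lit 0))) (.node 1 (.leaf (nat_lit 0)) (.leaf (nat_lit 0))))) (.node 4 (.node 2 (.node 1 (.leaf (nat_lit 0)) (.leaf (nat_lit 0))) (.node 1 (.leaf (nat_lit 0)) (.leaf (nat_lit 0)))) (.node 2 (.node 1 (.leaf (nat_lit 0)) (.leaf (nat_lit 0))) (.node 1 (.leaf (nat_lit 0)) (.leaf (nat_lit 0)))))) (.node 8 (.node 4 (.node 2 (.node 1 (.leaf (nat_lit 0)) (.leaf (nat_lit 0))) (.node 1 (.leaf (nat_lit 0)) (.leaf (nat_lit 0)))) (.node 2 (.node 1 (.leaf (nat_lit 0)) (.leaf (nat_lit 0))) (.node 1 (.leaf (nat_lit 0)) (.leaf (nat_lit 0))))) (.node 4 (.node 2 (.node 1 (.leaf (nat_lit 0)) (.leaf (nat_lit 0))) (.node 1 (.leaf (nat_lit 0)) (.leaf (nat_lit 0)))) (.node 2 (.node 1 (.leaf (nat_lit 0)) (.leaf (nat_lit 0))) (.node 1 (.leaf (nat_lit 0)) (.leaf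 (nat_lit 0))))))) (.node 16 (.node 8 (.node 4 (.node 2 (.node 1 (.leaf (nat_lit 0)) (.leaf (nat_lit 0))) (.node 1 (.leaf (nat_lit 0)) (.leaf (nat_lit 0)))) (.node 2 (.node 1 (.leaf (nat_lit 0)) (.leaf (nat_lit 0))) (.node 1 (.leaf (nat_lit 0)) (.leaf (nat_lit 0))))) (.node 4 (.node 2 (.node 1 (.leaf (nat_lit 0)) (.leaf (nat_lit 0))) (.node 1 (.leaf (nat_lit 0)) (.leaf (nat_lit 0)))) (.node 2 (.node 1 (.leaf (nat_lit 0)) (.leaf (nat_lit 0))) (.node 1 (.leaf (nat_lit 0)) (.leaf (nat_lit 0)))))) (.node 8 (.node 4 (.node 2 (.node 1 (.leaf (nat_lit 0)) (.leaf (nat_lit 0))) (.node 1 (.leaf (nat_lit 0)) (.leaf (nat_lit 0)))) (.node 2 (.node 1 (.leaf (nat_lit 0)) (.leaf (nat_lit 0))) (.node 1 (.leaf (nat_lit 0)) (.leaf (nat_lit 0))))) (.node 4 (.node 2 (.node 1 (.leaf (nat_lit 849)) (.leaf (nat_lit 593))) (.node 1 (.leaf (nat_lit 3236)) (.leaf (nat_lit 0)))) (.node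 2 (.node 1 (.leaf (nat_lit 3156)) (.leaf (nat_lit 0))) (.node 1 (.leaf (nat_lit 0)) (.leaf (nat_lit 0)))))))) (.node 32 (.node 16 (.node 8 (.node 4 (.node 2 (.node 1 (.leaf (nat_lit 0)) (.leaf (nat_lit 0))) (.node 1 (.leaf (nat_lit 1513)) (.leaf (nat_lit 1717)))) (.node 2 (.node 1 (.leaf (nat_lit 213)) (.leaf (nat_lit 2773))) (.node 1 (.leaf (nat_lit 0)) (.leaf (nat_lit 0))))) (.node 4 (.node 2 (.node 1 (.leaf (nat_lit 0)) (.leaf (nat_lit 0))) (.node 1 (.leaf (nat_lit 0)) (.leaf (nat_lit 0)))) (.node 2 (.node 1 (.leaf (nat_lit 0)) (.leaf (nat_lit 0))) (.node 1 (.leaf (nat_lit 0)) (.leaf (nat_lit 3141)))))) (.node 8 (.node 4 (.node 2 (.node 1 (.leaf (nat_lit 884)) (.leaf (nat_lit 2533))) (.node 1 (.leaf (nat_lit 3481)) (.leaf (nat_lit 0)))) (.node 2 (.node 1 (.leaf (nat_lit 0)) (.leaf (nat_lit 0))) (.node 1 (.leaf (nat_lit 0)) (.leaf (nat_lit 0))))) (.node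 4 (.node 2 (.node 1 (.leaf (nat_lit 0)) (.leaf (nat_lit 0))) (.node 1 (.leaf (nat_lit 0)) (.leaf (nat_lit 0)))) (.node 2 (.node 1 (.leaf (nat_lit 0)) (.leaf (nat_lit 0))) (.node 1 (.leaf (nat_lit 0)) (.leaf (nat_lit 0))))))) (.node 16 (.node 8 (.node 4 (.node 2 (.node 1 (.leaf (nat_lit 0)) (.leaf (nat_lit 0))) (.node 1 (.leaf (nat_lit 0)) (.leaf (nat_lit 0)))) (.node 2 (.node 1 (.leaf (nat_lit 0)) (.leaf (nat_lit 0))) (.node 1 (.leaf (nat_lit 0)) (.leaf (nat_lit 0))))) (.node 4 (.node 2 (.node 1 (.leaf (nat_lit 0)) (.leaf (nat_lit 0))) (.node 1 (.leaf (nat_lit 0)) (.leaf (nat_lit 0)))) (.node 2 (.node 1 (.leaf (nat_lit 0)) (.leaf (nat_lit 0))) (.node 1 (.leaf (nat_lit 0)) (.leaf (nat_lit 0)))))) (.node 8 (.node 4 (.node 2 (.node 1 (.leaf (nat_lit 0)) (.leaf (nat_lit 0))) (.node 1 (.leaf (nat_lit 0)) (.leaf (nat_lit 929)))) (.node 2 (.node 1 (.leaf (nat_lit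 2041)) (.leaf (nat_lit 0))) (.node 1 (.leaf (nat_lit 1881)) (.leaf (nat_lit 3069))))) (.node 4 (.node 2 (.node 1 (.leaf (nat_lit 0)) (.leaf (nat_lit 0))) (.node 1 (.leaf (nat_lit 0)) (.leaf (nat_lit 0)))) (.node 2 (.node 1 (.leaf (nat_lit 0)) (.leaf (nat_lit 0))) (.node 1 (.leaf (nat_lit 0)) (.leaf (nat_lit 0)))))))))

noncomputable def vt9 : Tree :=
  .node 128 (.node 64 (.node 32 (.node 16 (.node 8 (.node 4 (.node 2 (.node 1 (.leaf (nat_lit 0)) (.leaf (nat_lit 0))) (.node 1 (.leaf (nat_lit 0)) (.leaf (nat_lit 0)))) (.node 2 (.node 1 (.leaf (nat_lit 0)) (.leaf (nat_lit 0))) (.node 1 (.leaf (nat_lit 0)) (.leaf (nat_lit 0))))) (.node 4 (.node 2 (.node 1 (.leaf (nat_lit 0)) (.leaf (nat_lit 0))) (.node 1 (.leaf (nat_lit 0)) (.leaf (nat_lit 0)))) (.node 2 (.node 1 (.leaf (nat_lit 0)) (.leaf (nat_lit 0))) (.node 1 (.leaf (nat_lit 0)) (.leaf (nat_lit 0)))))) (.node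 8 (.node 4 (.node 2 (.node 1 (.leaf (nat_lit 0)) (.leaf (nat_lit 0))) (.node 1 (.leaf (nat_lit 0)) (.leaf (nat_lit 0)))) (.node 2 (.node 1 (.leaf (nat_lit 0)) (.leaf (nat_lit 0))) (.node 1 (.leaf (nat_lit 0)) (.leaf (nat_lit 0))))) (.node 4 (.node 2 (.node 1 (.leaf (nat_lit 0)) (.leaf (nat_lit 0))) (.node 1 (.leaf (nat_lit 0)) (.leaf (nat_lit 0)))) (.node 2 (.node 1 (.leaf (nat_lit 0)) (.leaf (nat_lit 0))) (.node 1 (.leaf (nat_lit 0)) (.leaf (nat_lit 0))))))) (.node 16 (.node 8 (.node 4 (.node 2 (.node 1 (.leaf (nat_lit 0)) (.leaf (nat_lit 0))) (.node 1 (.leaf (nat_lit 0)) (.leaf (nat_lit 0)))) (.node 2 (.node 1 (.leaf (nat_lit 0)) (.leaf (nat_lit 0))) (.node 1 (.leaf (nat_lit 0)) (.leaf (nat_lit 0))))) (.node 4 (.node 2 (.node 1 (.leaf (nat_lit 0)) (.leaf (nat_lit 0))) (.node 1 (.leaf (nat_lit 0)) (.leaf (nat_lit 0)))) (.node 2 (.node 1 (.leaf (nat_lit 0))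 (.leaf (nat_lit 0))) (.node 1 (.leaf (nat_lit 0)) (.leaf (nat_lit 0)))))) (.node 8 (.node 4 (.node 2 (.node 1 (.leaf (nat_lit 0)) (.leaf (nat_lit 0))) (.node 1 (.leaf (nat_lit 0)) (.leaf (nat_lit 0)))) (.node 2 (.node 1 (.leaf (nat_lit 0)) (.leaf (nat_lit 0))) (.node 1 (.leaf (nat_lit 0)) (.leaf (nat_lit 0))))) (.node 4 (.node 2 (.node 1 (.leaf (nat_lit 0)) (.leaf (nat_lit 0))) (.node 1 (.leaf (nat_lit 0)) (.leaf (nat_lit 0)))) (.node 2 (.node 1 (.leaf (nat_lit 4089)) (.leaf (nat_lit 0))) (.node 1 (.leaf (nat_lit 0)) (.leaf (nat_lit 0)))))))) (.node 32 (.node 16 (.node 8 (.node 4 (.node 2 (.node 1 (.leaf (nat_lit 0)) (.leaf (nat_lit 0))) (.node 1 (.leaf (nat_lit 0)) (.leaf (nat_lit 0)))) (.node 2 (.node 1 (.leaf (nat_lit 0)) (.leaf (nat_lit 0))) (.node 1 (.leaf (nat_lit 0)) (.leaf (nat_lit 0))))) (.node 4 (.node 2 (.node 1 (.leaf (nat_lit 0)) (.leaf (nat_lit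 0))) (.node 1 (.leaf (nat_lit 901)) (.leaf (nat_lit 1509)))) (.node 2 (.node 1 (.leaf (nat_lit 2517)) (.leaf (nat_lit 3513))) (.node 1 (.leaf (nat_lit 0)) (.leaf (nat_lit 0)))))) (.node 8 (.node 4 (.node 2 (.node 1 (.leaf (nat_lit 0)) (.leaf (nat_lit 0))) (.node 1 (.leaf (nat_lit 0)) (.leaf (nat_lit 0)))) (.node 2 (.node 1 (.leaf (nat_lit 0)) (.leaf (nat_lit 3577))) (.node 1 (.leaf (nat_lit 0)) (.leaf (nat_lit 0))))) (.node 4 (.node 2 (.node 1 (.leaf (nat_lit 0)) (.leaf (nat_lit 0))) (.node 1 (.leaf (nat_lit 0)) (.leaf (nat_lit 0)))) (.node 2 (.node 1 (.leaf (nat_lit 0)) (.leaf (nat_lit 0))) (.node 1 (.leaf (nat_lit 0)) (.leaf (nat_lit 0))))))) (.node 16 (.node 8 (.node 4 (.node 2 (.node 1 (.leaf (nat_lit 0)) (.leaf (nat_lit 0))) (.node 1 (.leaf (nat_lit 0)) (.leaf (nat_lit 0)))) (.node 2 (.node 1 (.leaf (nat_lit 0)) (.leaf (nat_lit 0))) (.node 1 (.leaf (nat_lit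 0)) (.leaf (nat_lit 0))))) (.node 4 (.node 2 (.node 1 (.leaf (nat_lit 0)) (.leaf (nat_lit 0))) (.node 1 (.leaf (nat_lit 0)) (.leaf (nat_lit 0)))) (.node 2 (.node 1 (.leaf (nat_lit 0)) (.leaf (nat_lit 0))) (.node 1 (.leaf (nat_lit 0)) (.leaf (nat_lit 0)))))) (.node 8 (.node 4 (.node 2 (.node 1 (.leaf (nat_lit 0)) (.leaf (nat_lit 0))) (.node 1 (.leaf (nat_lit 0)) (.leaf (nat_lit 0)))) (.node 2 (.node 1 (.leaf (nat_lit 0)) (.leaf (nat_lit 0))) (.node 1 (.leaf (nat_lit 0)) (.leaf (nat_lit 0))))) (.node 4 (.node 2 (.node 1 (.leaf (nat_lit 0)) (.leaf (nat_lit 0))) (.node 1 (.leaf (nat_lit 837)) (.leaf (nat_lit 3153)))) (.node 2 (.node 1 (.leaf (nat_lit 3109)) (.leaf (nat_lit 537))) (.node 1 (.leaf (nat_lit 0)) (.leaf (nat_lit 2025))))))))) (.node 64 (.node 32 (.node 16 (.node 8 (.node 4 (.node 2 (.node 1 (.leaf (nat_lit 2973)) (.leaf (nat_lit 1369))) (.node 1 (.leaf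 (nat_lit 0)) (.leaf (nat_lit 0)))) (.node 2 (.node 1 (.leaf (nat_lit 0)) (.leaf (nat_lit 0))) (.node 1 (.leaf (nat_lit 0)) (.leaf (nat_lit 0))))) (.node 4 (.node 2 (.node 1 (.leaf (nat_lit 0)) (.leaf (nat_lit 0))) (.node 1 (.leaf (nat_lit 0)) (.leaf (nat_lit 0)))) (.node 2 (.node 1 (.leaf (nat_lit 0)) (.leaf (nat_lit 0))) (.node 1 (.leaf (nat_lit 0)) (.leaf (nat_lit 0)))))) (.node 8 (.node 4 (.node 2 (.node 1 (.leaf (nat_lit 0)) (.leaf (nat_lit 0))) (.node 1 (.leaf (nat_lit 0)) (.leaf (nat_lit 0)))) (.node 2 (.node 1 (.leaf (nat_lit 0)) (.leaf (nat_lit 0))) (.node 1 (.leaf (nat_lit 0)) (.leaf (nat_lit 0))))) (.node 4 (.node 2 (.node 1 (.leaf (nat_lit 0)) (.leaf (nat_lit 0))) (.node 1 (.leaf (nat_lit 0)) (.leaf (nat_lit 0)))) (.node 2 (.node 1 (.leaf (nat_lit 0)) (.leaf (nat_lit 0))) (.node 1 (.leaf (nat_lit 0)) (.leaf (nat_lit 0))))))) (.node 16 (.node 8 (.node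 4 (.node 2 (.node 1 (.leaf (nat_lit 0)) (.leaf (nat_lit 0))) (.node 1 (.leaf (nat_lit 0)) (.leaf (nat_lit 0)))) (.node 2 (.node 1 (.leaf (nat_lit 0)) (.leaf (nat_lit 0))) (.node 1 (.leaf (nat_lit 0)) (.leaf (nat_lit 0))))) (.node 4 (.node 2 (.node 1 (.leaf (nat_lit 0)) (.leaf (nat_lit 0))) (.node 1 (.leaf (nat_lit 0)) (.leaf (nat_lit 0)))) (.node 2 (.node 1 (.leaf (nat_lit 0)) (.leaf (nat_lit 0))) (.node 1 (.leaf (nat_lit 0)) (.leaf (nat_lit 0)))))) (.node 8 (.node 4 (.node 2 (.node 1 (.leaf (nat_lit 0)) (.leaf (nat_lit 0))) (.node 1 (.leaf (nat_lit 0)) (.leaf (nat_lit 0)))) (.node 2 (.node 1 (.leaf (nat_lit 0)) (.leaf (nat_lit 0))) (.node 1 (.leaf (nat_lit 0)) (.leaf (nat_lit 0))))) (.node 4 (.node 2 (.node 1 (.leaf (nat_lit 0)) (.leaf (nat_lit 0))) (.node 1 (.leaf (nat_lit 0)) (.leaf (nat_lit 0)))) (.node 2 (.node 1 (.leaf (nat_lit 932)) (.leaf (nat_lit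 0))) (.node 1 (.leaf (nat_lit 0)) (.leaf (nat_lit 0)))))))) (.node 32 (.node 16 (.node 8 (.node 4 (.node 2 (.node 1 (.leaf (nat_lit 0)) (.leaf (nat_lit 3093))) (.node 1 (.leaf (nat_lit 2677)) (.leaf (nat_lit 2485)))) (.node 2 (.node 1 (.leaf (nat_lit 3433)) (.leaf (nat_lit 0))) (.node 1 (.leaf (nat_lit 0)) (.leaf (nat_lit 0))))) (.node 4 (.node 2 (.node 1 (.leaf (nat_lit 0)) (.leaf (nat_lit 0))) (.node 1 (.leaf (nat_lit 0)) (.leaf (nat_lit 0)))) (.node 2 (.node 1 (.leaf (nat_lit 0)) (.leaf (nat_lit 0))) (.node 1 (.leaf (nat_lit 2249)) (.leaf (nat_lit 0)))))) (.node 8 (.node 4 (.node 2 (.node 1 (.leaf (nat_lit 1945)) (.leaf (nat_lit 2941))) (.node 1 (.leaf (nat_lit 0)) (.leaf (nat_lit 0)))) (.node 2 (.node 1 (.leaf (nat_lit 0)) (.leaf (nat_lit 0))) (.node 1 (.leaf (nat_lit 0)) (.leaf (nat_lit 0))))) (.node 4 (.node 2 (.node 1 (.leaf (nat_lit 0)) (.leaf (nat_lit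 0))) (.node 1 (.leaf (nat_lit 0)) (.leaf (nat_lit 0)))) (.node 2 (.node 1 (.leaf (nat_lit 0)) (.leaf (nat_lit 0))) (.node 1 (.leaf (nat_lit 0)) (.leaf (nat_lit 0))))))) (.node 16 (.node 8 (.node 4 (.node 2 (.node 1 (.leaf (nat_lit 0)) (.leaf (nat_lit 0))) (.node 1 (.leaf (nat_lit 0)) (.leaf (nat_lit 0)))) (.node 2 (.node 1 (.leaf (nat_lit 0)) (.leaf (nat_lit 0))) (.node 1 (.leaf (nat_lit 0)) (.leaf (nat_lit 0))))) (.node 4 (.node 2 (.node 1 (.leaf (nat_lit 0)) (.leaf (nat_lit 0))) (.node 1 (.leaf (nat_lit 0)) (.leaf (nat_lit 0)))) (.node 2 (.node 1 (.leaf (nat_lit 0)) (.leaf (nat_lit 0))) (.node 1 (.leaf (nat_lit 0)) (.leaf (nat_lit 0)))))) (.node 8 (.node 4 (.node 2 (.node 1 (.leaf (nat_lit 0)) (.leaf (nat_lit 0))) (.node 1 (.leaf (nat_lit 0)) (.leaf (nat_lit 0)))) (.node 2 (.node 1 (.leaf (nat_lit 3757)) (.leaf (nat_lit 0))) (.node 1 (.leaf (nat_lit 0))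 (.leaf (nat_lit 3837))))) (.node 4 (.node 2 (.node 1 (.leaf (nat_lit 0)) (.leaf (nat_lit 0))) (.node 1 (.leaf (nat_lit 0)) (.leaf (nat_lit 0)))) (.node 2 (.node 1 (.leaf (nat_lit 0)) (.leaf (nat_lit 0))) (.node 1 (.leaf (nat_lit 0)) (.leaf (nat_lit 0)))))))))

noncomputable def vt10 : Tree :=
  .node 128 (.node 64 (.node 32 (.node 16 (.node 8 (.node 4 (.node 2 (.node 1 (.leaf (nat_lit 0)) (.leaf (nat_lit 0))) (.node 1 (.leaf (nat_lit 0)) (.leaf (nat_lit 0)))) (.node 2 (.node 1 (.leaf (nat_lit 0)) (.leaf (nat_lit 0))) (.node 1 (.leaf (nat_lit 0)) (.leaf (nat_lit 0))))) (.node 4 (.node 2 (.node 1 (.leaf (nat_lit 0)) (.leaf (nat_lit 0))) (.node 1 (.leaf (nat_lit 0)) (.leaf (nat_lit 0)))) (.node 2 (.node 1 (.leaf (nat_lit 0)) (.leaf (nat_lit 0))) (.node 1 (.leaf (nat_lit 0)) (.leaf (nat_lit 0)))))) (.node 8 (.node 4 (.node 2 (.node 1 (.leaf (nat_lit 0)) (.leaf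 (nat_lit 0))) (.node 1 (.leaf (nat_lit 0)) (.leaf (nat_lit 0)))) (.node 2 (.node 1 (.leaf (nat_lit 0)) (.leaf (nat_lit 0))) (.node 1 (.leaf (nat_lit 0)) (.leaf (nat_lit 0))))) (.node 4 (.node 2 (.node 1 (.leaf (nat_lit 0)) (.leaf (nat_lit 0))) (.node 1 (.leaf (nat_lit 0)) (.leaf (nat_lit 0)))) (.node 2 (.node 1 (.leaf (nat_lit 0)) (.leaf (nat_lit 0))) (.node 1 (.leaf (nat_lit 0)) (.leaf (nat_lit 0))))))) (.node 16 (.node 8 (.node 4 (.node 2 (.node 1 (.leaf (nat_lit 0)) (.leaf (nat_lit 0))) (.node 1 (.leaf (nat_lit 0)) (.leaf (nat_lit 0)))) (.node 2 (.node 1 (.leaf (nat_lit 0)) (.leaf (nat_lit 0))) (.node 1 (.leaf (nat_lit 0)) (.leaf (nat_lit 0))))) (.node 4 (.node 2 (.node 1 (.leaf (nat_lit 0)) (.leaf (nat_lit 0))) (.node 1 (.leaf (nat_lit 0)) (.leaf (nat_lit 0)))) (.node 2 (.node 1 (.leaf (nat_lit 0)) (.leaf (nat_lit 0))) (.node 1 (.leaf (nat_lit 0)) (.leaf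 (nat_lit 0)))))) (.node 8 (.node 4 (.node 2 (.node 1 (.leaf (nat_lit 821)) (.leaf (nat_lit 1365))) (.node 1 (.leaf (nat_lit 0)) (.leaf (nat_lit 0)))) (.node 2 (.node 1 (.leaf (nat_lit 0)) (.leaf (nat_lit 0))) (.node 1 (.leaf (nat_lit 0)) (.leaf (nat_lit 0))))) (.node 4 (.node 2 (.node 1 (.leaf (nat_lit 0)) (.leaf (nat_lit 0))) (.node 1 (.leaf (nat_lit 0)) (.leaf (nat_lit 0)))) (.node 2 (.node 1 (.leaf (nat_lit 0)) (.leaf (nat_lit 0))) (.node 1 (.leaf (nat_lit 0)) (.leaf (nat_lit 0)))))))) (.node 32 (.node 16 (.node 8 (.node 4 (.node 2 (.node 1 (.leaf (nat_lit 3205)) (.leaf (nat_lit 585))) (.node 1 (.leaf (nat_lit 0)) (.leaf (nat_lit 1977)))) (.node 2 (.node 1 (.leaf (nat_lit 2925)) (.leaf (nat_lit 0))) (.node 1 (.leaf (nat_lit 0)) (.leaf (nat_lit 0))))) (.node 4 (.node 2 (.node 1 (.leaf (nat_lit 0)) (.leaf (nat_lit 0))) (.node 1 (.leaf (nat_lit 0)) (.leaf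 (nat_lit 0)))) (.node 2 (.node 1 (.leaf (nat_lit 0)) (.leaf (nat_lit 2989))) (.node 1 (.leaf (nat_lit 0)) (.leaf (nat_lit 0)))))) (.node 8 (.node 4 (.node 2 (.node 1 (.leaf (nat_lit 0)) (.leaf (nat_lit 0))) (.node 1 (.leaf (nat_lit 0)) (.leaf (nat_lit 0)))) (.node 2 (.node 1 (.leaf (nat_lit 0)) (.leaf (nat_lit 0))) (.node 1 (.leaf (nat_lit 0)) (.leaf (nat_lit 0))))) (.node 4 (.node 2 (.node 1 (.leaf (nat_lit 0)) (.leaf (nat_lit 0))) (.node 1 (.leaf (nat_lit 0)) (.leaf (nat_lit 0)))) (.node 2 (.node 1 (.leaf (nat_lit 0)) (.leaf (nat_lit 0))) (.node 1 (.leaf (nat_lit 0)) (.leaf (nat_lit 0))))))) (.node 16 (.node 8 (.node 4 (.node 2 (.node 1 (.leaf (nat_lit 0)) (.leaf (nat_lit 0))) (.node 1 (.leaf (nat_lit 0)) (.leaf (nat_lit 0)))) (.node 2 (.node 1 (.leaf (nat_lit 0)) (.leaf (nat_lit 0))) (.node 1 (.leaf (nat_lit 0)) (.leaf (nat_lit 0))))) (.node 4 (.node 2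 (.node 1 (.leaf (nat_lit 0)) (.leaf (nat_lit 0))) (.node 1 (.leaf (nat_lit 0)) (.leaf (nat_lit 0)))) (.node 2 (.node 1 (.leaf (nat_lit 0)) (.leaf (nat_lit 0))) (.node 1 (.leaf (nat_lit 0)) (.leaf (nat_lit 0)))))) (.node 8 (.node 4 (.node 2 (.node 1 (.leaf (nat_lit 0)) (.leaf (nat_lit 0))) (.node 1 (.leaf (nat_lit 0)) (.leaf (nat_lit 0)))) (.node 2 (.node 1 (.leaf (nat_lit 0)) (.leaf (nat_lit 0))) (.node 1 (.leaf (nat_lit 0)) (.leaf (nat_lit 0))))) (.node 4 (.node 2 (.node 1 (.leaf (nat_lit 0)) (.leaf (nat_lit 0))) (.node 1 (.leaf (nat_lit 0)) (.leaf (nat_lit 789)))) (.node 2 (.node 1 (.leaf (nat_lit 713)) (.leaf (nat_lit 0))) (.node 1 (.leaf (nat_lit 2073)) (.leaf (nat_lit 317))))))))) (.node 64 (.node 32 (.node 16 (.node 8 (.node 4 (.node 2 (.node 1 (.leaf (nat_lit 0)) (.leaf (nat_lit 0))) (.node 1 (.leaf (nat_lit 3741)) (.leaf (nat_lit 3269)))) (.node 2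 (.node 1 (.leaf (nat_lit 2725)) (.leaf (nat_lit 0))) (.node 1 (.leaf (nat_lit 0)) (.leaf (nat_lit 0))))) (.node 4 (.node 2 (.node 1 (.leaf (nat_lit 0)) (.leaf (nat_lit 0))) (.node 1 (.leaf (nat_lit 0)) (.leaf (nat_lit 0)))) (.node 2 (.node 1 (.leaf (nat_lit 0)) (.leaf (nat_lit 0))) (.node 1 (.leaf (nat_lit 0)) (.leaf (nat_lit 0)))))) (.node 8 (.node 4 (.node 2 (.node 1 (.leaf (nat_lit 0)) (.leaf (nat_lit 0))) (.node 1 (.leaf (nat_lit 0)) (.leaf (nat_lit 0)))) (.node 2 (.node 1 (.leaf (nat_lit 0)) (.leaf (nat_lit 0))) (.node 1 (.leaf (nat_lit 0)) (.leaf (nat_lit 0))))) (.node 4 (.node 2 (.node 1 (.leaf (nat_lit 0)) (.leaf (nat_lit 0))) (.node 1 (.leaf (nat_lit 0)) (.leaf (nat_lit 0)))) (.node 2 (.node 1 (.leaf (nat_lit 0)) (.leaf (nat_lit 0))) (.node 1 (.leaf (nat_lit 0)) (.leaf (nat_lit 0))))))) (.node 16 (.node 8 (.node 4 (.node 2 (.node 1 (.leaf (nat_lit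 0)) (.leaf (nat_lit 0))) (.node 1 (.leaf (nat_lit 0)) (.leaf (nat_lit 0)))) (.node 2 (.node 1 (.leaf (nat_lit 0)) (.leaf (nat_lit 0))) (.node 1 (.leaf (nat_lit 0)) (.leaf (nat_lit 0))))) (.node 4 (.node 2 (.node 1 (.leaf (nat_lit 0)) (.leaf (nat_lit 0))) (.node 1 (.leaf (nat_lit 0)) (.leaf (nat_lit 0)))) (.node 2 (.node 1 (.leaf (nat_lit 0)) (.leaf (nat_lit 0))) (.node 1 (.leaf (nat_lit 0)) (.leaf (nat_lit 0)))))) (.node 8 (.node 4 (.node 2 (.node 1 (.leaf (nat_lit 0)) (.leaf (nat_lit 0))) (.node 1 (.leaf (nat_lit 0)) (.leaf (nat_lit 0)))) (.node 2 (.node 1 (.leaf (nat_lit 0)) (.leaf (nat_lit 0))) (.node 1 (.leaf (nat_lit 0)) (.leaf (nat_lit 0))))) (.node 4 (.node 2 (.node 1 (.leaf (nat_lit 0)) (.leaf (nat_lit 0))) (.node 1 (.leaf (nat_lit 0)) (.leaf (nat_lit 0)))) (.node 2 (.node 1 (.leaf (nat_lit 0)) (.leaf (nat_lit 0))) (.node 1 (.leaf (nat_lit 0)) (.leaf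 (nat_lit 0)))))))) (.node 32 (.node 16 (.node 8 (.node 4 (.node 2 (.node 1 (.leaf (nat_lit 0)) (.leaf (nat_lit 0))) (.node 1 (.leaf (nat_lit 0)) (.leaf (nat_lit 2105)))) (.node 2 (.node 1 (.leaf (nat_lit 0)) (.leaf (nat_lit 1897))) (.node 1 (.leaf (nat_lit 3037)) (.leaf (nat_lit 0))))) (.node 4 (.node 2 (.node 1 (.leaf (nat_lit 0)) (.leaf (nat_lit 0))) (.node 1 (.leaf (nat_lit 0)) (.leaf (nat_lit 0)))) (.node 2 (.node 1 (.leaf (nat_lit 0)) (.leaf (nat_lit 0))) (.node 1 (.leaf (nat_lit 0)) (.leaf (nat_lit 0)))))) (.node 8 (.node 4 (.node 2 (.node 1 (.leaf (nat_lit 0)) (.leaf (nat_lit 1165))) (.node 1 (.leaf (nat_lit 0)) (.leaf (nat_lit 0)))) (.node 2 (.node 1 (.leaf (nat_lit 3709)) (.leaf (nat_lit 0))) (.node 1 (.leaf (nat_lit 0)) (.leaf (nat_lit 0))))) (.node 4 (.node 2 (.node 1 (.leaf (nat_lit 0)) (.leaf (nat_lit 0))) (.node 1 (.leaf (nat_lit 0)) (.leaf (nat_lit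 0)))) (.node 2 (.node 1 (.leaf (nat_lit 0)) (.leaf (nat_lit 0))) (.node 1 (.leaf (nat_lit 0)) (.leaf (nat_lit 0))))))) (.node 16 (.node 8 (.node 4 (.node 2 (.node 1 (.leaf (nat_lit 0)) (.leaf (nat_lit 0))) (.node 1 (.leaf (nat_lit 0)) (.leaf (nat_lit 0)))) (.node 2 (.node 1 (.leaf (nat_lit 0)) (.leaf (nat_lit 0))) (.node 1 (.leaf (nat_lit 0)) (.leaf (nat_lit 0))))) (.node 4 (.node 2 (.node 1 (.leaf (nat_lit 0)) (.leaf (nat_lit 0))) (.node 1 (.leaf (nat_lit 0)) (.leaf (nat_lit 0)))) (.node 2 (.node 1 (.leaf (nat_lit 0)) (.leaf (nat_lit 0))) (.node 1 (.leaf (nat_lit 0)) (.leaf (nat_lit 0)))))) (.node 8 (.node 4 (.node 2 (.node 1 (.leaf (nat_lit 0)) (.leaf (nat_lit 0))) (.node 1 (.leaf (nat_lit 0)) (.leaf (nat_lit 0)))) (.node 2 (.node 1 (.leaf (nat_lit 0)) (.leaf (nat_lit 0))) (.node 1 (.leaf (nat_lit 0)) (.leaf (nat_lit 0))))) (.node 4 (.node 2 (.node 1 (.leaf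 (nat_lit 0)) (.leaf (nat_lit 0))) (.node 1 (.leaf (nat_lit 0)) (.leaf (nat_lit 0)))) (.node 2 (.node 1 (.leaf (nat_lit 0)) (.leaf (nat_lit 0))) (.node 1 (.leaf (nat_lit 0)) (.leaf (nat_lit 0)))))))))

noncomputable def vt11 : Tree :=
  .node 128 (.node 64 (.node 32 (.node 16 (.node 8 (.node 4 (.node 2 (.node 1 (.leaf (nat_lit 0)) (.leaf (nat_lit 0))) (.node 1 (.leaf (nat_lit 0)) (.leaf (nat_lit 0)))) (.node 2 (.node 1 (.leaf (nat_lit 0)) (.leaf (nat_lit 0))) (.node 1 (.leaf (nat_lit 0)) (.leaf (nat_lit 0))))) (.node 4 (.node 2 (.node 1 (.leaf (nat_lit 0)) (.leaf (nat_lit 0))) (.node 1 (.leaf (nat_lit 0)) (.leaf (nat_lit 0)))) (.node 2 (.node 1 (.leaf (nat_lit 0)) (.leaf (nat_lit 0))) (.node 1 (.leaf (nat_lit 0)) (.leaf (nat_lit 0)))))) (.node 8 (.node 4 (.node 2 (.node 1 (.leaf (nat_lit 0)) (.leaf (nat_lit 0))) (.node 1 (.leaf (nat_lit 0)) (.leaf (nat_lit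 0)))) (.node 2 (.node 1 (.leaf (nat_lit 0)) (.leaf (nat_lit 0))) (.node 1 (.leaf (nat_lit 0)) (.leaf (nat_lit 0))))) (.node 4 (.node 2 (.node 1 (.leaf (nat_lit 0)) (.leaf (nat_lit 0))) (.node 1 (.leaf (nat_lit 0)) (.leaf (nat_lit 0)))) (.node 2 (.node 1 (.leaf (nat_lit 0)) (.leaf (nat_lit 0))) (.node 1 (.leaf (nat_lit 0)) (.leaf (nat_lit 0))))))) (.node 16 (.node 8 (.node 4 (.node 2 (.node 1 (.leaf (nat_lit 0)) (.leaf (nat_lit 0))) (.node 1 (.leaf (nat_lit 0)) (.leaf (nat_lit 0)))) (.node 2 (.node 1 (.leaf (nat_lit 0)) (.leaf (nat_lit 0))) (.node 1 (.leaf (nat_lit 0)) (.leaf (nat_lit 3125))))) (.node 4 (.node 2 (.node 1 (.leaf (nat_lit 965)) (.leaf (nat_lit 553))) (.node 1 (.leaf (nat_lit 0)) (.leaf (nat_lit 0)))) (.node 2 (.node 1 (.leaf (nat_lit 0)) (.leaf (nat_lit 0))) (.node 1 (.leaf (nat_lit 0)) (.leaf (nat_lit 0)))))) (.node 8 (.node 4 (.node 2 (.node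 1 (.leaf (nat_lit 0)) (.leaf (nat_lit 0))) (.node 1 (.leaf (nat_lit 0)) (.leaf (nat_lit 0)))) (.node 2 (.node 1 (.leaf (nat_lit 0)) (.leaf (nat_lit 0))) (.node 1 (.leaf (nat_lit 0)) (.leaf (nat_lit 0))))) (.node 4 (.node 2 (.node 1 (.leaf (nat_lit 0)) (.leaf (nat_lit 2121))) (.node 1 (.leaf (nat_lit 461)) (.leaf (nat_lit 0)))) (.node 2 (.node 1 (.leaf (nat_lit 0)) (.leaf (nat_lit 3693))) (.node 1 (.leaf (nat_lit 0)) (.leaf (nat_lit 0)))))))) (.node 32 (.node 16 (.node 8 (.node 4 (.node 2 (.node 1 (.leaf (nat_lit 0)) (.leaf (nat_lit 0))) (.node 1 (.leaf (nat_lit 0)) (.leaf (nat_lit 0)))) (.node 2 (.node 1 (.leaf (nat_lit 0)) (.leaf (nat_lit 0))) (.node 1 (.leaf (nat_lit 0)) (.leaf (nat_lit 0))))) (.node 4 (.node 2 (.node 1 (.leaf (nat_lit 0)) (.leaf (nat_lit 0))) (.node 1 (.leaf (nat_lit 0)) (.leaf (nat_lit 0)))) (.node 2 (.node 1 (.leaf (nat_lit 0)) (.leaf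 (nat_lit 0))) (.node 1 (.leaf (nat_lit 0)) (.leaf (nat_lit 0)))))) (.node 8 (.node 4 (.node 2 (.node 1 (.leaf (nat_lit 0)) (.leaf (nat_lit 0))) (.node 1 (.leaf (nat_lit 0)) (.leaf (nat_lit 0)))) (.node 2 (.node 1 (.leaf (nat_lit 0)) (.leaf (nat_lit 0))) (.node 1 (.leaf (nat_lit 0)) (.leaf (nat_lit 0))))) (.node 4 (.node 2 (.node 1 (.leaf (nat_lit 0)) (.leaf (nat_lit 0))) (.node 1 (.leaf (nat_lit 0)) (.leaf (nat_lit 0)))) (.node 2 (.node 1 (.leaf (nat_lit 0)) (.leaf (nat_lit 0))) (.node 1 (.leaf (nat_lit 0)) (.leaf (nat_lit 0))))))) (.node 16 (.node 8 (.node 4 (.node 2 (.node 1 (.leaf (nat_lit 0)) (.leaf (nat_lit 0))) (.node 1 (.leaf (nat_lit 0)) (.leaf (nat_lit 0)))) (.node 2 (.node 1 (.leaf (nat_lit 0)) (.leaf (nat_lit 0))) (.node 1 (.leaf (nat_lit 0)) (.leaf (nat_lit 0))))) (.node 4 (.node 2 (.node 1 (.leaf (nat_lit 0)) (.leaf (nat_lit 0))) (.node 1 (.leaf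 (nat_lit 0)) (.leaf (nat_lit 0)))) (.node 2 (.node 1 (.leaf (nat_lit 0)) (.leaf (nat_lit 0))) (.node 1 (.leaf (nat_lit 0)) (.leaf (nat_lit 0)))))) (.node 8 (.node 4 (.node 2 (.node 1 (.leaf (nat_lit 0)) (.leaf (nat_lit 0))) (.node 1 (.leaf (nat_lit 0)) (.leaf (nat_lit 0)))) (.node 2 (.node 1 (.leaf (nat_lit 0)) (.leaf (nat_lit 0))) (.node 1 (.leaf (nat_lit 0)) (.leaf (nat_lit 0))))) (.node 4 (.node 2 (.node 1 (.leaf (nat_lit 569)) (.leaf (nat_lit 397))) (.node 1 (.leaf (nat_lit 0)) (.leaf (nat_lit 1085)))) (.node 2 (.node 1 (.leaf (nat_lit 0)) (.leaf (nat_lit 0))) (.node 1 (.leaf (nat_lit 2185)) (.leaf (nat_lit 0))))))))) (.node 64 (.node 32 (.node 16 (.node 8 (.node 4 (.node 2 (.node 1 (.leaf (nat_lit 0)) (.leaf (nat_lit 0))) (.node 1 (.leaf (nat_lit 0)) (.leaf (nat_lit 0)))) (.node 2 (.node 1 (.leaf (nat_lit 0)) (.leaf (nat_lit 0))) (.node 1 (.leaf (nat_lit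 0)) (.leaf (nat_lit 0))))) (.node 4 (.node 2 (.node 1 (.leaf (nat_lit 0)) (.leaf (nat_lit 0))) (.node 1 (.leaf (nat_lit 0)) (.leaf (nat_lit 0)))) (.node 2 (.node 1 (.leaf (nat_lit 0)) (.leaf (nat_lit 0))) (.node 1 (.leaf (nat_lit 0)) (.leaf (nat_lit 0)))))) (.node 8 (.node 4 (.node 2 (.node 1 (.leaf (nat_lit 0)) (.leaf (nat_lit 0))) (.node 1 (.leaf (nat_lit 0)) (.leaf (nat_lit 0)))) (.node 2 (.node 1 (.leaf (nat_lit 0)) (.leaf (nat_lit 0))) (.node 1 (.leaf (nat_lit 0)) (.leaf (nat_lit 0))))) (.node 4 (.node 2 (.node 1 (.leaf (nat_lit 0)) (.leaf (nat_lit 0))) (.node 1 (.leaf (nat_lit 0)) (.leaf (nat_lit 0)))) (.node 2 (.node 1 (.leaf (nat_lit 0)) (.leaf (nat_lit 0))) (.node 1 (.leaf (nat_lit 0)) (.leaf (nat_lit 0))))))) (.node 16 (.node 8 (.node 4 (.node 2 (.node 1 (.leaf (nat_lit 0)) (.leaf (nat_lit 0))) (.node 1 (.leaf (nat_lit 0)) (.leaf (nat_lit 0)))) (.node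 2 (.node 1 (.leaf (nat_lit 0)) (.leaf (nat_lit 0))) (.node 1 (.leaf (nat_lit 0)) (.leaf (nat_lit 0))))) (.node 4 (.node 2 (.node 1 (.leaf (nat_lit 0)) (.leaf (nat_lit 0))) (.node 1 (.leaf (nat_lit 0)) (.leaf (nat_lit 0)))) (.node 2 (.node 1 (.leaf (nat_lit 0)) (.leaf (nat_lit 0))) (.node 1 (.leaf (nat_lit 0)) (.leaf (nat_lit 0)))))) (.node 8 (.node 4 (.node 2 (.node 1 (.leaf (nat_lit 0)) (.leaf (nat_lit 0))) (.node 1 (.leaf (nat_lit 0)) (.leaf (nat_lit 0)))) (.node 2 (.node 1 (.leaf (nat_lit 0)) (.leaf (nat_lit 0))) (.node 1 (.leaf (nat_lit 0)) (.leaf (nat_lit 0))))) (.node 4 (.node 2 (.node 1 (.leaf (nat_lit 0)) (.leaf (nat_lit 0))) (.node 1 (.leaf (nat_lit 0)) (.leaf (nat_lit 0)))) (.node 2 (.node 1 (.leaf (nat_lit 1069)) (.leaf (nat_lit 0))) (.node 1 (.leaf (nat_lit 3805)) (.leaf (nat_lit 0)))))))) (.node 32 (.node 16 (.node 8 (.node 4 (.node 2 (.node 1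 (.leaf (nat_lit 0)) (.leaf (nat_lit 0))) (.node 1 (.leaf (nat_lit 0)) (.leaf (nat_lit 0)))) (.node 2 (.node 1 (.leaf (nat_lit 0)) (.leaf (nat_lit 0))) (.node 1 (.leaf (nat_lit 0)) (.leaf (nat_lit 0))))) (.node 4 (.node 2 (.node 1 (.leaf (nat_lit 0)) (.leaf (nat_lit 0))) (.node 1 (.leaf (nat_lit 0)) (.leaf (nat_lit 0)))) (.node 2 (.node 1 (.leaf (nat_lit 0)) (.leaf (nat_lit 0))) (.node 1 (.leaf (nat_lit 0)) (.leaf (nat_lit 0)))))) (.node 8 (.node 4 (.node 2 (.node 1 (.leaf (nat_lit 0)) (.leaf (nat_lit 0))) (.node 1 (.leaf (nat_lit 0)) (.leaf (nat_lit 0)))) (.node 2 (.node 1 (.leaf (nat_lit 0)) (.leaf (nat_lit 0))) (.node 1 (.leaf (nat_lit 0)) (.leaf (nat_lit 0))))) (.node 4 (.node 2 (.node 1 (.leaf (nat_lit 0)) (.leaf (nat_lit 0))) (.node 1 (.leaf (nat_lit 0)) (.leaf (nat_lit 0)))) (.node 2 (.node 1 (.leaf (nat_lit 0)) (.leaf (nat_lit 0))) (.node 1 (.leaf (nat_lit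 0)) (.leaf (nat_lit 0))))))) (.node 16 (.node 8 (.node 4 (.node 2 (.node 1 (.leaf (nat_lit 0)) (.leaf (nat_lit 0))) (.node 1 (.leaf (nat_lit 0)) (.leaf (nat_lit 0)))) (.node 2 (.node 1 (.leaf (nat_lit 0)) (.leaf (nat_lit 0))) (.node 1 (.leaf (nat_lit 0)) (.leaf (nat_lit 0))))) (.node 4 (.node 2 (.node 1 (.leaf (nat_lit 0)) (.leaf (nat_lit 0))) (.node 1 (.leaf (nat_lit 0)) (.leaf (nat_lit 0)))) (.node 2 (.node 1 (.leaf (nat_lit 0)) (.leaf (nat_lit 0))) (.node 1 (.leaf (nat_lit 0)) (.leaf (nat_lit 0)))))) (.node 8 (.node 4 (.node 2 (.node 1 (.leaf (nat_lit 0)) (.leaf (nat_lit 0))) (.node 1 (.leaf (nat_lit 0)) (.leaf (nat_lit 0)))) (.node 2 (.node 1 (.leaf (nat_lit 0)) (.leaf (nat_lit 0))) (.node 1 (.leaf (nat_lit 0)) (.leaf (nat_lit 0))))) (.node 4 (.node 2 (.node 1 (.leaf (nat_lit 0)) (.leaf (nat_lit 0))) (.node 1 (.leaf (nat_lit 0)) (.leaf (nat_lit 0)))) (.node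 2 (.node 1 (.leaf (nat_lit 0)) (.leaf (nat_lit 0))) (.node 1 (.leaf (nat_lit 0)) (.leaf (nat_lit 0)))))))))

noncomputable def vt12 : Tree :=
  .node 128 (.node 64 (.node 32 (.node 16 (.node 8 (.node 4 (.node 2 (.node 1 (.leaf (nat_lit 0)) (.leaf (nat_lit 0))) (.node 1 (.leaf (nat_lit 0)) (.leaf (nat_lit 0)))) (.node 2 (.node 1 (.leaf (nat_lit 0)) (.leaf (nat_lit 0))) (.node 1 (.leaf (nat_lit 0)) (.leaf (nat_lit 0))))) (.node 4 (.node 2 (.node 1 (.leaf (nat_lit 0)) (.leaf (nat_lit 0))) (.node 1 (.leaf (nat_lit 0)) (.leaf (nat_lit 0)))) (.node 2 (.node 1 (.leaf (nat_lit 0)) (.leaf (nat_lit 2089))) (.node 1 (.leaf (nat_lit 649)) (.leaf (nat_lit 285)))))) (.node 8 (.node 4 (.node 2 (.node 1 (.leaf (nat_lit 0)) (.leaf (nat_lit 0))) (.node 1 (.leaf (nat_lit 0)) (.leaf (nat_lit 0)))) (.node 2 (.node 1 (.leaf (nat_lit 0)) (.leaf (nat_lit 0))) (.node 1 (.leaf (nat_lit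 0)) (.leaf (nat_lit 0))))) (.node 4 (.node 2 (.node 1 (.leaf (nat_lit 0)) (.leaf (nat_lit 0))) (.node 1 (.leaf (nat_lit 0)) (.leaf (nat_lit 0)))) (.node 2 (.node 1 (.leaf (nat_lit 1229)) (.leaf (nat_lit 0))) (.node 1 (.leaf (nat_lit 0)) (.leaf (nat_lit 1488))))))) (.node 16 (.node 8 (.node 4 (.node 2 (.node 1 (.leaf (nat_lit 0)) (.leaf (nat_lit 0))) (.node 1 (.leaf (nat_lit 0)) (.leaf (nat_lit 0)))) (.node 2 (.node 1 (.leaf (nat_lit 0)) (.leaf (nat_lit 0))) (.node 1 (.leaf (nat_lit 0)) (.leaf (nat_lit 0))))) (.node 4 (.node 2 (.node 1 (.leaf (nat_lit 0)) (.leaf (nat_lit 0))) (.node 1 (.leaf (nat_lit 0)) (.leaf (nat_lit 0)))) (.node 2 (.node 1 (.leaf (nat_lit 0)) (.leaf (nat_lit 0))) (.node 1 (.leaf (nat_lit 0)) (.leaf (nat_lit 0)))))) (.node 8 (.node 4 (.node 2 (.node 1 (.leaf (nat_lit 0)) (.leaf (nat_lit 0))) (.node 1 (.leaf (nat_lit 0)) (.leaf (nat_lit 0))))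 (.node 2 (.node 1 (.leaf (nat_lit 0)) (.leaf (nat_lit 0))) (.node 1 (.leaf (nat_lit 0)) (.leaf (nat_lit 0))))) (.node 4 (.node 2 (.node 1 (.leaf (nat_lit 0)) (.leaf (nat_lit 0))) (.node 1 (.leaf (nat_lit 0)) (.leaf (nat_lit 0)))) (.node 2 (.node 1 (.leaf (nat_lit 0)) (.leaf (nat_lit 0))) (.node 1 (.leaf (nat_lit 0)) (.leaf (nat_lit 0)))))))) (.node 32 (.node 16 (.node 8 (.node 4 (.node 2 (.node 1 (.leaf (nat_lit 0)) (.leaf (nat_lit 0))) (.node 1 (.leaf (nat_lit 0)) (.leaf (nat_lit 0)))) (.node 2 (.node 1 (.leaf (nat_lit 0)) (.leaf (nat_lit 0))) (.node 1 (.leaf (nat_lit 0)) (.leaf (nat_lit 0))))) (.node 4 (.node 2 (.node 1 (.leaf (nat_lit 0)) (.leaf (nat_lit 0))) (.node 1 (.leaf (nat_lit 0)) (.leaf (nat_lit 0)))) (.node 2 (.node 1 (.leaf (nat_lit 0)) (.leaf (nat_lit 0))) (.node 1 (.leaf (nat_lit 0)) (.leaf (nat_lit 0)))))) (.node 8 (.node 4 (.node 2 (.node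 1 (.leaf (nat_lit 0)) (.leaf (nat_lit 0))) (.node 1 (.leaf (nat_lit 0)) (.leaf (nat_lit 0)))) (.node 2 (.node 1 (.leaf (nat_lit 0)) (.leaf (nat_lit 0))) (.node 1 (.leaf (nat_lit 0)) (.leaf (nat_lit 0))))) (.node 4 (.node 2 (.node 1 (.leaf (nat_lit 301)) (.leaf (nat_lit 0))) (.node 1 (.leaf (nat_lit 0)) (.leaf (nat_lit 1101)))) (.node 2 (.node 1 (.leaf (nat_lit 0)) (.leaf (nat_lit 0))) (.node 1 (.leaf (nat_lit 0)) (.leaf (nat_lit 0))))))) (.node 16 (.node 8 (.node 4 (.node 2 (.node 1 (.leaf (nat_lit 0)) (.leaf (nat_lit 0))) (.node 1 (.leaf (nat_lit 0)) (.leaf (nat_lit 0)))) (.node 2 (.node 1 (.leaf (nat_lit 0)) (.leaf (nat_lit 0))) (.node 1 (.leaf (nat_lit 0)) (.leaf (nat_lit 0))))) (.node 4 (.node 2 (.node 1 (.leaf (nat_lit 0)) (.leaf (nat_lit 0))) (.node 1 (.leaf (nat_lit 0)) (.leaf (nat_lit 0)))) (.node 2 (.node 1 (.leaf (nat_lit 0)) (.leaf (nat_lit 0)))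 (.node 1 (.leaf (nat_lit 0)) (.leaf (nat_lit 0)))))) (.node 8 (.node 4 (.node 2 (.node 1 (.leaf (nat_lit 0)) (.leaf (nat_lit 0))) (.node 1 (.leaf (nat_lit 0)) (.leaf (nat_lit 0)))) (.node 2 (.node 1 (.leaf (nat_lit 0)) (.leaf (nat_lit 0))) (.node 1 (.leaf (nat_lit 0)) (.leaf (nat_lit 0))))) (.node 4 (.node 2 (.node 1 (.leaf (nat_lit 0)) (.leaf (nat_lit 0))) (.node 1 (.leaf (nat_lit 0)) (.leaf (nat_lit 0)))) (.node 2 (.node 1 (.leaf (nat_lit 0)) (.leaf (nat_lit 0))) (.node 1 (.leaf (nat_lit 0)) (.leaf (nat_lit 0))))))))) (.node 64 (.node 32 (.node 16 (.node 8 (.node 4 (.node 2 (.node 1 (.leaf (nat_lit 0)) (.leaf (nat_lit 0))) (.node 1 (.leaf (nat_lit 0)) (.leaf (nat_lit 0)))) (.node 2 (.node 1 (.leaf (nat_lit 0)) (.leaf (nat_lit 0))) (.node 1 (.leaf (nat_lit 0)) (.leaf (nat_lit 0))))) (.node 4 (.node 2 (.node 1 (.leaf (nat_lit 0)) (.leaf (nat_lit 0))) (.node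 1 (.leaf (nat_lit 0)) (.leaf (nat_lit 0)))) (.node 2 (.node 1 (.leaf (nat_lit 0)) (.leaf (nat_lit 0))) (.node 1 (.leaf (nat_lit 0)) (.leaf (nat_lit 0)))))) (.node 8 (.node 4 (.node 2 (.node 1 (.leaf (nat_lit 0)) (.leaf (nat_lit 4048))) (.node 1 (.leaf (nat_lit 0)) (.leaf (nat_lit 0)))) (.node 2 (.node 1 (.leaf (nat_lit 0)) (.leaf (nat_lit 0))) (.node 1 (.leaf (nat_lit 0)) (.leaf (nat_lit 0))))) (.node 4 (.node 2 (.node 1 (.leaf (nat_lit 0)) (.leaf (nat_lit 0))) (.node 1 (.leaf (nat_lit 0)) (.leaf (nat_lit 0)))) (.node 2 (.node 1 (.leaf (nat_lit 0)) (.leaf (nat_lit 0))) (.node 1 (.leaf (nat_lit 0)) (.leaf (nat_lit 0))))))) (.node 16 (.node 8 (.node 4 (.node 2 (.node 1 (.leaf (nat_lit 0)) (.leaf (nat_lit 0))) (.node 1 (.leaf (nat_lit 0)) (.leaf (nat_lit 0)))) (.node 2 (.node 1 (.leaf (nat_lit 0)) (.leaf (nat_lit 0))) (.node 1 (.leaf (nat_lit 0)) (.leaf (nat_lit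 0))))) (.node 4 (.node 2 (.node 1 (.leaf (nat_lit 0)) (.leaf (nat_lit 0))) (.node 1 (.leaf (nat_lit 0)) (.leaf (nat_lit 0)))) (.node 2 (.node 1 (.leaf (nat_lit 0)) (.leaf (nat_lit 0))) (.node 1 (.leaf (nat_lit 0)) (.leaf (nat_lit 0)))))) (.node 8 (.node 4 (.node 2 (.node 1 (.leaf (nat_lit 0)) (.leaf (nat_lit 0))) (.node 1 (.leaf (nat_lit 0)) (.leaf (nat_lit 0)))) (.node 2 (.node 1 (.leaf (nat_lit 0)) (.leaf (nat_lit 0))) (.node 1 (.leaf (nat_lit 0)) (.leaf (nat_lit 0))))) (.node 4 (.node 2 (.node 1 (.leaf (nat_lit 0)) (.leaf (nat_lit 0))) (.node 1 (.leaf (nat_lit 0)) (.leaf (nat_lit 0)))) (.node 2 (.node 1 (.leaf (nat_lit 0)) (.leaf (nat_lit 0))) (.node 1 (.leaf (nat_lit 0)) (.leaf (nat_lit 0)))))))) (.node 32 (.node 16 (.node 8 (.node 4 (.node 2 (.node 1 (.leaf (nat_lit 0)) (.leaf (nat_lit 0))) (.node 1 (.leaf (nat_lit 0)) (.leaf (nat_lit 0)))) (.node 2 (.node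 1 (.leaf (nat_lit 0)) (.leaf (nat_lit 0))) (.node 1 (.leaf (nat_lit 1053)) (.leaf (nat_lit 333))))) (.node 4 (.node 2 (.node 1 (.leaf (nat_lit 0)) (.leaf (nat_lit 0))) (.node 1 (.leaf (nat_lit 0)) (.leaf (nat_lit 0)))) (.node 2 (.node 1 (.leaf (nat_lit 0)) (.leaf (nat_lit 0))) (.node 1 (.leaf (nat_lit 0)) (.leaf (nat_lit 0)))))) (.node 8 (.node 4 (.node 2 (.node 1 (.leaf (nat_lit 1424)) (.leaf (nat_lit 0))) (.node 1 (.leaf (nat_lit 0)) (.leaf (nat_lit 2704)))) (.node 2 (.node 1 (.leaf (nat_lit 0)) (.leaf (nat_lit 0))) (.node 1 (.leaf (nat_lit 0)) (.leaf (nat_lit 0))))) (.node 4 (.node 2 (.node 1 (.leaf (nat_lit 0)) (.leaf (nat_lit 0))) (.node 1 (.leaf (nat_lit 0)) (.leaf (nat_lit 0)))) (.node 2 (.node 1 (.leaf (nat_lit 0)) (.leaf (nat_lit 0))) (.node 1 (.leaf (nat_lit 0)) (.leaf (nat_lit 0))))))) (.node 16 (.node 8 (.node 4 (.node 2 (.node 1 (.leaf (nat_lit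 0)) (.leaf (nat_lit 0))) (.node 1 (.leaf (nat_lit 0)) (.leaf (nat_lit 0)))) (.node 2 (.node 1 (.leaf (nat_lit 0)) (.leaf (nat_lit 0))) (.node 1 (.leaf (nat_lit 0)) (.leaf (nat_lit 0))))) (.node 4 (.node 2 (.node 1 (.leaf (nat_lit 0)) (.leaf (nat_lit 0))) (.node 1 (.leaf (nat_lit 0)) (.leaf (nat_lit 0)))) (.node 2 (.node 1 (.leaf (nat_lit 0)) (.leaf (nat_lit 0))) (.node 1 (.leaf (nat_lit 0)) (.leaf (nat_lit 0)))))) (.node 8 (.node 4 (.node 2 (.node 1 (.leaf (nat_lit 0)) (.leaf (nat_lit 0))) (.node 1 (.leaf (nat_lit 0)) (.leaf (nat_lit 0)))) (.node 2 (.node 1 (.leaf (nat_lit 0)) (.leaf (nat_lit 0))) (.node 1 (.leaf (nat_lit 0)) (.leaf (nat_lit 0))))) (.node 4 (.node 2 (.node 1 (.leaf (nat_lit 0)) (.leaf (nat_lit 0))) (.node 1 (.leaf (nat_lit 0)) (.leaf (nat_lit 0)))) (.node 2 (.node 1 (.leaf (nat_lit 0)) (.leaf (nat_lit 0))) (.node 1 (.leaf (nat_lit 0)) (.leaf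 (nat_lit 0)))))))))

noncomputable def vt13 : Tree :=
  .node 128 (.node 64 (.node 32 (.node 16 (.node 8 (.node 4 (.node 2 (.node 1 (.leaf (nat_lit 0)) (.leaf (nat_lit 0))) (.node 1 (.leaf (nat_lit 0)) (.leaf (nat_lit 0)))) (.node 2 (.node 1 (.leaf (nat_lit 0)) (.leaf (nat_lit 0))) (.node 1 (.leaf (nat_lit 0)) (.leaf (nat_lit 0))))) (.node 4 (.node 2 (.node 1 (.leaf (nat_lit 0)) (.leaf (nat_lit 0))) (.node 1 (.leaf (nat_lit 0)) (.leaf (nat_lit 0)))) (.node 2 (.node 1 (.leaf (nat_lit 0)) (.leaf (nat_lit 0))) (.node 1 (.leaf (nat_lit 0)) (.leaf (nat_lit 0)))))) (.node 8 (.node 4 (.node 2 (.node 1 (.leaf (nat_lit 0)) (.leaf (nat_lit 0))) (.node 1 (.leaf (nat_lit 0)) (.leaf (nat_lit 0)))) (.node 2 (.node 1 (.leaf (nat_lit 0)) (.leaf (nat_lit 0))) (.node 1 (.leaf (nat_lit 0)) (.leaf (nat_lit 0))))) (.node 4 (.node 2 (.node 1 (.leaf (nat_lit 0)) (.leaf (nat_lit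 0))) (.node 1 (.leaf (nat_lit 0)) (.leaf (nat_lit 0)))) (.node 2 (.node 1 (.leaf (nat_lit 0)) (.leaf (nat_lit 0))) (.node 1 (.leaf (nat_lit 0)) (.leaf (nat_lit 0))))))) (.node 16 (.node 8 (.node 4 (.node 2 (.node 1 (.leaf (nat_lit 0)) (.leaf (nat_lit 0))) (.node 1 (.leaf (nat_lit 0)) (.leaf (nat_lit 0)))) (.node 2 (.node 1 (.leaf (nat_lit 0)) (.leaf (nat_lit 0))) (.node 1 (.leaf (nat_lit 0)) (.leaf (nat_lit 0))))) (.node 4 (.node 2 (.node 1 (.leaf (nat_lit 0)) (.leaf (nat_lit 0))) (.node 1 (.leaf (nat_lit 0)) (.leaf (nat_lit 0)))) (.node 2 (.node 1 (.leaf (nat_lit 0)) (.leaf (nat_lit 0))) (.node 1 (.leaf (nat_lit 0)) (.leaf (nat_lit 0)))))) (.node 8 (.node 4 (.node 2 (.node 1 (.leaf (nat_lit 0)) (.leaf (nat_lit 0))) (.node 1 (.leaf (nat_lit 0)) (.leaf (nat_lit 0)))) (.node 2 (.node 1 (.leaf (nat_lit 0)) (.leaf (nat_lit 0))) (.node 1 (.leaf (nat_lit 0)) (.leaf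 (nat_lit 0))))) (.node 4 (.node 2 (.node 1 (.leaf (nat_lit 0)) (.leaf (nat_lit 0))) (.node 1 (.leaf (nat_lit 0)) (.leaf (nat_lit 0)))) (.node 2 (.node 1 (.leaf (nat_lit 0)) (.leaf (nat_lit 0))) (.node 1 (.leaf (nat_lit 0)) (.leaf (nat_lit 0)))))))) (.node 32 (.node 16 (.node 8 (.node 4 (.node 2 (.node 1 (.leaf (nat_lit 0)) (.leaf (nat_lit 0))) (.node 1 (.leaf (nat_lit 0)) (.leaf (nat_lit 0)))) (.node 2 (.node 1 (.leaf (nat_lit 0)) (.leaf (nat_lit 0))) (.node 1 (.leaf (nat_lit 0)) (.leaf (nat_lit 2640))))) (.node 4 (.node 2 (.node 1 (.leaf (nat_lit 3920)) (.leaf (nat_lit 0))) (.node 1 (.leaf (nat_lit 0)) (.leaf (nat_lit 0)))) (.node 2 (.node 1 (.leaf (nat_lit 0)) (.leaf (nat_lit 0))) (.node 1 (.leaf (nat_lit 0)) (.leaf (nat_lit 0)))))) (.node 8 (.node 4 (.node 2 (.node 1 (.leaf (nat_lit 0)) (.leaf (nat_lit 0))) (.node 1 (.leaf (nat_lit 0)) (.leaf (nat_lit 0))))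 (.node 2 (.node 1 (.leaf (nat_lit 0)) (.leaf (nat_lit 0))) (.node 1 (.leaf (nat_lit 0)) (.leaf (nat_lit 0))))) (.node 4 (.node 2 (.node 1 (.leaf (nat_lit 0)) (.leaf (nat_lit 0))) (.node 1 (.leaf (nat_lit 0)) (.leaf (nat_lit 0)))) (.node 2 (.node 1 (.leaf (nat_lit 0)) (.leaf (nat_lit 0))) (.node 1 (.leaf (nat_lit 0)) (.leaf (nat_lit 0))))))) (.node 16 (.node 8 (.node 4 (.node 2 (.node 1 (.leaf (nat_lit 0)) (.leaf (nat_lit 0))) (.node 1 (.leaf (nat_lit 0)) (.leaf (nat_lit 0)))) (.node 2 (.node 1 (.leaf (nat_lit 0)) (.leaf (nat_lit 0))) (.node 1 (.leaf (nat_lit 0)) (.leaf (nat_lit 0))))) (.node 4 (.node 2 (.node 1 (.leaf (nat_lit 0)) (.leaf (nat_lit 0))) (.node 1 (.leaf (nat_lit 0)) (.leaf (nat_lit 0)))) (.node 2 (.node 1 (.leaf (nat_lit 0)) (.leaf (nat_lit 0))) (.node 1 (.leaf (nat_lit 0)) (.leaf (nat_lit 0)))))) (.node 8 (.node 4 (.node 2 (.node 1 (.leaf (nat_lit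 0)) (.leaf (nat_lit 0))) (.node 1 (.leaf (nat_lit 0)) (.leaf (nat_lit 0)))) (.node 2 (.node 1 (.leaf (nat_lit 0)) (.leaf (nat_lit 0))) (.node 1 (.leaf (nat_lit 0)) (.leaf (nat_lit 0))))) (.node 4 (.node 2 (.node 1 (.leaf (nat_lit 0)) (.leaf (nat_lit 0))) (.node 1 (.leaf (nat_lit 0)) (.leaf (nat_lit 0)))) (.node 2 (.node 1 (.leaf (nat_lit 0)) (.leaf (nat_lit 0))) (.node 1 (.leaf (nat_lit 0)) (.leaf (nat_lit 0))))))))) (.node 32 (.node 16 (.node 8 (.node 4 (.node 2 (.node 1 (.leaf (nat_lit 0)) (.leaf (nat_lit 0))) (.node 1 (.leaf (nat_lit 0)) (.leaf (nat_lit 0)))) (.node 2 (.node 1 (.leaf (nat_lit 0)) (.leaf (nat_lit 0))) (.node 1 (.leaf (nat_lit 0)) (.leaf (nat_lit 0))))) (.node 4 (.node 2 (.node 1 (.leaf (nat_lit 0)) (.leaf (nat_lit 0))) (.node 1 (.leaf (nat_lit 0)) (.leaf (nat_lit 0)))) (.node 2 (.node 1 (.leaf (nat_lit 0)) (.leaf (nat_lit 0))) (.node 1 (.leaf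 (nat_lit 0)) (.leaf (nat_lit 0)))))) (.node 8 (.node 4 (.node 2 (.node 1 (.leaf (nat_lit 0)) (.leaf (nat_lit 0))) (.node 1 (.leaf (nat_lit 0)) (.leaf (nat_lit 0)))) (.node 2 (.node 1 (.leaf (nat_lit 0)) (.leaf (nat_lit 0))) (.node 1 (.leaf (nat_lit 0)) (.leaf (nat_lit 0))))) (.node 4 (.node 2 (.node 1 (.leaf (nat_lit 0)) (.leaf (nat_lit 0))) (.node 1 (.leaf (nat_lit 0)) (.leaf (nat_lit 0)))) (.node 2 (.node 1 (.leaf (nat_lit 0)) (.leaf (nat_lit 0))) (.node 1 (.leaf (nat_lit 0)) (.leaf (nat_lit 0))))))) (.node 16 (.node 8 (.node 4 (.node 2 (.node 1 (.leaf (nat_lit 0)) (.leaf (nat_lit 0))) (.node 1 (.leaf (nat_lit 0)) (.leaf (nat_lit 0)))) (.node 2 (.node 1 (.leaf (nat_lit 0)) (.leaf (nat_lit 0))) (.node 1 (.leaf (nat_lit 0)) (.leaf (nat_lit 0))))) (.node 4 (.node 2 (.node 1 (.leaf (nat_lit 0)) (.leaf (nat_lit 0))) (.node 1 (.leaf (nat_lit 0)) (.leaf (nat_lit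 0)))) (.node 2 (.node 1 (.leaf (nat_lit 0)) (.leaf (nat_lit 0))) (.node 1 (.leaf (nat_lit 0)) (.leaf (nat_lit 0)))))) (.node 4 (.node 2 (.node 1 (.leaf (nat_lit 0)) (.leaf (nat_lit 0))) (.node 1 (.leaf (nat_lit 0)) (.leaf (nat_lit 0)))) (.node 1 (.leaf (nat_lit 0)) (.leaf (nat_lit 0))))))

noncomputable def vtTree : Tree :=
  .node 2048 (.node 1024 (.node 512 (.node 256 (vt0) (vt1)) (.node 256 (vt2) (vt3))) (.node 512 (.node 256 (vt4) (vt5)) (.node 256 (vt6) (vt7)))) (.node 1024 (.node 512 (.node 256 (vt8) (vt9)) (.node 256 (vt10) (vt11))) (.node 256 (vt12) (vt13)))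

noncomputable def pt0 : Tree :=
  .node 128 (.node 64 (.node 32 (.node 16 (.node 8 (.node 4 (.node 2 (.node 1 (.leaf (nat_lit 0)) (.leaf (nat_lit 0))) (.node 1 (.leaf (nat_lit 0)) (.leaf (nat_lit 0)))) (.node 2 (.node 1 (.leaf (nat_lit 0)) (.leaf (nat_lit 43))) (.node 1 (.leaf (nat_lit 92)) (.leaf (nat_lit 66))))) (.node 4 (.node 2 (.node 1 (.leaf (nat_lit 0)) (.leaf (nat_lit 66))) (.node 1 (.leaf (nat_lit 43)) (.leaf (nat_lit 92)))) (.node 2 (.node 1 (.leaf (nat_lit 0)) (.leaf (nat_lit 92))) (.node 1 (.leaf (nat_lit 66)) (.leaf (nat_lit 43)))))) (.node 8 (.node 4 (.node 2 (.node 1 (.leaf (nat_lit 0)) (.leaf (nat_lit 767))) (.node 1 (.leaf (nat_lit 1128)) (.leaf (nat_lit 774)))) (.node 2 (.node 1 (.leaf (nat_lit 945)) (.leaf (nat_lit 0))) (.node 1 (.leaf (nat_lit 0)) (.leaf (nat_lit 0))))) (.node 4 (.node 2 (.node 1 (.leaf (nat_lit 939)) (.leaf (nat_lit 0)))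 (.node 1 (.leaf (nat_lit 0)) (.leaf (nat_lit 0)))) (.node 2 (.node 1 (.leaf (nat_lit 612)) (.leaf (nat_lit 0))) (.node 1 (.leaf (nat_lit 0)) (.leaf (nat_lit 0))))))) (.node 16 (.node 8 (.node 4 (.node 2 (.node 1 (.leaf (nat_lit 0)) (.leaf (nat_lit 774))) (.node 1 (.leaf (nat_lit 767)) (.leaf (nat_lit 1128)))) (.node 2 (.node 1 (.leaf (nat_lit 612)) (.leaf (nat_lit 0))) (.node 1 (.leaf (nat_lit 0)) (.leaf (nat_lit 0))))) (.node 4 (.node 2 (.node 1 (.leaf (nat_lit 945)) (.leaf (nat_lit 0))) (.node 1 (.leaf (nat_lit 0)) (.leaf (nat_lit 0)))) (.node 2 (.node 1 (.leaf (nat_lit 939)) (.leaf (nat_lit 0))) (.node 1 (.leaf (nat_lit 0)) (.leaf (nat_lit 0)))))) (.node 8 (.node 4 (.node 2 (.node 1 (.leaf (nat_lit 0)) (.leaf (nat_lit 1128))) (.node 1 (.leaf (nat_lit 774)) (.leaf (nat_lit 767)))) (.node 2 (.node 1 (.leaf (nat_lit 939)) (.leaf (nat_lit 0))) (.node 1 (.leaf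 (nat_lit 0)) (.leaf (nat_lit 0))))) (.node 4 (.node 2 (.node 1 (.leaf (nat_lit 612)) (.leaf (nat_lit 0))) (.node 1 (.leaf (nat_lit 0)) (.leaf (nat_lit 0)))) (.node 2 (.node 1 (.leaf (nat_lit 945)) (.leaf (nat_lit 0))) (.node 1 (.leaf (nat_lit 0)) (.leaf (nat_lit 0)))))))) (.node 32 (.node 16 (.node 8 (.node 4 (.node 2 (.node 1 (.leaf (nat_lit 0)) (.leaf (nat_lit 935))) (.node 1 (.leaf (nat_lit 944)) (.leaf (nat_lit 940)))) (.node 2 (.node 1 (.leaf (nat_lit 773)) (.leaf (nat_lit 0))) (.node 1 (.leaf (nat_lit 0)) (.leaf (nat_lit 0))))) (.node 4 (.node 2 (.node 1 (.leaf (nat_lit 1127)) (.leaf (nat_lit 0))) (.node 1 (.leaf (nat_lit 0)) (.leaf (nat_lit 0)))) (.node 2 (.node 1 (.leaf (nat_lit 763)) (.leaf (nat_lit 0))) (.node 1 (.leaf (nat_lit 0)) (.leaf (nat_lit 0)))))) (.node 8 (.node 4 (.node 2 (.node 1 (.leaf (nat_lit 40)) (.leaf (nat_lit 0))) (.node 1 (.leaf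 (nat_lit 0)) (.leaf (nat_lit 0)))) (.node 2 (.node 1 (.leaf (nat_lit 0)) (.leaf (nat_lit 1710))) (.node 1 (.leaf (nat_lit 1396)) (.leaf (nat_lit 196))))) (.node 4 (.node 2 (.node 1 (.leaf (nat_lit 0)) (.leaf (nat_lit 1581))) (.node 1 (.leaf (nat_lit 155)) (.leaf (nat_lit 1347)))) (.node 2 (.node 1 (.leaf (nat_lit 0)) (.leaf (nat_lit 246))) (.node 1 (.leaf (nat_lit 1525)) (.leaf (nat_lit 1779))))))) (.node 16 (.node 8 (.node 4 (.node 2 (.node 1 (.leaf (nat_lit 88)) (.leaf (nat_lit 0))) (.node 1 (.leaf (nat_lit 0)) (.leaf (nat_lit 0)))) (.node 2 (.node 1 (.leaf (nat_lit 0)) (.leaf (nat_lit 93))) (.node 1 (.leaf (nat_lit 1707)) (.leaf (nat_lit 1998))))) (.node 4 (.node 2 (.node 1 (.leaf (nat_lit 0)) (.leaf (nat_lit 1913))) (.node 1 (.leaf (nat_lit 2244)) (.leaf (nat_lit 157)))) (.node 2 (.node 1 (.leaf (nat_lit 0)) (.leaf (nat_lit 1776))) (.node 1 (.leaf (nat_lit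 123)) (.leaf (nat_lit 2140)))))) (.node 8 (.node 4 (.node 2 (.node 1 (.leaf (nat_lit 62)) (.leaf (nat_lit 0))) (.node 1 (.leaf (nat_lit 0)) (.leaf (nat_lit 0)))) (.node 2 (.node 1 (.leaf (nat_lit 0)) (.leaf (nat_lit 2000))) (.node 1 (.leaf (nat_lit 197)) (.leaf (nat_lit 1709))))) (.node 4 (.node 2 (.node 1 (.leaf (nat_lit 0)) (.leaf (nat_lit 156))) (.node 1 (.leaf (nat_lit 1915)) (.leaf (nat_lit 1580)))) (.node 2 (.node 1 (.leaf (nat_lit 0)) (.leaf (nat_lit 1524))) (.node 1 (.leaf (nat_lit 1778)) (.leaf (nat_lit 122))))))))) (.node 64 (.node 32 (.node 16 (.node 8 (.node 4 (.node 2 (.node 1 (.leaf (nat_lit 0)) (.leaf (nat_lit 940))) (.node 1 (.leaf (nat_lit 935)) (.leaf (nat_lit 944)))) (.node 2 (.node 1 (.leaf (nat_lit 763)) (.leaf (nat_lit 0))) (.node 1 (.leaf (nat_lit 0)) (.leaf (nat_lit 0))))) (.node 4 (.node 2 (.node 1 (.leaf (nat_lit 773)) (.leaf (nat_lit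 0))) (.node 1 (.leaf (nat_lit 0)) (.leaf (nat_lit 0)))) (.node 2 (.node 1 (.leaf (nat_lit 1127)) (.leaf (nat_lit 0))) (.node 1 (.leaf (nat_lit 0)) (.leaf (nat_lit 0)))))) (.node 8 (.node 4 (.node 2 (.node 1 (.leaf (nat_lit 62)) (.leaf (nat_lit 0))) (.node 1 (.leaf (nat_lit 0)) (.leaf (nat_lit 0)))) (.node 2 (.node 1 (.leaf (nat_lit 0)) (.leaf (nat_lit 122))) (.node 1 (.leaf (nat_lit 1524)) (.leaf (nat_lit 1778))))) (.node 4 (.node 2 (.node 1 (.leaf (nat_lit 0)) (.leaf (nat_lit 1709))) (.node 1 (.leaf (nat_lit 2000)) (.leaf (nat_lit 197)))) (.node 2 (.node 1 (.leaf (nat_lit 0)) (.leaf (nat_lit 1580))) (.node 1 (.leaf (nat_lit 156)) (.leaf (nat_lit 1915))))))) (.node 16 (.node 8 (.node 4 (.node 2 (.node 1 (.leaf (nat_lit 40)) (.leaf (nat_lit 0))) (.node 1 (.leaf (nat_lit 0)) (.leaf (nat_lit 0)))) (.node 2 (.node 1 (.leaf (nat_lit 0)) (.leaf (nat_lit 1779)))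 (.node 1 (.leaf (nat_lit 246)) (.leaf (nat_lit 1525))))) (.node 4 (.node 2 (.node 1 (.leaf (nat_lit 0)) (.leaf (nat_lit 196))) (.node 1 (.leaf (nat_lit 1710)) (.leaf (nat_lit 1396)))) (.node 2 (.node 1 (.leaf (nat_lit 0)) (.leaf (nat_lit 1347))) (.node 1 (.leaf (nat_lit 1581)) (.leaf (nat_lit 155)))))) (.node 8 (.node 4 (.node 2 (.node 1 (.leaf (nat_lit 88)) (.leaf (nat_lit 0))) (.node 1 (.leaf (nat_lit 0)) (.leaf (nat_lit 0)))) (.node 2 (.node 1 (.leaf (nat_lit 0)) (.leaf (nat_lit 2140))) (.node 1 (.leaf (nat_lit 1776)) (.leaf (nat_lit 123))))) (.node 4 (.node 2 (.node 1 (.leaf (nat_lit 0)) (.leaf (nat_lit 1998))) (.node 1 (.leaf (nat_lit 93)) (.leaf (nat_lit 1707)))) (.node 2 (.node 1 (.leaf (nat_lit 0)) (.leaf (nat_lit 157))) (.node 1 (.leaf (nat_lit 1913)) (.leaf (nat_lit 2244)))))))) (.node 32 (.node 16 (.node 8 (.node 4 (.node 2 (.node 1 (.leaf (nat_lit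 0)) (.leaf (nat_lit 944))) (.node 1 (.leaf (nat_lit 940)) (.leaf (nat_lit 935)))) (.node 2 (.node 1 (.leaf (nat_lit 1127)) (.leaf (nat_lit 0))) (.node 1 (.leaf (nat_lit 0)) (.leaf (nat_lit 0))))) (.node 4 (.node 2 (.node 1 (.leaf (nat_lit 763)) (.leaf (nat_lit 0))) (.node 1 (.leaf (nat_lit 0)) (.leaf (nat_lit 0)))) (.node 2 (.node 1 (.leaf (nat_lit 773)) (.leaf (nat_lit 0))) (.node 1 (.leaf (nat_lit 0)) (.leaf (nat_lit 0)))))) (.node 8 (.node 4 (.node 2 (.node 1 (.leaf (nat_lit 88)) (.leaf (nat_lit 0))) (.node 1 (.leaf (nat_lit 0)) (.leaf (nat_lit 0)))) (.node 2 (.node 1 (.leaf (nat_lit 0)) (.leaf (nat_lit 2244))) (.node 1 (.leaf (nat_lit 157)) (.leaf (nat_lit 1913))))) (.node 4 (.node 2 (.node 1 (.leaf (nat_lit 0)) (.leaf (nat_lit 123))) (.node 1 (.leaf (nat_lit 2140)) (.leaf (nat_lit 1776)))) (.node 2 (.node 1 (.leaf (nat_lit 0)) (.leaf (nat_lit 1707)))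 (.node 1 (.leaf (nat_lit 1998)) (.leaf (nat_lit 93))))))) (.node 16 (.node 8 (.node 4 (.node 2 (.node 1 (.leaf (nat_lit 62)) (.leaf (nat_lit 0))) (.node 1 (.leaf (nat_lit 0)) (.leaf (nat_lit 0)))) (.node 2 (.node 1 (.leaf (nat_lit 0)) (.leaf (nat_lit 1915))) (.node 1 (.leaf (nat_lit 1580)) (.leaf (nat_lit 156))))) (.node 4 (.node 2 (.node 1 (.leaf (nat_lit 0)) (.leaf (nat_lit 1778))) (.node 1 (.leaf (nat_lit 122)) (.leaf (nat_lit 1524)))) (.node 2 (.node 1 (.leaf (nat_lit 0)) (.leaf (nat_lit 197))) (.node 1 (.leaf (nat_lit 1709)) (.leaf (nat_lit 2000)))))) (.node 8 (.node 4 (.node 2 (.node 1 (.leaf (nat_lit 40)) (.leaf (nat_lit 0))) (.node 1 (.leaf (nat_lit 0)) (.leaf (nat_lit 0)))) (.node 2 (.node 1 (.leaf (nat_lit 0)) (.leaf (nat_lit 155))) (.node 1 (.leaf (nat_lit 1347)) (.leaf (nat_lit 1581))))) (.node 4 (.node 2 (.node 1 (.leaf (nat_lit 0)) (.leaf (nat_lit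 1525))) (.node 1 (.leaf (nat_lit 1779)) (.leaf (nat_lit 246)))) (.node 2 (.node 1 (.leaf (nat_lit 0)) (.leaf (nat_lit 1396))) (.node 1 (.leaf (nat_lit 196)) (.leaf (nat_lit 1710)))))))))

noncomputable def pt1 : Tree :=
  .node 128 (.node 64 (.node 32 (.node 16 (.node 8 (.node 4 (.node 2 (.node 1 (.leaf (nat_lit 0)) (.leaf (nat_lit 293))) (.node 1 (.leaf (nat_lit 183)) (.leaf (nat_lit 292)))) (.node 2 (.node 1 (.leaf (nat_lit 231)) (.leaf (nat_lit 0))) (.node 1 (.leaf (nat_lit 0)) (.leaf (nat_lit 0))))) (.node 4 (.node 2 (.node 1 (.leaf (nat_lit 230)) (.leaf (nat_lit 0))) (.node 1 (.leaf (nat_lit 0)) (.leaf (nat_lit 0)))) (.node 2 (.node 1 (.leaf (nat_lit 371)) (.leaf (nat_lit 0))) (.node 1 (.leaf (nat_lit 0)) (.leaf (nat_lit 0)))))) (.node 8 (.node 4 (.node 2 (.node 1 (.leaf (nat_lit 194)) (.leaf (nat_lit 0))) (.node 1 (.leaf (nat_lit 0)) (.leaf (nat_lit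 0)))) (.node 2 (.node 1 (.leaf (nat_lit 0)) (.leaf (nat_lit 682))) (.node 1 (.leaf (nat_lit 442)) (.leaf (nat_lit 2857))))) (.node 4 (.node 2 (.node 1 (.leaf (nat_lit 0)) (.leaf (nat_lit 554))) (.node 1 (.leaf (nat_lit 2608)) (.leaf (nat_lit 996)))) (.node 2 (.node 1 (.leaf (nat_lit 0)) (.leaf (nat_lit 3087))) (.node 1 (.leaf (nat_lit 833)) (.leaf (nat_lit 693))))))) (.node 16 (.node 8 (.node 4 (.node 2 (.node 1 (.leaf (nat_lit 187)) (.leaf (nat_lit 0))) (.node 1 (.leaf (nat_lit 0)) (.leaf (nat_lit 0)))) (.node 2 (.node 1 (.leaf (nat_lit 0)) (.leaf (nat_lit 433))) (.node 1 (.leaf (nat_lit 709)) (.leaf (nat_lit 2936))))) (.node 4 (.node 2 (.node 1 (.leaf (nat_lit 0)) (.leaf (nat_lit 858))) (.node 1 (.leaf (nat_lit 2683)) (.leaf (nat_lit 683)))) (.node 2 (.node 1 (.leaf (nat_lit 0)) (.leaf (nat_lit 3160))) (.node 1 (.leaf (nat_lit 547)) (.leaf (nat_lit 1029))))))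 (.node 8 (.node 4 (.node 2 (.node 1 (.leaf (nat_lit 299)) (.leaf (nat_lit 0))) (.node 1 (.leaf (nat_lit 0)) (.leaf (nat_lit 0)))) (.node 2 (.node 1 (.leaf (nat_lit 0)) (.leaf (nat_lit 688))) (.node 1 (.leaf (nat_lit 445)) (.leaf (nat_lit 2429))))) (.node 4 (.node 2 (.node 1 (.leaf (nat_lit 0)) (.leaf (nat_lit 559))) (.node 1 (.leaf (nat_lit 2175)) (.leaf (nat_lit 718)))) (.node 2 (.node 1 (.leaf (nat_lit 0)) (.leaf (nat_lit 2687))) (.node 1 (.leaf (nat_lit 840)) (.leaf (nat_lit 699)))))))) (.node 32 (.node 16 (.node 8 (.node 4 (.node 2 (.node 1 (.leaf (nat_lit 152)) (.leaf (nat_lit 0))) (.node 1 (.leaf (nat_lit 0)) (.leaf (nat_lit 0)))) (.node 2 (.node 1 (.leaf (nat_lit 0)) (.leaf (nat_lit 544))) (.node 1 (.leaf (nat_lit 562)) (.leaf (nat_lit 3086))))) (.node 4 (.node 2 (.node 1 (.leaf (nat_lit 0)) (.leaf (nat_lit 696))) (.node 1 (.leaf (nat_lit 2856)) (.leaf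 (nat_lit 831)))) (.node 2 (.node 1 (.leaf (nat_lit 0)) (.leaf (nat_lit 3271))) (.node 1 (.leaf (nat_lit 680)) (.leaf (nat_lit 853)))))) (.node 8 (.node 4 (.node 2 (.node 1 (.leaf (nat_lit 0)) (.leaf (nat_lit 273))) (.node 1 (.leaf (nat_lit 171)) (.leaf (nat_lit 272)))) (.node 2 (.node 1 (.leaf (nat_lit 216)) (.leaf (nat_lit 0))) (.node 1 (.leaf (nat_lit 0)) (.leaf (nat_lit 0))))) (.node 4 (.node 2 (.node 1 (.leaf (nat_lit 215)) (.leaf (nat_lit 0))) (.node 1 (.leaf (nat_lit 0)) (.leaf (nat_lit 0)))) (.node 2 (.node 1 (.leaf (nat_lit 345)) (.leaf (nat_lit 0))) (.node 1 (.leaf (nat_lit 0)) (.leaf (nat_lit 0))))))) (.node 16 (.node 8 (.node 4 (.node 2 (.node 1 (.leaf (nat_lit 0)) (.leaf (nat_lit 1411))) (.node 1 (.leaf (nat_lit 1810)) (.leaf (nat_lit 1788)))) (.node 2 (.node 1 (.leaf (nat_lit 1603)) (.leaf (nat_lit 0))) (.node 1 (.leaf (nat_lit 0)) (.leaf (nat_lit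 0))))) (.node 4 (.node 2 (.node 1 (.leaf (nat_lit 2012)) (.leaf (nat_lit 0))) (.node 1 (.leaf (nat_lit 0)) (.leaf (nat_lit 0)))) (.node 2 (.node 1 (.leaf (nat_lit 1588)) (.leaf (nat_lit 0))) (.node 1 (.leaf (nat_lit 0)) (.leaf (nat_lit 0)))))) (.node 8 (.node 4 (.node 2 (.node 1 (.leaf (nat_lit 0)) (.leaf (nat_lit 1562))) (.node 1 (.leaf (nat_lit 1987)) (.leaf (nat_lit 1636)))) (.node 2 (.node 1 (.leaf (nat_lit 1762)) (.leaf (nat_lit 0))) (.node 1 (.leaf (nat_lit 0)) (.leaf (nat_lit 0))))) (.node 4 (.node 2 (.node 1 (.leaf (nat_lit 1854)) (.leaf (nat_lit 0))) (.node 1 (.leaf (nat_lit 0)) (.leaf (nat_lit 0)))) (.node 2 (.node 1 (.leaf (nat_lit 1451)) (.leaf (nat_lit 0))) (.node 1 (.leaf (nat_lit 0)) (.leaf (nat_lit 0))))))))) (.node 64 (.node 32 (.node 16 (.node 8 (.node 4 (.node 2 (.node 1 (.leaf (nat_lit 236)) (.leaf (nat_lit 0))) (.node 1 (.leaf (nat_lit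 0)) (.leaf (nat_lit 0)))) (.node 2 (.node 1 (.leaf (nat_lit 0)) (.leaf (nat_lit 549))) (.node 1 (.leaf (nat_lit 567)) (.leaf (nat_lit 2684))))) (.node 4 (.node 2 (.node 1 (.leaf (nat_lit 0)) (.leaf (nat_lit 704))) (.node 1 (.leaf (nat_lit 2426)) (.leaf (nat_lit 621)))) (.node 2 (.node 1 (.leaf (nat_lit 0)) (.leaf (nat_lit 2937))) (.node 1 (.leaf (nat_lit 685)) (.leaf (nat_lit 863)))))) (.node 8 (.node 4 (.node 2 (.node 1 (.leaf (nat_lit 0)) (.leaf (nat_lit 1601))) (.node 1 (.leaf (nat_lit 2039)) (.leaf (nat_lit 2009)))) (.node 2 (.node 1 (.leaf (nat_lit 1807)) (.leaf (nat_lit 0))) (.node 1 (.leaf (nat_lit 0)) (.leaf (nat_lit 0))))) (.node 4 (.node 2 (.node 1 (.leaf (nat_lit 2256)) (.leaf (nat_lit 0))) (.node 1 (.leaf (nat_lit 0)) (.leaf (nat_lit 0)))) (.node 2 (.node 1 (.leaf (nat_lit 1786)) (.leaf (nat_lit 0))) (.node 1 (.leaf (nat_lit 0)) (.leaf (nat_lit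 0))))))) (.node 16 (.node 8 (.node 4 (.node 2 (.node 1 (.leaf (nat_lit 0)) (.leaf (nat_lit 1761))) (.node 1 (.leaf (nat_lit 2232)) (.leaf (nat_lit 1763)))) (.node 2 (.node 1 (.leaf (nat_lit 1985)) (.leaf (nat_lit 0))) (.node 1 (.leaf (nat_lit 0)) (.leaf (nat_lit 0))))) (.node 4 (.node 2 (.node 1 (.leaf (nat_lit 1989)) (.leaf (nat_lit 0))) (.node 1 (.leaf (nat_lit 0)) (.leaf (nat_lit 0)))) (.node 2 (.node 1 (.leaf (nat_lit 1579)) (.leaf (nat_lit 0))) (.node 1 (.leaf (nat_lit 0)) (.leaf (nat_lit 0)))))) (.node 8 (.node 4 (.node 2 (.node 1 (.leaf (nat_lit 0)) (.leaf (nat_lit 436))) (.node 1 (.leaf (nat_lit 269)) (.leaf (nat_lit 435)))) (.node 2 (.node 1 (.leaf (nat_lit 342)) (.leaf (nat_lit 0))) (.node 1 (.leaf (nat_lit 0)) (.leaf (nat_lit 0))))) (.node 4 (.node 2 (.node 1 (.leaf (nat_lit 341)) (.leaf (nat_lit 0))) (.node 1 (.leaf (nat_lit 0)) (.leaf (nat_lit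 0)))) (.node 2 (.node 1 (.leaf (nat_lit 551)) (.leaf (nat_lit 0))) (.node 1 (.leaf (nat_lit 0)) (.leaf (nat_lit 0)))))))) (.node 32 (.node 16 (.node 8 (.node 4 (.node 2 (.node 1 (.leaf (nat_lit 244)) (.leaf (nat_lit 0))) (.node 1 (.leaf (nat_lit 0)) (.leaf (nat_lit 0)))) (.node 2 (.node 1 (.leaf (nat_lit 0)) (.leaf (nat_lit 836))) (.node 1 (.leaf (nat_lit 348)) (.leaf (nat_lit 2625))))) (.node 4 (.node 2 (.node 1 (.leaf (nat_lit 0)) (.leaf (nat_lit 440))) (.node 1 (.leaf (nat_lit 2378)) (.leaf (nat_lit 886)))) (.node 2 (.node 1 (.leaf (nat_lit 0)) (.leaf (nat_lit 2874))) (.node 1 (.leaf (nat_lit 999)) (.leaf (nat_lit 556)))))) (.node 8 (.node 4 (.node 2 (.node 1 (.leaf (nat_lit 0)) (.leaf (nat_lit 1374))) (.node 1 (.leaf (nat_lit 1765)) (.leaf (nat_lit 1468)))) (.node 2 (.node 1 (.leaf (nat_lit 1564)) (.leaf (nat_lit 0))) (.node 1 (.leaf (nat_lit 0)) (.leaf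 (nat_lit 0))))) (.node 4 (.node 2 (.node 1 (.leaf (nat_lit 1669)) (.leaf (nat_lit 0))) (.node 1 (.leaf (nat_lit 0)) (.leaf (nat_lit 0)))) (.node 2 (.node 1 (.leaf (nat_lit 1272)) (.leaf (nat_lit 0))) (.node 1 (.leaf (nat_lit 0)) (.leaf (nat_lit 0))))))) (.node 16 (.node 8 (.node 4 (.node 2 (.node 1 (.leaf (nat_lit 0)) (.leaf (nat_lit 344))) (.node 1 (.leaf (nat_lit 214)) (.leaf (nat_lit 343)))) (.node 2 (.node 1 (.leaf (nat_lit 271)) (.leaf (nat_lit 0))) (.node 1 (.leaf (nat_lit 0)) (.leaf (nat_lit 0))))) (.node 4 (.node 2 (.node 1 (.leaf (nat_lit 270)) (.leaf (nat_lit 0))) (.node 1 (.leaf (nat_lit 0)) (.leaf (nat_lit 0)))) (.node 2 (.node 1 (.leaf (nat_lit 437)) (.leaf (nat_lit 0))) (.node 1 (.leaf (nat_lit 0)) (.leaf (nat_lit 0)))))) (.node 8 (.node 4 (.node 2 (.node 1 (.leaf (nat_lit 0)) (.leaf (nat_lit 1806))) (.node 1 (.leaf (nat_lit 2291)) (.leaf (nat_lit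 2233)))) (.node 2 (.node 1 (.leaf (nat_lit 2037)) (.leaf (nat_lit 0))) (.node 1 (.leaf (nat_lit 0)) (.leaf (nat_lit 0))))) (.node 4 (.node 2 (.node 1 (.leaf (nat_lit 2492)) (.leaf (nat_lit 0))) (.node 1 (.leaf (nat_lit 0)) (.leaf (nat_lit 0)))) (.node 2 (.node 1 (.leaf (nat_lit 1995)) (.leaf (nat_lit 0))) (.node 1 (.leaf (nat_lit 0)) (.leaf (nat_lit 0)))))))))

noncomputable def pt2 : Tree :=
  .node 128 (.node 64 (.node 32 (.node 16 (.node 8 (.node 4 (.node 2 (.node 1 (.leaf (nat_lit 0)) (.leaf (nat_lit 292))) (.node 1 (.leaf (nat_lit 293)) (.leaf (nat_lit 183)))) (.node 2 (.node 1 (.leaf (nat_lit 371)) (.leaf (nat_lit 0))) (.node 1 (.leaf (nat_lit 0)) (.leaf (nat_lit 0))))) (.node 4 (.node 2 (.node 1 (.leaf (nat_lit 231)) (.leaf (nat_lit 0))) (.node 1 (.leaf (nat_lit 0)) (.leaf (nat_lit 0)))) (.node 2 (.node 1 (.leaf (nat_lit 230)) (.leaf (nat_lit 0))) (.node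 1 (.leaf (nat_lit 0)) (.leaf (nat_lit 0)))))) (.node 8 (.node 4 (.node 2 (.node 1 (.leaf (nat_lit 299)) (.leaf (nat_lit 0))) (.node 1 (.leaf (nat_lit 0)) (.leaf (nat_lit 0)))) (.node 2 (.node 1 (.leaf (nat_lit 0)) (.leaf (nat_lit 699))) (.node 1 (.leaf (nat_lit 2687)) (.leaf (nat_lit 840))))) (.node 4 (.node 2 (.node 1 (.leaf (nat_lit 0)) (.leaf (nat_lit 2429))) (.node 1 (.leaf (nat_lit 688)) (.leaf (nat_lit 445)))) (.node 2 (.node 1 (.leaf (nat_lit 0)) (.leaf (nat_lit 718))) (.node 1 (.leaf (nat_lit 559)) (.leaf (nat_lit 2175))))))) (.node 16 (.node 8 (.node 4 (.node 2 (.node 1 (.leaf (nat_lit 194)) (.leaf (nat_lit 0))) (.node 1 (.leaf (nat_lit 0)) (.leaf (nat_lit 0)))) (.node 2 (.node 1 (.leaf (nat_lit 0)) (.leaf (nat_lit 693))) (.node 1 (.leaf (nat_lit 3087)) (.leaf (nat_lit 833))))) (.node 4 (.node 2 (.node 1 (.leaf (nat_lit 0)) (.leaf (nat_lit 2857)))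 (.node 1 (.leaf (nat_lit 682)) (.leaf (nat_lit 442)))) (.node 2 (.node 1 (.leaf (nat_lit 0)) (.leaf (nat_lit 996))) (.node 1 (.leaf (nat_lit 554)) (.leaf (nat_lit 2608)))))) (.node 8 (.node 4 (.node 2 (.node 1 (.leaf (nat_lit 187)) (.leaf (nat_lit 0))) (.node 1 (.leaf (nat_lit 0)) (.leaf (nat_lit 0)))) (.node 2 (.node 1 (.leaf (nat_lit 0)) (.leaf (nat_lit 1029))) (.node 1 (.leaf (nat_lit 3160)) (.leaf (nat_lit 547))))) (.node 4 (.node 2 (.node 1 (.leaf (nat_lit 0)) (.leaf (nat_lit 2936))) (.node 1 (.leaf (nat_lit 433)) (.leaf (nat_lit 709)))) (.node 2 (.node 1 (.leaf (nat_lit 0)) (.leaf (nat_lit 683))) (.node 1 (.leaf (nat_lit 858)) (.leaf (nat_lit 2683)))))))) (.node 32 (.node 16 (.node 8 (.node 4 (.node 2 (.node 1 (.leaf (nat_lit 244)) (.leaf (nat_lit 0))) (.node 1 (.leaf (nat_lit 0)) (.leaf (nat_lit 0)))) (.node 2 (.node 1 (.leaf (nat_lit 0)) (.leaf (nat_lit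 556))) (.node 1 (.leaf (nat_lit 2874)) (.leaf (nat_lit 999))))) (.node 4 (.node 2 (.node 1 (.leaf (nat_lit 0)) (.leaf (nat_lit 2625))) (.node 1 (.leaf (nat_lit 836)) (.leaf (nat_lit 348)))) (.node 2 (.node 1 (.leaf (nat_lit 0)) (.leaf (nat_lit 886))) (.node 1 (.leaf (nat_lit 440)) (.leaf (nat_lit 2378)))))) (.node 8 (.node 4 (.node 2 (.node 1 (.leaf (nat_lit 0)) (.leaf (nat_lit 2233))) (.node 1 (.leaf (nat_lit 1806)) (.leaf (nat_lit 2291)))) (.node 2 (.node 1 (.leaf (nat_lit 1995)) (.leaf (nat_lit 0))) (.node 1 (.leaf (nat_lit 0)) (.leaf (nat_lit 0))))) (.node 4 (.node 2 (.node 1 (.leaf (nat_lit 2037)) (.leaf (nat_lit 0))) (.node 1 (.leaf (nat_lit 0)) (.leaf (nat_lit 0)))) (.node 2 (.node 1 (.leaf (nat_lit 2492)) (.leaf (nat_lit 0))) (.node 1 (.leaf (nat_lit 0)) (.leaf (nat_lit 0))))))) (.node 16 (.node 8 (.node 4 (.node 2 (.node 1 (.leaf (nat_lit 0)) (.leaf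 (nat_lit 1468))) (.node 1 (.leaf (nat_lit 1374)) (.leaf (nat_lit 1765)))) (.node 2 (.node 1 (.leaf (nat_lit 1272)) (.leaf (nat_lit 0))) (.node 1 (.leaf (nat_lit 0)) (.leaf (nat_lit 0))))) (.node 4 (.node 2 (.node 1 (.leaf (nat_lit 1564)) (.leaf (nat_lit 0))) (.node 1 (.leaf (nat_lit 0)) (.leaf (nat_lit 0)))) (.node 2 (.node 1 (.leaf (nat_lit 1669)) (.leaf (nat_lit 0))) (.node 1 (.leaf (nat_lit 0)) (.leaf (nat_lit 0)))))) (.node 8 (.node 4 (.node 2 (.node 1 (.leaf (nat_lit 0)) (.leaf (nat_lit 343))) (.node 1 (.leaf (nat_lit 344)) (.leaf (nat_lit 214)))) (.node 2 (.node 1 (.leaf (nat_lit 437)) (.leaf (nat_lit 0))) (.node 1 (.leaf (nat_lit 0)) (.leaf (nat_lit 0))))) (.node 4 (.node 2 (.node 1 (.leaf (nat_lit 271)) (.leaf (nat_lit 0))) (.node 1 (.leaf (nat_lit 0)) (.leaf (nat_lit 0)))) (.node 2 (.node 1 (.leaf (nat_lit 270)) (.leaf (nat_lit 0))) (.node 1 (.leaf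 (nat_lit 0)) (.leaf (nat_lit 0))))))))) (.node 64 (.node 32 (.node 16 (.node 8 (.node 4 (.node 2 (.node 1 (.leaf (nat_lit 152)) (.leaf (nat_lit 0))) (.node 1 (.leaf (nat_lit 0)) (.leaf (nat_lit 0)))) (.node 2 (.node 1 (.leaf (nat_lit 0)) (.leaf (nat_lit 853))) (.node 1 (.leaf (nat_lit 3271)) (.leaf (nat_lit 680))))) (.node 4 (.node 2 (.node 1 (.leaf (nat_lit 0)) (.leaf (nat_lit 3086))) (.node 1 (.leaf (nat_lit 544)) (.leaf (nat_lit 562)))) (.node 2 (.node 1 (.leaf (nat_lit 0)) (.leaf (nat_lit 831))) (.node 1 (.leaf (nat_lit 696)) (.leaf (nat_lit 2856)))))) (.node 8 (.node 4 (.node 2 (.node 1 (.leaf (nat_lit 0)) (.leaf (nat_lit 1636))) (.node 1 (.leaf (nat_lit 1562)) (.leaf (nat_lit 1987)))) (.node 2 (.node 1 (.leaf (nat_lit 1451)) (.leaf (nat_lit 0))) (.node 1 (.leaf (nat_lit 0)) (.leaf (nat_lit 0))))) (.node 4 (.node 2 (.node 1 (.leaf (nat_lit 1762)) (.leaf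 (nat_lit 0))) (.node 1 (.leaf (nat_lit 0)) (.leaf (nat_lit 0)))) (.node 2 (.node 1 (.leaf (nat_lit 1854)) (.leaf (nat_lit 0))) (.node 1 (.leaf (nat_lit 0)) (.leaf (nat_lit 0))))))) (.node 16 (.node 8 (.node 4 (.node 2 (.node 1 (.leaf (nat_lit 0)) (.leaf (nat_lit 272))) (.node 1 (.leaf (nat_lit 273)) (.leaf (nat_lit 171)))) (.node 2 (.node 1 (.leaf (nat_lit 345)) (.leaf (nat_lit 0))) (.node 1 (.leaf (nat_lit 0)) (.leaf (nat_lit 0))))) (.node 4 (.node 2 (.node 1 (.leaf (nat_lit 216)) (.leaf (nat_lit 0))) (.node 1 (.leaf (nat_lit 0)) (.leaf (nat_lit 0)))) (.node 2 (.node 1 (.leaf (nat_lit 215)) (.leaf (nat_lit 0))) (.node 1 (.leaf (nat_lit 0)) (.leaf (nat_lit 0)))))) (.node 8 (.node 4 (.node 2 (.node 1 (.leaf (nat_lit 0)) (.leaf (nat_lit 1788))) (.node 1 (.leaf (nat_lit 1411)) (.leaf (nat_lit 1810)))) (.node 2 (.node 1 (.leaf (nat_lit 1588)) (.leaf (nat_lit 0)))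 (.node 1 (.leaf (nat_lit 0)) (.leaf (nat_lit 0))))) (.node 4 (.node 2 (.node 1 (.leaf (nat_lit 1603)) (.leaf (nat_lit 0))) (.node 1 (.leaf (nat_lit 0)) (.leaf (nat_lit 0)))) (.node 2 (.node 1 (.leaf (nat_lit 2012)) (.leaf (nat_lit 0))) (.node 1 (.leaf (nat_lit 0)) (.leaf (nat_lit 0)))))))) (.node 32 (.node 16 (.node 8 (.node 4 (.node 2 (.node 1 (.leaf (nat_lit 236)) (.leaf (nat_lit 0))) (.node 1 (.leaf (nat_lit 0)) (.leaf (nat_lit 0)))) (.node 2 (.node 1 (.leaf (nat_lit 0)) (.leaf (nat_lit 863))) (.node 1 (.leaf (nat_lit 2937)) (.leaf (nat_lit 685))))) (.node 4 (.node 2 (.node 1 (.leaf (nat_lit 0)) (.leaf (nat_lit 2684))) (.node 1 (.leaf (nat_lit 549)) (.leaf (nat_lit 567)))) (.node 2 (.node 1 (.leaf (nat_lit 0)) (.leaf (nat_lit 621))) (.node 1 (.leaf (nat_lit 704)) (.leaf (nat_lit 2426)))))) (.node 8 (.node 4 (.node 2 (.node 1 (.leaf (nat_lit 0)) (.leaf (nat_lit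 435))) (.node 1 (.leaf (nat_lit 436)) (.leaf (nat_lit 269)))) (.node 2 (.node 1 (.leaf (nat_lit 551)) (.leaf (nat_lit 0))) (.node 1 (.leaf (nat_lit 0)) (.leaf (nat_lit 0))))) (.node 4 (.node 2 (.node 1 (.leaf (nat_lit 342)) (.leaf (nat_lit 0))) (.node 1 (.leaf (nat_lit 0)) (.leaf (nat_lit 0)))) (.node 2 (.node 1 (.leaf (nat_lit 341)) (.leaf (nat_lit 0))) (.node 1 (.leaf (nat_lit 0)) (.leaf (nat_lit 0))))))) (.node 16 (.node 8 (.node 4 (.node 2 (.node 1 (.leaf (nat_lit 0)) (.leaf (nat_lit 2009))) (.node 1 (.leaf (nat_lit 1601)) (.leaf (nat_lit 2039)))) (.node 2 (.node 1 (.leaf (nat_lit 1786)) (.leaf (nat_lit 0))) (.node 1 (.leaf (nat_lit 0)) (.leaf (nat_lit 0))))) (.node 4 (.node 2 (.node 1 (.leaf (nat_lit 1807)) (.leaf (nat_lit 0))) (.node 1 (.leaf (nat_lit 0)) (.leaf (nat_lit 0)))) (.node 2 (.node 1 (.leaf (nat_lit 2256)) (.leaf (nat_lit 0))) (.node 1 (.leaf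 (nat_lit 0)) (.leaf (nat_lit 0)))))) (.node 8 (.node 4 (.node 2 (.node 1 (.leaf (nat_lit 0)) (.leaf (nat_lit 1763))) (.node 1 (.leaf (nat_lit 1761)) (.leaf (nat_lit 2232)))) (.node 2 (.node 1 (.leaf (nat_lit 1579)) (.leaf (nat_lit 0))) (.node 1 (.leaf (nat_lit 0)) (.leaf (nat_lit 0))))) (.node 4 (.node 2 (.node 1 (.leaf (nat_lit 1985)) (.leaf (nat_lit 0))) (.node 1 (.leaf (nat_lit 0)) (.leaf (nat_lit 0)))) (.node 2 (.node 1 (.leaf (nat_lit 1989)) (.leaf (nat_lit 0))) (.node 1 (.leaf (nat_lit 0)) (.leaf (nat_lit 0)))))))))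

noncomputable def pt3 : Tree :=
  .node 128 (.node 64 (.node 32 (.node 16 (.node 8 (.node 4 (.node 2 (.node 1 (.leaf (nat_lit 0)) (.leaf (nat_lit 183))) (.node 1 (.leaf (nat_lit 292)) (.leaf (nat_lit 293)))) (.node 2 (.node 1 (.leaf (nat_lit 230)) (.leaf (nat_lit 0))) (.node 1 (.leaf (nat_lit 0)) (.leaf (nat_lit 0))))) (.node 4 (.node 2 (.node 1 (.leaf (nat_lit 371)) (.leaf (nat_lit 0))) (.node 1 (.leaf (nat_lit 0)) (.leaf (nat_lit 0)))) (.node 2 (.node 1 (.leaf (nat_lit 231)) (.leaf (nat_lit 0))) (.node 1 (.leaf (nat_lit 0)) (.leaf (nat_lit 0)))))) (.node 8 (.node 4 (.node 2 (.node 1 (.leaf (nat_lit 187)) (.leaf (nat_lit 0))) (.node 1 (.leaf (nat_lit 0)) (.leaf (nat_lit 0)))) (.node 2 (.node 1 (.leaf (nat_lit 0)) (.leaf (nat_lit 2683))) (.node 1 (.leaf (nat_lit 683)) (.leaf (nat_lit 858))))) (.node 4 (.node 2 (.node 1 (.leaf (nat_lit 0)) (.leaf (nat_lit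 547))) (.node 1 (.leaf (nat_lit 1029)) (.leaf (nat_lit 3160)))) (.node 2 (.node 1 (.leaf (nat_lit 0)) (.leaf (nat_lit 709))) (.node 1 (.leaf (nat_lit 2936)) (.leaf (nat_lit 433))))))) (.node 16 (.node 8 (.node 4 (.node 2 (.node 1 (.leaf (nat_lit 299)) (.leaf (nat_lit 0))) (.node 1 (.leaf (nat_lit 0)) (.leaf (nat_lit 0)))) (.node 2 (.node 1 (.leaf (nat_lit 0)) (.leaf (nat_lit 2175))) (.node 1 (.leaf (nat_lit 718)) (.leaf (nat_lit 559))))) (.node 4 (.node 2 (.node 1 (.leaf (nat_lit 0)) (.leaf (nat_lit 840))) (.node 1 (.leaf (nat_lit 699)) (.leaf (nat_lit 2687)))) (.node 2 (.node 1 (.leaf (nat_lit 0)) (.leaf (nat_lit 445))) (.node 1 (.leaf (nat_lit 2429)) (.leaf (nat_lit 688)))))) (.node 8 (.node 4 (.node 2 (.node 1 (.leaf (nat_lit 194)) (.leaf (nat_lit 0))) (.node 1 (.leaf (nat_lit 0)) (.leaf (nat_lit 0)))) (.node 2 (.node 1 (.leaf (nat_lit 0)) (.leaf (nat_lit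 2608))) (.node 1 (.leaf (nat_lit 996)) (.leaf (nat_lit 554))))) (.node 4 (.node 2 (.node 1 (.leaf (nat_lit 0)) (.leaf (nat_lit 833))) (.node 1 (.leaf (nat_lit 693)) (.leaf (nat_lit 3087)))) (.node 2 (.node 1 (.leaf (nat_lit 0)) (.leaf (nat_lit 442))) (.node 1 (.leaf (nat_lit 2857)) (.leaf (nat_lit 682)))))))) (.node 32 (.node 16 (.node 8 (.node 4 (.node 2 (.node 1 (.leaf (nat_lit 236)) (.leaf (nat_lit 0))) (.node 1 (.leaf (nat_lit 0)) (.leaf (nat_lit 0)))) (.node 2 (.node 1 (.leaf (nat_lit 0)) (.leaf (nat_lit 2426))) (.node 1 (.leaf (nat_lit 621)) (.leaf (nat_lit 704))))) (.node 4 (.node 2 (.node 1 (.leaf (nat_lit 0)) (.leaf (nat_lit 685))) (.node 1 (.leaf (nat_lit 863)) (.leaf (nat_lit 2937)))) (.node 2 (.node 1 (.leaf (nat_lit 0)) (.leaf (nat_lit 567))) (.node 1 (.leaf (nat_lit 2684)) (.leaf (nat_lit 549)))))) (.node 8 (.node 4 (.node 2 (.node 1 (.leaf (nat_lit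 0)) (.leaf (nat_lit 2232))) (.node 1 (.leaf (nat_lit 1763)) (.leaf (nat_lit 1761)))) (.node 2 (.node 1 (.leaf (nat_lit 1989)) (.leaf (nat_lit 0))) (.node 1 (.leaf (nat_lit 0)) (.leaf (nat_lit 0))))) (.node 4 (.node 2 (.node 1 (.leaf (nat_lit 1579)) (.leaf (nat_lit 0))) (.node 1 (.leaf (nat_lit 0)) (.leaf (nat_lit 0)))) (.node 2 (.node 1 (.leaf (nat_lit 1985)) (.leaf (nat_lit 0))) (.node 1 (.leaf (nat_lit 0)) (.leaf (nat_lit 0))))))) (.node 16 (.node 8 (.node 4 (.node 2 (.node 1 (.leaf (nat_lit 0)) (.leaf (nat_lit 269))) (.node 1 (.leaf (nat_lit 435)) (.leaf (nat_lit 436)))) (.node 2 (.node 1 (.leaf (nat_lit 341)) (.leaf (nat_lit 0))) (.node 1 (.leaf (nat_lit 0)) (.leaf (nat_lit 0))))) (.node 4 (.node 2 (.node 1 (.leaf (nat_lit 551)) (.leaf (nat_lit 0))) (.node 1 (.leaf (nat_lit 0)) (.leaf (nat_lit 0)))) (.node 2 (.node 1 (.leaf (nat_lit 342)) (.leaf (nat_lit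 0))) (.node 1 (.leaf (nat_lit 0)) (.leaf (nat_lit 0)))))) (.node 8 (.node 4 (.node 2 (.node 1 (.leaf (nat_lit 0)) (.leaf (nat_lit 2039))) (.node 1 (.leaf (nat_lit 2009)) (.leaf (nat_lit 1601)))) (.node 2 (.node 1 (.leaf (nat_lit 2256)) (.leaf (nat_lit 0))) (.node 1 (.leaf (nat_lit 0)) (.leaf (nat_lit 0))))) (.node 4 (.node 2 (.node 1 (.leaf (nat_lit 1786)) (.leaf (nat_lit 0))) (.node 1 (.leaf (nat_lit 0)) (.leaf (nat_lit 0)))) (.node 2 (.node 1 (.leaf (nat_lit 1807)) (.leaf (nat_lit 0))) (.node 1 (.leaf (nat_lit 0)) (.leaf (nat_lit 0))))))))) (.node 64 (.node 32 (.node 16 (.node 8 (.node 4 (.node 2 (.node 1 (.leaf (nat_lit 244)) (.leaf (nat_lit 0))) (.node 1 (.leaf (nat_lit 0)) (.leaf (nat_lit 0)))) (.node 2 (.node 1 (.leaf (nat_lit 0)) (.leaf (nat_lit 2378))) (.node 1 (.leaf (nat_lit 886)) (.leaf (nat_lit 440))))) (.node 4 (.node 2 (.node 1 (.leaf (nat_lit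 0)) (.leaf (nat_lit 999))) (.node 1 (.leaf (nat_lit 556)) (.leaf (nat_lit 2874)))) (.node 2 (.node 1 (.leaf (nat_lit 0)) (.leaf (nat_lit 348))) (.node 1 (.leaf (nat_lit 2625)) (.leaf (nat_lit 836)))))) (.node 8 (.node 4 (.node 2 (.node 1 (.leaf (nat_lit 0)) (.leaf (nat_lit 214))) (.node 1 (.leaf (nat_lit 343)) (.leaf (nat_lit 344)))) (.node 2 (.node 1 (.leaf (nat_lit 270)) (.leaf (nat_lit 0))) (.node 1 (.leaf (nat_lit 0)) (.leaf (nat_lit 0))))) (.node 4 (.node 2 (.node 1 (.leaf (nat_lit 437)) (.leaf (nat_lit 0))) (.node 1 (.leaf (nat_lit 0)) (.leaf (nat_lit 0)))) (.node 2 (.node 1 (.leaf (nat_lit 271)) (.leaf (nat_lit 0))) (.node 1 (.leaf (nat_lit 0)) (.leaf (nat_lit 0))))))) (.node 16 (.node 8 (.node 4 (.node 2 (.node 1 (.leaf (nat_lit 0)) (.leaf (nat_lit 2291))) (.node 1 (.leaf (nat_lit 2233)) (.leaf (nat_lit 1806)))) (.node 2 (.node 1 (.leaf (nat_lit 2492))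 (.leaf (nat_lit 0))) (.node 1 (.leaf (nat_lit 0)) (.leaf (nat_lit 0))))) (.node 4 (.node 2 (.node 1 (.leaf (nat_lit 1995)) (.leaf (nat_lit 0))) (.node 1 (.leaf (nat_lit 0)) (.leaf (nat_lit 0)))) (.node 2 (.node 1 (.leaf (nat_lit 2037)) (.leaf (nat_lit 0))) (.node 1 (.leaf (nat_lit 0)) (.leaf (nat_lit 0)))))) (.node 8 (.node 4 (.node 2 (.node 1 (.leaf (nat_lit 0)) (.leaf (nat_lit 1765))) (.node 1 (.leaf (nat_lit 1468)) (.leaf (nat_lit 1374)))) (.node 2 (.node 1 (.leaf (nat_lit 1669)) (.leaf (nat_lit 0))) (.node 1 (.leaf (nat_lit 0)) (.leaf (nat_lit 0))))) (.node 4 (.node 2 (.node 1 (.leaf (nat_lit 1272)) (.leaf (nat_lit 0))) (.node 1 (.leaf (nat_lit 0)) (.leaf (nat_lit 0)))) (.node 2 (.node 1 (.leaf (nat_lit 1564)) (.leaf (nat_lit 0))) (.node 1 (.leaf (nat_lit 0)) (.leaf (nat_lit 0)))))))) (.node 32 (.node 16 (.node 8 (.node 4 (.node 2 (.node 1 (.leaf (nat_lit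 152)) (.leaf (nat_lit 0))) (.node 1 (.leaf (nat_lit 0)) (.leaf (nat_lit 0)))) (.node 2 (.node 1 (.leaf (nat_lit 0)) (.leaf (nat_lit 2856))) (.node 1 (.leaf (nat_lit 831)) (.leaf (nat_lit 696))))) (.node 4 (.node 2 (.node 1 (.leaf (nat_lit 0)) (.leaf (nat_lit 680))) (.node 1 (.leaf (nat_lit 853)) (.leaf (nat_lit 3271)))) (.node 2 (.node 1 (.leaf (nat_lit 0)) (.leaf (nat_lit 562))) (.node 1 (.leaf (nat_lit 3086)) (.leaf (nat_lit 544)))))) (.node 8 (.node 4 (.node 2 (.node 1 (.leaf (nat_lit 0)) (.leaf (nat_lit 1810))) (.node 1 (.leaf (nat_lit 1788)) (.leaf (nat_lit 1411)))) (.node 2 (.node 1 (.leaf (nat_lit 2012)) (.leaf (nat_lit 0))) (.node 1 (.leaf (nat_lit 0)) (.leaf (nat_lit 0))))) (.node 4 (.node 2 (.node 1 (.leaf (nat_lit 1588)) (.leaf (nat_lit 0))) (.node 1 (.leaf (nat_lit 0)) (.leaf (nat_lit 0)))) (.node 2 (.node 1 (.leaf (nat_lit 1603)) (.leaf (nat_lit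 0))) (.node 1 (.leaf (nat_lit 0)) (.leaf (nat_lit 0))))))) (.node 16 (.node 8 (.node 4 (.node 2 (.node 1 (.leaf (nat_lit 0)) (.leaf (nat_lit 1987))) (.node 1 (.leaf (nat_lit 1636)) (.leaf (nat_lit 1562)))) (.node 2 (.node 1 (.leaf (nat_lit 1854)) (.leaf (nat_lit 0))) (.node 1 (.leaf (nat_lit 0)) (.leaf (nat_lit 0))))) (.node 4 (.node 2 (.node 1 (.leaf (nat_lit 1451)) (.leaf (nat_lit 0))) (.node 1 (.leaf (nat_lit 0)) (.leaf (nat_lit 0)))) (.node 2 (.node 1 (.leaf (nat_lit 1762)) (.leaf (nat_lit 0))) (.node 1 (.leaf (nat_lit 0)) (.leaf (nat_lit 0)))))) (.node 8 (.node 4 (.node 2 (.node 1 (.leaf (nat_lit 0)) (.leaf (nat_lit 171))) (.node 1 (.leaf (nat_lit 272)) (.leaf (nat_lit 273)))) (.node 2 (.node 1 (.leaf (nat_lit 215)) (.leaf (nat_lit 0))) (.node 1 (.leaf (nat_lit 0)) (.leaf (nat_lit 0))))) (.node 4 (.node 2 (.node 1 (.leaf (nat_lit 345)) (.leaf (nat_lit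 0))) (.node 1 (.leaf (nat_lit 0)) (.leaf (nat_lit 0)))) (.node 2 (.node 1 (.leaf (nat_lit 216)) (.leaf (nat_lit 0))) (.node 1 (.leaf (nat_lit 0)) (.leaf (nat_lit 0)))))))))

noncomputable def pt4 : Tree :=
  .node 128 (.node 64 (.node 32 (.node 16 (.node 8 (.node 4 (.node 2 (.node 1 (.leaf (nat_lit 0)) (.leaf (nat_lit 233))) (.node 1 (.leaf (nat_lit 144)) (.leaf (nat_lit 232)))) (.node 2 (.node 1 (.leaf (nat_lit 185)) (.leaf (nat_lit 0))) (.node 1 (.leaf (nat_lit 0)) (.leaf (nat_lit 0))))) (.node 4 (.node 2 (.node 1 (.leaf (nat_lit 184)) (.leaf (nat_lit 0))) (.node 1 (.leaf (nat_lit 0)) (.leaf (nat_lit 0)))) (.node 2 (.node 1 (.leaf (nat_lit 294)) (.leaf (nat_lit 0))) (.node 1 (.leaf (nat_lit 0)) (.leaf (nat_lit 0)))))) (.node 8 (.node 4 (.node 2 (.node 1 (.leaf (nat_lit 243)) (.leaf (nat_lit 0))) (.node 1 (.leaf (nat_lit 0)) (.leaf (nat_lit 0)))) (.node 2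 (.node 1 (.leaf (nat_lit 0)) (.leaf (nat_lit 835))) (.node 1 (.leaf (nat_lit 347)) (.leaf (nat_lit 3085))))) (.node 4 (.node 2 (.node 1 (.leaf (nat_lit 0)) (.leaf (nat_lit 438))) (.node 1 (.leaf (nat_lit 2855)) (.leaf (nat_lit 1176)))) (.node 2 (.node 1 (.leaf (nat_lit 0)) (.leaf (nat_lit 3270))) (.node 1 (.leaf (nat_lit 998)) (.leaf (nat_lit 553))))))) (.node 16 (.node 8 (.node 4 (.node 2 (.node 1 (.leaf (nat_lit 235)) (.leaf (nat_lit 0))) (.node 1 (.leaf (nat_lit 0)) (.leaf (nat_lit 0)))) (.node 2 (.node 1 (.leaf (nat_lit 0)) (.leaf (nat_lit 548))) (.node 1 (.leaf (nat_lit 563)) (.leaf (nat_lit 2755))))) (.node 4 (.node 2 (.node 1 (.leaf (nat_lit 0)) (.leaf (nat_lit 697))) (.node 1 (.leaf (nat_lit 2497)) (.leaf (nat_lit 837)))) (.node 2 (.node 1 (.leaf (nat_lit 0)) (.leaf (nat_lit 3004))) (.node 1 (.leaf (nat_lit 684)) (.leaf (nat_lit 854)))))) (.node 8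 (.node 4 (.node 2 (.node 1 (.leaf (nat_lit 380)) (.leaf (nat_lit 0))) (.node 1 (.leaf (nat_lit 0)) (.leaf (nat_lit 0)))) (.node 2 (.node 1 (.leaf (nat_lit 0)) (.leaf (nat_lit 844))) (.node 1 (.leaf (nat_lit 349)) (.leaf (nat_lit 2686))))) (.node 4 (.node 2 (.node 1 (.leaf (nat_lit 0)) (.leaf (nat_lit 441))) (.node 1 (.leaf (nat_lit 2428)) (.leaf (nat_lit 883)))) (.node 2 (.node 1 (.leaf (nat_lit 0)) (.leaf (nat_lit 2939))) (.node 1 (.leaf (nat_lit 1009)) (.leaf (nat_lit 557)))))))) (.node 32 (.node 16 (.node 8 (.node 4 (.node 2 (.node 1 (.leaf (nat_lit 193)) (.leaf (nat_lit 0))) (.node 1 (.leaf (nat_lit 0)) (.leaf (nat_lit 0)))) (.node 2 (.node 1 (.leaf (nat_lit 0)) (.leaf (nat_lit 681))) (.node 1 (.leaf (nat_lit 443)) (.leaf (nat_lit 2942))))) (.node 4 (.node 2 (.node 1 (.leaf (nat_lit 0)) (.leaf (nat_lit 555))) (.node 1 (.leaf (nat_lit 2691)) (.leaf (nat_lit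 995)))) (.node 2 (.node 1 (.leaf (nat_lit 0)) (.leaf (nat_lit 3163))) (.node 1 (.leaf (nat_lit 832)) (.leaf (nat_lit 694)))))) (.node 8 (.node 4 (.node 2 (.node 1 (.leaf (nat_lit 0)) (.leaf (nat_lit 340))) (.node 1 (.leaf (nat_lit 213)) (.leaf (nat_lit 339)))) (.node 2 (.node 1 (.leaf (nat_lit 268)) (.leaf (nat_lit 0))) (.node 1 (.leaf (nat_lit 0)) (.leaf (nat_lit 0))))) (.node 4 (.node 2 (.node 1 (.leaf (nat_lit 267)) (.leaf (nat_lit 0))) (.node 1 (.leaf (nat_lit 0)) (.leaf (nat_lit 0)))) (.node 2 (.node 1 (.leaf (nat_lit 432)) (.leaf (nat_lit 0))) (.node 1 (.leaf (nat_lit 0)) (.leaf (nat_lit 0))))))) (.node 16 (.node 8 (.node 4 (.node 2 (.node 1 (.leaf (nat_lit 0)) (.leaf (nat_lit 1227))) (.node 1 (.leaf (nat_lit 1638)) (.leaf (nat_lit 1616)))) (.node 2 (.node 1 (.leaf (nat_lit 1436)) (.leaf (nat_lit 0))) (.node 1 (.leaf (nat_lit 0)) (.leaf (nat_lit 0)))))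 (.node 4 (.node 2 (.node 1 (.leaf (nat_lit 1829)) (.leaf (nat_lit 0))) (.node 1 (.leaf (nat_lit 0)) (.leaf (nat_lit 0)))) (.node 2 (.node 1 (.leaf (nat_lit 1421)) (.leaf (nat_lit 0))) (.node 1 (.leaf (nat_lit 0)) (.leaf (nat_lit 0)))))) (.node 8 (.node 4 (.node 2 (.node 1 (.leaf (nat_lit 0)) (.leaf (nat_lit 1727))) (.node 1 (.leaf (nat_lit 2176)) (.leaf (nat_lit 1853)))) (.node 2 (.node 1 (.leaf (nat_lit 1940)) (.leaf (nat_lit 0))) (.node 1 (.leaf (nat_lit 0)) (.leaf (nat_lit 0))))) (.node 4 (.node 2 (.node 1 (.leaf (nat_lit 2085)) (.leaf (nat_lit 0))) (.node 1 (.leaf (nat_lit 0)) (.leaf (nat_lit 0)))) (.node 2 (.node 1 (.leaf (nat_lit 1647)) (.leaf (nat_lit 0))) (.node 1 (.leaf (nat_lit 0)) (.leaf (nat_lit 0))))))))) (.node 64 (.node 32 (.node 16 (.node 8 (.node 4 (.node 2 (.node 1 (.leaf (nat_lit 298)) (.leaf (nat_lit 0))) (.node 1 (.leaf (nat_lit 0)) (.leaf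 (nat_lit 0)))) (.node 2 (.node 1 (.leaf (nat_lit 0)) (.leaf (nat_lit 687))) (.node 1 (.leaf (nat_lit 446)) (.leaf (nat_lit 2510))))) (.node 4 (.node 2 (.node 1 (.leaf (nat_lit 0)) (.leaf (nat_lit 560))) (.node 1 (.leaf (nat_lit 2255)) (.leaf (nat_lit 781)))) (.node 2 (.node 1 (.leaf (nat_lit 0)) (.leaf (nat_lit 2769))) (.node 1 (.leaf (nat_lit 839)) (.leaf (nat_lit 700)))))) (.node 8 (.node 4 (.node 2 (.node 1 (.leaf (nat_lit 0)) (.leaf (nat_lit 1434))) (.node 1 (.leaf (nat_lit 1852)) (.leaf (nat_lit 1826)))) (.node 2 (.node 1 (.leaf (nat_lit 1635)) (.leaf (nat_lit 0))) (.node 1 (.leaf (nat_lit 0)) (.leaf (nat_lit 0))))) (.node 4 (.node 2 (.node 1 (.leaf (nat_lit 2059)) (.leaf (nat_lit 0))) (.node 1 (.leaf (nat_lit 0)) (.leaf (nat_lit 0)))) (.node 2 (.node 1 (.leaf (nat_lit 1614)) (.leaf (nat_lit 0))) (.node 1 (.leaf (nat_lit 0)) (.leaf (nat_lit 0))))))) (.node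 16 (.node 8 (.node 4 (.node 2 (.node 1 (.leaf (nat_lit 0)) (.leaf (nat_lit 1939))) (.node 1 (.leaf (nat_lit 2427)) (.leaf (nat_lit 1988)))) (.node 2 (.node 1 (.leaf (nat_lit 2174)) (.leaf (nat_lit 0))) (.node 1 (.leaf (nat_lit 0)) (.leaf (nat_lit 0))))) (.node 4 (.node 2 (.node 1 (.leaf (nat_lit 2236)) (.leaf (nat_lit 0))) (.node 1 (.leaf (nat_lit 0)) (.leaf (nat_lit 0)))) (.node 2 (.node 1 (.leaf (nat_lit 1775)) (.leaf (nat_lit 0))) (.node 1 (.leaf (nat_lit 0)) (.leaf (nat_lit 0)))))) (.node 8 (.node 4 (.node 2 (.node 1 (.leaf (nat_lit 0)) (.leaf (nat_lit 541))) (.node 1 (.leaf (nat_lit 335)) (.leaf (nat_lit 540)))) (.node 2 (.node 1 (.leaf (nat_lit 426)) (.leaf (nat_lit 0))) (.node 1 (.leaf (nat_lit 0)) (.leaf (nat_lit 0))))) (.node 4 (.node 2 (.node 1 (.leaf (nat_lit 425)) (.leaf (nat_lit 0))) (.node 1 (.leaf (nat_lit 0)) (.leaf (nat_lit 0)))) (.node 2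 (.node 1 (.leaf (nat_lit 677)) (.leaf (nat_lit 0))) (.node 1 (.leaf (nat_lit 0)) (.leaf (nat_lit 0)))))))) (.node 32 (.node 16 (.node 8 (.node 4 (.node 2 (.node 1 (.leaf (nat_lit 309)) (.leaf (nat_lit 0))) (.node 1 (.leaf (nat_lit 0)) (.leaf (nat_lit 0)))) (.node 2 (.node 1 (.leaf (nat_lit 0)) (.leaf (nat_lit 1003))) (.node 1 (.leaf (nat_lit 275)) (.leaf (nat_lit 2873))))) (.node 4 (.node 2 (.node 1 (.leaf (nat_lit 0)) (.leaf (nat_lit 346))) (.node 1 (.leaf (nat_lit 2624)) (.leaf (nat_lit 1070)))) (.node 2 (.node 1 (.leaf (nat_lit 0)) (.leaf (nat_lit 3100))) (.node 1 (.leaf (nat_lit 1180)) (.leaf (nat_lit 439)))))) (.node 8 (.node 4 (.node 2 (.node 1 (.leaf (nat_lit 0)) (.leaf (nat_lit 1538))) (.node 1 (.leaf (nat_lit 1943)) (.leaf (nat_lit 1668)))) (.node 2 (.node 1 (.leaf (nat_lit 1729)) (.leaf (nat_lit 0))) (.node 1 (.leaf (nat_lit 0)) (.leaf (nat_lit 0)))))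 (.node 4 (.node 2 (.node 1 (.leaf (nat_lit 1881)) (.leaf (nat_lit 0))) (.node 1 (.leaf (nat_lit 0)) (.leaf (nat_lit 0)))) (.node 2 (.node 1 (.leaf (nat_lit 1474)) (.leaf (nat_lit 0))) (.node 1 (.leaf (nat_lit 0)) (.leaf (nat_lit 0))))))) (.node 16 (.node 8 (.node 4 (.node 2 (.node 1 (.leaf (nat_lit 0)) (.leaf (nat_lit 429))) (.node 1 (.leaf (nat_lit 266)) (.leaf (nat_lit 428)))) (.node 2 (.node 1 (.leaf (nat_lit 337)) (.leaf (nat_lit 0))) (.node 1 (.leaf (nat_lit 0)) (.leaf (nat_lit 0))))) (.node 4 (.node 2 (.node 1 (.leaf (nat_lit 336)) (.leaf (nat_lit 0))) (.node 1 (.leaf (nat_lit 0)) (.leaf (nat_lit 0)))) (.node 2 (.node 1 (.leaf (nat_lit 543)) (.leaf (nat_lit 0))) (.node 1 (.leaf (nat_lit 0)) (.leaf (nat_lit 0)))))) (.node 8 (.node 4 (.node 2 (.node 1 (.leaf (nat_lit 0)) (.leaf (nat_lit 1634))) (.node 1 (.leaf (nat_lit 2060)) (.leaf (nat_lit 1986)))) (.node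 2 (.node 1 (.leaf (nat_lit 1827)) (.leaf (nat_lit 0))) (.node 1 (.leaf (nat_lit 0)) (.leaf (nat_lit 0))))) (.node 4 (.node 2 (.node 1 (.leaf (nat_lit 2234)) (.leaf (nat_lit 0))) (.node 1 (.leaf (nat_lit 0)) (.leaf (nat_lit 0)))) (.node 2 (.node 1 (.leaf (nat_lit 1774)) (.leaf (nat_lit 0))) (.node 1 (.leaf (nat_lit 0)) (.leaf (nat_lit 0)))))))))

noncomputable def pt5 : Tree :=
  .node 128 (.node 64 (.node 32 (.node 16 (.node 8 (.node 4 (.node 2 (.node 1 (.leaf (nat_lit 6)) (.leaf (nat_lit 0))) (.node 1 (.leaf (nat_lit 0)) (.leaf (nat_lit 0)))) (.node 2 (.node 1 (.leaf (nat_lit 0)) (.leaf (nat_lit 424))) (.node 1 (.leaf (nat_lit 689)) (.leaf (nat_lit 792))))) (.node 4 (.node 2 (.node 1 (.leaf (nat_lit 0)) (.leaf (nat_lit 550))) (.node 1 (.leaf (nat_lit 637)) (.leaf (nat_lit 676)))) (.node 2 (.node 1 (.leaf (nat_lit 0)) (.leaf (nat_lit 636))) (.node 1 (.leaf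 (nat_lit 539)) (.leaf (nat_lit 434)))))) (.node 8 (.node 4 (.node 2 (.node 1 (.leaf (nat_lit 0)) (.leaf (nat_lit 1008))) (.node 1 (.leaf (nat_lit 1133)) (.leaf (nat_lit 1014)))) (.node 2 (.node 1 (.leaf (nat_lit 953)) (.leaf (nat_lit 0))) (.node 1 (.leaf (nat_lit 0)) (.leaf (nat_lit 0))))) (.node 4 (.node 2 (.node 1 (.leaf (nat_lit 1201)) (.leaf (nat_lit 0))) (.node 1 (.leaf (nat_lit 0)) (.leaf (nat_lit 0)))) (.node 2 (.node 1 (.leaf (nat_lit 843)) (.leaf (nat_lit 0))) (.node 1 (.leaf (nat_lit 0)) (.leaf (nat_lit 0))))))) (.node 16 (.node 8 (.node 4 (.node 2 (.node 1 (.leaf (nat_lit 0)) (.leaf (nat_lit 1040))) (.node 1 (.leaf (nat_lit 1394)) (.leaf (nat_lit 1051)))) (.node 2 (.node 1 (.leaf (nat_lit 1238)) (.leaf (nat_lit 0))) (.node 1 (.leaf (nat_lit 0)) (.leaf (nat_lit 0))))) (.node 4 (.node 2 (.node 1 (.leaf (nat_lit 1199)) (.leaf (nat_lit 0))) (.node 1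 (.leaf (nat_lit 0)) (.leaf (nat_lit 0)))) (.node 2 (.node 1 (.leaf (nat_lit 868)) (.leaf (nat_lit 0))) (.node 1 (.leaf (nat_lit 0)) (.leaf (nat_lit 0)))))) (.node 8 (.node 4 (.node 2 (.node 1 (.leaf (nat_lit 0)) (.leaf (nat_lit 1381))) (.node 1 (.leaf (nat_lit 1443)) (.leaf (nat_lit 1393)))) (.node 2 (.node 1 (.leaf (nat_lit 1250)) (.leaf (nat_lit 0))) (.node 1 (.leaf (nat_lit 0)) (.leaf (nat_lit 0))))) (.node 4 (.node 2 (.node 1 (.leaf (nat_lit 1577)) (.leaf (nat_lit 0))) (.node 1 (.leaf (nat_lit 0)) (.leaf (nat_lit 0)))) (.node 2 (.node 1 (.leaf (nat_lit 1198)) (.leaf (nat_lit 0))) (.node 1 (.leaf (nat_lit 0)) (.leaf (nat_lit 0)))))))) (.node 32 (.node 16 (.node 8 (.node 4 (.node 2 (.node 1 (.leaf (nat_lit 0)) (.leaf (nat_lit 862))) (.node 1 (.leaf (nat_lit 1239)) (.leaf (nat_lit 869)))) (.node 2 (.node 1 (.leaf (nat_lit 1041)) (.leaf (nat_lit 0))) (.node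 1 (.leaf (nat_lit 0)) (.leaf (nat_lit 0))))) (.node 4 (.node 2 (.node 1 (.leaf (nat_lit 1052)) (.leaf (nat_lit 0))) (.node 1 (.leaf (nat_lit 0)) (.leaf (nat_lit 0)))) (.node 2 (.node 1 (.leaf (nat_lit 703)) (.leaf (nat_lit 0))) (.node 1 (.leaf (nat_lit 0)) (.leaf (nat_lit 0)))))) (.node 8 (.node 4 (.node 2 (.node 1 (.leaf (nat_lit 154)) (.leaf (nat_lit 0))) (.node 1 (.leaf (nat_lit 0)) (.leaf (nat_lit 0)))) (.node 2 (.node 1 (.leaf (nat_lit 0)) (.leaf (nat_lit 2609))) (.node 1 (.leaf (nat_lit 2179)) (.leaf (nat_lit 70))))) (.node 4 (.node 2 (.node 1 (.leaf (nat_lit 0)) (.leaf (nat_lit 2433))) (.node 1 (.leaf (nat_lit 47)) (.leaf (nat_lit 2125)))) (.node 2 (.node 1 (.leaf (nat_lit 0)) (.leaf (nat_lit 97))) (.node 1 (.leaf (nat_lit 2364)) (.leaf (nat_lit 2692))))))) (.node 16 (.node 8 (.node 4 (.node 2 (.node 1 (.leaf (nat_lit 3217)) (.leaf (nat_lit 0))) (.node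 1 (.leaf (nat_lit 0)) (.leaf (nat_lit 0)))) (.node 2 (.node 1 (.leaf (nat_lit 0)) (.leaf (nat_lit 1470))) (.node 1 (.leaf (nat_lit 474)) (.leaf (nat_lit 137))))) (.node 4 (.node 2 (.node 1 (.leaf (nat_lit 0)) (.leaf (nat_lit 370))) (.node 1 (.leaf (nat_lit 106)) (.leaf (nat_lit 1060)))) (.node 2 (.node 1 (.leaf (nat_lit 0)) (.leaf (nat_lit 174))) (.node 1 (.leaf (nat_lit 1264)) (.leaf (nat_lit 291)))))) (.node 8 (.node 4 (.node 2 (.node 1 (.leaf (nat_lit 3283)) (.leaf (nat_lit 0))) (.node 1 (.leaf (nat_lit 0)) (.leaf (nat_lit 0)))) (.node 2 (.node 1 (.leaf (nat_lit 0)) (.leaf (nat_lit 81))) (.node 1 (.leaf (nat_lit 874)) (.leaf (nat_lit 431))))) (.node 4 (.node 2 (.node 1 (.leaf (nat_lit 0)) (.leaf (nat_lit 1061))) (.node 1 (.leaf (nat_lit 338)) (.leaf (nat_lit 146)))) (.node 2 (.node 1 (.leaf (nat_lit 0)) (.leaf (nat_lit 546))) (.node 1 (.leaf (nat_lit 113))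 (.leaf (nat_lit 1265))))))))) (.node 64 (.node 32 (.node 16 (.node 8 (.node 4 (.node 2 (.node 1 (.leaf (nat_lit 0)) (.leaf (nat_lit 1236))) (.node 1 (.leaf (nat_lit 1578)) (.leaf (nat_lit 1251)))) (.node 2 (.node 1 (.leaf (nat_lit 1444)) (.leaf (nat_lit 0))) (.node 1 (.leaf (nat_lit 0)) (.leaf (nat_lit 0))))) (.node 4 (.node 2 (.node 1 (.leaf (nat_lit 1392)) (.leaf (nat_lit 0))) (.node 1 (.leaf (nat_lit 0)) (.leaf (nat_lit 0)))) (.node 2 (.node 1 (.leaf (nat_lit 1049)) (.leaf (nat_lit 0))) (.node 1 (.leaf (nat_lit 0)) (.leaf (nat_lit 0)))))) (.node 8 (.node 4 (.node 2 (.node 1 (.leaf (nat_lit 3280)) (.leaf (nat_lit 0))) (.node 1 (.leaf (nat_lit 0)) (.leaf (nat_lit 0)))) (.node 2 (.node 1 (.leaf (nat_lit 0)) (.leaf (nat_lit 1667))) (.node 1 (.leaf (nat_lit 391)) (.leaf (nat_lit 173))))) (.node 4 (.node 2 (.node 1 (.leaf (nat_lit 0)) (.leaf (nat_lit 473))) (.node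 1 (.leaf (nat_lit 136)) (.leaf (nat_lit 1262)))) (.node 2 (.node 1 (.leaf (nat_lit 0)) (.leaf (nat_lit 218))) (.node 1 (.leaf (nat_lit 1467)) (.leaf (nat_lit 369))))))) (.node 16 (.node 8 (.node 4 (.node 2 (.node 1 (.leaf (nat_lit 3400)) (.leaf (nat_lit 0))) (.node 1 (.leaf (nat_lit 0)) (.leaf (nat_lit 0)))) (.node 2 (.node 1 (.leaf (nat_lit 0)) (.leaf (nat_lit 59))) (.node 1 (.leaf (nat_lit 708)) (.leaf (nat_lit 542))))) (.node 4 (.node 2 (.node 1 (.leaf (nat_lit 0)) (.leaf (nat_lit 875))) (.node 1 (.leaf (nat_lit 427)) (.leaf (nat_lit 118)))) (.node 2 (.node 1 (.leaf (nat_lit 0)) (.leaf (nat_lit 679))) (.node 1 (.leaf (nat_lit 86)) (.leaf (nat_lit 1062)))))) (.node 8 (.node 4 (.node 2 (.node 1 (.leaf (nat_lit 89)) (.leaf (nat_lit 0))) (.node 1 (.leaf (nat_lit 0)) (.leaf (nat_lit 0)))) (.node 2 (.node 1 (.leaf (nat_lit 0)) (.leaf (nat_lit 2141))) (.node 1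 (.leaf (nat_lit 1777)) (.leaf (nat_lit 124))))) (.node 4 (.node 2 (.node 1 (.leaf (nat_lit 0)) (.leaf (nat_lit 1999))) (.node 1 (.leaf (nat_lit 95)) (.leaf (nat_lit 1708)))) (.node 2 (.node 1 (.leaf (nat_lit 0)) (.leaf (nat_lit 158))) (.node 1 (.leaf (nat_lit 1914)) (.leaf (nat_lit 2245)))))))) (.node 32 (.node 16 (.node 8 (.node 4 (.node 2 (.node 1 (.leaf (nat_lit 0)) (.leaf (nat_lit 1191))) (.node 1 (.leaf (nat_lit 1237)) (.leaf (nat_lit 1200)))) (.node 2 (.node 1 (.leaf (nat_lit 1050)) (.leaf (nat_lit 0))) (.node 1 (.leaf (nat_lit 0)) (.leaf (nat_lit 0))))) (.node 4 (.node 2 (.node 1 (.leaf (nat_lit 1395)) (.leaf (nat_lit 0))) (.node 1 (.leaf (nat_lit 0)) (.leaf (nat_lit 0)))) (.node 2 (.node 1 (.leaf (nat_lit 1013)) (.leaf (nat_lit 0))) (.node 1 (.leaf (nat_lit 0)) (.leaf (nat_lit 0)))))) (.node 8 (.node 4 (.node 2 (.node 1 (.leaf (nat_lit 3103)) (.leaf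 (nat_lit 0))) (.node 1 (.leaf (nat_lit 0)) (.leaf (nat_lit 0)))) (.node 2 (.node 1 (.leaf (nat_lit 0)) (.leaf (nat_lit 112))) (.node 1 (.leaf (nat_lit 1059)) (.leaf (nat_lit 545))))) (.node 4 (.node 2 (.node 1 (.leaf (nat_lit 0)) (.leaf (nat_lit 1263))) (.node 1 (.leaf (nat_lit 430)) (.leaf (nat_lit 186)))) (.node 2 (.node 1 (.leaf (nat_lit 0)) (.leaf (nat_lit 502))) (.node 1 (.leaf (nat_lit 145)) (.leaf (nat_lit 1469))))))) (.node 16 (.node 8 (.node 4 (.node 2 (.node 1 (.leaf (nat_lit 120)) (.leaf (nat_lit 0))) (.node 1 (.leaf (nat_lit 0)) (.leaf (nat_lit 0)))) (.node 2 (.node 1 (.leaf (nat_lit 0)) (.leaf (nat_lit 2379))) (.node 1 (.leaf (nat_lit 1997)) (.leaf (nat_lit 96))))) (.node 4 (.node 2 (.node 1 (.leaf (nat_lit 0)) (.leaf (nat_lit 2242))) (.node 1 (.leaf (nat_lit 68)) (.leaf (nat_lit 1912)))) (.node 2 (.node 1 (.leaf (nat_lit 0)) (.leaf (nat_lit 125)))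 (.node 1 (.leaf (nat_lit 2138)) (.leaf (nat_lit 2498)))))) (.node 8 (.node 4 (.node 2 (.node 1 (.leaf (nat_lit 3399)) (.leaf (nat_lit 0))) (.node 1 (.leaf (nat_lit 0)) (.leaf (nat_lit 0)))) (.node 2 (.node 1 (.leaf (nat_lit 0)) (.leaf (nat_lit 1734))) (.node 1 (.leaf (nat_lit 308)) (.leaf (nat_lit 217))))) (.node 4 (.node 2 (.node 1 (.leaf (nat_lit 0)) (.leaf (nat_lit 392))) (.node 1 (.leaf (nat_lit 172)) (.leaf (nat_lit 1361)))) (.node 2 (.node 1 (.leaf (nat_lit 0)) (.leaf (nat_lit 274))) (.node 1 (.leaf (nat_lit 1543)) (.leaf (nat_lit 472)))))))))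

noncomputable def pt6 : Tree :=
  .node 128 (.node 64 (.node 32 (.node 16 (.node 8 (.node 4 (.node 2 (.node 1 (.leaf (nat_lit 248)) (.leaf (nat_lit 0))) (.node 1 (.leaf (nat_lit 0)) (.leaf (nat_lit 0)))) (.node 2 (.node 1 (.leaf (nat_lit 0)) (.leaf (nat_lit 94))) (.node 1 (.leaf (nat_lit 1398)) (.leaf (nat_lit 1174))))) (.node 4 (.node 2 (.node 1 (.leaf (nat_lit 0)) (.leaf (nat_lit 1207))) (.node 1 (.leaf (nat_lit 1072)) (.leaf (nat_lit 45)))) (.node 2 (.node 1 (.leaf (nat_lit 0)) (.leaf (nat_lit 1349))) (.node 1 (.leaf (nat_lit 67)) (.leaf (nat_lit 1025)))))) (.node 8 (.node 4 (.node 2 (.node 1 (.leaf (nat_lit 0)) (.leaf (nat_lit 1730))) (.node 1 (.leaf (nat_lit 1715)) (.leaf (nat_lit 1356)))) (.node 2 (.node 1 (.leaf (nat_lit 1922)) (.leaf (nat_lit 0))) (.node 1 (.leaf (nat_lit 0)) (.leaf (nat_lit 0))))) (.node 4 (.node 2 (.node 1 (.leaf (nat_lit 1529))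 (.leaf (nat_lit 0))) (.node 1 (.leaf (nat_lit 0)) (.leaf (nat_lit 0)))) (.node 2 (.node 1 (.leaf (nat_lit 1539)) (.leaf (nat_lit 0))) (.node 1 (.leaf (nat_lit 0)) (.leaf (nat_lit 0))))))) (.node 16 (.node 8 (.node 4 (.node 2 (.node 1 (.leaf (nat_lit 0)) (.leaf (nat_lit 1809))) (.node 1 (.leaf (nat_lit 1787)) (.leaf (nat_lit 1410)))) (.node 2 (.node 1 (.leaf (nat_lit 2011)) (.leaf (nat_lit 0))) (.node 1 (.leaf (nat_lit 0)) (.leaf (nat_lit 0))))) (.node 4 (.node 2 (.node 1 (.leaf (nat_lit 1587)) (.leaf (nat_lit 0))) (.node 1 (.leaf (nat_lit 0)) (.leaf (nat_lit 0)))) (.node 2 (.node 1 (.leaf (nat_lit 1602)) (.leaf (nat_lit 0))) (.node 1 (.leaf (nat_lit 0)) (.leaf (nat_lit 0)))))) (.node 8 (.node 4 (.node 2 (.node 1 (.leaf (nat_lit 0)) (.leaf (nat_lit 1413))) (.node 1 (.leaf (nat_lit 1402)) (.leaf (nat_lit 1023)))) (.node 2 (.node 1 (.leaf (nat_lit 1590)) (.leaf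 (nat_lit 0))) (.node 1 (.leaf (nat_lit 0)) (.leaf (nat_lit 0))))) (.node 4 (.node 2 (.node 1 (.leaf (nat_lit 1205)) (.leaf (nat_lit 0))) (.node 1 (.leaf (nat_lit 0)) (.leaf (nat_lit 0)))) (.node 2 (.node 1 (.leaf (nat_lit 1212)) (.leaf (nat_lit 0))) (.node 1 (.leaf (nat_lit 0)) (.leaf (nat_lit 0)))))))) (.node 32 (.node 16 (.node 8 (.node 4 (.node 2 (.node 1 (.leaf (nat_lit 0)) (.leaf (nat_lit 1942))) (.node 1 (.leaf (nat_lit 1921)) (.leaf (nat_lit 1537)))) (.node 2 (.node 1 (.leaf (nat_lit 2149)) (.leaf (nat_lit 0))) (.node 1 (.leaf (nat_lit 0)) (.leaf (nat_lit 0))))) (.node 4 (.node 2 (.node 1 (.leaf (nat_lit 1714)) (.leaf (nat_lit 0))) (.node 1 (.leaf (nat_lit 0)) (.leaf (nat_lit 0)))) (.node 2 (.node 1 (.leaf (nat_lit 1728)) (.leaf (nat_lit 0))) (.node 1 (.leaf (nat_lit 0)) (.leaf (nat_lit 0)))))) (.node 8 (.node 4 (.node 2 (.node 1 (.leaf (nat_lit 448))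 (.leaf (nat_lit 0))) (.node 1 (.leaf (nat_lit 0)) (.leaf (nat_lit 0)))) (.node 2 (.node 1 (.leaf (nat_lit 0)) (.leaf (nat_lit 2148))) (.node 1 (.leaf (nat_lit 485)) (.leaf (nat_lit 614))))) (.node 4 (.node 2 (.node 1 (.leaf (nat_lit 0)) (.leaf (nat_lit 619))) (.node 1 (.leaf (nat_lit 769)) (.leaf (nat_lit 2637)))) (.node 2 (.node 1 (.leaf (nat_lit 0)) (.leaf (nat_lit 487))) (.node 1 (.leaf (nat_lit 2389)) (.leaf (nat_lit 764))))))) (.node 16 (.node 8 (.node 4 (.node 2 (.node 1 (.leaf (nat_lit 395)) (.leaf (nat_lit 0))) (.node 1 (.leaf (nat_lit 0)) (.leaf (nat_lit 0)))) (.node 2 (.node 1 (.leaf (nat_lit 0)) (.leaf (nat_lit 44))) (.node 1 (.leaf (nat_lit 1016)) (.leaf (nat_lit 829))))) (.node 4 (.node 2 (.node 1 (.leaf (nat_lit 0)) (.leaf (nat_lit 847))) (.node 1 (.leaf (nat_lit 990)) (.leaf (nat_lit 16)))) (.node 2 (.node 1 (.leaf (nat_lit 0)) (.leaf (nat_lit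 988))) (.node 1 (.leaf (nat_lit 27)) (.leaf (nat_lit 691)))))) (.node 8 (.node 4 (.node 2 (.node 1 (.leaf (nat_lit 381)) (.leaf (nat_lit 0))) (.node 1 (.leaf (nat_lit 0)) (.leaf (nat_lit 0)))) (.node 2 (.node 1 (.leaf (nat_lit 0)) (.leaf (nat_lit 1941))) (.node 1 (.leaf (nat_lit 569)) (.leaf (nat_lit 481))))) (.node 4 (.node 2 (.node 1 (.leaf (nat_lit 0)) (.leaf (nat_lit 719))) (.node 1 (.leaf (nat_lit 608)) (.leaf (nat_lit 2432)))) (.node 2 (.node 1 (.leaf (nat_lit 0)) (.leaf (nat_lit 377))) (.node 1 (.leaf (nat_lit 2178)) (.leaf (nat_lit 845))))))))) (.node 64 (.node 32 (.node 16 (.node 8 (.node 4 (.node 2 (.node 1 (.leaf (nat_lit 0)) (.leaf (nat_lit 1604))) (.node 1 (.leaf (nat_lit 1589)) (.leaf (nat_lit 1211)))) (.node 2 (.node 1 (.leaf (nat_lit 1789)) (.leaf (nat_lit 0))) (.node 1 (.leaf (nat_lit 0)) (.leaf (nat_lit 0))))) (.node 4 (.node 2 (.node 1 (.leaf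 (nat_lit 1401)) (.leaf (nat_lit 0))) (.node 1 (.leaf (nat_lit 0)) (.leaf (nat_lit 0)))) (.node 2 (.node 1 (.leaf (nat_lit 1412)) (.leaf (nat_lit 0))) (.node 1 (.leaf (nat_lit 0)) (.leaf (nat_lit 0)))))) (.node 8 (.node 4 (.node 2 (.node 1 (.leaf (nat_lit 311)) (.leaf (nat_lit 0))) (.node 1 (.leaf (nat_lit 0)) (.leaf (nat_lit 0)))) (.node 2 (.node 1 (.leaf (nat_lit 0)) (.leaf (nat_lit 65))) (.node 1 (.leaf (nat_lit 1202)) (.leaf (nat_lit 993))))) (.node 4 (.node 2 (.node 1 (.leaf (nat_lit 0)) (.leaf (nat_lit 1019))) (.node 1 (.leaf (nat_lit 1168)) (.leaf (nat_lit 26)))) (.node 2 (.node 1 (.leaf (nat_lit 0)) (.leaf (nat_lit 1165))) (.node 1 (.leaf (nat_lit 42)) (.leaf (nat_lit 850))))))) (.node 16 (.node 8 (.node 4 (.node 2 (.node 1 (.leaf (nat_lit 449)) (.leaf (nat_lit 0))) (.node 1 (.leaf (nat_lit 0)) (.leaf (nat_lit 0)))) (.node 2 (.node 1 (.leaf (nat_lit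 0)) (.leaf (nat_lit 1808))) (.node 1 (.leaf (nat_lit 447)) (.leaf (nat_lit 613))))) (.node 4 (.node 2 (.node 1 (.leaf (nat_lit 0)) (.leaf (nat_lit 570))) (.node 1 (.leaf (nat_lit 768)) (.leaf (nat_lit 2295)))) (.node 2 (.node 1 (.leaf (nat_lit 0)) (.leaf (nat_lit 486))) (.node 1 (.leaf (nat_lit 2041)) (.leaf (nat_lit 720)))))) (.node 8 (.node 4 (.node 2 (.node 1 (.leaf (nat_lit 276)) (.leaf (nat_lit 0))) (.node 1 (.leaf (nat_lit 0)) (.leaf (nat_lit 0)))) (.node 2 (.node 1 (.leaf (nat_lit 0)) (.leaf (nat_lit 2243))) (.node 1 (.leaf (nat_lit 758)) (.leaf (nat_lit 859))))) (.node 4 (.node 2 (.node 1 (.leaf (nat_lit 0)) (.leaf (nat_lit 602))) (.node 1 (.leaf (nat_lit 1030)) (.leaf (nat_lit 2758)))) (.node 2 (.node 1 (.leaf (nat_lit 0)) (.leaf (nat_lit 710))) (.node 1 (.leaf (nat_lit 2500)) (.leaf (nat_lit 476)))))))) (.node 32 (.node 16 (.node 8 (.node 4 (.node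 2 (.node 1 (.leaf (nat_lit 0)) (.leaf (nat_lit 1540))) (.node 1 (.leaf (nat_lit 1530)) (.leaf (nat_lit 1172)))) (.node 2 (.node 1 (.leaf (nat_lit 1716)) (.leaf (nat_lit 0))) (.node 1 (.leaf (nat_lit 0)) (.leaf (nat_lit 0))))) (.node 4 (.node 2 (.node 1 (.leaf (nat_lit 1351)) (.leaf (nat_lit 0))) (.node 1 (.leaf (nat_lit 0)) (.leaf (nat_lit 0)))) (.node 2 (.node 1 (.leaf (nat_lit 1357)) (.leaf (nat_lit 0))) (.node 1 (.leaf (nat_lit 0)) (.leaf (nat_lit 0)))))) (.node 8 (.node 4 (.node 2 (.node 1 (.leaf (nat_lit 310)) (.leaf (nat_lit 0))) (.node 1 (.leaf (nat_lit 0)) (.leaf (nat_lit 0)))) (.node 2 (.node 1 (.leaf (nat_lit 0)) (.leaf (nat_lit 2139))) (.node 1 (.leaf (nat_lit 717)) (.leaf (nat_lit 374))))) (.node 4 (.node 2 (.node 1 (.leaf (nat_lit 0)) (.leaf (nat_lit 887))) (.node 1 (.leaf (nat_lit 478)) (.leaf (nat_lit 2628)))) (.node 2 (.node 1 (.leaf (nat_lit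 0)) (.leaf (nat_lit 296))) (.node 1 (.leaf (nat_lit 2381)) (.leaf (nat_lit 1004))))))) (.node 16 (.node 8 (.node 4 (.node 2 (.node 1 (.leaf (nat_lit 350)) (.leaf (nat_lit 0))) (.node 1 (.leaf (nat_lit 0)) (.leaf (nat_lit 0)))) (.node 2 (.node 1 (.leaf (nat_lit 0)) (.leaf (nat_lit 2010))) (.node 1 (.leaf (nat_lit 618)) (.leaf (nat_lit 705))))) (.node 4 (.node 2 (.node 1 (.leaf (nat_lit 0)) (.leaf (nat_lit 760))) (.node 1 (.leaf (nat_lit 864)) (.leaf (nat_lit 2513)))) (.node 2 (.node 1 (.leaf (nat_lit 0)) (.leaf (nat_lit 568))) (.node 1 (.leaf (nat_lit 2258)) (.leaf (nat_lit 605)))))) (.node 8 (.node 4 (.node 2 (.node 1 (.leaf (nat_lit 247)) (.leaf (nat_lit 0))) (.node 1 (.leaf (nat_lit 0)) (.leaf (nat_lit 0)))) (.node 2 (.node 1 (.leaf (nat_lit 0)) (.leaf (nat_lit 91))) (.node 1 (.leaf (nat_lit 1397)) (.leaf (nat_lit 1173))))) (.node 4 (.node 2 (.node 1 (.leaf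 (nat_lit 0)) (.leaf (nat_lit 1206))) (.node 1 (.leaf (nat_lit 1352)) (.leaf (nat_lit 41)))) (.node 2 (.node 1 (.leaf (nat_lit 0)) (.leaf (nat_lit 1348))) (.node 1 (.leaf (nat_lit 64)) (.leaf (nat_lit 1024)))))))))

noncomputable def pt7 : Tree :=
  .node 128 (.node 64 (.node 32 (.node 16 (.node 8 (.node 4 (.node 2 (.node 1 (.leaf (nat_lit 198)) (.leaf (nat_lit 0))) (.node 1 (.leaf (nat_lit 0)) (.leaf (nat_lit 0)))) (.node 2 (.node 1 (.leaf (nat_lit 0)) (.leaf (nat_lit 1273))) (.node 1 (.leaf (nat_lit 63)) (.leaf (nat_lit 1403))))) (.node 4 (.node 2 (.node 1 (.leaf (nat_lit 0)) (.leaf (nat_lit 90))) (.node 1 (.leaf (nat_lit 1213)) (.leaf (nat_lit 1526)))) (.node 2 (.node 1 (.leaf (nat_lit 0)) (.leaf (nat_lit 1582))) (.node 1 (.leaf (nat_lit 1358)) (.leaf (nat_lit 121)))))) (.node 8 (.node 4 (.node 2 (.node 1 (.leaf (nat_lit 0)) (.leaf (nat_lit 1615))) (.node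 1 (.leaf (nat_lit 1226)) (.leaf (nat_lit 1637)))) (.node 2 (.node 1 (.leaf (nat_lit 1420)) (.leaf (nat_lit 0))) (.node 1 (.leaf (nat_lit 0)) (.leaf (nat_lit 0))))) (.node 4 (.node 2 (.node 1 (.leaf (nat_lit 1435)) (.leaf (nat_lit 0))) (.node 1 (.leaf (nat_lit 0)) (.leaf (nat_lit 0)))) (.node 2 (.node 1 (.leaf (nat_lit 1828)) (.leaf (nat_lit 0))) (.node 1 (.leaf (nat_lit 0)) (.leaf (nat_lit 0))))))) (.node 16 (.node 8 (.node 4 (.node 2 (.node 1 (.leaf (nat_lit 0)) (.leaf (nat_lit 1218))) (.node 1 (.leaf (nat_lit 857)) (.leaf (nat_lit 1229)))) (.node 2 (.node 1 (.leaf (nat_lit 1028)) (.leaf (nat_lit 0))) (.node 1 (.leaf (nat_lit 0)) (.leaf (nat_lit 0))))) (.node 4 (.node 2 (.node 1 (.leaf (nat_lit 1035)) (.leaf (nat_lit 0))) (.node 1 (.leaf (nat_lit 0)) (.leaf (nat_lit 0)))) (.node 2 (.node 1 (.leaf (nat_lit 1423)) (.leaf (nat_lit 0))) (.node 1 (.leaf (nat_lit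 0)) (.leaf (nat_lit 0)))))) (.node 8 (.node 4 (.node 2 (.node 1 (.leaf (nat_lit 0)) (.leaf (nat_lit 1550))) (.node 1 (.leaf (nat_lit 1184)) (.leaf (nat_lit 1565)))) (.node 2 (.node 1 (.leaf (nat_lit 1365)) (.leaf (nat_lit 0))) (.node 1 (.leaf (nat_lit 0)) (.leaf (nat_lit 0))))) (.node 4 (.node 2 (.node 1 (.leaf (nat_lit 1375)) (.leaf (nat_lit 0))) (.node 1 (.leaf (nat_lit 0)) (.leaf (nat_lit 0)))) (.node 2 (.node 1 (.leaf (nat_lit 1744)) (.leaf (nat_lit 0))) (.node 1 (.leaf (nat_lit 0)) (.leaf (nat_lit 0)))))))) (.node 32 (.node 16 (.node 8 (.node 4 (.node 2 (.node 1 (.leaf (nat_lit 0)) (.leaf (nat_lit 1422))) (.node 1 (.leaf (nat_lit 1034)) (.leaf (nat_lit 1437)))) (.node 2 (.node 1 (.leaf (nat_lit 1217)) (.leaf (nat_lit 0))) (.node 1 (.leaf (nat_lit 0)) (.leaf (nat_lit 0))))) (.node 4 (.node 2 (.node 1 (.leaf (nat_lit 1228)) (.leaf (nat_lit 0))) (.node 1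 (.leaf (nat_lit 0)) (.leaf (nat_lit 0)))) (.node 2 (.node 1 (.leaf (nat_lit 1617)) (.leaf (nat_lit 0))) (.node 1 (.leaf (nat_lit 0)) (.leaf (nat_lit 0)))))) (.node 8 (.node 4 (.node 2 (.node 1 (.leaf (nat_lit 571)) (.leaf (nat_lit 0))) (.node 1 (.leaf (nat_lit 0)) (.leaf (nat_lit 0)))) (.node 2 (.node 1 (.leaf (nat_lit 0)) (.leaf (nat_lit 609))) (.node 1 (.leaf (nat_lit 2551)) (.leaf (nat_lit 715))))) (.node 4 (.node 2 (.node 1 (.leaf (nat_lit 0)) (.leaf (nat_lit 2294))) (.node 1 (.leaf (nat_lit 885)) (.leaf (nat_lit 378)))) (.node 2 (.node 1 (.leaf (nat_lit 0)) (.leaf (nat_lit 566))) (.node 1 (.leaf (nat_lit 482)) (.leaf (nat_lit 2040))))))) (.node 16 (.node 8 (.node 4 (.node 2 (.node 1 (.leaf (nat_lit 219)) (.leaf (nat_lit 0))) (.node 1 (.leaf (nat_lit 0)) (.leaf (nat_lit 0)))) (.node 2 (.node 1 (.leaf (nat_lit 0)) (.leaf (nat_lit 1219))) (.node 1 (.leaf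 (nat_lit 3006)) (.leaf (nat_lit 475))))) (.node 4 (.node 2 (.node 1 (.leaf (nat_lit 0)) (.leaf (nat_lit 2757))) (.node 1 (.leaf (nat_lit 372)) (.leaf (nat_lit 876)))) (.node 2 (.node 1 (.leaf (nat_lit 0)) (.leaf (nat_lit 601))) (.node 1 (.leaf (nat_lit 1036)) (.leaf (nat_lit 2499)))))) (.node 8 (.node 4 (.node 2 (.node 1 (.leaf (nat_lit 394)) (.leaf (nat_lit 0))) (.node 1 (.leaf (nat_lit 0)) (.leaf (nat_lit 0)))) (.node 2 (.node 1 (.leaf (nat_lit 0)) (.leaf (nat_lit 991))) (.node 1 (.leaf (nat_lit 17)) (.leaf (nat_lit 848))))) (.node 4 (.node 2 (.node 1 (.leaf (nat_lit 0)) (.leaf (nat_lit 29))) (.node 1 (.leaf (nat_lit 692)) (.leaf (nat_lit 989)))) (.node 2 (.node 1 (.leaf (nat_lit 0)) (.leaf (nat_lit 1017))) (.node 1 (.leaf (nat_lit 830)) (.leaf (nat_lit 48))))))))) (.node 64 (.node 32 (.node 16 (.node 8 (.node 4 (.node 2 (.node 1 (.leaf (nat_lit 0)) (.leaf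 (nat_lit 1366))) (.node 1 (.leaf (nat_lit 1002)) (.leaf (nat_lit 1376)))) (.node 2 (.node 1 (.leaf (nat_lit 1179)) (.leaf (nat_lit 0))) (.node 1 (.leaf (nat_lit 0)) (.leaf (nat_lit 0))))) (.node 4 (.node 2 (.node 1 (.leaf (nat_lit 1185)) (.leaf (nat_lit 0))) (.node 1 (.leaf (nat_lit 0)) (.leaf (nat_lit 0)))) (.node 2 (.node 1 (.leaf (nat_lit 1551)) (.leaf (nat_lit 0))) (.node 1 (.leaf (nat_lit 0)) (.leaf (nat_lit 0)))))) (.node 8 (.node 4 (.node 2 (.node 1 (.leaf (nat_lit 277)) (.leaf (nat_lit 0))) (.node 1 (.leaf (nat_lit 0)) (.leaf (nat_lit 0)))) (.node 2 (.node 1 (.leaf (nat_lit 0)) (.leaf (nat_lit 1042))) (.node 1 (.leaf (nat_lit 2772)) (.leaf (nat_lit 603))))) (.node 4 (.node 2 (.node 1 (.leaf (nat_lit 0)) (.leaf (nat_lit 2512))) (.node 1 (.leaf (nat_lit 477)) (.leaf (nat_lit 716)))) (.node 2 (.node 1 (.leaf (nat_lit 0)) (.leaf (nat_lit 488))) (.node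 1 (.leaf (nat_lit 870)) (.leaf (nat_lit 2257))))))) (.node 16 (.node 8 (.node 4 (.node 2 (.node 1 (.leaf (nat_lit 312)) (.leaf (nat_lit 0))) (.node 1 (.leaf (nat_lit 0)) (.leaf (nat_lit 0)))) (.node 2 (.node 1 (.leaf (nat_lit 0)) (.leaf (nat_lit 1169))) (.node 1 (.leaf (nat_lit 28)) (.leaf (nat_lit 1020))))) (.node 4 (.node 2 (.node 1 (.leaf (nat_lit 0)) (.leaf (nat_lit 46))) (.node 1 (.leaf (nat_lit 851)) (.leaf (nat_lit 1166)))) (.node 2 (.node 1 (.leaf (nat_lit 0)) (.leaf (nat_lit 1203))) (.node 1 (.leaf (nat_lit 994)) (.leaf (nat_lit 69)))))) (.node 8 (.node 4 (.node 2 (.node 1 (.leaf (nat_lit 393)) (.leaf (nat_lit 0))) (.node 1 (.leaf (nat_lit 0)) (.leaf (nat_lit 0)))) (.node 2 (.node 1 (.leaf (nat_lit 0)) (.leaf (nat_lit 373))) (.node 1 (.leaf (nat_lit 2877)) (.leaf (nat_lit 1071))))) (.node 4 (.node 2 (.node 1 (.leaf (nat_lit 0)) (.leaf (nat_lit 2627)))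 (.node 1 (.leaf (nat_lit 1186)) (.leaf (nat_lit 234)))) (.node 2 (.node 1 (.leaf (nat_lit 0)) (.leaf (nat_lit 882))) (.node 1 (.leaf (nat_lit 295)) (.leaf (nat_lit 2380)))))))) (.node 32 (.node 16 (.node 8 (.node 4 (.node 2 (.node 1 (.leaf (nat_lit 0)) (.leaf (nat_lit 1743))) (.node 1 (.leaf (nat_lit 1373)) (.leaf (nat_lit 1764)))) (.node 2 (.node 1 (.leaf (nat_lit 1549)) (.leaf (nat_lit 0))) (.node 1 (.leaf (nat_lit 0)) (.leaf (nat_lit 0))))) (.node 4 (.node 2 (.node 1 (.leaf (nat_lit 1563)) (.leaf (nat_lit 0))) (.node 1 (.leaf (nat_lit 0)) (.leaf (nat_lit 0)))) (.node 2 (.node 1 (.leaf (nat_lit 1960)) (.leaf (nat_lit 0))) (.node 1 (.leaf (nat_lit 0)) (.leaf (nat_lit 0)))))) (.node 8 (.node 4 (.node 2 (.node 1 (.leaf (nat_lit 504)) (.leaf (nat_lit 0))) (.node 1 (.leaf (nat_lit 0)) (.leaf (nat_lit 0)))) (.node 2 (.node 1 (.leaf (nat_lit 0)) (.leaf (nat_lit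 828))) (.node 1 (.leaf (nat_lit 10)) (.leaf (nat_lit 690))))) (.node 4 (.node 2 (.node 1 (.leaf (nat_lit 0)) (.leaf (nat_lit 18))) (.node 1 (.leaf (nat_lit 552)) (.leaf (nat_lit 827)))) (.node 2 (.node 1 (.leaf (nat_lit 0)) (.leaf (nat_lit 846))) (.node 1 (.leaf (nat_lit 678)) (.leaf (nat_lit 30))))))) (.node 16 (.node 8 (.node 4 (.node 2 (.node 1 (.leaf (nat_lit 490)) (.leaf (nat_lit 0))) (.node 1 (.leaf (nat_lit 0)) (.leaf (nat_lit 0)))) (.node 2 (.node 1 (.leaf (nat_lit 0)) (.leaf (nat_lit 479))) (.node 1 (.leaf (nat_lit 2690)) (.leaf (nat_lit 884))))) (.node 4 (.node 2 (.node 1 (.leaf (nat_lit 0)) (.leaf (nat_lit 2431))) (.node 1 (.leaf (nat_lit 1015)) (.leaf (nat_lit 297)))) (.node 2 (.node 1 (.leaf (nat_lit 0)) (.leaf (nat_lit 714))) (.node 1 (.leaf (nat_lit 375)) (.leaf (nat_lit 2177)))))) (.node 8 (.node 4 (.node 2 (.node 1 (.leaf (nat_lit 351)) (.leaf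 (nat_lit 0))) (.node 1 (.leaf (nat_lit 0)) (.leaf (nat_lit 0)))) (.node 2 (.node 1 (.leaf (nat_lit 0)) (.leaf (nat_lit 946))) (.node 1 (.leaf (nat_lit 2548)) (.leaf (nat_lit 489))))) (.node 4 (.node 2 (.node 1 (.leaf (nat_lit 0)) (.leaf (nat_lit 2292))) (.node 1 (.leaf (nat_lit 606)) (.leaf (nat_lit 620)))) (.node 2 (.node 1 (.leaf (nat_lit 0)) (.leaf (nat_lit 379))) (.node 1 (.leaf (nat_lit 775)) (.leaf (nat_lit 2038)))))))))

noncomputable def pt8 : Tree :=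
  .node 128 (.node 64 (.node 32 (.node 16 (.node 8 (.node 4 (.node 2 (.node 1 (.leaf (nat_lit 0)) (.leaf (nat_lit 232))) (.node 1 (.leaf (nat_lit 233)) (.leaf (nat_lit 144)))) (.node 2 (.node 1 (.leaf (nat_lit 294)) (.leaf (nat_lit 0))) (.node 1 (.leaf (nat_lit 0)) (.leaf (nat_lit 0))))) (.node 4 (.node 2 (.node 1 (.leaf (nat_lit 185)) (.leaf (nat_lit 0))) (.node 1 (.leaf (nat_lit 0)) (.leaf (nat_lit 0)))) (.node 2 (.node 1 (.leaf (nat_lit 184)) (.leaf (nat_lit 0))) (.node 1 (.leaf (nat_lit 0)) (.leaf (nat_lit 0)))))) (.node 8 (.node 4 (.node 2 (.node 1 (.leaf (nat_lit 380)) (.leaf (nat_lit 0))) (.node 1 (.leaf (nat_lit 0)) (.leaf (nat_lit 0)))) (.node 2 (.node 1 (.leaf (nat_lit 0)) (.leaf (nat_lit 557))) (.node 1 (.leaf (nat_lit 2939)) (.leaf (nat_lit 1009))))) (.node 4 (.node 2 (.node 1 (.leaf (nat_lit 0)) (.leaf (nat_lit 2686))) (.node 1 (.leaf (nat_lit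 844)) (.leaf (nat_lit 349)))) (.node 2 (.node 1 (.leaf (nat_lit 0)) (.leaf (nat_lit 883))) (.node 1 (.leaf (nat_lit 441)) (.leaf (nat_lit 2428))))))) (.node 16 (.node 8 (.node 4 (.node 2 (.node 1 (.leaf (nat_lit 243)) (.leaf (nat_lit 0))) (.node 1 (.leaf (nat_lit 0)) (.leaf (nat_lit 0)))) (.node 2 (.node 1 (.leaf (nat_lit 0)) (.leaf (nat_lit 553))) (.node 1 (.leaf (nat_lit 3270)) (.leaf (nat_lit 998))))) (.node 4 (.node 2 (.node 1 (.leaf (nat_lit 0)) (.leaf (nat_lit 3085))) (.node 1 (.leaf (nat_lit 835)) (.leaf (nat_lit 347)))) (.node 2 (.node 1 (.leaf (nat_lit 0)) (.leaf (nat_lit 1176))) (.node 1 (.leaf (nat_lit 438)) (.leaf (nat_lit 2855)))))) (.node 8 (.node 4 (.node 2 (.node 1 (.leaf (nat_lit 235)) (.leaf (nat_lit 0))) (.node 1 (.leaf (nat_lit 0)) (.leaf (nat_lit 0)))) (.node 2 (.node 1 (.leaf (nat_lit 0)) (.leaf (nat_lit 854))) (.node 1 (.leaf (nat_lit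 3004)) (.leaf (nat_lit 684))))) (.node 4 (.node 2 (.node 1 (.leaf (nat_lit 0)) (.leaf (nat_lit 2755))) (.node 1 (.leaf (nat_lit 548)) (.leaf (nat_lit 563)))) (.node 2 (.node 1 (.leaf (nat_lit 0)) (.leaf (nat_lit 837))) (.node 1 (.leaf (nat_lit 697)) (.leaf (nat_lit 2497)))))))) (.node 32 (.node 16 (.node 8 (.node 4 (.node 2 (.node 1 (.leaf (nat_lit 309)) (.leaf (nat_lit 0))) (.node 1 (.leaf (nat_lit 0)) (.leaf (nat_lit 0)))) (.node 2 (.node 1 (.leaf (nat_lit 0)) (.leaf (nat_lit 439))) (.node 1 (.leaf (nat_lit 3100)) (.leaf (nat_lit 1180))))) (.node 4 (.node 2 (.node 1 (.leaf (nat_lit 0)) (.leaf (nat_lit 2873))) (.node 1 (.leaf (nat_lit 1003)) (.leaf (nat_lit 275)))) (.node 2 (.node 1 (.leaf (nat_lit 0)) (.leaf (nat_lit 1070))) (.node 1 (.leaf (nat_lit 346)) (.leaf (nat_lit 2624)))))) (.node 8 (.node 4 (.node 2 (.node 1 (.leaf (nat_lit 0)) (.leaf (nat_lit 1986)))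 (.node 1 (.leaf (nat_lit 1634)) (.leaf (nat_lit 2060)))) (.node 2 (.node 1 (.leaf (nat_lit 1774)) (.leaf (nat_lit 0))) (.node 1 (.leaf (nat_lit 0)) (.leaf (nat_lit 0))))) (.node 4 (.node 2 (.node 1 (.leaf (nat_lit 1827)) (.leaf (nat_lit 0))) (.node 1 (.leaf (nat_lit 0)) (.leaf (nat_lit 0)))) (.node 2 (.node 1 (.leaf (nat_lit 2234)) (.leaf (nat_lit 0))) (.node 1 (.leaf (nat_lit 0)) (.leaf (nat_lit 0))))))) (.node 16 (.node 8 (.node 4 (.node 2 (.node 1 (.leaf (nat_lit 0)) (.leaf (nat_lit 1668))) (.node 1 (.leaf (nat_lit 1538)) (.leaf (nat_lit 1943)))) (.node 2 (.node 1 (.leaf (nat_lit 1474)) (.leaf (nat_lit 0))) (.node 1 (.leaf (nat_lit 0)) (.leaf (nat_lit 0))))) (.node 4 (.node 2 (.node 1 (.leaf (nat_lit 1729)) (.leaf (nat_lit 0))) (.node 1 (.leaf (nat_lit 0)) (.leaf (nat_lit 0)))) (.node 2 (.node 1 (.leaf (nat_lit 1881)) (.leaf (nat_lit 0))) (.node 1 (.leaf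 (nat_lit 0)) (.leaf (nat_lit 0)))))) (.node 8 (.node 4 (.node 2 (.node 1 (.leaf (nat_lit 0)) (.leaf (nat_lit 428))) (.node 1 (.leaf (nat_lit 429)) (.leaf (nat_lit 266)))) (.node 2 (.node 1 (.leaf (nat_lit 543)) (.leaf (nat_lit 0))) (.node 1 (.leaf (nat_lit 0)) (.leaf (nat_lit 0))))) (.node 4 (.node 2 (.node 1 (.leaf (nat_lit 337)) (.leaf (nat_lit 0))) (.node 1 (.leaf (nat_lit 0)) (.leaf (nat_lit 0)))) (.node 2 (.node 1 (.leaf (nat_lit 336)) (.leaf (nat_lit 0))) (.node 1 (.leaf (nat_lit 0)) (.leaf (nat_lit 0))))))))) (.node 64 (.node 32 (.node 16 (.node 8 (.node 4 (.node 2 (.node 1 (.leaf (nat_lit 193)) (.leaf (nat_lit 0))) (.node 1 (.leaf (nat_lit 0)) (.leaf (nat_lit 0)))) (.node 2 (.node 1 (.leaf (nat_lit 0)) (.leaf (nat_lit 694))) (.node 1 (.leaf (nat_lit 3163)) (.leaf (nat_lit 832))))) (.node 4 (.node 2 (.node 1 (.leaf (nat_lit 0)) (.leaf (nat_lit 2942)))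 (.node 1 (.leaf (nat_lit 681)) (.leaf (nat_lit 443)))) (.node 2 (.node 1 (.leaf (nat_lit 0)) (.leaf (nat_lit 995))) (.node 1 (.leaf (nat_lit 555)) (.leaf (nat_lit 2691)))))) (.node 8 (.node 4 (.node 2 (.node 1 (.leaf (nat_lit 0)) (.leaf (nat_lit 1853))) (.node 1 (.leaf (nat_lit 1727)) (.leaf (nat_lit 2176)))) (.node 2 (.node 1 (.leaf (nat_lit 1647)) (.leaf (nat_lit 0))) (.node 1 (.leaf (nat_lit 0)) (.leaf (nat_lit 0))))) (.node 4 (.node 2 (.node 1 (.leaf (nat_lit 1940)) (.leaf (nat_lit 0))) (.node 1 (.leaf (nat_lit 0)) (.leaf (nat_lit 0)))) (.node 2 (.node 1 (.leaf (nat_lit 2085)) (.leaf (nat_lit 0))) (.node 1 (.leaf (nat_lit 0)) (.leaf (nat_lit 0))))))) (.node 16 (.node 8 (.node 4 (.node 2 (.node 1 (.leaf (nat_lit 0)) (.leaf (nat_lit 339))) (.node 1 (.leaf (nat_lit 340)) (.leaf (nat_lit 213)))) (.node 2 (.node 1 (.leaf (nat_lit 432)) (.leaf (nat_lit 0)))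 (.node 1 (.leaf (nat_lit 0)) (.leaf (nat_lit 0))))) (.node 4 (.node 2 (.node 1 (.leaf (nat_lit 268)) (.leaf (nat_lit 0))) (.node 1 (.leaf (nat_lit 0)) (.leaf (nat_lit 0)))) (.node 2 (.node 1 (.leaf (nat_lit 267)) (.leaf (nat_lit 0))) (.node 1 (.leaf (nat_lit 0)) (.leaf (nat_lit 0)))))) (.node 8 (.node 4 (.node 2 (.node 1 (.leaf (nat_lit 0)) (.leaf (nat_lit 1616))) (.node 1 (.leaf (nat_lit 1227)) (.leaf (nat_lit 1638)))) (.node 2 (.node 1 (.leaf (nat_lit 1421)) (.leaf (nat_lit 0))) (.node 1 (.leaf (nat_lit 0)) (.leaf (nat_lit 0))))) (.node 4 (.node 2 (.node 1 (.leaf (nat_lit 1436)) (.leaf (nat_lit 0))) (.node 1 (.leaf (nat_lit 0)) (.leaf (nat_lit 0)))) (.node 2 (.node 1 (.leaf (nat_lit 1829)) (.leaf (nat_lit 0))) (.node 1 (.leaf (nat_lit 0)) (.leaf (nat_lit 0)))))))) (.node 32 (.node 16 (.node 8 (.node 4 (.node 2 (.node 1 (.leaf (nat_lit 298)) (.leaf (nat_lit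 0))) (.node 1 (.leaf (nat_lit 0)) (.leaf (nat_lit 0)))) (.node 2 (.node 1 (.leaf (nat_lit 0)) (.leaf (nat_lit 700))) (.node 1 (.leaf (nat_lit 2769)) (.leaf (nat_lit 839))))) (.node 4 (.node 2 (.node 1 (.leaf (nat_lit 0)) (.leaf (nat_lit 2510))) (.node 1 (.leaf (nat_lit 687)) (.leaf (nat_lit 446)))) (.node 2 (.node 1 (.leaf (nat_lit 0)) (.leaf (nat_lit 781))) (.node 1 (.leaf (nat_lit 560)) (.leaf (nat_lit 2255)))))) (.node 8 (.node 4 (.node 2 (.node 1 (.leaf (nat_lit 0)) (.leaf (nat_lit 540))) (.node 1 (.leaf (nat_lit 541)) (.leaf (nat_lit 335)))) (.node 2 (.node 1 (.leaf (nat_lit 677)) (.leaf (nat_lit 0))) (.node 1 (.leaf (nat_lit 0)) (.leaf (nat_lit 0))))) (.node 4 (.node 2 (.node 1 (.leaf (nat_lit 426)) (.leaf (nat_lit 0))) (.node 1 (.leaf (nat_lit 0)) (.leaf (nat_lit 0)))) (.node 2 (.node 1 (.leaf (nat_lit 425)) (.leaf (nat_lit 0))) (.node 1 (.leaf (nat_lit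 0)) (.leaf (nat_lit 0))))))) (.node 16 (.node 8 (.node 4 (.node 2 (.node 1 (.leaf (nat_lit 0)) (.leaf (nat_lit 1826))) (.node 1 (.leaf (nat_lit 1434)) (.leaf (nat_lit 1852)))) (.node 2 (.node 1 (.leaf (nat_lit 1614)) (.leaf (nat_lit 0))) (.node 1 (.leaf (nat_lit 0)) (.leaf (nat_lit 0))))) (.node 4 (.node 2 (.node 1 (.leaf (nat_lit 1635)) (.leaf (nat_lit 0))) (.node 1 (.leaf (nat_lit 0)) (.leaf (nat_lit 0)))) (.node 2 (.node 1 (.leaf (nat_lit 2059)) (.leaf (nat_lit 0))) (.node 1 (.leaf (nat_lit 0)) (.leaf (nat_lit 0)))))) (.node 8 (.node 4 (.node 2 (.node 1 (.leaf (nat_lit 0)) (.leaf (nat_lit 1988))) (.node 1 (.leaf (nat_lit 1939)) (.leaf (nat_lit 2427)))) (.node 2 (.node 1 (.leaf (nat_lit 1775)) (.leaf (nat_lit 0))) (.node 1 (.leaf (nat_lit 0)) (.leaf (nat_lit 0))))) (.node 4 (.node 2 (.node 1 (.leaf (nat_lit 2174)) (.leaf (nat_lit 0))) (.node 1 (.leaf (nat_lit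 0)) (.leaf (nat_lit 0)))) (.node 2 (.node 1 (.leaf (nat_lit 2236)) (.leaf (nat_lit 0))) (.node 1 (.leaf (nat_lit 0)) (.leaf (nat_lit 0)))))))))

noncomputable def pt9 : Tree :=
  .node 128 (.node 64 (.node 32 (.node 16 (.node 8 (.node 4 (.node 2 (.node 1 (.leaf (nat_lit 198)) (.leaf (nat_lit 0))) (.node 1 (.leaf (nat_lit 0)) (.leaf (nat_lit 0)))) (.node 2 (.node 1 (.leaf (nat_lit 0)) (.leaf (nat_lit 121))) (.node 1 (.leaf (nat_lit 1582)) (.leaf (nat_lit 1358))))) (.node 4 (.node 2 (.node 1 (.leaf (nat_lit 0)) (.leaf (nat_lit 1403))) (.node 1 (.leaf (nat_lit 1273)) (.leaf (nat_lit 63)))) (.node 2 (.node 1 (.leaf (nat_lit 0)) (.leaf (nat_lit 1526))) (.node 1 (.leaf (nat_lit 90)) (.leaf (nat_lit 1213)))))) (.node 8 (.node 4 (.node 2 (.node 1 (.leaf (nat_lit 0)) (.leaf (nat_lit 1565))) (.node 1 (.leaf (nat_lit 1550)) (.leaf (nat_lit 1184)))) (.node 2 (.node 1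 (.leaf (nat_lit 1744)) (.leaf (nat_lit 0))) (.node 1 (.leaf (nat_lit 0)) (.leaf (nat_lit 0))))) (.node 4 (.node 2 (.node 1 (.leaf (nat_lit 1365)) (.leaf (nat_lit 0))) (.node 1 (.leaf (nat_lit 0)) (.leaf (nat_lit 0)))) (.node 2 (.node 1 (.leaf (nat_lit 1375)) (.leaf (nat_lit 0))) (.node 1 (.leaf (nat_lit 0)) (.leaf (nat_lit 0))))))) (.node 16 (.node 8 (.node 4 (.node 2 (.node 1 (.leaf (nat_lit 0)) (.leaf (nat_lit 1637))) (.node 1 (.leaf (nat_lit 1615)) (.leaf (nat_lit 1226)))) (.node 2 (.node 1 (.leaf (nat_lit 1828)) (.leaf (nat_lit 0))) (.node 1 (.leaf (nat_lit 0)) (.leaf (nat_lit 0))))) (.node 4 (.node 2 (.node 1 (.leaf (nat_lit 1420)) (.leaf (nat_lit 0))) (.node 1 (.leaf (nat_lit 0)) (.leaf (nat_lit 0)))) (.node 2 (.node 1 (.leaf (nat_lit 1435)) (.leaf (nat_lit 0))) (.node 1 (.leaf (nat_lit 0)) (.leaf (nat_lit 0)))))) (.node 8 (.node 4 (.node 2 (.node 1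 (.leaf (nat_lit 0)) (.leaf (nat_lit 1229))) (.node 1 (.leaf (nat_lit 1218)) (.leaf (nat_lit 857)))) (.node 2 (.node 1 (.leaf (nat_lit 1423)) (.leaf (nat_lit 0))) (.node 1 (.leaf (nat_lit 0)) (.leaf (nat_lit 0))))) (.node 4 (.node 2 (.node 1 (.leaf (nat_lit 1028)) (.leaf (nat_lit 0))) (.node 1 (.leaf (nat_lit 0)) (.leaf (nat_lit 0)))) (.node 2 (.node 1 (.leaf (nat_lit 1035)) (.leaf (nat_lit 0))) (.node 1 (.leaf (nat_lit 0)) (.leaf (nat_lit 0)))))))) (.node 32 (.node 16 (.node 8 (.node 4 (.node 2 (.node 1 (.leaf (nat_lit 0)) (.leaf (nat_lit 1764))) (.node 1 (.leaf (nat_lit 1743)) (.leaf (nat_lit 1373)))) (.node 2 (.node 1 (.leaf (nat_lit 1960)) (.leaf (nat_lit 0))) (.node 1 (.leaf (nat_lit 0)) (.leaf (nat_lit 0))))) (.node 4 (.node 2 (.node 1 (.leaf (nat_lit 1549)) (.leaf (nat_lit 0))) (.node 1 (.leaf (nat_lit 0)) (.leaf (nat_lit 0)))) (.node 2 (.node 1 (.leaf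 (nat_lit 1563)) (.leaf (nat_lit 0))) (.node 1 (.leaf (nat_lit 0)) (.leaf (nat_lit 0)))))) (.node 8 (.node 4 (.node 2 (.node 1 (.leaf (nat_lit 351)) (.leaf (nat_lit 0))) (.node 1 (.leaf (nat_lit 0)) (.leaf (nat_lit 0)))) (.node 2 (.node 1 (.leaf (nat_lit 0)) (.leaf (nat_lit 2038))) (.node 1 (.leaf (nat_lit 379)) (.leaf (nat_lit 775))))) (.node 4 (.node 2 (.node 1 (.leaf (nat_lit 0)) (.leaf (nat_lit 489))) (.node 1 (.leaf (nat_lit 946)) (.leaf (nat_lit 2548)))) (.node 2 (.node 1 (.leaf (nat_lit 0)) (.leaf (nat_lit 620))) (.node 1 (.leaf (nat_lit 2292)) (.leaf (nat_lit 606))))))) (.node 16 (.node 8 (.node 4 (.node 2 (.node 1 (.leaf (nat_lit 504)) (.leaf (nat_lit 0))) (.node 1 (.leaf (nat_lit 0)) (.leaf (nat_lit 0)))) (.node 2 (.node 1 (.leaf (nat_lit 0)) (.leaf (nat_lit 30))) (.node 1 (.leaf (nat_lit 846)) (.leaf (nat_lit 678))))) (.node 4 (.node 2 (.node 1 (.leaf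 (nat_lit 0)) (.leaf (nat_lit 690))) (.node 1 (.leaf (nat_lit 828)) (.leaf (nat_lit 10)))) (.node 2 (.node 1 (.leaf (nat_lit 0)) (.leaf (nat_lit 827))) (.node 1 (.leaf (nat_lit 18)) (.leaf (nat_lit 552)))))) (.node 8 (.node 4 (.node 2 (.node 1 (.leaf (nat_lit 490)) (.leaf (nat_lit 0))) (.node 1 (.leaf (nat_lit 0)) (.leaf (nat_lit 0)))) (.node 2 (.node 1 (.leaf (nat_lit 0)) (.leaf (nat_lit 2177))) (.node 1 (.leaf (nat_lit 714)) (.leaf (nat_lit 375))))) (.node 4 (.node 2 (.node 1 (.leaf (nat_lit 0)) (.leaf (nat_lit 884))) (.node 1 (.leaf (nat_lit 479)) (.leaf (nat_lit 2690)))) (.node 2 (.node 1 (.leaf (nat_lit 0)) (.leaf (nat_lit 297))) (.node 1 (.leaf (nat_lit 2431)) (.leaf (nat_lit 1015))))))))) (.node 64 (.node 32 (.node 16 (.node 8 (.node 4 (.node 2 (.node 1 (.leaf (nat_lit 0)) (.leaf (nat_lit 1437))) (.node 1 (.leaf (nat_lit 1422)) (.leaf (nat_lit 1034))))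 (.node 2 (.node 1 (.leaf (nat_lit 1617)) (.leaf (nat_lit 0))) (.node 1 (.leaf (nat_lit 0)) (.leaf (nat_lit 0))))) (.node 4 (.node 2 (.node 1 (.leaf (nat_lit 1217)) (.leaf (nat_lit 0))) (.node 1 (.leaf (nat_lit 0)) (.leaf (nat_lit 0)))) (.node 2 (.node 1 (.leaf (nat_lit 1228)) (.leaf (nat_lit 0))) (.node 1 (.leaf (nat_lit 0)) (.leaf (nat_lit 0)))))) (.node 8 (.node 4 (.node 2 (.node 1 (.leaf (nat_lit 394)) (.leaf (nat_lit 0))) (.node 1 (.leaf (nat_lit 0)) (.leaf (nat_lit 0)))) (.node 2 (.node 1 (.leaf (nat_lit 0)) (.leaf (nat_lit 48))) (.node 1 (.leaf (nat_lit 1017)) (.leaf (nat_lit 830))))) (.node 4 (.node 2 (.node 1 (.leaf (nat_lit 0)) (.leaf (nat_lit 848))) (.node 1 (.leaf (nat_lit 991)) (.leaf (nat_lit 17)))) (.node 2 (.node 1 (.leaf (nat_lit 0)) (.leaf (nat_lit 989))) (.node 1 (.leaf (nat_lit 29)) (.leaf (nat_lit 692))))))) (.node 16 (.node 8 (.node 4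 (.node 2 (.node 1 (.leaf (nat_lit 571)) (.leaf (nat_lit 0))) (.node 1 (.leaf (nat_lit 0)) (.leaf (nat_lit 0)))) (.node 2 (.node 1 (.leaf (nat_lit 0)) (.leaf (nat_lit 2040))) (.node 1 (.leaf (nat_lit 566)) (.leaf (nat_lit 482))))) (.node 4 (.node 2 (.node 1 (.leaf (nat_lit 0)) (.leaf (nat_lit 715))) (.node 1 (.leaf (nat_lit 609)) (.leaf (nat_lit 2551)))) (.node 2 (.node 1 (.leaf (nat_lit 0)) (.leaf (nat_lit 378))) (.node 1 (.leaf (nat_lit 2294)) (.leaf (nat_lit 885)))))) (.node 8 (.node 4 (.node 2 (.node 1 (.leaf (nat_lit 219)) (.leaf (nat_lit 0))) (.node 1 (.leaf (nat_lit 0)) (.leaf (nat_lit 0)))) (.node 2 (.node 1 (.leaf (nat_lit 0)) (.leaf (nat_lit 2499))) (.node 1 (.leaf (nat_lit 601)) (.leaf (nat_lit 1036))))) (.node 4 (.node 2 (.node 1 (.leaf (nat_lit 0)) (.leaf (nat_lit 475))) (.node 1 (.leaf (nat_lit 1219)) (.leaf (nat_lit 3006)))) (.node 2 (.node 1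 (.leaf (nat_lit 0)) (.leaf (nat_lit 876))) (.node 1 (.leaf (nat_lit 2757)) (.leaf (nat_lit 372)))))))) (.node 32 (.node 16 (.node 8 (.node 4 (.node 2 (.node 1 (.leaf (nat_lit 0)) (.leaf (nat_lit 1376))) (.node 1 (.leaf (nat_lit 1366)) (.leaf (nat_lit 1002)))) (.node 2 (.node 1 (.leaf (nat_lit 1551)) (.leaf (nat_lit 0))) (.node 1 (.leaf (nat_lit 0)) (.leaf (nat_lit 0))))) (.node 4 (.node 2 (.node 1 (.leaf (nat_lit 1179)) (.leaf (nat_lit 0))) (.node 1 (.leaf (nat_lit 0)) (.leaf (nat_lit 0)))) (.node 2 (.node 1 (.leaf (nat_lit 1185)) (.leaf (nat_lit 0))) (.node 1 (.leaf (nat_lit 0)) (.leaf (nat_lit 0)))))) (.node 8 (.node 4 (.node 2 (.node 1 (.leaf (nat_lit 393)) (.leaf (nat_lit 0))) (.node 1 (.leaf (nat_lit 0)) (.leaf (nat_lit 0)))) (.node 2 (.node 1 (.leaf (nat_lit 0)) (.leaf (nat_lit 2380))) (.node 1 (.leaf (nat_lit 882)) (.leaf (nat_lit 295))))) (.node 4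 (.node 2 (.node 1 (.leaf (nat_lit 0)) (.leaf (nat_lit 1071))) (.node 1 (.leaf (nat_lit 373)) (.leaf (nat_lit 2877)))) (.node 2 (.node 1 (.leaf (nat_lit 0)) (.leaf (nat_lit 234))) (.node 1 (.leaf (nat_lit 2627)) (.leaf (nat_lit 1186))))))) (.node 16 (.node 8 (.node 4 (.node 2 (.node 1 (.leaf (nat_lit 277)) (.leaf (nat_lit 0))) (.node 1 (.leaf (nat_lit 0)) (.leaf (nat_lit 0)))) (.node 2 (.node 1 (.leaf (nat_lit 0)) (.leaf (nat_lit 2257))) (.node 1 (.leaf (nat_lit 488)) (.leaf (nat_lit 870))))) (.node 4 (.node 2 (.node 1 (.leaf (nat_lit 0)) (.leaf (nat_lit 603))) (.node 1 (.leaf (nat_lit 1042)) (.leaf (nat_lit 2772)))) (.node 2 (.node 1 (.leaf (nat_lit 0)) (.leaf (nat_lit 716))) (.node 1 (.leaf (nat_lit 2512)) (.leaf (nat_lit 477)))))) (.node 8 (.node 4 (.node 2 (.node 1 (.leaf (nat_lit 312)) (.leaf (nat_lit 0))) (.node 1 (.leaf (nat_lit 0)) (.leaf (nat_lit 0))))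 (.node 2 (.node 1 (.leaf (nat_lit 0)) (.leaf (nat_lit 69))) (.node 1 (.leaf (nat_lit 1203)) (.leaf (nat_lit 994))))) (.node 4 (.node 2 (.node 1 (.leaf (nat_lit 0)) (.leaf (nat_lit 1020))) (.node 1 (.leaf (nat_lit 1169)) (.leaf (nat_lit 28)))) (.node 2 (.node 1 (.leaf (nat_lit 0)) (.leaf (nat_lit 1166))) (.node 1 (.leaf (nat_lit 46)) (.leaf (nat_lit 851)))))))))

noncomputable def pt10 : Tree :=
  .node 128 (.node 64 (.node 32 (.node 16 (.node 8 (.node 4 (.node 2 (.node 1 (.leaf (nat_lit 6)) (.leaf (nat_lit 0))) (.node 1 (.leaf (nat_lit 0)) (.leaf (nat_lit 0)))) (.node 2 (.node 1 (.leaf (nat_lit 0)) (.leaf (nat_lit 434))) (.node 1 (.leaf (nat_lit 636)) (.leaf (nat_lit 539))))) (.node 4 (.node 2 (.node 1 (.leaf (nat_lit 0)) (.leaf (nat_lit 792))) (.node 1 (.leaf (nat_lit 424)) (.leaf (nat_lit 689)))) (.node 2 (.node 1 (.leaf (nat_lit 0)) (.leaf (nat_lit 676)))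 (.node 1 (.leaf (nat_lit 550)) (.leaf (nat_lit 637)))))) (.node 8 (.node 4 (.node 2 (.node 1 (.leaf (nat_lit 0)) (.leaf (nat_lit 1393))) (.node 1 (.leaf (nat_lit 1381)) (.leaf (nat_lit 1443)))) (.node 2 (.node 1 (.leaf (nat_lit 1198)) (.leaf (nat_lit 0))) (.node 1 (.leaf (nat_lit 0)) (.leaf (nat_lit 0))))) (.node 4 (.node 2 (.node 1 (.leaf (nat_lit 1250)) (.leaf (nat_lit 0))) (.node 1 (.leaf (nat_lit 0)) (.leaf (nat_lit 0)))) (.node 2 (.node 1 (.leaf (nat_lit 1577)) (.leaf (nat_lit 0))) (.node 1 (.leaf (nat_lit 0)) (.leaf (nat_lit 0))))))) (.node 16 (.node 8 (.node 4 (.node 2 (.node 1 (.leaf (nat_lit 0)) (.leaf (nat_lit 1014))) (.node 1 (.leaf (nat_lit 1008)) (.leaf (nat_lit 1133)))) (.node 2 (.node 1 (.leaf (nat_lit 843)) (.leaf (nat_lit 0))) (.node 1 (.leaf (nat_lit 0)) (.leaf (nat_lit 0))))) (.node 4 (.node 2 (.node 1 (.leaf (nat_lit 953)) (.leaf (nat_lit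 0))) (.node 1 (.leaf (nat_lit 0)) (.leaf (nat_lit 0)))) (.node 2 (.node 1 (.leaf (nat_lit 1201)) (.leaf (nat_lit 0))) (.node 1 (.leaf (nat_lit 0)) (.leaf (nat_lit 0)))))) (.node 8 (.node 4 (.node 2 (.node 1 (.leaf (nat_lit 0)) (.leaf (nat_lit 1051))) (.node 1 (.leaf (nat_lit 1040)) (.leaf (nat_lit 1394)))) (.node 2 (.node 1 (.leaf (nat_lit 868)) (.leaf (nat_lit 0))) (.node 1 (.leaf (nat_lit 0)) (.leaf (nat_lit 0))))) (.node 4 (.node 2 (.node 1 (.leaf (nat_lit 1238)) (.leaf (nat_lit 0))) (.node 1 (.leaf (nat_lit 0)) (.leaf (nat_lit 0)))) (.node 2 (.node 1 (.leaf (nat_lit 1199)) (.leaf (nat_lit 0))) (.node 1 (.leaf (nat_lit 0)) (.leaf (nat_lit 0)))))))) (.node 32 (.node 16 (.node 8 (.node 4 (.node 2 (.node 1 (.leaf (nat_lit 0)) (.leaf (nat_lit 1200))) (.node 1 (.leaf (nat_lit 1191)) (.leaf (nat_lit 1237)))) (.node 2 (.node 1 (.leaf (nat_lit 1013)) (.leaf (nat_lit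 0))) (.node 1 (.leaf (nat_lit 0)) (.leaf (nat_lit 0))))) (.node 4 (.node 2 (.node 1 (.leaf (nat_lit 1050)) (.leaf (nat_lit 0))) (.node 1 (.leaf (nat_lit 0)) (.leaf (nat_lit 0)))) (.node 2 (.node 1 (.leaf (nat_lit 1395)) (.leaf (nat_lit 0))) (.node 1 (.leaf (nat_lit 0)) (.leaf (nat_lit 0)))))) (.node 8 (.node 4 (.node 2 (.node 1 (.leaf (nat_lit 3399)) (.leaf (nat_lit 0))) (.node 1 (.leaf (nat_lit 0)) (.leaf (nat_lit 0)))) (.node 2 (.node 1 (.leaf (nat_lit 0)) (.leaf (nat_lit 472))) (.node 1 (.leaf (nat_lit 274)) (.leaf (nat_lit 1543))))) (.node 4 (.node 2 (.node 1 (.leaf (nat_lit 0)) (.leaf (nat_lit 217))) (.node 1 (.leaf (nat_lit 1734)) (.leaf (nat_lit 308)))) (.node 2 (.node 1 (.leaf (nat_lit 0)) (.leaf (nat_lit 1361))) (.node 1 (.leaf (nat_lit 392)) (.leaf (nat_lit 172))))))) (.node 16 (.node 8 (.node 4 (.node 2 (.node 1 (.leaf (nat_lit 3103)) (.leaf (nat_lit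 0))) (.node 1 (.leaf (nat_lit 0)) (.leaf (nat_lit 0)))) (.node 2 (.node 1 (.leaf (nat_lit 0)) (.leaf (nat_lit 1469))) (.node 1 (.leaf (nat_lit 502)) (.leaf (nat_lit 145))))) (.node 4 (.node 2 (.node 1 (.leaf (nat_lit 0)) (.leaf (nat_lit 545))) (.node 1 (.leaf (nat_lit 112)) (.leaf (nat_lit 1059)))) (.node 2 (.node 1 (.leaf (nat_lit 0)) (.leaf (nat_lit 186))) (.node 1 (.leaf (nat_lit 1263)) (.leaf (nat_lit 430)))))) (.node 8 (.node 4 (.node 2 (.node 1 (.leaf (nat_lit 120)) (.leaf (nat_lit 0))) (.node 1 (.leaf (nat_lit 0)) (.leaf (nat_lit 0)))) (.node 2 (.node 1 (.leaf (nat_lit 0)) (.leaf (nat_lit 2498))) (.node 1 (.leaf (nat_lit 125)) (.leaf (nat_lit 2138))))) (.node 4 (.node 2 (.node 1 (.leaf (nat_lit 0)) (.leaf (nat_lit 96))) (.node 1 (.leaf (nat_lit 2379)) (.leaf (nat_lit 1997)))) (.node 2 (.node 1 (.leaf (nat_lit 0)) (.leaf (nat_lit 1912))) (.node 1 (.leaf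 (nat_lit 2242)) (.leaf (nat_lit 68))))))))) (.node 64 (.node 32 (.node 16 (.node 8 (.node 4 (.node 2 (.node 1 (.leaf (nat_lit 0)) (.leaf (nat_lit 869))) (.node 1 (.leaf (nat_lit 862)) (.leaf (nat_lit 1239)))) (.node 2 (.node 1 (.leaf (nat_lit 703)) (.leaf (nat_lit 0))) (.node 1 (.leaf (nat_lit 0)) (.leaf (nat_lit 0))))) (.node 4 (.node 2 (.node 1 (.leaf (nat_lit 1041)) (.leaf (nat_lit 0))) (.node 1 (.leaf (nat_lit 0)) (.leaf (nat_lit 0)))) (.node 2 (.node 1 (.leaf (nat_lit 1052)) (.leaf (nat_lit 0))) (.node 1 (.leaf (nat_lit 0)) (.leaf (nat_lit 0)))))) (.node 8 (.node 4 (.node 2 (.node 1 (.leaf (nat_lit 3283)) (.leaf (nat_lit 0))) (.node 1 (.leaf (nat_lit 0)) (.leaf (nat_lit 0)))) (.node 2 (.node 1 (.leaf (nat_lit 0)) (.leaf (nat_lit 1265))) (.node 1 (.leaf (nat_lit 546)) (.leaf (nat_lit 113))))) (.node 4 (.node 2 (.node 1 (.leaf (nat_lit 0)) (.leaf (nat_lit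 431))) (.node 1 (.leaf (nat_lit 81)) (.leaf (nat_lit 874)))) (.node 2 (.node 1 (.leaf (nat_lit 0)) (.leaf (nat_lit 146))) (.node 1 (.leaf (nat_lit 1061)) (.leaf (nat_lit 338))))))) (.node 16 (.node 8 (.node 4 (.node 2 (.node 1 (.leaf (nat_lit 154)) (.leaf (nat_lit 0))) (.node 1 (.leaf (nat_lit 0)) (.leaf (nat_lit 0)))) (.node 2 (.node 1 (.leaf (nat_lit 0)) (.leaf (nat_lit 2692))) (.node 1 (.leaf (nat_lit 97)) (.leaf (nat_lit 2364))))) (.node 4 (.node 2 (.node 1 (.leaf (nat_lit 0)) (.leaf (nat_lit 70))) (.node 1 (.leaf (nat_lit 2609)) (.leaf (nat_lit 2179)))) (.node 2 (.node 1 (.leaf (nat_lit 0)) (.leaf (nat_lit 2125))) (.node 1 (.leaf (nat_lit 2433)) (.leaf (nat_lit 47)))))) (.node 8 (.node 4 (.node 2 (.node 1 (.leaf (nat_lit 3217)) (.leaf (nat_lit 0))) (.node 1 (.leaf (nat_lit 0)) (.leaf (nat_lit 0)))) (.node 2 (.node 1 (.leaf (nat_lit 0)) (.leaf (nat_lit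 291))) (.node 1 (.leaf (nat_lit 174)) (.leaf (nat_lit 1264))))) (.node 4 (.node 2 (.node 1 (.leaf (nat_lit 0)) (.leaf (nat_lit 137))) (.node 1 (.leaf (nat_lit 1470)) (.leaf (nat_lit 474)))) (.node 2 (.node 1 (.leaf (nat_lit 0)) (.leaf (nat_lit 1060))) (.node 1 (.leaf (nat_lit 370)) (.leaf (nat_lit 106)))))))) (.node 32 (.node 16 (.node 8 (.node 4 (.node 2 (.node 1 (.leaf (nat_lit 0)) (.leaf (nat_lit 1251))) (.node 1 (.leaf (nat_lit 1236)) (.leaf (nat_lit 1578)))) (.node 2 (.node 1 (.leaf (nat_lit 1049)) (.leaf (nat_lit 0))) (.node 1 (.leaf (nat_lit 0)) (.leaf (nat_lit 0))))) (.node 4 (.node 2 (.node 1 (.leaf (nat_lit 1444)) (.leaf (nat_lit 0))) (.node 1 (.leaf (nat_lit 0)) (.leaf (nat_lit 0)))) (.node 2 (.node 1 (.leaf (nat_lit 1392)) (.leaf (nat_lit 0))) (.node 1 (.leaf (nat_lit 0)) (.leaf (nat_lit 0)))))) (.node 8 (.node 4 (.node 2 (.node 1 (.leaf (nat_lit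 89)) (.leaf (nat_lit 0))) (.node 1 (.leaf (nat_lit 0)) (.leaf (nat_lit 0)))) (.node 2 (.node 1 (.leaf (nat_lit 0)) (.leaf (nat_lit 2245))) (.node 1 (.leaf (nat_lit 158)) (.leaf (nat_lit 1914))))) (.node 4 (.node 2 (.node 1 (.leaf (nat_lit 0)) (.leaf (nat_lit 124))) (.node 1 (.leaf (nat_lit 2141)) (.leaf (nat_lit 1777)))) (.node 2 (.node 1 (.leaf (nat_lit 0)) (.leaf (nat_lit 1708))) (.node 1 (.leaf (nat_lit 1999)) (.leaf (nat_lit 95))))))) (.node 16 (.node 8 (.node 4 (.node 2 (.node 1 (.leaf (nat_lit 3280)) (.leaf (nat_lit 0))) (.node 1 (.leaf (nat_lit 0)) (.leaf (nat_lit 0)))) (.node 2 (.node 1 (.leaf (nat_lit 0)) (.leaf (nat_lit 369))) (.node 1 (.leaf (nat_lit 218)) (.leaf (nat_lit 1467))))) (.node 4 (.node 2 (.node 1 (.leaf (nat_lit 0)) (.leaf (nat_lit 173))) (.node 1 (.leaf (nat_lit 1667)) (.leaf (nat_lit 391)))) (.node 2 (.node 1 (.leaf (nat_lit 0)) (.leaf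 (nat_lit 1262))) (.node 1 (.leaf (nat_lit 473)) (.leaf (nat_lit 136)))))) (.node 8 (.node 4 (.node 2 (.node 1 (.leaf (nat_lit 3400)) (.leaf (nat_lit 0))) (.node 1 (.leaf (nat_lit 0)) (.leaf (nat_lit 0)))) (.node 2 (.node 1 (.leaf (nat_lit 0)) (.leaf (nat_lit 1062))) (.node 1 (.leaf (nat_lit 679)) (.leaf (nat_lit 86))))) (.node 4 (.node 2 (.node 1 (.leaf (nat_lit 0)) (.leaf (nat_lit 542))) (.node 1 (.leaf (nat_lit 59)) (.leaf (nat_lit 708)))) (.node 2 (.node 1 (.leaf (nat_lit 0)) (.leaf (nat_lit 118))) (.node 1 (.leaf (nat_lit 875)) (.leaf (nat_lit 427)))))))))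

noncomputable def pt11 : Tree :=
  .node 128 (.node 64 (.node 32 (.node 16 (.node 8 (.node 4 (.node 2 (.node 1 (.leaf (nat_lit 248)) (.leaf (nat_lit 0))) (.node 1 (.leaf (nat_lit 0)) (.leaf (nat_lit 0)))) (.node 2 (.node 1 (.leaf (nat_lit 0)) (.leaf (nat_lit 1025))) (.node 1 (.leaf (nat_lit 1349)) (.leaf (nat_lit 67))))) (.node 4 (.node 2 (.node 1 (.leaf (nat_lit 0)) (.leaf (nat_lit 1174))) (.node 1 (.leaf (nat_lit 94)) (.leaf (nat_lit 1398)))) (.node 2 (.node 1 (.leaf (nat_lit 0)) (.leaf (nat_lit 45))) (.node 1 (.leaf (nat_lit 1207)) (.leaf (nat_lit 1072)))))) (.node 8 (.node 4 (.node 2 (.node 1 (.leaf (nat_lit 0)) (.leaf (nat_lit 1023))) (.node 1 (.leaf (nat_lit 1413)) (.leaf (nat_lit 1402)))) (.node 2 (.node 1 (.leaf (nat_lit 1212)) (.leaf (nat_lit 0))) (.node 1 (.leaf (nat_lit 0)) (.leaf (nat_lit 0))))) (.node 4 (.node 2 (.node 1 (.leaf (nat_lit 1590))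 (.leaf (nat_lit 0))) (.node 1 (.leaf (nat_lit 0)) (.leaf (nat_lit 0)))) (.node 2 (.node 1 (.leaf (nat_lit 1205)) (.leaf (nat_lit 0))) (.node 1 (.leaf (nat_lit 0)) (.leaf (nat_lit 0))))))) (.node 16 (.node 8 (.node 4 (.node 2 (.node 1 (.leaf (nat_lit 0)) (.leaf (nat_lit 1356))) (.node 1 (.leaf (nat_lit 1730)) (.leaf (nat_lit 1715)))) (.node 2 (.node 1 (.leaf (nat_lit 1539)) (.leaf (nat_lit 0))) (.node 1 (.leaf (nat_lit 0)) (.leaf (nat_lit 0))))) (.node 4 (.node 2 (.node 1 (.leaf (nat_lit 1922)) (.leaf (nat_lit 0))) (.node 1 (.leaf (nat_lit 0)) (.leaf (nat_lit 0)))) (.node 2 (.node 1 (.leaf (nat_lit 1529)) (.leaf (nat_lit 0))) (.node 1 (.leaf (nat_lit 0)) (.leaf (nat_lit 0)))))) (.node 8 (.node 4 (.node 2 (.node 1 (.leaf (nat_lit 0)) (.leaf (nat_lit 1410))) (.node 1 (.leaf (nat_lit 1809)) (.leaf (nat_lit 1787)))) (.node 2 (.node 1 (.leaf (nat_lit 1602)) (.leaf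 (nat_lit 0))) (.node 1 (.leaf (nat_lit 0)) (.leaf (nat_lit 0))))) (.node 4 (.node 2 (.node 1 (.leaf (nat_lit 2011)) (.leaf (nat_lit 0))) (.node 1 (.leaf (nat_lit 0)) (.leaf (nat_lit 0)))) (.node 2 (.node 1 (.leaf (nat_lit 1587)) (.leaf (nat_lit 0))) (.node 1 (.leaf (nat_lit 0)) (.leaf (nat_lit 0)))))))) (.node 32 (.node 16 (.node 8 (.node 4 (.node 2 (.node 1 (.leaf (nat_lit 0)) (.leaf (nat_lit 1172))) (.node 1 (.leaf (nat_lit 1540)) (.leaf (nat_lit 1530)))) (.node 2 (.node 1 (.leaf (nat_lit 1357)) (.leaf (nat_lit 0))) (.node 1 (.leaf (nat_lit 0)) (.leaf (nat_lit 0))))) (.node 4 (.node 2 (.node 1 (.leaf (nat_lit 1716)) (.leaf (nat_lit 0))) (.node 1 (.leaf (nat_lit 0)) (.leaf (nat_lit 0)))) (.node 2 (.node 1 (.leaf (nat_lit 1351)) (.leaf (nat_lit 0))) (.node 1 (.leaf (nat_lit 0)) (.leaf (nat_lit 0)))))) (.node 8 (.node 4 (.node 2 (.node 1 (.leaf (nat_lit 247))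 (.leaf (nat_lit 0))) (.node 1 (.leaf (nat_lit 0)) (.leaf (nat_lit 0)))) (.node 2 (.node 1 (.leaf (nat_lit 0)) (.leaf (nat_lit 1024))) (.node 1 (.leaf (nat_lit 1348)) (.leaf (nat_lit 64))))) (.node 4 (.node 2 (.node 1 (.leaf (nat_lit 0)) (.leaf (nat_lit 1173))) (.node 1 (.leaf (nat_lit 91)) (.leaf (nat_lit 1397)))) (.node 2 (.node 1 (.leaf (nat_lit 0)) (.leaf (nat_lit 41))) (.node 1 (.leaf (nat_lit 1206)) (.leaf (nat_lit 1352))))))) (.node 16 (.node 8 (.node 4 (.node 2 (.node 1 (.leaf (nat_lit 310)) (.leaf (nat_lit 0))) (.node 1 (.leaf (nat_lit 0)) (.leaf (nat_lit 0)))) (.node 2 (.node 1 (.leaf (nat_lit 0)) (.leaf (nat_lit 1004))) (.node 1 (.leaf (nat_lit 296)) (.leaf (nat_lit 2381))))) (.node 4 (.node 2 (.node 1 (.leaf (nat_lit 0)) (.leaf (nat_lit 374))) (.node 1 (.leaf (nat_lit 2139)) (.leaf (nat_lit 717)))) (.node 2 (.node 1 (.leaf (nat_lit 0)) (.leaf (nat_lit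 2628))) (.node 1 (.leaf (nat_lit 887)) (.leaf (nat_lit 478)))))) (.node 8 (.node 4 (.node 2 (.node 1 (.leaf (nat_lit 350)) (.leaf (nat_lit 0))) (.node 1 (.leaf (nat_lit 0)) (.leaf (nat_lit 0)))) (.node 2 (.node 1 (.leaf (nat_lit 0)) (.leaf (nat_lit 605))) (.node 1 (.leaf (nat_lit 568)) (.leaf (nat_lit 2258))))) (.node 4 (.node 2 (.node 1 (.leaf (nat_lit 0)) (.leaf (nat_lit 705))) (.node 1 (.leaf (nat_lit 2010)) (.leaf (nat_lit 618)))) (.node 2 (.node 1 (.leaf (nat_lit 0)) (.leaf (nat_lit 2513))) (.node 1 (.leaf (nat_lit 760)) (.leaf (nat_lit 864))))))))) (.node 64 (.node 32 (.node 16 (.node 8 (.node 4 (.node 2 (.node 1 (.leaf (nat_lit 0)) (.leaf (nat_lit 1537))) (.node 1 (.leaf (nat_lit 1942)) (.leaf (nat_lit 1921)))) (.node 2 (.node 1 (.leaf (nat_lit 1728)) (.leaf (nat_lit 0))) (.node 1 (.leaf (nat_lit 0)) (.leaf (nat_lit 0))))) (.node 4 (.node 2 (.node 1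 (.leaf (nat_lit 2149)) (.leaf (nat_lit 0))) (.node 1 (.leaf (nat_lit 0)) (.leaf (nat_lit 0)))) (.node 2 (.node 1 (.leaf (nat_lit 1714)) (.leaf (nat_lit 0))) (.node 1 (.leaf (nat_lit 0)) (.leaf (nat_lit 0)))))) (.node 8 (.node 4 (.node 2 (.node 1 (.leaf (nat_lit 381)) (.leaf (nat_lit 0))) (.node 1 (.leaf (nat_lit 0)) (.leaf (nat_lit 0)))) (.node 2 (.node 1 (.leaf (nat_lit 0)) (.leaf (nat_lit 845))) (.node 1 (.leaf (nat_lit 377)) (.leaf (nat_lit 2178))))) (.node 4 (.node 2 (.node 1 (.leaf (nat_lit 0)) (.leaf (nat_lit 481))) (.node 1 (.leaf (nat_lit 1941)) (.leaf (nat_lit 569)))) (.node 2 (.node 1 (.leaf (nat_lit 0)) (.leaf (nat_lit 2432))) (.node 1 (.leaf (nat_lit 719)) (.leaf (nat_lit 608))))))) (.node 16 (.node 8 (.node 4 (.node 2 (.node 1 (.leaf (nat_lit 448)) (.leaf (nat_lit 0))) (.node 1 (.leaf (nat_lit 0)) (.leaf (nat_lit 0)))) (.node 2 (.node 1 (.leaf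 (nat_lit 0)) (.leaf (nat_lit 764))) (.node 1 (.leaf (nat_lit 487)) (.leaf (nat_lit 2389))))) (.node 4 (.node 2 (.node 1 (.leaf (nat_lit 0)) (.leaf (nat_lit 614))) (.node 1 (.leaf (nat_lit 2148)) (.leaf (nat_lit 485)))) (.node 2 (.node 1 (.leaf (nat_lit 0)) (.leaf (nat_lit 2637))) (.node 1 (.leaf (nat_lit 619)) (.leaf (nat_lit 769)))))) (.node 8 (.node 4 (.node 2 (.node 1 (.leaf (nat_lit 395)) (.leaf (nat_lit 0))) (.node 1 (.leaf (nat_lit 0)) (.leaf (nat_lit 0)))) (.node 2 (.node 1 (.leaf (nat_lit 0)) (.leaf (nat_lit 691))) (.node 1 (.leaf (nat_lit 988)) (.leaf (nat_lit 27))))) (.node 4 (.node 2 (.node 1 (.leaf (nat_lit 0)) (.leaf (nat_lit 829))) (.node 1 (.leaf (nat_lit 44)) (.leaf (nat_lit 1016)))) (.node 2 (.node 1 (.leaf (nat_lit 0)) (.leaf (nat_lit 16))) (.node 1 (.leaf (nat_lit 847)) (.leaf (nat_lit 990)))))))) (.node 32 (.node 16 (.node 8 (.node 4 (.node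 2 (.node 1 (.leaf (nat_lit 0)) (.leaf (nat_lit 1211))) (.node 1 (.leaf (nat_lit 1604)) (.leaf (nat_lit 1589)))) (.node 2 (.node 1 (.leaf (nat_lit 1412)) (.leaf (nat_lit 0))) (.node 1 (.leaf (nat_lit 0)) (.leaf (nat_lit 0))))) (.node 4 (.node 2 (.node 1 (.leaf (nat_lit 1789)) (.leaf (nat_lit 0))) (.node 1 (.leaf (nat_lit 0)) (.leaf (nat_lit 0)))) (.node 2 (.node 1 (.leaf (nat_lit 1401)) (.leaf (nat_lit 0))) (.node 1 (.leaf (nat_lit 0)) (.leaf (nat_lit 0)))))) (.node 8 (.node 4 (.node 2 (.node 1 (.leaf (nat_lit 276)) (.leaf (nat_lit 0))) (.node 1 (.leaf (nat_lit 0)) (.leaf (nat_lit 0)))) (.node 2 (.node 1 (.leaf (nat_lit 0)) (.leaf (nat_lit 476))) (.node 1 (.leaf (nat_lit 710)) (.leaf (nat_lit 2500))))) (.node 4 (.node 2 (.node 1 (.leaf (nat_lit 0)) (.leaf (nat_lit 859))) (.node 1 (.leaf (nat_lit 2243)) (.leaf (nat_lit 758)))) (.node 2 (.node 1 (.leaf (nat_lit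 0)) (.leaf (nat_lit 2758))) (.node 1 (.leaf (nat_lit 602)) (.leaf (nat_lit 1030))))))) (.node 16 (.node 8 (.node 4 (.node 2 (.node 1 (.leaf (nat_lit 311)) (.leaf (nat_lit 0))) (.node 1 (.leaf (nat_lit 0)) (.leaf (nat_lit 0)))) (.node 2 (.node 1 (.leaf (nat_lit 0)) (.leaf (nat_lit 850))) (.node 1 (.leaf (nat_lit 1165)) (.leaf (nat_lit 42))))) (.node 4 (.node 2 (.node 1 (.leaf (nat_lit 0)) (.leaf (nat_lit 993))) (.node 1 (.leaf (nat_lit 65)) (.leaf (nat_lit 1202)))) (.node 2 (.node 1 (.leaf (nat_lit 0)) (.leaf (nat_lit 26))) (.node 1 (.leaf (nat_lit 1019)) (.leaf (nat_lit 1168)))))) (.node 8 (.node 4 (.node 2 (.node 1 (.leaf (nat_lit 449)) (.leaf (nat_lit 0))) (.node 1 (.leaf (nat_lit 0)) (.leaf (nat_lit 0)))) (.node 2 (.node 1 (.leaf (nat_lit 0)) (.leaf (nat_lit 720))) (.node 1 (.leaf (nat_lit 486)) (.leaf (nat_lit 2041))))) (.node 4 (.node 2 (.node 1 (.leaf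 (nat_lit 0)) (.leaf (nat_lit 613))) (.node 1 (.leaf (nat_lit 1808)) (.leaf (nat_lit 447)))) (.node 2 (.node 1 (.leaf (nat_lit 0)) (.leaf (nat_lit 2295))) (.node 1 (.leaf (nat_lit 570)) (.leaf (nat_lit 768)))))))))

noncomputable def pt12 : Tree :=
  .node 128 (.node 64 (.node 32 (.node 16 (.node 8 (.node 4 (.node 2 (.node 1 (.leaf (nat_lit 0)) (.leaf (nat_lit 144))) (.node 1 (.leaf (nat_lit 232)) (.leaf (nat_lit 233)))) (.node 2 (.node 1 (.leaf (nat_lit 184)) (.leaf (nat_lit 0))) (.node 1 (.leaf (nat_lit 0)) (.leaf (nat_lit 0))))) (.node 4 (.node 2 (.node 1 (.leaf (nat_lit 294)) (.leaf (nat_lit 0))) (.node 1 (.leaf (nat_lit 0)) (.leaf (nat_lit 0)))) (.node 2 (.node 1 (.leaf (nat_lit 185)) (.leaf (nat_lit 0))) (.node 1 (.leaf (nat_lit 0)) (.leaf (nat_lit 0)))))) (.node 8 (.node 4 (.node 2 (.node 1 (.leaf (nat_lit 235)) (.leaf (nat_lit 0))) (.node 1 (.leaf (nat_lit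 0)) (.leaf (nat_lit 0)))) (.node 2 (.node 1 (.leaf (nat_lit 0)) (.leaf (nat_lit 2497))) (.node 1 (.leaf (nat_lit 837)) (.leaf (nat_lit 697))))) (.node 4 (.node 2 (.node 1 (.leaf (nat_lit 0)) (.leaf (nat_lit 684))) (.node 1 (.leaf (nat_lit 854)) (.leaf (nat_lit 3004)))) (.node 2 (.node 1 (.leaf (nat_lit 0)) (.leaf (nat_lit 563))) (.node 1 (.leaf (nat_lit 2755)) (.leaf (nat_lit 548))))))) (.node 16 (.node 8 (.node 4 (.node 2 (.node 1 (.leaf (nat_lit 380)) (.leaf (nat_lit 0))) (.node 1 (.leaf (nat_lit 0)) (.leaf (nat_lit 0)))) (.node 2 (.node 1 (.leaf (nat_lit 0)) (.leaf (nat_lit 2428))) (.node 1 (.leaf (nat_lit 883)) (.leaf (nat_lit 441))))) (.node 4 (.node 2 (.node 1 (.leaf (nat_lit 0)) (.leaf (nat_lit 1009))) (.node 1 (.leaf (nat_lit 557)) (.leaf (nat_lit 2939)))) (.node 2 (.node 1 (.leaf (nat_lit 0)) (.leaf (nat_lit 349))) (.node 1 (.leaf (nat_lit 2686))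 (.leaf (nat_lit 844)))))) (.node 8 (.node 4 (.node 2 (.node 1 (.leaf (nat_lit 243)) (.leaf (nat_lit 0))) (.node 1 (.leaf (nat_lit 0)) (.leaf (nat_lit 0)))) (.node 2 (.node 1 (.leaf (nat_lit 0)) (.leaf (nat_lit 2855))) (.node 1 (.leaf (nat_lit 1176)) (.leaf (nat_lit 438))))) (.node 4 (.node 2 (.node 1 (.leaf (nat_lit 0)) (.leaf (nat_lit 998))) (.node 1 (.leaf (nat_lit 553)) (.leaf (nat_lit 3270)))) (.node 2 (.node 1 (.leaf (nat_lit 0)) (.leaf (nat_lit 347))) (.node 1 (.leaf (nat_lit 3085)) (.leaf (nat_lit 835)))))))) (.node 32 (.node 16 (.node 8 (.node 4 (.node 2 (.node 1 (.leaf (nat_lit 298)) (.leaf (nat_lit 0))) (.node 1 (.leaf (nat_lit 0)) (.leaf (nat_lit 0)))) (.node 2 (.node 1 (.leaf (nat_lit 0)) (.leaf (nat_lit 2255))) (.node 1 (.leaf (nat_lit 781)) (.leaf (nat_lit 560))))) (.node 4 (.node 2 (.node 1 (.leaf (nat_lit 0)) (.leaf (nat_lit 839))) (.node 1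 (.leaf (nat_lit 700)) (.leaf (nat_lit 2769)))) (.node 2 (.node 1 (.leaf (nat_lit 0)) (.leaf (nat_lit 446))) (.node 1 (.leaf (nat_lit 2510)) (.leaf (nat_lit 687)))))) (.node 8 (.node 4 (.node 2 (.node 1 (.leaf (nat_lit 0)) (.leaf (nat_lit 2427))) (.node 1 (.leaf (nat_lit 1988)) (.leaf (nat_lit 1939)))) (.node 2 (.node 1 (.leaf (nat_lit 2236)) (.leaf (nat_lit 0))) (.node 1 (.leaf (nat_lit 0)) (.leaf (nat_lit 0))))) (.node 4 (.node 2 (.node 1 (.leaf (nat_lit 1775)) (.leaf (nat_lit 0))) (.node 1 (.leaf (nat_lit 0)) (.leaf (nat_lit 0)))) (.node 2 (.node 1 (.leaf (nat_lit 2174)) (.leaf (nat_lit 0))) (.node 1 (.leaf (nat_lit 0)) (.leaf (nat_lit 0))))))) (.node 16 (.node 8 (.node 4 (.node 2 (.node 1 (.leaf (nat_lit 0)) (.leaf (nat_lit 335))) (.node 1 (.leaf (nat_lit 540)) (.leaf (nat_lit 541)))) (.node 2 (.node 1 (.leaf (nat_lit 425)) (.leaf (nat_lit 0))) (.node 1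 (.leaf (nat_lit 0)) (.leaf (nat_lit 0))))) (.node 4 (.node 2 (.node 1 (.leaf (nat_lit 677)) (.leaf (nat_lit 0))) (.node 1 (.leaf (nat_lit 0)) (.leaf (nat_lit 0)))) (.node 2 (.node 1 (.leaf (nat_lit 426)) (.leaf (nat_lit 0))) (.node 1 (.leaf (nat_lit 0)) (.leaf (nat_lit 0)))))) (.node 8 (.node 4 (.node 2 (.node 1 (.leaf (nat_lit 0)) (.leaf (nat_lit 1852))) (.node 1 (.leaf (nat_lit 1826)) (.leaf (nat_lit 1434)))) (.node 2 (.node 1 (.leaf (nat_lit 2059)) (.leaf (nat_lit 0))) (.node 1 (.leaf (nat_lit 0)) (.leaf (nat_lit 0))))) (.node 4 (.node 2 (.node 1 (.leaf (nat_lit 1614)) (.leaf (nat_lit 0))) (.node 1 (.leaf (nat_lit 0)) (.leaf (nat_lit 0)))) (.node 2 (.node 1 (.leaf (nat_lit 1635)) (.leaf (nat_lit 0))) (.node 1 (.leaf (nat_lit 0)) (.leaf (nat_lit 0))))))))) (.node 64 (.node 32 (.node 16 (.node 8 (.node 4 (.node 2 (.node 1 (.leaf (nat_lit 309)) (.leaf (nat_lit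 0))) (.node 1 (.leaf (nat_lit 0)) (.leaf (nat_lit 0)))) (.node 2 (.node 1 (.leaf (nat_lit 0)) (.leaf (nat_lit 2624))) (.node 1 (.leaf (nat_lit 1070)) (.leaf (nat_lit 346))))) (.node 4 (.node 2 (.node 1 (.leaf (nat_lit 0)) (.leaf (nat_lit 1180))) (.node 1 (.leaf (nat_lit 439)) (.leaf (nat_lit 3100)))) (.node 2 (.node 1 (.leaf (nat_lit 0)) (.leaf (nat_lit 275))) (.node 1 (.leaf (nat_lit 2873)) (.leaf (nat_lit 1003)))))) (.node 8 (.node 4 (.node 2 (.node 1 (.leaf (nat_lit 0)) (.leaf (nat_lit 266))) (.node 1 (.leaf (nat_lit 428)) (.leaf (nat_lit 429)))) (.node 2 (.node 1 (.leaf (nat_lit 336)) (.leaf (nat_lit 0))) (.node 1 (.leaf (nat_lit 0)) (.leaf (nat_lit 0))))) (.node 4 (.node 2 (.node 1 (.leaf (nat_lit 543)) (.leaf (nat_lit 0))) (.node 1 (.leaf (nat_lit 0)) (.leaf (nat_lit 0)))) (.node 2 (.node 1 (.leaf (nat_lit 337)) (.leaf (nat_lit 0))) (.node 1 (.leaf (nat_lit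 0)) (.leaf (nat_lit 0))))))) (.node 16 (.node 8 (.node 4 (.node 2 (.node 1 (.leaf (nat_lit 0)) (.leaf (nat_lit 2060))) (.node 1 (.leaf (nat_lit 1986)) (.leaf (nat_lit 1634)))) (.node 2 (.node 1 (.leaf (nat_lit 2234)) (.leaf (nat_lit 0))) (.node 1 (.leaf (nat_lit 0)) (.leaf (nat_lit 0))))) (.node 4 (.node 2 (.node 1 (.leaf (nat_lit 1774)) (.leaf (nat_lit 0))) (.node 1 (.leaf (nat_lit 0)) (.leaf (nat_lit 0)))) (.node 2 (.node 1 (.leaf (nat_lit 1827)) (.leaf (nat_lit 0))) (.node 1 (.leaf (nat_lit 0)) (.leaf (nat_lit 0)))))) (.node 8 (.node 4 (.node 2 (.node 1 (.leaf (nat_lit 0)) (.leaf (nat_lit 1943))) (.node 1 (.leaf (nat_lit 1668)) (.leaf (nat_lit 1538)))) (.node 2 (.node 1 (.leaf (nat_lit 1881)) (.leaf (nat_lit 0))) (.node 1 (.leaf (nat_lit 0)) (.leaf (nat_lit 0))))) (.node 4 (.node 2 (.node 1 (.leaf (nat_lit 1474)) (.leaf (nat_lit 0))) (.node 1 (.leaf (nat_lit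 0)) (.leaf (nat_lit 0)))) (.node 2 (.node 1 (.leaf (nat_lit 1729)) (.leaf (nat_lit 0))) (.node 1 (.leaf (nat_lit 0)) (.leaf (nat_lit 0)))))))) (.node 32 (.node 16 (.node 8 (.node 4 (.node 2 (.node 1 (.leaf (nat_lit 193)) (.leaf (nat_lit 0))) (.node 1 (.leaf (nat_lit 0)) (.leaf (nat_lit 0)))) (.node 2 (.node 1 (.leaf (nat_lit 0)) (.leaf (nat_lit 2691))) (.node 1 (.leaf (nat_lit 995)) (.leaf (nat_lit 555))))) (.node 4 (.node 2 (.node 1 (.leaf (nat_lit 0)) (.leaf (nat_lit 832))) (.node 1 (.leaf (nat_lit 694)) (.leaf (nat_lit 3163)))) (.node 2 (.node 1 (.leaf (nat_lit 0)) (.leaf (nat_lit 443))) (.node 1 (.leaf (nat_lit 2942)) (.leaf (nat_lit 681)))))) (.node 8 (.node 4 (.node 2 (.node 1 (.leaf (nat_lit 0)) (.leaf (nat_lit 1638))) (.node 1 (.leaf (nat_lit 1616)) (.leaf (nat_lit 1227)))) (.node 2 (.node 1 (.leaf (nat_lit 1829)) (.leaf (nat_lit 0))) (.node 1 (.leaf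 (nat_lit 0)) (.leaf (nat_lit 0))))) (.node 4 (.node 2 (.node 1 (.leaf (nat_lit 1421)) (.leaf (nat_lit 0))) (.node 1 (.leaf (nat_lit 0)) (.leaf (nat_lit 0)))) (.node 2 (.node 1 (.leaf (nat_lit 1436)) (.leaf (nat_lit 0))) (.node 1 (.leaf (nat_lit 0)) (.leaf (nat_lit 0))))))) (.node 16 (.node 8 (.node 4 (.node 2 (.node 1 (.leaf (nat_lit 0)) (.leaf (nat_lit 2176))) (.node 1 (.leaf (nat_lit 1853)) (.leaf (nat_lit 1727)))) (.node 2 (.node 1 (.leaf (nat_lit 2085)) (.leaf (nat_lit 0))) (.node 1 (.leaf (nat_lit 0)) (.leaf (nat_lit 0))))) (.node 4 (.node 2 (.node 1 (.leaf (nat_lit 1647)) (.leaf (nat_lit 0))) (.node 1 (.leaf (nat_lit 0)) (.leaf (nat_lit 0)))) (.node 2 (.node 1 (.leaf (nat_lit 1940)) (.leaf (nat_lit 0))) (.node 1 (.leaf (nat_lit 0)) (.leaf (nat_lit 0)))))) (.node 8 (.node 4 (.node 2 (.node 1 (.leaf (nat_lit 0)) (.leaf (nat_lit 213))) (.node 1 (.leaf (nat_lit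 339)) (.leaf (nat_lit 340)))) (.node 2 (.node 1 (.leaf (nat_lit 267)) (.leaf (nat_lit 0))) (.node 1 (.leaf (nat_lit 0)) (.leaf (nat_lit 0))))) (.node 4 (.node 2 (.node 1 (.leaf (nat_lit 432)) (.leaf (nat_lit 0))) (.node 1 (.leaf (nat_lit 0)) (.leaf (nat_lit 0)))) (.node 2 (.node 1 (.leaf (nat_lit 268)) (.leaf (nat_lit 0))) (.node 1 (.leaf (nat_lit 0)) (.leaf (nat_lit 0)))))))))

noncomputable def pt13 : Tree :=
  .node 128 (.node 64 (.node 32 (.node 16 (.node 8 (.node 4 (.node 2 (.node 1 (.leaf (nat_lit 248)) (.leaf (nat_lit 0))) (.node 1 (.leaf (nat_lit 0)) (.leaf (nat_lit 0)))) (.node 2 (.node 1 (.leaf (nat_lit 0)) (.leaf (nat_lit 1072))) (.node 1 (.leaf (nat_lit 45)) (.leaf (nat_lit 1207))))) (.node 4 (.node 2 (.node 1 (.leaf (nat_lit 0)) (.leaf (nat_lit 67))) (.node 1 (.leaf (nat_lit 1025)) (.leaf (nat_lit 1349)))) (.node 2 (.node 1 (.leaf (nat_lit 0))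 (.leaf (nat_lit 1398))) (.node 1 (.leaf (nat_lit 1174)) (.leaf (nat_lit 94)))))) (.node 8 (.node 4 (.node 2 (.node 1 (.leaf (nat_lit 0)) (.leaf (nat_lit 1787))) (.node 1 (.leaf (nat_lit 1410)) (.leaf (nat_lit 1809)))) (.node 2 (.node 1 (.leaf (nat_lit 1587)) (.leaf (nat_lit 0))) (.node 1 (.leaf (nat_lit 0)) (.leaf (nat_lit 0))))) (.node 4 (.node 2 (.node 1 (.leaf (nat_lit 1602)) (.leaf (nat_lit 0))) (.node 1 (.leaf (nat_lit 0)) (.leaf (nat_lit 0)))) (.node 2 (.node 1 (.leaf (nat_lit 2011)) (.leaf (nat_lit 0))) (.node 1 (.leaf (nat_lit 0)) (.leaf (nat_lit 0))))))) (.node 16 (.node 8 (.node 4 (.node 2 (.node 1 (.leaf (nat_lit 0)) (.leaf (nat_lit 1402))) (.node 1 (.leaf (nat_lit 1023)) (.leaf (nat_lit 1413)))) (.node 2 (.node 1 (.leaf (nat_lit 1205)) (.leaf (nat_lit 0))) (.node 1 (.leaf (nat_lit 0)) (.leaf (nat_lit 0))))) (.node 4 (.node 2 (.node 1 (.leaf (nat_lit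 1212)) (.leaf (nat_lit 0))) (.node 1 (.leaf (nat_lit 0)) (.leaf (nat_lit 0)))) (.node 2 (.node 1 (.leaf (nat_lit 1590)) (.leaf (nat_lit 0))) (.node 1 (.leaf (nat_lit 0)) (.leaf (nat_lit 0)))))) (.node 8 (.node 4 (.node 2 (.node 1 (.leaf (nat_lit 0)) (.leaf (nat_lit 1715))) (.node 1 (.leaf (nat_lit 1356)) (.leaf (nat_lit 1730)))) (.node 2 (.node 1 (.leaf (nat_lit 1529)) (.leaf (nat_lit 0))) (.node 1 (.leaf (nat_lit 0)) (.leaf (nat_lit 0))))) (.node 4 (.node 2 (.node 1 (.leaf (nat_lit 1539)) (.leaf (nat_lit 0))) (.node 1 (.leaf (nat_lit 0)) (.leaf (nat_lit 0)))) (.node 2 (.node 1 (.leaf (nat_lit 1922)) (.leaf (nat_lit 0))) (.node 1 (.leaf (nat_lit 0)) (.leaf (nat_lit 0)))))))) (.node 32 (.node 16 (.node 8 (.node 4 (.node 2 (.node 1 (.leaf (nat_lit 0)) (.leaf (nat_lit 1589))) (.node 1 (.leaf (nat_lit 1211)) (.leaf (nat_lit 1604)))) (.node 2 (.node 1 (.leaf (nat_lit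 1401)) (.leaf (nat_lit 0))) (.node 1 (.leaf (nat_lit 0)) (.leaf (nat_lit 0))))) (.node 4 (.node 2 (.node 1 (.leaf (nat_lit 1412)) (.leaf (nat_lit 0))) (.node 1 (.leaf (nat_lit 0)) (.leaf (nat_lit 0)))) (.node 2 (.node 1 (.leaf (nat_lit 1789)) (.leaf (nat_lit 0))) (.node 1 (.leaf (nat_lit 0)) (.leaf (nat_lit 0)))))) (.node 8 (.node 4 (.node 2 (.node 1 (.leaf (nat_lit 449)) (.leaf (nat_lit 0))) (.node 1 (.leaf (nat_lit 0)) (.leaf (nat_lit 0)))) (.node 2 (.node 1 (.leaf (nat_lit 0)) (.leaf (nat_lit 768))) (.node 1 (.leaf (nat_lit 2295)) (.leaf (nat_lit 570))))) (.node 4 (.node 2 (.node 1 (.leaf (nat_lit 0)) (.leaf (nat_lit 2041))) (.node 1 (.leaf (nat_lit 720)) (.leaf (nat_lit 486)))) (.node 2 (.node 1 (.leaf (nat_lit 0)) (.leaf (nat_lit 447))) (.node 1 (.leaf (nat_lit 613)) (.leaf (nat_lit 1808))))))) (.node 16 (.node 8 (.node 4 (.node 2 (.node 1 (.leaf (nat_lit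 276)) (.leaf (nat_lit 0))) (.node 1 (.leaf (nat_lit 0)) (.leaf (nat_lit 0)))) (.node 2 (.node 1 (.leaf (nat_lit 0)) (.leaf (nat_lit 1030))) (.node 1 (.leaf (nat_lit 2758)) (.leaf (nat_lit 602))))) (.node 4 (.node 2 (.node 1 (.leaf (nat_lit 0)) (.leaf (nat_lit 2500))) (.node 1 (.leaf (nat_lit 476)) (.leaf (nat_lit 710)))) (.node 2 (.node 1 (.leaf (nat_lit 0)) (.leaf (nat_lit 758))) (.node 1 (.leaf (nat_lit 859)) (.leaf (nat_lit 2243)))))) (.node 8 (.node 4 (.node 2 (.node 1 (.leaf (nat_lit 311)) (.leaf (nat_lit 0))) (.node 1 (.leaf (nat_lit 0)) (.leaf (nat_lit 0)))) (.node 2 (.node 1 (.leaf (nat_lit 0)) (.leaf (nat_lit 1168))) (.node 1 (.leaf (nat_lit 26)) (.leaf (nat_lit 1019))))) (.node 4 (.node 2 (.node 1 (.leaf (nat_lit 0)) (.leaf (nat_lit 42))) (.node 1 (.leaf (nat_lit 850)) (.leaf (nat_lit 1165)))) (.node 2 (.node 1 (.leaf (nat_lit 0)) (.leaf (nat_lit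 1202))) (.node 1 (.leaf (nat_lit 993)) (.leaf (nat_lit 65))))))))) (.node 64 (.node 32 (.node 16 (.node 8 (.node 4 (.node 2 (.node 1 (.leaf (nat_lit 0)) (.leaf (nat_lit 1530))) (.node 1 (.leaf (nat_lit 1172)) (.leaf (nat_lit 1540)))) (.node 2 (.node 1 (.leaf (nat_lit 1351)) (.leaf (nat_lit 0))) (.node 1 (.leaf (nat_lit 0)) (.leaf (nat_lit 0))))) (.node 4 (.node 2 (.node 1 (.leaf (nat_lit 1357)) (.leaf (nat_lit 0))) (.node 1 (.leaf (nat_lit 0)) (.leaf (nat_lit 0)))) (.node 2 (.node 1 (.leaf (nat_lit 1716)) (.leaf (nat_lit 0))) (.node 1 (.leaf (nat_lit 0)) (.leaf (nat_lit 0)))))) (.node 8 (.node 4 (.node 2 (.node 1 (.leaf (nat_lit 350)) (.leaf (nat_lit 0))) (.node 1 (.leaf (nat_lit 0)) (.leaf (nat_lit 0)))) (.node 2 (.node 1 (.leaf (nat_lit 0)) (.leaf (nat_lit 864))) (.node 1 (.leaf (nat_lit 2513)) (.leaf (nat_lit 760))))) (.node 4 (.node 2 (.node 1 (.leaf (nat_lit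 0)) (.leaf (nat_lit 2258))) (.node 1 (.leaf (nat_lit 605)) (.leaf (nat_lit 568)))) (.node 2 (.node 1 (.leaf (nat_lit 0)) (.leaf (nat_lit 618))) (.node 1 (.leaf (nat_lit 705)) (.leaf (nat_lit 2010))))))) (.node 16 (.node 8 (.node 4 (.node 2 (.node 1 (.leaf (nat_lit 247)) (.leaf (nat_lit 0))) (.node 1 (.leaf (nat_lit 0)) (.leaf (nat_lit 0)))) (.node 2 (.node 1 (.leaf (nat_lit 0)) (.leaf (nat_lit 1352))) (.node 1 (.leaf (nat_lit 41)) (.leaf (nat_lit 1206))))) (.node 4 (.node 2 (.node 1 (.leaf (nat_lit 0)) (.leaf (nat_lit 64))) (.node 1 (.leaf (nat_lit 1024)) (.leaf (nat_lit 1348)))) (.node 2 (.node 1 (.leaf (nat_lit 0)) (.leaf (nat_lit 1397))) (.node 1 (.leaf (nat_lit 1173)) (.leaf (nat_lit 91)))))) (.node 8 (.node 4 (.node 2 (.node 1 (.leaf (nat_lit 310)) (.leaf (nat_lit 0))) (.node 1 (.leaf (nat_lit 0)) (.leaf (nat_lit 0)))) (.node 2 (.node 1 (.leaf (nat_lit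 0)) (.leaf (nat_lit 478))) (.node 1 (.leaf (nat_lit 2628)) (.leaf (nat_lit 887))))) (.node 4 (.node 2 (.node 1 (.leaf (nat_lit 0)) (.leaf (nat_lit 2381))) (.node 1 (.leaf (nat_lit 1004)) (.leaf (nat_lit 296)))) (.node 2 (.node 1 (.leaf (nat_lit 0)) (.leaf (nat_lit 717))) (.node 1 (.leaf (nat_lit 374)) (.leaf (nat_lit 2139)))))))) (.node 32 (.node 16 (.node 8 (.node 4 (.node 2 (.node 1 (.leaf (nat_lit 0)) (.leaf (nat_lit 1921))) (.node 1 (.leaf (nat_lit 1537)) (.leaf (nat_lit 1942)))) (.node 2 (.node 1 (.leaf (nat_lit 1714)) (.leaf (nat_lit 0))) (.node 1 (.leaf (nat_lit 0)) (.leaf (nat_lit 0))))) (.node 4 (.node 2 (.node 1 (.leaf (nat_lit 1728)) (.leaf (nat_lit 0))) (.node 1 (.leaf (nat_lit 0)) (.leaf (nat_lit 0)))) (.node 2 (.node 1 (.leaf (nat_lit 2149)) (.leaf (nat_lit 0))) (.node 1 (.leaf (nat_lit 0)) (.leaf (nat_lit 0)))))) (.node 8 (.node 4 (.node 2 (.node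 1 (.leaf (nat_lit 395)) (.leaf (nat_lit 0))) (.node 1 (.leaf (nat_lit 0)) (.leaf (nat_lit 0)))) (.node 2 (.node 1 (.leaf (nat_lit 0)) (.leaf (nat_lit 990))) (.node 1 (.leaf (nat_lit 16)) (.leaf (nat_lit 847))))) (.node 4 (.node 2 (.node 1 (.leaf (nat_lit 0)) (.leaf (nat_lit 27))) (.node 1 (.leaf (nat_lit 691)) (.leaf (nat_lit 988)))) (.node 2 (.node 1 (.leaf (nat_lit 0)) (.leaf (nat_lit 1016))) (.node 1 (.leaf (nat_lit 829)) (.leaf (nat_lit 44))))))) (.node 16 (.node 8 (.node 4 (.node 2 (.node 1 (.leaf (nat_lit 381)) (.leaf (nat_lit 0))) (.node 1 (.leaf (nat_lit 0)) (.leaf (nat_lit 0)))) (.node 2 (.node 1 (.leaf (nat_lit 0)) (.leaf (nat_lit 608))) (.node 1 (.leaf (nat_lit 2432)) (.leaf (nat_lit 719))))) (.node 4 (.node 2 (.node 1 (.leaf (nat_lit 0)) (.leaf (nat_lit 2178))) (.node 1 (.leaf (nat_lit 845)) (.leaf (nat_lit 377)))) (.node 2 (.node 1 (.leaf (nat_lit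 0)) (.leaf (nat_lit 569))) (.node 1 (.leaf (nat_lit 481)) (.leaf (nat_lit 1941)))))) (.node 8 (.node 4 (.node 2 (.node 1 (.leaf (nat_lit 448)) (.leaf (nat_lit 0))) (.node 1 (.leaf (nat_lit 0)) (.leaf (nat_lit 0)))) (.node 2 (.node 1 (.leaf (nat_lit 0)) (.leaf (nat_lit 769))) (.node 1 (.leaf (nat_lit 2637)) (.leaf (nat_lit 619))))) (.node 4 (.node 2 (.node 1 (.leaf (nat_lit 0)) (.leaf (nat_lit 2389))) (.node 1 (.leaf (nat_lit 764)) (.leaf (nat_lit 487)))) (.node 2 (.node 1 (.leaf (nat_lit 0)) (.leaf (nat_lit 485))) (.node 1 (.leaf (nat_lit 614)) (.leaf (nat_lit 2148)))))))))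

noncomputable def pt14 : Tree :=
  .node 128 (.node 64 (.node 32 (.node 16 (.node 8 (.node 4 (.node 2 (.node 1 (.leaf (nat_lit 198)) (.leaf (nat_lit 0))) (.node 1 (.leaf (nat_lit 0)) (.leaf (nat_lit 0)))) (.node 2 (.node 1 (.leaf (nat_lit 0)) (.leaf (nat_lit 1213))) (.node 1 (.leaf (nat_lit 1526)) (.leaf (nat_lit 90))))) (.node 4 (.node 2 (.node 1 (.leaf (nat_lit 0)) (.leaf (nat_lit 1358))) (.node 1 (.leaf (nat_lit 121)) (.leaf (nat_lit 1582)))) (.node 2 (.node 1 (.leaf (nat_lit 0)) (.leaf (nat_lit 63))) (.node 1 (.leaf (nat_lit 1403)) (.leaf (nat_lit 1273)))))) (.node 8 (.node 4 (.node 2 (.node 1 (.leaf (nat_lit 0)) (.leaf (nat_lit 857))) (.node 1 (.leaf (nat_lit 1229)) (.leaf (nat_lit 1218)))) (.node 2 (.node 1 (.leaf (nat_lit 1035)) (.leaf (nat_lit 0))) (.node 1 (.leaf (nat_lit 0)) (.leaf (nat_lit 0))))) (.node 4 (.node 2 (.node 1 (.leaf (nat_lit 1423))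 (.leaf (nat_lit 0))) (.node 1 (.leaf (nat_lit 0)) (.leaf (nat_lit 0)))) (.node 2 (.node 1 (.leaf (nat_lit 1028)) (.leaf (nat_lit 0))) (.node 1 (.leaf (nat_lit 0)) (.leaf (nat_lit 0))))))) (.node 16 (.node 8 (.node 4 (.node 2 (.node 1 (.leaf (nat_lit 0)) (.leaf (nat_lit 1184))) (.node 1 (.leaf (nat_lit 1565)) (.leaf (nat_lit 1550)))) (.node 2 (.node 1 (.leaf (nat_lit 1375)) (.leaf (nat_lit 0))) (.node 1 (.leaf (nat_lit 0)) (.leaf (nat_lit 0))))) (.node 4 (.node 2 (.node 1 (.leaf (nat_lit 1744)) (.leaf (nat_lit 0))) (.node 1 (.leaf (nat_lit 0)) (.leaf (nat_lit 0)))) (.node 2 (.node 1 (.leaf (nat_lit 1365)) (.leaf (nat_lit 0))) (.node 1 (.leaf (nat_lit 0)) (.leaf (nat_lit 0)))))) (.node 8 (.node 4 (.node 2 (.node 1 (.leaf (nat_lit 0)) (.leaf (nat_lit 1226))) (.node 1 (.leaf (nat_lit 1637)) (.leaf (nat_lit 1615)))) (.node 2 (.node 1 (.leaf (nat_lit 1435)) (.leaf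 (nat_lit 0))) (.node 1 (.leaf (nat_lit 0)) (.leaf (nat_lit 0))))) (.node 4 (.node 2 (.node 1 (.leaf (nat_lit 1828)) (.leaf (nat_lit 0))) (.node 1 (.leaf (nat_lit 0)) (.leaf (nat_lit 0)))) (.node 2 (.node 1 (.leaf (nat_lit 1420)) (.leaf (nat_lit 0))) (.node 1 (.leaf (nat_lit 0)) (.leaf (nat_lit 0)))))))) (.node 32 (.node 16 (.node 8 (.node 4 (.node 2 (.node 1 (.leaf (nat_lit 0)) (.leaf (nat_lit 1002))) (.node 1 (.leaf (nat_lit 1376)) (.leaf (nat_lit 1366)))) (.node 2 (.node 1 (.leaf (nat_lit 1185)) (.leaf (nat_lit 0))) (.node 1 (.leaf (nat_lit 0)) (.leaf (nat_lit 0))))) (.node 4 (.node 2 (.node 1 (.leaf (nat_lit 1551)) (.leaf (nat_lit 0))) (.node 1 (.leaf (nat_lit 0)) (.leaf (nat_lit 0)))) (.node 2 (.node 1 (.leaf (nat_lit 1179)) (.leaf (nat_lit 0))) (.node 1 (.leaf (nat_lit 0)) (.leaf (nat_lit 0)))))) (.node 8 (.node 4 (.node 2 (.node 1 (.leaf (nat_lit 312))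 (.leaf (nat_lit 0))) (.node 1 (.leaf (nat_lit 0)) (.leaf (nat_lit 0)))) (.node 2 (.node 1 (.leaf (nat_lit 0)) (.leaf (nat_lit 851))) (.node 1 (.leaf (nat_lit 1166)) (.leaf (nat_lit 46))))) (.node 4 (.node 2 (.node 1 (.leaf (nat_lit 0)) (.leaf (nat_lit 994))) (.node 1 (.leaf (nat_lit 69)) (.leaf (nat_lit 1203)))) (.node 2 (.node 1 (.leaf (nat_lit 0)) (.leaf (nat_lit 28))) (.node 1 (.leaf (nat_lit 1020)) (.leaf (nat_lit 1169))))))) (.node 16 (.node 8 (.node 4 (.node 2 (.node 1 (.leaf (nat_lit 393)) (.leaf (nat_lit 0))) (.node 1 (.leaf (nat_lit 0)) (.leaf (nat_lit 0)))) (.node 2 (.node 1 (.leaf (nat_lit 0)) (.leaf (nat_lit 1186))) (.node 1 (.leaf (nat_lit 234)) (.leaf (nat_lit 2627))))) (.node 4 (.node 2 (.node 1 (.leaf (nat_lit 0)) (.leaf (nat_lit 295))) (.node 1 (.leaf (nat_lit 2380)) (.leaf (nat_lit 882)))) (.node 2 (.node 1 (.leaf (nat_lit 0)) (.leaf (nat_lit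 2877))) (.node 1 (.leaf (nat_lit 1071)) (.leaf (nat_lit 373)))))) (.node 8 (.node 4 (.node 2 (.node 1 (.leaf (nat_lit 277)) (.leaf (nat_lit 0))) (.node 1 (.leaf (nat_lit 0)) (.leaf (nat_lit 0)))) (.node 2 (.node 1 (.leaf (nat_lit 0)) (.leaf (nat_lit 477))) (.node 1 (.leaf (nat_lit 716)) (.leaf (nat_lit 2512))))) (.node 4 (.node 2 (.node 1 (.leaf (nat_lit 0)) (.leaf (nat_lit 870))) (.node 1 (.leaf (nat_lit 2257)) (.leaf (nat_lit 488)))) (.node 2 (.node 1 (.leaf (nat_lit 0)) (.leaf (nat_lit 2772))) (.node 1 (.leaf (nat_lit 603)) (.leaf (nat_lit 1042))))))))) (.node 64 (.node 32 (.node 16 (.node 8 (.node 4 (.node 2 (.node 1 (.leaf (nat_lit 0)) (.leaf (nat_lit 1373))) (.node 1 (.leaf (nat_lit 1764)) (.leaf (nat_lit 1743)))) (.node 2 (.node 1 (.leaf (nat_lit 1563)) (.leaf (nat_lit 0))) (.node 1 (.leaf (nat_lit 0)) (.leaf (nat_lit 0))))) (.node 4 (.node 2 (.node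 1 (.leaf (nat_lit 1960)) (.leaf (nat_lit 0))) (.node 1 (.leaf (nat_lit 0)) (.leaf (nat_lit 0)))) (.node 2 (.node 1 (.leaf (nat_lit 1549)) (.leaf (nat_lit 0))) (.node 1 (.leaf (nat_lit 0)) (.leaf (nat_lit 0)))))) (.node 8 (.node 4 (.node 2 (.node 1 (.leaf (nat_lit 490)) (.leaf (nat_lit 0))) (.node 1 (.leaf (nat_lit 0)) (.leaf (nat_lit 0)))) (.node 2 (.node 1 (.leaf (nat_lit 0)) (.leaf (nat_lit 1015))) (.node 1 (.leaf (nat_lit 297)) (.leaf (nat_lit 2431))))) (.node 4 (.node 2 (.node 1 (.leaf (nat_lit 0)) (.leaf (nat_lit 375))) (.node 1 (.leaf (nat_lit 2177)) (.leaf (nat_lit 714)))) (.node 2 (.node 1 (.leaf (nat_lit 0)) (.leaf (nat_lit 2690))) (.node 1 (.leaf (nat_lit 884)) (.leaf (nat_lit 479))))))) (.node 16 (.node 8 (.node 4 (.node 2 (.node 1 (.leaf (nat_lit 351)) (.leaf (nat_lit 0))) (.node 1 (.leaf (nat_lit 0)) (.leaf (nat_lit 0)))) (.node 2 (.node 1 (.leaf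 (nat_lit 0)) (.leaf (nat_lit 606))) (.node 1 (.leaf (nat_lit 620)) (.leaf (nat_lit 2292))))) (.node 4 (.node 2 (.node 1 (.leaf (nat_lit 0)) (.leaf (nat_lit 775))) (.node 1 (.leaf (nat_lit 2038)) (.leaf (nat_lit 379)))) (.node 2 (.node 1 (.leaf (nat_lit 0)) (.leaf (nat_lit 2548))) (.node 1 (.leaf (nat_lit 489)) (.leaf (nat_lit 946)))))) (.node 8 (.node 4 (.node 2 (.node 1 (.leaf (nat_lit 504)) (.leaf (nat_lit 0))) (.node 1 (.leaf (nat_lit 0)) (.leaf (nat_lit 0)))) (.node 2 (.node 1 (.leaf (nat_lit 0)) (.leaf (nat_lit 552))) (.node 1 (.leaf (nat_lit 827)) (.leaf (nat_lit 18))))) (.node 4 (.node 2 (.node 1 (.leaf (nat_lit 0)) (.leaf (nat_lit 678))) (.node 1 (.leaf (nat_lit 30)) (.leaf (nat_lit 846)))) (.node 2 (.node 1 (.leaf (nat_lit 0)) (.leaf (nat_lit 10))) (.node 1 (.leaf (nat_lit 690)) (.leaf (nat_lit 828)))))))) (.node 32 (.node 16 (.node 8 (.node 4 (.node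 2 (.node 1 (.leaf (nat_lit 0)) (.leaf (nat_lit 1034))) (.node 1 (.leaf (nat_lit 1437)) (.leaf (nat_lit 1422)))) (.node 2 (.node 1 (.leaf (nat_lit 1228)) (.leaf (nat_lit 0))) (.node 1 (.leaf (nat_lit 0)) (.leaf (nat_lit 0))))) (.node 4 (.node 2 (.node 1 (.leaf (nat_lit 1617)) (.leaf (nat_lit 0))) (.node 1 (.leaf (nat_lit 0)) (.leaf (nat_lit 0)))) (.node 2 (.node 1 (.leaf (nat_lit 1217)) (.leaf (nat_lit 0))) (.node 1 (.leaf (nat_lit 0)) (.leaf (nat_lit 0)))))) (.node 8 (.node 4 (.node 2 (.node 1 (.leaf (nat_lit 219)) (.leaf (nat_lit 0))) (.node 1 (.leaf (nat_lit 0)) (.leaf (nat_lit 0)))) (.node 2 (.node 1 (.leaf (nat_lit 0)) (.leaf (nat_lit 372))) (.node 1 (.leaf (nat_lit 876)) (.leaf (nat_lit 2757))))) (.node 4 (.node 2 (.node 1 (.leaf (nat_lit 0)) (.leaf (nat_lit 1036))) (.node 1 (.leaf (nat_lit 2499)) (.leaf (nat_lit 601)))) (.node 2 (.node 1 (.leaf (nat_lit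 0)) (.leaf (nat_lit 3006))) (.node 1 (.leaf (nat_lit 475)) (.leaf (nat_lit 1219))))))) (.node 16 (.node 8 (.node 4 (.node 2 (.node 1 (.leaf (nat_lit 394)) (.leaf (nat_lit 0))) (.node 1 (.leaf (nat_lit 0)) (.leaf (nat_lit 0)))) (.node 2 (.node 1 (.leaf (nat_lit 0)) (.leaf (nat_lit 692))) (.node 1 (.leaf (nat_lit 989)) (.leaf (nat_lit 29))))) (.node 4 (.node 2 (.node 1 (.leaf (nat_lit 0)) (.leaf (nat_lit 830))) (.node 1 (.leaf (nat_lit 48)) (.leaf (nat_lit 1017)))) (.node 2 (.node 1 (.leaf (nat_lit 0)) (.leaf (nat_lit 17))) (.node 1 (.leaf (nat_lit 848)) (.leaf (nat_lit 991)))))) (.node 8 (.node 4 (.node 2 (.node 1 (.leaf (nat_lit 571)) (.leaf (nat_lit 0))) (.node 1 (.leaf (nat_lit 0)) (.leaf (nat_lit 0)))) (.node 2 (.node 1 (.leaf (nat_lit 0)) (.leaf (nat_lit 885))) (.node 1 (.leaf (nat_lit 378)) (.leaf (nat_lit 2294))))) (.node 4 (.node 2 (.node 1 (.leaf (nat_lit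 0)) (.leaf (nat_lit 482))) (.node 1 (.leaf (nat_lit 2040)) (.leaf (nat_lit 566)))) (.node 2 (.node 1 (.leaf (nat_lit 0)) (.leaf (nat_lit 2551))) (.node 1 (.leaf (nat_lit 715)) (.leaf (nat_lit 609)))))))))

noncomputable def pt15 : Tree :=
  .node 128 (.node 64 (.node 32 (.node 16 (.node 8 (.node 4 (.node 2 (.node 1 (.leaf (nat_lit 6)) (.leaf (nat_lit 0))) (.node 1 (.leaf (nat_lit 0)) (.leaf (nat_lit 0)))) (.node 2 (.node 1 (.leaf (nat_lit 0)) (.leaf (nat_lit 637))) (.node 1 (.leaf (nat_lit 676)) (.leaf (nat_lit 550))))) (.node 4 (.node 2 (.node 1 (.leaf (nat_lit 0)) (.leaf (nat_lit 539))) (.node 1 (.leaf (nat_lit 434)) (.leaf (nat_lit 636)))) (.node 2 (.node 1 (.leaf (nat_lit 0)) (.leaf (nat_lit 689))) (.node 1 (.leaf (nat_lit 792)) (.leaf (nat_lit 424)))))) (.node 8 (.node 4 (.node 2 (.node 1 (.leaf (nat_lit 0)) (.leaf (nat_lit 1394))) (.node 1 (.leaf (nat_lit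 1051)) (.leaf (nat_lit 1040)))) (.node 2 (.node 1 (.leaf (nat_lit 1199)) (.leaf (nat_lit 0))) (.node 1 (.leaf (nat_lit 0)) (.leaf (nat_lit 0))))) (.node 4 (.node 2 (.node 1 (.leaf (nat_lit 868)) (.leaf (nat_lit 0))) (.node 1 (.leaf (nat_lit 0)) (.leaf (nat_lit 0)))) (.node 2 (.node 1 (.leaf (nat_lit 1238)) (.leaf (nat_lit 0))) (.node 1 (.leaf (nat_lit 0)) (.leaf (nat_lit 0))))))) (.node 16 (.node 8 (.node 4 (.node 2 (.node 1 (.leaf (nat_lit 0)) (.leaf (nat_lit 1443))) (.node 1 (.leaf (nat_lit 1393)) (.leaf (nat_lit 1381)))) (.node 2 (.node 1 (.leaf (nat_lit 1577)) (.leaf (nat_lit 0))) (.node 1 (.leaf (nat_lit 0)) (.leaf (nat_lit 0))))) (.node 4 (.node 2 (.node 1 (.leaf (nat_lit 1198)) (.leaf (nat_lit 0))) (.node 1 (.leaf (nat_lit 0)) (.leaf (nat_lit 0)))) (.node 2 (.node 1 (.leaf (nat_lit 1250)) (.leaf (nat_lit 0))) (.node 1 (.leaf (nat_lit 0)) (.leaf (nat_lit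 0)))))) (.node 8 (.node 4 (.node 2 (.node 1 (.leaf (nat_lit 0)) (.leaf (nat_lit 1133))) (.node 1 (.leaf (nat_lit 1014)) (.leaf (nat_lit 1008)))) (.node 2 (.node 1 (.leaf (nat_lit 1201)) (.leaf (nat_lit 0))) (.node 1 (.leaf (nat_lit 0)) (.leaf (nat_lit 0))))) (.node 4 (.node 2 (.node 1 (.leaf (nat_lit 843)) (.leaf (nat_lit 0))) (.node 1 (.leaf (nat_lit 0)) (.leaf (nat_lit 0)))) (.node 2 (.node 1 (.leaf (nat_lit 953)) (.leaf (nat_lit 0))) (.node 1 (.leaf (nat_lit 0)) (.leaf (nat_lit 0)))))))) (.node 32 (.node 16 (.node 8 (.node 4 (.node 2 (.node 1 (.leaf (nat_lit 0)) (.leaf (nat_lit 1578))) (.node 1 (.leaf (nat_lit 1251)) (.leaf (nat_lit 1236)))) (.node 2 (.node 1 (.leaf (nat_lit 1392)) (.leaf (nat_lit 0))) (.node 1 (.leaf (nat_lit 0)) (.leaf (nat_lit 0))))) (.node 4 (.node 2 (.node 1 (.leaf (nat_lit 1049)) (.leaf (nat_lit 0))) (.node 1 (.leaf (nat_lit 0)) (.leaf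 (nat_lit 0)))) (.node 2 (.node 1 (.leaf (nat_lit 1444)) (.leaf (nat_lit 0))) (.node 1 (.leaf (nat_lit 0)) (.leaf (nat_lit 0)))))) (.node 8 (.node 4 (.node 2 (.node 1 (.leaf (nat_lit 3400)) (.leaf (nat_lit 0))) (.node 1 (.leaf (nat_lit 0)) (.leaf (nat_lit 0)))) (.node 2 (.node 1 (.leaf (nat_lit 0)) (.leaf (nat_lit 427))) (.node 1 (.leaf (nat_lit 118)) (.leaf (nat_lit 875))))) (.node 4 (.node 2 (.node 1 (.leaf (nat_lit 0)) (.leaf (nat_lit 86))) (.node 1 (.leaf (nat_lit 1062)) (.leaf (nat_lit 679)))) (.node 2 (.node 1 (.leaf (nat_lit 0)) (.leaf (nat_lit 708))) (.node 1 (.leaf (nat_lit 542)) (.leaf (nat_lit 59))))))) (.node 16 (.node 8 (.node 4 (.node 2 (.node 1 (.leaf (nat_lit 89)) (.leaf (nat_lit 0))) (.node 1 (.leaf (nat_lit 0)) (.leaf (nat_lit 0)))) (.node 2 (.node 1 (.leaf (nat_lit 0)) (.leaf (nat_lit 95))) (.node 1 (.leaf (nat_lit 1708)) (.leaf (nat_lit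 1999))))) (.node 4 (.node 2 (.node 1 (.leaf (nat_lit 0)) (.leaf (nat_lit 1914))) (.node 1 (.leaf (nat_lit 2245)) (.leaf (nat_lit 158)))) (.node 2 (.node 1 (.leaf (nat_lit 0)) (.leaf (nat_lit 1777))) (.node 1 (.leaf (nat_lit 124)) (.leaf (nat_lit 2141)))))) (.node 8 (.node 4 (.node 2 (.node 1 (.leaf (nat_lit 3280)) (.leaf (nat_lit 0))) (.node 1 (.leaf (nat_lit 0)) (.leaf (nat_lit 0)))) (.node 2 (.node 1 (.leaf (nat_lit 0)) (.leaf (nat_lit 136))) (.node 1 (.leaf (nat_lit 1262)) (.leaf (nat_lit 473))))) (.node 4 (.node 2 (.node 1 (.leaf (nat_lit 0)) (.leaf (nat_lit 1467))) (.node 1 (.leaf (nat_lit 369)) (.leaf (nat_lit 218)))) (.node 2 (.node 1 (.leaf (nat_lit 0)) (.leaf (nat_lit 391))) (.node 1 (.leaf (nat_lit 173)) (.leaf (nat_lit 1667))))))))) (.node 64 (.node 32 (.node 16 (.node 8 (.node 4 (.node 2 (.node 1 (.leaf (nat_lit 0)) (.leaf (nat_lit 1237))) (.node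 1 (.leaf (nat_lit 1200)) (.leaf (nat_lit 1191)))) (.node 2 (.node 1 (.leaf (nat_lit 1395)) (.leaf (nat_lit 0))) (.node 1 (.leaf (nat_lit 0)) (.leaf (nat_lit 0))))) (.node 4 (.node 2 (.node 1 (.leaf (nat_lit 1013)) (.leaf (nat_lit 0))) (.node 1 (.leaf (nat_lit 0)) (.leaf (nat_lit 0)))) (.node 2 (.node 1 (.leaf (nat_lit 1050)) (.leaf (nat_lit 0))) (.node 1 (.leaf (nat_lit 0)) (.leaf (nat_lit 0)))))) (.node 8 (.node 4 (.node 2 (.node 1 (.leaf (nat_lit 120)) (.leaf (nat_lit 0))) (.node 1 (.leaf (nat_lit 0)) (.leaf (nat_lit 0)))) (.node 2 (.node 1 (.leaf (nat_lit 0)) (.leaf (nat_lit 68))) (.node 1 (.leaf (nat_lit 1912)) (.leaf (nat_lit 2242))))) (.node 4 (.node 2 (.node 1 (.leaf (nat_lit 0)) (.leaf (nat_lit 2138))) (.node 1 (.leaf (nat_lit 2498)) (.leaf (nat_lit 125)))) (.node 2 (.node 1 (.leaf (nat_lit 0)) (.leaf (nat_lit 1997))) (.node 1 (.leaf (nat_lit 96))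 (.leaf (nat_lit 2379))))))) (.node 16 (.node 8 (.node 4 (.node 2 (.node 1 (.leaf (nat_lit 3399)) (.leaf (nat_lit 0))) (.node 1 (.leaf (nat_lit 0)) (.leaf (nat_lit 0)))) (.node 2 (.node 1 (.leaf (nat_lit 0)) (.leaf (nat_lit 172))) (.node 1 (.leaf (nat_lit 1361)) (.leaf (nat_lit 392))))) (.node 4 (.node 2 (.node 1 (.leaf (nat_lit 0)) (.leaf (nat_lit 1543))) (.node 1 (.leaf (nat_lit 472)) (.leaf (nat_lit 274)))) (.node 2 (.node 1 (.leaf (nat_lit 0)) (.leaf (nat_lit 308))) (.node 1 (.leaf (nat_lit 217)) (.leaf (nat_lit 1734)))))) (.node 8 (.node 4 (.node 2 (.node 1 (.leaf (nat_lit 3103)) (.leaf (nat_lit 0))) (.node 1 (.leaf (nat_lit 0)) (.leaf (nat_lit 0)))) (.node 2 (.node 1 (.leaf (nat_lit 0)) (.leaf (nat_lit 430))) (.node 1 (.leaf (nat_lit 186)) (.leaf (nat_lit 1263))))) (.node 4 (.node 2 (.node 1 (.leaf (nat_lit 0)) (.leaf (nat_lit 145))) (.node 1 (.leaf (nat_lit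 1469)) (.leaf (nat_lit 502)))) (.node 2 (.node 1 (.leaf (nat_lit 0)) (.leaf (nat_lit 1059))) (.node 1 (.leaf (nat_lit 545)) (.leaf (nat_lit 112)))))))) (.node 32 (.node 16 (.node 8 (.node 4 (.node 2 (.node 1 (.leaf (nat_lit 0)) (.leaf (nat_lit 1239))) (.node 1 (.leaf (nat_lit 869)) (.leaf (nat_lit 862)))) (.node 2 (.node 1 (.leaf (nat_lit 1052)) (.leaf (nat_lit 0))) (.node 1 (.leaf (nat_lit 0)) (.leaf (nat_lit 0))))) (.node 4 (.node 2 (.node 1 (.leaf (nat_lit 703)) (.leaf (nat_lit 0))) (.node 1 (.leaf (nat_lit 0)) (.leaf (nat_lit 0)))) (.node 2 (.node 1 (.leaf (nat_lit 1041)) (.leaf (nat_lit 0))) (.node 1 (.leaf (nat_lit 0)) (.leaf (nat_lit 0)))))) (.node 8 (.node 4 (.node 2 (.node 1 (.leaf (nat_lit 3217)) (.leaf (nat_lit 0))) (.node 1 (.leaf (nat_lit 0)) (.leaf (nat_lit 0)))) (.node 2 (.node 1 (.leaf (nat_lit 0)) (.leaf (nat_lit 106))) (.node 1 (.leaf (nat_lit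 1060)) (.leaf (nat_lit 370))))) (.node 4 (.node 2 (.node 1 (.leaf (nat_lit 0)) (.leaf (nat_lit 1264))) (.node 1 (.leaf (nat_lit 291)) (.leaf (nat_lit 174)))) (.node 2 (.node 1 (.leaf (nat_lit 0)) (.leaf (nat_lit 474))) (.node 1 (.leaf (nat_lit 137)) (.leaf (nat_lit 1470))))))) (.node 16 (.node 8 (.node 4 (.node 2 (.node 1 (.leaf (nat_lit 3283)) (.leaf (nat_lit 0))) (.node 1 (.leaf (nat_lit 0)) (.leaf (nat_lit 0)))) (.node 2 (.node 1 (.leaf (nat_lit 0)) (.leaf (nat_lit 338))) (.node 1 (.leaf (nat_lit 146)) (.leaf (nat_lit 1061))))) (.node 4 (.node 2 (.node 1 (.leaf (nat_lit 0)) (.leaf (nat_lit 113))) (.node 1 (.leaf (nat_lit 1265)) (.leaf (nat_lit 546)))) (.node 2 (.node 1 (.leaf (nat_lit 0)) (.leaf (nat_lit 874))) (.node 1 (.leaf (nat_lit 431)) (.leaf (nat_lit 81)))))) (.node 8 (.node 4 (.node 2 (.node 1 (.leaf (nat_lit 154)) (.leaf (nat_lit 0))) (.node 1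 (.leaf (nat_lit 0)) (.leaf (nat_lit 0)))) (.node 2 (.node 1 (.leaf (nat_lit 0)) (.leaf (nat_lit 47))) (.node 1 (.leaf (nat_lit 2125)) (.leaf (nat_lit 2433))))) (.node 4 (.node 2 (.node 1 (.leaf (nat_lit 0)) (.leaf (nat_lit 2364))) (.node 1 (.leaf (nat_lit 2692)) (.leaf (nat_lit 97)))) (.node 2 (.node 1 (.leaf (nat_lit 0)) (.leaf (nat_lit 2179))) (.node 1 (.leaf (nat_lit 70)) (.leaf (nat_lit 2609)))))))))

noncomputable def ptTree : Tree :=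
  .node 2048 (.node 1024 (.node 512 (.node 256 (pt0) (pt1)) (.node 256 (pt2) (pt3))) (.node 512 (.node 256 (pt4) (pt5)) (.node 256 (pt6) (pt7)))) (.node 1024 (.node 512 (.node 256 (pt8) (pt9)) (.node 256 (pt10) (pt11))) (.node 512 (.node 256 (pt12) (pt13)) (.node 256 (pt14) (pt15))))

def centres : List (List ℕ) := [[], [1280], [3005], [80], [208], [1360], [5], [13], [1280, 80, 5, 4085, 1445]]

def start : ℕ := 6

/-- Parent row, generator, row. -/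
def chunk0 : List (ℕ × ℕ × ℕ) := [(6, 2, 10), (10, 1, 16), (10, 3, 17), (10, 6, 18), (16, 3, 26), (16, 6, 27), (17, 4, 28), (17, 6, 29), (18, 7, 30), (26, 2, 40), (26, 4, 41), (26, 6, 42), (27, 2, 43), (27, 7, 44), (28, 5, 45), (28, 6, 46), (28, 8, 184), (29, 2, 47), (29, 7, 48), (30, 8, 194), (40, 4, 62), (41, 5, 63), (41, 6, 64), (41, 8, 230), (42, 7, 65), (43, 7, 66), (44, 8, 243), (45, 6, 67), (45, 8, 215), (46, 2, 68), (46, 7, 69), (46, 8, 144), (184, 7, 232), (47, 7, 70), (48, 8, 152), (194, 4, 244), (62, 3, 88), (62, 5, 89), (62, 8, 291), (63, 6, 90), (63, 8, 267), (64, 7, 91), (64, 8, 183), (230, 7, 292), (65, 8, 193), (66, 6, 92), (66, 8, 308), (243, 4, 309), (67, 2, 93), (67, 7, 94), (67, 8, 171), (215, 4, 270), (215, 7, 272), (68, 3, 95), (68, 7, 96), (68, 8, 112), (69, 8, 764), (144, 7, 185), (232, 6, 294), (70, 6, 97), (70, 8, 118), (152, 4, 187),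 (244, 3, 299), (244, 5, 310), (88, 5, 120), (88, 8, 369), (89, 8, 338), (291, 7, 370), (90, 7, 121), (90, 8, 213), (267, 4, 336), (267, 7, 339), (91, 8, 606), (183, 7, 231), (292, 6, 371), (193, 4, 235), (92, 8, 392), (308, 4, 391), (309, 3, 380), (309, 5, 393), (93, 3, 122), (93, 7, 123), (93, 8, 136), (94, 8, 885), (171, 4, 214), (171, 7, 216), (270, 3, 341), (270, 7, 343), (272, 6, 345), (95, 7, 124), (95, 8, 81), (96, 6, 125), (96, 8, 939), (112, 7, 145), (764, 4, 605), (764, 7, 619), (185, 6, 233), (294, 2, 373), (97, 8, 86), (118, 4, 146), (187, 3, 236), (187, 5, 219), (299, 2, 378), (299, 5, 381), (120, 4, 154), (120, 8, 430), (369, 4, 472), (369, 7, 473), (338, 4, 427), (338, 7, 431), (370, 6, 474), (121, 8, 720), (213, 4, 266), (213, 7, 268), (336, 3, 425), (336, 7, 428), (339, 6, 432), (606, 4, 477), (606, 7, 489), (231, 6, 293), (371, 2, 475), (235,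 3, 298), (235, 5, 276), (391, 5, 502), (380, 2, 488), (380, 5, 490), (122, 4, 155), (122, 7, 156), (122, 8, 106), (123, 6, 157), (123, 8, 1052), (136, 4, 172), (136, 7, 173), (885, 4, 1015), (885, 7, 715), (214, 3, 269), (214, 7, 271), (216, 6, 273), (341, 2, 434), (341, 7, 435), (343, 6, 437), (343, 8, 988), (345, 2, 439), (124, 6, 158), (124, 8, 1127), (81, 4, 59), (81, 7, 113), (125, 8, 1128), (939, 4, 763), (939, 7, 774), (145, 6, 186), (605, 3, 476), (605, 5, 687), (605, 7, 760), (619, 6, 485), (233, 2, 295), (373, 1, 478), (373, 3, 479), (146, 5, 174), (236, 2, 297), (236, 5, 277), (378, 1, 486), (378, 5, 487), (378, 6, 482), (381, 4, 449), (430, 7, 545), (427, 7, 542), (431, 6, 546), (474, 2, 601), (720, 4, 845), (720, 7, 570), (266, 3, 335), (266, 7, 337), (268, 6, 340), (425, 7, 540), (428, 6, 543), (428, 8, 827), (432, 2, 547), (477, 3, 372), (477,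 5, 549), (477, 7, 603), (489, 6, 379), (475, 1, 602), (298, 5, 350), (488, 1, 618), (488, 5, 621), (490, 4, 571), (155, 7, 196), (156, 6, 197), (156, 8, 1201), (106, 7, 137), (157, 8, 1239), (1052, 4, 1199), (1052, 7, 869), (172, 7, 217), (173, 6, 218), (1015, 3, 1186), (1015, 5, 844), (1015, 7, 884), (715, 6, 566), (269, 7, 342), (271, 6, 344), (271, 8, 1176), (273, 2, 346), (434, 7, 550), (435, 6, 551), (435, 8, 1165), (437, 2, 553), (437, 8, 829), (439, 1, 556), (439, 3, 557), (158, 2, 198), (158, 8, 944), (1127, 4, 945), (1127, 7, 940), (763, 3, 612), (763, 5, 843), (763, 7, 935), (186, 2, 234), (476, 2, 374), (476, 5, 548), (687, 7, 839), (485, 2, 377), (295, 3, 375), (478, 3, 608), (479, 4, 609), (297, 5, 349), (277, 4, 351), (486, 5, 620), (486, 6, 613), (487, 4, 568)]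

def chunk1 : List (ℕ × ℕ × ℕ) := [(487, 6, 614), (449, 8, 1273), (542, 6, 679), (542, 8, 676), (546, 2, 683), (601, 1, 758), (845, 3, 1004), (845, 5, 688), (845, 7, 719), (570, 6, 447), (335, 2, 424), (335, 7, 426), (337, 6, 429), (337, 8, 996), (340, 2, 433), (540, 6, 677), (540, 8, 989), (543, 2, 680), (543, 8, 678), (547, 1, 684), (547, 3, 685), (350, 4, 448), (618, 5, 781), (621, 4, 718), (571, 8, 1072), (196, 6, 246), (196, 8, 2179), (197, 2, 247), (197, 8, 1133), (1201, 4, 1395), (1201, 7, 1014), (1239, 4, 1394), (1239, 7, 1041), (1199, 3, 1392), (1199, 5, 1013), (1199, 7, 1051), (869, 6, 703), (217, 6, 274), (217, 8, 1361), (218, 2, 275), (1186, 2, 1374), (1186, 5, 1003), (1186, 7, 1071), (844, 7, 1009), (884, 6, 714), (884, 8, 1070), (566, 2, 445), (342, 6, 436), (342, 8, 995), (344, 2, 438), (344, 8, 998), (346, 1, 440), (346, 3, 441), (550, 6, 689),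 (550, 8, 1347), (551, 2, 690), (551, 8, 993), (1165, 4, 1348), (553, 1, 693), (553, 3, 694), (553, 8, 691), (829, 7, 990), (556, 3, 699), (557, 4, 700), (198, 1, 248), (198, 8, 768), (944, 4, 767), (944, 7, 773), (612, 2, 481), (843, 7, 1008), (234, 1, 296), (548, 4, 681), (609, 5, 769), (349, 4, 446), (351, 8, 1352), (620, 4, 716), (620, 6, 775), (568, 3, 710), (568, 6, 705), (568, 8, 1474), (1273, 7, 1358), (679, 2, 831), (679, 8, 539), (683, 1, 837), (1004, 2, 1174), (1004, 5, 836), (1004, 7, 887), (688, 7, 840), (719, 6, 569), (719, 8, 886), (426, 6, 541), (429, 2, 544), (429, 8, 833), (677, 2, 828), (677, 8, 830), (989, 4, 1166), (680, 1, 832), (448, 8, 1169), (781, 4, 883), (246, 2, 311), (246, 8, 2433), (2179, 4, 1997), (247, 1, 312), (247, 8, 946), (1133, 4, 1237), (1133, 7, 953), (1395, 3, 1577), (1395, 5, 1238), (1395, 7, 1200), (1394, 3, 1578),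 (1041, 6, 862), (1392, 2, 1562), (1392, 5, 1198), (1392, 7, 1251), (1013, 7, 1191), (1051, 6, 868), (1051, 8, 1262), (703, 2, 559), (274, 2, 347), (274, 8, 1543), (275, 1, 348), (1374, 1, 1538), (1374, 5, 1184), (1374, 6, 1564), (1374, 7, 1272), (1003, 4, 835), (1003, 7, 1180), (1071, 6, 882), (714, 2, 567), (436, 2, 552), (438, 1, 554), (438, 3, 555), (438, 8, 1179), (441, 4, 560), (689, 2, 846), (689, 8, 1525), (1347, 4, 1524), (690, 1, 847), (690, 3, 848), (690, 8, 1172), (993, 4, 1173), (993, 7, 1168), (1348, 5, 1526), (693, 3, 853), (694, 4, 854), (694, 8, 850), (699, 4, 863), (700, 5, 864), (700, 8, 2499), (446, 3, 563), (446, 8, 1529), (716, 3, 876), (716, 6, 870), (710, 6, 859), (710, 8, 1647), (705, 8, 1668), (1174, 5, 994), (1174, 6, 1349), (836, 4, 682), (836, 7, 999), (887, 6, 717), (544, 8, 991), (311, 1, 394), (311, 3, 395), (311, 8, 2691), (2433,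 4, 2242), (2433, 7, 2692), (1997, 3, 1777), (1997, 5, 1776), (946, 4, 1042), (1237, 3, 1443), (1237, 5, 1040), (1237, 7, 1050), (1577, 2, 1761), (1577, 5, 1444), (1577, 7, 1393), (1578, 2, 1774), (1562, 1, 1727), (1562, 5, 1373), (1562, 6, 1762), (1562, 7, 1451), (1198, 4, 1049), (1198, 7, 1381), (1251, 8, 1060), (1191, 8, 1059), (868, 2, 704), (868, 8, 1467), (347, 1, 442), (347, 3, 443), (347, 8, 1366), (1543, 7, 1734), (1538, 5, 1356), (1538, 6, 1729), (1184, 4, 1002), (1184, 6, 1375), (1184, 7, 1365), (1564, 7, 1765), (1272, 6, 1468), (567, 3, 709), (552, 3, 692), (554, 3, 696), (554, 8, 1351), (555, 4, 697), (555, 8, 1028), (560, 8, 1715), (846, 1, 1016), (846, 3, 1017), (846, 8, 1357), (1525, 4, 1709), (1525, 7, 1710), (1524, 3, 1707), (1524, 5, 1708), (847, 3, 1019), (848, 4, 1020), (848, 8, 1023), (853, 4, 1029), (854, 5, 1030), (854, 8, 2257), (850,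 4, 1024), (863, 8, 2243), (864, 8, 2683), (2499, 7, 2757), (563, 8, 1714), (876, 6, 1036), (859, 2, 1025), (859, 8, 1853), (1647, 4, 1775), (1668, 7, 1881), (394, 3, 504), (394, 8, 2856), (395, 8, 2855)]

def chunk2 : List (ℕ × ℕ × ℕ) := [(2691, 4, 2497), (2691, 7, 2942), (2242, 3, 1999), (2242, 5, 1998), (2242, 7, 2498), (1777, 2, 1582), (1777, 5, 1580), (1042, 3, 1219), (1443, 2, 1614), (1443, 5, 1236), (1443, 7, 1250), (1050, 8, 1263), (1761, 1, 1939), (1761, 5, 1634), (1761, 6, 1985), (1761, 7, 1579), (1774, 1, 1995), (1774, 6, 1986), (1727, 5, 1537), (1727, 6, 1940), (1373, 4, 1226), (1373, 6, 1563), (1373, 7, 1549), (1762, 7, 1987), (1451, 6, 1636), (1049, 8, 1264), (1381, 8, 874), (704, 3, 858), (704, 8, 1550), (1467, 7, 1667), (442, 3, 562), (442, 8, 1530), (443, 8, 1218), (1366, 7, 1551), (1356, 6, 1539), (1729, 2, 1914), (1729, 7, 1943), (1002, 3,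 857), (1002, 6, 1185), (1375, 7, 1565), (1765, 6, 1669), (1765, 8, 3004), (692, 4, 851), (696, 8, 1205), (697, 8, 1921), (1028, 4, 1217), (1715, 7, 1922), (1016, 3, 1202), (1017, 4, 1203), (1017, 8, 1212), (1357, 7, 1540), (1709, 3, 1913), (1709, 7, 1915), (1707, 5, 1912), (1019, 4, 1206), (1020, 5, 1207), (1020, 8, 2037), (1023, 4, 1211), (1029, 8, 2010), (1030, 8, 2426), (2257, 4, 2038), (2257, 7, 2512), (1024, 5, 1213), (2243, 7, 2500), (2683, 7, 2936), (2757, 6, 3006), (1714, 4, 1587), (1036, 2, 1227), (1025, 8, 2040), (1853, 4, 1988), (1853, 7, 2085), (504, 2, 636), (504, 8, 2608), (2856, 7, 3086), (2855, 4, 2624), (2855, 7, 3085), (2497, 3, 2255), (2497, 7, 2755), (2942, 6, 3163), (1999, 2, 1788), (1999, 5, 1778), (1999, 7, 2245), (1998, 7, 2244), (2498, 8, 1469), (1582, 1, 1398), (1582, 5, 1397), (1582, 6, 1403), (1580, 4, 1396), (1219, 2, 1421), (1614,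 1, 1786), (1614, 5, 1420), (1614, 6, 1826), (1614, 7, 1434), (1250, 8, 1061), (1939, 5, 1806), (1939, 6, 2174), (1634, 6, 1827), (1985, 7, 2232), (1579, 6, 1763), (1995, 6, 2233), (1986, 7, 2234), (1537, 4, 1410), (1537, 6, 1728), (1940, 2, 2175), (1940, 7, 2176), (1226, 3, 1034), (1226, 6, 1435), (1226, 8, 1436), (1563, 7, 1764), (1549, 6, 1743), (1987, 6, 1854), (1987, 8, 2769), (1264, 7, 1470), (874, 4, 708), (1550, 7, 1744), (562, 8, 1402), (1530, 7, 1716), (1218, 4, 1422), (1218, 7, 1423), (1551, 6, 1376), (1539, 7, 1730), (1914, 3, 2138), (1914, 7, 2141), (1943, 8, 3160), (857, 6, 1035), (1565, 8, 2758), (851, 8, 2148), (1205, 4, 1401), (1921, 4, 1787), (1921, 7, 2149), (1212, 4, 1412), (1212, 7, 1413), (1913, 2, 2139), (1913, 7, 2140), (1915, 8, 3217), (1912, 4, 2125), (2037, 4, 1807), (2037, 7, 2291), (1211, 5, 1411), (2010, 7, 2258), (2426, 7, 2684),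 (2038, 5, 1808), (2038, 7, 2292), (2512, 6, 2772), (2040, 4, 2177), (2040, 7, 2294), (1988, 7, 2236), (636, 6, 792), (636, 8, 2364), (2608, 4, 2378), (2608, 7, 2857), (3086, 6, 3271), (2624, 3, 2428), (2624, 5, 2380), (2624, 7, 2873), (3085, 6, 3270), (2255, 2, 2009), (2255, 7, 2510), (1788, 1, 1616), (1788, 5, 1589), (1788, 6, 1588), (1788, 7, 2012), (1778, 4, 1581), (1778, 7, 2000), (2245, 8, 1265), (1396, 8, 875), (1786, 7, 1601), (1420, 6, 1615), (1826, 7, 2059), (1434, 6, 1635), (1434, 8, 1228), (2174, 7, 2427), (1827, 7, 2060), (2232, 6, 1989), (2232, 8, 2041), (2233, 7, 2492), (2234, 8, 2548), (1410, 6, 1602), (1410, 8, 1603), (1728, 2, 1941), (1728, 7, 1942), (2175, 7, 2429), (2176, 8, 2937), (1435, 7, 1637), (1436, 7, 1638), (1764, 6, 1960), (1764, 8, 2513), (2769, 4, 2939), (1402, 7, 1590), (1422, 7, 1617), (1423, 6, 1229), (2138, 7, 2379), (2141,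 8, 3283), (2148, 7, 2389), (1787, 7, 2011), (1412, 7, 1604), (2139, 7, 2381), (2140, 8, 3280), (1807, 7, 2039), (2177, 7, 2431), (2294, 6, 2551), (792, 7, 637), (2364, 7, 2609), (2378, 7, 2625), (2857, 6, 3087), (3271, 2, 3400), (2428, 7, 2686), (2380, 7, 2627), (2873, 6, 3100), (2873, 8, 2628), (3270, 2, 3399), (2009, 7, 2256), (1616, 7, 1829), (1589, 7, 1789), (2012, 6, 1810), (2012, 8, 1437), (1581, 7, 1779), (1265, 4, 1062), (1615, 7, 1828), (2059, 6, 1852), (2059, 8, 1809), (1989, 8, 2295), (2041, 4, 2178), (2492, 8, 2637), (2429, 6, 2687), (2429, 8, 2690), (2379, 8, 3103), (2625, 6, 2874), (2625, 8, 2877), (2686, 8, 2432)]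

end Cfsg.Agent.InvChar.Coset.FiUnit
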