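import Cfsg.Agent.InvChar.Coset.FieldFour
import Cfsg.Agent.InvChar.Coset.FiUnitData
import Cfsg.Agent.Lib.Classical.UnitarySimple
import Cfsg.Agent.Lib.Classical.UnitaryGen

/-!
# Packed vectors of the hermitian space of dimension six over the field with four elements
-/

set_option autoImplicit false
set_option linter.all false

noncomputable section

namespace Cfsg.Agent.InvChar.Coset.FiUnit

open Cfsg.Agent.CosetCert Cfsg.Agent.Classical.Unitary Matrix

abbrev V : Type := Fin 6 → FF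

abbrev SU6 : Type := Cfsg.SU 6 FF 2

theorem hF : Fintype.card FF = 2 ^ 2 := FF.card

def digit (n j : ℕ) : ℕ := Nat.land (Nat.shiftRight n (Nat.mul 2 j)) 3

def pack (a0 a1 a2 a3 a4 a5 : ℕ) : ℕ := a0 + 4 * (a1 + 4 * (a2 + 4 * (a3 + 4 * (a4 + 4 * a5))))

theorem digit_eq (n j : ℕ) : digit n j = n / 4 ^ j % 4 := by
  show (n >>> (2 * j)) &&& 3 = _
  rw [show (3 : ℕ) = 2 ^ 2 - 1 from rfl, Nat.and_two_pow_sub_one_eq_mod, Nat.shiftRight_eq_div_pow, pow_mul]
  norm_num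

theorem digit_lt (n j : ℕ) : digit n j < 4 := by
  rw [digit_eq]
  omega

theorem digit_pack {a0 a1 a2 a3 a4 a5 : ℕ} (h0 : a0 < 4) (h1 : a1 < 4) (h2 : a2 < 4) (h3 : a3 < 4) (h4 : a4 < 4)
    (h5 : a5 < 4) (i : Fin 6) : digit (pack a0 a1 a2 a3 a4 a5) i = ![a0, a1, a2, a3, a4, a5] i := by
  rw [digit_eq]
  fin_cases i <;> simp [pack] <;> omega

/-- The product of two packed field elements. -/
def mt (a b : ℕ) : ℕ := Nat.land (Nat.shiftRight 0x9c78e400 (Nat.mul 2 (Nat.add (Nat.mul 4 a) b))) 3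

theorem mt_spec : ∀ a < 4, ∀ b < 4, mt a b < 4 ∧ FF.ofBits (mt a b) = FF.ofBits a * FF.ofBits b := by decide +kernel

theorem xor_spec : ∀ a < 4, ∀ b < 4, Nat.xor a b < 4 ∧ FF.ofBits (Nat.xor a b) = FF.ofBits a + FF.ofBits b := by
  decide +kernel

def sq (a : ℕ) : ℕ := mt a a

def vec (n : ℕ) : V := fun i => FF.ofBits (digit n i)

def scale (k n : ℕ) : ℕ :=
  pack (mt k (digit n 0)) (mt k (digit n 1)) (mt k (digit n 2)) (mt k (digit n 3)) (mt k (digit n 4)) (mt k (digit n 5))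

theorem vec_scale {k : ℕ} (hk : k < 4) (n : ℕ) : vec (scale k n) = FF.ofBits k • vec n := by
  funext i
  have h := fun j => (mt_spec k hk _ (digit_lt n j)).1
  rw [vec, scale, digit_pack (h 0) (h 1) (h 2) (h 3) (h 4) (h 5), Pi.smul_apply, smul_eq_mul, vec,
    ← (mt_spec k hk _ (digit_lt n i)).2]
  fin_cases i <;> rfl

def hterm (x v j : ℕ) : ℕ := mt (digit x j) (sq (digit v j))

/-- The hermitian product. -/
def hb (x v : ℕ) : ℕ :=
  Nat.xor (hterm x v 0) (Nat.xor (hterm x v 1) (Nat.xor (hterm x v 2)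
    (Nat.xor (hterm x v 3) (Nat.xor (hterm x v 4) (hterm x v 5)))))

theorem hterm_spec (x v : ℕ) (j : ℕ) : hterm x v j < 4 ∧
    FF.ofBits (hterm x v j) = FF.ofBits (digit x j) * FF.ofBits (digit v j) ^ 2 := by
  obtain ⟨h1, h2⟩ := mt_spec _ (digit_lt v j) _ (digit_lt v j)
  obtain ⟨h3, h4⟩ := mt_spec _ (digit_lt x j) _ h1
  refine ⟨h3, ?_⟩
  rw [hterm, sq, h4, h2, pow_two]

theorem hb_spec (x v : ℕ) : hb x v < 4 ∧ FF.ofBits (hb x v) = Cfsg.hermForm 6 FF 2 (vec x) (vec v) := by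
  obtain ⟨a0, b0⟩ := hterm_spec x v 0
  obtain ⟨a1, b1⟩ := hterm_spec x v 1
  obtain ⟨a2, b2⟩ := hterm_spec x v 2
  obtain ⟨a3, b3⟩ := hterm_spec x v 3
  obtain ⟨a4, b4⟩ := hterm_spec x v 4
  obtain ⟨a5, b5⟩ := hterm_spec x v 5
  obtain ⟨c4, d4⟩ := xor_spec _ a4 _ a5
  obtain ⟨c3, d3⟩ := xor_spec _ a3 _ c4
  obtain ⟨c2, d2⟩ := xor_spec _ a2 _ c3
  obtain ⟨c1, d1⟩ := xor_spec _ a1 _ c2
  obtain ⟨c0, d0⟩ := xor_spec _ a0 _ c1
  refine ⟨c0, ?_⟩
  rw [hb, d0, d1, d2, d3, d4, b0, b1, b2, b3, b4, b5]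
  simp only [Cfsg.hermForm, Fin.sum_univ_six, vec, Fin.val_zero, Fin.val_one, Fin.val_two]
  simp only [add_assoc]
  rfl

def tpart (h v x j : ℕ) : ℕ := Nat.xor (digit x j) (mt h (digit v j))

/-- The image under the transvection. -/
def app (v x : ℕ) : ℕ :=
  pack (tpart (hb x v) v x 0) (tpart (hb x v) v x 1) (tpart (hb x v) v x 2) (tpart (hb x v) v x 3)
    (tpart (hb x v) v x 4) (tpart (hb x v) v x 5)

theorem vec_app (v x : ℕ) : vec (app v x) = vec x + Cfsg.hermForm 6 FF 2 (vec x) (vec v) • vec v := by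
  funext i
  obtain ⟨hh, he⟩ := hb_spec x v
  have h := fun j => mt_spec _ hh _ (digit_lt v j)
  have h' := fun j => xor_spec _ (digit_lt x j) _ (h j).1
  simp only [vec, app, tpart]
  rw [digit_pack (h' 0).1 (h' 1).1 (h' 2).1 (h' 3).1 (h' 4).1 (h' 5).1, Pi.add_apply, Pi.smul_apply,
    smul_eq_mul, ← he]
  have := (h' i).2
  rw [(h i).2] at this
  show _ = FF.ofBits (digit x i) + FF.ofBits (hb x v) * FF.ofBits (digit v i)
  rw [← this]
  fin_cases i <;> rfl

theorem one_trace : (1 : FF) + 1 ^ 2 = 0 := by decide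

open Classical in
/-- The transvection at a packed vector. -/
def tvOf (v : ℕ) : SU6 := if h : Cfsg.hermForm 6 FF 2 (vec v) (vec v) = 0 then tvu hF h one_trace else 1

theorem iso_of {v : ℕ} (h : Nat.beq (hb v v) 0 = true) : Cfsg.hermForm 6 FF 2 (vec v) (vec v) = 0 := by
  rw [← (hb_spec v v).2, Nat.eq_of_beq_eq_true h]
  rfl

theorem tvOf_mulVec {v : ℕ} (h : Cfsg.hermForm 6 FF 2 (vec v) (vec v) = 0) (x : V) :
    mat (tvOf v) *ᵥ x = x + Cfsg.hermForm 6 FF 2 x (vec v) • vec v := by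
  rw [tvOf, dif_pos h, tvu_mulVec, one_mul]

theorem tvOf_vec {v : ℕ} (h : Cfsg.hermForm 6 FF 2 (vec v) (vec v) = 0) (x : ℕ) :
    mat (tvOf v) *ᵥ vec x = vec (app v x) := by
  rw [vec_app, tvOf_mulVec h]

theorem cube : ∀ s : FF, s ≠ 0 → s * s ^ 2 = 1 := by decide

/-- Transvections are carried to transvections. -/
theorem tvOf_conj {v w : ℕ} (hv : Cfsg.hermForm 6 FF 2 (vec v) (vec v) = 0)
    (hw : Cfsg.hermForm 6 FF 2 (vec w) (vec w) = 0) (M : SU6) {s : FF} (hs : s ≠ 0)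
    (h : mat M *ᵥ vec v = s • vec w) : M * tvOf v = tvOf w * M := by
  refine SU_ext fun x => ?_
  rw [mul_mulVec, mul_mulVec, tvOf_mulVec hv, tvOf_mulVec hw, Matrix.mulVec_add, Matrix.mulVec_smul, h, smul_smul]
  congr 2
  rw [← SU_H M x (vec v), h, H_smul_right]
  linear_combination Cfsg.hermForm 6 FF 2 (mat M *ᵥ x) (vec w) * cube s hs

/-- The product of the transvections at the listed vectors, the first one acting first. -/
def mOf : List ℕ → SU6
  | [] => 1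
  | v :: l => mOf l * tvOf v

def appAll : List ℕ → ℕ → ℕ
  | [], x => x
  | v :: l, x => appAll l (app v x)

theorem mOf_vec : ∀ {l : List ℕ}, (∀ v ∈ l, Nat.beq (hb v v) 0 = true) → ∀ x : ℕ,
    mat (mOf l) *ᵥ vec x = vec (appAll l x)
  | [], _, x => by rw [mOf, mat_one, Matrix.one_mulVec, appAll]
  | v :: l, hl, x => by
    rw [mOf, mul_mulVec, tvOf_vec (iso_of (hl v List.mem_cons_self)),
      mOf_vec (fun w hw => hl w (List.mem_cons_of_mem _ hw)), appAll]

/-- The nonzero scalar multiples. -/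
def isMult (a b : ℕ) : Bool := Nat.beq a b || Nat.beq a (scale 2 b) || Nat.beq a (scale 3 b)

theorem isMult_spec {a b : ℕ} (h : isMult a b = true) : ∃ s : FF, s ≠ 0 ∧ vec a = s • vec b := by
  simp only [isMult, Bool.or_eq_true] at h
  rcases h with (h | h) | h <;> rw [Nat.eq_of_beq_eq_true h]
  · exact ⟨1, one_ne_zero, (one_smul _ _).symm⟩
  · exact ⟨_, by decide, vec_scale (by norm_num) b⟩
  · exact ⟨_, by decide, vec_scale (by norm_num) b⟩

def code : FF → ℕ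
  | .zero => 0
  | .one => 1
  | .w => 2
  | .w2 => 3

theorem code_spec : ∀ x : FF, code x < 4 ∧ FF.ofBits (code x) = x := by decide

theorem exists_vec (v : V) : ∃ x < 4096, vec x = v := by
  have h := fun i => (code_spec (v i)).1
  refine ⟨pack (code (v 0)) (code (v 1)) (code (v 2)) (code (v 3)) (code (v 4)) (code (v 5)), ?_, funext fun i => ?_⟩
  · have := h 0; have := h 1; have := h 2; have := h 3; have := h 4; have := h 5
    simp only [pack]
    omega
  · rw [vec, digit_pack (h 0) (h 1) (h 2) (h 3) (h 4) (h 5)]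
    fin_cases i <;> exact (code_spec _).2

end Cfsg.Agent.InvChar.Coset.FiUnit
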