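import Cfsg.Agent.Lib.CosetCert.Cox

/-!
# Certificates for the automorphisms of a group with a faithful table

Elements are given by words and compared on a base of the action.  A level of the search lists candidates for the image
of one more generator, the relations they have to satisfy, and for each candidate passing them an element which fixes
the earlier images and carries the chosen representative to the candidate.
-/

set_option autoImplicit false
set_option linter.all false

noncomputable section

namespace Cfsg.Agent.InvChar.Coset.AutCert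

open Cfsg.Agent.CosetCert

/-- A check for all numbers below a bound. -/
def scan (f : ℕ → Bool) : ℕ → Bool
  | 0 => true
  | n + 1 => f n && scan f n

theorem scan_spec {f : ℕ → Bool} : ∀ n, scan f n = true → ∀ i < n, f i = true
  | 0, _, i, hi => absurd hi (by omega)
  | n + 1, h, i, hi => by
    simp only [scan, Bool.and_eq_true] at h
    rcases Nat.lt_succ_iff_lt_or_eq.mp hi with e | rfl
    · exact scan_spec n h.2 i e
    · exact h.1

def allB {α : Type} (f : α → Bool) : List α → Bool
  | [] => true
  | a :: l => f a && allB f l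

theorem allB_iff {α : Type} {f : α → Bool} : ∀ {l : List α}, allB f l = true ↔ ∀ a ∈ l, f a = true
  | [] => by simp [allB]
  | a :: l => by simp [allB, allB_iff (l := l)]

/-- Unpack a word. -/
def decode : ℕ → ℕ → List ℕ
  | 0, _ => []
  | f + 1, c => cond (Nat.beq c 0) [] (Nat.sub (Nat.land c 15) 1 :: decode f (Nat.shiftRight c 4))

def unpack (l : List ℕ) : List (List ℕ) := l.map (decode 1000)

/-- The entry of a list of lists of words. -/
def getRep : List (List (List ℕ)) → ℕ → List (List ℕ)
  | [], _ => []
  | a :: _, 0 => a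
  | _ :: l, i + 1 => getRep l i

theorem getRep_mem : ∀ {l : List (List (List ℕ))} {i : ℕ}, i < l.length → getRep l i ∈ l
  | [], i, h => absurd h (by simp)
  | a :: l, 0, _ => List.mem_cons_self
  | a :: l, i + 1, h => List.mem_cons_of_mem _ (getRep_mem (l := l) (by simpa using h))

theorem getWord_cons_succ (a : List ℕ) (l : List (List ℕ)) (i : ℕ) : getWord (a :: l) (i + 1) = getWord l i := rfl

theorem getWord_cons_zero (a : List ℕ) (l : List (List ℕ)) : getWord (a :: l) 0 = a := rfl

theorem getWord_mem_lt : ∀ {l : List (List ℕ)} {i : ℕ}, i < l.length → getWord l i ∈ l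
  | [], i, h => absurd h (by simp)
  | a :: l, 0, _ => by rw [getWord_cons_zero]; exact List.mem_cons_self
  | a :: l, i + 1, h => by
    rw [getWord_cons_succ]
    exact List.mem_cons_of_mem _ (getWord_mem_lt (l := l) (by simpa using h))

theorem exists_getWord : ∀ {l : List (List ℕ)} {w : List ℕ}, w ∈ l → ∃ i < l.length, getWord l i = w
  | [], w, h => by simp at h
  | a :: l, w, h => by
    rcases List.mem_cons.mp h with rfl | h
    · exact ⟨0, by simp, rfl⟩
    · obtain ⟨i, hi, e⟩ := exists_getWord h
      exact ⟨i + 1, by simpa using hi, by rw [getWord_cons_succ, e]⟩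

theorem getWord_append_lt : ∀ {l m : List (List ℕ)} {i : ℕ}, i < l.length → getWord (l ++ m) i = getWord l i
  | [], m, i, h => absurd h (by simp)
  | a :: l, m, 0, _ => rfl
  | a :: l, m, i + 1, h => by
    rw [List.cons_append, getWord_cons_succ, getWord_cons_succ]
    exact getWord_append_lt (by simpa using h)

theorem getWord_append_last : ∀ (l : List (List ℕ)) (x : List ℕ), getWord (l ++ [x]) l.length = x
  | [], x => rfl
  | a :: l, x => by
    rw [List.cons_append, List.length_cons, getWord_cons_succ]
    exact getWord_append_last l x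

/-- The initial segment of a list of words is another list. -/
def prefixB : List (List ℕ) → List (List ℕ) → Bool
  | [], _ => true
  | _ :: _, [] => false
  | a :: l, b :: m => beqList a b && prefixB l m

theorem beqList_eq : ∀ {l m : List ℕ}, beqList l m = true → l = m
  | [], [], _ => rfl
  | [], b :: m, h => by rw [beqList_nil_cons] at h; simp at h
  | a :: l, [], h => by rw [beqList_cons_nil] at h; simp at h
  | a :: l, b :: m, h => by
    rw [beqList_cons, Bool.and_eq_true] at h
    rw [Nat.eq_of_beq_eq_true h.1, beqList_eq h.2]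

theorem prefixB_spec : ∀ {l m : List (List ℕ)}, prefixB l m = true → ∀ i < l.length, getWord m i = getWord l i
  | [], m, _, i, hi => absurd hi (by simp)
  | a :: l, [], h, _, _ => by simp [prefixB] at h
  | a :: l, b :: m, h, 0, _ => by
    simp only [prefixB, Bool.and_eq_true] at h
    rw [getWord_cons_zero, getWord_cons_zero, beqList_eq h.1]
  | a :: l, b :: m, h, i + 1, hi => by
    simp only [prefixB, Bool.and_eq_true] at h
    rw [getWord_cons_succ, getWord_cons_succ]
    exact prefixB_spec h.2 i (by simpa using hi)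

def conjW (t x : List ℕ) : List ℕ := t.reverse ++ x ++ t

def subW (gens : List (List ℕ)) (w : List ℕ) : List ℕ := w.flatMap (getWord gens)

def fixW (D : Table) (B : List ℕ) (w : List ℕ) : Bool :=
  lettersOK D.C.K w && allB (fun b => Nat.beq (D.run w b) b) B

def movW (D : Table) (B : List ℕ) (w : List ℕ) : Bool :=
  lettersOK D.C.K w && !(allB (fun b => Nat.beq (D.run w b) b) B)

def eqW (D : Table) (B : List ℕ) (u w : List ℕ) : Bool :=
  lettersOK D.C.K u && (lettersOK D.C.K w && allB (fun b => Nat.beq (D.run u b) (D.run w b)) B)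

def code (D : Table) (w : List ℕ) : List ℕ → ℕ
  | [] => 0
  | b :: l => Nat.add (D.run w b) (Nat.mul 4096 (code D w l))

def ascOK : List ℕ → Bool
  | [] => true
  | [_] => true
  | a :: b :: l => Nat.blt a b && ascOK (b :: l)

theorem ascOK_spec : ∀ {l : List ℕ}, ascOK l = true → l.Pairwise (· < ·)
  | [], _ => List.Pairwise.nil
  | [a], _ => List.pairwise_singleton _ _
  | a :: b :: l, h => by
    simp only [ascOK, Bool.and_eq_true, Nat.blt_eq] at h
    have h' := ascOK_spec h.2
    refine List.pairwise_cons.mpr ⟨fun x hx => ?_, h'⟩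
    rcases List.mem_cons.mp hx with rfl | hx
    · exact h.1
    · exact h.1.trans ((List.pairwise_cons.mp h').1 x hx)

/-- The words in a range are conjugates of `x` in increasing order. -/
def orbitRange (D : Table) (B : List ℕ) (x : List ℕ) (f : ℕ → List ℕ) (a m : ℕ) : Bool :=
  scan (fun i => lettersOK D.C.K (conjW (f (a + i)) x) &&
    (lettersOK D.C.K (conjW (f (a + i + 1)) x) &&
      Nat.blt (code D (conjW (f (a + i)) x) B) (code D (conjW (f (a + i + 1)) x) B))) m

/-- The list is closed under conjugation by the generators. -/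
def closedConj (D : Table) (B : List ℕ) (gens : List (List ℕ)) (f : ℕ → List ℕ) (n : ℕ) (idx : Tree) (a m : ℕ) : Bool :=
  scan (fun i => scan (fun k =>
    let j := idx.get (Nat.add (Nat.mul k n) (Nat.add a i))
    Nat.blt j n && eqW D B (conjW (getWord gens k) (f (Nat.add a i))) (f j)) gens.length) m

/-- The list is closed under multiplication by the generators. -/
def closedMul (D : Table) (B : List ℕ) (gens : List (List ℕ)) (f : ℕ → List ℕ) (n : ℕ) (idx : Tree) (a m : ℕ) : Bool :=
  scan (fun i => scan (fun k =>
    let j := idx.get (Nat.add (Nat.mul k n) (Nat.add a i))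
    Nat.blt j n && eqW D B (f (Nat.add a i) ++ getWord gens k) (f j)) gens.length) m

def fixBelow (D : Table) (w : List ℕ) : List ℕ → Bool
  | [] => true
  | b :: l => Nat.beq (D.run w b) b && fixBelow D w l

theorem fixBelow_spec (D : Table) (w : List ℕ) : ∀ {l : List ℕ}, fixBelow D w l = true → ∀ b ∈ l, D.run w b = b
  | [], _, b, hb => by simp at hb
  | a :: l, h, b, hb => by
    simp only [fixBelow, Bool.and_eq_true] at h
    rcases List.mem_cons.mp hb with rfl | hb
    · exact Nat.eq_of_beq_eq_true h.1
    · exact fixBelow_spec D w h.2 b hb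

/-- Transporters of a chain of point stabilisers. -/
def chainOK (D : Table) : List (ℕ × List (List ℕ)) → List ℕ → Bool
  | [], _ => true
  | (b, ws) :: l, P => Nat.blt b D.n && (ascOK (ws.map fun w => D.run w b) &&
      (allB (fun w => lettersOK D.C.K w && fixBelow D w P) ws && chainOK D l (P ++ [b])))

def chainProd : List (ℕ × List (List ℕ)) → ℕ
  | [] => 1
  | (_, ws) :: l => ws.length * chainProd l

/-- A level of the search. -/
structure Level where
  cands : List (List ℕ)
  rels : List (List ℕ)
  nons : List (List ℕ)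
  next : List (List (List ℕ))
  moves : Tree

def valid (D : Table) (B : List ℕ) (L : Level) (P : List (List ℕ)) : Bool :=
  allB (fun r => fixW D B (subW P r)) L.rels && allB (fun r => movW D B (subW P r)) L.nons

def moveOK (D : Table) (B : List ℕ) (L : Level) (P : List (List ℕ)) (c : List ℕ) (v : ℕ) : Bool :=
  let j := Nat.land v 63
  let t := decode 1000 (Nat.shiftRight v 6)
  let Q := getRep L.next j
  Nat.blt j L.next.length && (lettersOK D.C.K t && (prefixB P Q && (Nat.beq Q.length (Nat.succ P.length) &&
    (allB (fun p => eqW D B (conjW t p) p) P && eqW D B (conjW t (getWord Q P.length)) c))))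

def scanCands (D : Table) (B : List ℕ) (L : Level) (P : List (List ℕ)) : List (List ℕ) → ℕ → Bool
  | [], _ => true
  | c :: l, i => cond (valid D B L (P ++ [c])) (moveOK D B L P c (L.moves.get i)) true &&
      scanCands D B L P l (Nat.succ i)

def scanReps (D : Table) (B : List ℕ) (L : Level) : List (List (List ℕ)) → ℕ → Bool
  | [], _ => true
  | P :: l, i => scanCands D B L P L.cands i && scanReps D B L l (Nat.add i L.cands.length)

/-! ### Specifications -/

section Spec

variable {D : Table} {B : List ℕ} (hD : Checked D) {G : Type} [Group G] (gen : ℕ → G)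
  (φ : G →* Equiv.Perm (Fin D.n)) (hφ : ∀ x, φ (gen x) = tau hD x)
include hφ

/-- The action of an element given by a word. -/
theorem phi_el {w : List ℕ} (hw : lettersOK D.C.K w = true) (c : Fin D.n) :
    (φ (wprod gen w) c : ℕ) = D.run w c := by
  rw [map_wprod, funext hφ, wprod_tau hD w (lettersOK_spec hw)]

variable (hsq : ∀ x, gen x * gen x = 1) (hBn : ∀ b ∈ B, b < D.n)
  (hB : ∀ g : G, (∀ b ∈ B, ∀ hb : b < D.n, φ g ⟨b, hb⟩ = ⟨b, hb⟩) → g = 1)
include hsq hBn hB

omit hφ hBn hB in
theorem el_reverse (w : List ℕ) : wprod gen w.reverse = (wprod gen w)⁻¹ := by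
  induction w with
  | nil => exact inv_one.symm
  | cons y w ih =>
    simp only [List.reverse_cons, wprod_append, ih, wprod, one_mul, mul_inv_rev, inv_eq_of_mul_eq_one_right (hsq y)]

omit hφ hBn hB in
theorem el_conjW (t x : List ℕ) :
    wprod gen (conjW t x) = wprod gen t * wprod gen x * (wprod gen t)⁻¹ := by
  rw [conjW, wprod_append, wprod_append, el_reverse gen hsq, mul_assoc]

omit hφ hsq hBn hB in
theorem el_subW (gens : List (List ℕ)) : ∀ w : List ℕ,
    wprod gen (subW gens w) = wprod (fun i => wprod gen (getWord gens i)) w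
  | [] => rfl
  | y :: w => by
    show wprod gen (getWord gens y ++ subW gens w) = _
    rw [wprod_append, el_subW gens w]
    rfl

omit hφ hsq hBn hB in
theorem el_subW_mem (gens : List (List ℕ)) (K : Subgroup G) (hK : ∀ k < gens.length, wprod gen (getWord gens k) ∈ K)
    (w : List ℕ) : wprod gen (subW gens w) ∈ K := by
  rw [el_subW gen]
  induction w with
  | nil => exact one_mem K
  | cons y w ih =>
    rw [wprod]
    refine mul_mem ih ?_
    by_cases hy : y < gens.length
    · exact hK y hy
    · have : getWord gens y = [] := by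
        clear ih hK
        induction gens generalizing y with
        | nil => rfl
        | cons a l ihl =>
          obtain ⟨y, rfl⟩ : ∃ z, y = z + 1 := ⟨y - 1, by simp at hy; omega⟩
          rw [getWord_cons_succ]
          exact ihl y (by simpa using hy)
      rw [this]
      exact one_mem K

theorem fixW_spec {w : List ℕ} (h : fixW D B w = true) : wprod gen w = 1 := by
  simp only [fixW, Bool.and_eq_true, allB_iff] at h
  refine hB _ fun b hb hb' => Fin.ext ?_
  rw [phi_el hD gen φ hφ h.1]
  exact Nat.eq_of_beq_eq_true (h.2 b hb)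

omit hsq hB in
theorem movW_spec {w : List ℕ} (h : movW D B w = true) : wprod gen w ≠ 1 := by
  simp only [movW, Bool.and_eq_true, Bool.not_eq_true'] at h
  intro e
  have : allB (fun b => Nat.beq (D.run w b) b) B = true := allB_iff.mpr fun b hb => by
    have := phi_el hD gen φ hφ h.1 ⟨b, hBn b hb⟩
    rw [e, map_one] at this
    rw [← this]
    exact Nat.beq_refl b
  rw [this] at h
  simp at h

theorem eqW_spec {u w : List ℕ} (h : eqW D B u w = true) : wprod gen u = wprod gen w := by
  simp only [eqW, Bool.and_eq_true, allB_iff] at h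
  obtain ⟨h1, h2, h3⟩ := h
  refine inv_mul_eq_one.mp (hB _ fun b hb hb' => ?_)
  rw [map_mul, Equiv.Perm.mul_apply, map_inv, Equiv.Perm.inv_eq_iff_eq]
  refine Fin.ext ?_
  rw [phi_el hD gen φ hφ h1, phi_el hD gen φ hφ h2]
  exact (Nat.eq_of_beq_eq_true (h3 b hb)).symm

omit hsq hB in
theorem code_eq {u w : List ℕ} (hu : lettersOK D.C.K u = true) (hw : lettersOK D.C.K w = true)
    (e : wprod gen u = wprod gen w) : code D u B = code D w B := by
  have : ∀ b ∈ B, D.run u b = D.run w b := fun b hb => by
    rw [← phi_el hD gen φ hφ hu ⟨b, hBn b hb⟩, e, phi_el hD gen φ hφ hw ⟨b, hBn b hb⟩]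
  clear hBn
  induction B with
  | nil => rfl
  | cons b l ih =>
    simp only [code]
    rw [this b List.mem_cons_self, ih fun c hc => this c (List.mem_cons_of_mem _ hc)]

/-- Distinct conjugates bound the centraliser. -/
theorem orbit_mul_le [Finite G] {x : List ℕ} {f : ℕ → List ℕ} {n : ℕ}
    (h : ∀ i, i + 1 < n → orbitRange D B x f i 1 = true) (K : Subgroup G)
    (hf : ∀ i < n, wprod gen (f i) ∈ K) (hn : 1 < n) :
    n * Nat.card (K ⊓ Subgroup.centralizer ({wprod gen x} : Set G) : Subgroup G) ≤ Nat.card K := by
  have h' : ∀ i, i + 1 < n → lettersOK D.C.K (conjW (f i) x) = true ∧ lettersOK D.C.K (conjW (f (i + 1)) x) = true ∧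
      code D (conjW (f i) x) B < code D (conjW (f (i + 1)) x) B := fun i hi => by
    simpa [orbitRange, scan, Nat.blt_eq, and_assoc] using h i hi
  have hl : ∀ i < n, lettersOK D.C.K (conjW (f i) x) = true := fun i hi => by
    cases i with
    | zero => exact (h' 0 hn).1
    | succ i => exact (h' i hi).2.1
  have hmono : ∀ i j, i < j → j < n → code D (conjW (f i) x) B < code D (conjW (f j) x) B := by
    intro i j hij
    induction j with
    | zero => omega
    | succ j ih =>
      intro hj
      rcases Nat.lt_succ_iff_lt_or_eq.mp hij with e | rfl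
      · exact (ih e (by omega)).trans (h' j hj).2.2
      · exact (h' i hj).2.2
  rw [← Nat.card_fin n, ← Nat.card_prod]
  refine Nat.card_le_card_of_injective (fun p => (⟨wprod gen (f p.1) * p.2.1,
    mul_mem (hf _ p.1.2) p.2.2.1⟩ : K)) ?_
  rintro ⟨i, a, haK⟩ ⟨j, b, hbK⟩ e
  have e1 : wprod gen (f i) * a = wprod gen (f j) * b := congrArg Subtype.val e
  have hc : ∀ (k : Fin n) (c : G), c ∈ Subgroup.centralizer ({wprod gen x} : Set G) →
      wprod gen (f k) * c * wprod gen x * (wprod gen (f k) * c)⁻¹ = wprod gen (conjW (f k) x) := by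
    intro k c hc
    rw [el_conjW gen hsq, mul_assoc _ c, Subgroup.mem_centralizer_singleton_iff.mp hc]
    group
  have e2 : wprod gen (conjW (f i) x) = wprod gen (conjW (f j) x) := by
    rw [← hc i a haK.2, e1, hc j b hbK.2]
  obtain rfl : i = j := by
    have hcode := code_eq hD gen φ hφ hBn (hl i i.2) (hl j j.2) e2
    refine Fin.ext ?_
    rcases lt_trichotomy (i : ℕ) j with hij | hij | hij
    · exact absurd hcode (hmono i j hij j.2).ne
    · exact hij
    · exact absurd hcode (hmono j i hij i.2).ne'
  obtain rfl : a = b := mul_left_cancel e1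
  rfl

/-- A list closed under conjugation by generators is closed under conjugation by what they generate. -/
theorem closedConj_spec [Finite G] {gens : List (List ℕ)} {f : ℕ → List ℕ} {n : ℕ} {idx : Tree}
    (h : ∀ i < n, closedConj D B gens f n idx i 1 = true) :
    ∀ g ∈ Subgroup.closure {p : G | ∃ k < gens.length, p = wprod gen (getWord gens k)},
      ∀ i < n, ∃ j < n, g * wprod gen (f i) * g⁻¹ = wprod gen (f j) := by
  intro g hg
  rw [← Subgroup.mem_toSubmonoid, Subgroup.closure_toSubmonoid_of_finite] at hg
  induction hg using Submonoid.closure_induction with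
  | mem p hp =>
    obtain ⟨k, hk, rfl⟩ := hp
    intro i hi
    have h1 := scan_spec _ (scan_spec _ (h i hi) 0 Nat.one_pos) k hk
    simp only [Bool.and_eq_true, Nat.blt_eq] at h1
    exact ⟨_, h1.1, by rw [← el_conjW gen hsq]; exact eqW_spec hD gen φ hφ hsq hBn hB h1.2⟩
  | one => exact fun i hi => ⟨i, hi, by group⟩
  | mul a b _ _ ha hb =>
    intro i hi
    obtain ⟨j, hj, ej⟩ := hb i hi
    obtain ⟨k, hk, ek⟩ := ha j hj
    refine ⟨k, hk, ?_⟩
    rw [← ek, ← ej]
    group

/-- A list closed under multiplication by generators contains what they generate. -/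
theorem closedMul_spec [Finite G] {gens : List (List ℕ)} {f : ℕ → List ℕ} {n : ℕ} {idx : Tree}
    (h : ∀ i < n, closedMul D B gens f n idx i 1 = true) (h0 : 0 < n) (h1 : f 0 = []) :
    ∀ g ∈ Subgroup.closure {p : G | ∃ k < gens.length, p = wprod gen (getWord gens k)},
      ∃ j < n, g = wprod gen (f j) := by
  intro g hg
  suffices ∀ i < n, ∃ j < n, g * wprod gen (f i) = wprod gen (f j) by
    obtain ⟨j, hj, e⟩ := this 0 h0
    rw [h1, wprod, mul_one] at e
    exact ⟨j, hj, e⟩
  rw [← Subgroup.mem_toSubmonoid, Subgroup.closure_toSubmonoid_of_finite] at hg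
  induction hg using Submonoid.closure_induction with
  | mem p hp =>
    obtain ⟨k, hk, rfl⟩ := hp
    intro i hi
    have h2 := scan_spec _ (scan_spec _ (h i hi) 0 Nat.one_pos) k hk
    simp only [Bool.and_eq_true, Nat.blt_eq] at h2
    exact ⟨_, h2.1, by rw [← wprod_append]; exact eqW_spec hD gen φ hφ hsq hBn hB h2.2⟩
  | one => exact fun i hi => ⟨i, hi, one_mul _⟩
  | mul a b _ _ ha hb =>
    intro i hi
    obtain ⟨j, hj, ej⟩ := hb i hi
    obtain ⟨k, hk, ek⟩ := ha j hj
    exact ⟨k, hk, by rw [mul_assoc, ej, ek]⟩

/-- One level of the search. -/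
theorem step {L : Level} {R : List (List (List ℕ))} (h : scanReps D B L R 0 = true) {P : List (List ℕ)} (hP : P ∈ R)
    (q : ℕ → G) (g : G) (hq : ∀ k < P.length, q k = g * wprod gen (getWord P k) * g⁻¹)
    (hrel : ∀ r ∈ L.rels, wprod q r = 1) (hnon : ∀ r ∈ L.nons, wprod q r ≠ 1)
    (hlet : ∀ r ∈ L.rels ++ L.nons, ∀ y ∈ r, y ≤ P.length) (hPl : allB (lettersOK D.C.K) P = true)
    (hCl : allB (lettersOK D.C.K) L.cands = true)
    (hc : ∃ c ∈ L.cands, g⁻¹ * q P.length * g = wprod gen c) :
    ∃ Q ∈ L.next, ∃ g' : G, Q.length = P.length + 1 ∧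
      ∀ k < Q.length, q k = g' * wprod gen (getWord Q k) * g'⁻¹ := by
  obtain ⟨c, hcm, hce⟩ := hc
  have hsub : ∀ r : List ℕ, (∀ y ∈ r, y ≤ P.length) →
      wprod gen (subW (P ++ [c]) r) = g⁻¹ * wprod q r * g := by
    intro r hr
    rw [el_subW gen]
    induction r with
    | nil => simp [wprod]
    | cons y r ih =>
      have hy : wprod gen (getWord (P ++ [c]) y) = g⁻¹ * q y * g := by
        rcases Nat.lt_or_eq_of_le (hr y List.mem_cons_self) with hy | hy
        · rw [getWord_append_lt hy, hq y hy]; group
        · rw [hy, getWord_append_last, hce]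
      rw [wprod, wprod, ih fun z hz => hr z (List.mem_cons_of_mem _ hz), hy]
      group
  have hletW : ∀ r : List ℕ, lettersOK D.C.K (subW (P ++ [c]) r) = true := by
    have hz : ∀ {w : List ℕ}, (∀ y ∈ w, y < D.C.K) → lettersOK D.C.K w = true := by
      intro w hw
      induction w with
      | nil => rfl
      | cons y w ih =>
        simp only [lettersOK, Bool.and_eq_true]
        exact ⟨by simpa [Nat.blt] using hw y List.mem_cons_self, ih fun z hz => hw z (List.mem_cons_of_mem _ hz)⟩
    intro r
    refine hz fun y hy => ?_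
    obtain ⟨i, -, hi⟩ := List.mem_flatMap.mp hy
    have : getWord (P ++ [c]) i = [] ∨ getWord (P ++ [c]) i ∈ P ++ [c] := by
      rcases getWord_mem (l := P ++ [c]) (n := i) with h' | h'
      · exact Or.inr h'
      · exact Or.inl h'
    rcases this with h' | h'
    · rw [h'] at hi; simp at hi
    · rcases List.mem_append.mp h' with h' | h'
      · exact lettersOK_spec (allB_iff.mp hPl _ h') y hi
      · rw [List.mem_singleton] at h'
        exact lettersOK_spec (allB_iff.mp hCl _ hcm) y (h' ▸ hi)
  have hvalid : valid D B L (P ++ [c]) = true := by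
    simp only [valid, Bool.and_eq_true, allB_iff]
    refine ⟨fun r hr => ?_, fun r hr => ?_⟩
    · simp only [fixW, Bool.and_eq_true, allB_iff]
      refine ⟨hletW r, fun b hb => ?_⟩
      rw [Nat.beq_eq, ← phi_el hD gen φ hφ (hletW r) ⟨b, hBn b hb⟩,
        hsub r (hlet r (List.mem_append_left _ hr)), hrel r hr]
      simp
    · simp only [movW, Bool.and_eq_true, Bool.not_eq_true']
      refine ⟨hletW r, Bool.eq_false_iff.mpr fun ha => hnon r hr ?_⟩
      have : wprod gen (subW (P ++ [c]) r) = 1 :=
        fixW_spec hD gen φ hφ hsq hBn hB (by simp [fixW, hletW r, ha])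
      rw [hsub r (hlet r (List.mem_append_right _ hr))] at this
      calc wprod q r = g * (g⁻¹ * wprod q r * g) * g⁻¹ := by group
        _ = 1 := by rw [this]; group
  have hscan : ∃ v, moveOK D B L P c v = true := by
    have hPs : ∀ (R' : List (List (List ℕ))) (i : ℕ), scanReps D B L R' i = true → P ∈ R' →
        ∃ i', scanCands D B L P L.cands i' = true := by
      intro R'
      induction R' with
      | nil => intro i _ hm; simp at hm
      | cons A R' ih =>
        intro i hs hm
        simp only [scanReps, Bool.and_eq_true] at hs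
        rcases List.mem_cons.mp hm with rfl | hm
        · exact ⟨i, hs.1⟩
        · exact ih _ hs.2 hm
    have hcs : ∀ (l : List (List ℕ)) (i : ℕ), scanCands D B L P l i = true → c ∈ l →
        ∃ v, moveOK D B L P c v = true := by
      intro l
      induction l with
      | nil => intro i _ hm; simp at hm
      | cons a l ih =>
        intro i hs hm
        simp only [scanCands, Bool.and_eq_true] at hs
        rcases List.mem_cons.mp hm with rfl | hm
        · rw [hvalid, cond_true] at hs
          exact ⟨_, hs.1⟩
        · exact ih _ hs.2 hm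
    obtain ⟨i', hi'⟩ := hPs R 0 h hP
    exact hcs _ i' hi' hcm
  obtain ⟨v, hv⟩ := hscan
  simp only [moveOK, Bool.and_eq_true, Nat.blt_eq, allB_iff] at hv
  obtain ⟨hj, -, hpre, hlen, hfix, hlast⟩ := hv
  refine ⟨_, getRep_mem hj, g * wprod gen (decode 1000 (Nat.shiftRight v 6)), Nat.eq_of_beq_eq_true hlen, fun k hk => ?_⟩
  set Q := getRep L.next (Nat.land v 63)
  set t := wprod gen (decode 1000 (Nat.shiftRight v 6)) with ht
  rw [Nat.eq_of_beq_eq_true hlen] at hk
  rcases Nat.lt_succ_iff_lt_or_eq.mp hk with hk | hk
  · rw [prefixB_spec hpre k hk, hq k hk]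
    have hc' := eqW_spec hD gen φ hφ hsq hBn hB (hfix _ (getWord_mem_lt hk))
    rw [el_conjW gen hsq, ← ht] at hc'
    conv_lhs => rw [← hc']
    group
  · subst hk
    have hc' := eqW_spec hD gen φ hφ hsq hBn hB hlast
    rw [el_conjW gen hsq, ← ht] at hc'
    calc q P.length = g * (g⁻¹ * q P.length * g) * g⁻¹ := by group
      _ = g * (t * wprod gen (getWord Q P.length) * t⁻¹) * g⁻¹ := by rw [hce, hc']
      _ = _ := by group

omit hsq hBn hB in
/-- The product of a chain bounds the pointwise stabiliser. -/
theorem chain_le [Finite G] : ∀ (l : List (ℕ × List (List ℕ))) (P : List ℕ) (K : Subgroup G),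
    chainOK D l P = true → (∀ g : G, (∀ b ∈ P, ∀ hb : b < D.n, φ g ⟨b, hb⟩ = ⟨b, hb⟩) → g ∈ K) →
    (∀ g ∈ K, ∀ b ∈ P, ∀ hb : b < D.n, φ g ⟨b, hb⟩ = ⟨b, hb⟩) →
    ∀ F : Subgroup G, (∀ g ∈ F, ∀ b ∈ P ++ l.map Prod.fst, ∀ hb : b < D.n, φ g ⟨b, hb⟩ = ⟨b, hb⟩) →
      chainProd l * Nat.card F ≤ Nat.card K
  | [], P, K, _, hK, _, F, hF => by
    rw [chainProd, one_mul]
    exact Subgroup.card_le_of_le fun g hg => hK g fun b hb => hF g hg b (by simpa using hb)
  | (b, ws) :: l, P, K, h, hK, hK', F, hF => by
    simp only [chainOK, Bool.and_eq_true, Nat.blt_eq, allB_iff] at h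
    obtain ⟨hb, ha, hw, hl⟩ := h
    let K' : Subgroup G := K ⊓ (MulAction.stabilizer (Equiv.Perm (Fin D.n)) (⟨b, hb⟩ : Fin D.n)).comap φ
    have hrec : chainProd l * Nat.card F ≤ Nat.card K' :=
      chain_le l (P ++ [b]) K' hl
        (fun g hg => ⟨hK g fun c hc => hg c (List.mem_append_left _ hc), hg b (by simp) hb⟩)
        (fun g hg c hc hc' => by
          rcases List.mem_append.mp hc with hc | hc
          · exact hK' g hg.1 c hc hc'
          · rw [List.mem_singleton] at hc; subst hc; exact hg.2)
        F fun g hg c hc => hF g hg c (by simpa using hc)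
    have hnd : (ws.map fun w => D.run w b).Nodup := (ascOK_spec ha).nodup
    have hmem : ∀ w ∈ ws, wprod gen w ∈ K := fun w hw' => hK _ fun c hc hc' => Fin.ext (by
      rw [phi_el hD gen φ hφ (hw w hw').1]
      exact fixBelow_spec D w (hw w hw').2 c hc)
    have hle : ws.length * Nat.card K' ≤ Nat.card K := by
      rw [← Nat.card_fin ws.length, ← Nat.card_prod]
      refine Nat.card_le_card_of_injective (fun p => (⟨wprod gen (ws.get p.1) * p.2.1,
        mul_mem (hmem _ (List.get_mem ws p.1)) p.2.2.1⟩ : K)) ?_
      rintro ⟨i, a, haK⟩ ⟨j, a', haK'⟩ e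
      have e1 : wprod gen (ws.get i) * a = wprod gen (ws.get j) * a' := congrArg Subtype.val e
      have e2 : ∀ (k : Fin ws.length) (c : G), φ c ⟨b, hb⟩ = ⟨b, hb⟩ →
          (φ (wprod gen (ws.get k) * c) ⟨b, hb⟩ : ℕ) = D.run (ws.get k) b := fun k c hc => by
        rw [map_mul, Equiv.Perm.mul_apply, hc, phi_el hD gen φ hφ (hw _ (List.get_mem ws k)).1]
      obtain rfl : i = j := by
        have := (e2 i a haK.2).symm.trans ((congrArg (fun u => ((φ u ⟨b, hb⟩ : Fin D.n) : ℕ)) e1).trans (e2 j a' haK'.2))
        refine Fin.ext ((List.Nodup.getElem_inj_iff hnd (i := (i : ℕ)) (hi := by simp) (j := (j : ℕ)) (hj := by simp)).mp ?_)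
        simpa using this
      obtain rfl : a = a' := mul_left_cancel e1
      rfl
    rw [chainProd, mul_assoc]
    exact (Nat.mul_le_mul_left _ hrec).trans hle

omit hD hφ hsq hBn hB in
/-- A range check gives the check at each point. -/
theorem range_spec {f : ℕ → Bool} {a m : ℕ} (h : scan (fun i => f (a + i)) m = true) {i : ℕ} (h1 : a ≤ i)
    (h2 : i < a + m) : f i = true := by
  have := scan_spec _ h (i - a) (by omega)
  rwa [Nat.add_sub_cancel' h1] at this

end Spec

section Ranges

variable {D : Table} {B x : List ℕ} {gens : List (List ℕ)} {f : ℕ → List ℕ} {n : ℕ} {idx : Tree} {a m i : ℕ}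

theorem orbitRange_one (h : orbitRange D B x f a m = true) (h1 : a ≤ i) (h2 : i < a + m) :
    orbitRange D B x f i 1 = true := by
  have h' := scan_spec _ h (i - a) (by omega)
  rw [Nat.add_sub_cancel' h1] at h'
  simpa [orbitRange, scan] using h'

theorem closedConj_one (h : closedConj D B gens f n idx a m = true) (h1 : a ≤ i) (h2 : i < a + m) :
    closedConj D B gens f n idx i 1 = true := by
  have h' := scan_spec _ h (i - a) (by omega)
  simp only [show Nat.add a (i - a) = i from Nat.add_sub_cancel' h1] at h'
  simp only [closedConj, scan, Bool.and_true]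
  exact h'

theorem closedMul_one (h : closedMul D B gens f n idx a m = true) (h1 : a ≤ i) (h2 : i < a + m) :
    closedMul D B gens f n idx i 1 = true := by
  have h' := scan_spec _ h (i - a) (by omega)
  simp only [show Nat.add a (i - a) = i from Nat.add_sub_cancel' h1] at h'
  simp only [closedMul, scan, Bool.and_true]
  exact h'

end Ranges

end Cfsg.Agent.InvChar.Coset.AutCert
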