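import Cfsg.Agent.InvChar.Coset.AutCert

/-!
# Elements and centralisers from a complete chain of transporters

When the product of a chain is the order of the group, every element is a product of transporters, and the elements
commuting with a given one are found by following the fixed points of that one down the chain.
-/

set_option autoImplicit false
set_option linter.all false

noncomputable section

namespace Cfsg.Agent.InvChar.Coset.AutCert

open Cfsg.Agent.CosetCert

/-- Unpack words stored in pieces of at most fifteen letters; each piece is then a small number. -/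
def unchunk (l : List (List ℕ)) : List (List ℕ) := l.map fun cs => cs.flatMap (decode 16)

/-- All products of transporters, the deeper ones acting first. -/
def prodWords : List (ℕ × List (List ℕ)) → List (List ℕ)
  | [] => [[]]
  | (_, ws) :: l => ws.flatMap fun w => (prodWords l).map fun u => u ++ w

def posGo (D : Table) (b : ℕ) (pos : Tree) : List (List ℕ) → ℕ → Bool
  | [], _ => true
  | w :: l, i => Nat.beq (pos.get (D.run w b)) (Nat.succ i) && posGo D b pos l (Nat.succ i)

/-- The positions of the images are recorded. -/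
def posOK (D : Table) (b : ℕ) (ws : List (List ℕ)) (pos : Tree) : Bool := posGo D b pos ws 0

theorem posGo_spec (D : Table) (b : ℕ) (pos : Tree) : ∀ (l : List (List ℕ)) (i : ℕ), posGo D b pos l i = true →
    ∀ j < l.length, pos.get (D.run (getWord l j) b) = i + j + 1
  | [], _, _, j, hj => absurd hj (by simp)
  | w :: l, i, h, 0, _ => by
    simp only [posGo, Bool.and_eq_true] at h
    exact Nat.eq_of_beq_eq_true h.1
  | w :: l, i, h, j + 1, hj => by
    simp only [posGo, Bool.and_eq_true] at h
    have := posGo_spec D b pos l (i + 1) h.2 j (by simpa using hj)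
    rw [getWord_cons_succ]
    omega

/-- The coset leaders met by following fixed points. -/
def leads (D : Table) (F : List ℕ) : List (ℕ × List (List ℕ)) → List Tree → List ℕ → List (List ℕ)
  | (_, ws) :: l, T :: Ts, back => F.flatMap fun y =>
      match T.get (D.run back.reverse y) with
      | 0 => []
      | j + 1 => leads D F l Ts (getWord ws j ++ back)
  | _, _, back => [back]

def fixList (D : Table) (w : List ℕ) : List ℕ := (List.range D.n).filter fun c => Nat.beq (D.run w c) c

def commWith (D : Table) (B : List ℕ) (x w : List ℕ) : Bool := eqW D B (w ++ x) (x ++ w)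

theorem getWord_getElem : ∀ (l : List (List ℕ)) (j : ℕ) (hj : j < l.length), getWord l j = l[j]
  | [], j, hj => absurd hj (by simp)
  | a :: l, 0, _ => rfl
  | a :: l, j + 1, hj => by
    rw [getWord_cons_succ]
    exact getWord_getElem l j (by simpa using hj)

variable {D : Table} {B : List ℕ} (hD : Checked D) {G : Type} [Group G] (gen : ℕ → G)
  (φ : G →* Equiv.Perm (Fin D.n)) (hφ : ∀ x, φ (gen x) = tau hD x)

/-- The pointwise stabiliser of a list of points. -/
def fixer (P : List ℕ) : Subgroup G where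
  carrier := {g | ∀ b ∈ P, ∀ hb : b < D.n, φ g ⟨b, hb⟩ = ⟨b, hb⟩}
  one_mem' b _ hb := by rw [map_one]; rfl
  mul_mem' ha hc b hb hb' := by rw [map_mul, Equiv.Perm.mul_apply, hc b hb hb', ha b hb hb']
  inv_mem' ha b hb hb' := by rw [map_inv, Equiv.Perm.inv_eq_iff_eq, ha b hb hb']

include hφ

/-- One step of a chain inside a subgroup. -/
theorem chain_step [Finite G] {b : ℕ} (hb : b < D.n) {ws : List (List ℕ)} {P : List ℕ}
    (ha : ascOK (ws.map fun w => D.run w b) = true)
    (hw : ∀ w ∈ ws, lettersOK D.C.K w = true ∧ fixBelow D w P = true)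
    (K : Subgroup G) (hK : ∀ w ∈ ws, wprod gen w ∈ K) :
    ws.length * Nat.card (K ⊓ fixer φ (P ++ [b]) : Subgroup G) ≤ Nat.card (K ⊓ fixer φ P : Subgroup G) := by
  have hmem : ∀ w ∈ ws, wprod gen w ∈ K ⊓ fixer φ P := fun w hw' => ⟨hK w hw', fun c hc hc' => Fin.ext (by
    rw [phi_el hD gen φ hφ (hw w hw').1]
    exact fixBelow_spec D w (hw w hw').2 c hc)⟩
  have hnd : (ws.map fun w => D.run w b).Nodup := (ascOK_spec ha).nodup
  rw [← Nat.card_fin ws.length, ← Nat.card_prod]
  refine Nat.card_le_card_of_injective (fun p => (⟨wprod gen (ws.get p.1) * p.2.1,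
    mul_mem (hmem _ (List.get_mem ws p.1)) ⟨p.2.2.1, fun c hc hc' => p.2.2.2 c (List.mem_append_left _ hc) hc'⟩⟩ :
      (K ⊓ fixer φ P : Subgroup G))) ?_
  rintro ⟨i, a, haK⟩ ⟨j, a', haK'⟩ e
  have e1 : wprod gen (ws.get i) * a = wprod gen (ws.get j) * a' := congrArg Subtype.val e
  have e2 : ∀ (k : Fin ws.length) (c : G), φ c ⟨b, hb⟩ = ⟨b, hb⟩ →
      (φ (wprod gen (ws.get k) * c) ⟨b, hb⟩ : ℕ) = D.run (ws.get k) b := fun k c hc => by
    rw [map_mul, Equiv.Perm.mul_apply, hc, phi_el hD gen φ hφ (hw _ (List.get_mem ws k)).1]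
  obtain rfl : i = j := by
    have := (e2 i a (haK.2 b (by simp) hb)).symm.trans
      ((congrArg (fun u => ((φ u ⟨b, hb⟩ : Fin D.n) : ℕ)) e1).trans (e2 j a' (haK'.2 b (by simp) hb)))
    refine Fin.ext ((List.Nodup.getElem_inj_iff hnd (i := (i : ℕ)) (hi := by simp) (j := (j : ℕ)) (hj := by simp)).mp ?_)
    simpa using this
  obtain rfl : a = a' := mul_left_cancel e1
  rfl

/-- The product of a chain inside a subgroup bounds it. -/
theorem chain_in [Finite G] (K : Subgroup G) : ∀ (l : List (ℕ × List (List ℕ))) (P : List ℕ),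
    chainOK D l P = true → (∀ p ∈ l, ∀ w ∈ p.2, wprod gen w ∈ K) →
      chainProd l * Nat.card (K ⊓ fixer φ (P ++ l.map Prod.fst) : Subgroup G) ≤
        Nat.card (K ⊓ fixer φ P : Subgroup G)
  | [], P, _, _ => by rw [chainProd, one_mul, List.map_nil, List.append_nil]
  | (b, ws) :: l, P, h, hK => by
    simp only [chainOK, Bool.and_eq_true, Nat.blt_eq, allB_iff] at h
    obtain ⟨hb, ha, hw, hl⟩ := h
    have h1 := chain_in K l (P ++ [b]) hl fun p hp => hK p (List.mem_cons_of_mem _ hp)
    rw [List.map_cons, show P ++ (b :: l.map Prod.fst) = P ++ [b] ++ l.map Prod.fst by simp, chainProd, mul_assoc]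
    exact (Nat.mul_le_mul_left _ h1).trans
      (chain_step hD gen φ hφ hb ha hw K (hK (b, ws) List.mem_cons_self))

/-- A chain with the product of the order gives each stabiliser its order. -/
theorem chain_tight [Finite G] : ∀ (l : List (ℕ × List (List ℕ))) (P : List ℕ),
    chainOK D l P = true → Nat.card (fixer φ P : Subgroup G) ≤ chainProd l →
    ∀ v ∈ fixer φ P, ∃ u ∈ prodWords l, v = wprod gen u
  | [], P, _, hle, v, hv => by
    refine ⟨[], List.mem_singleton_self _, ?_⟩
    have h1 : Nat.card (fixer φ P : Subgroup G) = 1 := le_antisymm hle Nat.card_pos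
    rw [Subgroup.eq_bot_of_card_eq _ h1, Subgroup.mem_bot] at hv
    exact hv
  | (b, ws) :: l, P, h, hle, v, hv => by
    simp only [chainOK, Bool.and_eq_true, Nat.blt_eq, allB_iff] at h
    obtain ⟨hb, ha, hw, hl⟩ := h
    set H := (fixer φ P : Subgroup G) with hH
    set H' := (fixer φ (P ++ [b]) : Subgroup G) with hH'
    have e1 : (⊤ ⊓ fixer φ P : Subgroup G) = H := top_inf_eq _
    have e2 : (⊤ ⊓ fixer φ (P ++ [b]) : Subgroup G) = H' := top_inf_eq _
    have hlow := chain_in hD gen φ hφ ⊤ l (P ++ [b]) hl fun _ _ _ _ => Subgroup.mem_top _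
    rw [e2] at hlow
    have hlow' : chainProd l ≤ Nat.card H' := le_trans (Nat.le_mul_of_pos_right _ Nat.card_pos) hlow
    have hstep := chain_step hD gen φ hφ hb ha hw ⊤ fun _ _ => Subgroup.mem_top _
    rw [e1, e2] at hstep
    rw [chainProd] at hle
    have hpos : 0 < ws.length := by
      rcases Nat.eq_zero_or_pos ws.length with h0 | h0
      · rw [h0, zero_mul] at hle
        exact absurd hle (Nat.not_le.mpr Nat.card_pos)
      · exact h0
    have hle' : Nat.card H' ≤ chainProd l := Nat.le_of_mul_le_mul_left (hstep.trans hle) hpos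
    -- the image of `b` is one of the recorded ones
    have hmemw : ∀ w ∈ ws, wprod gen w ∈ H := fun w hw' c hc hc' => Fin.ext (by
      rw [phi_el hD gen φ hφ (hw w hw').1]
      exact fixBelow_spec D w (hw w hw').2 c hc)
    by_cases him : ∃ w ∈ ws, D.run w b = (φ v ⟨b, hb⟩ : ℕ)
    · obtain ⟨w, hwm, hwe⟩ := him
      have hvv : (wprod gen w)⁻¹ * v ∈ H' := fun c hc hc' => by
        rcases List.mem_append.mp hc with hc | hc
        · exact (H.mul_mem (H.inv_mem (hmemw w hwm)) hv) c hc hc'
        · rw [List.mem_singleton] at hc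
          subst hc
          rw [map_mul, Equiv.Perm.mul_apply, map_inv, Equiv.Perm.inv_eq_iff_eq]
          exact Fin.ext (by rw [phi_el hD gen φ hφ (hw w hwm).1]; exact hwe.symm)
      obtain ⟨u, hu, hue⟩ := chain_tight l (P ++ [b]) hl hle' _ hvv
      refine ⟨u ++ w, List.mem_flatMap.mpr ⟨w, hwm, List.mem_map.mpr ⟨u, hu, rfl⟩⟩, ?_⟩
      rw [wprod_append, ← hue, mul_inv_cancel_left]
    · exfalso
      push Not at him
      have hnd : (ws.map fun w => D.run w b).Nodup := (ascOK_spec ha).nodup
      have key : (ws.length + 1) * Nat.card H' ≤ Nat.card H := by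
        rw [← Nat.card_fin (ws.length + 1), ← Nat.card_prod]
        let f : Fin (ws.length + 1) → G := fun i => if hi : (i : ℕ) < ws.length then wprod gen (ws.get ⟨i, hi⟩) else v
        have hf : ∀ i, f i ∈ H := fun i => by
          simp only [f]; split
          · exact hmemw _ (List.get_mem ws _)
          · exact hv
        have himg : ∀ (i : Fin (ws.length + 1)) (c : G), c ∈ H' →
            (φ (f i * c) ⟨b, hb⟩ : ℕ) = if hi : (i : ℕ) < ws.length then D.run (ws.get ⟨i, hi⟩) b else (φ v ⟨b, hb⟩ : ℕ) := by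
          intro i c hc
          rw [map_mul, Equiv.Perm.mul_apply, hc b (by simp) hb]
          simp only [f]; split
          · rw [phi_el hD gen φ hφ (hw _ (List.get_mem ws _)).1]
          · rfl
        refine Nat.card_le_card_of_injective (fun p => (⟨f p.1 * p.2.1,
          H.mul_mem (hf p.1) fun c hc hc' => p.2.2 c (List.mem_append_left _ hc) hc'⟩ : H)) ?_
        rintro ⟨i, a, haK⟩ ⟨j, a', haK'⟩ e
        have e1 : f i * a = f j * a' := congrArg Subtype.val e
        have e3 := (himg i a haK).symm.trans ((congrArg (fun u => ((φ u ⟨b, hb⟩ : Fin D.n) : ℕ)) e1).trans (himg j a' haK'))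
        obtain rfl : i = j := by
          refine Fin.ext ?_
          by_cases hi : (i : ℕ) < ws.length <;> by_cases hj : (j : ℕ) < ws.length
          · rw [dif_pos hi, dif_pos hj] at e3
            exact (List.Nodup.getElem_inj_iff hnd (i := (i : ℕ)) (hi := by simpa using hi) (j := (j : ℕ))
              (hj := by simpa using hj)).mp (by simpa using e3)
          · rw [dif_pos hi, dif_neg hj] at e3
            exact absurd e3 (him _ (List.get_mem ws _))
          · rw [dif_neg hi, dif_pos hj] at e3
            exact absurd e3.symm (him _ (List.get_mem ws _))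
          · have := i.2; have := j.2; omega
        obtain rfl : a = a' := mul_left_cancel e1
        rfl
      have h2 : (ws.length + 1) * chainProd l ≤ ws.length * chainProd l :=
        ((Nat.mul_le_mul_left _ hlow').trans key).trans hle
      rw [add_one_mul] at h2
      have hp : 0 < chainProd l := lt_of_lt_of_le Nat.card_pos hle'
      omega

/-- Elements permuting a set of points descend along the chain. -/
theorem leads_spec [Finite G] {F : List ℕ} (v : G)
    (hvF : ∀ y ∈ F, ∀ hy : y < D.n, (φ v ⟨y, hy⟩ : ℕ) ∈ F) :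
    ∀ (l : List (ℕ × List (List ℕ))) (Ts : List Tree) (P : List ℕ), l.length = Ts.length →
    chainOK D l P = true →
    (∀ i < l.length, ∀ hi : i < l.length, ∀ hi' : i < Ts.length, posOK D (l[i].1) (l[i].2) (Ts[i]) = true ∧ l[i].1 ∈ F) →
    (∀ i, ∀ hi : i < l.length, ∀ u ∈ fixer φ (P ++ (l.take i).map Prod.fst), ∀ hb : l[i].1 < D.n,
      ∃ j, ∃ hj : j < l[i].2.length, (φ u ⟨l[i].1, hb⟩ : ℕ) = D.run (l[i].2[j]) (l[i].1)) →
    ∀ back : List ℕ, lettersOK D.C.K back = true → (wprod gen back)⁻¹ * v ∈ fixer φ P →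
      (∀ y : ℕ, ∀ hy : y < D.n, (φ (wprod gen back)⁻¹ ⟨y, hy⟩ : ℕ) = D.run back.reverse y) →
      (∀ (w' : List ℕ), lettersOK D.C.K w' = true → ∀ y : ℕ, ∀ hy : y < D.n,
        (φ (wprod gen w')⁻¹ ⟨y, hy⟩ : ℕ) = D.run w'.reverse y) →
      ∃ b ∈ leads D F l Ts back, (wprod gen b)⁻¹ * v ∈ fixer φ (P ++ l.map Prod.fst)
  | [], [], P, _, _, _, _, back, _, hm, _, _ => ⟨back, by simp [leads], by simpa using hm⟩
  | [], _ :: _, P, hlen, _, _, _, _, _, _, _, _ => by simp at hlen
  | _ :: _, [], P, hlen, _, _, _, _, _, _, _, _ => by simp at hlen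
  | (b, ws) :: l, T :: Ts, P, hlen, h, hpos, horb, back, hback, hm, hrev, hrevs => by
    simp only [chainOK, Bool.and_eq_true, Nat.blt_eq, allB_iff] at h
    obtain ⟨hb, ha, hw, hl⟩ := h
    obtain ⟨hp0, hbF⟩ := hpos 0 (by simp) (by simp) (by simp)
    obtain ⟨j, hj, hje⟩ := horb 0 (by simp) _ (by simpa using hm) hb
    set y : ℕ := (φ v ⟨b, hb⟩ : ℕ) with hy
    have hyF : y ∈ F := hvF b hbF hb
    have hz : D.run back.reverse y = D.run ws[j] b := by
      rw [← hrev y (Fin.is_lt _)]
      rw [map_mul, Equiv.Perm.mul_apply] at hje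
      exact hje
    have hgw : getWord ws j = ws[j] := getWord_getElem ws j hj
    have hT : T.get (D.run back.reverse y) = j + 1 := by
      have := posGo_spec D _ T _ 0 hp0 j hj
      rw [show ((b, ws) :: l)[0].2 = ws from rfl, hgw, Nat.zero_add] at this
      rw [hz]
      exact this
    have hwj : ws[j] ∈ ws := List.getElem_mem hj
    have hlet : lettersOK D.C.K (ws[j] ++ back) = true := by
      have : ∀ u w : List ℕ, lettersOK D.C.K u = true → lettersOK D.C.K w = true → lettersOK D.C.K (u ++ w) = true := by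
        intro u w hu hw'
        induction u with
        | nil => exact hw'
        | cons c u ihu =>
          simp only [lettersOK, Bool.and_eq_true] at hu
          simp only [List.cons_append, lettersOK, Bool.and_eq_true]
          exact ⟨hu.1, ihu hu.2⟩
      exact this _ _ (hw _ hwj).1 hback
    have hm' : (wprod gen (ws[j] ++ back))⁻¹ * v ∈ fixer φ (P ++ [b]) := by
      rw [wprod_append, mul_inv_rev, mul_assoc]
      intro c hc hc'
      rcases List.mem_append.mp hc with hc | hc
      · refine (fixer φ P).mul_mem ((fixer φ P).inv_mem fun c hc hc' => Fin.ext ?_) hm c hc hc'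
        rw [phi_el hD gen φ hφ (hw _ hwj).1]
        exact fixBelow_spec D _ (hw _ hwj).2 c hc
      · rw [List.mem_singleton] at hc
        subst hc
        rw [map_mul, Equiv.Perm.mul_apply, map_inv (φ) (wprod gen ws[j]), Equiv.Perm.inv_eq_iff_eq]
        refine Fin.ext ?_
        rw [phi_el hD gen φ hφ (hw _ hwj).1]
        exact hje
    obtain ⟨b', hb', hb''⟩ := leads_spec v hvF l Ts (P ++ [b]) (by simpa using hlen) hl
      (fun i hi hi1 hi2 => hpos (i + 1) (by simpa using hi) (by simpa using hi) (by simpa using hi2))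
      (fun i hi u hu hb1 => horb (i + 1) (by simpa using hi) u (by simpa using hu) hb1)
      _ hlet hm' (hrevs _ hlet) hrevs
    refine ⟨b', List.mem_flatMap.mpr ⟨y, hyF, ?_⟩, by simpa using hb''⟩
    rw [hT]
    show b' ∈ leads D F l Ts (getWord ws j ++ back)
    rw [hgw]
    exact hb'

/-- In a tight chain the recorded images are whole orbits. -/
theorem tight_orbit [Finite G] : ∀ (l : List (ℕ × List (List ℕ))) (P : List ℕ),
    chainOK D l P = true → Nat.card (fixer φ P : Subgroup G) ≤ chainProd l →
    ∀ i, ∀ hi : i < l.length, ∀ u ∈ fixer φ (P ++ (l.take i).map Prod.fst), ∀ hb : l[i].1 < D.n,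
      ∃ j, ∃ hj : j < l[i].2.length, (φ u ⟨l[i].1, hb⟩ : ℕ) = D.run (l[i].2[j]) (l[i].1)
  | [], _, _, _, i, hi, _, _, _ => by simp at hi
  | (b, ws) :: l, P, h, hle, 0, hi, u, hu, hb => by
    have hu' : u ∈ fixer φ P := by simpa using hu
    obtain ⟨w, hw, hwe⟩ := chain_tight hD gen φ hφ ((b, ws) :: l) P h hle u hu'
    obtain ⟨x, hx, hx'⟩ := List.mem_flatMap.mp hw
    obtain ⟨r, hr, rfl⟩ := List.mem_map.mp hx'
    simp only [chainOK, Bool.and_eq_true, Nat.blt_eq, allB_iff] at h
    obtain ⟨j, hj, rfl⟩ := List.getElem_of_mem hx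
    refine ⟨j, hj, ?_⟩
    have hfix : φ (wprod gen r) ⟨b, hb⟩ = ⟨b, hb⟩ := by
      have hd : ∀ (l : List (ℕ × List (List ℕ))) (P : List ℕ), chainOK D l P = true → ∀ r ∈ prodWords l,
          ∀ c ∈ P, ∀ hc : c < D.n, φ (wprod gen r) ⟨c, hc⟩ = ⟨c, hc⟩ := by
        intro l
        induction l with
        | nil =>
          intro P _ r hr c _ hc
          rw [prodWords, List.mem_singleton] at hr
          subst hr
          rw [wprod, map_one]; rfl
        | cons p l ih =>
          obtain ⟨b', ws'⟩ := p
          intro P h' r hr c hc hc'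
          simp only [chainOK, Bool.and_eq_true, Nat.blt_eq, allB_iff] at h'
          obtain ⟨x', hx1, hx2⟩ := List.mem_flatMap.mp hr
          obtain ⟨r', hr', rfl⟩ := List.mem_map.mp hx2
          rw [wprod_append, map_mul, Equiv.Perm.mul_apply, ih _ h'.2.2.2 r' hr' c (List.mem_append_left _ hc) hc']
          exact Fin.ext (by rw [phi_el hD gen φ hφ (h'.2.2.1 x' hx1).1]; exact fixBelow_spec D x' (h'.2.2.1 x' hx1).2 c hc)
      exact hd l (P ++ [b]) h.2.2.2 r hr b (by simp) hb
    show (φ u ⟨b, hb⟩ : ℕ) = D.run ws[j] b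
    rw [hwe, wprod_append, map_mul, Equiv.Perm.mul_apply, hfix, phi_el hD gen φ hφ (h.2.2.1 _ hx).1]
  | (b, ws) :: l, P, h, hle, i + 1, hi, u, hu, hb => by
    simp only [chainOK, Bool.and_eq_true, Nat.blt_eq, allB_iff] at h
    obtain ⟨hb0, ha, hw, hl⟩ := h
    have hstep := chain_step hD gen φ hφ hb0 ha hw ⊤ fun _ _ => Subgroup.mem_top _
    rw [top_inf_eq, top_inf_eq] at hstep
    rw [chainProd] at hle
    have hpos : 0 < ws.length := by
      rcases Nat.eq_zero_or_pos ws.length with h0 | h0
      · rw [h0, zero_mul] at hle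
        exact absurd hle (Nat.not_le.mpr Nat.card_pos)
      · exact h0
    exact tight_orbit l (P ++ [b]) hl (Nat.le_of_mul_le_mul_left (hstep.trans hle) hpos) i (by simpa using hi) u
      (by simpa using hu) hb

end Cfsg.Agent.InvChar.Coset.AutCert
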