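import Cfsg.Agent.Lib.CosetCert.Finish

/-!
# A checkable certificate that the stabiliser of a point is maximal
-/

set_option autoImplicit false
set_option linter.all false

noncomputable section

namespace Cfsg.Agent.InvChar.Coset

open Cfsg.Agent.CosetCert
open scoped Pointwise

/-- A base point, its orbit, stabiliser words, and a spanning tree of each orbital. -/
structure BlockCert where
  base : ℕ
  pts : List ℕ
  moves : List (ℕ × ℕ × List ℕ)
  trees : List (ℕ × List ℕ × List (ℕ × ℕ × List ℕ))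

namespace BlockCert

def upFrom : ℕ → List ℕ → Bool
  | _, [] => true
  | a, b :: l => Nat.ble a b && upFrom (b + 1) l

theorem upFrom_spec : ∀ {l : List ℕ} {a : ℕ}, upFrom a l = true → (∀ b ∈ l, a ≤ b) ∧ l.Nodup
  | [], a, _ => ⟨fun b hb => absurd hb (List.not_mem_nil), List.nodup_nil⟩
  | b :: l, a, h => by
    simp only [upFrom, Bool.and_eq_true] at h
    obtain ⟨h1, h2⟩ := upFrom_spec h.2
    have hab : a ≤ b := Nat.le_of_ble_eq_true h.1
    refine ⟨fun c hc => ?_, List.nodup_cons.mpr ⟨fun hb => absurd (h1 b hb) (by omega), h2⟩⟩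
    rcases List.mem_cons.mp hc with rfl | hc
    · exact hab
    · exact le_trans hab (le_trans (Nat.le_succ b) (h1 c hc))

/-- The vertices reached along the steps. -/
def spread (D : Table) (L : List ℕ) (base rep : ℕ) : List ℕ → List (ℕ × ℕ × List ℕ) → List ℕ
  | done, [] => done
  | done, e :: l => bif memNat e.1 done && e.2.2.all (fun y => memNat y L) && Nat.beq (D.run e.2.2 base) e.1 &&
        Nat.beq (D.run e.2.2 rep) e.2.1
      then spread D L base rep (e.2.1 :: done) l else spread D L base rep done l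

def allIn : List ℕ → List ℕ → Bool
  | [], _ => true
  | c :: l, S => memNat c S && allIn l S

theorem allIn_spec : ∀ {l S : List ℕ}, allIn l S = true → ∀ c ∈ l, c ∈ S
  | [], _, _, c, hc => absurd hc (List.not_mem_nil)
  | d :: l, S, h, c, hc => by
    simp only [allIn, Bool.and_eq_true] at h
    rcases List.mem_cons.mp hc with rfl | hc
    · exact memNat_spec h.1
    · exact allIn_spec h.2 c hc

def closedOK (D : Table) (L : List ℕ) (C : BlockCert) : Bool :=
  memNat C.base C.pts && upFrom 0 C.pts && L.all (fun y => Nat.blt y D.C.K) &&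
    C.pts.all fun c => Nat.blt c D.n && L.all fun y => memNat (D.run [y] c) C.pts

def movesOK (D : Table) (L : List ℕ) (C : BlockCert) : Bool :=
  allIn C.pts (C.base :: C.moves.map Prod.fst) &&
    C.moves.all fun m => memNat m.2.1 (C.trees.map Prod.fst) && m.2.2.all (fun y => memNat y L) &&
      Nat.beq (D.run m.2.2 C.base) C.base && Nat.beq (D.run m.2.2 m.2.1) m.1

def treesOK (D : Table) (L : List ℕ) (C : BlockCert) : Bool :=
  C.trees.all fun t => memNat t.1 C.pts && allIn C.pts (spread D L C.base t.1 [C.base] t.2.2) &&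
    t.2.1.all (fun y => memNat y L) && Nat.beq (D.run t.2.1 C.base) t.1

def ok (D : Table) (L : List ℕ) (C : BlockCert) : Bool :=
  closedOK D L C && movesOK D L C && treesOK D L C && C.pts.any fun c => !(Nat.beq c C.base)

variable {D : Table} {L : List ℕ} {C : BlockCert} {G : Type*} [Group G] [Finite G] (ψ : G →* Equiv.Perm (Fin D.n))
  (g : ℕ → G) (hψ : ∀ y ∈ L, ∀ c : Fin D.n, (ψ (g y) c : ℕ) = D.run [y] c)

include hψ

theorem psi_word : ∀ {w : List ℕ}, (∀ y ∈ w, y ∈ L) → ∀ c : Fin D.n, (ψ (wprod g w) c : ℕ) = D.run w c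
  | [], _, c => by rw [wprod, map_one]; rfl
  | y :: w, hw, c => by
    rw [wprod, map_mul, Equiv.Perm.mul_apply, psi_word fun z hz => hw z (List.mem_cons_of_mem _ hz),
      hψ y (hw y List.mem_cons_self)]
    rfl

theorem facts (hgen : Subgroup.closure (g '' {y | y ∈ L}) = ⊤) (hok : ok D L C = true) (c : Fin D.n)
    (hc : c.val ∈ C.pts) :
    IsCoatom ((MulAction.stabilizer (Equiv.Perm (Fin D.n)) c).comap ψ) ∧
      ((MulAction.stabilizer (Equiv.Perm (Fin D.n)) c).comap ψ).index = C.pts.length ∧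
      ∀ x : G, (ψ x c).val ∈ C.pts := by
  simp only [ok, closedOK, movesOK, treesOK, Bool.and_eq_true, List.all_eq_true, List.any_eq_true, Bool.not_eq_true'] at hok
  obtain ⟨⟨⟨⟨⟨⟨hbase, hup⟩, -⟩, hcl⟩, hcov, hmv⟩, htr⟩, d₀, hd₀, hne⟩ := hok
  obtain ⟨-, hnodup⟩ := upFrom_spec hup
  have hlt : ∀ d ∈ C.pts, d < D.n := fun d hd => by simpa [Nat.blt] using (hcl d hd).1
  let S : Set (Fin D.n) := {d | d.val ∈ C.pts}
  have hS : ∀ x : G, ∀ d ∈ S, ψ x d ∈ S := by
    intro x
    have hx : x ∈ Subgroup.closure (g '' {y | y ∈ L}) := hgen ▸ Subgroup.mem_top x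
    rw [← Subgroup.mem_toSubmonoid, Subgroup.closure_toSubmonoid_of_finite] at hx
    induction hx using Submonoid.closure_induction with
    | mem x hx =>
      obtain ⟨y, hy, rfl⟩ := hx
      intro d hd
      show (ψ (g y) d).val ∈ C.pts
      rw [hψ y hy]
      exact memNat_spec ((hcl d hd).2 y hy)
    | one => intro d hd; rwa [map_one]
    | mul a b _ _ iha ihb => intro d hd; rw [map_mul, Equiv.Perm.mul_apply]; exact iha _ (ihb d hd)
  letI : MulAction G (Fin D.n) := MulAction.compHom (Fin D.n) ψ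
  let a : Fin D.n := ⟨C.base, hlt _ (memNat_spec hbase)⟩
  have hsub : MulAction.orbit G a ⊆ S := by
    rintro _ ⟨x, rfl⟩
    exact hS x a (memNat_spec hbase)
  have hword : ∀ {w : List ℕ}, (∀ y ∈ w, memNat y L = true) → ∀ (d : ℕ) (hd : d < D.n),
      ((wprod g w • (⟨d, hd⟩ : Fin D.n) : Fin D.n) : ℕ) = D.run w d := fun hw d hd =>
    psi_word ψ g hψ (fun y hy => memNat_spec (hw y hy)) ⟨d, hd⟩
  -- every listed tree reaches all the listed points inside any block containing its two roots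
  have tree : ∀ t ∈ C.trees, ∀ B : Set (Fin D.n), (∀ x : G, ∀ p ∈ B, x • a = p → ∀ r ∈ B, x • r ∈ B) →
      a ∈ B → (∀ ht : t.1 < D.n, (⟨t.1, ht⟩ : Fin D.n) ∈ B) → ∀ d ∈ C.pts, ∀ hd : d < D.n, (⟨d, hd⟩ : Fin D.n) ∈ B := by
    intro t ht B hB haB hrB
    obtain ⟨⟨⟨hr, hcover⟩, -⟩, -⟩ := htr t ht
    have hrn := hlt _ (memNat_spec hr)
    have key : ∀ (l : List (ℕ × ℕ × List ℕ)) (done : List ℕ), (∀ d ∈ done, ∀ hd : d < D.n, (⟨d, hd⟩ : Fin D.n) ∈ B) →
        ∀ d ∈ spread D L C.base t.1 done l, ∀ hd : d < D.n, (⟨d, hd⟩ : Fin D.n) ∈ B := by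
      intro l
      induction l with
      | nil => intro done h; exact h
      | cons e l ih =>
        intro done h
        rw [spread]
        cases hb : memNat e.1 done && e.2.2.all (fun y => memNat y L) && Nat.beq (D.run e.2.2 C.base) e.1 &&
            Nat.beq (D.run e.2.2 t.1) e.2.1
        · exact ih done h
        · refine ih _ fun d hd => ?_
          simp only [Bool.and_eq_true, List.all_eq_true] at hb
          obtain ⟨⟨⟨hmem, hw⟩, hp⟩, hq⟩ := hb
          rcases List.mem_cons.mp hd with rfl | hd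
          · intro hd'
            have hpn : e.1 < D.n := by
              rw [← Nat.eq_of_beq_eq_true hp, ← hword hw _ (hlt _ (memNat_spec hbase))]
              exact Fin.isLt _
            have := hB (wprod g e.2.2) ⟨e.1, hpn⟩ (h _ (memNat_spec hmem) hpn)
              (Fin.ext ((hword hw _ _).trans (Nat.eq_of_beq_eq_true hp))) ⟨t.1, hrn⟩ (hrB hrn)
            rwa [show wprod g e.2.2 • (⟨t.1, hrn⟩ : Fin D.n) = ⟨e.2.1, hd'⟩ from
              Fin.ext ((hword hw _ _).trans (Nat.eq_of_beq_eq_true hq))] at this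
          · exact h d hd
    intro d hd
    exact key _ [C.base] (by intro d hd hd'; obtain rfl := List.mem_singleton.mp hd; exact haB) d
      (allIn_spec hcover d hd)
  -- the orbit is the listed set
  have hmove : ∀ d ∈ C.pts, ∀ hd : d < D.n, d ≠ C.base → ∃ t ∈ C.trees, ∃ ht : t.1 < D.n, ∃ x : G,
      x • a = a ∧ x • (⟨t.1, ht⟩ : Fin D.n) = ⟨d, hd⟩ := by
    intro d hd hd' hne
    rcases List.mem_cons.mp (allIn_spec hcov d hd) with e | e
    · exact absurd e hne
    obtain ⟨m, hm, rfl⟩ := List.mem_map.mp e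
    obtain ⟨⟨⟨hr, hw⟩, hfix⟩, hto⟩ := hmv m hm
    obtain ⟨t, ht, hte⟩ := List.mem_map.mp (memNat_spec hr)
    have htn : t.1 < D.n := hlt _ (memNat_spec (htr t ht).1.1.1)
    refine ⟨t, ht, htn, wprod g m.2.2, Fin.ext ((hword hw _ _).trans (Nat.eq_of_beq_eq_true hfix)), Fin.ext ?_⟩
    refine (hword hw _ htn).trans ?_
    rw [hte]
    exact Nat.eq_of_beq_eq_true hto
  have hne' : d₀ ≠ C.base := fun e => by rw [e] at hne; simp at hne
  have horb : MulAction.orbit G a = S := by
    refine Set.Subset.antisymm hsub fun d hd => ?_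
    obtain ⟨t, ht, htn, x, hxa, hxr⟩ := hmove d₀ hd₀ (hlt _ hd₀) hne'
    have hrorb : ∀ y : Fin D.n, y ∈ MulAction.orbit G a → ∀ z : G, z • y ∈ MulAction.orbit G a := by
      rintro _ ⟨u, rfl⟩ z
      exact ⟨z * u, mul_smul z u a⟩
    refine tree t ht (MulAction.orbit G a) (fun z p _ _ r hr => hrorb r hr z) (MulAction.mem_orbit_self a)
      (fun h' => ?_) d.val hd d.2
    obtain ⟨⟨-, hw⟩, hto⟩ := htr t ht
    exact ⟨wprod g t.2.1, Fin.ext ((hword hw _ _).trans (Nat.eq_of_beq_eq_true hto))⟩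
  have hpts : Nat.card S = C.pts.length := by
    classical
    rw [← List.toFinset_card_of_nodup hnodup, ← Fintype.card_coe, ← Nat.card_eq_fintype_card]
    exact Nat.card_congr
      { toFun := fun d => ⟨d.1.val, List.mem_toFinset.mpr d.2⟩
        invFun := fun d => ⟨⟨d.1, hlt _ (List.mem_toFinset.mp d.2)⟩, (List.mem_toFinset.mp d.2 :)⟩
        left_inv := fun d => rfl
        right_inv := fun d => rfl }
  have hstab : ∀ e : Fin D.n, (MulAction.stabilizer (Equiv.Perm (Fin D.n)) e).comap ψ = MulAction.stabilizer G e :=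
    fun e => by ext x; rfl
  let X := MulAction.orbit G a
  have hprim : MulAction.IsPreprimitive G X := by
    refine MulAction.IsPreprimitive.of_isTrivialBlock_base (G := G) (⟨a, MulAction.mem_orbit_self a⟩ : X) ?_
    intro B haB hB
    by_cases hsing : B.Subsingleton
    · exact Or.inl hsing
    refine Or.inr (Set.eq_univ_iff_forall.mpr fun q => ?_)
    obtain ⟨b, hbB, hba⟩ : ∃ b ∈ B, b ≠ (⟨a, MulAction.mem_orbit_self a⟩ : X) := by
      by_contra hcon
      push Not at hcon
      exact hsing fun x hx y hy => (hcon x hx).trans (hcon y hy).symm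
    have hb : b.1.val ∈ C.pts := hsub b.2
    have hba' : b.1.val ≠ C.base := fun e => hba (Subtype.ext (Fin.ext e))
    obtain ⟨t, ht, htn, x, hxa, hxr⟩ := hmove _ hb b.1.2 hba'
    -- the block as a set of rows
    let B' : Set (Fin D.n) := Subtype.val '' B
    have hblock : ∀ z : G, ∀ p ∈ B', z • a = p → ∀ r ∈ B', z • r ∈ B' := by
      rintro z _ ⟨p, hp, rfl⟩ hz _ ⟨r, hr, rfl⟩
      refine ⟨z • r, ?_, rfl⟩
      rcases MulAction.isBlock_iff_smul_eq_or_disjoint.mp hB z with e | e
      · exact e ▸ Set.smul_mem_smul_set hr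
      · exfalso
        exact Set.disjoint_left.mp e (show p ∈ z • B from ⟨_, haB, Subtype.ext hz⟩) hp
    have hrB : (⟨t.1, htn⟩ : Fin D.n) ∈ B' := by
      have h1 := hblock x⁻¹ a ⟨_, haB, rfl⟩ (by rw [inv_smul_eq_iff, hxa]) b.1 ⟨b, hbB, rfl⟩
      rwa [show x⁻¹ • b.1 = (⟨t.1, htn⟩ : Fin D.n) by rw [inv_smul_eq_iff, hxr]] at h1
    obtain ⟨q', hq', e⟩ := tree t ht B' hblock ⟨_, haB, rfl⟩ (fun _ => hrB) q.1.val (hsub q.2) q.1.2
    exact Subtype.ext e ▸ hq'
  haveI := hprim
  haveI : Nontrivial X := by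
    refine ⟨⟨a, MulAction.mem_orbit_self a⟩, ⟨⟨d₀, hlt _ hd₀⟩, by show (_ : Fin D.n) ∈ MulAction.orbit G a; rw [horb]; exact hd₀⟩, fun e => ?_⟩
    exact hne' (congrArg (fun y : X => y.1.val) e).symm
  have hcX : c ∈ X := by show c ∈ MulAction.orbit G a; rw [horb]; exact hc
  refine ⟨?_, ?_, fun x => hS x c hc⟩
  · have h := MulAction.IsPreprimitive.isCoatom_stabilizer_of_isPreprimitive G (⟨c, hcX⟩ : X)
    rw [hstab, show MulAction.stabilizer G c = MulAction.stabilizer G (⟨c, hcX⟩ : X) by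
      ext x
      simp only [MulAction.mem_stabilizer_iff]
      exact ⟨fun e => Subtype.ext e, fun e => congrArg Subtype.val e⟩]
    exact h
  · rw [hstab, MulAction.index_stabilizer, MulAction.orbit_eq_iff.mpr hcX, horb, ← hpts, Nat.card_coe_set_eq]

end BlockCert

end Cfsg.Agent.InvChar.Coset
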