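import Cfsg.Agent.Lib.CosetCert.Cox

/-!
# Index and orbits from a checked table
-/

set_option autoImplicit false
set_option linter.all false

noncomputable section

namespace Cfsg.Agent.InvChar.Coset

open Cfsg.Agent.CosetCert Cfsg.Spor

variable {α : Type} [DecidableEq α] {edges : List (α × ℕ × α)} {extra : List (FreeGroup α)} {D : Table}

theorem index_of (P : CoxData edges extra D) (hD : Checked D) (s : Set (FreeGroup α)) (l : List (FreeGroup α))
    (hs : s = {r | r ∈ l})
    (hl : ∀ (A : Type) [Group A] (f : α → A) (g : ℕ → A), (∀ x, f x * f x = 1) → (∀ x, g (P.idx x) = f x) →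
      l.map (FreeGroup.lift f) = D.C.S.map (wprod g)) :
    ((Subgroup.closure s).map (PresentedGroup.mk (coxRelators edges ∪ {r | r ∈ extra}))).index = D.n :=
  index_eq hD P.gen (P.hom hD) (P.hom_gen hD) P.gen_sq P.gen_rel P.gen_top (P.map_closure s l hs hl)

theorem orbit_of (P : CoxData edges extra D) (hD : Checked D) (s : Set (FreeGroup α)) (l : List (FreeGroup α))
    (hs : s = {r | r ∈ l})
    (hl : ∀ (A : Type) [Group A] (f : α → A) (g : ℕ → A), (∀ x, f x * f x = 1) → (∀ x, g (P.idx x) = f x) →
      l.map (FreeGroup.lift f) = D.C.S.map (wprod g))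
    (O : Orbits) (hO : ∀ c < D.n, orbitOK D O c = true) :
    ∃ e : Fin D.n ≃ CoxPresented α edges extra ⧸
        (Subgroup.closure s).map (PresentedGroup.mk (coxRelators edges ∪ {r | r ∈ extra})),
      ∀ k : ℕ, ∀ hr : rootAt O.roots k < D.n, O.label (rootAt O.roots k) = k →
        MulAction.orbit ↥((Subgroup.closure s).map (PresentedGroup.mk (coxRelators edges ∪ {r | r ∈ extra})))
            (e ⟨rootAt O.roots k, hr⟩) = e '' {c : Fin D.n | O.label c = k} ∧
          (MulAction.orbit ↥((Subgroup.closure s).map (PresentedGroup.mk (coxRelators edges ∪ {r | r ∈ extra})))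
            (e ⟨rootAt O.roots k, hr⟩)).ncard = countLabel O k D.n :=
  orbit_sizes hD P.gen (P.hom hD) (P.hom_gen hD) P.gen_sq P.gen_rel P.gen_top (P.map_closure s l hs hl) O hO

/-- The inverse of an element with square one. -/
theorem inv_of_sq {A : Type*} [Group A] {a : A} (h : a * a = 1) : a⁻¹ = a := inv_eq_of_mul_eq_one_right h

/-- Push a product of self-inverse elements to the right. -/
theorem sq_cancel {A : Type*} [Group A] {a : A} (h : a * a = 1) (b : A) : a * (a * b) = b := by
  rw [← mul_assoc, h, one_mul]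

end Cfsg.Agent.InvChar.Coset
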