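import Cfsg.Agent.InvChar.Coset.Fi16Data
import Cfsg.Agent.InvChar.Coset.Fi16Steps0
import Cfsg.Agent.InvChar.Coset.Fi16Edges0

/-!
# Coset certificate check
-/

set_option autoImplicit false
set_option linter.all false

namespace Cfsg.Agent.InvChar.Coset.Fi16

open Cfsg.Agent.CosetCert

theorem stepsUpto0 : ∀ i < 60, stepOK cert i = true :=
  steps_add 0 60 (steps_zero cert) steps0

theorem edgesUpto0 : ∀ i < 16, ∀ x < table.C.K, EdgeAt table i x :=
  edges_add 0 16 (edges_zero table) edges0

theorem closed : Closed table where
  start := by decide +kernel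
  steps := stepsUpto0
  cells := edgesUpto0
  root := by decide +kernel
  pos := by decide +kernel


end Cfsg.Agent.InvChar.Coset.Fi16
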