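import Cfsg.Agent.InvChar.Coset.Fi22BData

/-!
# Coset certificate check, a part
-/

set_option autoImplicit false
set_option linter.all false

namespace Cfsg.Agent.InvChar.Coset.Fi22B

open Cfsg.Agent.CosetCert

theorem steps15 : rangeOK cert 15000 1000 = true := by decide +kernel

theorem steps16 : rangeOK cert 16000 1000 = true := by decide +kernel

theorem steps17 : rangeOK cert 17000 1000 = true := by decide +kernel

theorem steps18 : rangeOK cert 18000 918 = true := by decide +kernel

end Cfsg.Agent.InvChar.Coset.Fi22B
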