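import Cfsg.Prelude.Def_Spor_Fi22
import Cfsg.Agent.InvChar.Coset.Bridge
import Cfsg.Agent.InvChar.Coset.Fi22BCheck

/-!
# The cosets of the index 3510 subgroup in the presented group Fi22
-/

set_option autoImplicit false
set_option linter.all false

noncomputable section

namespace Cfsg.Agent.InvChar.Coset.Fi22B

open Cfsg.Agent.CosetCert Cfsg.Spor

def idx : Cfsg.Spor.Fi22.Gen → ℕ
  | .a => 0 | .b => 1 | .c => 2 | .d => 3 | .e => 4 | .f => 5 | .g => 6 | .h => 7 | .i => 8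

def ofIdx : ℕ → Cfsg.Spor.Fi22.Gen
  | 1 => .b | 2 => .c | 3 => .d | 4 => .e | 5 => .f | 6 => .g | 7 => .h | 8 => .i | _ => .a

def enum : List Cfsg.Spor.Fi22.Gen := [.a, .b, .c, .d, .e, .f, .g, .h, .i]

set_option maxHeartbeats 2000000 in
def data : CoxData Cfsg.Spor.Fi22.edges Cfsg.Spor.Fi22.extra table where
  idx := idx
  ofIdx := ofIdx
  enum := enum
  extW := table.C.W.drop 81
  left x := by cases x <;> rfl
  right := by
    show ∀ i < 9, idx (ofIdx i) = i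
    decide
  lt x := by cases x <;> decide
  mem x := by cases x <;> simp [enum]
  node x := by cases x <;> decide
  words := by decide +kernel
  ext A _ f g hf hg := by
    have e0 := hg .a; have e1 := hg .b; have e2 := hg .c; have e3 := hg .d
    have e4 := hg .e; have e5 := hg .f; have e6 := hg .g; have e7 := hg .h
    have e8 := hg .i
    simp only [idx] at e0 e1 e2 e3 e4 e5 e6 e7 e8
    simp [table, cert, words, Cfsg.Spor.Fi22.extra, Cfsg.Spor.Fi22.a, Cfsg.Spor.Fi22.b, Cfsg.Spor.Fi22.c, Cfsg.Spor.Fi22.d, Cfsg.Spor.Fi22.e, Cfsg.Spor.Fi22.f, Cfsg.Spor.Fi22.g, Cfsg.Spor.Fi22.h, Cfsg.Spor.Fi22.i,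
      wprod, pow_succ, mul_assoc, fun x => inv_of_sq (hf x), e0, e1, e2, e3, e4, e5, e6, e7, e8]

open Cfsg.Spor.Fi22 in
def subList : List (FreeGroup Cfsg.Spor.Fi22.Gen) := [a, c, d, e, f, g, h, i, (a * b * c * d * e * h) ^ 5]

theorem subList_map (A : Type) [Group A] (h : Cfsg.Spor.Fi22.Gen → A) (g : ℕ → A) (hf : ∀ x, h x * h x = 1)
    (hg : ∀ x, g (data.idx x) = h x) :
    subList.map (FreeGroup.lift h) = table.C.S.map (wprod g) := by
  have e0 := hg .a; have e1 := hg .b; have e2 := hg .c; have e3 := hg .d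
  have e4 := hg .e; have e5 := hg .f; have e6 := hg .g; have e7 := hg .h
  have e8 := hg .i
  simp only [data, idx] at e0 e1 e2 e3 e4 e5 e6 e7 e8
  simp [subList, table, cert, subs, wprod, pow_succ, mul_assoc, Cfsg.Spor.Fi22.a, Cfsg.Spor.Fi22.b, Cfsg.Spor.Fi22.c, Cfsg.Spor.Fi22.d, Cfsg.Spor.Fi22.e, Cfsg.Spor.Fi22.f, Cfsg.Spor.Fi22.g, Cfsg.Spor.Fi22.h, Cfsg.Spor.Fi22.i,
    e0, e1, e2, e3, e4, e5, e6, e7, e8]

end Cfsg.Agent.InvChar.Coset.Fi22B
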