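import Cfsg.Agent.InvChar.Coset.Fi3159Data

/-!
# Coset certificate check, a part
-/

set_option autoImplicit false
set_option linter.all false

namespace Cfsg.Agent.InvChar.Coset.Fi3159

open Cfsg.Agent.CosetCert

theorem steps0 : rangeOK cert 0 1000 = true := by decide +kernel

theorem steps1 : rangeOK cert 1000 1000 = true := by decide +kernel

theorem steps2 : rangeOK cert 2000 1000 = true := by decide +kernel

theorem steps3 : rangeOK cert 3000 1000 = true := by decide +kernel

theorem steps4 : rangeOK cert 4000 1000 = true := by decide +kernel

theorem steps5 : rangeOK cert 5000 1000 = true := by decide +kernel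

theorem steps6 : rangeOK cert 6000 1000 = true := by decide +kernel

theorem steps7 : rangeOK cert 7000 1000 = true := by decide +kernel

theorem steps8 : rangeOK cert 8000 1000 = true := by decide +kernel

theorem steps9 : rangeOK cert 9000 1000 = true := by decide +kernel

theorem steps10 : rangeOK cert 10000 1000 = true := by decide +kernel

theorem steps11 : rangeOK cert 11000 1000 = true := by decide +kernel

theorem steps12 : rangeOK cert 12000 1000 = true := by decide +kernel

theorem steps13 : rangeOK cert 13000 1000 = true := by decide +kernel

theorem steps14 : rangeOK cert 14000 1000 = true := by decide +kernel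

end Cfsg.Agent.InvChar.Coset.Fi3159
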