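import Cfsg.Agent.InvChar.Coset.Fi3159Data

/-!
# Coset certificate check, a part
-/

set_option autoImplicit false
set_option linter.all false

namespace Cfsg.Agent.InvChar.Coset.Fi3159

open Cfsg.Agent.CosetCert

theorem steps60 : rangeOK cert 60000 1000 = true := by decide +kernel

theorem steps61 : rangeOK cert 61000 1000 = true := by decide +kernel

theorem steps62 : rangeOK cert 62000 1000 = true := by decide +kernel

theorem steps63 : rangeOK cert 63000 1000 = true := by decide +kernel

theorem steps64 : rangeOK cert 64000 1000 = true := by decide +kernel

theorem steps65 : rangeOK cert 65000 1000 = true := by decide +kernel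

theorem steps66 : rangeOK cert 66000 1000 = true := by decide +kernel

theorem steps67 : rangeOK cert 67000 1000 = true := by decide +kernel

theorem steps68 : rangeOK cert 68000 1000 = true := by decide +kernel

theorem steps69 : rangeOK cert 69000 1000 = true := by decide +kernel

theorem steps70 : rangeOK cert 70000 1000 = true := by decide +kernel

theorem steps71 : rangeOK cert 71000 1000 = true := by decide +kernel

theorem steps72 : rangeOK cert 72000 1000 = true := by decide +kernel

theorem steps73 : rangeOK cert 73000 1000 = true := by decide +kernel

theorem steps74 : rangeOK cert 74000 1000 = true := by decide +kernel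

end Cfsg.Agent.InvChar.Coset.Fi3159
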