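import Cfsg.Agent.InvChar.Coset.Fi3159Data
import Cfsg.Agent.InvChar.Coset.Fi3159Steps0
import Cfsg.Agent.InvChar.Coset.Fi3159Steps1
import Cfsg.Agent.InvChar.Coset.Fi3159Steps2
import Cfsg.Agent.InvChar.Coset.Fi3159Steps3
import Cfsg.Agent.InvChar.Coset.Fi3159Steps4
import Cfsg.Agent.InvChar.Coset.Fi3159Steps5
import Cfsg.Agent.InvChar.Coset.Fi3159Steps6
import Cfsg.Agent.InvChar.Coset.Fi3159Steps7
import Cfsg.Agent.InvChar.Coset.Fi3159Rows0
import Cfsg.Agent.InvChar.Coset.Fi3159Orbits0

/-!
# Coset certificate check
-/

set_option autoImplicit false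
set_option linter.all false

namespace Cfsg.Agent.InvChar.Coset.Fi3159

open Cfsg.Agent.CosetCert

theorem stepsUpto0 : ∀ i < 1000, stepOK cert i = true :=
  steps_add 0 1000 (steps_zero cert) steps0

theorem stepsUpto1 : ∀ i < 2000, stepOK cert i = true :=
  steps_add 1000 1000 (stepsUpto0) steps1

theorem stepsUpto2 : ∀ i < 3000, stepOK cert i = true :=
  steps_add 2000 1000 (stepsUpto1) steps2

theorem stepsUpto3 : ∀ i < 4000, stepOK cert i = true :=
  steps_add 3000 1000 (stepsUpto2) steps3

theorem stepsUpto4 : ∀ i < 5000, stepOK cert i = true :=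
  steps_add 4000 1000 (stepsUpto3) steps4

theorem stepsUpto5 : ∀ i < 6000, stepOK cert i = true :=
  steps_add 5000 1000 (stepsUpto4) steps5

theorem stepsUpto6 : ∀ i < 7000, stepOK cert i = true :=
  steps_add 6000 1000 (stepsUpto5) steps6

theorem stepsUpto7 : ∀ i < 8000, stepOK cert i = true :=
  steps_add 7000 1000 (stepsUpto6) steps7

theorem stepsUpto8 : ∀ i < 9000, stepOK cert i = true :=
  steps_add 8000 1000 (stepsUpto7) steps8

theorem stepsUpto9 : ∀ i < 10000, stepOK cert i = true :=
  steps_add 9000 1000 (stepsUpto8) steps9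

theorem stepsUpto10 : ∀ i < 11000, stepOK cert i = true :=
  steps_add 10000 1000 (stepsUpto9) steps10

theorem stepsUpto11 : ∀ i < 12000, stepOK cert i = true :=
  steps_add 11000 1000 (stepsUpto10) steps11

theorem stepsUpto12 : ∀ i < 13000, stepOK cert i = true :=
  steps_add 12000 1000 (stepsUpto11) steps12

theorem stepsUpto13 : ∀ i < 14000, stepOK cert i = true :=
  steps_add 13000 1000 (stepsUpto12) steps13

theorem stepsUpto14 : ∀ i < 15000, stepOK cert i = true :=
  steps_add 14000 1000 (stepsUpto13) steps14

theorem stepsUpto15 : ∀ i < 16000, stepOK cert i = true :=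
  steps_add 15000 1000 (stepsUpto14) steps15

theorem stepsUpto16 : ∀ i < 17000, stepOK cert i = true :=
  steps_add 16000 1000 (stepsUpto15) steps16

theorem stepsUpto17 : ∀ i < 18000, stepOK cert i = true :=
  steps_add 17000 1000 (stepsUpto16) steps17

theorem stepsUpto18 : ∀ i < 19000, stepOK cert i = true :=
  steps_add 18000 1000 (stepsUpto17) steps18

theorem stepsUpto19 : ∀ i < 20000, stepOK cert i = true :=
  steps_add 19000 1000 (stepsUpto18) steps19

theorem stepsUpto20 : ∀ i < 21000, stepOK cert i = true :=
  steps_add 20000 1000 (stepsUpto19) steps20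

theorem stepsUpto21 : ∀ i < 22000, stepOK cert i = true :=
  steps_add 21000 1000 (stepsUpto20) steps21

theorem stepsUpto22 : ∀ i < 23000, stepOK cert i = true :=
  steps_add 22000 1000 (stepsUpto21) steps22

theorem stepsUpto23 : ∀ i < 24000, stepOK cert i = true :=
  steps_add 23000 1000 (stepsUpto22) steps23

theorem stepsUpto24 : ∀ i < 25000, stepOK cert i = true :=
  steps_add 24000 1000 (stepsUpto23) steps24

theorem stepsUpto25 : ∀ i < 26000, stepOK cert i = true :=
  steps_add 25000 1000 (stepsUpto24) steps25

theorem stepsUpto26 : ∀ i < 27000, stepOK cert i = true :=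
  steps_add 26000 1000 (stepsUpto25) steps26

theorem stepsUpto27 : ∀ i < 28000, stepOK cert i = true :=
  steps_add 27000 1000 (stepsUpto26) steps27

theorem stepsUpto28 : ∀ i < 29000, stepOK cert i = true :=
  steps_add 28000 1000 (stepsUpto27) steps28

theorem stepsUpto29 : ∀ i < 30000, stepOK cert i = true :=
  steps_add 29000 1000 (stepsUpto28) steps29

theorem stepsUpto30 : ∀ i < 31000, stepOK cert i = true :=
  steps_add 30000 1000 (stepsUpto29) steps30

theorem stepsUpto31 : ∀ i < 32000, stepOK cert i = true :=
  steps_add 31000 1000 (stepsUpto30) steps31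

theorem stepsUpto32 : ∀ i < 33000, stepOK cert i = true :=
  steps_add 32000 1000 (stepsUpto31) steps32

theorem stepsUpto33 : ∀ i < 34000, stepOK cert i = true :=
  steps_add 33000 1000 (stepsUpto32) steps33

theorem stepsUpto34 : ∀ i < 35000, stepOK cert i = true :=
  steps_add 34000 1000 (stepsUpto33) steps34

theorem stepsUpto35 : ∀ i < 36000, stepOK cert i = true :=
  steps_add 35000 1000 (stepsUpto34) steps35

theorem stepsUpto36 : ∀ i < 37000, stepOK cert i = true :=
  steps_add 36000 1000 (stepsUpto35) steps36

theorem stepsUpto37 : ∀ i < 38000, stepOK cert i = true :=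
  steps_add 37000 1000 (stepsUpto36) steps37

theorem stepsUpto38 : ∀ i < 39000, stepOK cert i = true :=
  steps_add 38000 1000 (stepsUpto37) steps38

theorem stepsUpto39 : ∀ i < 40000, stepOK cert i = true :=
  steps_add 39000 1000 (stepsUpto38) steps39

theorem stepsUpto40 : ∀ i < 41000, stepOK cert i = true :=
  steps_add 40000 1000 (stepsUpto39) steps40

theorem stepsUpto41 : ∀ i < 42000, stepOK cert i = true :=
  steps_add 41000 1000 (stepsUpto40) steps41

theorem stepsUpto42 : ∀ i < 43000, stepOK cert i = true :=
  steps_add 42000 1000 (stepsUpto41) steps42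

theorem stepsUpto43 : ∀ i < 44000, stepOK cert i = true :=
  steps_add 43000 1000 (stepsUpto42) steps43

theorem stepsUpto44 : ∀ i < 45000, stepOK cert i = true :=
  steps_add 44000 1000 (stepsUpto43) steps44

theorem stepsUpto45 : ∀ i < 46000, stepOK cert i = true :=
  steps_add 45000 1000 (stepsUpto44) steps45

theorem stepsUpto46 : ∀ i < 47000, stepOK cert i = true :=
  steps_add 46000 1000 (stepsUpto45) steps46

theorem stepsUpto47 : ∀ i < 48000, stepOK cert i = true :=
  steps_add 47000 1000 (stepsUpto46) steps47

theorem stepsUpto48 : ∀ i < 49000, stepOK cert i = true :=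
  steps_add 48000 1000 (stepsUpto47) steps48

theorem stepsUpto49 : ∀ i < 50000, stepOK cert i = true :=
  steps_add 49000 1000 (stepsUpto48) steps49

theorem stepsUpto50 : ∀ i < 51000, stepOK cert i = true :=
  steps_add 50000 1000 (stepsUpto49) steps50

theorem stepsUpto51 : ∀ i < 52000, stepOK cert i = true :=
  steps_add 51000 1000 (stepsUpto50) steps51

theorem stepsUpto52 : ∀ i < 53000, stepOK cert i = true :=
  steps_add 52000 1000 (stepsUpto51) steps52

theorem stepsUpto53 : ∀ i < 54000, stepOK cert i = true :=
  steps_add 53000 1000 (stepsUpto52) steps53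

theorem stepsUpto54 : ∀ i < 55000, stepOK cert i = true :=
  steps_add 54000 1000 (stepsUpto53) steps54

theorem stepsUpto55 : ∀ i < 56000, stepOK cert i = true :=
  steps_add 55000 1000 (stepsUpto54) steps55

theorem stepsUpto56 : ∀ i < 57000, stepOK cert i = true :=
  steps_add 56000 1000 (stepsUpto55) steps56

theorem stepsUpto57 : ∀ i < 58000, stepOK cert i = true :=
  steps_add 57000 1000 (stepsUpto56) steps57

theorem stepsUpto58 : ∀ i < 59000, stepOK cert i = true :=
  steps_add 58000 1000 (stepsUpto57) steps58

theorem stepsUpto59 : ∀ i < 60000, stepOK cert i = true :=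
  steps_add 59000 1000 (stepsUpto58) steps59

theorem stepsUpto60 : ∀ i < 61000, stepOK cert i = true :=
  steps_add 60000 1000 (stepsUpto59) steps60

theorem stepsUpto61 : ∀ i < 62000, stepOK cert i = true :=
  steps_add 61000 1000 (stepsUpto60) steps61

theorem stepsUpto62 : ∀ i < 63000, stepOK cert i = true :=
  steps_add 62000 1000 (stepsUpto61) steps62

theorem stepsUpto63 : ∀ i < 64000, stepOK cert i = true :=
  steps_add 63000 1000 (stepsUpto62) steps63

theorem stepsUpto64 : ∀ i < 65000, stepOK cert i = true :=
  steps_add 64000 1000 (stepsUpto63) steps64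

theorem stepsUpto65 : ∀ i < 66000, stepOK cert i = true :=
  steps_add 65000 1000 (stepsUpto64) steps65

theorem stepsUpto66 : ∀ i < 67000, stepOK cert i = true :=
  steps_add 66000 1000 (stepsUpto65) steps66

theorem stepsUpto67 : ∀ i < 68000, stepOK cert i = true :=
  steps_add 67000 1000 (stepsUpto66) steps67

theorem stepsUpto68 : ∀ i < 69000, stepOK cert i = true :=
  steps_add 68000 1000 (stepsUpto67) steps68

theorem stepsUpto69 : ∀ i < 70000, stepOK cert i = true :=
  steps_add 69000 1000 (stepsUpto68) steps69

theorem stepsUpto70 : ∀ i < 71000, stepOK cert i = true :=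
  steps_add 70000 1000 (stepsUpto69) steps70

theorem stepsUpto71 : ∀ i < 72000, stepOK cert i = true :=
  steps_add 71000 1000 (stepsUpto70) steps71

theorem stepsUpto72 : ∀ i < 73000, stepOK cert i = true :=
  steps_add 72000 1000 (stepsUpto71) steps72

theorem stepsUpto73 : ∀ i < 74000, stepOK cert i = true :=
  steps_add 73000 1000 (stepsUpto72) steps73

theorem stepsUpto74 : ∀ i < 75000, stepOK cert i = true :=
  steps_add 74000 1000 (stepsUpto73) steps74

theorem stepsUpto75 : ∀ i < 76000, stepOK cert i = true :=
  steps_add 75000 1000 (stepsUpto74) steps75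

theorem stepsUpto76 : ∀ i < 77000, stepOK cert i = true :=
  steps_add 76000 1000 (stepsUpto75) steps76

theorem stepsUpto77 : ∀ i < 78000, stepOK cert i = true :=
  steps_add 77000 1000 (stepsUpto76) steps77

theorem stepsUpto78 : ∀ i < 79000, stepOK cert i = true :=
  steps_add 78000 1000 (stepsUpto77) steps78

theorem stepsUpto79 : ∀ i < 80000, stepOK cert i = true :=
  steps_add 79000 1000 (stepsUpto78) steps79

theorem stepsUpto80 : ∀ i < 81000, stepOK cert i = true :=
  steps_add 80000 1000 (stepsUpto79) steps80

theorem stepsUpto81 : ∀ i < 82000, stepOK cert i = true :=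
  steps_add 81000 1000 (stepsUpto80) steps81

theorem stepsUpto82 : ∀ i < 83000, stepOK cert i = true :=
  steps_add 82000 1000 (stepsUpto81) steps82

theorem stepsUpto83 : ∀ i < 84000, stepOK cert i = true :=
  steps_add 83000 1000 (stepsUpto82) steps83

theorem stepsUpto84 : ∀ i < 85000, stepOK cert i = true :=
  steps_add 84000 1000 (stepsUpto83) steps84

theorem stepsUpto85 : ∀ i < 86000, stepOK cert i = true :=
  steps_add 85000 1000 (stepsUpto84) steps85

theorem stepsUpto86 : ∀ i < 87000, stepOK cert i = true :=
  steps_add 86000 1000 (stepsUpto85) steps86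

theorem stepsUpto87 : ∀ i < 88000, stepOK cert i = true :=
  steps_add 87000 1000 (stepsUpto86) steps87

theorem stepsUpto88 : ∀ i < 89000, stepOK cert i = true :=
  steps_add 88000 1000 (stepsUpto87) steps88

theorem stepsUpto89 : ∀ i < 90000, stepOK cert i = true :=
  steps_add 89000 1000 (stepsUpto88) steps89

theorem stepsUpto90 : ∀ i < 91000, stepOK cert i = true :=
  steps_add 90000 1000 (stepsUpto89) steps90

theorem stepsUpto91 : ∀ i < 92000, stepOK cert i = true :=
  steps_add 91000 1000 (stepsUpto90) steps91

theorem stepsUpto92 : ∀ i < 93000, stepOK cert i = true :=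
  steps_add 92000 1000 (stepsUpto91) steps92

theorem stepsUpto93 : ∀ i < 94000, stepOK cert i = true :=
  steps_add 93000 1000 (stepsUpto92) steps93

theorem stepsUpto94 : ∀ i < 95000, stepOK cert i = true :=
  steps_add 94000 1000 (stepsUpto93) steps94

theorem stepsUpto95 : ∀ i < 96000, stepOK cert i = true :=
  steps_add 95000 1000 (stepsUpto94) steps95

theorem stepsUpto96 : ∀ i < 97000, stepOK cert i = true :=
  steps_add 96000 1000 (stepsUpto95) steps96

theorem stepsUpto97 : ∀ i < 98000, stepOK cert i = true :=
  steps_add 97000 1000 (stepsUpto96) steps97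

theorem stepsUpto98 : ∀ i < 99000, stepOK cert i = true :=
  steps_add 98000 1000 (stepsUpto97) steps98

theorem stepsUpto99 : ∀ i < 100000, stepOK cert i = true :=
  steps_add 99000 1000 (stepsUpto98) steps99

theorem stepsUpto100 : ∀ i < 101000, stepOK cert i = true :=
  steps_add 100000 1000 (stepsUpto99) steps100

theorem stepsUpto101 : ∀ i < 102000, stepOK cert i = true :=
  steps_add 101000 1000 (stepsUpto100) steps101

theorem stepsUpto102 : ∀ i < 103000, stepOK cert i = true :=
  steps_add 102000 1000 (stepsUpto101) steps102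

theorem stepsUpto103 : ∀ i < 104000, stepOK cert i = true :=
  steps_add 103000 1000 (stepsUpto102) steps103

theorem stepsUpto104 : ∀ i < 105000, stepOK cert i = true :=
  steps_add 104000 1000 (stepsUpto103) steps104

theorem stepsUpto105 : ∀ i < 106000, stepOK cert i = true :=
  steps_add 105000 1000 (stepsUpto104) steps105

theorem stepsUpto106 : ∀ i < 107000, stepOK cert i = true :=
  steps_add 106000 1000 (stepsUpto105) steps106

theorem stepsUpto107 : ∀ i < 108000, stepOK cert i = true :=
  steps_add 107000 1000 (stepsUpto106) steps107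

theorem stepsUpto108 : ∀ i < 109000, stepOK cert i = true :=
  steps_add 108000 1000 (stepsUpto107) steps108

theorem stepsUpto109 : ∀ i < 110000, stepOK cert i = true :=
  steps_add 109000 1000 (stepsUpto108) steps109

theorem stepsUpto110 : ∀ i < 111000, stepOK cert i = true :=
  steps_add 110000 1000 (stepsUpto109) steps110

theorem stepsUpto111 : ∀ i < 112000, stepOK cert i = true :=
  steps_add 111000 1000 (stepsUpto110) steps111

theorem stepsUpto112 : ∀ i < 113000, stepOK cert i = true :=
  steps_add 112000 1000 (stepsUpto111) steps112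

theorem stepsUpto113 : ∀ i < 114000, stepOK cert i = true :=
  steps_add 113000 1000 (stepsUpto112) steps113

theorem stepsUpto114 : ∀ i < 115000, stepOK cert i = true :=
  steps_add 114000 1000 (stepsUpto113) steps114

theorem stepsUpto115 : ∀ i < 116000, stepOK cert i = true :=
  steps_add 115000 1000 (stepsUpto114) steps115

theorem stepsUpto116 : ∀ i < 117000, stepOK cert i = true :=
  steps_add 116000 1000 (stepsUpto115) steps116

theorem stepsUpto117 : ∀ i < 117879, stepOK cert i = true :=
  steps_add 117000 879 (stepsUpto116) steps117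

theorem rowsUpto0 : ∀ i < 100, rowOK table i = true :=
  rows_add 0 100 (rows_zero table) rows0

theorem rowsUpto1 : ∀ i < 200, rowOK table i = true :=
  rows_add 100 100 (rowsUpto0) rows1

theorem rowsUpto2 : ∀ i < 300, rowOK table i = true :=
  rows_add 200 100 (rowsUpto1) rows2

theorem rowsUpto3 : ∀ i < 400, rowOK table i = true :=
  rows_add 300 100 (rowsUpto2) rows3

theorem rowsUpto4 : ∀ i < 500, rowOK table i = true :=
  rows_add 400 100 (rowsUpto3) rows4

theorem rowsUpto5 : ∀ i < 600, rowOK table i = true :=
  rows_add 500 100 (rowsUpto4) rows5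

theorem rowsUpto6 : ∀ i < 700, rowOK table i = true :=
  rows_add 600 100 (rowsUpto5) rows6

theorem rowsUpto7 : ∀ i < 800, rowOK table i = true :=
  rows_add 700 100 (rowsUpto6) rows7

theorem rowsUpto8 : ∀ i < 900, rowOK table i = true :=
  rows_add 800 100 (rowsUpto7) rows8

theorem rowsUpto9 : ∀ i < 1000, rowOK table i = true :=
  rows_add 900 100 (rowsUpto8) rows9

theorem rowsUpto10 : ∀ i < 1100, rowOK table i = true :=
  rows_add 1000 100 (rowsUpto9) rows10

theorem rowsUpto11 : ∀ i < 1200, rowOK table i = true :=
  rows_add 1100 100 (rowsUpto10) rows11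

theorem rowsUpto12 : ∀ i < 1300, rowOK table i = true :=
  rows_add 1200 100 (rowsUpto11) rows12

theorem rowsUpto13 : ∀ i < 1400, rowOK table i = true :=
  rows_add 1300 100 (rowsUpto12) rows13

theorem rowsUpto14 : ∀ i < 1500, rowOK table i = true :=
  rows_add 1400 100 (rowsUpto13) rows14

theorem rowsUpto15 : ∀ i < 1600, rowOK table i = true :=
  rows_add 1500 100 (rowsUpto14) rows15

theorem rowsUpto16 : ∀ i < 1700, rowOK table i = true :=
  rows_add 1600 100 (rowsUpto15) rows16

theorem rowsUpto17 : ∀ i < 1800, rowOK table i = true :=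
  rows_add 1700 100 (rowsUpto16) rows17

theorem rowsUpto18 : ∀ i < 1900, rowOK table i = true :=
  rows_add 1800 100 (rowsUpto17) rows18

theorem rowsUpto19 : ∀ i < 2000, rowOK table i = true :=
  rows_add 1900 100 (rowsUpto18) rows19

theorem rowsUpto20 : ∀ i < 2100, rowOK table i = true :=
  rows_add 2000 100 (rowsUpto19) rows20

theorem rowsUpto21 : ∀ i < 2200, rowOK table i = true :=
  rows_add 2100 100 (rowsUpto20) rows21

theorem rowsUpto22 : ∀ i < 2300, rowOK table i = true :=
  rows_add 2200 100 (rowsUpto21) rows22

theorem rowsUpto23 : ∀ i < 2400, rowOK table i = true :=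
  rows_add 2300 100 (rowsUpto22) rows23

theorem rowsUpto24 : ∀ i < 2500, rowOK table i = true :=
  rows_add 2400 100 (rowsUpto23) rows24

theorem rowsUpto25 : ∀ i < 2600, rowOK table i = true :=
  rows_add 2500 100 (rowsUpto24) rows25

theorem rowsUpto26 : ∀ i < 2700, rowOK table i = true :=
  rows_add 2600 100 (rowsUpto25) rows26

theorem rowsUpto27 : ∀ i < 2800, rowOK table i = true :=
  rows_add 2700 100 (rowsUpto26) rows27

theorem rowsUpto28 : ∀ i < 2900, rowOK table i = true :=
  rows_add 2800 100 (rowsUpto27) rows28

theorem rowsUpto29 : ∀ i < 3000, rowOK table i = true :=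
  rows_add 2900 100 (rowsUpto28) rows29

theorem rowsUpto30 : ∀ i < 3100, rowOK table i = true :=
  rows_add 3000 100 (rowsUpto29) rows30

theorem rowsUpto31 : ∀ i < 3159, rowOK table i = true :=
  rows_add 3100 59 (rowsUpto30) rows31

theorem checked : Checked table where
  start := by decide +kernel
  steps := stepsUpto117
  rows := rowsUpto31
  lettersW := by decide +kernel
  lettersS := by decide +kernel
  fixS := by decide +kernel
  pos := by decide +kernel

theorem orbitsUpto0 : ∀ i < 200, orbitOK table orbits i = true :=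
  orbits_add 0 200 (orbits_zero table orbits) orbits0

theorem orbitsUpto1 : ∀ i < 400, orbitOK table orbits i = true :=
  orbits_add 200 200 (orbitsUpto0) orbits1

theorem orbitsUpto2 : ∀ i < 600, orbitOK table orbits i = true :=
  orbits_add 400 200 (orbitsUpto1) orbits2

theorem orbitsUpto3 : ∀ i < 800, orbitOK table orbits i = true :=
  orbits_add 600 200 (orbitsUpto2) orbits3

theorem orbitsUpto4 : ∀ i < 1000, orbitOK table orbits i = true :=
  orbits_add 800 200 (orbitsUpto3) orbits4

theorem orbitsUpto5 : ∀ i < 1200, orbitOK table orbits i = true :=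
  orbits_add 1000 200 (orbitsUpto4) orbits5

theorem orbitsUpto6 : ∀ i < 1400, orbitOK table orbits i = true :=
  orbits_add 1200 200 (orbitsUpto5) orbits6

theorem orbitsUpto7 : ∀ i < 1600, orbitOK table orbits i = true :=
  orbits_add 1400 200 (orbitsUpto6) orbits7

theorem orbitsUpto8 : ∀ i < 1800, orbitOK table orbits i = true :=
  orbits_add 1600 200 (orbitsUpto7) orbits8

theorem orbitsUpto9 : ∀ i < 2000, orbitOK table orbits i = true :=
  orbits_add 1800 200 (orbitsUpto8) orbits9

theorem orbitsUpto10 : ∀ i < 2200, orbitOK table orbits i = true :=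
  orbits_add 2000 200 (orbitsUpto9) orbits10

theorem orbitsUpto11 : ∀ i < 2400, orbitOK table orbits i = true :=
  orbits_add 2200 200 (orbitsUpto10) orbits11

theorem orbitsUpto12 : ∀ i < 2600, orbitOK table orbits i = true :=
  orbits_add 2400 200 (orbitsUpto11) orbits12

theorem orbitsUpto13 : ∀ i < 2800, orbitOK table orbits i = true :=
  orbits_add 2600 200 (orbitsUpto12) orbits13

theorem orbitsUpto14 : ∀ i < 3000, orbitOK table orbits i = true :=
  orbits_add 2800 200 (orbitsUpto13) orbits14

theorem orbitsUpto15 : ∀ i < 3159, orbitOK table orbits i = true :=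
  orbits_add 3000 159 (orbitsUpto14) orbits15

theorem orbits_ok : ∀ i < 3159, orbitOK table orbits i = true := orbitsUpto15

theorem count0 : countLabel orbits 0 3159 = 1 := by decide +kernel

theorem count1 : countLabel orbits 1 3159 = 288 := by decide +kernel

theorem count2 : countLabel orbits 2 3159 = 630 := by decide +kernel

theorem count3 : countLabel orbits 3 3159 = 2240 := by decide +kernel


end Cfsg.Agent.InvChar.Coset.Fi3159
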