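import Cfsg.Agent.InvChar.Coset.FiTopData

/-!
# Coset certificate check, a part
-/

set_option autoImplicit false
set_option linter.all false

namespace Cfsg.Agent.InvChar.Coset.FiTop

open Cfsg.Agent.CosetCert

theorem steps45 : rangeOK cert 45000 1000 = true := by decide +kernel

theorem steps46 : rangeOK cert 46000 1000 = true := by decide +kernel

theorem steps47 : rangeOK cert 47000 1000 = true := by decide +kernel

theorem steps48 : rangeOK cert 48000 1000 = true := by decide +kernel

theorem steps49 : rangeOK cert 49000 1000 = true := by decide +kernel

theorem steps50 : rangeOK cert 50000 1000 = true := by decide +kernel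

theorem steps51 : rangeOK cert 51000 1000 = true := by decide +kernel

theorem steps52 : rangeOK cert 52000 1000 = true := by decide +kernel

theorem steps53 : rangeOK cert 53000 1000 = true := by decide +kernel

theorem steps54 : rangeOK cert 54000 1000 = true := by decide +kernel

theorem steps55 : rangeOK cert 55000 1000 = true := by decide +kernel

theorem steps56 : rangeOK cert 56000 1000 = true := by decide +kernel

theorem steps57 : rangeOK cert 57000 1000 = true := by decide +kernel

theorem steps58 : rangeOK cert 58000 1000 = true := by decide +kernel

theorem steps59 : rangeOK cert 59000 1000 = true := by decide +kernel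

end Cfsg.Agent.InvChar.Coset.FiTop
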