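import Cfsg.Agent.InvChar.Coset.FiTopData
import Cfsg.Agent.InvChar.Coset.FiTopSteps0
import Cfsg.Agent.InvChar.Coset.FiTopSteps1
import Cfsg.Agent.InvChar.Coset.FiTopSteps2
import Cfsg.Agent.InvChar.Coset.FiTopSteps3
import Cfsg.Agent.InvChar.Coset.FiTopSteps4
import Cfsg.Agent.InvChar.Coset.FiTopSteps5
import Cfsg.Agent.InvChar.Coset.FiTopSteps6
import Cfsg.Agent.InvChar.Coset.FiTopEdges0

/-!
# Coset certificate check
-/

set_option autoImplicit false
set_option linter.all false

namespace Cfsg.Agent.InvChar.Coset.FiTop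

open Cfsg.Agent.CosetCert

theorem stepsUpto0 : ∀ i < 1000, stepOK cert i = true :=
  steps_add 0 1000 (steps_zero cert) steps0

theorem stepsUpto1 : ∀ i < 2000, stepOK cert i = true :=
  steps_add 1000 1000 (stepsUpto0) steps1

theorem stepsUpto2 : ∀ i < 3000, stepOK cert i = true :=
  steps_add 2000 1000 (stepsUpto1) steps2

theorem stepsUpto3 : ∀ i < 4000, stepOK cert i = true :=
  steps_add 3000 1000 (stepsUpto2) steps3

theorem stepsUpto4 : ∀ i < 5000, stepOK cert i = true :=
  steps_add 4000 1000 (stepsUpto3) steps4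

theorem stepsUpto5 : ∀ i < 6000, stepOK cert i = true :=
  steps_add 5000 1000 (stepsUpto4) steps5

theorem stepsUpto6 : ∀ i < 7000, stepOK cert i = true :=
  steps_add 6000 1000 (stepsUpto5) steps6

theorem stepsUpto7 : ∀ i < 8000, stepOK cert i = true :=
  steps_add 7000 1000 (stepsUpto6) steps7

theorem stepsUpto8 : ∀ i < 9000, stepOK cert i = true :=
  steps_add 8000 1000 (stepsUpto7) steps8

theorem stepsUpto9 : ∀ i < 10000, stepOK cert i = true :=
  steps_add 9000 1000 (stepsUpto8) steps9

theorem stepsUpto10 : ∀ i < 11000, stepOK cert i = true :=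
  steps_add 10000 1000 (stepsUpto9) steps10

theorem stepsUpto11 : ∀ i < 12000, stepOK cert i = true :=
  steps_add 11000 1000 (stepsUpto10) steps11

theorem stepsUpto12 : ∀ i < 13000, stepOK cert i = true :=
  steps_add 12000 1000 (stepsUpto11) steps12

theorem stepsUpto13 : ∀ i < 14000, stepOK cert i = true :=
  steps_add 13000 1000 (stepsUpto12) steps13

theorem stepsUpto14 : ∀ i < 15000, stepOK cert i = true :=
  steps_add 14000 1000 (stepsUpto13) steps14

theorem stepsUpto15 : ∀ i < 16000, stepOK cert i = true :=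
  steps_add 15000 1000 (stepsUpto14) steps15

theorem stepsUpto16 : ∀ i < 17000, stepOK cert i = true :=
  steps_add 16000 1000 (stepsUpto15) steps16

theorem stepsUpto17 : ∀ i < 18000, stepOK cert i = true :=
  steps_add 17000 1000 (stepsUpto16) steps17

theorem stepsUpto18 : ∀ i < 19000, stepOK cert i = true :=
  steps_add 18000 1000 (stepsUpto17) steps18

theorem stepsUpto19 : ∀ i < 20000, stepOK cert i = true :=
  steps_add 19000 1000 (stepsUpto18) steps19

theorem stepsUpto20 : ∀ i < 21000, stepOK cert i = true :=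
  steps_add 20000 1000 (stepsUpto19) steps20

theorem stepsUpto21 : ∀ i < 22000, stepOK cert i = true :=
  steps_add 21000 1000 (stepsUpto20) steps21

theorem stepsUpto22 : ∀ i < 23000, stepOK cert i = true :=
  steps_add 22000 1000 (stepsUpto21) steps22

theorem stepsUpto23 : ∀ i < 24000, stepOK cert i = true :=
  steps_add 23000 1000 (stepsUpto22) steps23

theorem stepsUpto24 : ∀ i < 25000, stepOK cert i = true :=
  steps_add 24000 1000 (stepsUpto23) steps24

theorem stepsUpto25 : ∀ i < 26000, stepOK cert i = true :=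
  steps_add 25000 1000 (stepsUpto24) steps25

theorem stepsUpto26 : ∀ i < 27000, stepOK cert i = true :=
  steps_add 26000 1000 (stepsUpto25) steps26

theorem stepsUpto27 : ∀ i < 28000, stepOK cert i = true :=
  steps_add 27000 1000 (stepsUpto26) steps27

theorem stepsUpto28 : ∀ i < 29000, stepOK cert i = true :=
  steps_add 28000 1000 (stepsUpto27) steps28

theorem stepsUpto29 : ∀ i < 30000, stepOK cert i = true :=
  steps_add 29000 1000 (stepsUpto28) steps29

theorem stepsUpto30 : ∀ i < 31000, stepOK cert i = true :=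
  steps_add 30000 1000 (stepsUpto29) steps30

theorem stepsUpto31 : ∀ i < 32000, stepOK cert i = true :=
  steps_add 31000 1000 (stepsUpto30) steps31

theorem stepsUpto32 : ∀ i < 33000, stepOK cert i = true :=
  steps_add 32000 1000 (stepsUpto31) steps32

theorem stepsUpto33 : ∀ i < 34000, stepOK cert i = true :=
  steps_add 33000 1000 (stepsUpto32) steps33

theorem stepsUpto34 : ∀ i < 35000, stepOK cert i = true :=
  steps_add 34000 1000 (stepsUpto33) steps34

theorem stepsUpto35 : ∀ i < 36000, stepOK cert i = true :=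
  steps_add 35000 1000 (stepsUpto34) steps35

theorem stepsUpto36 : ∀ i < 37000, stepOK cert i = true :=
  steps_add 36000 1000 (stepsUpto35) steps36

theorem stepsUpto37 : ∀ i < 38000, stepOK cert i = true :=
  steps_add 37000 1000 (stepsUpto36) steps37

theorem stepsUpto38 : ∀ i < 39000, stepOK cert i = true :=
  steps_add 38000 1000 (stepsUpto37) steps38

theorem stepsUpto39 : ∀ i < 40000, stepOK cert i = true :=
  steps_add 39000 1000 (stepsUpto38) steps39

theorem stepsUpto40 : ∀ i < 41000, stepOK cert i = true :=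
  steps_add 40000 1000 (stepsUpto39) steps40

theorem stepsUpto41 : ∀ i < 42000, stepOK cert i = true :=
  steps_add 41000 1000 (stepsUpto40) steps41

theorem stepsUpto42 : ∀ i < 43000, stepOK cert i = true :=
  steps_add 42000 1000 (stepsUpto41) steps42

theorem stepsUpto43 : ∀ i < 44000, stepOK cert i = true :=
  steps_add 43000 1000 (stepsUpto42) steps43

theorem stepsUpto44 : ∀ i < 45000, stepOK cert i = true :=
  steps_add 44000 1000 (stepsUpto43) steps44

theorem stepsUpto45 : ∀ i < 46000, stepOK cert i = true :=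
  steps_add 45000 1000 (stepsUpto44) steps45

theorem stepsUpto46 : ∀ i < 47000, stepOK cert i = true :=
  steps_add 46000 1000 (stepsUpto45) steps46

theorem stepsUpto47 : ∀ i < 48000, stepOK cert i = true :=
  steps_add 47000 1000 (stepsUpto46) steps47

theorem stepsUpto48 : ∀ i < 49000, stepOK cert i = true :=
  steps_add 48000 1000 (stepsUpto47) steps48

theorem stepsUpto49 : ∀ i < 50000, stepOK cert i = true :=
  steps_add 49000 1000 (stepsUpto48) steps49

theorem stepsUpto50 : ∀ i < 51000, stepOK cert i = true :=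
  steps_add 50000 1000 (stepsUpto49) steps50

theorem stepsUpto51 : ∀ i < 52000, stepOK cert i = true :=
  steps_add 51000 1000 (stepsUpto50) steps51

theorem stepsUpto52 : ∀ i < 53000, stepOK cert i = true :=
  steps_add 52000 1000 (stepsUpto51) steps52

theorem stepsUpto53 : ∀ i < 54000, stepOK cert i = true :=
  steps_add 53000 1000 (stepsUpto52) steps53

theorem stepsUpto54 : ∀ i < 55000, stepOK cert i = true :=
  steps_add 54000 1000 (stepsUpto53) steps54

theorem stepsUpto55 : ∀ i < 56000, stepOK cert i = true :=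
  steps_add 55000 1000 (stepsUpto54) steps55

theorem stepsUpto56 : ∀ i < 57000, stepOK cert i = true :=
  steps_add 56000 1000 (stepsUpto55) steps56

theorem stepsUpto57 : ∀ i < 58000, stepOK cert i = true :=
  steps_add 57000 1000 (stepsUpto56) steps57

theorem stepsUpto58 : ∀ i < 59000, stepOK cert i = true :=
  steps_add 58000 1000 (stepsUpto57) steps58

theorem stepsUpto59 : ∀ i < 60000, stepOK cert i = true :=
  steps_add 59000 1000 (stepsUpto58) steps59

theorem stepsUpto60 : ∀ i < 61000, stepOK cert i = true :=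
  steps_add 60000 1000 (stepsUpto59) steps60

theorem stepsUpto61 : ∀ i < 62000, stepOK cert i = true :=
  steps_add 61000 1000 (stepsUpto60) steps61

theorem stepsUpto62 : ∀ i < 63000, stepOK cert i = true :=
  steps_add 62000 1000 (stepsUpto61) steps62

theorem stepsUpto63 : ∀ i < 64000, stepOK cert i = true :=
  steps_add 63000 1000 (stepsUpto62) steps63

theorem stepsUpto64 : ∀ i < 65000, stepOK cert i = true :=
  steps_add 64000 1000 (stepsUpto63) steps64

theorem stepsUpto65 : ∀ i < 66000, stepOK cert i = true :=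
  steps_add 65000 1000 (stepsUpto64) steps65

theorem stepsUpto66 : ∀ i < 67000, stepOK cert i = true :=
  steps_add 66000 1000 (stepsUpto65) steps66

theorem stepsUpto67 : ∀ i < 68000, stepOK cert i = true :=
  steps_add 67000 1000 (stepsUpto66) steps67

theorem stepsUpto68 : ∀ i < 69000, stepOK cert i = true :=
  steps_add 68000 1000 (stepsUpto67) steps68

theorem stepsUpto69 : ∀ i < 70000, stepOK cert i = true :=
  steps_add 69000 1000 (stepsUpto68) steps69

theorem stepsUpto70 : ∀ i < 71000, stepOK cert i = true :=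
  steps_add 70000 1000 (stepsUpto69) steps70

theorem stepsUpto71 : ∀ i < 72000, stepOK cert i = true :=
  steps_add 71000 1000 (stepsUpto70) steps71

theorem stepsUpto72 : ∀ i < 73000, stepOK cert i = true :=
  steps_add 72000 1000 (stepsUpto71) steps72

theorem stepsUpto73 : ∀ i < 74000, stepOK cert i = true :=
  steps_add 73000 1000 (stepsUpto72) steps73

theorem stepsUpto74 : ∀ i < 75000, stepOK cert i = true :=
  steps_add 74000 1000 (stepsUpto73) steps74

theorem stepsUpto75 : ∀ i < 76000, stepOK cert i = true :=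
  steps_add 75000 1000 (stepsUpto74) steps75

theorem stepsUpto76 : ∀ i < 77000, stepOK cert i = true :=
  steps_add 76000 1000 (stepsUpto75) steps76

theorem stepsUpto77 : ∀ i < 78000, stepOK cert i = true :=
  steps_add 77000 1000 (stepsUpto76) steps77

theorem stepsUpto78 : ∀ i < 79000, stepOK cert i = true :=
  steps_add 78000 1000 (stepsUpto77) steps78

theorem stepsUpto79 : ∀ i < 80000, stepOK cert i = true :=
  steps_add 79000 1000 (stepsUpto78) steps79

theorem stepsUpto80 : ∀ i < 81000, stepOK cert i = true :=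
  steps_add 80000 1000 (stepsUpto79) steps80

theorem stepsUpto81 : ∀ i < 82000, stepOK cert i = true :=
  steps_add 81000 1000 (stepsUpto80) steps81

theorem stepsUpto82 : ∀ i < 83000, stepOK cert i = true :=
  steps_add 82000 1000 (stepsUpto81) steps82

theorem stepsUpto83 : ∀ i < 84000, stepOK cert i = true :=
  steps_add 83000 1000 (stepsUpto82) steps83

theorem stepsUpto84 : ∀ i < 85000, stepOK cert i = true :=
  steps_add 84000 1000 (stepsUpto83) steps84

theorem stepsUpto85 : ∀ i < 86000, stepOK cert i = true :=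
  steps_add 85000 1000 (stepsUpto84) steps85

theorem stepsUpto86 : ∀ i < 87000, stepOK cert i = true :=
  steps_add 86000 1000 (stepsUpto85) steps86

theorem stepsUpto87 : ∀ i < 88000, stepOK cert i = true :=
  steps_add 87000 1000 (stepsUpto86) steps87

theorem stepsUpto88 : ∀ i < 89000, stepOK cert i = true :=
  steps_add 88000 1000 (stepsUpto87) steps88

theorem stepsUpto89 : ∀ i < 90000, stepOK cert i = true :=
  steps_add 89000 1000 (stepsUpto88) steps89

theorem stepsUpto90 : ∀ i < 90757, stepOK cert i = true :=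
  steps_add 90000 757 (stepsUpto89) steps90

theorem edgesUpto0 : ∀ i < 500, ∀ x < table.C.K, EdgeAt table i x :=
  edges_add 0 500 (edges_zero table) edges0

theorem edgesUpto1 : ∀ i < 1000, ∀ x < table.C.K, EdgeAt table i x :=
  edges_add 500 500 (edgesUpto0) edges1

theorem edgesUpto2 : ∀ i < 1500, ∀ x < table.C.K, EdgeAt table i x :=
  edges_add 1000 500 (edgesUpto1) edges2

theorem edgesUpto3 : ∀ i < 2000, ∀ x < table.C.K, EdgeAt table i x :=
  edges_add 1500 500 (edgesUpto2) edges3

theorem edgesUpto4 : ∀ i < 2500, ∀ x < table.C.K, EdgeAt table i x :=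
  edges_add 2000 500 (edgesUpto3) edges4

theorem edgesUpto5 : ∀ i < 3000, ∀ x < table.C.K, EdgeAt table i x :=
  edges_add 2500 500 (edgesUpto4) edges5

theorem edgesUpto6 : ∀ i < 3500, ∀ x < table.C.K, EdgeAt table i x :=
  edges_add 3000 500 (edgesUpto5) edges6

theorem edgesUpto7 : ∀ i < 4000, ∀ x < table.C.K, EdgeAt table i x :=
  edges_add 3500 500 (edgesUpto6) edges7

theorem edgesUpto8 : ∀ i < 4500, ∀ x < table.C.K, EdgeAt table i x :=
  edges_add 4000 500 (edgesUpto7) edges8

theorem edgesUpto9 : ∀ i < 5000, ∀ x < table.C.K, EdgeAt table i x :=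
  edges_add 4500 500 (edgesUpto8) edges9

theorem edgesUpto10 : ∀ i < 5500, ∀ x < table.C.K, EdgeAt table i x :=
  edges_add 5000 500 (edgesUpto9) edges10

theorem edgesUpto11 : ∀ i < 6000, ∀ x < table.C.K, EdgeAt table i x :=
  edges_add 5500 500 (edgesUpto10) edges11

theorem edgesUpto12 : ∀ i < 6500, ∀ x < table.C.K, EdgeAt table i x :=
  edges_add 6000 500 (edgesUpto11) edges12

theorem edgesUpto13 : ∀ i < 7000, ∀ x < table.C.K, EdgeAt table i x :=
  edges_add 6500 500 (edgesUpto12) edges13

theorem edgesUpto14 : ∀ i < 7500, ∀ x < table.C.K, EdgeAt table i x :=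
  edges_add 7000 500 (edgesUpto13) edges14

theorem edgesUpto15 : ∀ i < 8000, ∀ x < table.C.K, EdgeAt table i x :=
  edges_add 7500 500 (edgesUpto14) edges15

theorem edgesUpto16 : ∀ i < 8500, ∀ x < table.C.K, EdgeAt table i x :=
  edges_add 8000 500 (edgesUpto15) edges16

theorem edgesUpto17 : ∀ i < 9000, ∀ x < table.C.K, EdgeAt table i x :=
  edges_add 8500 500 (edgesUpto16) edges17

theorem edgesUpto18 : ∀ i < 9500, ∀ x < table.C.K, EdgeAt table i x :=
  edges_add 9000 500 (edgesUpto17) edges18

theorem edgesUpto19 : ∀ i < 10000, ∀ x < table.C.K, EdgeAt table i x :=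
  edges_add 9500 500 (edgesUpto18) edges19

theorem edgesUpto20 : ∀ i < 10500, ∀ x < table.C.K, EdgeAt table i x :=
  edges_add 10000 500 (edgesUpto19) edges20

theorem edgesUpto21 : ∀ i < 11000, ∀ x < table.C.K, EdgeAt table i x :=
  edges_add 10500 500 (edgesUpto20) edges21

theorem edgesUpto22 : ∀ i < 11500, ∀ x < table.C.K, EdgeAt table i x :=
  edges_add 11000 500 (edgesUpto21) edges22

theorem edgesUpto23 : ∀ i < 12000, ∀ x < table.C.K, EdgeAt table i x :=
  edges_add 11500 500 (edgesUpto22) edges23

theorem edgesUpto24 : ∀ i < 12500, ∀ x < table.C.K, EdgeAt table i x :=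
  edges_add 12000 500 (edgesUpto23) edges24

theorem edgesUpto25 : ∀ i < 13000, ∀ x < table.C.K, EdgeAt table i x :=
  edges_add 12500 500 (edgesUpto24) edges25

theorem edgesUpto26 : ∀ i < 13500, ∀ x < table.C.K, EdgeAt table i x :=
  edges_add 13000 500 (edgesUpto25) edges26

theorem edgesUpto27 : ∀ i < 14000, ∀ x < table.C.K, EdgeAt table i x :=
  edges_add 13500 500 (edgesUpto26) edges27

theorem edgesUpto28 : ∀ i < 14080, ∀ x < table.C.K, EdgeAt table i x :=
  edges_add 14000 80 (edgesUpto27) edges28

theorem closed : Closed table where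
  start := by decide +kernel
  steps := stepsUpto90
  cells := edgesUpto28
  root := by decide +kernel
  pos := by decide +kernel


end Cfsg.Agent.InvChar.Coset.FiTop
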