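import Cfsg.Agent.InvChar.Coset.Fi22BIndex
import Cfsg.Agent.InvChar.Coset.Fi120Check
import Cfsg.Agent.InvChar.Coset.Fi16Check
import Cfsg.Agent.InvChar.Coset.Fi27Check
import Cfsg.Agent.InvChar.Coset.Fi28Check
import Cfsg.Agent.InvChar.Coset.Fi3159Check
import Cfsg.Agent.InvChar.Coset.FiTopCheck
import Cfsg.Agent.InvChar.Coset.Fi22BLevels

/-!
# The order and the simplicity of the presented group Fi22
-/

set_option autoImplicit false
set_option linter.all false

noncomputable section

namespace Cfsg.Agent.InvChar.Coset.Fi22B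

open Cfsg.Agent.CosetCert

theorem bdd_sub : Bdd (subg data.gen [1, 2, 3, 4, 5, 6, 7, 8]) (3159 * (28 * (27 * (16 * (120 * 1))))) := by
  have hV := data.gen_rel
  have h0 : Bdd (subg data.gen ([].map (nthNat [2, 3, 4, 5]))) 1 := bdd_subg_nil data.gen
  have h1 := bdd_subg Fi120.closed data.gen data.gen_sq table.C.W hV [2, 3, 4, 5] [] (by decide +kernel)
    (by decide +kernel) (by decide +kernel) (by decide +kernel) (by decide +kernel) h0
  have h2 := bdd_subg Fi16.closed data.gen data.gen_sq table.C.W hV [2, 3, 4, 5, 7] [0, 1, 2, 3] (by decide +kernel)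
    (by decide +kernel) (by decide +kernel) (by decide +kernel) (by decide +kernel) h1
  have h3 := bdd_subg Fi27.closed data.gen data.gen_sq table.C.W hV [1, 2, 3, 4, 5, 7] [1, 2, 3, 4, 5] (by decide +kernel)
    (by decide +kernel) (by decide +kernel) (by decide +kernel) (by decide +kernel) h2
  have h4 := bdd_subg Fi28.closed data.gen data.gen_sq table.C.W hV [1, 2, 3, 4, 5, 6, 7] [0, 1, 2, 3, 4, 6] (by decide +kernel)
    (by decide +kernel) (by decide +kernel) (by decide +kernel) (by decide +kernel) h3
  have h5 := bdd_subg Fi3159.checked.closed data.gen data.gen_sq table.C.W hV [1, 2, 3, 4, 5, 6, 7, 8] [0, 1, 2, 3, 4, 5, 6] (by decide +kernel)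
    (by decide +kernel) (by decide +kernel) (by decide +kernel) (by decide +kernel) h4
  exact h5

theorem bdd_top : Bdd (⊤ : Subgroup Cfsg.Spor.Fi22) (14080 * (3159 * (28 * (27 * (16 * (120 * 1)))))) := by
  have h := bdd_subg FiTop.closed data.gen data.gen_sq table.C.W data.gen_rel [0, 1, 2, 3, 4, 5, 6, 7, 8]
    [1, 2, 3, 4, 5, 6, 7, 8] (by decide +kernel) (by decide +kernel) (by decide +kernel) (by decide +kernel)
    (by decide +kernel) bdd_sub
  have hl : ∀ x < table.C.K, x ∈ [0, 1, 2, 3, 4, 5, 6, 7, 8] := by decide +kernel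
  exact Bdd.top_of_gen data.gen_top hl h

set_option maxRecDepth 100000 in
theorem prim : Prim table orbits := by
  refine Prim.mk' orbits_ok [1, 2816, 693] ?_ ?_ ?_ ?_ ?_
  · decide +kernel
  · decide +kernel
  · decide +kernel
  · decide +kernel
  · decide +kernel

theorem simple_and_card : IsSimpleGroup Cfsg.Spor.Fi22 ∧ Nat.card Cfsg.Spor.Fi22 = 64561751654400 := by
  have h := order_simple checked prim data.gen (data.hom checked) (data.hom_gen checked) data.gen_sq data.gen_rel
    data.gen_top (H := Subgroup.closure (wprod data.gen '' {w | w ∈ table.C.S})) rfl bdd_top levels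
    (by decide +kernel) levels_ok (levels_prod.trans (by norm_num)) (p := 13) (by norm_num) (by decide +kernel)
    (by decide +kernel) roots cover roots_ok cover_ok
  exact ⟨h.1, h.2.1.trans (by norm_num)⟩

/-- The subgroup generated by all the generators but the first has index 14080. -/
theorem index_sub : (subg data.gen [1, 2, 3, 4, 5, 6, 7, 8]).index = 14080 := by
  have hK : FiTop.table.C.K = table.C.K := by decide +kernel
  have hW : ∀ w ∈ FiTop.table.C.W, wprod data.gen w = 1 := by
    intro w hw
    apply data.gen_rel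
    revert w
    decide +kernel
  have hle : (subg data.gen [1, 2, 3, 4, 5, 6, 7, 8]).index ≤ 14080 := by
    refine index_le FiTop.closed data.gen data.gen_sq hW (by rw [hK]; exact data.gen_top) ?_
    have hS : FiTop.table.C.S = [1, 2, 3, 4, 5, 6, 7, 8].map fun j => [j] := by decide +kernel
    unfold subg
    congr 1
    rw [hS]
    ext p
    constructor
    · rintro ⟨y, hy, rfl⟩
      exact ⟨[y], List.mem_map.mpr ⟨y, hy, rfl⟩, by simp [wprod]⟩
    · rintro ⟨w, hw, rfl⟩
      obtain ⟨j, hj, rfl⟩ := List.mem_map.mp hw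
      exact ⟨j, hj, by simp [wprod]⟩
  have h := Subgroup.card_mul_index (subg data.gen [1, 2, 3, 4, 5, 6, 7, 8])
  rw [simple_and_card.2] at h
  have hb := bdd_sub.2
  by_contra hne
  have h' := Nat.mul_le_mul hb (show (subg data.gen [1, 2, 3, 4, 5, 6, 7, 8]).index ≤ 14079 by omega)
  omega

end Cfsg.Agent.InvChar.Coset.Fi22B
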