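import Cfsg.Agent.InvChar.Coset.Fi23GRowDefs

/-!
# Rows checked, a part
-/

set_option autoImplicit false
set_option linter.all false
set_option Elab.async false

namespace Cfsg.Agent.InvChar.Coset.Fi23G

open Cfsg.Agent.CosetCert TreePerm

theorem good12 : scanR goodRow 3600 300 = true := by decide +kernel

theorem good13 : scanR goodRow 3900 300 = true := by decide +kernel

theorem good14 : scanR goodRow 4200 300 = true := by decide +kernel

theorem good15 : scanR goodRow 4500 300 = true := by decide +kernel

theorem good16 : scanR goodRow 4800 300 = true := by decide +kernel

theorem good17 : scanR goodRow 5100 300 = true := by decide +kernel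

theorem good18 : scanR goodRow 5400 300 = true := by decide +kernel

theorem good19 : scanR goodRow 5700 300 = true := by decide +kernel

theorem good20 : scanR goodRow 6000 300 = true := by decide +kernel

theorem good21 : scanR goodRow 6300 300 = true := by decide +kernel

theorem good22 : scanR goodRow 6600 300 = true := by decide +kernel

theorem good23 : scanR goodRow 6900 300 = true := by decide +kernel

end Cfsg.Agent.InvChar.Coset.Fi23G
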