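import Cfsg.Agent.InvChar.Coset.Fi23GRowDefs

/-!
# Rows checked, a part
-/

set_option autoImplicit false
set_option linter.all false
set_option Elab.async false

namespace Cfsg.Agent.InvChar.Coset.Fi23G

open Cfsg.Agent.CosetCert TreePerm

theorem good24 : scanR goodRow 7200 300 = true := by decide +kernel

theorem good25 : scanR goodRow 7500 300 = true := by decide +kernel

theorem good26 : scanR goodRow 7800 300 = true := by decide +kernel

theorem good27 : scanR goodRow 8100 300 = true := by decide +kernel

theorem good28 : scanR goodRow 8400 300 = true := by decide +kernel

theorem good29 : scanR goodRow 8700 300 = true := by decide +kernel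

theorem good30 : scanR goodRow 9000 300 = true := by decide +kernel

theorem good31 : scanR goodRow 9300 300 = true := by decide +kernel

theorem good32 : scanR goodRow 9600 300 = true := by decide +kernel

theorem good33 : scanR goodRow 9900 300 = true := by decide +kernel

theorem good34 : scanR goodRow 10200 300 = true := by decide +kernel

theorem good35 : scanR goodRow 10500 300 = true := by decide +kernel

end Cfsg.Agent.InvChar.Coset.Fi23G
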