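import Cfsg.Agent.InvChar.Coset.Fi23GRowDefs

/-!
# Rows checked, a part
-/

set_option autoImplicit false
set_option linter.all false
set_option Elab.async false

namespace Cfsg.Agent.InvChar.Coset.Fi23G

open Cfsg.Agent.CosetCert TreePerm

theorem good36 : scanR goodRow 10800 300 = true := by decide +kernel

theorem good37 : scanR goodRow 11100 300 = true := by decide +kernel

theorem good38 : scanR goodRow 11400 300 = true := by decide +kernel

theorem good39 : scanR goodRow 11700 300 = true := by decide +kernel

theorem good40 : scanR goodRow 12000 300 = true := by decide +kernel

theorem good41 : scanR goodRow 12300 300 = true := by decide +kernel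

theorem good42 : scanR goodRow 12600 300 = true := by decide +kernel

theorem good43 : scanR goodRow 12900 300 = true := by decide +kernel

theorem good44 : scanR goodRow 13200 300 = true := by decide +kernel

theorem good45 : scanR goodRow 13500 300 = true := by decide +kernel

theorem good46 : scanR goodRow 13800 300 = true := by decide +kernel

theorem good47 : scanR goodRow 14100 300 = true := by decide +kernel

end Cfsg.Agent.InvChar.Coset.Fi23G
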