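import Cfsg.Agent.InvChar.Coset.Fi23GRowDefs

/-!
# Rows checked, a part
-/

set_option autoImplicit false
set_option linter.all false
set_option Elab.async false

namespace Cfsg.Agent.InvChar.Coset.Fi23G

open Cfsg.Agent.CosetCert TreePerm

theorem good48 : scanR goodRow 14400 300 = true := by decide +kernel

theorem good49 : scanR goodRow 14700 300 = true := by decide +kernel

theorem good50 : scanR goodRow 15000 300 = true := by decide +kernel

theorem good51 : scanR goodRow 15300 300 = true := by decide +kernel

theorem good52 : scanR goodRow 15600 300 = true := by decide +kernel

theorem good53 : scanR goodRow 15900 300 = true := by decide +kernel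

theorem good54 : scanR goodRow 16200 300 = true := by decide +kernel

theorem good55 : scanR goodRow 16500 300 = true := by decide +kernel

theorem good56 : scanR goodRow 16800 300 = true := by decide +kernel

theorem good57 : scanR goodRow 17100 300 = true := by decide +kernel

theorem good58 : scanR goodRow 17400 300 = true := by decide +kernel

theorem good59 : scanR goodRow 17700 300 = true := by decide +kernel

end Cfsg.Agent.InvChar.Coset.Fi23G
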