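import Cfsg.Agent.InvChar.Coset.Fi23GRowDefs

/-!
# Rows checked, a part
-/

set_option autoImplicit false
set_option linter.all false
set_option Elab.async false

namespace Cfsg.Agent.InvChar.Coset.Fi23G

open Cfsg.Agent.CosetCert TreePerm

theorem good60 : scanR goodRow 18000 300 = true := by decide +kernel

theorem good61 : scanR goodRow 18300 300 = true := by decide +kernel

theorem good62 : scanR goodRow 18600 300 = true := by decide +kernel

theorem good63 : scanR goodRow 18900 300 = true := by decide +kernel

theorem good64 : scanR goodRow 19200 300 = true := by decide +kernel

theorem good65 : scanR goodRow 19500 300 = true := by decide +kernel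

theorem good66 : scanR goodRow 19800 300 = true := by decide +kernel

theorem good67 : scanR goodRow 20100 300 = true := by decide +kernel

theorem good68 : scanR goodRow 20400 300 = true := by decide +kernel

theorem good69 : scanR goodRow 20700 300 = true := by decide +kernel

theorem good70 : scanR goodRow 21000 300 = true := by decide +kernel

theorem good71 : scanR goodRow 21300 300 = true := by decide +kernel

end Cfsg.Agent.InvChar.Coset.Fi23G
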