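import Cfsg.Agent.InvChar.Coset.Fi23GRowDefs

/-!
# Rows checked, a part
-/

set_option autoImplicit false
set_option linter.all false
set_option Elab.async false

namespace Cfsg.Agent.InvChar.Coset.Fi23G

open Cfsg.Agent.CosetCert TreePerm

theorem good72 : scanR goodRow 21600 300 = true := by decide +kernel

theorem good73 : scanR goodRow 21900 300 = true := by decide +kernel

theorem good74 : scanR goodRow 22200 300 = true := by decide +kernel

theorem good75 : scanR goodRow 22500 300 = true := by decide +kernel

theorem good76 : scanR goodRow 22800 300 = true := by decide +kernel

theorem good77 : scanR goodRow 23100 300 = true := by decide +kernel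

theorem good78 : scanR goodRow 23400 300 = true := by decide +kernel

theorem good79 : scanR goodRow 23700 300 = true := by decide +kernel

theorem good80 : scanR goodRow 24000 300 = true := by decide +kernel

theorem good81 : scanR goodRow 24300 300 = true := by decide +kernel

theorem good82 : scanR goodRow 24600 300 = true := by decide +kernel

theorem good83 : scanR goodRow 24900 300 = true := by decide +kernel

end Cfsg.Agent.InvChar.Coset.Fi23G
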