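import Cfsg.Agent.InvChar.Coset.Fi23GRowDefs

/-!
# Rows checked, a part
-/

set_option autoImplicit false
set_option linter.all false
set_option Elab.async false

namespace Cfsg.Agent.InvChar.Coset.Fi23G

open Cfsg.Agent.CosetCert TreePerm

theorem good84 : scanR goodRow 25200 300 = true := by decide +kernel

theorem good85 : scanR goodRow 25500 300 = true := by decide +kernel

theorem good86 : scanR goodRow 25800 300 = true := by decide +kernel

theorem good87 : scanR goodRow 26100 300 = true := by decide +kernel

theorem good88 : scanR goodRow 26400 300 = true := by decide +kernel

theorem good89 : scanR goodRow 26700 300 = true := by decide +kernel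

theorem good90 : scanR goodRow 27000 300 = true := by decide +kernel

theorem good91 : scanR goodRow 27300 300 = true := by decide +kernel

theorem good92 : scanR goodRow 27600 300 = true := by decide +kernel

theorem good93 : scanR goodRow 27900 300 = true := by decide +kernel

theorem good94 : scanR goodRow 28200 300 = true := by decide +kernel

theorem good95 : scanR goodRow 28500 300 = true := by decide +kernel

end Cfsg.Agent.InvChar.Coset.Fi23G
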