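import Cfsg.Agent.InvChar.Coset.Fi23GRowDefs

/-!
# Rows checked, a part
-/

set_option autoImplicit false
set_option linter.all false
set_option Elab.async false

namespace Cfsg.Agent.InvChar.Coset.Fi23G

open Cfsg.Agent.CosetCert TreePerm

theorem good96 : scanR goodRow 28800 300 = true := by decide +kernel

theorem good97 : scanR goodRow 29100 300 = true := by decide +kernel

theorem good98 : scanR goodRow 29400 300 = true := by decide +kernel

theorem good99 : scanR goodRow 29700 300 = true := by decide +kernel

theorem good100 : scanR goodRow 30000 300 = true := by decide +kernel

theorem good101 : scanR goodRow 30300 300 = true := by decide +kernel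

theorem good102 : scanR goodRow 30600 300 = true := by decide +kernel

theorem good103 : scanR goodRow 30900 300 = true := by decide +kernel

theorem good104 : scanR goodRow 31200 300 = true := by decide +kernel

theorem good105 : scanR goodRow 31500 171 = true := by decide +kernel

end Cfsg.Agent.InvChar.Coset.Fi23G
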