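import Cfsg.Agent.InvChar.Coset.Fi23GGood0
import Cfsg.Agent.InvChar.Coset.Fi23GGood1
import Cfsg.Agent.InvChar.Coset.Fi23GGood2
import Cfsg.Agent.InvChar.Coset.Fi23GGood3
import Cfsg.Agent.InvChar.Coset.Fi23GGood4
import Cfsg.Agent.InvChar.Coset.Fi23GGood5
import Cfsg.Agent.InvChar.Coset.Fi23GGood6
import Cfsg.Agent.InvChar.Coset.Fi23GGood7
import Cfsg.Agent.InvChar.Coset.Fi23GGood8

/-!
# Every row checked
-/

set_option autoImplicit false
set_option linter.all false
set_option Elab.async false

namespace Cfsg.Agent.InvChar.Coset.Fi23G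

open Cfsg.Agent.CosetCert TreePerm

theorem goodUpto0 : ∀ c < 300, goodRow c = true :=
  scan_add 0 300 (scan_zero goodRow) good0

theorem goodUpto1 : ∀ c < 600, goodRow c = true :=
  scan_add 300 300 (goodUpto0) good1

theorem goodUpto2 : ∀ c < 900, goodRow c = true :=
  scan_add 600 300 (goodUpto1) good2

theorem goodUpto3 : ∀ c < 1200, goodRow c = true :=
  scan_add 900 300 (goodUpto2) good3

theorem goodUpto4 : ∀ c < 1500, goodRow c = true :=
  scan_add 1200 300 (goodUpto3) good4

theorem goodUpto5 : ∀ c < 1800, goodRow c = true :=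
  scan_add 1500 300 (goodUpto4) good5

theorem goodUpto6 : ∀ c < 2100, goodRow c = true :=
  scan_add 1800 300 (goodUpto5) good6

theorem goodUpto7 : ∀ c < 2400, goodRow c = true :=
  scan_add 2100 300 (goodUpto6) good7

theorem goodUpto8 : ∀ c < 2700, goodRow c = true :=
  scan_add 2400 300 (goodUpto7) good8

theorem goodUpto9 : ∀ c < 3000, goodRow c = true :=
  scan_add 2700 300 (goodUpto8) good9

theorem goodUpto10 : ∀ c < 3300, goodRow c = true :=
  scan_add 3000 300 (goodUpto9) good10

theorem goodUpto11 : ∀ c < 3600, goodRow c = true :=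
  scan_add 3300 300 (goodUpto10) good11

theorem goodUpto12 : ∀ c < 3900, goodRow c = true :=
  scan_add 3600 300 (goodUpto11) good12

theorem goodUpto13 : ∀ c < 4200, goodRow c = true :=
  scan_add 3900 300 (goodUpto12) good13

theorem goodUpto14 : ∀ c < 4500, goodRow c = true :=
  scan_add 4200 300 (goodUpto13) good14

theorem goodUpto15 : ∀ c < 4800, goodRow c = true :=
  scan_add 4500 300 (goodUpto14) good15

theorem goodUpto16 : ∀ c < 5100, goodRow c = true :=
  scan_add 4800 300 (goodUpto15) good16

theorem goodUpto17 : ∀ c < 5400, goodRow c = true :=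
  scan_add 5100 300 (goodUpto16) good17

theorem goodUpto18 : ∀ c < 5700, goodRow c = true :=
  scan_add 5400 300 (goodUpto17) good18

theorem goodUpto19 : ∀ c < 6000, goodRow c = true :=
  scan_add 5700 300 (goodUpto18) good19

theorem goodUpto20 : ∀ c < 6300, goodRow c = true :=
  scan_add 6000 300 (goodUpto19) good20

theorem goodUpto21 : ∀ c < 6600, goodRow c = true :=
  scan_add 6300 300 (goodUpto20) good21

theorem goodUpto22 : ∀ c < 6900, goodRow c = true :=
  scan_add 6600 300 (goodUpto21) good22

theorem goodUpto23 : ∀ c < 7200, goodRow c = true :=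
  scan_add 6900 300 (goodUpto22) good23

theorem goodUpto24 : ∀ c < 7500, goodRow c = true :=
  scan_add 7200 300 (goodUpto23) good24

theorem goodUpto25 : ∀ c < 7800, goodRow c = true :=
  scan_add 7500 300 (goodUpto24) good25

theorem goodUpto26 : ∀ c < 8100, goodRow c = true :=
  scan_add 7800 300 (goodUpto25) good26

theorem goodUpto27 : ∀ c < 8400, goodRow c = true :=
  scan_add 8100 300 (goodUpto26) good27

theorem goodUpto28 : ∀ c < 8700, goodRow c = true :=
  scan_add 8400 300 (goodUpto27) good28

theorem goodUpto29 : ∀ c < 9000, goodRow c = true :=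
  scan_add 8700 300 (goodUpto28) good29

theorem goodUpto30 : ∀ c < 9300, goodRow c = true :=
  scan_add 9000 300 (goodUpto29) good30

theorem goodUpto31 : ∀ c < 9600, goodRow c = true :=
  scan_add 9300 300 (goodUpto30) good31

theorem goodUpto32 : ∀ c < 9900, goodRow c = true :=
  scan_add 9600 300 (goodUpto31) good32

theorem goodUpto33 : ∀ c < 10200, goodRow c = true :=
  scan_add 9900 300 (goodUpto32) good33

theorem goodUpto34 : ∀ c < 10500, goodRow c = true :=
  scan_add 10200 300 (goodUpto33) good34

theorem goodUpto35 : ∀ c < 10800, goodRow c = true :=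
  scan_add 10500 300 (goodUpto34) good35

theorem goodUpto36 : ∀ c < 11100, goodRow c = true :=
  scan_add 10800 300 (goodUpto35) good36

theorem goodUpto37 : ∀ c < 11400, goodRow c = true :=
  scan_add 11100 300 (goodUpto36) good37

theorem goodUpto38 : ∀ c < 11700, goodRow c = true :=
  scan_add 11400 300 (goodUpto37) good38

theorem goodUpto39 : ∀ c < 12000, goodRow c = true :=
  scan_add 11700 300 (goodUpto38) good39

theorem goodUpto40 : ∀ c < 12300, goodRow c = true :=
  scan_add 12000 300 (goodUpto39) good40

theorem goodUpto41 : ∀ c < 12600, goodRow c = true :=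
  scan_add 12300 300 (goodUpto40) good41

theorem goodUpto42 : ∀ c < 12900, goodRow c = true :=
  scan_add 12600 300 (goodUpto41) good42

theorem goodUpto43 : ∀ c < 13200, goodRow c = true :=
  scan_add 12900 300 (goodUpto42) good43

theorem goodUpto44 : ∀ c < 13500, goodRow c = true :=
  scan_add 13200 300 (goodUpto43) good44

theorem goodUpto45 : ∀ c < 13800, goodRow c = true :=
  scan_add 13500 300 (goodUpto44) good45

theorem goodUpto46 : ∀ c < 14100, goodRow c = true :=
  scan_add 13800 300 (goodUpto45) good46

theorem goodUpto47 : ∀ c < 14400, goodRow c = true :=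
  scan_add 14100 300 (goodUpto46) good47

theorem goodUpto48 : ∀ c < 14700, goodRow c = true :=
  scan_add 14400 300 (goodUpto47) good48

theorem goodUpto49 : ∀ c < 15000, goodRow c = true :=
  scan_add 14700 300 (goodUpto48) good49

theorem goodUpto50 : ∀ c < 15300, goodRow c = true :=
  scan_add 15000 300 (goodUpto49) good50

theorem goodUpto51 : ∀ c < 15600, goodRow c = true :=
  scan_add 15300 300 (goodUpto50) good51

theorem goodUpto52 : ∀ c < 15900, goodRow c = true :=
  scan_add 15600 300 (goodUpto51) good52

theorem goodUpto53 : ∀ c < 16200, goodRow c = true :=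
  scan_add 15900 300 (goodUpto52) good53

theorem goodUpto54 : ∀ c < 16500, goodRow c = true :=
  scan_add 16200 300 (goodUpto53) good54

theorem goodUpto55 : ∀ c < 16800, goodRow c = true :=
  scan_add 16500 300 (goodUpto54) good55

theorem goodUpto56 : ∀ c < 17100, goodRow c = true :=
  scan_add 16800 300 (goodUpto55) good56

theorem goodUpto57 : ∀ c < 17400, goodRow c = true :=
  scan_add 17100 300 (goodUpto56) good57

theorem goodUpto58 : ∀ c < 17700, goodRow c = true :=
  scan_add 17400 300 (goodUpto57) good58

theorem goodUpto59 : ∀ c < 18000, goodRow c = true :=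
  scan_add 17700 300 (goodUpto58) good59

theorem goodUpto60 : ∀ c < 18300, goodRow c = true :=
  scan_add 18000 300 (goodUpto59) good60

theorem goodUpto61 : ∀ c < 18600, goodRow c = true :=
  scan_add 18300 300 (goodUpto60) good61

theorem goodUpto62 : ∀ c < 18900, goodRow c = true :=
  scan_add 18600 300 (goodUpto61) good62

theorem goodUpto63 : ∀ c < 19200, goodRow c = true :=
  scan_add 18900 300 (goodUpto62) good63

theorem goodUpto64 : ∀ c < 19500, goodRow c = true :=
  scan_add 19200 300 (goodUpto63) good64

theorem goodUpto65 : ∀ c < 19800, goodRow c = true :=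
  scan_add 19500 300 (goodUpto64) good65

theorem goodUpto66 : ∀ c < 20100, goodRow c = true :=
  scan_add 19800 300 (goodUpto65) good66

theorem goodUpto67 : ∀ c < 20400, goodRow c = true :=
  scan_add 20100 300 (goodUpto66) good67

theorem goodUpto68 : ∀ c < 20700, goodRow c = true :=
  scan_add 20400 300 (goodUpto67) good68

theorem goodUpto69 : ∀ c < 21000, goodRow c = true :=
  scan_add 20700 300 (goodUpto68) good69

theorem goodUpto70 : ∀ c < 21300, goodRow c = true :=
  scan_add 21000 300 (goodUpto69) good70

theorem goodUpto71 : ∀ c < 21600, goodRow c = true :=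
  scan_add 21300 300 (goodUpto70) good71

theorem goodUpto72 : ∀ c < 21900, goodRow c = true :=
  scan_add 21600 300 (goodUpto71) good72

theorem goodUpto73 : ∀ c < 22200, goodRow c = true :=
  scan_add 21900 300 (goodUpto72) good73

theorem goodUpto74 : ∀ c < 22500, goodRow c = true :=
  scan_add 22200 300 (goodUpto73) good74

theorem goodUpto75 : ∀ c < 22800, goodRow c = true :=
  scan_add 22500 300 (goodUpto74) good75

theorem goodUpto76 : ∀ c < 23100, goodRow c = true :=
  scan_add 22800 300 (goodUpto75) good76

theorem goodUpto77 : ∀ c < 23400, goodRow c = true :=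
  scan_add 23100 300 (goodUpto76) good77

theorem goodUpto78 : ∀ c < 23700, goodRow c = true :=
  scan_add 23400 300 (goodUpto77) good78

theorem goodUpto79 : ∀ c < 24000, goodRow c = true :=
  scan_add 23700 300 (goodUpto78) good79

theorem goodUpto80 : ∀ c < 24300, goodRow c = true :=
  scan_add 24000 300 (goodUpto79) good80

theorem goodUpto81 : ∀ c < 24600, goodRow c = true :=
  scan_add 24300 300 (goodUpto80) good81

theorem goodUpto82 : ∀ c < 24900, goodRow c = true :=
  scan_add 24600 300 (goodUpto81) good82

theorem goodUpto83 : ∀ c < 25200, goodRow c = true :=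
  scan_add 24900 300 (goodUpto82) good83

theorem goodUpto84 : ∀ c < 25500, goodRow c = true :=
  scan_add 25200 300 (goodUpto83) good84

theorem goodUpto85 : ∀ c < 25800, goodRow c = true :=
  scan_add 25500 300 (goodUpto84) good85

theorem goodUpto86 : ∀ c < 26100, goodRow c = true :=
  scan_add 25800 300 (goodUpto85) good86

theorem goodUpto87 : ∀ c < 26400, goodRow c = true :=
  scan_add 26100 300 (goodUpto86) good87

theorem goodUpto88 : ∀ c < 26700, goodRow c = true :=
  scan_add 26400 300 (goodUpto87) good88

theorem goodUpto89 : ∀ c < 27000, goodRow c = true :=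
  scan_add 26700 300 (goodUpto88) good89

theorem goodUpto90 : ∀ c < 27300, goodRow c = true :=
  scan_add 27000 300 (goodUpto89) good90

theorem goodUpto91 : ∀ c < 27600, goodRow c = true :=
  scan_add 27300 300 (goodUpto90) good91

theorem goodUpto92 : ∀ c < 27900, goodRow c = true :=
  scan_add 27600 300 (goodUpto91) good92

theorem goodUpto93 : ∀ c < 28200, goodRow c = true :=
  scan_add 27900 300 (goodUpto92) good93

theorem goodUpto94 : ∀ c < 28500, goodRow c = true :=
  scan_add 28200 300 (goodUpto93) good94

theorem goodUpto95 : ∀ c < 28800, goodRow c = true :=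
  scan_add 28500 300 (goodUpto94) good95

theorem goodUpto96 : ∀ c < 29100, goodRow c = true :=
  scan_add 28800 300 (goodUpto95) good96

theorem goodUpto97 : ∀ c < 29400, goodRow c = true :=
  scan_add 29100 300 (goodUpto96) good97

theorem goodUpto98 : ∀ c < 29700, goodRow c = true :=
  scan_add 29400 300 (goodUpto97) good98

theorem goodUpto99 : ∀ c < 30000, goodRow c = true :=
  scan_add 29700 300 (goodUpto98) good99

theorem goodUpto100 : ∀ c < 30300, goodRow c = true :=
  scan_add 30000 300 (goodUpto99) good100

theorem goodUpto101 : ∀ c < 30600, goodRow c = true :=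
  scan_add 30300 300 (goodUpto100) good101

theorem goodUpto102 : ∀ c < 30900, goodRow c = true :=
  scan_add 30600 300 (goodUpto101) good102

theorem goodUpto103 : ∀ c < 31200, goodRow c = true :=
  scan_add 30900 300 (goodUpto102) good103

theorem goodUpto104 : ∀ c < 31500, goodRow c = true :=
  scan_add 31200 300 (goodUpto103) good104

theorem goodUpto105 : ∀ c < 31671, goodRow c = true :=
  scan_add 31500 171 (goodUpto104) good105

theorem good_all : ∀ c < 31671, goodRow c = true := goodUpto105

end Cfsg.Agent.InvChar.Coset.Fi23G
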