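import Cfsg.Agent.InvChar.Coset.Fi23Index
import Cfsg.Agent.InvChar.Coset.Fi23GGood

/-!
# The action of the presented Fi23 on 31671 points
-/

set_option autoImplicit false
set_option linter.all false
set_option maxRecDepth 100000

noncomputable section

namespace Cfsg.Agent.InvChar.Coset.Fi23G

open Cfsg.Agent.CosetCert TreePerm

theorem below : Below permList 31671 30 := by
  intro y hy c hc
  have h := good_all c hc
  simp only [goodRow, Bool.and_eq_true] at h
  refine allBlt_spec h.1 y ?_
  revert y
  decide +kernel

theorem same_eqn {a b : List ℕ} (h : (a, b) ∈ eqns) : Same permList 31671 a b := fun c hc => by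
  have h' := good_all c hc
  simp only [goodRow, Bool.and_eq_true] at h'
  exact allEq_spec h'.2.1 (a, b) h

theorem orbit_row {c : ℕ} (hc : c < 31671) : orbitRow c = true := by
  have h := good_all c hc
  simp only [goodRow, Bool.and_eq_true] at h
  exact h.2.2

theorem inv_gen : ∀ y < 10, Same permList 31671 [y, y] [] := fun y hy => same_eqn (by revert y; decide +kernel)

/-- The permutation of a generator. -/
def σ (y : ℕ) : Equiv.Perm (Fin 31671) := TreePerm.perm permList 31671 y

theorem σ_sq (y : ℕ) : σ y * σ y = 1 := perm_sq y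

theorem σ_word {w : List ℕ} (hw : ∀ y ∈ w, y < 10) (c : Fin 31671) :
    (wprod σ w c : ℕ) = seqN permList w c := wprod_perm below (by norm_num) inv_gen w hw c

theorem σ_one {w : List ℕ} (hw : ∀ y ∈ w, y < 10) (h : Same permList 31671 w []) : wprod σ w = 1 :=
  wprod_of_same below (by norm_num) inv_gen (b := []) hw (by simp) h

/-- A word whose first half and reversed second half are equated. -/
def halved (w : List ℕ) : List ℕ × List ℕ := (w.take (w.length / 2), (w.drop (w.length / 2)).reverse)

theorem halved_one {w : List ℕ} (hw : ∀ y ∈ w, y < 10) (h : halved w ∈ eqns) : wprod σ w = 1 := by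
  have h1 : wprod σ (w.take (w.length / 2)) = wprod σ (w.drop (w.length / 2)).reverse :=
    wprod_of_same below (by norm_num) inv_gen (fun y hy => hw y (List.mem_of_mem_take hy))
      (fun y hy => hw y (List.mem_of_mem_drop (List.mem_reverse.mp hy))) (same_eqn h)
  rw [wprod_reverse σ σ_sq] at h1
  conv_lhs => rw [← List.take_append_drop (w.length / 2) w]
  rw [wprod_append', h1, mul_inv_cancel]

theorem lt30 {w : List ℕ} (h : (w.all fun y => Nat.blt y 30) = true) : ∀ y ∈ w, y < 30 := fun y hy => by
  simpa [Nat.blt_eq] using List.all_eq_true.mp h y hy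

theorem lt10 {w : List ℕ} (h : (w.all fun y => Nat.blt y 10) = true) : ∀ y ∈ w, y < 10 := fun y hy => by
  simpa [Nat.blt_eq] using List.all_eq_true.mp h y hy

theorem rep_add (u : List ℕ) (a b : ℕ) :
    (List.replicate (a + b) u).flatten = (List.replicate a u).flatten ++ (List.replicate b u).flatten := by
  rw [List.replicate_add, List.flatten_append]

theorem Same.join {a b a' b' : List ℕ} (ha : (a.all fun y => Nat.blt y 30) = true)
    (h1 : Same permList 31671 a b) (h2 : Same permList 31671 a' b') : Same permList 31671 (a ++ a') (b ++ b') :=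
  TreePerm.Same.app below (lt30 ha) h1 h2

def spiderUnit : List ℕ := ((table.C.W.drop 100).headD []).take 9

def sevenUnit : List ℕ := ((table.C.W.drop 101).headD []).take 7

def cox : List ℕ := [8, 6, 5, 4, 3, 2, 1]

/-- The word of the central involution of the subgroup fixing the first point. -/
def zW : List ℕ := (List.replicate 9 cox).flatten

theorem e10 : (([10], spiderUnit) : List ℕ × List ℕ) ∈ eqns := by decide +kernel

theorem e11 : (([11], [10, 10]) : List ℕ × List ℕ) ∈ eqns := by decide +kernel

theorem e12 : (([12], [11, 11, 10]) : List ℕ × List ℕ) ∈ eqns := by decide +kernel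

theorem e12s : (([12, 12], []) : List ℕ × List ℕ) ∈ eqns := by decide +kernel

theorem e13 : (([13], sevenUnit) : List ℕ × List ℕ) ∈ eqns := by decide +kernel

theorem e14 : (([14], [13, 13, 13]) : List ℕ × List ℕ) ∈ eqns := by decide +kernel

theorem e14s : (([14, 14, 14], []) : List ℕ × List ℕ) ∈ eqns := by decide +kernel

theorem e15 : (([15], cox) : List ℕ × List ℕ) ∈ eqns := by decide +kernel

theorem e16 : (([16], [15, 15, 15]) : List ℕ × List ℕ) ∈ eqns := by decide +kernel

theorem e17 : (([17], [16, 16, 16]) : List ℕ × List ℕ) ∈ eqns := by decide +kernel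

theorem e17s : (([17, 17], []) : List ℕ × List ℕ) ∈ eqns := by decide +kernel

theorem long_spider : Same permList 31671 (List.replicate 10 spiderUnit).flatten [] := by
  have h1 := e10; have h2 := e11; have h5 := e12; have h10 := e12s
  have hl : (spiderUnit.all fun y => Nat.blt y 30) = true := by decide +kernel
  have s1 := (same_eqn h1).symm
  have r2 : Same permList 31671 (spiderUnit ++ spiderUnit) [11] :=
    (Same.join hl s1 s1).trans (same_eqn h2).symm
  have r5 : Same permList 31671 ((spiderUnit ++ spiderUnit) ++ ((spiderUnit ++ spiderUnit) ++ spiderUnit)) [12] :=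
    (Same.join (by decide +kernel) r2 (Same.join (by decide +kernel) r2 s1)).trans (same_eqn h5).symm
  have r10 := (Same.join (by decide +kernel) r5 r5).trans (same_eqn h10)
  refine Eq.mp ?_ r10
  congr 1

theorem long_seven : Same permList 31671 (List.replicate 9 sevenUnit).flatten [] := by
  have h1 := e13; have h3 := e14; have h9 := e14s
  have s1 := (same_eqn h1).symm
  have r3 : Same permList 31671 (sevenUnit ++ (sevenUnit ++ sevenUnit)) [14] :=
    (Same.join (by decide +kernel) s1 (Same.join (by decide +kernel) s1 s1)).trans (same_eqn h3).symm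
  have r9 := (Same.join (by decide +kernel) r3 (Same.join (by decide +kernel) r3 r3)).trans (same_eqn h9)
  refine Eq.mp ?_ r9
  congr 1

theorem z_same : Same permList 31671 zW [17] := by
  have h1 := e15; have h3 := e16; have h9 := e17
  have s1 := (same_eqn h1).symm
  have r3 : Same permList 31671 (cox ++ (cox ++ cox)) [16] :=
    (Same.join (by decide +kernel) s1 (Same.join (by decide +kernel) s1 s1)).trans (same_eqn h3).symm
  have r9 := (Same.join (by decide +kernel) r3 (Same.join (by decide +kernel) r3 r3)).trans (same_eqn h9).symm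
  refine Eq.mp ?_ r9
  congr 1

theorem σ_rel : ∀ w ∈ table.C.W, wprod σ w = 1 := by
  intro w hw
  have hlet : ∀ y ∈ w, y < 10 := by
    revert w; decide +kernel
  have hcase : halved w ∈ eqns ∨ halved w.reverse ∈ eqns ∨ (w, []) ∈ eqns ∨
      w = (List.replicate 10 spiderUnit).flatten ∨ w = (List.replicate 9 sevenUnit).flatten := by
    revert w; decide +kernel
  rcases hcase with h | h | h | rfl | rfl
  · exact halved_one hlet h
  · have := halved_one (fun y hy => hlet y (List.mem_reverse.mp hy)) h
    rwa [wprod_reverse σ σ_sq, inv_eq_one] at this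
  · exact σ_one hlet (same_eqn h)
  · exact σ_one hlet long_spider
  · exact σ_one hlet long_seven

abbrev GG : Type := Cfsg.Spor.Fi23

/-- The action. -/
def φ : GG →* Equiv.Perm (Fin 31671) :=
  PresentedGroup.toGroup (f := fun x => σ (data.idx x)) fun r hr => by
    obtain ⟨w, hw, e⟩ := (data.relator (fun x => σ (data.idx x)) σ (fun x => σ_sq _) (fun _ => rfl)).1 r hr
    rw [e, σ_rel w hw]

abbrev el (w : List ℕ) : GG := wprod data.gen w

theorem K_eq : table.C.K = 10 := by decide +kernel

theorem φ_gen {y : ℕ} (hy : y < 10) : φ (data.gen y) = σ y := by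
  rw [CoxData.gen, if_pos (K_eq.symm ▸ hy), φ, PresentedGroup.toGroup.of, data.right y (K_eq.symm ▸ hy)]

theorem φ_el : ∀ {w : List ℕ}, (∀ y ∈ w, y < 10) → φ (el w) = wprod σ w
  | [], _ => map_one φ
  | y :: w, hw => by
    show φ (el w * data.gen y) = _
    rw [map_mul, φ_el fun z hz => hw z (List.mem_cons_of_mem _ hz), φ_gen (hw y List.mem_cons_self)]
    rfl

theorem φ_same {a b : List ℕ} (ha : ∀ y ∈ a, y < 10) (hb : ∀ y ∈ b, y < 10) (h : Same permList 31671 a b) :
    φ (el a) = φ (el b) := by
  rw [φ_el ha, φ_el hb]
  exact wprod_of_same below (by norm_num) inv_gen ha hb h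

theorem φ_point {w : List ℕ} (hw : ∀ y ∈ w, y < 10) (c : Fin 31671) : (φ (el w) c : ℕ) = seqN permList w c := by
  rw [φ_el hw, σ_word hw]

end Cfsg.Agent.InvChar.Coset.Fi23G
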