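import Cfsg.Prelude.Def_SporadicB
import Cfsg.Agent.InvChar.Coset.Fi22Order

/-!
# Groups satisfying the relators of Fi22 up to a central involution

A group generated by nine involutions which satisfies the relators of the presented Fi22 modulo a central involution has
twice the order of that group.
-/

set_option autoImplicit false
set_option linter.all false

noncomputable section

namespace Cfsg.Agent.InvChar.Coset.Fi23G

open Cfsg.Agent.CosetCert

theorem center_Fi22 : Subgroup.center Cfsg.Spor.Fi22 = ⊥ := by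
  haveI := Fi22B.simple_and_card.1
  haveI : Finite Cfsg.Spor.Fi22 := Nat.finite_of_card_ne_zero (by rw [Fi22B.simple_and_card.2]; norm_num)
  rcases IsSimpleGroup.eq_bot_or_eq_top_of_normal (Subgroup.center Cfsg.Spor.Fi22) inferInstance with h | h
  · exact h
  · exfalso
    letI : CommGroup Cfsg.Spor.Fi22 :=
      { (inferInstance : Group Cfsg.Spor.Fi22) with
        mul_comm := fun a b => (Subgroup.mem_center_iff.mp (h ▸ Subgroup.mem_top a) b).symm }
    have hp := IsSimpleGroup.prime_card (α := Cfsg.Spor.Fi22)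
    rw [Fi22B.simple_and_card.2] at hp
    norm_num at hp

theorem zpowers_card_two {A : Type*} [Group A] {z : A} (h1 : z ≠ 1) (h2 : z * z = 1) :
    Nat.card (Subgroup.zpowers z) = 2 := by
  rw [Nat.card_zpowers]
  exact orderOf_eq_prime (by rw [pow_two]; exact h2) h1

theorem mem_zpowers_two {A : Type*} [Group A] {z a : A} (h2 : z * z = 1) (ha : a ∈ Subgroup.zpowers z) :
    a = 1 ∨ a = z := by
  obtain ⟨m, rfl⟩ := Subgroup.mem_zpowers_iff.mp ha
  rcases Int.even_or_odd' m with ⟨k, rfl | rfl⟩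
  · left; rw [zpow_mul, zpow_two, h2, one_zpow]
  · right; rw [zpow_add, zpow_mul, zpow_two, h2, one_zpow, one_mul, zpow_one]

variable {A : Type} [Group A] (ga : ℕ → A) (za : A)

/-- The quotient by the central involution is the presented Fi22. -/
theorem quot_iso (hgen : Subgroup.closure (ga '' {i | i < 9}) = ⊤) (hsq : ∀ i, ga i * ga i = 1)
    (hc : ∀ a : A, za * a = a * za) (h2 : za * za = 1)
    (hne : ga 0 ≠ 1 ∧ ga 0 ≠ za)
    (hrel : ∀ w ∈ Fi22B.table.C.W, wprod ga w ∈ Subgroup.zpowers za) :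
    ∃ _ : (Subgroup.zpowers za).Normal, Nonempty (Cfsg.Spor.Fi22 ≃* A ⧸ Subgroup.zpowers za) := by
  have hn : (Subgroup.zpowers za).Normal := ⟨fun x hx g => by
    rcases mem_zpowers_two h2 hx with rfl | rfl
    · rw [mul_one, mul_inv_cancel]; exact one_mem _
    · rw [← hc, mul_inv_cancel_right]; exact Subgroup.mem_zpowers _⟩
  refine ⟨hn, ?_⟩
  set π := QuotientGroup.mk' (Subgroup.zpowers za) with hπ
  let f : Cfsg.Spor.Fi22.Gen → A ⧸ Subgroup.zpowers za := fun x => π (ga (Fi22B.data.idx x))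
  have hf : ∀ x, f x * f x = 1 := fun x => by
    show π _ * π _ = 1
    rw [← map_mul, hsq, map_one]
  let F : Cfsg.Spor.Fi22 →* A ⧸ Subgroup.zpowers za := PresentedGroup.toGroup (f := f) fun r hr => by
    obtain ⟨w, hw, e⟩ := (Fi22B.data.relator f (fun i => π (ga i)) hf (fun _ => rfl)).1 r hr
    rw [e, ← map_wprod π ga w]
    exact (QuotientGroup.eq_one_iff _).mpr (hrel w hw)
  have hF : ∀ x, F (PresentedGroup.of x) = π (ga (Fi22B.data.idx x)) := fun x => PresentedGroup.toGroup.of _
  have hsurj : Function.Surjective F := by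
    rw [← MonoidHom.range_eq_top, eq_top_iff]
    rintro q -
    obtain ⟨a, rfl⟩ := QuotientGroup.mk'_surjective (Subgroup.zpowers za) q
    have ha : a ∈ Subgroup.closure (ga '' {i | i < 9}) := hgen ▸ Subgroup.mem_top a
    induction ha using Subgroup.closure_induction with
    | mem x hx =>
      obtain ⟨i, hi, rfl⟩ := hx
      exact ⟨PresentedGroup.of (Fi22B.data.ofIdx i), by rw [hF, Fi22B.data.right i hi]⟩
    | one => rw [map_one]; exact one_mem _
    | mul x y _ _ ihx ihy => rw [map_mul]; exact mul_mem ihx ihy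
    | inv x _ ih => rw [map_inv]; exact inv_mem ih
  haveI := Fi22B.simple_and_card.1
  have hker : F.ker = ⊥ := by
    rcases IsSimpleGroup.eq_bot_or_eq_top_of_normal F.ker inferInstance with h | h
    · exact h
    · exfalso
      have h0 : F (PresentedGroup.of (Fi22B.data.ofIdx 0)) = 1 := MonoidHom.mem_ker.mp (h ▸ Subgroup.mem_top _)
      rw [hF, Fi22B.data.right 0 (by decide +kernel)] at h0
      rcases mem_zpowers_two h2 ((QuotientGroup.eq_one_iff _).mp h0) with e | e
      · exact hne.1 e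
      · exact hne.2 e
  exact ⟨MulEquiv.ofBijective F ⟨(MonoidHom.ker_eq_bot_iff _).mp hker, hsurj⟩⟩

/-- The order. -/
theorem card_cover (hgen : Subgroup.closure (ga '' {i | i < 9}) = ⊤) (hsq : ∀ i, ga i * ga i = 1)
    (hc : ∀ a : A, za * a = a * za) (h1 : za ≠ 1) (h2 : za * za = 1) (hne : ga 0 ≠ 1 ∧ ga 0 ≠ za)
    (hrel : ∀ w ∈ Fi22B.table.C.W, wprod ga w ∈ Subgroup.zpowers za) : Nat.card A = 129123503308800 := by
  obtain ⟨hn, ⟨i⟩⟩ := quot_iso ga za hgen hsq hc h2 hne hrel
  rw [Subgroup.card_eq_card_quotient_mul_card_subgroup (Subgroup.zpowers za), zpowers_card_two h1 h2,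
    ← Nat.card_congr i.toEquiv, Fi22B.simple_and_card.2]

/-- The pairs of joined generators. -/
def joins : List (ℕ × ℕ) := [(0, 1), (1, 2), (2, 3), (3, 4), (4, 5), (5, 6), (3, 7), (7, 8)]

/-- The double cover does not split. -/
theorem double_cover (hgen : Subgroup.closure (ga '' {i | i < 9}) = ⊤) (hsq : ∀ i, ga i * ga i = 1)
    (hc : ∀ a : A, za * a = a * za) (h1 : za ≠ 1) (h2 : za * za = 1) (hne : ga 0 ≠ 1 ∧ ga 0 ≠ za)
    (hrel : ∀ w ∈ Fi22B.table.C.W, wprod ga w ∈ Subgroup.zpowers za)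
    (hjoin : ∀ e ∈ joins, ga e.1 * ga e.2 * ga e.1 * ga e.2 * ga e.1 * ga e.2 = 1)
    (w₀ : List ℕ) (hw₀ : ∀ y ∈ w₀, y < 9) (hodd : Odd w₀.length) (hrel₀ : wprod ga w₀ = 1) :
    Cfsg.IsNonsplitDoubleCover A Cfsg.Spor.Fi22 := by
  obtain ⟨hn, ⟨i⟩⟩ := quot_iso ga za hgen hsq hc h2 hne hrel
  have hcen : Subgroup.center A = Subgroup.zpowers za := by
    refine le_antisymm (fun a ha => ?_) (Subgroup.zpowers_le.mpr (Subgroup.mem_center_iff.mpr fun g => (hc g).symm))
    have hq : i.symm (QuotientGroup.mk a) ∈ Subgroup.center Cfsg.Spor.Fi22 := by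
      refine Subgroup.mem_center_iff.mpr fun g => i.injective ?_
      rw [map_mul, map_mul, i.apply_symm_apply]
      obtain ⟨b, hb⟩ := QuotientGroup.mk_surjective (i g)
      rw [← hb, ← QuotientGroup.mk_mul, ← QuotientGroup.mk_mul, Subgroup.mem_center_iff.mp ha b]
    rw [center_Fi22, Subgroup.mem_bot, MulEquiv.map_eq_one_iff, QuotientGroup.eq_one_iff] at hq
    exact hq
  have hz : Nat.card (Subgroup.center A) = 2 := by rw [hcen]; exact zpowers_card_two h1 h2
  refine ⟨hz, ⟨(QuotientGroup.quotientMulEquivOfEq hcen).trans i.symm⟩, fun L hL => ?_⟩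
  have hidx : L.index = 2 := by
    rw [hL.index_eq_card, hz]
  haveI : L.Normal := Subgroup.normal_of_index_eq_two hidx
  have hone : ∀ {a : A}, (QuotientGroup.mk a : A ⧸ L) ≠ 1 → ∀ {b : A}, (QuotientGroup.mk b : A ⧸ L) ≠ 1 →
      (QuotientGroup.mk a : A ⧸ L) = QuotientGroup.mk b := by
    intro a ha b hb
    have h2' : Nat.card (A ⧸ L) = 2 := by rw [← Subgroup.index_eq_card]; exact hidx
    obtain ⟨y, -, hu⟩ := (Nat.card_eq_two_iff' (1 : A ⧸ L)).mp h2'
    exact (hu _ ha).trans (hu _ hb).symm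
  let χ : A →* A ⧸ L := QuotientGroup.mk' L
  have hχ2 : ∀ a, χ a * χ a = 1 := fun a => by
    rcases eq_or_ne (χ a) 1 with e | e
    · rw [e, mul_one]
    · rw [← map_mul]
      by_contra h
      have e' : χ (a * a) = χ a := hone h e
      rw [map_mul, mul_eq_left] at e'
      exact e e'
  have hj : ∀ e ∈ joins, χ (ga e.1) = χ (ga e.2) := by
    intro e he
    have h := congrArg χ (hjoin e he)
    simp only [map_mul, map_one] at h
    have hcm : (χ (ga e.1) * χ (ga e.2)) * (χ (ga e.1) * χ (ga e.2)) = 1 := by rw [← map_mul]; exact hχ2 _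
    have h3 : χ (ga e.1) * χ (ga e.2) = 1 := by
      calc χ (ga e.1) * χ (ga e.2)
          = (χ (ga e.1) * χ (ga e.2)) * (χ (ga e.1) * χ (ga e.2)) * (χ (ga e.1) * χ (ga e.2)) := by rw [hcm, one_mul]
        _ = _ := by simp only [mul_assoc] at h ⊢; exact h
    rw [mul_eq_one_iff_eq_inv] at h3
    rw [h3, inv_eq_of_mul_eq_one_right (hχ2 _)]
  have hall : ∀ y < 9, χ (ga y) = χ (ga 0) := by
    have e1 := hj (0, 1) (by decide)
    have e2 := hj (1, 2) (by decide)
    have e3 := hj (2, 3) (by decide)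
    have e4 := hj (3, 4) (by decide)
    have e5 := hj (4, 5) (by decide)
    have e6 := hj (5, 6) (by decide)
    have e7 := hj (3, 7) (by decide)
    have e8 := hj (7, 8) (by decide)
    simp only at e1 e2 e3 e4 e5 e6 e7 e8
    intro y hy
    interval_cases y
    · rfl
    · exact e1.symm
    · exact (e1.trans e2).symm
    · exact (e1.trans (e2.trans e3)).symm
    · exact (e1.trans (e2.trans (e3.trans e4))).symm
    · exact (e1.trans (e2.trans (e3.trans (e4.trans e5)))).symm
    · exact (e1.trans (e2.trans (e3.trans (e4.trans (e5.trans e6))))).symm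
    · exact (e1.trans (e2.trans (e3.trans e7))).symm
    · exact (e1.trans (e2.trans (e3.trans (e7.trans e8)))).symm
  have hword : ∀ w : List ℕ, (∀ y ∈ w, y < 9) → χ (wprod ga w) = χ (ga 0) ^ w.length := by
    intro w
    induction w with
    | nil => intro _; rw [wprod, map_one, List.length_nil, pow_zero]
    | cons y w ih =>
      intro hw
      rw [wprod, map_mul, ih fun z hz => hw z (List.mem_cons_of_mem _ hz), hall y (hw y List.mem_cons_self),
        List.length_cons, pow_succ]
  have h0 : χ (ga 0) = 1 := by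
    have h := hword w₀ hw₀
    rw [hrel₀, map_one] at h
    obtain ⟨k, hk⟩ := hodd
    rw [hk, pow_succ, pow_mul, pow_two, hχ2, one_pow, one_mul] at h
    exact h.symm
  have htop : L = ⊤ := by
    rw [eq_top_iff, ← hgen, Subgroup.closure_le]
    rintro _ ⟨y, hy, rfl⟩
    exact (QuotientGroup.eq_one_iff _).mp ((hall y hy).trans h0)
  rw [htop, Subgroup.index_top] at hidx
  norm_num at hidx

end Cfsg.Agent.InvChar.Coset.Fi23G
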