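import Cfsg.Agent.InvChar.Coset.Fi23Class

/-!
# The subgroup of index 31671 written with the named generators
-/

set_option autoImplicit false
set_option linter.all false

noncomputable section

namespace Cfsg.Agent.InvChar.Coset.Fi23G

open Cfsg.Agent.CosetCert

theorem named_eq : ((Subgroup.closure ({Cfsg.Spor.Fi23.a, Cfsg.Spor.Fi23.b, Cfsg.Spor.Fi23.c, Cfsg.Spor.Fi23.d,
    Cfsg.Spor.Fi23.e, Cfsg.Spor.Fi23.f, Cfsg.Spor.Fi23.g, Cfsg.Spor.Fi23.h, Cfsg.Spor.Fi23.i} :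
    Set (FreeGroup Cfsg.Spor.Fi23.Gen))).map
      (PresentedGroup.mk (Cfsg.Spor.coxRelators Cfsg.Spor.Fi23.edges ∪ {r | r ∈ Cfsg.Spor.Fi23.extra}))) = HH := by
  rw [MonoidHom.map_closure]
  unfold HH subg
  congr 1
  ext p
  simp [top, CoxData.gen, K_eq, data, ofIdx, Cfsg.Spor.Fi23.a, Cfsg.Spor.Fi23.b, Cfsg.Spor.Fi23.c, Cfsg.Spor.Fi23.d,
    Cfsg.Spor.Fi23.e, Cfsg.Spor.Fi23.f, Cfsg.Spor.Fi23.g, Cfsg.Spor.Fi23.h, Cfsg.Spor.Fi23.i, PresentedGroup.of, eq_comm]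

theorem named_suborbits : HH.index = 31671 ∧ ∃ q₁ q₂ : GG ⧸ HH,
    (MulAction.orbit HH q₁).ncard = 3510 ∧ (MulAction.orbit HH q₂).ncard = 28160 := by
  obtain ⟨q1, h1⟩ := suborbit 2 (by norm_num)
  obtain ⟨q2, h2⟩ := suborbit 1 (by norm_num)
  exact ⟨index_H, q1, q2, h1.trans counts.2.2, h2.trans counts.2.1⟩

end Cfsg.Agent.InvChar.Coset.Fi23G
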