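import Cfsg.Agent.InvChar.Coset.Fi23GData

/-!
# Coset certificate check, a part
-/

set_option autoImplicit false
set_option linter.all false

namespace Cfsg.Agent.InvChar.Coset.Fi23G

open Cfsg.Agent.CosetCert

theorem edges25 : edgesOK table tgtTree 12500 500 = true := by decide +kernel

theorem edges26 : edgesOK table tgtTree 13000 500 = true := by decide +kernel

theorem edges27 : edgesOK table tgtTree 13500 500 = true := by decide +kernel

theorem edges28 : edgesOK table tgtTree 14000 500 = true := by decide +kernel

theorem edges29 : edgesOK table tgtTree 14500 500 = true := by decide +kernel

theorem edges30 : edgesOK table tgtTree 15000 500 = true := by decide +kernel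

theorem edges31 : edgesOK table tgtTree 15500 500 = true := by decide +kernel

theorem edges32 : edgesOK table tgtTree 16000 500 = true := by decide +kernel

theorem edges33 : edgesOK table tgtTree 16500 500 = true := by decide +kernel

theorem edges34 : edgesOK table tgtTree 17000 500 = true := by decide +kernel

theorem edges35 : edgesOK table tgtTree 17500 500 = true := by decide +kernel

theorem edges36 : edgesOK table tgtTree 18000 500 = true := by decide +kernel

theorem edges37 : edgesOK table tgtTree 18500 500 = true := by decide +kernel

theorem edges38 : edgesOK table tgtTree 19000 500 = true := by decide +kernel

theorem edges39 : edgesOK table tgtTree 19500 500 = true := by decide +kernel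

theorem edges40 : edgesOK table tgtTree 20000 500 = true := by decide +kernel

theorem edges41 : edgesOK table tgtTree 20500 500 = true := by decide +kernel

theorem edges42 : edgesOK table tgtTree 21000 500 = true := by decide +kernel

theorem edges43 : edgesOK table tgtTree 21500 500 = true := by decide +kernel

theorem edges44 : edgesOK table tgtTree 22000 500 = true := by decide +kernel

theorem edges45 : edgesOK table tgtTree 22500 500 = true := by decide +kernel

theorem edges46 : edgesOK table tgtTree 23000 500 = true := by decide +kernel

theorem edges47 : edgesOK table tgtTree 23500 500 = true := by decide +kernel

theorem edges48 : edgesOK table tgtTree 24000 500 = true := by decide +kernel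

theorem edges49 : edgesOK table tgtTree 24500 500 = true := by decide +kernel

end Cfsg.Agent.InvChar.Coset.Fi23G
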