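import Cfsg.Agent.InvChar.Coset.Fi23GData

/-!
# Coset certificate check, a part
-/

set_option autoImplicit false
set_option linter.all false

namespace Cfsg.Agent.InvChar.Coset.Fi23G

open Cfsg.Agent.CosetCert

theorem steps150 : rangeOK cert 150000 1000 = true := by decide +kernel

theorem steps151 : rangeOK cert 151000 1000 = true := by decide +kernel

theorem steps152 : rangeOK cert 152000 1000 = true := by decide +kernel

theorem steps153 : rangeOK cert 153000 1000 = true := by decide +kernel

theorem steps154 : rangeOK cert 154000 1000 = true := by decide +kernel

theorem steps155 : rangeOK cert 155000 1000 = true := by decide +kernel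

theorem steps156 : rangeOK cert 156000 1000 = true := by decide +kernel

theorem steps157 : rangeOK cert 157000 1000 = true := by decide +kernel

theorem steps158 : rangeOK cert 158000 1000 = true := by decide +kernel

theorem steps159 : rangeOK cert 159000 1000 = true := by decide +kernel

theorem steps160 : rangeOK cert 160000 1000 = true := by decide +kernel

theorem steps161 : rangeOK cert 161000 1000 = true := by decide +kernel

theorem steps162 : rangeOK cert 162000 1000 = true := by decide +kernel

theorem steps163 : rangeOK cert 163000 1000 = true := by decide +kernel

theorem steps164 : rangeOK cert 164000 1000 = true := by decide +kernel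

end Cfsg.Agent.InvChar.Coset.Fi23G
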