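import Cfsg.Agent.InvChar.Coset.Fi23GData

/-!
# Coset certificate check, a part
-/

set_option autoImplicit false
set_option linter.all false

namespace Cfsg.Agent.InvChar.Coset.Fi23G

open Cfsg.Agent.CosetCert

theorem steps180 : rangeOK cert 180000 1000 = true := by decide +kernel

theorem steps181 : rangeOK cert 181000 1000 = true := by decide +kernel

theorem steps182 : rangeOK cert 182000 1000 = true := by decide +kernel

theorem steps183 : rangeOK cert 183000 1000 = true := by decide +kernel

theorem steps184 : rangeOK cert 184000 1000 = true := by decide +kernel

theorem steps185 : rangeOK cert 185000 1000 = true := by decide +kernel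

theorem steps186 : rangeOK cert 186000 1000 = true := by decide +kernel

theorem steps187 : rangeOK cert 187000 1000 = true := by decide +kernel

theorem steps188 : rangeOK cert 188000 1000 = true := by decide +kernel

theorem steps189 : rangeOK cert 189000 1000 = true := by decide +kernel

theorem steps190 : rangeOK cert 190000 1000 = true := by decide +kernel

theorem steps191 : rangeOK cert 191000 302 = true := by decide +kernel

end Cfsg.Agent.InvChar.Coset.Fi23G
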