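import Cfsg.Agent.InvChar.Coset.Fi23GData

/-!
# Coset certificate check, a part
-/

set_option autoImplicit false
set_option linter.all false

namespace Cfsg.Agent.InvChar.Coset.Fi23G

open Cfsg.Agent.CosetCert

theorem steps75 : rangeOK cert 75000 1000 = true := by decide +kernel

theorem steps76 : rangeOK cert 76000 1000 = true := by decide +kernel

theorem steps77 : rangeOK cert 77000 1000 = true := by decide +kernel

theorem steps78 : rangeOK cert 78000 1000 = true := by decide +kernel

theorem steps79 : rangeOK cert 79000 1000 = true := by decide +kernel

theorem steps80 : rangeOK cert 80000 1000 = true := by decide +kernel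

theorem steps81 : rangeOK cert 81000 1000 = true := by decide +kernel

theorem steps82 : rangeOK cert 82000 1000 = true := by decide +kernel

theorem steps83 : rangeOK cert 83000 1000 = true := by decide +kernel

theorem steps84 : rangeOK cert 84000 1000 = true := by decide +kernel

theorem steps85 : rangeOK cert 85000 1000 = true := by decide +kernel

theorem steps86 : rangeOK cert 86000 1000 = true := by decide +kernel

theorem steps87 : rangeOK cert 87000 1000 = true := by decide +kernel

theorem steps88 : rangeOK cert 88000 1000 = true := by decide +kernel

theorem steps89 : rangeOK cert 89000 1000 = true := by decide +kernel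

end Cfsg.Agent.InvChar.Coset.Fi23G
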