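import Cfsg.Agent.InvChar.Coset.Fi23GData

/-!
# Coset certificate check, a part
-/

set_option autoImplicit false
set_option linter.all false

namespace Cfsg.Agent.InvChar.Coset.Fi23G

open Cfsg.Agent.CosetCert

theorem steps90 : rangeOK cert 90000 1000 = true := by decide +kernel

theorem steps91 : rangeOK cert 91000 1000 = true := by decide +kernel

theorem steps92 : rangeOK cert 92000 1000 = true := by decide +kernel

theorem steps93 : rangeOK cert 93000 1000 = true := by decide +kernel

theorem steps94 : rangeOK cert 94000 1000 = true := by decide +kernel

theorem steps95 : rangeOK cert 95000 1000 = true := by decide +kernel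

theorem steps96 : rangeOK cert 96000 1000 = true := by decide +kernel

theorem steps97 : rangeOK cert 97000 1000 = true := by decide +kernel

theorem steps98 : rangeOK cert 98000 1000 = true := by decide +kernel

theorem steps99 : rangeOK cert 99000 1000 = true := by decide +kernel

theorem steps100 : rangeOK cert 100000 1000 = true := by decide +kernel

theorem steps101 : rangeOK cert 101000 1000 = true := by decide +kernel

theorem steps102 : rangeOK cert 102000 1000 = true := by decide +kernel

theorem steps103 : rangeOK cert 103000 1000 = true := by decide +kernel

theorem steps104 : rangeOK cert 104000 1000 = true := by decide +kernel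

end Cfsg.Agent.InvChar.Coset.Fi23G
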