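import Cfsg.Agent.InvChar.Coset.Fi23GRowDefs

/-!
# Rows checked, a part
-/

set_option autoImplicit false
set_option linter.all false
set_option Elab.async false

namespace Cfsg.Agent.InvChar.Coset.Fi23G

open Cfsg.Agent.CosetCert TreePerm

theorem good0 : scanR goodRow 0 300 = true := by decide +kernel

theorem good1 : scanR goodRow 300 300 = true := by decide +kernel

theorem good2 : scanR goodRow 600 300 = true := by decide +kernel

theorem good3 : scanR goodRow 900 300 = true := by decide +kernel

theorem good4 : scanR goodRow 1200 300 = true := by decide +kernel

theorem good5 : scanR goodRow 1500 300 = true := by decide +kernel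

theorem good6 : scanR goodRow 1800 300 = true := by decide +kernel

theorem good7 : scanR goodRow 2100 300 = true := by decide +kernel

theorem good8 : scanR goodRow 2400 300 = true := by decide +kernel

theorem good9 : scanR goodRow 2700 300 = true := by decide +kernel

theorem good10 : scanR goodRow 3000 300 = true := by decide +kernel

theorem good11 : scanR goodRow 3300 300 = true := by decide +kernel

end Cfsg.Agent.InvChar.Coset.Fi23G
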