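import Cfsg.Agent.InvChar.Coset.Fi23GPerm0
import Cfsg.Agent.InvChar.Coset.Fi23GPerm1

/-!
# Equations between the permutations and the orbits
-/

set_option autoImplicit false
set_option linter.all false

namespace Cfsg.Agent.InvChar.Coset.Fi23G

open Cfsg.Agent.CosetCert

noncomputable def oT0 : Tree :=
  .node 64 (.node 32 (.node 16 (.node 8 (.node 4 (.node 2 (.node 1 (.leaf (nat_lit 0x0)) (.leaf (nat_lit 0x1))) (.node 1 (.leaf (nat_lit 0x106000011)) (.leaf (nat_lit 0x205000021)))) (.node 2 (.node 1 (.leaf (nat_lit 0x304000031)) (.leaf (nat_lit 0x403000041))) (.node 1 (.leaf (nat_lit 0x502000051)) (.leaf (nat_lit 0x507000051))))) (.node 4 (.node 2 (.node 1 (.leaf (nat_lit 0x601000061)) (.leaf (nat_lit 0x607000061))) (.node 1 (.leaf (nat_lit 0x608000071)) (.leaf (nat_lit 0x700000081)))) (.node 2 (.node 1 (.leaf (nat_lit 0x707000081)) (.leaf (nat_lit 0x703000091))) (.node 1 (.leaf (nat_lit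 0x708000091)) (.leaf (nat_lit 0x8070000b1)))))) (.node 8 (.node 4 (.node 2 (.node 1 (.leaf (nat_lit 0x8030000c1)) (.leaf (nat_lit 0x8080000c1))) (.node 1 (.leaf (nat_lit 0x8040000d1)) (.leaf (nat_lit 0x8080000d1)))) (.node 2 (.node 1 (.leaf (nat_lit 0x9030000f1)) (.leaf (nat_lit 0x9080000f1))) (.node 1 (.leaf (nat_lit 0x902000101)) (.leaf (nat_lit 0x904000101))))) (.node 4 (.node 2 (.node 1 (.leaf (nat_lit 0x908000101)) (.leaf (nat_lit 0x905000121))) (.node 1 (.leaf (nat_lit 0x908000121)) (.leaf (nat_lit 0x907000131)))) (.node 2 (.node 1 (.leaf (nat_lit 0xa02000141)) (.leaf (nat_lit 0xa04000141))) (.node 1 (.leaf (nat_lit 0xa08000141)) (.leaf (nat_lit 0xa04000161))))))) (.node 16 (.node 8 (.node 4 (.node 2 (.node 1 (.leaf (nat_lit 0xa08000161)) (.leaf (nat_lit 0xa05000171))) (.node 1 (.leaf (nat_lit 0xa08000171)) (.leaf (nat_lit 0xa07000181)))) (.node 2 (.node 1 (.leaf (nat_lit 0xa06000191))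 (.leaf (nat_lit 0xa08000191))) (.node 1 (.leaf (nat_lit 0xa070001a1)) (.leaf (nat_lit 0xb010001c1))))) (.node 4 (.node 2 (.node 1 (.leaf (nat_lit 0xb040001c1)) (.leaf (nat_lit 0xb080001c1))) (.node 1 (.leaf (nat_lit 0xb050001d1)) (.leaf (nat_lit 0xb080001d1)))) (.node 2 (.node 1 (.leaf (nat_lit 0xb070001e1)) (.leaf (nat_lit 0xb030001f1))) (.node 1 (.leaf (nat_lit 0xb050001f1)) (.leaf (nat_lit 0xb080001f1)))))) (.node 8 (.node 4 (.node 2 (.node 1 (.leaf (nat_lit 0xb07000201)) (.leaf (nat_lit 0xb06000211))) (.node 1 (.leaf (nat_lit 0xb08000211)) (.leaf (nat_lit 0xb07000221)))) (.node 2 (.node 1 (.leaf (nat_lit 0x2)) (.leaf (nat_lit 0xb08000241))) (.node 1 (.leaf (nat_lit 0xb07000251)) (.leaf (nat_lit 0xb03000261))))) (.node 4 (.node 2 (.node 1 (.leaf (nat_lit 0xc04000271)) (.leaf (nat_lit 0xc08000271))) (.node 1 (.leaf (nat_lit 0xc03000281)) (.leaf (nat_lit 0xc05000281)))) (.node 2 (.node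 1 (.leaf (nat_lit 0xc08000281)) (.leaf (nat_lit 0xc07000291))) (.node 1 (.leaf (nat_lit 0xc060002a1)) (.leaf (nat_lit 0xc080002a1)))))))) (.node 32 (.node 16 (.node 8 (.node 4 (.node 2 (.node 1 (.leaf (nat_lit 0xc070002b1)) (.leaf (nat_lit 0xc050002d1))) (.node 1 (.leaf (nat_lit 0xc070002d1)) (.leaf (nat_lit 0xc080002d1)))) (.node 2 (.node 1 (.leaf (nat_lit 0xc060002e1)) (.leaf (nat_lit 0xc080002e1))) (.node 1 (.leaf (nat_lit 0xc070002f1)) (.leaf (nat_lit 0xc03000301))))) (.node 4 (.node 2 (.node 1 (.leaf (nat_lit 0x101000342)) (.leaf (nat_lit 0xc08000311))) (.node 1 (.leaf (nat_lit 0xc07000321)) (.leaf (nat_lit 0xc03000331)))) (.node 2 (.node 1 (.leaf (nat_lit 0x108000342)) (.leaf (nat_lit 0xc07000351))) (.node 1 (.leaf (nat_lit 0xc03000361)) (.leaf (nat_lit 0xc02000371)))))) (.node 8 (.node 4 (.node 2 (.node 1 (.leaf (nat_lit 0xd03000381)) (.leaf (nat_lit 0xd05000381))) (.node 1 (.leaf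 (nat_lit 0xd08000381)) (.leaf (nat_lit 0xd07000391)))) (.node 2 (.node 1 (.leaf (nat_lit 0xd050003a1)) (.leaf (nat_lit 0xd070003a1))) (.node 1 (.leaf (nat_lit 0xd080003a1)) (.leaf (nat_lit 0xd060003b1))))) (.node 4 (.node 2 (.node 1 (.leaf (nat_lit 0xd080003b1)) (.leaf (nat_lit 0xd070003c1))) (.node 1 (.leaf (nat_lit 0xd030003d1)) (.leaf (nat_lit 0x200000482)))) (.node 2 (.node 1 (.leaf (nat_lit 0xd080003e1)) (.leaf (nat_lit 0xd070003f1))) (.node 1 (.leaf (nat_lit 0xd03000401)) (.leaf (nat_lit 0xd04000411))))))) (.node 16 (.node 8 (.node 4 (.node 2 (.node 1 (.leaf (nat_lit 0xd06000411)) (.leaf (nat_lit 0xd07000411))) (.node 1 (.leaf (nat_lit 0xd08000411)) (.leaf (nat_lit 0xd08000421)))) (.node 2 (.node 1 (.leaf (nat_lit 0xd07000431)) (.leaf (nat_lit 0x202000482))) (.node 1 (.leaf (nat_lit 0xd08000441)) (.leaf (nat_lit 0xd07000451))))) (.node 4 (.node 2 (.node 1 (.leaf (nat_lit 0xd03000461))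 (.leaf (nat_lit 0xd04000471))) (.node 1 (.leaf (nat_lit 0x208000482)) (.leaf (nat_lit 0xd07000491)))) (.node 2 (.node 1 (.leaf (nat_lit 0xd030004a1)) (.leaf (nat_lit 0xd020004b1))) (.node 1 (.leaf (nat_lit 0x2070004c2)) (.leaf (nat_lit 0xd030004d1)))))) (.node 8 (.node 4 (.node 2 (.node 1 (.leaf (nat_lit 0xd020004e1)) (.leaf (nat_lit 0xd040004e1))) (.node 1 (.leaf (nat_lit 0xd010004f1)) (.leaf (nat_lit 0xe02000501)))) (.node 2 (.node 1 (.leaf (nat_lit 0xe05000501)) (.leaf (nat_lit 0xe07000501))) (.node 1 (.leaf (nat_lit 0xe08000501)) (.leaf (nat_lit 0xe06000511))))) (.node 4 (.node 2 (.node 1 (.leaf (nat_lit 0xe08000511)) (.leaf (nat_lit 0xe07000521))) (.node 1 (.leaf (nat_lit 0xe03000531)) (.leaf (nat_lit 0xe04000541)))) (.node 2 (.node 1 (.leaf (nat_lit 0xe06000541)) (.leaf (nat_lit 0xe07000541))) (.node 1 (.leaf (nat_lit 0xe08000541)) (.leaf (nat_lit 0xe08000551))))))))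

noncomputable def oT1 : Tree :=
  .node 64 (.node 32 (.node 16 (.node 8 (.node 4 (.node 2 (.node 1 (.leaf (nat_lit 0xe07000561)) (.leaf (nat_lit 0x3020005b2))) (.node 1 (.leaf (nat_lit 0xe08000571)) (.leaf (nat_lit 0xe07000581)))) (.node 2 (.node 1 (.leaf (nat_lit 0xe03000591)) (.leaf (nat_lit 0xe040005a1))) (.node 1 (.leaf (nat_lit 0x3080005b2)) (.leaf (nat_lit 0xe070005c1))))) (.node 4 (.node 2 (.node 1 (.leaf (nat_lit 0xe030005d1)) (.leaf (nat_lit 0xe020005e1))) (.node 1 (.leaf (nat_lit 0xe060005f1)) (.leaf (nat_lit 0xe070005f1)))) (.node 2 (.node 1 (.leaf (nat_lit 0xe080005f1)) (.leaf (nat_lit 0x303000652))) (.node 1 (.leaf (nat_lit 0xe07000601)) (.leaf (nat_lit 0xe08000601)))))) (.node 8 (.node 4 (.node 2 (.node 1 (.leaf (nat_lit 0xe08000611)) (.leaf (nat_lit 0xe07000621))) (.node 1 (.leaf (nat_lit 0xe07000631)) (.leaf (nat_lit 0xe03000641)))) (.node 2 (.node 1 (.leaf (nat_lit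 0x308000652)) (.leaf (nat_lit 0xe07000661))) (.node 1 (.leaf (nat_lit 0xe03000671)) (.leaf (nat_lit 0xe02000681))))) (.node 4 (.node 2 (.node 1 (.leaf (nat_lit 0xe04000681)) (.leaf (nat_lit 0xe05000691))) (.node 1 (.leaf (nat_lit 0x3070006a2)) (.leaf (nat_lit 0xe030006b1)))) (.node 2 (.node 1 (.leaf (nat_lit 0xe020006c1)) (.leaf (nat_lit 0xe040006c1))) (.node 1 (.leaf (nat_lit 0xe010006d1)) (.leaf (nat_lit 0x3030006e2))))))) (.node 16 (.node 8 (.node 4 (.node 2 (.node 1 (.leaf (nat_lit 0xe020006f1)) (.leaf (nat_lit 0xe040006f1))) (.node 1 (.leaf (nat_lit 0xe01000701)) (.leaf (nat_lit 0xe04000701)))) (.node 2 (.node 1 (.leaf (nat_lit 0xe00000721)) (.leaf (nat_lit 0xf05000731))) (.node 1 (.leaf (nat_lit 0xf07000731)) (.leaf (nat_lit 0xf08000731))))) (.node 4 (.node 2 (.node 1 (.leaf (nat_lit 0xf04000741)) (.leaf (nat_lit 0xf06000741))) (.node 1 (.leaf (nat_lit 0xf07000741)) (.leaf (nat_lit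 0xf08000741)))) (.node 2 (.node 1 (.leaf (nat_lit 0xf08000751)) (.leaf (nat_lit 0xf07000761))) (.node 1 (.leaf (nat_lit 0x401000812)) (.leaf (nat_lit 0xf08000771)))))) (.node 8 (.node 4 (.node 2 (.node 1 (.leaf (nat_lit 0xf07000781)) (.leaf (nat_lit 0xf03000791))) (.node 1 (.leaf (nat_lit 0xf020007a1)) (.leaf (nat_lit 0xf040007a1)))) (.node 2 (.node 1 (.leaf (nat_lit 0xf060007b1)) (.leaf (nat_lit 0xf070007b1))) (.node 1 (.leaf (nat_lit 0xf080007b1)) (.leaf (nat_lit 0x403000812))))) (.node 4 (.node 2 (.node 1 (.leaf (nat_lit 0xf070007c1)) (.leaf (nat_lit 0xf080007c1))) (.node 1 (.leaf (nat_lit 0xf080007d1)) (.leaf (nat_lit 0xf070007e1)))) (.node 2 (.node 1 (.leaf (nat_lit 0xf070007f1)) (.leaf (nat_lit 0xf03000801))) (.node 1 (.leaf (nat_lit 0x408000812)) (.leaf (nat_lit 0xf07000821)))))))) (.node 32 (.node 16 (.node 8 (.node 4 (.node 2 (.node 1 (.leaf (nat_lit 0xf03000831)) (.leaf (nat_lit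 0xf02000841))) (.node 1 (.leaf (nat_lit 0xf04000841)) (.leaf (nat_lit 0xf05000851)))) (.node 2 (.node 1 (.leaf (nat_lit 0x407000862)) (.leaf (nat_lit 0xf03000871))) (.node 1 (.leaf (nat_lit 0xf02000881)) (.leaf (nat_lit 0xf04000881))))) (.node 4 (.node 2 (.node 1 (.leaf (nat_lit 0xf01000891)) (.leaf (nat_lit 0xf050008a1))) (.node 1 (.leaf (nat_lit 0x4040008d2)) (.leaf (nat_lit 0xf070008a1)))) (.node 2 (.node 1 (.leaf (nat_lit 0xf080008a1)) (.leaf (nat_lit 0xf030008b1))) (.node 1 (.leaf (nat_lit 0xf080008b1)) (.leaf (nat_lit 0xf070008c1)))))) (.node 8 (.node 4 (.node 2 (.node 1 (.leaf (nat_lit 0x4070008d2)) (.leaf (nat_lit 0x4080008d2))) (.node 1 (.leaf (nat_lit 0xf080008e1)) (.leaf (nat_lit 0xf070008f1)))) (.node 2 (.node 1 (.leaf (nat_lit 0xf07000901)) (.leaf (nat_lit 0xf03000911))) (.node 1 (.leaf (nat_lit 0xf03000921)) (.leaf (nat_lit 0xf02000931))))) (.node 4 (.node 2 (.node 1 (.leaf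 (nat_lit 0xf04000931)) (.leaf (nat_lit 0x407000942))) (.node 1 (.leaf (nat_lit 0xf03000951)) (.leaf (nat_lit 0xf02000961)))) (.node 2 (.node 1 (.leaf (nat_lit 0xf04000961)) (.leaf (nat_lit 0xf01000971))) (.node 1 (.leaf (nat_lit 0xf04000971)) (.leaf (nat_lit 0xf05000981))))))) (.node 16 (.node 8 (.node 4 (.node 2 (.node 1 (.leaf (nat_lit 0xf06000991)) (.leaf (nat_lit 0x4030009a2))) (.node 1 (.leaf (nat_lit 0xf020009b1)) (.leaf (nat_lit 0xf040009b1)))) (.node 2 (.node 1 (.leaf (nat_lit 0xf010009c1)) (.leaf (nat_lit 0xf040009c1))) (.node 1 (.leaf (nat_lit 0xf000009e1)) (.leaf (nat_lit 0x4020009f2))))) (.node 4 (.node 2 (.node 1 (.leaf (nat_lit 0x4040009f2)) (.leaf (nat_lit 0xf01000a01))) (.node 1 (.leaf (nat_lit 0xf04000a01)) (.leaf (nat_lit 0xf05000a11)))) (.node 2 (.node 1 (.leaf (nat_lit 0xf00000a21)) (.leaf (nat_lit 0xf04000a21))) (.node 1 (.leaf (nat_lit 0xf03000a31)) (.leaf (nat_lit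 0x1004000a51)))))) (.node 8 (.node 4 (.node 2 (.node 1 (.leaf (nat_lit 0x1006000a51)) (.leaf (nat_lit 0x1007000a51))) (.node 1 (.leaf (nat_lit 0x1008000a51)) (.leaf (nat_lit 0x1003000a61)))) (.node 2 (.node 1 (.leaf (nat_lit 0x1008000a61)) (.leaf (nat_lit 0x1007000a71))) (.node 1 (.leaf (nat_lit 0x1006000a81)) (.leaf (nat_lit 0x1007000a81))))) (.node 4 (.node 2 (.node 1 (.leaf (nat_lit 0x1008000a81)) (.leaf (nat_lit 0x503000ae2))) (.node 1 (.leaf (nat_lit 0x1007000a91)) (.leaf (nat_lit 0x1008000a91)))) (.node 2 (.node 1 (.leaf (nat_lit 0x1008000aa1)) (.leaf (nat_lit 0x1007000ab1))) (.node 1 (.leaf (nat_lit 0x1007000ac1)) (.leaf (nat_lit 0x1003000ad1))))))))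

noncomputable def oT2 : Tree :=
  .node 64 (.node 32 (.node 16 (.node 8 (.node 4 (.node 2 (.node 1 (.leaf (nat_lit 0x508000ae2)) (.leaf (nat_lit 0x1007000af1))) (.node 1 (.leaf (nat_lit 0x1003000b01)) (.leaf (nat_lit 0x1002000b11)))) (.node 2 (.node 1 (.leaf (nat_lit 0x1004000b11)) (.leaf (nat_lit 0x1004000b21))) (.node 1 (.leaf (nat_lit 0x1005000b31)) (.leaf (nat_lit 0x1005000b41))))) (.node 4 (.node 2 (.node 1 (.leaf (nat_lit 0x504000b72)) (.leaf (nat_lit 0x1007000b41))) (.node 1 (.leaf (nat_lit 0x1008000b41)) (.leaf (nat_lit 0x1003000b51)))) (.node 2 (.node 1 (.leaf (nat_lit 0x1008000b51)) (.leaf (nat_lit 0x1007000b61))) (.node 1 (.leaf (nat_lit 0x507000b72)) (.leaf (nat_lit 0x508000b72)))))) (.node 8 (.node 4 (.node 2 (.node 1 (.leaf (nat_lit 0x1008000b81)) (.leaf (nat_lit 0x1007000b91))) (.node 1 (.leaf (nat_lit 0x1007000ba1)) (.leaf (nat_lit 0x1003000bb1)))) (.node 2 (.node 1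 (.leaf (nat_lit 0x1003000bc1)) (.leaf (nat_lit 0x1002000bd1))) (.node 1 (.leaf (nat_lit 0x1004000bd1)) (.leaf (nat_lit 0x507000be2))))) (.node 4 (.node 2 (.node 1 (.leaf (nat_lit 0x1003000bf1)) (.leaf (nat_lit 0x1002000c01))) (.node 1 (.leaf (nat_lit 0x1004000c01)) (.leaf (nat_lit 0x1001000c11)))) (.node 2 (.node 1 (.leaf (nat_lit 0x1004000c11)) (.leaf (nat_lit 0x1005000c21))) (.node 1 (.leaf (nat_lit 0x1006000c31)) (.leaf (nat_lit 0x503000c42))))))) (.node 16 (.node 8 (.node 4 (.node 2 (.node 1 (.leaf (nat_lit 0x1002000c51)) (.leaf (nat_lit 0x1004000c51))) (.node 1 (.leaf (nat_lit 0x1001000c61)) (.leaf (nat_lit 0x1004000c61)))) (.node 2 (.node 1 (.leaf (nat_lit 0x1000000c81)) (.leaf (nat_lit 0x505000ca2))) (.node 1 (.leaf (nat_lit 0x1007000c91)) (.leaf (nat_lit 0x1008000c91))))) (.node 4 (.node 2 (.node 1 (.leaf (nat_lit 0x507000ca2)) (.leaf (nat_lit 0x508000ca2))) (.node 1 (.leaf (nat_lit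 0x1003000cb1)) (.leaf (nat_lit 0x1008000cb1)))) (.node 2 (.node 1 (.leaf (nat_lit 0x1007000cc1)) (.leaf (nat_lit 0x1002000cd1))) (.node 1 (.leaf (nat_lit 0x1008000cd1)) (.leaf (nat_lit 0x1007000ce1)))))) (.node 8 (.node 4 (.node 2 (.node 1 (.leaf (nat_lit 0x1003000cf1)) (.leaf (nat_lit 0x508000d02))) (.node 1 (.leaf (nat_lit 0x507000d12)) (.leaf (nat_lit 0x1007000d21)))) (.node 2 (.node 1 (.leaf (nat_lit 0x1003000d31)) (.leaf (nat_lit 0x1003000d41))) (.node 1 (.leaf (nat_lit 0x1002000d51)) (.leaf (nat_lit 0x1004000d51))))) (.node 4 (.node 2 (.node 1 (.leaf (nat_lit 0x1002000d61)) (.leaf (nat_lit 0x1004000d61))) (.node 1 (.leaf (nat_lit 0x1001000d71)) (.leaf (nat_lit 0x1004000d71)))) (.node 2 (.node 1 (.leaf (nat_lit 0x1005000d81)) (.leaf (nat_lit 0x503000d92))) (.node 1 (.leaf (nat_lit 0x1002000da1)) (.leaf (nat_lit 0x1004000da1)))))))) (.node 32 (.node 16 (.node 8 (.node 4 (.node 2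 (.node 1 (.leaf (nat_lit 0x1001000db1)) (.leaf (nat_lit 0x1004000db1))) (.node 1 (.leaf (nat_lit 0x1005000dc1)) (.leaf (nat_lit 0x1000000dd1)))) (.node 2 (.node 1 (.leaf (nat_lit 0x1004000dd1)) (.leaf (nat_lit 0x1005000de1))) (.node 1 (.leaf (nat_lit 0x1006000df1)) (.leaf (nat_lit 0x1e00001a41))))) (.node 4 (.node 2 (.node 1 (.leaf (nat_lit 0x502000e12)) (.leaf (nat_lit 0x504000e12))) (.node 1 (.leaf (nat_lit 0x1001000e21)) (.leaf (nat_lit 0x1004000e21)))) (.node 2 (.node 1 (.leaf (nat_lit 0x1005000e31)) (.leaf (nat_lit 0x1000000e41))) (.node 1 (.leaf (nat_lit 0x1004000e41)) (.leaf (nat_lit 0x1003000e51)))))) (.node 8 (.node 4 (.node 2 (.node 1 (.leaf (nat_lit 0x501000e72)) (.leaf (nat_lit 0x504000e72))) (.node 1 (.leaf (nat_lit 0x505000e82)) (.leaf (nat_lit 0x1000000e91)))) (.node 2 (.node 1 (.leaf (nat_lit 0x1004000e91)) (.leaf (nat_lit 0x1003000ea1))) (.node 1 (.leaf (nat_lit 0x1005000ea1))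 (.leaf (nat_lit 0x1004000ec1))))) (.node 4 (.node 2 (.node 1 (.leaf (nat_lit 0x1003000ed1)) (.leaf (nat_lit 0x1007000ee1))) (.node 1 (.leaf (nat_lit 0x1103000ef1)) (.leaf (nat_lit 0x1106000ef1)))) (.node 2 (.node 1 (.leaf (nat_lit 0x1107000ef1)) (.leaf (nat_lit 0x1108000ef1))) (.node 1 (.leaf (nat_lit 0x602000f92)) (.leaf (nat_lit 0x1107000f01))))))) (.node 16 (.node 8 (.node 4 (.node 2 (.node 1 (.leaf (nat_lit 0x1108000f01)) (.leaf (nat_lit 0x1103000f11))) (.node 1 (.leaf (nat_lit 0x1108000f11)) (.leaf (nat_lit 0x1107000f21)))) (.node 2 (.node 1 (.leaf (nat_lit 0x1104000f31)) (.leaf (nat_lit 0x1108000f31))) (.node 1 (.leaf (nat_lit 0x1107000f41)) (.leaf (nat_lit 0x1103000f51))))) (.node 4 (.node 2 (.node 1 (.leaf (nat_lit 0x1105000f61)) (.leaf (nat_lit 0x604000f92))) (.node 1 (.leaf (nat_lit 0x1107000f61)) (.leaf (nat_lit 0x1108000f61)))) (.node 2 (.node 1 (.leaf (nat_lit 0x1103000f71))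 (.leaf (nat_lit 0x1108000f71))) (.node 1 (.leaf (nat_lit 0x1107000f81)) (.leaf (nat_lit 0x607000f92)))))) (.node 8 (.node 4 (.node 2 (.node 1 (.leaf (nat_lit 0x608000f92)) (.leaf (nat_lit 0x1108000fa1))) (.node 1 (.leaf (nat_lit 0x1107000fb1)) (.leaf (nat_lit 0x1107000fc1)))) (.node 2 (.node 1 (.leaf (nat_lit 0x1103000fd1)) (.leaf (nat_lit 0x1103000fe1))) (.node 1 (.leaf (nat_lit 0x1102000ff1)) (.leaf (nat_lit 0x1104000ff1))))) (.node 4 (.node 2 (.node 1 (.leaf (nat_lit 0x607001002)) (.leaf (nat_lit 0x1103001011))) (.node 1 (.leaf (nat_lit 0x1102001021)) (.leaf (nat_lit 0x1104001021)))) (.node 2 (.node 1 (.leaf (nat_lit 0x1101001031)) (.leaf (nat_lit 0x1104001031))) (.node 1 (.leaf (nat_lit 0x1105001041)) (.leaf (nat_lit 0x1103001051))))))))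

noncomputable def oT3 : Tree :=
  .node 64 (.node 32 (.node 16 (.node 8 (.node 4 (.node 2 (.node 1 (.leaf (nat_lit 0x1105001051)) (.leaf (nat_lit 0x1106001061))) (.node 1 (.leaf (nat_lit 0x605001082)) (.leaf (nat_lit 0x1107001071)))) (.node 2 (.node 1 (.leaf (nat_lit 0x1108001071)) (.leaf (nat_lit 0x607001082))) (.node 1 (.leaf (nat_lit 0x608001082)) (.leaf (nat_lit 0x1103001091))))) (.node 4 (.node 2 (.node 1 (.leaf (nat_lit 0x1108001091)) (.leaf (nat_lit 0x11070010a1))) (.node 1 (.leaf (nat_lit 0x11020010b1)) (.leaf (nat_lit 0x11080010b1)))) (.node 2 (.node 1 (.leaf (nat_lit 0x11070010c1)) (.leaf (nat_lit 0x11030010d1))) (.node 1 (.leaf (nat_lit 0x6080010e2)) (.leaf (nat_lit 0x6070010f2)))))) (.node 8 (.node 4 (.node 2 (.node 1 (.leaf (nat_lit 0x1107001101)) (.leaf (nat_lit 0x1103001111))) (.node 1 (.leaf (nat_lit 0x1103001121)) (.leaf (nat_lit 0x1102001131)))) (.node 2 (.node 1 (.leaf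 (nat_lit 0x1104001131)) (.leaf (nat_lit 0x1102001141))) (.node 1 (.leaf (nat_lit 0x1104001141)) (.leaf (nat_lit 0x1101001151))))) (.node 4 (.node 2 (.node 1 (.leaf (nat_lit 0x1104001151)) (.leaf (nat_lit 0x1105001161))) (.node 1 (.leaf (nat_lit 0x603001172)) (.leaf (nat_lit 0x1102001181)))) (.node 2 (.node 1 (.leaf (nat_lit 0x1104001181)) (.leaf (nat_lit 0x1101001191))) (.node 1 (.leaf (nat_lit 0x1104001191)) (.leaf (nat_lit 0x11050011a1))))))) (.node 16 (.node 8 (.node 4 (.node 2 (.node 1 (.leaf (nat_lit 0x11000011b1)) (.leaf (nat_lit 0x11040011b1))) (.node 1 (.leaf (nat_lit 0x11050011c1)) (.leaf (nat_lit 0x11060011d1)))) (.node 2 (.node 1 (.leaf (nat_lit 0x1d010022f1)) (.leaf (nat_lit 0x6020011f2))) (.node 1 (.leaf (nat_lit 0x6040011f2)) (.leaf (nat_lit 0x1101001201))))) (.node 4 (.node 2 (.node 1 (.leaf (nat_lit 0x1104001201)) (.leaf (nat_lit 0x1105001211))) (.node 1 (.leaf (nat_lit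 0x1100001221)) (.leaf (nat_lit 0x1104001221)))) (.node 2 (.node 1 (.leaf (nat_lit 0x1103001231)) (.leaf (nat_lit 0x606001252))) (.node 1 (.leaf (nat_lit 0x607001252)) (.leaf (nat_lit 0x608001252)))))) (.node 8 (.node 4 (.node 2 (.node 1 (.leaf (nat_lit 0x1103001261)) (.leaf (nat_lit 0x1108001261))) (.node 1 (.leaf (nat_lit 0x1107001271)) (.leaf (nat_lit 0x603001282)))) (.node 2 (.node 1 (.leaf (nat_lit 0x608001282)) (.leaf (nat_lit 0x607001292))) (.node 1 (.leaf (nat_lit 0x11020012a1)) (.leaf (nat_lit 0x11080012a1))))) (.node 4 (.node 2 (.node 1 (.leaf (nat_lit 0x11070012b1)) (.leaf (nat_lit 0x11030012c1))) (.node 1 (.leaf (nat_lit 0x11010012d1)) (.leaf (nat_lit 0x11080012d1)))) (.node 2 (.node 1 (.leaf (nat_lit 0x11070012e1)) (.leaf (nat_lit 0x11030012f1))) (.node 1 (.leaf (nat_lit 0x1102001301)) (.leaf (nat_lit 0x1104001301)))))))) (.node 32 (.node 16 (.node 8 (.node 4 (.node 2 (.node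 1 (.leaf (nat_lit 0x607001312)) (.leaf (nat_lit 0x603001322))) (.node 1 (.leaf (nat_lit 0x1103001331)) (.leaf (nat_lit 0x1102001341)))) (.node 2 (.node 1 (.leaf (nat_lit 0x1104001341)) (.leaf (nat_lit 0x1102001351))) (.node 1 (.leaf (nat_lit 0x1104001351)) (.leaf (nat_lit 0x1101001361))))) (.node 4 (.node 2 (.node 1 (.leaf (nat_lit 0x1104001361)) (.leaf (nat_lit 0x1105001371))) (.node 1 (.leaf (nat_lit 0x1101001381)) (.leaf (nat_lit 0x1104001381)))) (.node 2 (.node 1 (.leaf (nat_lit 0x1105001391)) (.leaf (nat_lit 0x11000013a1))) (.node 1 (.leaf (nat_lit 0x11040013a1)) (.leaf (nat_lit 0x11030013b1)))))) (.node 8 (.node 4 (.node 2 (.node 1 (.leaf (nat_lit 0x11050013b1)) (.leaf (nat_lit 0x11060013c1))) (.node 1 (.leaf (nat_lit 0x6020013d2)) (.leaf (nat_lit 0x6040013d2)))) (.node 2 (.node 1 (.leaf (nat_lit 0x11010013e1)) (.leaf (nat_lit 0x11040013e1))) (.node 1 (.leaf (nat_lit 0x11050013f1))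 (.leaf (nat_lit 0x1100001401))))) (.node 4 (.node 2 (.node 1 (.leaf (nat_lit 0x1104001401)) (.leaf (nat_lit 0x1103001411))) (.node 1 (.leaf (nat_lit 0x1105001411)) (.leaf (nat_lit 0x1106001421)))) (.node 2 (.node 1 (.leaf (nat_lit 0x1104001431)) (.leaf (nat_lit 0x1105001441))) (.node 1 (.leaf (nat_lit 0x1106001451)) (.leaf (nat_lit 0x1d04002af1))))))) (.node 16 (.node 8 (.node 4 (.node 2 (.node 1 (.leaf (nat_lit 0x601001482)) (.leaf (nat_lit 0x604001482))) (.node 1 (.leaf (nat_lit 0x605001492)) (.leaf (nat_lit 0x11000014a1)))) (.node 2 (.node 1 (.leaf (nat_lit 0x11040014a1)) (.leaf (nat_lit 0x11030014b1))) (.node 1 (.leaf (nat_lit 0x11050014b1)) (.leaf (nat_lit 0x11040014d1))))) (.node 4 (.node 2 (.node 1 (.leaf (nat_lit 0x11030014e1)) (.leaf (nat_lit 0x11070014f1))) (.node 1 (.leaf (nat_lit 0x600001502)) (.leaf (nat_lit 0x604001502)))) (.node 2 (.node 1 (.leaf (nat_lit 0x603001512))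 (.leaf (nat_lit 0x605001512))) (.node 1 (.leaf (nat_lit 0x606001522)) (.leaf (nat_lit 0x1104001531)))))) (.node 8 (.node 4 (.node 2 (.node 1 (.leaf (nat_lit 0x1103001541)) (.leaf (nat_lit 0x1105001541))) (.node 1 (.leaf (nat_lit 0x1105001551)) (.leaf (nat_lit 0x1107001551)))) (.node 2 (.node 1 (.leaf (nat_lit 0x1103001571)) (.leaf (nat_lit 0x12060015a1))) (.node 1 (.leaf (nat_lit 0x12080015a1)) (.leaf (nat_lit 0x12050015b1))))) (.node 4 (.node 2 (.node 1 (.leaf (nat_lit 0x7040015e2)) (.leaf (nat_lit 0x12070015b1))) (.node 1 (.leaf (nat_lit 0x12080015b1)) (.leaf (nat_lit 0x12080015c1)))) (.node 2 (.node 1 (.leaf (nat_lit 0x12070015d1)) (.leaf (nat_lit 0x7070015e2))) (.node 1 (.leaf (nat_lit 0x7080015e2)) (.leaf (nat_lit 0x12030015f1))))))))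

noncomputable def oT4 : Tree :=
  .node 64 (.node 32 (.node 16 (.node 8 (.node 4 (.node 2 (.node 1 (.leaf (nat_lit 0x12080015f1)) (.leaf (nat_lit 0x1207001601))) (.node 1 (.leaf (nat_lit 0x1208001611)) (.leaf (nat_lit 0x1207001621)))) (.node 2 (.node 1 (.leaf (nat_lit 0x1203001631)) (.leaf (nat_lit 0x1208001641))) (.node 1 (.leaf (nat_lit 0x1207001651)) (.leaf (nat_lit 0x1203001661))))) (.node 4 (.node 2 (.node 1 (.leaf (nat_lit 0x1202001671)) (.leaf (nat_lit 0x1204001671))) (.node 1 (.leaf (nat_lit 0x705001692)) (.leaf (nat_lit 0x1207001681)))) (.node 2 (.node 1 (.leaf (nat_lit 0x1208001681)) (.leaf (nat_lit 0x707001692))) (.node 1 (.leaf (nat_lit 0x708001692)) (.leaf (nat_lit 0x12030016a1)))))) (.node 8 (.node 4 (.node 2 (.node 1 (.leaf (nat_lit 0x12080016a1)) (.leaf (nat_lit 0x12070016b1))) (.node 1 (.leaf (nat_lit 0x12080016c1)) (.leaf (nat_lit 0x12070016d1)))) (.node 2 (.node 1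 (.leaf (nat_lit 0x12030016e1)) (.leaf (nat_lit 0x7080016f2))) (.node 1 (.leaf (nat_lit 0x707001702)) (.leaf (nat_lit 0x1207001711))))) (.node 4 (.node 2 (.node 1 (.leaf (nat_lit 0x1203001721)) (.leaf (nat_lit 0x1203001731))) (.node 1 (.leaf (nat_lit 0x1202001741)) (.leaf (nat_lit 0x1204001741)))) (.node 2 (.node 1 (.leaf (nat_lit 0x1202001751)) (.leaf (nat_lit 0x1204001751))) (.node 1 (.leaf (nat_lit 0x1201001761)) (.leaf (nat_lit 0x1204001761))))))) (.node 16 (.node 8 (.node 4 (.node 2 (.node 1 (.leaf (nat_lit 0x1205001771)) (.leaf (nat_lit 0x703001782))) (.node 1 (.leaf (nat_lit 0x1202001791)) (.leaf (nat_lit 0x1204001791)))) (.node 2 (.node 1 (.leaf (nat_lit 0x12010017a1)) (.leaf (nat_lit 0x12040017a1))) (.node 1 (.leaf (nat_lit 0x12050017b1)) (.leaf (nat_lit 0x12000017c1))))) (.node 4 (.node 2 (.node 1 (.leaf (nat_lit 0x12040017c1)) (.leaf (nat_lit 0x12030017d1))) (.node 1 (.leaf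 (nat_lit 0x12050017d1)) (.leaf (nat_lit 0x12060017e1)))) (.node 2 (.node 1 (.leaf (nat_lit 0x12050017f1)) (.leaf (nat_lit 0x12070017f1))) (.node 1 (.leaf (nat_lit 0x1206001801)) (.leaf (nat_lit 0x1c020031e1)))))) (.node 8 (.node 4 (.node 2 (.node 1 (.leaf (nat_lit 0x706001822)) (.leaf (nat_lit 0x707001822))) (.node 1 (.leaf (nat_lit 0x708001822)) (.leaf (nat_lit 0x1203001831)))) (.node 2 (.node 1 (.leaf (nat_lit 0x1208001831)) (.leaf (nat_lit 0x1207001841))) (.node 1 (.leaf (nat_lit 0x703001852)) (.leaf (nat_lit 0x708001852))))) (.node 4 (.node 2 (.node 1 (.leaf (nat_lit 0x707001862)) (.leaf (nat_lit 0x1202001871))) (.node 1 (.leaf (nat_lit 0x1208001871)) (.leaf (nat_lit 0x1207001881)))) (.node 2 (.node 1 (.leaf (nat_lit 0x1203001891)) (.leaf (nat_lit 0x12080018a1))) (.node 1 (.leaf (nat_lit 0x12070018b1)) (.leaf (nat_lit 0x12030018c1)))))))) (.node 32 (.node 16 (.node 8 (.node 4 (.node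 2 (.node 1 (.leaf (nat_lit 0x12020018d1)) (.leaf (nat_lit 0x12040018d1))) (.node 1 (.leaf (nat_lit 0x7070018e2)) (.leaf (nat_lit 0x7030018f2)))) (.node 2 (.node 1 (.leaf (nat_lit 0x1203001901)) (.leaf (nat_lit 0x1202001911))) (.node 1 (.leaf (nat_lit 0x1204001911)) (.leaf (nat_lit 0x1202001921))))) (.node 4 (.node 2 (.node 1 (.leaf (nat_lit 0x1204001921)) (.leaf (nat_lit 0x1201001931))) (.node 1 (.leaf (nat_lit 0x1204001931)) (.leaf (nat_lit 0x1205001941)))) (.node 2 (.node 1 (.leaf (nat_lit 0x1201001951)) (.leaf (nat_lit 0x1204001951))) (.node 1 (.leaf (nat_lit 0x1205001961)) (.leaf (nat_lit 0x1200001971)))))) (.node 8 (.node 4 (.node 2 (.node 1 (.leaf (nat_lit 0x1204001971)) (.leaf (nat_lit 0x1203001981))) (.node 1 (.leaf (nat_lit 0x1205001981)) (.leaf (nat_lit 0x1206001991)))) (.node 2 (.node 1 (.leaf (nat_lit 0x7020019a2)) (.leaf (nat_lit 0x7040019a2))) (.node 1 (.leaf (nat_lit 0x12010019b1))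 (.leaf (nat_lit 0x12040019b1))))) (.node 4 (.node 2 (.node 1 (.leaf (nat_lit 0x12050019c1)) (.leaf (nat_lit 0x12000019d1))) (.node 1 (.leaf (nat_lit 0x12040019d1)) (.leaf (nat_lit 0x12030019e1)))) (.node 2 (.node 1 (.leaf (nat_lit 0x12050019e1)) (.leaf (nat_lit 0x12060019f1))) (.node 1 (.leaf (nat_lit 0x1204001a01)) (.leaf (nat_lit 0x1205001a11))))))) (.node 16 (.node 8 (.node 4 (.node 2 (.node 1 (.leaf (nat_lit 0x1206001a21)) (.leaf (nat_lit 0x1e01003191))) (.node 1 (.leaf (nat_lit 0x701001a52)) (.leaf (nat_lit 0x704001a52)))) (.node 2 (.node 1 (.leaf (nat_lit 0x705001a62)) (.leaf (nat_lit 0x1200001a71))) (.node 1 (.leaf (nat_lit 0x1204001a71)) (.leaf (nat_lit 0x1203001a81))))) (.node 4 (.node 2 (.node 1 (.leaf (nat_lit 0x1205001a81)) (.leaf (nat_lit 0x1204001aa1))) (.node 1 (.leaf (nat_lit 0x1203001ab1)) (.leaf (nat_lit 0x1207001ac1)))) (.node 2 (.node 1 (.leaf (nat_lit 0x707001ad2))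 (.leaf (nat_lit 0x708001ad2))) (.node 1 (.leaf (nat_lit 0x703001ae2)) (.leaf (nat_lit 0x708001ae2)))))) (.node 8 (.node 4 (.node 2 (.node 1 (.leaf (nat_lit 0x707001af2)) (.leaf (nat_lit 0x1202001b01))) (.node 1 (.leaf (nat_lit 0x1204001b01)) (.leaf (nat_lit 0x1208001b01)))) (.node 2 (.node 1 (.leaf (nat_lit 0x1207001b11)) (.leaf (nat_lit 0x1203001b21))) (.node 1 (.leaf (nat_lit 0x702001b32)) (.leaf (nat_lit 0x708001b32))))) (.node 4 (.node 2 (.node 1 (.leaf (nat_lit 0x707001b42)) (.leaf (nat_lit 0x703001b52))) (.node 1 (.leaf (nat_lit 0x1201001b61)) (.leaf (nat_lit 0x1208001b61)))) (.node 2 (.node 1 (.leaf (nat_lit 0x1207001b71)) (.leaf (nat_lit 0x1203001b81))) (.node 1 (.leaf (nat_lit 0x1202001b91)) (.leaf (nat_lit 0x1204001b91))))))))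

noncomputable def oT5 : Tree :=
  .node 64 (.node 32 (.node 16 (.node 8 (.node 4 (.node 2 (.node 1 (.leaf (nat_lit 0x1203001bc1)) (.leaf (nat_lit 0x1202001bd1))) (.node 1 (.leaf (nat_lit 0x1204001bd1)) (.leaf (nat_lit 0x1201001be1)))) (.node 2 (.node 1 (.leaf (nat_lit 0x1204001be1)) (.leaf (nat_lit 0x1205001bf1))) (.node 1 (.leaf (nat_lit 0x703001c02)) (.leaf (nat_lit 0x702001c12))))) (.node 4 (.node 2 (.node 1 (.leaf (nat_lit 0x704001c12)) (.leaf (nat_lit 0x1202001c21))) (.node 1 (.leaf (nat_lit 0x1204001c21)) (.leaf (nat_lit 0x1201001c31)))) (.node 2 (.node 1 (.leaf (nat_lit 0x1204001c31)) (.leaf (nat_lit 0x1205001c41))) (.node 1 (.leaf (nat_lit 0x1201001c51)) (.leaf (nat_lit 0x1204001c51)))))) (.node 8 (.node 4 (.node 2 (.node 1 (.leaf (nat_lit 0x1205001c61)) (.leaf (nat_lit 0x1200001c71))) (.node 1 (.leaf (nat_lit 0x1204001c71)) (.leaf (nat_lit 0x1203001c81)))) (.node 2 (.node 1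 (.leaf (nat_lit 0x1205001c81)) (.leaf (nat_lit 0x1206001c91))) (.node 1 (.leaf (nat_lit 0x1200001ca1)) (.leaf (nat_lit 0x1204001ca1))))) (.node 4 (.node 2 (.node 1 (.leaf (nat_lit 0x1203001cb1)) (.leaf (nat_lit 0x1205001cb1))) (.node 1 (.leaf (nat_lit 0x1206001cc1)) (.leaf (nat_lit 0x1204001cd1)))) (.node 2 (.node 1 (.leaf (nat_lit 0x1203001ce1)) (.leaf (nat_lit 0x1205001ce1))) (.node 1 (.leaf (nat_lit 0x1205001cf1)) (.leaf (nat_lit 0x1206001d01))))))) (.node 16 (.node 8 (.node 4 (.node 2 (.node 1 (.leaf (nat_lit 0x1c04003ae1)) (.leaf (nat_lit 0x701001d22))) (.node 1 (.leaf (nat_lit 0x704001d22)) (.leaf (nat_lit 0x705001d32)))) (.node 2 (.node 1 (.leaf (nat_lit 0x1200001d41)) (.leaf (nat_lit 0x1204001d41))) (.node 1 (.leaf (nat_lit 0x1203001d51)) (.leaf (nat_lit 0x1205001d51))))) (.node 4 (.node 2 (.node 1 (.leaf (nat_lit 0x1206001d61)) (.leaf (nat_lit 0x1204001d71))) (.node 1 (.leaf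 (nat_lit 0x1203001d81)) (.leaf (nat_lit 0x1205001d81)))) (.node 2 (.node 1 (.leaf (nat_lit 0x1205001d91)) (.leaf (nat_lit 0x1207001d91))) (.node 1 (.leaf (nat_lit 0x1206001da1)) (.leaf (nat_lit 0x1c02003d01)))))) (.node 8 (.node 4 (.node 2 (.node 1 (.leaf (nat_lit 0x1205001dc1)) (.leaf (nat_lit 0x1206001dd1))) (.node 1 (.leaf (nat_lit 0x1c04003d01)) (.leaf (nat_lit 0x700001e02)))) (.node 2 (.node 1 (.leaf (nat_lit 0x704001e02)) (.leaf (nat_lit 0x703001e12))) (.node 1 (.leaf (nat_lit 0x705001e12)) (.leaf (nat_lit 0x706001e22))))) (.node 4 (.node 2 (.node 1 (.leaf (nat_lit 0x1204001e31)) (.leaf (nat_lit 0x1203001e41))) (.node 1 (.leaf (nat_lit 0x1205001e41)) (.leaf (nat_lit 0x1205001e51)))) (.node 2 (.node 1 (.leaf (nat_lit 0x1207001e51)) (.leaf (nat_lit 0x1203001e71))) (.node 1 (.leaf (nat_lit 0x704001ea2)) (.leaf (nat_lit 0x703001eb2)))))))) (.node 32 (.node 16 (.node 8 (.node 4 (.node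 2 (.node 1 (.leaf (nat_lit 0x705001eb2)) (.leaf (nat_lit 0x705001ec2))) (.node 1 (.leaf (nat_lit 0x707001ec2)) (.leaf (nat_lit 0x706001ed2)))) (.node 2 (.node 1 (.leaf (nat_lit 0x1203001ef1)) (.leaf (nat_lit 0x1205001ef1))) (.node 1 (.leaf (nat_lit 0x1205001f01)) (.leaf (nat_lit 0x1204001f21))))) (.node 4 (.node 2 (.node 1 (.leaf (nat_lit 0x1207001f21)) (.leaf (nat_lit 0x1305001f51))) (.node 1 (.leaf (nat_lit 0x803001f82)) (.leaf (nat_lit 0x1308001f51)))) (.node 2 (.node 1 (.leaf (nat_lit 0x1307001f61)) (.leaf (nat_lit 0x805001f82))) (.node 1 (.leaf (nat_lit 0x1307001f71)) (.leaf (nat_lit 0x1308001f71)))))) (.node 8 (.node 4 (.node 2 (.node 1 (.leaf (nat_lit 0x807001f82)) (.leaf (nat_lit 0x808001f82))) (.node 1 (.leaf (nat_lit 0x1308001f91)) (.leaf (nat_lit 0x1307001fa1)))) (.node 2 (.node 1 (.leaf (nat_lit 0x1307001fb1)) (.leaf (nat_lit 0x1303001fc1))) (.node 1 (.leaf (nat_lit 0x803001fd2))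 (.leaf (nat_lit 0x808001fd2))))) (.node 4 (.node 2 (.node 1 (.leaf (nat_lit 0x807001fe2)) (.leaf (nat_lit 0x1308001ff1))) (.node 1 (.leaf (nat_lit 0x1307002001)) (.leaf (nat_lit 0x1303002011)))) (.node 2 (.node 1 (.leaf (nat_lit 0x1307002021)) (.leaf (nat_lit 0x1303002031))) (.node 1 (.leaf (nat_lit 0x1302002041)) (.leaf (nat_lit 0x1304002041))))))) (.node 16 (.node 8 (.node 4 (.node 2 (.node 1 (.leaf (nat_lit 0x1307002051)) (.leaf (nat_lit 0x1303002061))) (.node 1 (.leaf (nat_lit 0x1302002071)) (.leaf (nat_lit 0x1304002071)))) (.node 2 (.node 1 (.leaf (nat_lit 0x1301002081)) (.leaf (nat_lit 0x1304002081))) (.node 1 (.leaf (nat_lit 0x1305002091)) (.leaf (nat_lit 0x8060020a2))))) (.node 4 (.node 2 (.node 1 (.leaf (nat_lit 0x8070020a2)) (.leaf (nat_lit 0x8080020a2))) (.node 1 (.leaf (nat_lit 0x13030020b1)) (.leaf (nat_lit 0x13080020b1)))) (.node 2 (.node 1 (.leaf (nat_lit 0x13070020c1))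 (.leaf (nat_lit 0x8030020d2))) (.node 1 (.leaf (nat_lit 0x8080020d2)) (.leaf (nat_lit 0x8070020e2)))))) (.node 8 (.node 4 (.node 2 (.node 1 (.leaf (nat_lit 0x13080020f1)) (.leaf (nat_lit 0x1307002101))) (.node 1 (.leaf (nat_lit 0x1303002111)) (.leaf (nat_lit 0x1307002121)))) (.node 2 (.node 1 (.leaf (nat_lit 0x1303002131)) (.leaf (nat_lit 0x1302002141))) (.node 1 (.leaf (nat_lit 0x1304002141)) (.leaf (nat_lit 0x807002152))))) (.node 4 (.node 2 (.node 1 (.leaf (nat_lit 0x803002162)) (.leaf (nat_lit 0x1303002171))) (.node 1 (.leaf (nat_lit 0x1302002181)) (.leaf (nat_lit 0x1304002181)))) (.node 2 (.node 1 (.leaf (nat_lit 0x1302002191)) (.leaf (nat_lit 0x1304002191))) (.node 1 (.leaf (nat_lit 0x13010021a1)) (.leaf (nat_lit 0x13040021a1))))))))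

noncomputable def oT6 : Tree :=
  .node 64 (.node 32 (.node 16 (.node 8 (.node 4 (.node 2 (.node 1 (.leaf (nat_lit 0x13050021b1)) (.leaf (nat_lit 0x13010021c1))) (.node 1 (.leaf (nat_lit 0x13040021c1)) (.leaf (nat_lit 0x13050021d1)))) (.node 2 (.node 1 (.leaf (nat_lit 0x13000021e1)) (.leaf (nat_lit 0x13040021e1))) (.node 1 (.leaf (nat_lit 0x13030021f1)) (.leaf (nat_lit 0x13050021f1))))) (.node 4 (.node 2 (.node 1 (.leaf (nat_lit 0x1306002201)) (.leaf (nat_lit 0x802002212))) (.node 1 (.leaf (nat_lit 0x804002212)) (.leaf (nat_lit 0x1301002221)))) (.node 2 (.node 1 (.leaf (nat_lit 0x1304002221)) (.leaf (nat_lit 0x1305002231))) (.node 1 (.leaf (nat_lit 0x1300002241)) (.leaf (nat_lit 0x1304002241)))))) (.node 8 (.node 4 (.node 2 (.node 1 (.leaf (nat_lit 0x1303002251)) (.leaf (nat_lit 0x1305002251))) (.node 1 (.leaf (nat_lit 0x1306002261)) (.leaf (nat_lit 0x1304002271)))) (.node 2 (.node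 1 (.leaf (nat_lit 0x1303002281)) (.leaf (nat_lit 0x1305002281))) (.node 1 (.leaf (nat_lit 0x1305002291)) (.leaf (nat_lit 0x1307002291))))) (.node 4 (.node 2 (.node 1 (.leaf (nat_lit 0x13060022a1)) (.leaf (nat_lit 0x1d020045c1))) (.node 1 (.leaf (nat_lit 0x13040022c1)) (.leaf (nat_lit 0x13060022c1)))) (.node 2 (.node 1 (.leaf (nat_lit 0x13070022c1)) (.leaf (nat_lit 0x13080022d1))) (.node 1 (.leaf (nat_lit 0x1b030045f1)) (.leaf (nat_lit 0x807002302))))))) (.node 16 (.node 8 (.node 4 (.node 2 (.node 1 (.leaf (nat_lit 0x808002302)) (.leaf (nat_lit 0x803002312))) (.node 1 (.leaf (nat_lit 0x808002312)) (.leaf (nat_lit 0x807002322)))) (.node 2 (.node 1 (.leaf (nat_lit 0x1302002331)) (.leaf (nat_lit 0x1304002331))) (.node 1 (.leaf (nat_lit 0x1308002331)) (.leaf (nat_lit 0x1307002341))))) (.node 4 (.node 2 (.node 1 (.leaf (nat_lit 0x1303002351)) (.leaf (nat_lit 0x802002362))) (.node 1 (.leaf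 (nat_lit 0x808002362)) (.leaf (nat_lit 0x807002372)))) (.node 2 (.node 1 (.leaf (nat_lit 0x803002382)) (.leaf (nat_lit 0x1308002391))) (.node 1 (.leaf (nat_lit 0x13070023a1)) (.leaf (nat_lit 0x13030023b1)))))) (.node 8 (.node 4 (.node 2 (.node 1 (.leaf (nat_lit 0x13020023c1)) (.leaf (nat_lit 0x13040023c1))) (.node 1 (.leaf (nat_lit 0x13030023e1)) (.leaf (nat_lit 0x13020023f1)))) (.node 2 (.node 1 (.leaf (nat_lit 0x13040023f1)) (.leaf (nat_lit 0x1301002401))) (.node 1 (.leaf (nat_lit 0x1304002401)) (.leaf (nat_lit 0x1305002411))))) (.node 4 (.node 2 (.node 1 (.leaf (nat_lit 0x803002422)) (.leaf (nat_lit 0x802002432))) (.node 1 (.leaf (nat_lit 0x804002432)) (.leaf (nat_lit 0x1302002441)))) (.node 2 (.node 1 (.leaf (nat_lit 0x1304002441)) (.leaf (nat_lit 0x1301002451))) (.node 1 (.leaf (nat_lit 0x1304002451)) (.leaf (nat_lit 0x1305002461)))))))) (.node 32 (.node 16 (.node 8 (.node 4 (.node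 2 (.node 1 (.leaf (nat_lit 0x1301002471)) (.leaf (nat_lit 0x1304002471))) (.node 1 (.leaf (nat_lit 0x1305002481)) (.leaf (nat_lit 0x1300002491)))) (.node 2 (.node 1 (.leaf (nat_lit 0x1304002491)) (.leaf (nat_lit 0x13030024a1))) (.node 1 (.leaf (nat_lit 0x13050024a1)) (.leaf (nat_lit 0x13060024b1))))) (.node 4 (.node 2 (.node 1 (.leaf (nat_lit 0x13000024c1)) (.leaf (nat_lit 0x13040024c1))) (.node 1 (.leaf (nat_lit 0x13030024d1)) (.leaf (nat_lit 0x13050024d1)))) (.node 2 (.node 1 (.leaf (nat_lit 0x13060024e1)) (.leaf (nat_lit 0x13040024f1))) (.node 1 (.leaf (nat_lit 0x1303002501)) (.leaf (nat_lit 0x1305002501)))))) (.node 8 (.node 4 (.node 2 (.node 1 (.leaf (nat_lit 0x1305002511)) (.leaf (nat_lit 0x1306002521))) (.node 1 (.leaf (nat_lit 0x1d040049d1)) (.leaf (nat_lit 0x801002542)))) (.node 2 (.node 1 (.leaf (nat_lit 0x804002542)) (.leaf (nat_lit 0x805002552))) (.node 1 (.leaf (nat_lit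 0x1300002561)) (.leaf (nat_lit 0x1304002561))))) (.node 4 (.node 2 (.node 1 (.leaf (nat_lit 0x1303002571)) (.leaf (nat_lit 0x1305002571))) (.node 1 (.leaf (nat_lit 0x1306002581)) (.leaf (nat_lit 0x1304002591)))) (.node 2 (.node 1 (.leaf (nat_lit 0x13030025a1)) (.leaf (nat_lit 0x13050025a1))) (.node 1 (.leaf (nat_lit 0x13050025b1)) (.leaf (nat_lit 0x13070025b1))))))) (.node 16 (.node 8 (.node 4 (.node 2 (.node 1 (.leaf (nat_lit 0x13060025c1)) (.leaf (nat_lit 0x1d02004c21))) (.node 1 (.leaf (nat_lit 0x13050025e1)) (.leaf (nat_lit 0x13060025f1)))) (.node 2 (.node 1 (.leaf (nat_lit 0x1d04004c21)) (.leaf (nat_lit 0x800002622))) (.node 1 (.leaf (nat_lit 0x804002622)) (.leaf (nat_lit 0x803002632))))) (.node 4 (.node 2 (.node 1 (.leaf (nat_lit 0x805002632)) (.leaf (nat_lit 0x806002642))) (.node 1 (.leaf (nat_lit 0x1304002651)) (.leaf (nat_lit 0x1303002661)))) (.node 2 (.node 1 (.leaf (nat_lit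 0x1305002661)) (.leaf (nat_lit 0x1305002671))) (.node 1 (.leaf (nat_lit 0x1307002671)) (.leaf (nat_lit 0x1303002691)))))) (.node 8 (.node 4 (.node 2 (.node 1 (.leaf (nat_lit 0x13020026a1)) (.leaf (nat_lit 0x13070026a1))) (.node 1 (.leaf (nat_lit 0x13080026b1)) (.leaf (nat_lit 0x8030026c2)))) (.node 2 (.node 1 (.leaf (nat_lit 0x8080026c2)) (.leaf (nat_lit 0x8070026d2))) (.node 1 (.leaf (nat_lit 0x8020026e2)) (.leaf (nat_lit 0x8040026e2))))) (.node 4 (.node 2 (.node 1 (.leaf (nat_lit 0x8080026e2)) (.leaf (nat_lit 0x8070026f2))) (.node 1 (.leaf (nat_lit 0x803002702)) (.leaf (nat_lit 0x1301002711)))) (.node 2 (.node 1 (.leaf (nat_lit 0x1304002711)) (.leaf (nat_lit 0x1308002711))) (.node 1 (.leaf (nat_lit 0x1308002721)) (.leaf (nat_lit 0x1307002731))))))))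

noncomputable def oT7 : Tree :=
  .node 64 (.node 32 (.node 16 (.node 8 (.node 4 (.node 2 (.node 1 (.leaf (nat_lit 0x1303002741)) (.leaf (nat_lit 0x1302002751))) (.node 1 (.leaf (nat_lit 0x1304002751)) (.leaf (nat_lit 0x801002762)))) (.node 2 (.node 1 (.leaf (nat_lit 0x808002762)) (.leaf (nat_lit 0x807002772))) (.node 1 (.leaf (nat_lit 0x803002782)) (.leaf (nat_lit 0x802002792))))) (.node 4 (.node 2 (.node 1 (.leaf (nat_lit 0x804002792)) (.leaf (nat_lit 0x13030027c1))) (.node 1 (.leaf (nat_lit 0x13020027d1)) (.leaf (nat_lit 0x13040027d1)))) (.node 2 (.node 1 (.leaf (nat_lit 0x13010027e1)) (.leaf (nat_lit 0x13040027e1))) (.node 1 (.leaf (nat_lit 0x13050027f1)) (.leaf (nat_lit 0x1304002801)))))) (.node 8 (.node 4 (.node 2 (.node 1 (.leaf (nat_lit 0x1304002811)) (.leaf (nat_lit 0x1305002821))) (.node 1 (.leaf (nat_lit 0x1304002831)) (.leaf (nat_lit 0x1303002841)))) (.node 2 (.node 1 (.leaf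 (nat_lit 0x1305002841)) (.leaf (nat_lit 0x1306002851))) (.node 1 (.leaf (nat_lit 0x802002862)) (.leaf (nat_lit 0x804002862))))) (.node 4 (.node 2 (.node 1 (.leaf (nat_lit 0x801002872)) (.leaf (nat_lit 0x804002872))) (.node 1 (.leaf (nat_lit 0x805002882)) (.leaf (nat_lit 0x1301002891)))) (.node 2 (.node 1 (.leaf (nat_lit 0x1304002891)) (.leaf (nat_lit 0x13050028a1))) (.node 1 (.leaf (nat_lit 0x13000028b1)) (.leaf (nat_lit 0x13040028b1))))))) (.node 16 (.node 8 (.node 4 (.node 2 (.node 1 (.leaf (nat_lit 0x13030028c1)) (.leaf (nat_lit 0x13050028c1))) (.node 1 (.leaf (nat_lit 0x13060028d1)) (.leaf (nat_lit 0x13000028e1)))) (.node 2 (.node 1 (.leaf (nat_lit 0x13040028e1)) (.leaf (nat_lit 0x13030028f1))) (.node 1 (.leaf (nat_lit 0x13050028f1)) (.leaf (nat_lit 0x1306002901))))) (.node 4 (.node 2 (.node 1 (.leaf (nat_lit 0x1304002911)) (.leaf (nat_lit 0x1303002921))) (.node 1 (.leaf (nat_lit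 0x1305002921)) (.leaf (nat_lit 0x1305002931)))) (.node 2 (.node 1 (.leaf (nat_lit 0x1307002931)) (.leaf (nat_lit 0x1306002941))) (.node 1 (.leaf (nat_lit 0x1b02005251)) (.leaf (nat_lit 0x1304002961)))))) (.node 8 (.node 4 (.node 2 (.node 1 (.leaf (nat_lit 0x1303002971)) (.leaf (nat_lit 0x1305002971))) (.node 1 (.leaf (nat_lit 0x1305002981)) (.leaf (nat_lit 0x1307002981)))) (.node 2 (.node 1 (.leaf (nat_lit 0x1306002991)) (.leaf (nat_lit 0x1d040051d1))) (.node 1 (.leaf (nat_lit 0x13030029b1)) (.leaf (nat_lit 0x13050029b1))))) (.node 4 (.node 2 (.node 1 (.leaf (nat_lit 0x13020029c1)) (.leaf (nat_lit 0x13050029c1))) (.node 1 (.leaf (nat_lit 0x13060029d1)) (.leaf (nat_lit 0x13040029e1)))) (.node 2 (.node 1 (.leaf (nat_lit 0x13060029e1)) (.leaf (nat_lit 0x1b04005251))) (.node 1 (.leaf (nat_lit 0x800002a12)) (.leaf (nat_lit 0x804002a12)))))))) (.node 32 (.node 16 (.node 8 (.node 4 (.node 2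 (.node 1 (.leaf (nat_lit 0x803002a22)) (.leaf (nat_lit 0x805002a22))) (.node 1 (.leaf (nat_lit 0x806002a32)) (.leaf (nat_lit 0x1304002a41)))) (.node 2 (.node 1 (.leaf (nat_lit 0x1303002a51)) (.leaf (nat_lit 0x1305002a51))) (.node 1 (.leaf (nat_lit 0x1305002a61)) (.leaf (nat_lit 0x1307002a61))))) (.node 4 (.node 2 (.node 1 (.leaf (nat_lit 0x1306002a71)) (.leaf (nat_lit 0x1b02005471))) (.node 1 (.leaf (nat_lit 0x1303002a91)) (.leaf (nat_lit 0x1305002a91)))) (.node 2 (.node 1 (.leaf (nat_lit 0x1305002aa1)) (.leaf (nat_lit 0x1306002ab1))) (.node 1 (.leaf (nat_lit 0x1306002ac1)) (.leaf (nat_lit 0x1307002ac1)))))) (.node 8 (.node 4 (.node 2 (.node 1 (.leaf (nat_lit 0x1b030054c1)) (.leaf (nat_lit 0x1306002b01))) (.node 1 (.leaf (nat_lit 0x1d040054b1)) (.leaf (nat_lit 0x804002b32)))) (.node 2 (.node 1 (.leaf (nat_lit 0x803002b42)) (.leaf (nat_lit 0x805002b42))) (.node 1 (.leaf (nat_lit 0x805002b52))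 (.leaf (nat_lit 0x807002b52))))) (.node 4 (.node 2 (.node 1 (.leaf (nat_lit 0x806002b62)) (.leaf (nat_lit 0x1303002b81))) (.node 1 (.leaf (nat_lit 0x1305002b81)) (.leaf (nat_lit 0x1305002b91)))) (.node 2 (.node 1 (.leaf (nat_lit 0x1304002bb1)) (.leaf (nat_lit 0x1307002bb1))) (.node 1 (.leaf (nat_lit 0x803002be2)) (.leaf (nat_lit 0x805002be2))))))) (.node 16 (.node 8 (.node 4 (.node 2 (.node 1 (.leaf (nat_lit 0x805002bf2)) (.leaf (nat_lit 0x806002c02))) (.node 1 (.leaf (nat_lit 0x804002c12)) (.leaf (nat_lit 0x806002c12)))) (.node 2 (.node 1 (.leaf (nat_lit 0x807002c12)) (.leaf (nat_lit 0x1305002c41))) (.node 1 (.leaf (nat_lit 0x1304002c61)) (.leaf (nat_lit 0x1307002c71))))) (.node 4 (.node 2 (.node 1 (.leaf (nat_lit 0x1404002c91)) (.leaf (nat_lit 0x905002ca2))) (.node 1 (.leaf (nat_lit 0x1408002c91)) (.leaf (nat_lit 0x908002ca2)))) (.node 2 (.node 1 (.leaf (nat_lit 0x1407002cb1)) (.leaf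 (nat_lit 0x1403002cc1))) (.node 1 (.leaf (nat_lit 0x906002cd2)) (.leaf (nat_lit 0x907002cd2)))))) (.node 8 (.node 4 (.node 2 (.node 1 (.leaf (nat_lit 0x908002cd2)) (.leaf (nat_lit 0x1408002ce1))) (.node 1 (.leaf (nat_lit 0x1407002cf1)) (.leaf (nat_lit 0x908002d02)))) (.node 2 (.node 1 (.leaf (nat_lit 0x907002d12)) (.leaf (nat_lit 0x1407002d21))) (.node 1 (.leaf (nat_lit 0x1403002d31)) (.leaf (nat_lit 0x1403002d41))))) (.node 4 (.node 2 (.node 1 (.leaf (nat_lit 0x1402002d51)) (.leaf (nat_lit 0x1404002d51))) (.node 1 (.leaf (nat_lit 0x908002d62)) (.leaf (nat_lit 0x907002d72)))) (.node 2 (.node 1 (.leaf (nat_lit 0x903002d82)) (.leaf (nat_lit 0x1407002d91))) (.node 1 (.leaf (nat_lit 0x1403002da1)) (.leaf (nat_lit 0x1402002db1))))))))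

noncomputable def oT8 : Tree :=
  .node 64 (.node 32 (.node 16 (.node 8 (.node 4 (.node 2 (.node 1 (.leaf (nat_lit 0x1404002db1)) (.leaf (nat_lit 0x1403002dc1))) (.node 1 (.leaf (nat_lit 0x1402002dd1)) (.leaf (nat_lit 0x1404002dd1)))) (.node 2 (.node 1 (.leaf (nat_lit 0x1401002de1)) (.leaf (nat_lit 0x1404002de1))) (.node 1 (.leaf (nat_lit 0x1405002df1)) (.leaf (nat_lit 0x1403002e01))))) (.node 4 (.node 2 (.node 1 (.leaf (nat_lit 0x1402002e11)) (.leaf (nat_lit 0x1404002e11))) (.node 1 (.leaf (nat_lit 0x1401002e21)) (.leaf (nat_lit 0x1404002e21)))) (.node 2 (.node 1 (.leaf (nat_lit 0x1405002e31)) (.leaf (nat_lit 0x1400002e41))) (.node 1 (.leaf (nat_lit 0x1404002e41)) (.leaf (nat_lit 0x1403002e51)))))) (.node 8 (.node 4 (.node 2 (.node 1 (.leaf (nat_lit 0x1405002e51)) (.leaf (nat_lit 0x1406002e61))) (.node 1 (.leaf (nat_lit 0x907002e72)) (.leaf (nat_lit 0x908002e72)))) (.node 2 (.node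 1 (.leaf (nat_lit 0x903002e82)) (.leaf (nat_lit 0x908002e82))) (.node 1 (.leaf (nat_lit 0x907002e92)) (.leaf (nat_lit 0x1404002ea1))))) (.node 4 (.node 2 (.node 1 (.leaf (nat_lit 0x1408002ea1)) (.leaf (nat_lit 0x1407002eb1))) (.node 1 (.leaf (nat_lit 0x1403002ec1)) (.leaf (nat_lit 0x908002ed2)))) (.node 2 (.node 1 (.leaf (nat_lit 0x907002ee2)) (.leaf (nat_lit 0x903002ef2))) (.node 1 (.leaf (nat_lit 0x1407002f01)) (.leaf (nat_lit 0x1403002f11))))))) (.node 16 (.node 8 (.node 4 (.node 2 (.node 1 (.leaf (nat_lit 0x1402002f21)) (.leaf (nat_lit 0x1404002f21))) (.node 1 (.leaf (nat_lit 0x1403002f31)) (.leaf (nat_lit 0x1402002f41)))) (.node 2 (.node 1 (.leaf (nat_lit 0x1404002f41)) (.leaf (nat_lit 0x1401002f51))) (.node 1 (.leaf (nat_lit 0x1404002f51)) (.leaf (nat_lit 0x1405002f61))))) (.node 4 (.node 2 (.node 1 (.leaf (nat_lit 0x903002f72)) (.leaf (nat_lit 0x902002f82))) (.node 1 (.leaf (nat_lit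 0x904002f82)) (.leaf (nat_lit 0x1402002f91)))) (.node 2 (.node 1 (.leaf (nat_lit 0x1404002f91)) (.leaf (nat_lit 0x1401002fa1))) (.node 1 (.leaf (nat_lit 0x1404002fa1)) (.leaf (nat_lit 0x1405002fb1)))))) (.node 8 (.node 4 (.node 2 (.node 1 (.leaf (nat_lit 0x1401002fc1)) (.leaf (nat_lit 0x1404002fc1))) (.node 1 (.leaf (nat_lit 0x1405002fd1)) (.leaf (nat_lit 0x1400002fe1)))) (.node 2 (.node 1 (.leaf (nat_lit 0x1404002fe1)) (.leaf (nat_lit 0x1403002ff1))) (.node 1 (.leaf (nat_lit 0x1405002ff1)) (.leaf (nat_lit 0x1406003001))))) (.node 4 (.node 2 (.node 1 (.leaf (nat_lit 0x1400003011)) (.leaf (nat_lit 0x1404003011))) (.node 1 (.leaf (nat_lit 0x1403003021)) (.leaf (nat_lit 0x1405003021)))) (.node 2 (.node 1 (.leaf (nat_lit 0x1406003031)) (.leaf (nat_lit 0x1404003041))) (.node 1 (.leaf (nat_lit 0x1403003051)) (.leaf (nat_lit 0x1405003051)))))))) (.node 32 (.node 16 (.node 8 (.node 4 (.node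 2 (.node 1 (.leaf (nat_lit 0x1405003061)) (.leaf (nat_lit 0x1407003061))) (.node 1 (.leaf (nat_lit 0x1406003071)) (.leaf (nat_lit 0x1e02005ea1)))) (.node 2 (.node 1 (.leaf (nat_lit 0x901003092)) (.leaf (nat_lit 0x904003092))) (.node 1 (.leaf (nat_lit 0x9050030a2)) (.leaf (nat_lit 0x14000030b1))))) (.node 4 (.node 2 (.node 1 (.leaf (nat_lit 0x14040030b1)) (.leaf (nat_lit 0x14030030c1))) (.node 1 (.leaf (nat_lit 0x14050030c1)) (.leaf (nat_lit 0x14060030d1)))) (.node 2 (.node 1 (.leaf (nat_lit 0x14040030e1)) (.leaf (nat_lit 0x14030030f1))) (.node 1 (.leaf (nat_lit 0x14050030f1)) (.leaf (nat_lit 0x1405003101)))))) (.node 8 (.node 4 (.node 2 (.node 1 (.leaf (nat_lit 0x1407003101)) (.leaf (nat_lit 0x1406003111))) (.node 1 (.leaf (nat_lit 0x1e04003191)) (.leaf (nat_lit 0x1403003131)))) (.node 2 (.node 1 (.leaf (nat_lit 0x1405003131)) (.leaf (nat_lit 0x1405003141))) (.node 1 (.leaf (nat_lit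 0x1407003141)) (.leaf (nat_lit 0x1406003151))))) (.node 4 (.node 2 (.node 1 (.leaf (nat_lit 0x1404003161)) (.leaf (nat_lit 0x1406003161))) (.node 1 (.leaf (nat_lit 0x1407003161)) (.leaf (nat_lit 0x1408003171)))) (.node 2 (.node 1 (.leaf (nat_lit 0x1c030060c1)) (.leaf (nat_lit 0x14060031a1))) (.node 1 (.leaf (nat_lit 0x14070031a1)) (.leaf (nat_lit 0x1a07006141))))))) (.node 16 (.node 8 (.node 4 (.node 2 (.node 1 (.leaf (nat_lit 0x14070031b1)) (.leaf (nat_lit 0x14080031c1))) (.node 1 (.leaf (nat_lit 0x9030031f2)) (.leaf (nat_lit 0x9080031f2)))) (.node 2 (.node 1 (.leaf (nat_lit 0x907003202)) (.leaf (nat_lit 0x902003212))) (.node 1 (.leaf (nat_lit 0x904003212)) (.leaf (nat_lit 0x908003212))))) (.node 4 (.node 2 (.node 1 (.leaf (nat_lit 0x907003222)) (.leaf (nat_lit 0x903003232))) (.node 1 (.leaf (nat_lit 0x1404003241)) (.leaf (nat_lit 0x1408003241)))) (.node 2 (.node 1 (.leaf (nat_lit 0x1408003251))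 (.leaf (nat_lit 0x1407003261))) (.node 1 (.leaf (nat_lit 0x1403003271)) (.leaf (nat_lit 0x1402003281)))))) (.node 8 (.node 4 (.node 2 (.node 1 (.leaf (nat_lit 0x1404003281)) (.leaf (nat_lit 0x908003292))) (.node 1 (.leaf (nat_lit 0x9070032a2)) (.leaf (nat_lit 0x9030032b2)))) (.node 2 (.node 1 (.leaf (nat_lit 0x9020032c2)) (.leaf (nat_lit 0x9040032c2))) (.node 1 (.leaf (nat_lit 0x14030032e1)) (.leaf (nat_lit 0x14020032f1))))) (.node 4 (.node 2 (.node 1 (.leaf (nat_lit 0x14040032f1)) (.leaf (nat_lit 0x1401003301))) (.node 1 (.leaf (nat_lit 0x1404003301)) (.leaf (nat_lit 0x1405003311)))) (.node 2 (.node 1 (.leaf (nat_lit 0x1404003321)) (.leaf (nat_lit 0x1401003331))) (.node 1 (.leaf (nat_lit 0x1404003331)) (.leaf (nat_lit 0x1405003341))))))))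

noncomputable def oT9 : Tree :=
  .node 64 (.node 32 (.node 16 (.node 8 (.node 4 (.node 2 (.node 1 (.leaf (nat_lit 0x1400003351)) (.leaf (nat_lit 0x1404003351))) (.node 1 (.leaf (nat_lit 0x1403003361)) (.leaf (nat_lit 0x1405003361)))) (.node 2 (.node 1 (.leaf (nat_lit 0x1406003371)) (.leaf (nat_lit 0x902003382))) (.node 1 (.leaf (nat_lit 0x904003382)) (.leaf (nat_lit 0x901003392))))) (.node 4 (.node 2 (.node 1 (.leaf (nat_lit 0x904003392)) (.leaf (nat_lit 0x9050033a2))) (.node 1 (.leaf (nat_lit 0x14010033b1)) (.leaf (nat_lit 0x14040033b1)))) (.node 2 (.node 1 (.leaf (nat_lit 0x14050033c1)) (.leaf (nat_lit 0x14000033d1))) (.node 1 (.leaf (nat_lit 0x14040033d1)) (.leaf (nat_lit 0x14030033e1)))))) (.node 8 (.node 4 (.node 2 (.node 1 (.leaf (nat_lit 0x14050033e1)) (.leaf (nat_lit 0x14060033f1))) (.node 1 (.leaf (nat_lit 0x1400003401)) (.leaf (nat_lit 0x1404003401)))) (.node 2 (.node 1 (.leaf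 (nat_lit 0x1403003411)) (.leaf (nat_lit 0x1405003411))) (.node 1 (.leaf (nat_lit 0x1406003421)) (.leaf (nat_lit 0x1404003431))))) (.node 4 (.node 2 (.node 1 (.leaf (nat_lit 0x1403003441)) (.leaf (nat_lit 0x1405003441))) (.node 1 (.leaf (nat_lit 0x1405003451)) (.leaf (nat_lit 0x1407003451)))) (.node 2 (.node 1 (.leaf (nat_lit 0x1406003461)) (.leaf (nat_lit 0x1c020066b1))) (.node 1 (.leaf (nat_lit 0x1404003481)) (.leaf (nat_lit 0x1403003491))))))) (.node 16 (.node 8 (.node 4 (.node 2 (.node 1 (.leaf (nat_lit 0x1405003491)) (.leaf (nat_lit 0x14050034a1))) (.node 1 (.leaf (nat_lit 0x14070034a1)) (.leaf (nat_lit 0x14060034b1)))) (.node 2 (.node 1 (.leaf (nat_lit 0x1e08003521)) (.leaf (nat_lit 0x14030034d1))) (.node 1 (.leaf (nat_lit 0x14050034d1)) (.leaf (nat_lit 0x14020034e1))))) (.node 4 (.node 2 (.node 1 (.leaf (nat_lit 0x14050034e1)) (.leaf (nat_lit 0x14060034f1))) (.node 1 (.leaf (nat_lit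 0x1404003501)) (.leaf (nat_lit 0x1406003501)))) (.node 2 (.node 1 (.leaf (nat_lit 0x1c040066b1)) (.leaf (nat_lit 0x900003532))) (.node 1 (.leaf (nat_lit 0x904003532)) (.leaf (nat_lit 0x903003542)))))) (.node 8 (.node 4 (.node 2 (.node 1 (.leaf (nat_lit 0x905003542)) (.leaf (nat_lit 0x906003552))) (.node 1 (.leaf (nat_lit 0x1404003561)) (.leaf (nat_lit 0x1403003571)))) (.node 2 (.node 1 (.leaf (nat_lit 0x1405003571)) (.leaf (nat_lit 0x1405003581))) (.node 1 (.leaf (nat_lit 0x1407003581)) (.leaf (nat_lit 0x1406003591))))) (.node 4 (.node 2 (.node 1 (.leaf (nat_lit 0x1c02006901)) (.leaf (nat_lit 0x14030035b1))) (.node 1 (.leaf (nat_lit 0x14050035b1)) (.leaf (nat_lit 0x14020035c1)))) (.node 2 (.node 1 (.leaf (nat_lit 0x14050035c1)) (.leaf (nat_lit 0x14070035c1))) (.node 1 (.leaf (nat_lit 0x14060035d1)) (.leaf (nat_lit 0x14060035e1)))))))) (.node 32 (.node 16 (.node 8 (.node 4 (.node 2 (.node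 1 (.leaf (nat_lit 0x14070035e1)) (.leaf (nat_lit 0x14080035f1))) (.node 1 (.leaf (nat_lit 0x1c03006991)) (.leaf (nat_lit 0x1406003621)))) (.node 2 (.node 1 (.leaf (nat_lit 0x1e02006091)) (.leaf (nat_lit 0x904003652))) (.node 1 (.leaf (nat_lit 0x903003662)) (.leaf (nat_lit 0x905003662))))) (.node 4 (.node 2 (.node 1 (.leaf (nat_lit 0x905003672)) (.leaf (nat_lit 0x907003672))) (.node 1 (.leaf (nat_lit 0x906003682)) (.leaf (nat_lit 0x14030036a1)))) (.node 2 (.node 1 (.leaf (nat_lit 0x14050036a1)) (.leaf (nat_lit 0x14020036b1))) (.node 1 (.leaf (nat_lit 0x14050036b1)) (.leaf (nat_lit 0x14070036b1)))))) (.node 8 (.node 4 (.node 2 (.node 1 (.leaf (nat_lit 0x14040036d1)) (.leaf (nat_lit 0x14070036d1))) (.node 1 (.leaf (nat_lit 0x14080036e1)) (.leaf (nat_lit 0x14020036f1)))) (.node 2 (.node 1 (.leaf (nat_lit 0x1407003701)) (.leaf (nat_lit 0x902003732))) (.node 1 (.leaf (nat_lit 0x904003732))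 (.leaf (nat_lit 0x908003732))))) (.node 4 (.node 2 (.node 1 (.leaf (nat_lit 0x907003742)) (.leaf (nat_lit 0x903003752))) (.node 1 (.leaf (nat_lit 0x901003762)) (.leaf (nat_lit 0x904003762)))) (.node 2 (.node 1 (.leaf (nat_lit 0x908003762)) (.leaf (nat_lit 0x908003772))) (.node 1 (.leaf (nat_lit 0x907003782)) (.leaf (nat_lit 0x903003792))))))) (.node 16 (.node 8 (.node 4 (.node 2 (.node 1 (.leaf (nat_lit 0x9020037a2)) (.leaf (nat_lit 0x9040037a2))) (.node 1 (.leaf (nat_lit 0x14040037b1)) (.leaf (nat_lit 0x14030037c1)))) (.node 2 (.node 1 (.leaf (nat_lit 0x14080037c1)) (.leaf (nat_lit 0x14070037e1))) (.node 1 (.leaf (nat_lit 0x14030037f1)) (.leaf (nat_lit 0x1402003801))))) (.node 4 (.node 2 (.node 1 (.leaf (nat_lit 0x1404003801)) (.leaf (nat_lit 0x1401003811))) (.node 1 (.leaf (nat_lit 0x1404003811)) (.leaf (nat_lit 0x1405003821)))) (.node 2 (.node 1 (.leaf (nat_lit 0x903003852)) (.leaf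 (nat_lit 0x902003862))) (.node 1 (.leaf (nat_lit 0x904003862)) (.leaf (nat_lit 0x901003872)))))) (.node 8 (.node 4 (.node 2 (.node 1 (.leaf (nat_lit 0x904003872)) (.leaf (nat_lit 0x905003882))) (.node 1 (.leaf (nat_lit 0x1404003891)) (.leaf (nat_lit 0x14040038a1)))) (.node 2 (.node 1 (.leaf (nat_lit 0x14050038b1)) (.leaf (nat_lit 0x14040038c1))) (.node 1 (.leaf (nat_lit 0x14030038d1)) (.leaf (nat_lit 0x14050038d1))))) (.node 4 (.node 2 (.node 1 (.leaf (nat_lit 0x14060038e1)) (.leaf (nat_lit 0x14050038f1))) (.node 1 (.leaf (nat_lit 0x1403003901)) (.leaf (nat_lit 0x1405003901)))) (.node 2 (.node 1 (.leaf (nat_lit 0x1406003911)) (.leaf (nat_lit 0x1403003921))) (.node 1 (.leaf (nat_lit 0x1405003921)) (.leaf (nat_lit 0x1405003931))))))))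

noncomputable def oT10 : Tree :=
  .node 64 (.node 32 (.node 16 (.node 8 (.node 4 (.node 2 (.node 1 (.leaf (nat_lit 0x1407003931)) (.leaf (nat_lit 0x1406003941))) (.node 1 (.leaf (nat_lit 0x1a02006ea1)) (.leaf (nat_lit 0x901003962)))) (.node 2 (.node 1 (.leaf (nat_lit 0x904003962)) (.leaf (nat_lit 0x905003972))) (.node 1 (.leaf (nat_lit 0x900003982)) (.leaf (nat_lit 0x904003982))))) (.node 4 (.node 2 (.node 1 (.leaf (nat_lit 0x903003992)) (.leaf (nat_lit 0x905003992))) (.node 1 (.leaf (nat_lit 0x9060039a2)) (.leaf (nat_lit 0x14000039b1)))) (.node 2 (.node 1 (.leaf (nat_lit 0x14040039b1)) (.leaf (nat_lit 0x14030039c1))) (.node 1 (.leaf (nat_lit 0x14050039c1)) (.leaf (nat_lit 0x14060039d1)))))) (.node 8 (.node 4 (.node 2 (.node 1 (.leaf (nat_lit 0x14040039e1)) (.leaf (nat_lit 0x14030039f1))) (.node 1 (.leaf (nat_lit 0x14050039f1)) (.leaf (nat_lit 0x1405003a01)))) (.node 2 (.node 1 (.leaf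 (nat_lit 0x1407003a01)) (.leaf (nat_lit 0x1406003a11))) (.node 1 (.leaf (nat_lit 0x1a02007051)) (.leaf (nat_lit 0x1404003a31))))) (.node 4 (.node 2 (.node 1 (.leaf (nat_lit 0x1403003a41)) (.leaf (nat_lit 0x1405003a41))) (.node 1 (.leaf (nat_lit 0x1405003a51)) (.leaf (nat_lit 0x1407003a51)))) (.node 2 (.node 1 (.leaf (nat_lit 0x1406003a61)) (.leaf (nat_lit 0x1c05006fd1))) (.node 1 (.leaf (nat_lit 0x1403003a81)) (.leaf (nat_lit 0x1405003a81))))))) (.node 16 (.node 8 (.node 4 (.node 2 (.node 1 (.leaf (nat_lit 0x1405003a91)) (.leaf (nat_lit 0x1406003aa1))) (.node 1 (.leaf (nat_lit 0x1404003ab1)) (.leaf (nat_lit 0x1406003ab1)))) (.node 2 (.node 1 (.leaf (nat_lit 0x1407003ab1)) (.leaf (nat_lit 0x1a03007151))) (.node 1 (.leaf (nat_lit 0x1403003af1)) (.leaf (nat_lit 0x1405003af1))))) (.node 4 (.node 2 (.node 1 (.leaf (nat_lit 0x1402003b01)) (.leaf (nat_lit 0x1405003b01))) (.node 1 (.leaf (nat_lit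 0x1407003b01)) (.leaf (nat_lit 0x1406003b11)))) (.node 2 (.node 1 (.leaf (nat_lit 0x1404003b21)) (.leaf (nat_lit 0x1406003b21))) (.node 1 (.leaf (nat_lit 0x1407003b21)) (.leaf (nat_lit 0x1c040070d1)))))) (.node 8 (.node 4 (.node 2 (.node 1 (.leaf (nat_lit 0x1402003b61)) (.leaf (nat_lit 0x1405003b61))) (.node 1 (.leaf (nat_lit 0x1406003b71)) (.leaf (nat_lit 0x1405003b81)))) (.node 2 (.node 1 (.leaf (nat_lit 0x1404003b91)) (.leaf (nat_lit 0x1406003b91))) (.node 1 (.leaf (nat_lit 0x1c04007121)) (.leaf (nat_lit 0x1406003bb1))))) (.node 4 (.node 2 (.node 1 (.leaf (nat_lit 0x1a040072f1)) (.leaf (nat_lit 0x904003be2))) (.node 1 (.leaf (nat_lit 0x903003bf2)) (.leaf (nat_lit 0x905003bf2)))) (.node 2 (.node 1 (.leaf (nat_lit 0x905003c02)) (.leaf (nat_lit 0x907003c02))) (.node 1 (.leaf (nat_lit 0x906003c12)) (.leaf (nat_lit 0x1a02007371)))))))) (.node 32 (.node 16 (.node 8 (.node 4 (.node 2 (.node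 1 (.leaf (nat_lit 0x1403003c31)) (.leaf (nat_lit 0x1405003c31))) (.node 1 (.leaf (nat_lit 0x1405003c41)) (.leaf (nat_lit 0x1406003c51)))) (.node 2 (.node 1 (.leaf (nat_lit 0x1404003c61)) (.leaf (nat_lit 0x1406003c61))) (.node 1 (.leaf (nat_lit 0x1407003c61)) (.leaf (nat_lit 0x1a030073f1))))) (.node 4 (.node 2 (.node 1 (.leaf (nat_lit 0x1405003ca1)) (.leaf (nat_lit 0x1406003cb1))) (.node 1 (.leaf (nat_lit 0x1406003cc1)) (.leaf (nat_lit 0x1c03007431)))) (.node 2 (.node 1 (.leaf (nat_lit 0x1a07007441)) (.leaf (nat_lit 0x1407003ce1))) (.node 1 (.leaf (nat_lit 0x1e07007291)) (.leaf (nat_lit 0x903003d32)))))) (.node 8 (.node 4 (.node 2 (.node 1 (.leaf (nat_lit 0x905003d32)) (.leaf (nat_lit 0x905003d42))) (.node 1 (.leaf (nat_lit 0x906003d52)) (.leaf (nat_lit 0x904003d62)))) (.node 2 (.node 1 (.leaf (nat_lit 0x906003d62)) (.leaf (nat_lit 0x907003d62))) (.node 1 (.leaf (nat_lit 0x1405003d91))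 (.leaf (nat_lit 0x1404003db1))))) (.node 4 (.node 2 (.node 1 (.leaf (nat_lit 0x1407003dc1)) (.leaf (nat_lit 0x905003de2))) (.node 1 (.leaf (nat_lit 0x906003df2)) (.leaf (nat_lit 0x904003e02)))) (.node 2 (.node 1 (.leaf (nat_lit 0x906003e02)) (.leaf (nat_lit 0x906003e22))) (.node 1 (.leaf (nat_lit 0x907003e22)) (.leaf (nat_lit 0x907003e32))))))) (.node 16 (.node 8 (.node 4 (.node 2 (.node 1 (.leaf (nat_lit 0x1404003e51)) (.leaf (nat_lit 0x1403003e71))) (.node 1 (.leaf (nat_lit 0xa04003e92)) (.leaf (nat_lit 0x1508003e81)))) (.node 2 (.node 1 (.leaf (nat_lit 0xa06003e92)) (.leaf (nat_lit 0xa08003e92))) (.node 1 (.leaf (nat_lit 0x1507003ea1)) (.leaf (nat_lit 0xa07003eb2))))) (.node 4 (.node 2 (.node 1 (.leaf (nat_lit 0x1503003ec1)) (.leaf (nat_lit 0x1502003ed1))) (.node 1 (.leaf (nat_lit 0x1504003ed1)) (.leaf (nat_lit 0xa07003ee2)))) (.node 2 (.node 1 (.leaf (nat_lit 0xa08003ee2)) (.leaf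 (nat_lit 0xa08003ef2))) (.node 1 (.leaf (nat_lit 0xa07003f02)) (.leaf (nat_lit 0x1507003f11)))))) (.node 8 (.node 4 (.node 2 (.node 1 (.leaf (nat_lit 0x1503003f21)) (.leaf (nat_lit 0xa07003f32))) (.node 1 (.leaf (nat_lit 0xa03003f42)) (.leaf (nat_lit 0x1503003f51)))) (.node 2 (.node 1 (.leaf (nat_lit 0x1502003f61)) (.leaf (nat_lit 0x1504003f61))) (.node 1 (.leaf (nat_lit 0x1502003f71)) (.leaf (nat_lit 0x1504003f71))))) (.node 4 (.node 2 (.node 1 (.leaf (nat_lit 0x1501003f81)) (.leaf (nat_lit 0x1504003f81))) (.node 1 (.leaf (nat_lit 0x1505003f91)) (.leaf (nat_lit 0xa07003fa2)))) (.node 2 (.node 1 (.leaf (nat_lit 0xa03003fb2)) (.leaf (nat_lit 0xa02003fc2))) (.node 1 (.leaf (nat_lit 0xa04003fc2)) (.leaf (nat_lit 0x1503003fd1))))))))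

noncomputable def oT11 : Tree :=
  .node 64 (.node 32 (.node 16 (.node 8 (.node 4 (.node 2 (.node 1 (.leaf (nat_lit 0x1502003fe1)) (.leaf (nat_lit 0x1504003fe1))) (.node 1 (.leaf (nat_lit 0x1501003ff1)) (.leaf (nat_lit 0x1504003ff1)))) (.node 2 (.node 1 (.leaf (nat_lit 0x1505004001)) (.leaf (nat_lit 0x1502004011))) (.node 1 (.leaf (nat_lit 0x1504004011)) (.leaf (nat_lit 0x1501004021))))) (.node 4 (.node 2 (.node 1 (.leaf (nat_lit 0x1504004021)) (.leaf (nat_lit 0x1505004031))) (.node 1 (.leaf (nat_lit 0x1500004041)) (.leaf (nat_lit 0x1504004041)))) (.node 2 (.node 1 (.leaf (nat_lit 0x1503004051)) (.leaf (nat_lit 0x1505004051))) (.node 1 (.leaf (nat_lit 0x1506004061)) (.leaf (nat_lit 0x1502004071)))))) (.node 8 (.node 4 (.node 2 (.node 1 (.leaf (nat_lit 0x1504004071)) (.leaf (nat_lit 0x1501004081))) (.node 1 (.leaf (nat_lit 0x1504004081)) (.leaf (nat_lit 0x1505004091)))) (.node 2 (.node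 1 (.leaf (nat_lit 0x15000040a1)) (.leaf (nat_lit 0x15040040a1))) (.node 1 (.leaf (nat_lit 0x15030040b1)) (.leaf (nat_lit 0x15050040b1))))) (.node 4 (.node 2 (.node 1 (.leaf (nat_lit 0x15060040c1)) (.leaf (nat_lit 0x15040040d1))) (.node 1 (.leaf (nat_lit 0x15030040e1)) (.leaf (nat_lit 0x15050040e1)))) (.node 2 (.node 1 (.leaf (nat_lit 0x15050040f1)) (.leaf (nat_lit 0x15070040f1))) (.node 1 (.leaf (nat_lit 0x1506004101)) (.leaf (nat_lit 0x2104007961))))))) (.node 16 (.node 8 (.node 4 (.node 2 (.node 1 (.leaf (nat_lit 0xa03004122)) (.leaf (nat_lit 0xa08004122))) (.node 1 (.leaf (nat_lit 0xa07004132)) (.leaf (nat_lit 0xa04004142)))) (.node 2 (.node 1 (.leaf (nat_lit 0xa08004142)) (.leaf (nat_lit 0xa07004152))) (.node 1 (.leaf (nat_lit 0xa03004162)) (.leaf (nat_lit 0x1508004171))))) (.node 4 (.node 2 (.node 1 (.leaf (nat_lit 0x1507004181)) (.leaf (nat_lit 0x1503004191))) (.node 1 (.leaf (nat_lit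 0x15020041a1)) (.leaf (nat_lit 0x15040041a1)))) (.node 2 (.node 1 (.leaf (nat_lit 0xa070041b2)) (.leaf (nat_lit 0xa030041c2))) (.node 1 (.leaf (nat_lit 0xa020041d2)) (.leaf (nat_lit 0xa040041d2)))))) (.node 8 (.node 4 (.node 2 (.node 1 (.leaf (nat_lit 0x15030041e1)) (.leaf (nat_lit 0x15020041f1))) (.node 1 (.leaf (nat_lit 0x15040041f1)) (.leaf (nat_lit 0x1501004201)))) (.node 2 (.node 1 (.leaf (nat_lit 0x1504004201)) (.leaf (nat_lit 0x1505004211))) (.node 1 (.leaf (nat_lit 0x1502004221)) (.leaf (nat_lit 0x1504004221))))) (.node 4 (.node 2 (.node 1 (.leaf (nat_lit 0x1501004231)) (.leaf (nat_lit 0x1504004231))) (.node 1 (.leaf (nat_lit 0x1505004241)) (.leaf (nat_lit 0x1500004251)))) (.node 2 (.node 1 (.leaf (nat_lit 0x1504004251)) (.leaf (nat_lit 0x1503004261))) (.node 1 (.leaf (nat_lit 0x1505004261)) (.leaf (nat_lit 0x1506004271)))))))) (.node 32 (.node 16 (.node 8 (.node 4 (.node 2 (.node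 1 (.leaf (nat_lit 0xa02004282)) (.leaf (nat_lit 0xa04004282))) (.node 1 (.leaf (nat_lit 0xa01004292)) (.leaf (nat_lit 0xa04004292)))) (.node 2 (.node 1 (.leaf (nat_lit 0xa050042a2)) (.leaf (nat_lit 0x15010042b1))) (.node 1 (.leaf (nat_lit 0x15040042b1)) (.leaf (nat_lit 0x15050042c1))))) (.node 4 (.node 2 (.node 1 (.leaf (nat_lit 0x15000042d1)) (.leaf (nat_lit 0x15040042d1))) (.node 1 (.leaf (nat_lit 0x15030042e1)) (.leaf (nat_lit 0x15050042e1)))) (.node 2 (.node 1 (.leaf (nat_lit 0x15060042f1)) (.leaf (nat_lit 0x1500004301))) (.node 1 (.leaf (nat_lit 0x1504004301)) (.leaf (nat_lit 0x1503004311)))))) (.node 8 (.node 4 (.node 2 (.node 1 (.leaf (nat_lit 0x1505004311)) (.leaf (nat_lit 0x1506004321))) (.node 1 (.leaf (nat_lit 0x1504004331)) (.leaf (nat_lit 0x1503004341)))) (.node 2 (.node 1 (.leaf (nat_lit 0x1505004341)) (.leaf (nat_lit 0x1505004351))) (.node 1 (.leaf (nat_lit 0x1507004351))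 (.leaf (nat_lit 0x1506004361))))) (.node 4 (.node 2 (.node 1 (.leaf (nat_lit 0x1d010049d1)) (.leaf (nat_lit 0x1504004381))) (.node 1 (.leaf (nat_lit 0x1503004391)) (.leaf (nat_lit 0x1505004391)))) (.node 2 (.node 1 (.leaf (nat_lit 0x15050043a1)) (.leaf (nat_lit 0x15070043a1))) (.node 1 (.leaf (nat_lit 0x15060043b1)) (.leaf (nat_lit 0x1f020080e1))))))) (.node 16 (.node 8 (.node 4 (.node 2 (.node 1 (.leaf (nat_lit 0x15030043d1)) (.leaf (nat_lit 0x15050043d1))) (.node 1 (.leaf (nat_lit 0x15020043e1)) (.leaf (nat_lit 0x15050043e1)))) (.node 2 (.node 1 (.leaf (nat_lit 0x15070043e1)) (.leaf (nat_lit 0x15060043f1))) (.node 1 (.leaf (nat_lit 0x1504004401)) (.leaf (nat_lit 0x1506004401))))) (.node 4 (.node 2 (.node 1 (.leaf (nat_lit 0x1507004401)) (.leaf (nat_lit 0x1508004411))) (.node 1 (.leaf (nat_lit 0x1d030081c1)) (.leaf (nat_lit 0xa00004442)))) (.node 2 (.node 1 (.leaf (nat_lit 0xa04004442))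 (.leaf (nat_lit 0xa03004452))) (.node 1 (.leaf (nat_lit 0xa05004452)) (.leaf (nat_lit 0xa06004462)))))) (.node 8 (.node 4 (.node 2 (.node 1 (.leaf (nat_lit 0x1504004471)) (.leaf (nat_lit 0x1503004481))) (.node 1 (.leaf (nat_lit 0x1505004481)) (.leaf (nat_lit 0x1505004491)))) (.node 2 (.node 1 (.leaf (nat_lit 0x1507004491)) (.leaf (nat_lit 0x15060044a1))) (.node 1 (.leaf (nat_lit 0x1d01004b81)) (.leaf (nat_lit 0x15030044c1))))) (.node 4 (.node 2 (.node 1 (.leaf (nat_lit 0x15050044c1)) (.leaf (nat_lit 0x15020044d1))) (.node 1 (.leaf (nat_lit 0x15050044d1)) (.leaf (nat_lit 0x15070044d1)))) (.node 2 (.node 1 (.leaf (nat_lit 0x15060044e1)) (.leaf (nat_lit 0x15040044f1))) (.node 1 (.leaf (nat_lit 0x15060044f1)) (.leaf (nat_lit 0x15070044f1))))))))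

noncomputable def oT12 : Tree :=
  .node 64 (.node 32 (.node 16 (.node 8 (.node 4 (.node 2 (.node 1 (.leaf (nat_lit 0x1508004501)) (.leaf (nat_lit 0x1d040045c1))) (.node 1 (.leaf (nat_lit 0x1505004531)) (.leaf (nat_lit 0x1507004531)))) (.node 2 (.node 1 (.leaf (nat_lit 0x1506004541)) (.leaf (nat_lit 0x1504004551))) (.node 1 (.leaf (nat_lit 0x1506004551)) (.leaf (nat_lit 0x1507004551))))) (.node 4 (.node 2 (.node 1 (.leaf (nat_lit 0x1508004561)) (.leaf (nat_lit 0x1d03008481))) (.node 1 (.leaf (nat_lit 0x1506004581)) (.leaf (nat_lit 0x1507004581)))) (.node 2 (.node 1 (.leaf (nat_lit 0x1b07008501)) (.leaf (nat_lit 0x1507004591))) (.node 1 (.leaf (nat_lit 0x15080045a1)) (.leaf (nat_lit 0x15050045d1)))))) (.node 8 (.node 4 (.node 2 (.node 1 (.leaf (nat_lit 0x1907008541)) (.leaf (nat_lit 0x15070045d1))) (.node 1 (.leaf (nat_lit 0x15030045e1)) (.leaf (nat_lit 0x15080045e1)))) (.node 2 (.node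 1 (.leaf (nat_lit 0x1908008591)) (.leaf (nat_lit 0x1508004601))) (.node 1 (.leaf (nat_lit 0xa02004622)) (.leaf (nat_lit 0xa04004622))))) (.node 4 (.node 2 (.node 1 (.leaf (nat_lit 0xa08004622)) (.leaf (nat_lit 0xa07004632))) (.node 1 (.leaf (nat_lit 0xa03004642)) (.leaf (nat_lit 0xa04004652)))) (.node 2 (.node 1 (.leaf (nat_lit 0xa08004652)) (.leaf (nat_lit 0xa08004662))) (.node 1 (.leaf (nat_lit 0xa07004672)) (.leaf (nat_lit 0xa03004682))))))) (.node 16 (.node 8 (.node 4 (.node 2 (.node 1 (.leaf (nat_lit 0xa02004692)) (.leaf (nat_lit 0xa04004692))) (.node 1 (.leaf (nat_lit 0x15030046a1)) (.leaf (nat_lit 0x15080046a1)))) (.node 2 (.node 1 (.leaf (nat_lit 0x15070046c1)) (.leaf (nat_lit 0x15030046d1))) (.node 1 (.leaf (nat_lit 0x15020046e1)) (.leaf (nat_lit 0x15040046e1))))) (.node 4 (.node 2 (.node 1 (.leaf (nat_lit 0x15010046f1)) (.leaf (nat_lit 0x15040046f1))) (.node 1 (.leaf (nat_lit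 0x1505004701)) (.leaf (nat_lit 0xa03004722)))) (.node 2 (.node 1 (.leaf (nat_lit 0xa02004732)) (.leaf (nat_lit 0xa04004732))) (.node 1 (.leaf (nat_lit 0xa01004742)) (.leaf (nat_lit 0xa04004742)))))) (.node 8 (.node 4 (.node 2 (.node 1 (.leaf (nat_lit 0xa05004752)) (.leaf (nat_lit 0x1504004761))) (.node 1 (.leaf (nat_lit 0x1501004771)) (.leaf (nat_lit 0x1504004771)))) (.node 2 (.node 1 (.leaf (nat_lit 0x1505004781)) (.leaf (nat_lit 0x1500004791))) (.node 1 (.leaf (nat_lit 0x1504004791)) (.leaf (nat_lit 0x15030047a1))))) (.node 4 (.node 2 (.node 1 (.leaf (nat_lit 0x15050047a1)) (.leaf (nat_lit 0x15060047b1))) (.node 1 (.leaf (nat_lit 0x15050047c1)) (.leaf (nat_lit 0x15040047d1)))) (.node 2 (.node 1 (.leaf (nat_lit 0x15030047e1)) (.leaf (nat_lit 0x15050047e1))) (.node 1 (.leaf (nat_lit 0x15060047f1)) (.leaf (nat_lit 0x1504004801)))))))) (.node 32 (.node 16 (.node 8 (.node 4 (.node 2 (.node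 1 (.leaf (nat_lit 0x1503004811)) (.leaf (nat_lit 0x1505004811))) (.node 1 (.leaf (nat_lit 0x1505004821)) (.leaf (nat_lit 0x1507004821)))) (.node 2 (.node 1 (.leaf (nat_lit 0x1506004831)) (.leaf (nat_lit 0x1b020089c1))) (.node 1 (.leaf (nat_lit 0xa01004852)) (.leaf (nat_lit 0xa04004852))))) (.node 4 (.node 2 (.node 1 (.leaf (nat_lit 0xa05004862)) (.leaf (nat_lit 0xa00004872))) (.node 1 (.leaf (nat_lit 0xa04004872)) (.leaf (nat_lit 0xa03004882)))) (.node 2 (.node 1 (.leaf (nat_lit 0xa05004882)) (.leaf (nat_lit 0xa06004892))) (.node 1 (.leaf (nat_lit 0x15000048a1)) (.leaf (nat_lit 0x15040048a1)))))) (.node 8 (.node 4 (.node 2 (.node 1 (.leaf (nat_lit 0x15030048b1)) (.leaf (nat_lit 0x15050048b1))) (.node 1 (.leaf (nat_lit 0x15060048c1)) (.leaf (nat_lit 0x15040048d1)))) (.node 2 (.node 1 (.leaf (nat_lit 0x15030048e1)) (.leaf (nat_lit 0x15050048e1))) (.node 1 (.leaf (nat_lit 0x15050048f1))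 (.leaf (nat_lit 0x15070048f1))))) (.node 4 (.node 2 (.node 1 (.leaf (nat_lit 0x1506004901)) (.leaf (nat_lit 0x1b02008ba1))) (.node 1 (.leaf (nat_lit 0x1504004921)) (.leaf (nat_lit 0x1503004931)))) (.node 2 (.node 1 (.leaf (nat_lit 0x1505004931)) (.leaf (nat_lit 0x1505004941))) (.node 1 (.leaf (nat_lit 0x1507004941)) (.leaf (nat_lit 0x1506004951))))))) (.node 16 (.node 8 (.node 4 (.node 2 (.node 1 (.leaf (nat_lit 0x1d080049d1)) (.leaf (nat_lit 0x1503004971))) (.node 1 (.leaf (nat_lit 0x1505004971)) (.leaf (nat_lit 0x1502004981)))) (.node 2 (.node 1 (.leaf (nat_lit 0x1505004981)) (.leaf (nat_lit 0x1507004981))) (.node 1 (.leaf (nat_lit 0x1506004991)) (.leaf (nat_lit 0x15040049a1))))) (.node 4 (.node 2 (.node 1 (.leaf (nat_lit 0x15060049a1)) (.leaf (nat_lit 0x15070049a1))) (.node 1 (.leaf (nat_lit 0x15080049b1)) (.leaf (nat_lit 0x1b03008d11)))) (.node 2 (.node 1 (.leaf (nat_lit 0x15030049e1))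 (.leaf (nat_lit 0x15050049e1))) (.node 1 (.leaf (nat_lit 0x15020049f1)) (.leaf (nat_lit 0x15050049f1)))))) (.node 8 (.node 4 (.node 2 (.node 1 (.leaf (nat_lit 0x15070049f1)) (.leaf (nat_lit 0x1506004a01))) (.node 1 (.leaf (nat_lit 0x1504004a11)) (.leaf (nat_lit 0x1506004a11)))) (.node 2 (.node 1 (.leaf (nat_lit 0x1507004a11)) (.leaf (nat_lit 0x1d08004ac1))) (.node 1 (.leaf (nat_lit 0x1502004a51)) (.leaf (nat_lit 0x1505004a51))))) (.node 4 (.node 2 (.node 1 (.leaf (nat_lit 0x1506004a61)) (.leaf (nat_lit 0x1505004a71))) (.node 1 (.leaf (nat_lit 0x1504004a81)) (.leaf (nat_lit 0x1506004a81)))) (.node 2 (.node 1 (.leaf (nat_lit 0x1d04008ce1)) (.leaf (nat_lit 0x1506004aa1))) (.node 1 (.leaf (nat_lit 0x1b04008ec1)) (.leaf (nat_lit 0xa04004ad2))))))))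

noncomputable def oT13 : Tree :=
  .node 64 (.node 32 (.node 16 (.node 8 (.node 4 (.node 2 (.node 1 (.leaf (nat_lit 0xa03004ae2)) (.leaf (nat_lit 0xa05004ae2))) (.node 1 (.leaf (nat_lit 0xa05004af2)) (.leaf (nat_lit 0xa07004af2)))) (.node 2 (.node 1 (.leaf (nat_lit 0xa06004b02)) (.leaf (nat_lit 0x1b02008f71))) (.node 1 (.leaf (nat_lit 0x1503004b21)) (.leaf (nat_lit 0x1505004b21))))) (.node 4 (.node 2 (.node 1 (.leaf (nat_lit 0x1502004b31)) (.leaf (nat_lit 0x1505004b31))) (.node 1 (.leaf (nat_lit 0x1507004b31)) (.leaf (nat_lit 0x1506004b41)))) (.node 2 (.node 1 (.leaf (nat_lit 0x1504004b51)) (.leaf (nat_lit 0x1506004b51))) (.node 1 (.leaf (nat_lit 0x1507004b51)) (.leaf (nat_lit 0x1508004b61)))))) (.node 8 (.node 4 (.node 2 (.node 1 (.leaf (nat_lit 0x1b03009031)) (.leaf (nat_lit 0x1502004b91))) (.node 1 (.leaf (nat_lit 0x1505004b91)) (.leaf (nat_lit 0x1506004ba1)))) (.node 2 (.node 1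 (.leaf (nat_lit 0x1505004bb1)) (.leaf (nat_lit 0x1507004bb1))) (.node 1 (.leaf (nat_lit 0x1506004bc1)) (.leaf (nat_lit 0x1507004bc1))))) (.node 4 (.node 2 (.node 1 (.leaf (nat_lit 0x1d030090c1)) (.leaf (nat_lit 0x1b070090e1))) (.node 1 (.leaf (nat_lit 0x1507004bf1)) (.leaf (nat_lit 0x1508004c01)))) (.node 2 (.node 1 (.leaf (nat_lit 0x1f02008451)) (.leaf (nat_lit 0xa03004c52))) (.node 1 (.leaf (nat_lit 0xa05004c52)) (.leaf (nat_lit 0xa02004c62))))))) (.node 16 (.node 8 (.node 4 (.node 2 (.node 1 (.leaf (nat_lit 0xa05004c62)) (.leaf (nat_lit 0xa07004c62))) (.node 1 (.leaf (nat_lit 0xa06004c72)) (.leaf (nat_lit 0xa04004c82)))) (.node 2 (.node 1 (.leaf (nat_lit 0xa06004c82)) (.leaf (nat_lit 0xa07004c82))) (.node 1 (.leaf (nat_lit 0xa08004c92)) (.leaf (nat_lit 0x1502004cb1))))) (.node 4 (.node 2 (.node 1 (.leaf (nat_lit 0x1505004cb1)) (.leaf (nat_lit 0x1505004cd1))) (.node 1 (.leaf (nat_lit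 0x1507004cd1)) (.leaf (nat_lit 0x1504004ce1)))) (.node 2 (.node 1 (.leaf (nat_lit 0x1507004ce1)) (.leaf (nat_lit 0x1507004d01))) (.node 1 (.leaf (nat_lit 0x1508004d11)) (.leaf (nat_lit 0x1503004d41)))))) (.node 8 (.node 4 (.node 2 (.node 1 (.leaf (nat_lit 0xa01004d52)) (.leaf (nat_lit 0xa04004d52))) (.node 1 (.leaf (nat_lit 0xa08004d52)) (.leaf (nat_lit 0xa05004d62)))) (.node 2 (.node 1 (.leaf (nat_lit 0xa08004d62)) (.leaf (nat_lit 0xa07004d72))) (.node 1 (.leaf (nat_lit 0xa03004d82)) (.leaf (nat_lit 0xa02004d92))))) (.node 4 (.node 2 (.node 1 (.leaf (nat_lit 0xa04004d92)) (.leaf (nat_lit 0xa04004da2))) (.node 1 (.leaf (nat_lit 0xa03004db2)) (.leaf (nat_lit 0xa08004db2)))) (.node 2 (.node 1 (.leaf (nat_lit 0xa07004dd2)) (.leaf (nat_lit 0xa03004de2))) (.node 1 (.leaf (nat_lit 0xa02004df2)) (.leaf (nat_lit 0xa04004df2)))))))) (.node 32 (.node 16 (.node 8 (.node 4 (.node 2 (.node 1 (.leaf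 (nat_lit 0xa01004e02)) (.leaf (nat_lit 0xa04004e02))) (.node 1 (.leaf (nat_lit 0xa05004e12)) (.leaf (nat_lit 0x1503004e21)))) (.node 2 (.node 1 (.leaf (nat_lit 0x1507004e31)) (.leaf (nat_lit 0x1508004e31))) (.node 1 (.leaf (nat_lit 0x1503004e51)) (.leaf (nat_lit 0x1504004e61))))) (.node 4 (.node 2 (.node 1 (.leaf (nat_lit 0x1504004e71)) (.leaf (nat_lit 0x1505004e81))) (.node 1 (.leaf (nat_lit 0x1504004e91)) (.leaf (nat_lit 0x1503004ea1)))) (.node 2 (.node 1 (.leaf (nat_lit 0x1505004ea1)) (.leaf (nat_lit 0x1506004eb1))) (.node 1 (.leaf (nat_lit 0xa04004ec2)) (.leaf (nat_lit 0xa04004ed2)))))) (.node 8 (.node 4 (.node 2 (.node 1 (.leaf (nat_lit 0xa05004ee2)) (.leaf (nat_lit 0xa04004ef2))) (.node 1 (.leaf (nat_lit 0xa03004f02)) (.leaf (nat_lit 0xa05004f02)))) (.node 2 (.node 1 (.leaf (nat_lit 0xa06004f12)) (.leaf (nat_lit 0x1505004f21))) (.node 1 (.leaf (nat_lit 0x1503004f31)) (.leaf (nat_lit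 0x1505004f31))))) (.node 4 (.node 2 (.node 1 (.leaf (nat_lit 0x1506004f41)) (.leaf (nat_lit 0x1503004f51))) (.node 1 (.leaf (nat_lit 0x1505004f51)) (.leaf (nat_lit 0x1505004f61)))) (.node 2 (.node 1 (.leaf (nat_lit 0x1507004f61)) (.leaf (nat_lit 0x1506004f71))) (.node 1 (.leaf (nat_lit 0x19020095e1)) (.leaf (nat_lit 0x1506004f91))))))) (.node 16 (.node 8 (.node 4 (.node 2 (.node 1 (.leaf (nat_lit 0x1505004fa1)) (.leaf (nat_lit 0x1506004fb1))) (.node 1 (.leaf (nat_lit 0x1b05009561)) (.leaf (nat_lit 0x1502004fd1)))) (.node 2 (.node 1 (.leaf (nat_lit 0x1505004fd1)) (.leaf (nat_lit 0x1507004fd1))) (.node 1 (.leaf (nat_lit 0x1506004fe1)) (.leaf (nat_lit 0x1504004ff1))))) (.node 4 (.node 2 (.node 1 (.leaf (nat_lit 0x1506004ff1)) (.leaf (nat_lit 0x1507004ff1))) (.node 1 (.leaf (nat_lit 0x19030096a1)) (.leaf (nat_lit 0xa00005032)))) (.node 2 (.node 1 (.leaf (nat_lit 0xa04005032)) (.leaf (nat_lit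 0xa03005042))) (.node 1 (.leaf (nat_lit 0xa05005042)) (.leaf (nat_lit 0xa06005052)))))) (.node 8 (.node 4 (.node 2 (.node 1 (.leaf (nat_lit 0xa04005062)) (.leaf (nat_lit 0xa03005072))) (.node 1 (.leaf (nat_lit 0xa05005072)) (.leaf (nat_lit 0xa05005082)))) (.node 2 (.node 1 (.leaf (nat_lit 0xa07005082)) (.leaf (nat_lit 0xa06005092))) (.node 1 (.leaf (nat_lit 0x19020097a1)) (.leaf (nat_lit 0x15040050b1))))) (.node 4 (.node 2 (.node 1 (.leaf (nat_lit 0x15030050c1)) (.leaf (nat_lit 0x15050050c1))) (.node 1 (.leaf (nat_lit 0x15050050d1)) (.leaf (nat_lit 0x15070050d1)))) (.node 2 (.node 1 (.leaf (nat_lit 0x15060050e1)) (.leaf (nat_lit 0x1b06009721))) (.node 1 (.leaf (nat_lit 0x1503005101)) (.leaf (nat_lit 0x1505005101))))))))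

noncomputable def oT14 : Tree :=
  .node 64 (.node 32 (.node 16 (.node 8 (.node 4 (.node 2 (.node 1 (.leaf (nat_lit 0x1505005111)) (.leaf (nat_lit 0x1506005121))) (.node 1 (.leaf (nat_lit 0x1504005131)) (.leaf (nat_lit 0x1506005131)))) (.node 2 (.node 1 (.leaf (nat_lit 0x1507005131)) (.leaf (nat_lit 0x19030098a1))) (.node 1 (.leaf (nat_lit 0x1503005171)) (.leaf (nat_lit 0x1505005171))))) (.node 4 (.node 2 (.node 1 (.leaf (nat_lit 0x1505005181)) (.leaf (nat_lit 0x1506005191))) (.node 1 (.leaf (nat_lit 0x15040051a1)) (.leaf (nat_lit 0x15060051a1)))) (.node 2 (.node 1 (.leaf (nat_lit 0x15070051a1)) (.leaf (nat_lit 0x1b05009821))) (.node 1 (.leaf (nat_lit 0x15050051e1)) (.leaf (nat_lit 0x15060051f1)))))) (.node 8 (.node 4 (.node 2 (.node 1 (.leaf (nat_lit 0x1504005201)) (.leaf (nat_lit 0x1506005201))) (.node 1 (.leaf (nat_lit 0x1b03009991)) (.leaf (nat_lit 0x1506005221)))) (.node 2 (.node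 1 (.leaf (nat_lit 0x1507005221)) (.leaf (nat_lit 0x19070099d1))) (.node 1 (.leaf (nat_lit 0x1507005231)) (.leaf (nat_lit 0x1502005261))))) (.node 4 (.node 2 (.node 1 (.leaf (nat_lit 0x1505005261)) (.leaf (nat_lit 0x1507005261))) (.node 1 (.leaf (nat_lit 0x1506005271)) (.leaf (nat_lit 0x1505005281)))) (.node 2 (.node 1 (.leaf (nat_lit 0x1507005281)) (.leaf (nat_lit 0x1504005291))) (.node 1 (.leaf (nat_lit 0x1506005291)) (.leaf (nat_lit 0x1507005291))))))) (.node 16 (.node 8 (.node 4 (.node 2 (.node 1 (.leaf (nat_lit 0x1b04009901)) (.leaf (nat_lit 0x15060052c1))) (.node 1 (.leaf (nat_lit 0x15070052c1)) (.leaf (nat_lit 0x1b04009ae1)))) (.node 2 (.node 1 (.leaf (nat_lit 0x15070052d1)) (.leaf (nat_lit 0x1501005301))) (.node 1 (.leaf (nat_lit 0x1505005301)) (.leaf (nat_lit 0x1504005311))))) (.node 4 (.node 2 (.node 1 (.leaf (nat_lit 0x1506005311)) (.leaf (nat_lit 0x1d08009a41))) (.node 1 (.leaf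 (nat_lit 0x1504005331)) (.leaf (nat_lit 0x1506005331)))) (.node 2 (.node 1 (.leaf (nat_lit 0x1506005341)) (.leaf (nat_lit 0x1b04009bb1))) (.node 1 (.leaf (nat_lit 0x1505005371)) (.leaf (nat_lit 0x19030099b1)))))) (.node 8 (.node 4 (.node 2 (.node 1 (.leaf (nat_lit 0xa03005392)) (.leaf (nat_lit 0xa05005392))) (.node 1 (.leaf (nat_lit 0xa050053a2)) (.leaf (nat_lit 0xa060053b2)))) (.node 2 (.node 1 (.leaf (nat_lit 0xa040053c2)) (.leaf (nat_lit 0xa060053c2))) (.node 1 (.leaf (nat_lit 0xa070053c2)) (.leaf (nat_lit 0x1903009c41))))) (.node 4 (.node 2 (.node 1 (.leaf (nat_lit 0x1505005401)) (.leaf (nat_lit 0x1506005411))) (.node 1 (.leaf (nat_lit 0x1504005421)) (.leaf (nat_lit 0x1506005421)))) (.node 2 (.node 1 (.leaf (nat_lit 0x1b03009ca1)) (.leaf (nat_lit 0x1506005441))) (.node 1 (.leaf (nat_lit 0x1507005441)) (.leaf (nat_lit 0x1907009ce1)))))))) (.node 32 (.node 16 (.node 8 (.node 4 (.node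 2 (.node 1 (.leaf (nat_lit 0x1507005451)) (.leaf (nat_lit 0x1506005481))) (.node 1 (.leaf (nat_lit 0x1d07009971)) (.leaf (nat_lit 0x1b07009621)))) (.node 2 (.node 1 (.leaf (nat_lit 0x1905009ce1)) (.leaf (nat_lit 0xa050054f2))) (.node 1 (.leaf (nat_lit 0xa06005502)) (.leaf (nat_lit 0xa04005512))))) (.node 4 (.node 2 (.node 1 (.leaf (nat_lit 0xa06005512)) (.leaf (nat_lit 0xa06005532))) (.node 1 (.leaf (nat_lit 0xa07005532)) (.leaf (nat_lit 0xa07005542)))) (.node 2 (.node 1 (.leaf (nat_lit 0x1504005561)) (.leaf (nat_lit 0x1503005581))) (.node 1 (.leaf (nat_lit 0xa04005592)) (.leaf (nat_lit 0xa06005592)))))) (.node 8 (.node 4 (.node 2 (.node 1 (.leaf (nat_lit 0xa060055b2)) (.leaf (nat_lit 0xa050055d2))) (.node 1 (.leaf (nat_lit 0xa070055d2)) (.leaf (nat_lit 0xa030055e2)))) (.node 2 (.node 1 (.leaf (nat_lit 0x1502005611)) (.leaf (nat_lit 0xb06005622))) (.node 1 (.leaf (nat_lit 0xb08005622))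 (.leaf (nat_lit 0x1607005631))))) (.node 4 (.node 2 (.node 1 (.leaf (nat_lit 0xb08005642)) (.leaf (nat_lit 0xb07005652))) (.node 1 (.leaf (nat_lit 0x1603005661)) (.leaf (nat_lit 0xb03005672)))) (.node 2 (.node 1 (.leaf (nat_lit 0x1602005681)) (.leaf (nat_lit 0x1604005681))) (.node 1 (.leaf (nat_lit 0x1601005691)) (.leaf (nat_lit 0x1604005691))))))) (.node 16 (.node 8 (.node 4 (.node 2 (.node 1 (.leaf (nat_lit 0x16050056a1)) (.leaf (nat_lit 0xb080056b2))) (.node 1 (.leaf (nat_lit 0xb070056c2)) (.leaf (nat_lit 0xb070056d2)))) (.node 2 (.node 1 (.leaf (nat_lit 0xb030056e2)) (.leaf (nat_lit 0x16030056f1))) (.node 1 (.leaf (nat_lit 0x1602005701)) (.leaf (nat_lit 0x1604005701))))) (.node 4 (.node 2 (.node 1 (.leaf (nat_lit 0xb03005712)) (.leaf (nat_lit 0xb02005722))) (.node 1 (.leaf (nat_lit 0xb04005722)) (.leaf (nat_lit 0x1602005731)))) (.node 2 (.node 1 (.leaf (nat_lit 0x1604005731)) (.leaf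 (nat_lit 0x1601005741))) (.node 1 (.leaf (nat_lit 0x1604005741)) (.leaf (nat_lit 0x1605005751)))))) (.node 8 (.node 4 (.node 2 (.node 1 (.leaf (nat_lit 0x1601005761)) (.leaf (nat_lit 0x1604005761))) (.node 1 (.leaf (nat_lit 0x1605005771)) (.leaf (nat_lit 0x1600005781)))) (.node 2 (.node 1 (.leaf (nat_lit 0x1604005781)) (.leaf (nat_lit 0x1603005791))) (.node 1 (.leaf (nat_lit 0x1605005791)) (.leaf (nat_lit 0x16060057a1))))) (.node 4 (.node 2 (.node 1 (.leaf (nat_lit 0xb030057b2)) (.leaf (nat_lit 0xb020057c2))) (.node 1 (.leaf (nat_lit 0xb040057c2)) (.leaf (nat_lit 0xb010057d2)))) (.node 2 (.node 1 (.leaf (nat_lit 0xb040057d2)) (.leaf (nat_lit 0xb050057e2))) (.node 1 (.leaf (nat_lit 0x16020057f1)) (.leaf (nat_lit 0x16040057f1))))))))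

noncomputable def oT15 : Tree :=
  .node 64 (.node 32 (.node 16 (.node 8 (.node 4 (.node 2 (.node 1 (.leaf (nat_lit 0x1601005801)) (.leaf (nat_lit 0x1604005801))) (.node 1 (.leaf (nat_lit 0x1605005811)) (.leaf (nat_lit 0x1600005821)))) (.node 2 (.node 1 (.leaf (nat_lit 0x1604005821)) (.leaf (nat_lit 0x1603005831))) (.node 1 (.leaf (nat_lit 0x1605005831)) (.leaf (nat_lit 0x1606005841))))) (.node 4 (.node 2 (.node 1 (.leaf (nat_lit 0x1601005851)) (.leaf (nat_lit 0x1604005851))) (.node 1 (.leaf (nat_lit 0x1605005861)) (.leaf (nat_lit 0x1600005871)))) (.node 2 (.node 1 (.leaf (nat_lit 0x1604005871)) (.leaf (nat_lit 0x1603005881))) (.node 1 (.leaf (nat_lit 0x1605005881)) (.leaf (nat_lit 0x1606005891)))))) (.node 8 (.node 4 (.node 2 (.node 1 (.leaf (nat_lit 0x16040058a1)) (.leaf (nat_lit 0x16030058b1))) (.node 1 (.leaf (nat_lit 0x16050058b1)) (.leaf (nat_lit 0x16050058c1)))) (.node 2 (.node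 1 (.leaf (nat_lit 0x16070058c1)) (.leaf (nat_lit 0x16060058d1))) (.node 1 (.leaf (nat_lit 0x200300a0f1)) (.leaf (nat_lit 0x16010058f1))))) (.node 4 (.node 2 (.node 1 (.leaf (nat_lit 0x16040058f1)) (.leaf (nat_lit 0x1605005901))) (.node 1 (.leaf (nat_lit 0x1600005911)) (.leaf (nat_lit 0x1604005911)))) (.node 2 (.node 1 (.leaf (nat_lit 0x1603005921)) (.leaf (nat_lit 0x1605005921))) (.node 1 (.leaf (nat_lit 0x1606005931)) (.leaf (nat_lit 0x1604005941))))))) (.node 16 (.node 8 (.node 4 (.node 2 (.node 1 (.leaf (nat_lit 0x1603005951)) (.leaf (nat_lit 0x1605005951))) (.node 1 (.leaf (nat_lit 0x1605005961)) (.leaf (nat_lit 0x1607005961)))) (.node 2 (.node 1 (.leaf (nat_lit 0x1606005971)) (.leaf (nat_lit 0x200700a4b1))) (.node 1 (.leaf (nat_lit 0x1603005991)) (.leaf (nat_lit 0x1605005991))))) (.node 4 (.node 2 (.node 1 (.leaf (nat_lit 0x16020059a1)) (.leaf (nat_lit 0x16050059a1))) (.node 1 (.leaf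 (nat_lit 0x16070059a1)) (.leaf (nat_lit 0x16060059b1)))) (.node 2 (.node 1 (.leaf (nat_lit 0x16040059c1)) (.leaf (nat_lit 0x16060059c1))) (.node 1 (.leaf (nat_lit 0x16070059c1)) (.leaf (nat_lit 0x16080059d1)))))) (.node 8 (.node 4 (.node 2 (.node 1 (.leaf (nat_lit 0x200300a641)) (.leaf (nat_lit 0xb04005a02))) (.node 1 (.leaf (nat_lit 0xb08005a02)) (.leaf (nat_lit 0xb07005a12)))) (.node 2 (.node 1 (.leaf (nat_lit 0xb03005a22)) (.leaf (nat_lit 0xb08005a32))) (.node 1 (.leaf (nat_lit 0xb07005a42)) (.leaf (nat_lit 0xb03005a52))))) (.node 4 (.node 2 (.node 1 (.leaf (nat_lit 0xb02005a62)) (.leaf (nat_lit 0xb04005a62))) (.node 1 (.leaf (nat_lit 0x1607005a71)) (.leaf (nat_lit 0x1603005a81)))) (.node 2 (.node 1 (.leaf (nat_lit 0x1602005a91)) (.leaf (nat_lit 0x1604005a91))) (.node 1 (.leaf (nat_lit 0x1601005aa1)) (.leaf (nat_lit 0x1604005aa1)))))))) (.node 32 (.node 16 (.node 8 (.node 4 (.node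 2 (.node 1 (.leaf (nat_lit 0x1605005ab1)) (.leaf (nat_lit 0xb03005ac2))) (.node 1 (.leaf (nat_lit 0xb02005ad2)) (.leaf (nat_lit 0xb04005ad2)))) (.node 2 (.node 1 (.leaf (nat_lit 0xb01005ae2)) (.leaf (nat_lit 0xb04005ae2))) (.node 1 (.leaf (nat_lit 0xb05005af2)) (.leaf (nat_lit 0x1602005b01))))) (.node 4 (.node 2 (.node 1 (.leaf (nat_lit 0x1604005b01)) (.leaf (nat_lit 0x1601005b11))) (.node 1 (.leaf (nat_lit 0x1604005b11)) (.leaf (nat_lit 0x1605005b21)))) (.node 2 (.node 1 (.leaf (nat_lit 0x1600005b31)) (.leaf (nat_lit 0x1604005b31))) (.node 1 (.leaf (nat_lit 0x1603005b41)) (.leaf (nat_lit 0x1605005b41)))))) (.node 8 (.node 4 (.node 2 (.node 1 (.leaf (nat_lit 0x1606005b51)) (.leaf (nat_lit 0x1604005b61))) (.node 1 (.leaf (nat_lit 0x1605005b71)) (.leaf (nat_lit 0x1604005b81)))) (.node 2 (.node 1 (.leaf (nat_lit 0x1603005b91)) (.leaf (nat_lit 0x1605005b91))) (.node 1 (.leaf (nat_lit 0x1606005ba1))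 (.leaf (nat_lit 0x1604005bb1))))) (.node 4 (.node 2 (.node 1 (.leaf (nat_lit 0x1603005bc1)) (.leaf (nat_lit 0x1605005bc1))) (.node 1 (.leaf (nat_lit 0x1605005bd1)) (.leaf (nat_lit 0x1607005bd1)))) (.node 2 (.node 1 (.leaf (nat_lit 0x1606005be1)) (.leaf (nat_lit 0x1c01006451))) (.node 1 (.leaf (nat_lit 0xb01005c02)) (.leaf (nat_lit 0xb04005c02))))))) (.node 16 (.node 8 (.node 4 (.node 2 (.node 1 (.leaf (nat_lit 0xb05005c12)) (.leaf (nat_lit 0xb00005c22))) (.node 1 (.leaf (nat_lit 0xb04005c22)) (.leaf (nat_lit 0xb03005c32)))) (.node 2 (.node 1 (.leaf (nat_lit 0xb05005c32)) (.leaf (nat_lit 0xb06005c42))) (.node 1 (.leaf (nat_lit 0x1600005c51)) (.leaf (nat_lit 0x1604005c51))))) (.node 4 (.node 2 (.node 1 (.leaf (nat_lit 0x1603005c61)) (.leaf (nat_lit 0x1605005c61))) (.node 1 (.leaf (nat_lit 0x1606005c71)) (.leaf (nat_lit 0x1604005c81)))) (.node 2 (.node 1 (.leaf (nat_lit 0x1603005c91)) (.leaf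 (nat_lit 0x1605005c91))) (.node 1 (.leaf (nat_lit 0x1605005ca1)) (.leaf (nat_lit 0x1607005ca1)))))) (.node 8 (.node 4 (.node 2 (.node 1 (.leaf (nat_lit 0x1606005cb1)) (.leaf (nat_lit 0x1c01006591))) (.node 1 (.leaf (nat_lit 0x1604005cd1)) (.leaf (nat_lit 0x1603005ce1)))) (.node 2 (.node 1 (.leaf (nat_lit 0x1605005ce1)) (.leaf (nat_lit 0x1605005cf1))) (.node 1 (.leaf (nat_lit 0x1607005cf1)) (.leaf (nat_lit 0x1606005d01))))) (.node 4 (.node 2 (.node 1 (.leaf (nat_lit 0x1e08005d81)) (.leaf (nat_lit 0x1603005d21))) (.node 1 (.leaf (nat_lit 0x1605005d21)) (.leaf (nat_lit 0x1602005d31)))) (.node 2 (.node 1 (.leaf (nat_lit 0x1605005d31)) (.leaf (nat_lit 0x1607005d31))) (.node 1 (.leaf (nat_lit 0x1606005d41)) (.leaf (nat_lit 0x1604005d51))))))))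

noncomputable def oT16 : Tree :=
  .node 64 (.node 32 (.node 16 (.node 8 (.node 4 (.node 2 (.node 1 (.leaf (nat_lit 0x1606005d51)) (.leaf (nat_lit 0x1607005d51))) (.node 1 (.leaf (nat_lit 0x1608005d61)) (.leaf (nat_lit 0x1e04005ea1)))) (.node 2 (.node 1 (.leaf (nat_lit 0x1603005d91)) (.leaf (nat_lit 0x1605005d91))) (.node 1 (.leaf (nat_lit 0x1602005da1)) (.leaf (nat_lit 0x1605005da1))))) (.node 4 (.node 2 (.node 1 (.leaf (nat_lit 0x1607005da1)) (.leaf (nat_lit 0x1606005db1))) (.node 1 (.leaf (nat_lit 0x1604005dc1)) (.leaf (nat_lit 0x1606005dc1)))) (.node 2 (.node 1 (.leaf (nat_lit 0x1607005dc1)) (.leaf (nat_lit 0x1608005dd1))) (.node 1 (.leaf (nat_lit 0x1e0300aec1)) (.leaf (nat_lit 0x1602005e01)))))) (.node 8 (.node 4 (.node 2 (.node 1 (.leaf (nat_lit 0x1605005e01)) (.leaf (nat_lit 0x1607005e01))) (.node 1 (.leaf (nat_lit 0x1606005e11)) (.leaf (nat_lit 0x1605005e21)))) (.node 2 (.node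 1 (.leaf (nat_lit 0x1607005e21)) (.leaf (nat_lit 0x1604005e31))) (.node 1 (.leaf (nat_lit 0x1606005e31)) (.leaf (nat_lit 0x1607005e31))))) (.node 4 (.node 2 (.node 1 (.leaf (nat_lit 0x1608005e41)) (.leaf (nat_lit 0x1e0300af91))) (.node 1 (.leaf (nat_lit 0x1606005e61)) (.leaf (nat_lit 0x1607005e61)))) (.node 2 (.node 1 (.leaf (nat_lit 0x1c0700b011)) (.leaf (nat_lit 0x1607005e71))) (.node 1 (.leaf (nat_lit 0x1608005e81)) (.leaf (nat_lit 0xb04005eb2))))))) (.node 16 (.node 8 (.node 4 (.node 2 (.node 1 (.leaf (nat_lit 0xb03005ec2)) (.leaf (nat_lit 0xb05005ec2))) (.node 1 (.leaf (nat_lit 0xb05005ed2)) (.leaf (nat_lit 0xb07005ed2)))) (.node 2 (.node 1 (.leaf (nat_lit 0xb06005ee2)) (.leaf (nat_lit 0x1c01006851))) (.node 1 (.leaf (nat_lit 0x1603005f01)) (.leaf (nat_lit 0x1605005f01))))) (.node 4 (.node 2 (.node 1 (.leaf (nat_lit 0x1602005f11)) (.leaf (nat_lit 0x1605005f11))) (.node 1 (.leaf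 (nat_lit 0x1607005f11)) (.leaf (nat_lit 0x1606005f21)))) (.node 2 (.node 1 (.leaf (nat_lit 0x1604005f31)) (.leaf (nat_lit 0x1606005f31))) (.node 1 (.leaf (nat_lit 0x1607005f31)) (.leaf (nat_lit 0x1608005f41)))))) (.node 8 (.node 4 (.node 2 (.node 1 (.leaf (nat_lit 0x1e05006011)) (.leaf (nat_lit 0x1602005f71))) (.node 1 (.leaf (nat_lit 0x1605005f71)) (.leaf (nat_lit 0x1607005f71)))) (.node 2 (.node 1 (.leaf (nat_lit 0x1606005f81)) (.leaf (nat_lit 0x1605005f91))) (.node 1 (.leaf (nat_lit 0x1607005f91)) (.leaf (nat_lit 0x1604005fa1))))) (.node 4 (.node 2 (.node 1 (.leaf (nat_lit 0x1606005fa1)) (.leaf (nat_lit 0x1607005fa1))) (.node 1 (.leaf (nat_lit 0x1608005fb1)) (.leaf (nat_lit 0x1e04006091)))) (.node 2 (.node 1 (.leaf (nat_lit 0x1606005fd1)) (.leaf (nat_lit 0x1607005fd1))) (.node 1 (.leaf (nat_lit 0x1c0400b301)) (.leaf (nat_lit 0x1607005fe1)))))))) (.node 32 (.node 16 (.node 8 (.node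 4 (.node 2 (.node 1 (.leaf (nat_lit 0x1608005ff1)) (.leaf (nat_lit 0x1604006021))) (.node 1 (.leaf (nat_lit 0x1606006021)) (.leaf (nat_lit 0x1607006021)))) (.node 2 (.node 1 (.leaf (nat_lit 0x1608006031)) (.leaf (nat_lit 0x1e0300b381))) (.node 1 (.leaf (nat_lit 0x1606006051)) (.leaf (nat_lit 0x1607006051))))) (.node 4 (.node 2 (.node 1 (.leaf (nat_lit 0x1c0700b401)) (.leaf (nat_lit 0x1607006061))) (.node 1 (.leaf (nat_lit 0x1608006071)) (.leaf (nat_lit 0x16050060a1)))) (.node 2 (.node 1 (.leaf (nat_lit 0x1a0700b441)) (.leaf (nat_lit 0x16070060a1))) (.node 1 (.leaf (nat_lit 0x16030060b1)) (.leaf (nat_lit 0x16080060b1)))))) (.node 8 (.node 4 (.node 2 (.node 1 (.leaf (nat_lit 0x1a0800b491)) (.leaf (nat_lit 0x16080060d1))) (.node 1 (.leaf (nat_lit 0x180700b4b1)) (.leaf (nat_lit 0x16070060f1)))) (.node 2 (.node 1 (.leaf (nat_lit 0x180800b4c1)) (.leaf (nat_lit 0x1603006111))) (.node 1 (.leaf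 (nat_lit 0x1608006111)) (.leaf (nat_lit 0x1602006121))))) (.node 4 (.node 2 (.node 1 (.leaf (nat_lit 0x1608006121)) (.leaf (nat_lit 0x180400b4c1))) (.node 1 (.leaf (nat_lit 0xb04006162)) (.leaf (nat_lit 0xb08006162)))) (.node 2 (.node 1 (.leaf (nat_lit 0xb05006172)) (.leaf (nat_lit 0xb08006172))) (.node 1 (.leaf (nat_lit 0xb07006182)) (.leaf (nat_lit 0xb03006192))))))) (.node 16 (.node 8 (.node 4 (.node 2 (.node 1 (.leaf (nat_lit 0xb020061a2)) (.leaf (nat_lit 0xb040061a2))) (.node 1 (.leaf (nat_lit 0xb030061b2)) (.leaf (nat_lit 0xb080061b2)))) (.node 2 (.node 1 (.leaf (nat_lit 0xb070061d2)) (.leaf (nat_lit 0xb030061e2))) (.node 1 (.leaf (nat_lit 0xb020061f2)) (.leaf (nat_lit 0xb040061f2))))) (.node 4 (.node 2 (.node 1 (.leaf (nat_lit 0xb01006202)) (.leaf (nat_lit 0xb04006202))) (.node 1 (.leaf (nat_lit 0xb05006212)) (.leaf (nat_lit 0x1607006221)))) (.node 2 (.node 1 (.leaf (nat_lit 0x1608006221))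 (.leaf (nat_lit 0x1603006241))) (.node 1 (.leaf (nat_lit 0x1604006251)) (.leaf (nat_lit 0x1601006261)))))) (.node 8 (.node 4 (.node 2 (.node 1 (.leaf (nat_lit 0x1604006261)) (.leaf (nat_lit 0x1605006271))) (.node 1 (.leaf (nat_lit 0x1600006281)) (.leaf (nat_lit 0x1604006281)))) (.node 2 (.node 1 (.leaf (nat_lit 0x1603006291)) (.leaf (nat_lit 0x1605006291))) (.node 1 (.leaf (nat_lit 0x16060062a1)) (.leaf (nat_lit 0xb040062b2))))) (.node 4 (.node 2 (.node 1 (.leaf (nat_lit 0xb010062c2)) (.leaf (nat_lit 0xb040062c2))) (.node 1 (.leaf (nat_lit 0xb050062d2)) (.leaf (nat_lit 0xb000062e2)))) (.node 2 (.node 1 (.leaf (nat_lit 0xb040062e2)) (.leaf (nat_lit 0xb030062f2))) (.node 1 (.leaf (nat_lit 0xb050062f2)) (.leaf (nat_lit 0xb06006302))))))))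

noncomputable def oT17 : Tree :=
  .node 64 (.node 32 (.node 16 (.node 8 (.node 4 (.node 2 (.node 1 (.leaf (nat_lit 0x1605006311)) (.leaf (nat_lit 0x1604006321))) (.node 1 (.leaf (nat_lit 0x1603006331)) (.leaf (nat_lit 0x1605006331)))) (.node 2 (.node 1 (.leaf (nat_lit 0x1606006341)) (.leaf (nat_lit 0x1604006351))) (.node 1 (.leaf (nat_lit 0x1603006361)) (.leaf (nat_lit 0x1605006361))))) (.node 4 (.node 2 (.node 1 (.leaf (nat_lit 0x1605006371)) (.leaf (nat_lit 0x1607006371))) (.node 1 (.leaf (nat_lit 0x1606006381)) (.leaf (nat_lit 0x1a0200b911)))) (.node 2 (.node 1 (.leaf (nat_lit 0x16060063a1)) (.leaf (nat_lit 0x16030063b1))) (.node 1 (.leaf (nat_lit 0x16050063b1)) (.leaf (nat_lit 0x16050063c1)))))) (.node 8 (.node 4 (.node 2 (.node 1 (.leaf (nat_lit 0x16060063d1)) (.leaf (nat_lit 0x1c08006451))) (.node 1 (.leaf (nat_lit 0x16030063f1)) (.leaf (nat_lit 0x16050063f1)))) (.node 2 (.node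 1 (.leaf (nat_lit 0x1602006401)) (.leaf (nat_lit 0x1605006401))) (.node 1 (.leaf (nat_lit 0x1607006401)) (.leaf (nat_lit 0x1606006411))))) (.node 4 (.node 2 (.node 1 (.leaf (nat_lit 0x1604006421)) (.leaf (nat_lit 0x1606006421))) (.node 1 (.leaf (nat_lit 0x1607006421)) (.leaf (nat_lit 0x1608006431)))) (.node 2 (.node 1 (.leaf (nat_lit 0x1a0300ba61)) (.leaf (nat_lit 0xb00006462))) (.node 1 (.leaf (nat_lit 0xb04006462)) (.leaf (nat_lit 0xb03006472))))))) (.node 16 (.node 8 (.node 4 (.node 2 (.node 1 (.leaf (nat_lit 0xb05006472)) (.leaf (nat_lit 0xb06006482))) (.node 1 (.leaf (nat_lit 0xb04006492)) (.leaf (nat_lit 0xb030064a2)))) (.node 2 (.node 1 (.leaf (nat_lit 0xb050064a2)) (.leaf (nat_lit 0xb050064b2))) (.node 1 (.leaf (nat_lit 0xb070064b2)) (.leaf (nat_lit 0xb060064c2))))) (.node 4 (.node 2 (.node 1 (.leaf (nat_lit 0x1a0200bba1)) (.leaf (nat_lit 0x16040064e1))) (.node 1 (.leaf (nat_lit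 0x16030064f1)) (.leaf (nat_lit 0x16050064f1)))) (.node 2 (.node 1 (.leaf (nat_lit 0x1605006501)) (.leaf (nat_lit 0x1607006501))) (.node 1 (.leaf (nat_lit 0x1606006511)) (.leaf (nat_lit 0x1c08006591)))))) (.node 8 (.node 4 (.node 2 (.node 1 (.leaf (nat_lit 0x1603006531)) (.leaf (nat_lit 0x1605006531))) (.node 1 (.leaf (nat_lit 0x1602006541)) (.leaf (nat_lit 0x1605006541)))) (.node 2 (.node 1 (.leaf (nat_lit 0x1607006541)) (.leaf (nat_lit 0x1606006551))) (.node 1 (.leaf (nat_lit 0x1604006561)) (.leaf (nat_lit 0x1606006561))))) (.node 4 (.node 2 (.node 1 (.leaf (nat_lit 0x1607006561)) (.leaf (nat_lit 0x1608006571))) (.node 1 (.leaf (nat_lit 0x1a0300bd11)) (.leaf (nat_lit 0x16030065a1)))) (.node 2 (.node 1 (.leaf (nat_lit 0x16050065a1)) (.leaf (nat_lit 0x16020065b1))) (.node 1 (.leaf (nat_lit 0x16050065b1)) (.leaf (nat_lit 0x16070065b1)))))))) (.node 32 (.node 16 (.node 8 (.node 4 (.node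 2 (.node 1 (.leaf (nat_lit 0x16060065c1)) (.leaf (nat_lit 0x16040065d1))) (.node 1 (.leaf (nat_lit 0x16060065d1)) (.leaf (nat_lit 0x16070065d1)))) (.node 2 (.node 1 (.leaf (nat_lit 0x16080065e1)) (.leaf (nat_lit 0x1c080066b1))) (.node 1 (.leaf (nat_lit 0x1602006611)) (.leaf (nat_lit 0x1605006611))))) (.node 4 (.node 2 (.node 1 (.leaf (nat_lit 0x1606006621)) (.leaf (nat_lit 0x1605006631))) (.node 1 (.leaf (nat_lit 0x1607006631)) (.leaf (nat_lit 0x1604006641)))) (.node 2 (.node 1 (.leaf (nat_lit 0x1606006641)) (.leaf (nat_lit 0x1607006641))) (.node 1 (.leaf (nat_lit 0x1c0300bec1)) (.leaf (nat_lit 0x1606006671)))))) (.node 8 (.node 4 (.node 2 (.node 1 (.leaf (nat_lit 0x1607006671)) (.leaf (nat_lit 0x1a0700bf21))) (.node 1 (.leaf (nat_lit 0x1607006681)) (.leaf (nat_lit 0x1608006691)))) (.node 2 (.node 1 (.leaf (nat_lit 0x16020066c1)) (.leaf (nat_lit 0x16050066c1))) (.node 1 (.leaf (nat_lit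 0x16070066c1)) (.leaf (nat_lit 0x16060066d1))))) (.node 4 (.node 2 (.node 1 (.leaf (nat_lit 0x16050066e1)) (.leaf (nat_lit 0x16070066e1))) (.node 1 (.leaf (nat_lit 0x16040066f1)) (.leaf (nat_lit 0x16060066f1)))) (.node 2 (.node 1 (.leaf (nat_lit 0x16070066f1)) (.leaf (nat_lit 0x1e080067c1))) (.node 1 (.leaf (nat_lit 0x1606006721)) (.leaf (nat_lit 0x1607006721))))))) (.node 16 (.node 8 (.node 4 (.node 2 (.node 1 (.leaf (nat_lit 0x1c080067e1)) (.leaf (nat_lit 0x1607006731))) (.node 1 (.leaf (nat_lit 0x1601006761)) (.leaf (nat_lit 0x1605006761)))) (.node 2 (.node 1 (.leaf (nat_lit 0x1604006771)) (.leaf (nat_lit 0x1606006771))) (.node 1 (.leaf (nat_lit 0x1e0400be51)) (.leaf (nat_lit 0x1604006791))))) (.node 4 (.node 2 (.node 1 (.leaf (nat_lit 0x1606006791)) (.leaf (nat_lit 0x16060067a1))) (.node 1 (.leaf (nat_lit 0x1c0400c0e1)) (.leaf (nat_lit 0x16050067d1)))) (.node 2 (.node 1 (.leaf (nat_lit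 0x1a0300bef1)) (.leaf (nat_lit 0xb030067f2))) (.node 1 (.leaf (nat_lit 0xb050067f2)) (.leaf (nat_lit 0xb02006802)))))) (.node 8 (.node 4 (.node 2 (.node 1 (.leaf (nat_lit 0xb05006802)) (.leaf (nat_lit 0xb07006802))) (.node 1 (.leaf (nat_lit 0xb06006812)) (.leaf (nat_lit 0xb04006822)))) (.node 2 (.node 1 (.leaf (nat_lit 0xb06006822)) (.leaf (nat_lit 0xb07006822))) (.node 1 (.leaf (nat_lit 0xb08006832)) (.leaf (nat_lit 0x1a0300c1b1))))) (.node 4 (.node 2 (.node 1 (.leaf (nat_lit 0x1602006861)) (.leaf (nat_lit 0x1605006861))) (.node 1 (.leaf (nat_lit 0x1606006871)) (.leaf (nat_lit 0x1605006881)))) (.node 2 (.node 1 (.leaf (nat_lit 0x1607006881)) (.leaf (nat_lit 0x1604006891))) (.node 1 (.leaf (nat_lit 0x1606006891)) (.leaf (nat_lit 0x1607006891))))))))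

noncomputable def oT18 : Tree :=
  .node 64 (.node 32 (.node 16 (.node 8 (.node 4 (.node 2 (.node 1 (.leaf (nat_lit 0x1c0300c281)) (.leaf (nat_lit 0x16060068c1))) (.node 1 (.leaf (nat_lit 0x16070068c1)) (.leaf (nat_lit 0x1a0700c2e1)))) (.node 2 (.node 1 (.leaf (nat_lit 0x16070068d1)) (.leaf (nat_lit 0x16080068e1))) (.node 1 (.leaf (nat_lit 0x1605006911)) (.leaf (nat_lit 0x1606006921))))) (.node 4 (.node 2 (.node 1 (.leaf (nat_lit 0x1e0300c311)) (.leaf (nat_lit 0x1606006941))) (.node 1 (.leaf (nat_lit 0x1607006941)) (.leaf (nat_lit 0x1603006951)))) (.node 2 (.node 1 (.leaf (nat_lit 0x1c0700c361)) (.leaf (nat_lit 0x1607006961))) (.node 1 (.leaf (nat_lit 0x1a0500c2e1)) (.leaf (nat_lit 0x16080069a1)))))) (.node 8 (.node 4 (.node 2 (.node 1 (.leaf (nat_lit 0xb020069d2)) (.leaf (nat_lit 0xb050069d2))) (.node 1 (.leaf (nat_lit 0xb060069e2)) (.leaf (nat_lit 0xb050069f2)))) (.node 2 (.node 1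 (.leaf (nat_lit 0xb070069f2)) (.leaf (nat_lit 0xb04006a02))) (.node 1 (.leaf (nat_lit 0xb06006a02)) (.leaf (nat_lit 0xb07006a02))))) (.node 4 (.node 2 (.node 1 (.leaf (nat_lit 0xb06006a32)) (.leaf (nat_lit 0xb07006a32))) (.node 1 (.leaf (nat_lit 0xb07006a42)) (.leaf (nat_lit 0xb08006a52)))) (.node 2 (.node 1 (.leaf (nat_lit 0x1605006a71)) (.leaf (nat_lit 0x1604006a81))) (.node 1 (.leaf (nat_lit 0x1604006a91)) (.leaf (nat_lit 0x1607006a91))))))) (.node 16 (.node 8 (.node 4 (.node 2 (.node 1 (.leaf (nat_lit 0x1603006aa1)) (.leaf (nat_lit 0x1607006ab1))) (.node 1 (.leaf (nat_lit 0x1603006ad1)) (.leaf (nat_lit 0x1608006ad1)))) (.node 2 (.node 1 (.leaf (nat_lit 0x1604006af1)) (.leaf (nat_lit 0xb04006b02))) (.node 1 (.leaf (nat_lit 0xb03006b12)) (.leaf (nat_lit 0xb05006b12))))) (.node 4 (.node 2 (.node 1 (.leaf (nat_lit 0xb08006b12)) (.leaf (nat_lit 0xb08006b32))) (.node 1 (.leaf (nat_lit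 0xb07006b42)) (.leaf (nat_lit 0xb03006b52)))) (.node 2 (.node 1 (.leaf (nat_lit 0xb02006b62)) (.leaf (nat_lit 0xb04006b62))) (.node 1 (.leaf (nat_lit 0xb01006b72)) (.leaf (nat_lit 0xb04006b72)))))) (.node 8 (.node 4 (.node 2 (.node 1 (.leaf (nat_lit 0xb05006b82)) (.leaf (nat_lit 0xb03006b92))) (.node 1 (.leaf (nat_lit 0xb07006ba2)) (.leaf (nat_lit 0xb08006ba2)))) (.node 2 (.node 1 (.leaf (nat_lit 0xb03006bc2)) (.leaf (nat_lit 0xb04006bd2))) (.node 1 (.leaf (nat_lit 0xb04006be2)) (.leaf (nat_lit 0xb05006bf2))))) (.node 4 (.node 2 (.node 1 (.leaf (nat_lit 0xb04006c02)) (.leaf (nat_lit 0xb03006c12))) (.node 1 (.leaf (nat_lit 0xb05006c12)) (.leaf (nat_lit 0xb06006c22)))) (.node 2 (.node 1 (.leaf (nat_lit 0x1602006c31)) (.leaf (nat_lit 0x1607006c31))) (.node 1 (.leaf (nat_lit 0x1604006c61)) (.leaf (nat_lit 0x1605006c71)))))))) (.node 32 (.node 16 (.node 8 (.node 4 (.node 2 (.node 1 (.leaf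 (nat_lit 0x1603006c81)) (.leaf (nat_lit 0x1605006c81))) (.node 1 (.leaf (nat_lit 0x1606006c91)) (.leaf (nat_lit 0x1603006ca1)))) (.node 2 (.node 1 (.leaf (nat_lit 0x1605006ca1)) (.leaf (nat_lit 0x1605006cb1))) (.node 1 (.leaf (nat_lit 0x1607006cb1)) (.leaf (nat_lit 0x1606006cc1))))) (.node 4 (.node 2 (.node 1 (.leaf (nat_lit 0x180200c791)) (.leaf (nat_lit 0xb05006ce2))) (.node 1 (.leaf (nat_lit 0xb03006cf2)) (.leaf (nat_lit 0xb05006cf2)))) (.node 2 (.node 1 (.leaf (nat_lit 0xb06006d02)) (.leaf (nat_lit 0xb03006d12))) (.node 1 (.leaf (nat_lit 0xb05006d12)) (.leaf (nat_lit 0xb05006d22)))))) (.node 8 (.node 4 (.node 2 (.node 1 (.leaf (nat_lit 0xb07006d22)) (.leaf (nat_lit 0xb06006d32))) (.node 1 (.leaf (nat_lit 0x180200c851)) (.leaf (nat_lit 0x1606006d51)))) (.node 2 (.node 1 (.leaf (nat_lit 0x1605006d61)) (.leaf (nat_lit 0x1606006d71))) (.node 1 (.leaf (nat_lit 0x1a0600c7d1)) (.leaf (nat_lit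 0x1602006d91))))) (.node 4 (.node 2 (.node 1 (.leaf (nat_lit 0x1605006d91)) (.leaf (nat_lit 0x1607006d91))) (.node 1 (.leaf (nat_lit 0x1606006da1)) (.leaf (nat_lit 0x1604006db1)))) (.node 2 (.node 1 (.leaf (nat_lit 0x1606006db1)) (.leaf (nat_lit 0x1607006db1))) (.node 1 (.leaf (nat_lit 0x180300c911)) (.leaf (nat_lit 0x1c07006e21))))))) (.node 16 (.node 8 (.node 4 (.node 2 (.node 1 (.leaf (nat_lit 0x1604006e01)) (.leaf (nat_lit 0x1606006e01))) (.node 1 (.leaf (nat_lit 0x1a0500c891)) (.leaf (nat_lit 0x1605006e31)))) (.node 2 (.node 1 (.leaf (nat_lit 0x1604006e41)) (.leaf (nat_lit 0x1606006e41))) (.node 1 (.leaf (nat_lit 0x1607006e41)) (.leaf (nat_lit 0x1a0500c8e1))))) (.node 4 (.node 2 (.node 1 (.leaf (nat_lit 0x1606006e71)) (.leaf (nat_lit 0x1607006e71))) (.node 1 (.leaf (nat_lit 0x180700c9f1)) (.leaf (nat_lit 0x1607006e81)))) (.node 2 (.node 1 (.leaf (nat_lit 0xb04006eb2)) (.leaf (nat_lit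 0xb03006ec2))) (.node 1 (.leaf (nat_lit 0xb05006ec2)) (.leaf (nat_lit 0xb05006ed2)))))) (.node 8 (.node 4 (.node 2 (.node 1 (.leaf (nat_lit 0xb07006ed2)) (.leaf (nat_lit 0xb06006ee2))) (.node 1 (.leaf (nat_lit 0x1a0300c7d1)) (.leaf (nat_lit 0xb03006f02)))) (.node 2 (.node 1 (.leaf (nat_lit 0xb05006f02)) (.leaf (nat_lit 0xb05006f12))) (.node 1 (.leaf (nat_lit 0xb06006f22)) (.leaf (nat_lit 0xb04006f32))))) (.node 4 (.node 2 (.node 1 (.leaf (nat_lit 0xb06006f32)) (.leaf (nat_lit 0xb07006f32))) (.node 1 (.leaf (nat_lit 0x180300c901)) (.leaf (nat_lit 0x1603006f71)))) (.node 2 (.node 1 (.leaf (nat_lit 0x1605006f71)) (.leaf (nat_lit 0x1605006f81))) (.node 1 (.leaf (nat_lit 0x1606006f91)) (.leaf (nat_lit 0x1604006fa1))))))))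

noncomputable def oT19 : Tree :=
  .node 64 (.node 32 (.node 16 (.node 8 (.node 4 (.node 2 (.node 1 (.leaf (nat_lit 0x1606006fa1)) (.leaf (nat_lit 0x1607006fa1))) (.node 1 (.leaf (nat_lit 0x1a0600ca71)) (.leaf (nat_lit 0x1605006fe1)))) (.node 2 (.node 1 (.leaf (nat_lit 0x1606006ff1)) (.leaf (nat_lit 0x1604007001))) (.node 1 (.leaf (nat_lit 0x1606007001)) (.leaf (nat_lit 0x1a0300cba1))))) (.node 4 (.node 2 (.node 1 (.leaf (nat_lit 0x1606007021)) (.leaf (nat_lit 0x1607007021))) (.node 1 (.leaf (nat_lit 0x180700c8f1)) (.leaf (nat_lit 0x1607007031)))) (.node 2 (.node 1 (.leaf (nat_lit 0x1605007061)) (.leaf (nat_lit 0x1606007071))) (.node 1 (.leaf (nat_lit 0x1604007081)) (.leaf (nat_lit 0x1606007081)))))) (.node 8 (.node 4 (.node 2 (.node 1 (.leaf (nat_lit 0x1a0300cbf1)) (.leaf (nat_lit 0x16060070a1))) (.node 1 (.leaf (nat_lit 0x16070070a1)) (.leaf (nat_lit 0x1a0500cb41)))) (.node 2 (.node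 1 (.leaf (nat_lit 0x16070070b1)) (.leaf (nat_lit 0x16040070e1))) (.node 1 (.leaf (nat_lit 0x16060070e1)) (.leaf (nat_lit 0x1c0800cbd1))))) (.node 4 (.node 2 (.node 1 (.leaf (nat_lit 0x1606007101)) (.leaf (nat_lit 0x1a0700c941))) (.node 1 (.leaf (nat_lit 0x1605007131)) (.leaf (nat_lit 0x180700c9b1)))) (.node 2 (.node 1 (.leaf (nat_lit 0x1607007131)) (.leaf (nat_lit 0x180500c8f1))) (.node 1 (.leaf (nat_lit 0x1601007171)) (.leaf (nat_lit 0x1605007171))))))) (.node 16 (.node 8 (.node 4 (.node 2 (.node 1 (.leaf (nat_lit 0x1607007171)) (.leaf (nat_lit 0x1604007181))) (.node 1 (.leaf (nat_lit 0x1606007181)) (.leaf (nat_lit 0x1607007181)))) (.node 2 (.node 1 (.leaf (nat_lit 0x1c0400cbd1)) (.leaf (nat_lit 0x16040071b1))) (.node 1 (.leaf (nat_lit 0x16060071b1)) (.leaf (nat_lit 0x16070071b1))))) (.node 4 (.node 2 (.node 1 (.leaf (nat_lit 0x16030071c1)) (.leaf (nat_lit 0x16060071d1))) (.node 1 (.leaf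 (nat_lit 0x16070071d1)) (.leaf (nat_lit 0x1a0400cd81)))) (.node 2 (.node 1 (.leaf (nat_lit 0x16070071e1)) (.leaf (nat_lit 0x1605007211))) (.node 1 (.leaf (nat_lit 0x1a0500cdc1)) (.leaf (nat_lit 0x1607007211)))))) (.node 8 (.node 4 (.node 2 (.node 1 (.leaf (nat_lit 0x1603007221)) (.leaf (nat_lit 0x1a0400cde1))) (.node 1 (.leaf (nat_lit 0x1605007251)) (.leaf (nat_lit 0x1604007261)))) (.node 2 (.node 1 (.leaf (nat_lit 0x1606007261)) (.leaf (nat_lit 0x1606007271))) (.node 1 (.leaf (nat_lit 0x1c0800ccf1)) (.leaf (nat_lit 0x16030072a1))))) (.node 4 (.node 2 (.node 1 (.leaf (nat_lit 0x16060072a1)) (.leaf (nat_lit 0x1a0400cea1))) (.node 1 (.leaf (nat_lit 0x16050072c1)) (.leaf (nat_lit 0x1a0300cc81)))) (.node 2 (.node 1 (.leaf (nat_lit 0x180300c9d1)) (.leaf (nat_lit 0xb05007302))) (.node 1 (.leaf (nat_lit 0xb06007312)) (.leaf (nat_lit 0xb04007322)))))))) (.node 32 (.node 16 (.node 8 (.node 4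 (.node 2 (.node 1 (.leaf (nat_lit 0xb06007322)) (.leaf (nat_lit 0x1a0300cf01))) (.node 1 (.leaf (nat_lit 0xb06007342)) (.leaf (nat_lit 0xb07007342)))) (.node 2 (.node 1 (.leaf (nat_lit 0x180700c761)) (.leaf (nat_lit 0xb07007352))) (.node 1 (.leaf (nat_lit 0x1604007381)) (.leaf (nat_lit 0x1606007381))))) (.node 4 (.node 2 (.node 1 (.leaf (nat_lit 0x1c0700cb81)) (.leaf (nat_lit 0x16060073a1))) (.node 1 (.leaf (nat_lit 0x1a0700c891)) (.leaf (nat_lit 0x180700c771)))) (.node 2 (.node 1 (.leaf (nat_lit 0x16070073d1)) (.leaf (nat_lit 0x16030073e1))) (.node 1 (.leaf (nat_lit 0x180600c761)) (.leaf (nat_lit 0x1c0700b981)))))) (.node 8 (.node 4 (.node 2 (.node 1 (.leaf (nat_lit 0xb04007452)) (.leaf (nat_lit 0xb06007452))) (.node 1 (.leaf (nat_lit 0xb06007472)) (.leaf (nat_lit 0xb05007492)))) (.node 2 (.node 1 (.leaf (nat_lit 0xb07007492)) (.leaf (nat_lit 0xb030074a2))) (.node 1 (.leaf (nat_lit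 0x16020074d1)) (.leaf (nat_lit 0xb060074e2))))) (.node 4 (.node 2 (.node 1 (.leaf (nat_lit 0xb05007502)) (.leaf (nat_lit 0xb07007512))) (.node 1 (.leaf (nat_lit 0xb03007522)) (.leaf (nat_lit 0xb02007532)))) (.node 2 (.node 1 (.leaf (nat_lit 0xc05007552)) (.leaf (nat_lit 0xc08007552))) (.node 1 (.leaf (nat_lit 0xc07007562)) (.leaf (nat_lit 0x1703007571))))))) (.node 16 (.node 8 (.node 4 (.node 2 (.node 1 (.leaf (nat_lit 0xc07007582)) (.leaf (nat_lit 0xc03007592))) (.node 1 (.leaf (nat_lit 0x17020075a1)) (.leaf (nat_lit 0x17040075a1)))) (.node 2 (.node 1 (.leaf (nat_lit 0xc020075b2)) (.leaf (nat_lit 0xc040075b2))) (.node 1 (.leaf (nat_lit 0x17010075c1)) (.leaf (nat_lit 0x17040075c1))))) (.node 4 (.node 2 (.node 1 (.leaf (nat_lit 0x17050075d1)) (.leaf (nat_lit 0x17000075e1))) (.node 1 (.leaf (nat_lit 0x17040075e1)) (.leaf (nat_lit 0x17030075f1)))) (.node 2 (.node 1 (.leaf (nat_lit 0x17050075f1))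 (.leaf (nat_lit 0x1706007601))) (.node 1 (.leaf (nat_lit 0xc07007612)) (.leaf (nat_lit 0xc03007622)))))) (.node 8 (.node 4 (.node 2 (.node 1 (.leaf (nat_lit 0xc03007632)) (.leaf (nat_lit 0xc02007642))) (.node 1 (.leaf (nat_lit 0xc04007642)) (.leaf (nat_lit 0x1702007651)))) (.node 2 (.node 1 (.leaf (nat_lit 0x1704007651)) (.leaf (nat_lit 0x1701007661))) (.node 1 (.leaf (nat_lit 0x1704007661)) (.leaf (nat_lit 0x1705007671))))) (.node 4 (.node 2 (.node 1 (.leaf (nat_lit 0xc02007682)) (.leaf (nat_lit 0xc04007682))) (.node 1 (.leaf (nat_lit 0xc01007692)) (.leaf (nat_lit 0xc04007692)))) (.node 2 (.node 1 (.leaf (nat_lit 0xc050076a2)) (.leaf (nat_lit 0x17010076b1))) (.node 1 (.leaf (nat_lit 0x17040076b1)) (.leaf (nat_lit 0x17050076c1))))))))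

noncomputable def oT20 : Tree :=
  .node 64 (.node 32 (.node 16 (.node 8 (.node 4 (.node 2 (.node 1 (.leaf (nat_lit 0x17000076d1)) (.leaf (nat_lit 0x17040076d1))) (.node 1 (.leaf (nat_lit 0x17030076e1)) (.leaf (nat_lit 0x17050076e1)))) (.node 2 (.node 1 (.leaf (nat_lit 0x17060076f1)) (.leaf (nat_lit 0x1704007701))) (.node 1 (.leaf (nat_lit 0x1703007711)) (.leaf (nat_lit 0x1705007711))))) (.node 4 (.node 2 (.node 1 (.leaf (nat_lit 0x1706007721)) (.leaf (nat_lit 0x1704007731))) (.node 1 (.leaf (nat_lit 0x1703007741)) (.leaf (nat_lit 0x1705007741)))) (.node 2 (.node 1 (.leaf (nat_lit 0x1705007751)) (.leaf (nat_lit 0x1707007751))) (.node 1 (.leaf (nat_lit 0x1706007761)) (.leaf (nat_lit 0x1f0700d121)))))) (.node 8 (.node 4 (.node 2 (.node 1 (.leaf (nat_lit 0xc02007782)) (.leaf (nat_lit 0xc04007782))) (.node 1 (.leaf (nat_lit 0xc01007792)) (.leaf (nat_lit 0xc04007792)))) (.node 2 (.node 1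 (.leaf (nat_lit 0xc050077a2)) (.leaf (nat_lit 0xc000077b2))) (.node 1 (.leaf (nat_lit 0xc040077b2)) (.leaf (nat_lit 0xc030077c2))))) (.node 4 (.node 2 (.node 1 (.leaf (nat_lit 0xc050077c2)) (.leaf (nat_lit 0xc060077d2))) (.node 1 (.leaf (nat_lit 0x17010077e1)) (.leaf (nat_lit 0x17040077e1)))) (.node 2 (.node 1 (.leaf (nat_lit 0x17050077f1)) (.leaf (nat_lit 0x1700007801))) (.node 1 (.leaf (nat_lit 0x1704007801)) (.leaf (nat_lit 0x1703007811))))))) (.node 16 (.node 8 (.node 4 (.node 2 (.node 1 (.leaf (nat_lit 0x1705007811)) (.leaf (nat_lit 0x1706007821))) (.node 1 (.leaf (nat_lit 0x1704007831)) (.leaf (nat_lit 0x1703007841)))) (.node 2 (.node 1 (.leaf (nat_lit 0x1705007841)) (.leaf (nat_lit 0x1705007851))) (.node 1 (.leaf (nat_lit 0x1707007851)) (.leaf (nat_lit 0x1706007861))))) (.node 4 (.node 2 (.node 1 (.leaf (nat_lit 0x1f0300d351)) (.leaf (nat_lit 0x1700007881))) (.node 1 (.leaf (nat_lit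 0x1704007881)) (.leaf (nat_lit 0x1703007891)))) (.node 2 (.node 1 (.leaf (nat_lit 0x1705007891)) (.leaf (nat_lit 0x17060078a1))) (.node 1 (.leaf (nat_lit 0x17040078b1)) (.leaf (nat_lit 0x17030078c1)))))) (.node 8 (.node 4 (.node 2 (.node 1 (.leaf (nat_lit 0x17050078c1)) (.leaf (nat_lit 0x17050078d1))) (.node 1 (.leaf (nat_lit 0x17070078d1)) (.leaf (nat_lit 0x17060078e1)))) (.node 2 (.node 1 (.leaf (nat_lit 0x2108007961)) (.leaf (nat_lit 0x1703007901))) (.node 1 (.leaf (nat_lit 0x1705007901)) (.leaf (nat_lit 0x1702007911))))) (.node 4 (.node 2 (.node 1 (.leaf (nat_lit 0x1705007911)) (.leaf (nat_lit 0x1707007911))) (.node 1 (.leaf (nat_lit 0x1706007921)) (.leaf (nat_lit 0x1704007931)))) (.node 2 (.node 1 (.leaf (nat_lit 0x1706007931)) (.leaf (nat_lit 0x1707007931))) (.node 1 (.leaf (nat_lit 0x1708007941)) (.leaf (nat_lit 0x2102007961)))))))) (.node 32 (.node 16 (.node 8 (.node 4 (.node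 2 (.node 1 (.leaf (nat_lit 0x1700007971)) (.leaf (nat_lit 0x1704007971))) (.node 1 (.leaf (nat_lit 0x1703007981)) (.leaf (nat_lit 0x1705007981)))) (.node 2 (.node 1 (.leaf (nat_lit 0x1706007991)) (.leaf (nat_lit 0x17040079a1))) (.node 1 (.leaf (nat_lit 0x17030079b1)) (.leaf (nat_lit 0x17050079b1))))) (.node 4 (.node 2 (.node 1 (.leaf (nat_lit 0x17050079c1)) (.leaf (nat_lit 0x17070079c1))) (.node 1 (.leaf (nat_lit 0x17060079d1)) (.leaf (nat_lit 0x1f0200d991)))) (.node 2 (.node 1 (.leaf (nat_lit 0x17030079f1)) (.leaf (nat_lit 0x17050079f1))) (.node 1 (.leaf (nat_lit 0x1702007a01)) (.leaf (nat_lit 0x1705007a01)))))) (.node 8 (.node 4 (.node 2 (.node 1 (.leaf (nat_lit 0x1707007a01)) (.leaf (nat_lit 0x1706007a11))) (.node 1 (.leaf (nat_lit 0x1704007a21)) (.leaf (nat_lit 0x1706007a21)))) (.node 2 (.node 1 (.leaf (nat_lit 0x1707007a21)) (.leaf (nat_lit 0x1708007a31))) (.node 1 (.leaf (nat_lit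 0x1f0700d991)) (.leaf (nat_lit 0x1702007a61))))) (.node 4 (.node 2 (.node 1 (.leaf (nat_lit 0x1705007a61)) (.leaf (nat_lit 0x1707007a61))) (.node 1 (.leaf (nat_lit 0x1706007a71)) (.leaf (nat_lit 0x1705007a81)))) (.node 2 (.node 1 (.leaf (nat_lit 0x1707007a81)) (.leaf (nat_lit 0x1704007a91))) (.node 1 (.leaf (nat_lit 0x1706007a91)) (.leaf (nat_lit 0x1707007a91))))))) (.node 16 (.node 8 (.node 4 (.node 2 (.node 1 (.leaf (nat_lit 0x1708007aa1)) (.leaf (nat_lit 0x1f0300db01))) (.node 1 (.leaf (nat_lit 0x1706007ac1)) (.leaf (nat_lit 0x1707007ac1)))) (.node 2 (.node 1 (.leaf (nat_lit 0x1f0700db81)) (.leaf (nat_lit 0x1707007ad1))) (.node 1 (.leaf (nat_lit 0x1708007ae1)) (.leaf (nat_lit 0xc05007b12))))) (.node 4 (.node 2 (.node 1 (.leaf (nat_lit 0xc08007b12)) (.leaf (nat_lit 0xc07007b22))) (.node 1 (.leaf (nat_lit 0xc03007b32)) (.leaf (nat_lit 0xc02007b42)))) (.node 2 (.node 1 (.leaf (nat_lit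 0xc04007b42)) (.leaf (nat_lit 0xc07007b52))) (.node 1 (.leaf (nat_lit 0xc03007b62)) (.leaf (nat_lit 0xc02007b72)))))) (.node 8 (.node 4 (.node 2 (.node 1 (.leaf (nat_lit 0xc04007b72)) (.leaf (nat_lit 0xc01007b82))) (.node 1 (.leaf (nat_lit 0xc04007b82)) (.leaf (nat_lit 0xc05007b92)))) (.node 2 (.node 1 (.leaf (nat_lit 0x1703007ba1)) (.leaf (nat_lit 0x1702007bb1))) (.node 1 (.leaf (nat_lit 0x1704007bb1)) (.leaf (nat_lit 0x1701007bc1))))) (.node 4 (.node 2 (.node 1 (.leaf (nat_lit 0x1704007bc1)) (.leaf (nat_lit 0x1705007bd1))) (.node 1 (.leaf (nat_lit 0x1700007be1)) (.leaf (nat_lit 0x1704007be1)))) (.node 2 (.node 1 (.leaf (nat_lit 0x1703007bf1)) (.leaf (nat_lit 0x1705007bf1))) (.node 1 (.leaf (nat_lit 0x1706007c01)) (.leaf (nat_lit 0xc02007c12))))))))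

noncomputable def oT21 : Tree :=
  .node 64 (.node 32 (.node 16 (.node 8 (.node 4 (.node 2 (.node 1 (.leaf (nat_lit 0xc04007c12)) (.leaf (nat_lit 0xc01007c22))) (.node 1 (.leaf (nat_lit 0xc04007c22)) (.leaf (nat_lit 0xc05007c32)))) (.node 2 (.node 1 (.leaf (nat_lit 0xc00007c42)) (.leaf (nat_lit 0xc04007c42))) (.node 1 (.leaf (nat_lit 0xc03007c52)) (.leaf (nat_lit 0xc05007c52))))) (.node 4 (.node 2 (.node 1 (.leaf (nat_lit 0xc06007c62)) (.leaf (nat_lit 0x1704007c71))) (.node 1 (.leaf (nat_lit 0x1705007c81)) (.leaf (nat_lit 0x1704007c91)))) (.node 2 (.node 1 (.leaf (nat_lit 0x1703007ca1)) (.leaf (nat_lit 0x1705007ca1))) (.node 1 (.leaf (nat_lit 0x1706007cb1)) (.leaf (nat_lit 0x1704007cc1)))))) (.node 8 (.node 4 (.node 2 (.node 1 (.leaf (nat_lit 0x1703007cd1)) (.leaf (nat_lit 0x1705007cd1))) (.node 1 (.leaf (nat_lit 0x1705007ce1)) (.leaf (nat_lit 0x1707007ce1)))) (.node 2 (.node 1 (.leaf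 (nat_lit 0x1706007cf1)) (.leaf (nat_lit 0x1b010088b1))) (.node 1 (.leaf (nat_lit 0x1703007d11)) (.leaf (nat_lit 0x1705007d11))))) (.node 4 (.node 2 (.node 1 (.leaf (nat_lit 0x1706007d21)) (.leaf (nat_lit 0x1703007d31))) (.node 1 (.leaf (nat_lit 0x1705007d31)) (.leaf (nat_lit 0x1705007d41)))) (.node 2 (.node 1 (.leaf (nat_lit 0x1707007d41)) (.leaf (nat_lit 0x1706007d51))) (.node 1 (.leaf (nat_lit 0x1d08007dd1)) (.leaf (nat_lit 0x1703007d71))))))) (.node 16 (.node 8 (.node 4 (.node 2 (.node 1 (.leaf (nat_lit 0x1705007d71)) (.leaf (nat_lit 0x1702007d81))) (.node 1 (.leaf (nat_lit 0x1705007d81)) (.leaf (nat_lit 0x1707007d81)))) (.node 2 (.node 1 (.leaf (nat_lit 0x1706007d91)) (.leaf (nat_lit 0x1704007da1))) (.node 1 (.leaf (nat_lit 0x1706007da1)) (.leaf (nat_lit 0x1707007da1))))) (.node 4 (.node 2 (.node 1 (.leaf (nat_lit 0x1708007db1)) (.leaf (nat_lit 0x1d0100e141))) (.node 1 (.leaf (nat_lit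 0xc00007de2)) (.leaf (nat_lit 0xc04007de2)))) (.node 2 (.node 1 (.leaf (nat_lit 0xc03007df2)) (.leaf (nat_lit 0xc05007df2))) (.node 1 (.leaf (nat_lit 0xc06007e02)) (.leaf (nat_lit 0xc04007e12)))))) (.node 8 (.node 4 (.node 2 (.node 1 (.leaf (nat_lit 0xc03007e22)) (.leaf (nat_lit 0xc05007e22))) (.node 1 (.leaf (nat_lit 0xc05007e32)) (.leaf (nat_lit 0xc07007e32)))) (.node 2 (.node 1 (.leaf (nat_lit 0xc06007e42)) (.leaf (nat_lit 0x1b01008a81))) (.node 1 (.leaf (nat_lit 0x1704007e61)) (.leaf (nat_lit 0x1703007e71))))) (.node 4 (.node 2 (.node 1 (.leaf (nat_lit 0x1705007e71)) (.leaf (nat_lit 0x1705007e81))) (.node 1 (.leaf (nat_lit 0x1707007e81)) (.leaf (nat_lit 0x1706007e91)))) (.node 2 (.node 1 (.leaf (nat_lit 0x1d08007f11)) (.leaf (nat_lit 0x1703007eb1))) (.node 1 (.leaf (nat_lit 0x1705007eb1)) (.leaf (nat_lit 0x1702007ec1)))))))) (.node 32 (.node 16 (.node 8 (.node 4 (.node 2 (.node 1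 (.leaf (nat_lit 0x1705007ec1)) (.leaf (nat_lit 0x1707007ec1))) (.node 1 (.leaf (nat_lit 0x1706007ed1)) (.leaf (nat_lit 0x1704007ee1)))) (.node 2 (.node 1 (.leaf (nat_lit 0x1706007ee1)) (.leaf (nat_lit 0x1707007ee1))) (.node 1 (.leaf (nat_lit 0x1708007ef1)) (.leaf (nat_lit 0x1d0100e411))))) (.node 4 (.node 2 (.node 1 (.leaf (nat_lit 0x1703007f21)) (.leaf (nat_lit 0x1705007f21))) (.node 1 (.leaf (nat_lit 0x1702007f31)) (.leaf (nat_lit 0x1705007f31)))) (.node 2 (.node 1 (.leaf (nat_lit 0x1707007f31)) (.leaf (nat_lit 0x1706007f41))) (.node 1 (.leaf (nat_lit 0x1704007f51)) (.leaf (nat_lit 0x1706007f51)))))) (.node 8 (.node 4 (.node 2 (.node 1 (.leaf (nat_lit 0x1707007f51)) (.leaf (nat_lit 0x1708007f61))) (.node 1 (.leaf (nat_lit 0x1f040080e1)) (.leaf (nat_lit 0x1702007f91)))) (.node 2 (.node 1 (.leaf (nat_lit 0x1705007f91)) (.leaf (nat_lit 0x1707007f91))) (.node 1 (.leaf (nat_lit 0x1706007fa1))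 (.leaf (nat_lit 0x1705007fb1))))) (.node 4 (.node 2 (.node 1 (.leaf (nat_lit 0x1707007fb1)) (.leaf (nat_lit 0x1704007fc1))) (.node 1 (.leaf (nat_lit 0x1706007fc1)) (.leaf (nat_lit 0x1707007fc1)))) (.node 2 (.node 1 (.leaf (nat_lit 0x1708007fd1)) (.leaf (nat_lit 0x1d02008ce1))) (.node 1 (.leaf (nat_lit 0x1706007ff1)) (.leaf (nat_lit 0x1707007ff1))))))) (.node 16 (.node 8 (.node 4 (.node 2 (.node 1 (.leaf (nat_lit 0x1f0400e6a1)) (.leaf (nat_lit 0x1707008001))) (.node 1 (.leaf (nat_lit 0x1708008011)) (.leaf (nat_lit 0x1705008041)))) (.node 2 (.node 1 (.leaf (nat_lit 0x1706008051)) (.leaf (nat_lit 0x1705008061))) (.node 1 (.leaf (nat_lit 0x1704008071)) (.leaf (nat_lit 0x1706008071))))) (.node 4 (.node 2 (.node 1 (.leaf (nat_lit 0x1707008071)) (.leaf (nat_lit 0x1f0300e771))) (.node 1 (.leaf (nat_lit 0x17060080a1)) (.leaf (nat_lit 0x17070080a1)))) (.node 2 (.node 1 (.leaf (nat_lit 0x1d0700e7e1))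 (.leaf (nat_lit 0x17070080b1))) (.node 1 (.leaf (nat_lit 0x17080080c1)) (.leaf (nat_lit 0x17050080f1)))))) (.node 8 (.node 4 (.node 2 (.node 1 (.leaf (nat_lit 0x1704008101)) (.leaf (nat_lit 0x1706008101))) (.node 1 (.leaf (nat_lit 0x1707008101)) (.leaf (nat_lit 0x1f0300e841)))) (.node 2 (.node 1 (.leaf (nat_lit 0x1704008131)) (.leaf (nat_lit 0x1706008131))) (.node 1 (.leaf (nat_lit 0x1707008131)) (.leaf (nat_lit 0x1706008151))))) (.node 4 (.node 2 (.node 1 (.leaf (nat_lit 0x1707008151)) (.leaf (nat_lit 0x1d0700e901))) (.node 1 (.leaf (nat_lit 0x1707008161)) (.leaf (nat_lit 0x1708008171)))) (.node 2 (.node 1 (.leaf (nat_lit 0x17050081a1)) (.leaf (nat_lit 0x1d0700e941))) (.node 1 (.leaf (nat_lit 0x17070081a1)) (.leaf (nat_lit 0x17030081b1))))))))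

noncomputable def oT22 : Tree :=
  .node 64 (.node 32 (.node 16 (.node 8 (.node 4 (.node 2 (.node 1 (.leaf (nat_lit 0x17080081b1)) (.leaf (nat_lit 0x1b0800e991))) (.node 1 (.leaf (nat_lit 0x17080081d1)) (.leaf (nat_lit 0xc030081f2)))) (.node 2 (.node 1 (.leaf (nat_lit 0xc050081f2)) (.leaf (nat_lit 0xc02008202))) (.node 1 (.leaf (nat_lit 0xc05008202)) (.leaf (nat_lit 0xc07008202))))) (.node 4 (.node 2 (.node 1 (.leaf (nat_lit 0xc06008212)) (.leaf (nat_lit 0xc04008222))) (.node 1 (.leaf (nat_lit 0xc06008222)) (.leaf (nat_lit 0xc07008222)))) (.node 2 (.node 1 (.leaf (nat_lit 0xc08008232)) (.leaf (nat_lit 0x1d0100ea41))) (.node 1 (.leaf (nat_lit 0x1702008261)) (.leaf (nat_lit 0x1705008261)))))) (.node 8 (.node 4 (.node 2 (.node 1 (.leaf (nat_lit 0x1707008261)) (.leaf (nat_lit 0x1706008271))) (.node 1 (.leaf (nat_lit 0x1705008281)) (.leaf (nat_lit 0x1707008281)))) (.node 2 (.node 1 (.leaf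 (nat_lit 0x1704008291)) (.leaf (nat_lit 0x1706008291))) (.node 1 (.leaf (nat_lit 0x1707008291)) (.leaf (nat_lit 0x17080082a1))))) (.node 4 (.node 2 (.node 1 (.leaf (nat_lit 0x1d02009001)) (.leaf (nat_lit 0x17060082c1))) (.node 1 (.leaf (nat_lit 0x17070082c1)) (.leaf (nat_lit 0x1d050083e1)))) (.node 2 (.node 1 (.leaf (nat_lit 0x17070082d1)) (.leaf (nat_lit 0x17080082e1))) (.node 1 (.leaf (nat_lit 0x1705008311)) (.leaf (nat_lit 0x1707008311))))))) (.node 16 (.node 8 (.node 4 (.node 2 (.node 1 (.leaf (nat_lit 0x1704008321)) (.leaf (nat_lit 0x1706008321))) (.node 1 (.leaf (nat_lit 0x1707008321)) (.leaf (nat_lit 0x1708008331)))) (.node 2 (.node 1 (.leaf (nat_lit 0x1f0500eb01)) (.leaf (nat_lit 0x1704008351))) (.node 1 (.leaf (nat_lit 0x1706008351)) (.leaf (nat_lit 0x1707008351))))) (.node 4 (.node 2 (.node 1 (.leaf (nat_lit 0x1703008361)) (.leaf (nat_lit 0x1708008361))) (.node 1 (.leaf (nat_lit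 0x1706008371)) (.leaf (nat_lit 0x1707008371)))) (.node 2 (.node 1 (.leaf (nat_lit 0x1d0400ed41)) (.leaf (nat_lit 0x1707008381))) (.node 1 (.leaf (nat_lit 0x1708008391)) (.leaf (nat_lit 0x17050083c1)))))) (.node 8 (.node 4 (.node 2 (.node 1 (.leaf (nat_lit 0x1b030084c1)) (.leaf (nat_lit 0x17070083c1))) (.node 1 (.leaf (nat_lit 0x17030083d1)) (.leaf (nat_lit 0x17080083d1)))) (.node 2 (.node 1 (.leaf (nat_lit 0x1d0400edc1)) (.leaf (nat_lit 0x17080083f1))) (.node 1 (.leaf (nat_lit 0x1706008411)) (.leaf (nat_lit 0x1707008411))))) (.node 4 (.node 2 (.node 1 (.leaf (nat_lit 0x1d0700ee71)) (.leaf (nat_lit 0x1707008421))) (.node 1 (.leaf (nat_lit 0x1708008431)) (.leaf (nat_lit 0x1705008461)))) (.node 2 (.node 1 (.leaf (nat_lit 0x1b0700eeb1)) (.leaf (nat_lit 0x1707008461))) (.node 1 (.leaf (nat_lit 0x1703008471)) (.leaf (nat_lit 0x1708008471)))))))) (.node 32 (.node 16 (.node 8 (.node 4 (.node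 2 (.node 1 (.leaf (nat_lit 0x1b0800ef01)) (.leaf (nat_lit 0x1708008491))) (.node 1 (.leaf (nat_lit 0x190700ef21)) (.leaf (nat_lit 0x17070084b1)))) (.node 2 (.node 1 (.leaf (nat_lit 0x190800ef61)) (.leaf (nat_lit 0x17030084d1))) (.node 1 (.leaf (nat_lit 0x17080084d1)) (.leaf (nat_lit 0x17020084e1))))) (.node 4 (.node 2 (.node 1 (.leaf (nat_lit 0x17080084e1)) (.leaf (nat_lit 0x190400ef61))) (.node 1 (.leaf (nat_lit 0x1707008581)) (.leaf (nat_lit 0x1708008551)))) (.node 2 (.node 1 (.leaf (nat_lit 0x1703008531)) (.leaf (nat_lit 0x1708008531))) (.node 1 (.leaf (nat_lit 0x1702008551)) (.leaf (nat_lit 0x1701008571)))))) (.node 8 (.node 4 (.node 2 (.node 1 (.leaf (nat_lit 0x1708008571)) (.leaf (nat_lit 0xc030085a2))) (.node 1 (.leaf (nat_lit 0xc050085a2)) (.leaf (nat_lit 0xc080085a2)))) (.node 2 (.node 1 (.leaf (nat_lit 0xc080085c2)) (.leaf (nat_lit 0xc070085d2))) (.node 1 (.leaf (nat_lit 0xc030085e2))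 (.leaf (nat_lit 0xc020085f2))))) (.node 4 (.node 2 (.node 1 (.leaf (nat_lit 0xc040085f2)) (.leaf (nat_lit 0xc01008602))) (.node 1 (.leaf (nat_lit 0xc04008602)) (.leaf (nat_lit 0xc05008612)))) (.node 2 (.node 1 (.leaf (nat_lit 0xc07008622)) (.leaf (nat_lit 0xc08008622))) (.node 1 (.leaf (nat_lit 0xc03008642)) (.leaf (nat_lit 0xc04008652))))))) (.node 16 (.node 8 (.node 4 (.node 2 (.node 1 (.leaf (nat_lit 0xc01008662)) (.leaf (nat_lit 0xc04008662))) (.node 1 (.leaf (nat_lit 0xc05008672)) (.leaf (nat_lit 0xc00008682)))) (.node 2 (.node 1 (.leaf (nat_lit 0xc04008682)) (.leaf (nat_lit 0xc03008692))) (.node 1 (.leaf (nat_lit 0xc05008692)) (.leaf (nat_lit 0xc060086a2))))) (.node 4 (.node 2 (.node 1 (.leaf (nat_lit 0x17040086d1)) (.leaf (nat_lit 0x17050086e1))) (.node 1 (.leaf (nat_lit 0x17040086f1)) (.leaf (nat_lit 0x1703008701)))) (.node 2 (.node 1 (.leaf (nat_lit 0x1705008701)) (.leaf (nat_lit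 0x1706008711))) (.node 1 (.leaf (nat_lit 0x1704008721)) (.leaf (nat_lit 0x1703008731)))))) (.node 8 (.node 4 (.node 2 (.node 1 (.leaf (nat_lit 0x1705008731)) (.leaf (nat_lit 0x1705008741))) (.node 1 (.leaf (nat_lit 0x1707008741)) (.leaf (nat_lit 0x1706008751)))) (.node 2 (.node 1 (.leaf (nat_lit 0x190200f2b1)) (.leaf (nat_lit 0xc05008772))) (.node 1 (.leaf (nat_lit 0xc04008782)) (.leaf (nat_lit 0xc03008792))))) (.node 4 (.node 2 (.node 1 (.leaf (nat_lit 0xc05008792)) (.leaf (nat_lit 0xc060087a2))) (.node 1 (.leaf (nat_lit 0xc040087b2)) (.leaf (nat_lit 0xc030087c2)))) (.node 2 (.node 1 (.leaf (nat_lit 0xc050087c2)) (.leaf (nat_lit 0xc050087d2))) (.node 1 (.leaf (nat_lit 0xc070087d2)) (.leaf (nat_lit 0xc060087e2))))))))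

noncomputable def oT23 : Tree :=
  .node 64 (.node 32 (.node 16 (.node 8 (.node 4 (.node 2 (.node 1 (.leaf (nat_lit 0x190200f3c1)) (.leaf (nat_lit 0x1706008801))) (.node 1 (.leaf (nat_lit 0x1703008811)) (.leaf (nat_lit 0x1705008811)))) (.node 2 (.node 1 (.leaf (nat_lit 0x1705008821)) (.leaf (nat_lit 0x1706008831))) (.node 1 (.leaf (nat_lit 0x1b080088b1)) (.leaf (nat_lit 0x1703008851))))) (.node 4 (.node 2 (.node 1 (.leaf (nat_lit 0x1705008851)) (.leaf (nat_lit 0x1702008861))) (.node 1 (.leaf (nat_lit 0x1705008861)) (.leaf (nat_lit 0x1707008861)))) (.node 2 (.node 1 (.leaf (nat_lit 0x1706008871)) (.leaf (nat_lit 0x1704008881))) (.node 1 (.leaf (nat_lit 0x1706008881)) (.leaf (nat_lit 0x1707008881)))))) (.node 8 (.node 4 (.node 2 (.node 1 (.leaf (nat_lit 0x1708008891)) (.leaf (nat_lit 0x190300f511))) (.node 1 (.leaf (nat_lit 0x1d07008911)) (.leaf (nat_lit 0x17020088d1)))) (.node 2 (.node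 1 (.leaf (nat_lit 0x17050088d1)) (.leaf (nat_lit 0x17060088e1))) (.node 1 (.leaf (nat_lit 0x17040088f1)) (.leaf (nat_lit 0x17060088f1))))) (.node 4 (.node 2 (.node 1 (.leaf (nat_lit 0x1b080089c1)) (.leaf (nat_lit 0x1702008921))) (.node 1 (.leaf (nat_lit 0x1705008921)) (.leaf (nat_lit 0x1707008921)))) (.node 2 (.node 1 (.leaf (nat_lit 0x1706008931)) (.leaf (nat_lit 0x1705008941))) (.node 1 (.leaf (nat_lit 0x1707008941)) (.leaf (nat_lit 0x1704008951))))))) (.node 16 (.node 8 (.node 4 (.node 2 (.node 1 (.leaf (nat_lit 0x1706008951)) (.leaf (nat_lit 0x1707008951))) (.node 1 (.leaf (nat_lit 0x1708008961)) (.leaf (nat_lit 0x1b0300f671)))) (.node 2 (.node 1 (.leaf (nat_lit 0x1706008981)) (.leaf (nat_lit 0x1707008981))) (.node 1 (.leaf (nat_lit 0x190700f6f1)) (.leaf (nat_lit 0x1707008991))))) (.node 4 (.node 2 (.node 1 (.leaf (nat_lit 0x17080089a1)) (.leaf (nat_lit 0xc040089d2))) (.node 1 (.leaf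 (nat_lit 0xc030089e2)) (.leaf (nat_lit 0xc050089e2)))) (.node 2 (.node 1 (.leaf (nat_lit 0xc050089f2)) (.leaf (nat_lit 0xc070089f2))) (.node 1 (.leaf (nat_lit 0xc06008a02)) (.leaf (nat_lit 0x1b08008a81)))))) (.node 8 (.node 4 (.node 2 (.node 1 (.leaf (nat_lit 0xc03008a22)) (.leaf (nat_lit 0xc05008a22))) (.node 1 (.leaf (nat_lit 0xc02008a32)) (.leaf (nat_lit 0xc05008a32)))) (.node 2 (.node 1 (.leaf (nat_lit 0xc07008a32)) (.leaf (nat_lit 0xc06008a42))) (.node 1 (.leaf (nat_lit 0xc04008a52)) (.leaf (nat_lit 0xc06008a52))))) (.node 4 (.node 2 (.node 1 (.leaf (nat_lit 0xc07008a52)) (.leaf (nat_lit 0xc08008a62))) (.node 1 (.leaf (nat_lit 0x190300f501)) (.leaf (nat_lit 0x1703008a91)))) (.node 2 (.node 1 (.leaf (nat_lit 0x1705008a91)) (.leaf (nat_lit 0x1702008aa1))) (.node 1 (.leaf (nat_lit 0x1705008aa1)) (.leaf (nat_lit 0x1707008aa1)))))))) (.node 32 (.node 16 (.node 8 (.node 4 (.node 2 (.node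 1 (.leaf (nat_lit 0x1706008ab1)) (.leaf (nat_lit 0x1704008ac1))) (.node 1 (.leaf (nat_lit 0x1706008ac1)) (.leaf (nat_lit 0x1707008ac1)))) (.node 2 (.node 1 (.leaf (nat_lit 0x1708008ad1)) (.leaf (nat_lit 0x1b08008ba1))) (.node 1 (.leaf (nat_lit 0x1702008b01)) (.leaf (nat_lit 0x1705008b01))))) (.node 4 (.node 2 (.node 1 (.leaf (nat_lit 0x1706008b11)) (.leaf (nat_lit 0x1705008b21))) (.node 1 (.leaf (nat_lit 0x1707008b21)) (.leaf (nat_lit 0x1704008b31)))) (.node 2 (.node 1 (.leaf (nat_lit 0x1706008b31)) (.leaf (nat_lit 0x1707008b31))) (.node 1 (.leaf (nat_lit 0x1b0300f9e1)) (.leaf (nat_lit 0x1706008b61)))))) (.node 8 (.node 4 (.node 2 (.node 1 (.leaf (nat_lit 0x1707008b61)) (.leaf (nat_lit 0x190700f4f1))) (.node 1 (.leaf (nat_lit 0x1707008b71)) (.leaf (nat_lit 0x1708008b81)))) (.node 2 (.node 1 (.leaf (nat_lit 0x1702008bb1)) (.leaf (nat_lit 0x1705008bb1))) (.node 1 (.leaf (nat_lit 0x1706008bc1))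 (.leaf (nat_lit 0x1705008bd1))))) (.node 4 (.node 2 (.node 1 (.leaf (nat_lit 0x1707008bd1)) (.leaf (nat_lit 0x1704008be1))) (.node 1 (.leaf (nat_lit 0x1706008be1)) (.leaf (nat_lit 0x1707008be1)))) (.node 2 (.node 1 (.leaf (nat_lit 0x1d08008ce1)) (.leaf (nat_lit 0x1706008c11))) (.node 1 (.leaf (nat_lit 0x1707008c11)) (.leaf (nat_lit 0x1b08008d11))))))) (.node 16 (.node 8 (.node 4 (.node 2 (.node 1 (.leaf (nat_lit 0x1707008c21)) (.leaf (nat_lit 0x1708008c31))) (.node 1 (.leaf (nat_lit 0x1705008c61)) (.leaf (nat_lit 0x1704008c71)))) (.node 2 (.node 1 (.leaf (nat_lit 0x1706008c71)) (.leaf (nat_lit 0x1d0300fb71))) (.node 1 (.leaf (nat_lit 0x1704008c91)) (.leaf (nat_lit 0x1706008c91))))) (.node 4 (.node 2 (.node 1 (.leaf (nat_lit 0x1707008c91)) (.leaf (nat_lit 0x1703008ca1))) (.node 1 (.leaf (nat_lit 0x1706008cb1)) (.leaf (nat_lit 0x1707008cb1)))) (.node 2 (.node 1 (.leaf (nat_lit 0x1b0700fc21))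 (.leaf (nat_lit 0x1707008cc1))) (.node 1 (.leaf (nat_lit 0x1705008cf1)) (.leaf (nat_lit 0x190700f6a1)))))) (.node 8 (.node 4 (.node 2 (.node 1 (.leaf (nat_lit 0x1707008cf1)) (.leaf (nat_lit 0x1708008d01))) (.node 1 (.leaf (nat_lit 0x190500f4f1)) (.leaf (nat_lit 0x1708008d21)))) (.node 2 (.node 1 (.leaf (nat_lit 0x1705008d41)) (.leaf (nat_lit 0x1704008d51))) (.node 1 (.leaf (nat_lit 0x1706008d51)) (.leaf (nat_lit 0x1707008d51))))) (.node 4 (.node 2 (.node 1 (.leaf (nat_lit 0x1d0400fa51)) (.leaf (nat_lit 0x1704008d81))) (.node 1 (.leaf (nat_lit 0x1706008d81)) (.leaf (nat_lit 0x1707008d81)))) (.node 2 (.node 1 (.leaf (nat_lit 0x1706008da1)) (.leaf (nat_lit 0x1707008da1))) (.node 1 (.leaf (nat_lit 0x1d08008ea1)) (.leaf (nat_lit 0x1707008db1))))))))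

noncomputable def oT24 : Tree :=
  .node 64 (.node 32 (.node 16 (.node 8 (.node 4 (.node 2 (.node 1 (.leaf (nat_lit 0x1705008de1)) (.leaf (nat_lit 0x1b08008ec1))) (.node 1 (.leaf (nat_lit 0x1707008de1)) (.leaf (nat_lit 0x1703008df1)))) (.node 2 (.node 1 (.leaf (nat_lit 0x1b0400fd71)) (.leaf (nat_lit 0x1705008e21))) (.node 1 (.leaf (nat_lit 0x1704008e31)) (.leaf (nat_lit 0x1706008e31))))) (.node 4 (.node 2 (.node 1 (.leaf (nat_lit 0x1706008e41)) (.leaf (nat_lit 0x1d0400fe01))) (.node 1 (.leaf (nat_lit 0x1703008e71)) (.leaf (nat_lit 0x1706008e71)))) (.node 2 (.node 1 (.leaf (nat_lit 0x1d0400fe41)) (.leaf (nat_lit 0x1705008e91))) (.node 1 (.leaf (nat_lit 0x1b0300fc01)) (.leaf (nat_lit 0x190300f6c1)))))) (.node 8 (.node 4 (.node 2 (.node 1 (.leaf (nat_lit 0xc02008ed2)) (.leaf (nat_lit 0xc05008ed2))) (.node 1 (.leaf (nat_lit 0xc06008ee2)) (.leaf (nat_lit 0xc05008ef2)))) (.node 2 (.node 1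 (.leaf (nat_lit 0xc07008ef2)) (.leaf (nat_lit 0xc04008f02))) (.node 1 (.leaf (nat_lit 0xc06008f02)) (.leaf (nat_lit 0xc07008f02))))) (.node 4 (.node 2 (.node 1 (.leaf (nat_lit 0x1b0300ff01)) (.leaf (nat_lit 0xc06008f32))) (.node 1 (.leaf (nat_lit 0xc07008f32)) (.leaf (nat_lit 0x190700f281)))) (.node 2 (.node 1 (.leaf (nat_lit 0xc07008f42)) (.leaf (nat_lit 0xc08008f52))) (.node 1 (.leaf (nat_lit 0x1705008f81)) (.leaf (nat_lit 0x1704008f91))))))) (.node 16 (.node 8 (.node 4 (.node 2 (.node 1 (.leaf (nat_lit 0x1706008f91)) (.leaf (nat_lit 0x1d0300ff71))) (.node 1 (.leaf (nat_lit 0x1704008fb1)) (.leaf (nat_lit 0x1706008fb1)))) (.node 2 (.node 1 (.leaf (nat_lit 0x1707008fb1)) (.leaf (nat_lit 0x1703008fc1))) (.node 1 (.leaf (nat_lit 0x1706008fd1)) (.leaf (nat_lit 0x1707008fd1))))) (.node 4 (.node 2 (.node 1 (.leaf (nat_lit 0x1b07010021)) (.leaf (nat_lit 0x1707008fe1))) (.node 1 (.leaf (nat_lit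 0x190700f291)) (.leaf (nat_lit 0x1707009011)))) (.node 2 (.node 1 (.leaf (nat_lit 0x1703009021)) (.leaf (nat_lit 0x1708009021))) (.node 1 (.leaf (nat_lit 0x190600f281)) (.leaf (nat_lit 0x1708009041)))))) (.node 8 (.node 4 (.node 2 (.node 1 (.leaf (nat_lit 0x1706009061)) (.leaf (nat_lit 0x1d0700f571))) (.node 1 (.leaf (nat_lit 0x1d07010071)) (.leaf (nat_lit 0x1707009091)))) (.node 2 (.node 1 (.leaf (nat_lit 0x17030090a1)) (.leaf (nat_lit 0x17040090b1))) (.node 1 (.leaf (nat_lit 0x1b05010021)) (.leaf (nat_lit 0x1b05010051))))) (.node 4 (.node 2 (.node 1 (.leaf (nat_lit 0xc05009102)) (.leaf (nat_lit 0xc04009112))) (.node 1 (.leaf (nat_lit 0xc06009112)) (.leaf (nat_lit 0xc04009132)))) (.node 2 (.node 1 (.leaf (nat_lit 0xc06009132)) (.leaf (nat_lit 0xc07009132))) (.node 1 (.leaf (nat_lit 0xc03009142)) (.leaf (nat_lit 0xc06009152)))))))) (.node 32 (.node 16 (.node 8 (.node 4 (.node 2 (.node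 1 (.leaf (nat_lit 0xc07009152)) (.leaf (nat_lit 0xc07009162))) (.node 1 (.leaf (nat_lit 0xc05009182)) (.leaf (nat_lit 0xc07009182)))) (.node 2 (.node 1 (.leaf (nat_lit 0xc03009192)) (.leaf (nat_lit 0xc08009192))) (.node 1 (.leaf (nat_lit 0xc080091a2)) (.leaf (nat_lit 0x17040091c1))))) (.node 4 (.node 2 (.node 1 (.leaf (nat_lit 0x17030091e1)) (.leaf (nat_lit 0x17070091e1))) (.node 1 (.leaf (nat_lit 0x17030091f1)) (.leaf (nat_lit 0x1704009201)))) (.node 2 (.node 1 (.leaf (nat_lit 0x1703009211)) (.leaf (nat_lit 0x1702009221))) (.node 1 (.leaf (nat_lit 0x1708009221)) (.leaf (nat_lit 0x1705009241)))))) (.node 8 (.node 4 (.node 2 (.node 1 (.leaf (nat_lit 0xc03009252)) (.leaf (nat_lit 0xc05009252))) (.node 1 (.leaf (nat_lit 0xc05009262)) (.leaf (nat_lit 0xc07009262)))) (.node 2 (.node 1 (.leaf (nat_lit 0xc08009262)) (.leaf (nat_lit 0xc08009272))) (.node 1 (.leaf (nat_lit 0xc07009292)) (.leaf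 (nat_lit 0xc030092a2))))) (.node 4 (.node 2 (.node 1 (.leaf (nat_lit 0xc040092b2)) (.leaf (nat_lit 0xc040092c2))) (.node 1 (.leaf (nat_lit 0xc050092d2)) (.leaf (nat_lit 0xc040092e2)))) (.node 2 (.node 1 (.leaf (nat_lit 0xc030092f2)) (.leaf (nat_lit 0xc050092f2))) (.node 1 (.leaf (nat_lit 0xc06009302)) (.leaf (nat_lit 0xc02009312))))))) (.node 16 (.node 8 (.node 4 (.node 2 (.node 1 (.leaf (nat_lit 0xc07009312)) (.leaf (nat_lit 0xc04009342))) (.node 1 (.leaf (nat_lit 0xc05009352)) (.leaf (nat_lit 0xc03009362)))) (.node 2 (.node 1 (.leaf (nat_lit 0xc05009362)) (.leaf (nat_lit 0xc06009372))) (.node 1 (.leaf (nat_lit 0xc03009382)) (.leaf (nat_lit 0xc05009382))))) (.node 4 (.node 2 (.node 1 (.leaf (nat_lit 0xc05009392)) (.leaf (nat_lit 0xc07009392))) (.node 1 (.leaf (nat_lit 0xc060093a2)) (.leaf (nat_lit 0x1702009cd1)))) (.node 2 (.node 1 (.leaf (nat_lit 0x17070093c1)) (.leaf (nat_lit 0x17050093e1)))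 (.node 1 (.leaf (nat_lit 0x17060093f1)) (.leaf (nat_lit 0x1705009401)))))) (.node 8 (.node 4 (.node 2 (.node 1 (.leaf (nat_lit 0x1706009411)) (.leaf (nat_lit 0x1906010341))) (.node 1 (.leaf (nat_lit 0x1702009431)) (.leaf (nat_lit 0x1705009431)))) (.node 2 (.node 1 (.leaf (nat_lit 0x1707009431)) (.leaf (nat_lit 0x1706009441))) (.node 1 (.leaf (nat_lit 0x1704009451)) (.leaf (nat_lit 0x1706009451))))) (.node 4 (.node 2 (.node 1 (.leaf (nat_lit 0x1707009451)) (.leaf (nat_lit 0x1703009cc1))) (.node 1 (.leaf (nat_lit 0xc06009492)) (.leaf (nat_lit 0xc050094a2)))) (.node 2 (.node 1 (.leaf (nat_lit 0xc060094b2)) (.leaf (nat_lit 0x1904010341))) (.node 1 (.leaf (nat_lit 0xc020094d2)) (.leaf (nat_lit 0xc050094d2))))))))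

noncomputable def oT25 : Tree :=
  .node 64 (.node 32 (.node 16 (.node 8 (.node 4 (.node 2 (.node 1 (.leaf (nat_lit 0xc070094d2)) (.leaf (nat_lit 0xc060094e2))) (.node 1 (.leaf (nat_lit 0xc040094f2)) (.leaf (nat_lit 0xc060094f2)))) (.node 2 (.node 1 (.leaf (nat_lit 0xc070094f2)) (.leaf (nat_lit 0x1703009891))) (.node 1 (.leaf (nat_lit 0x1b07009561)) (.leaf (nat_lit 0x1704009541))))) (.node 4 (.node 2 (.node 1 (.leaf (nat_lit 0x1706009541)) (.leaf (nat_lit 0x19060103d1))) (.node 1 (.leaf (nat_lit 0x1705009571)) (.leaf (nat_lit 0x1704009581)))) (.node 2 (.node 1 (.leaf (nat_lit 0x1706009581)) (.leaf (nat_lit 0x1707009581))) (.node 1 (.leaf (nat_lit 0x1906010391)) (.leaf (nat_lit 0x17060095b1)))))) (.node 8 (.node 4 (.node 2 (.node 1 (.leaf (nat_lit 0x17070095b1)) (.leaf (nat_lit 0x1707009881))) (.node 1 (.leaf (nat_lit 0x17070095c1)) (.leaf (nat_lit 0x1706009601)))) (.node 2 (.node 1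 (.leaf (nat_lit 0x1905010451)) (.leaf (nat_lit 0x1704009631))) (.node 1 (.leaf (nat_lit 0x1706009631)) (.leaf (nat_lit 0x1706009641))))) (.node 4 (.node 2 (.node 1 (.leaf (nat_lit 0x1707009641)) (.leaf (nat_lit 0x1905010441))) (.node 1 (.leaf (nat_lit 0x1707009651)) (.leaf (nat_lit 0x1705009681)))) (.node 2 (.node 1 (.leaf (nat_lit 0x17070099a1)) (.leaf (nat_lit 0x1707009681))) (.node 1 (.leaf (nat_lit 0x1703009691)) (.leaf (nat_lit 0x1705009881))))))) (.node 16 (.node 8 (.node 4 (.node 2 (.node 1 (.leaf (nat_lit 0xc030096c2)) (.leaf (nat_lit 0xc050096c2))) (.node 1 (.leaf (nat_lit 0xc050096d2)) (.leaf (nat_lit 0xc060096e2)))) (.node 2 (.node 1 (.leaf (nat_lit 0xc040096f2)) (.leaf (nat_lit 0xc060096f2))) (.node 1 (.leaf (nat_lit 0xc070096f2)) (.leaf (nat_lit 0x1903010461))))) (.node 4 (.node 2 (.node 1 (.leaf (nat_lit 0xc05009732)) (.leaf (nat_lit 0xc06009742))) (.node 1 (.leaf (nat_lit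 0xc04009752)) (.leaf (nat_lit 0xc06009752)))) (.node 2 (.node 1 (.leaf (nat_lit 0x1903010481)) (.leaf (nat_lit 0x17050097b1))) (.node 1 (.leaf (nat_lit 0x17060097c1)) (.leaf (nat_lit 0x17040097d1)))))) (.node 8 (.node 4 (.node 2 (.node 1 (.leaf (nat_lit 0x17060097d1)) (.leaf (nat_lit 0x19030105e1))) (.node 1 (.leaf (nat_lit 0x17060097f1)) (.leaf (nat_lit 0x17070097f1)))) (.node 2 (.node 1 (.leaf (nat_lit 0x1906010461)) (.leaf (nat_lit 0x1707009801))) (.node 1 (.leaf (nat_lit 0x1704009831)) (.leaf (nat_lit 0x1706009831))))) (.node 4 (.node 2 (.node 1 (.leaf (nat_lit 0x1b080105c1)) (.leaf (nat_lit 0x1706009851))) (.node 1 (.leaf (nat_lit 0x1907010451)) (.leaf (nat_lit 0x17040098c1)))) (.node 2 (.node 1 (.leaf (nat_lit 0x17060098c1)) (.leaf (nat_lit 0x1b03010621))) (.node 1 (.leaf (nat_lit 0x17060098e1)) (.leaf (nat_lit 0x19070104e1)))))))) (.node 32 (.node 16 (.node 8 (.node 4 (.node 2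 (.node 1 (.leaf (nat_lit 0x1705009911)) (.leaf (nat_lit 0x19050104d1))) (.node 1 (.leaf (nat_lit 0x1707009911)) (.leaf (nat_lit 0x1703009921)))) (.node 2 (.node 1 (.leaf (nat_lit 0x19050105d1)) (.leaf (nat_lit 0x1706009951))) (.node 1 (.leaf (nat_lit 0x1b08010621)) (.leaf (nat_lit 0x1705009981))))) (.node 4 (.node 2 (.node 1 (.leaf (nat_lit 0x19070104b1)) (.leaf (nat_lit 0x17050099e1))) (.node 1 (.leaf (nat_lit 0x17040099f1)) (.leaf (nat_lit 0x17060099f1)))) (.node 2 (.node 1 (.leaf (nat_lit 0x17070099f1)) (.leaf (nat_lit 0x1706009a11))) (.node 1 (.leaf (nat_lit 0x1707009a11)) (.leaf (nat_lit 0x1b04010701)))))) (.node 8 (.node 4 (.node 2 (.node 1 (.leaf (nat_lit 0x1707009a21)) (.leaf (nat_lit 0x1703009a51))) (.node 1 (.leaf (nat_lit 0x1706009a51)) (.leaf (nat_lit 0x1707009a51)))) (.node 2 (.node 1 (.leaf (nat_lit 0x1904010761)) (.leaf (nat_lit 0x1707009a61))) (.node 1 (.leaf (nat_lit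 0x1703009a71)) (.leaf (nat_lit 0x1705009a91))))) (.node 4 (.node 2 (.node 1 (.leaf (nat_lit 0x1903010641)) (.leaf (nat_lit 0x1707009a91))) (.node 1 (.leaf (nat_lit 0x1703009aa1)) (.leaf (nat_lit 0x19040107b1)))) (.node 2 (.node 1 (.leaf (nat_lit 0x19060104c1)) (.leaf (nat_lit 0x1707009ad1))) (.node 1 (.leaf (nat_lit 0x19030107a1)) (.leaf (nat_lit 0x1703009af1))))))) (.node 16 (.node 8 (.node 4 (.node 2 (.node 1 (.leaf (nat_lit 0x1702009b01)) (.leaf (nat_lit 0x1704009b21))) (.node 1 (.leaf (nat_lit 0x1706009b21)) (.leaf (nat_lit 0x1703009b31)))) (.node 2 (.node 1 (.leaf (nat_lit 0x1706009b31)) (.leaf (nat_lit 0x1b04010831))) (.node 1 (.leaf (nat_lit 0x1705009b51)) (.leaf (nat_lit 0x1b08010701))))) (.node 4 (.node 2 (.node 1 (.leaf (nat_lit 0x1706009b71)) (.leaf (nat_lit 0x1705009b81))) (.node 1 (.leaf (nat_lit 0x1905010741)) (.leaf (nat_lit 0x19030104f1)))) (.node 2 (.node 1 (.leaf (nat_lit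 0xc04009bd2)) (.leaf (nat_lit 0xc06009bd2))) (.node 1 (.leaf (nat_lit 0x1b07010591)) (.leaf (nat_lit 0xc06009bf2)))))) (.node 8 (.node 4 (.node 2 (.node 1 (.leaf (nat_lit 0x19070103d1)) (.leaf (nat_lit 0x1706009c61))) (.node 1 (.leaf (nat_lit 0x1b0700f431)) (.leaf (nat_lit 0x19070103b1)))) (.node 2 (.node 1 (.leaf (nat_lit 0xc06009d02)) (.leaf (nat_lit 0xc05009d22))) (.node 1 (.leaf (nat_lit 0xc05009d72)) (.leaf (nat_lit 0xc03009d92))))) (.node 4 (.node 2 (.node 1 (.leaf (nat_lit 0xc02009da2)) (.leaf (nat_lit 0xd08009dc2))) (.node 1 (.leaf (nat_lit 0xd07009dd2)) (.leaf (nat_lit 0xd03009de2)))) (.node 2 (.node 1 (.leaf (nat_lit 0x1802009df1)) (.leaf (nat_lit 0x1804009df1))) (.node 1 (.leaf (nat_lit 0xd03009e02)) (.leaf (nat_lit 0xd02009e12))))))))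

noncomputable def oT26 : Tree :=
  .node 64 (.node 32 (.node 16 (.node 8 (.node 4 (.node 2 (.node 1 (.leaf (nat_lit 0xd04009e12)) (.leaf (nat_lit 0x1801009e21))) (.node 1 (.leaf (nat_lit 0x1804009e21)) (.leaf (nat_lit 0x1805009e31)))) (.node 2 (.node 1 (.leaf (nat_lit 0xd01009e42)) (.leaf (nat_lit 0xd04009e42))) (.node 1 (.leaf (nat_lit 0xd05009e52)) (.leaf (nat_lit 0x1800009e61))))) (.node 4 (.node 2 (.node 1 (.leaf (nat_lit 0x1804009e61)) (.leaf (nat_lit 0x1803009e71))) (.node 1 (.leaf (nat_lit 0x1805009e71)) (.leaf (nat_lit 0x1806009e81)))) (.node 2 (.node 1 (.leaf (nat_lit 0x1804009e91)) (.leaf (nat_lit 0x1803009ea1))) (.node 1 (.leaf (nat_lit 0x1805009ea1)) (.leaf (nat_lit 0x1805009eb1)))))) (.node 8 (.node 4 (.node 2 (.node 1 (.leaf (nat_lit 0x1807009eb1)) (.leaf (nat_lit 0x1806009ec1))) (.node 1 (.leaf (nat_lit 0x1e05010a71)) (.leaf (nat_lit 0xd03009ee2)))) (.node 2 (.node 1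 (.leaf (nat_lit 0xd02009ef2)) (.leaf (nat_lit 0xd04009ef2))) (.node 1 (.leaf (nat_lit 0xd02009f02)) (.leaf (nat_lit 0xd04009f02))))) (.node 4 (.node 2 (.node 1 (.leaf (nat_lit 0xd01009f12)) (.leaf (nat_lit 0xd04009f12))) (.node 1 (.leaf (nat_lit 0xd05009f22)) (.leaf (nat_lit 0x1801009f31)))) (.node 2 (.node 1 (.leaf (nat_lit 0x1804009f31)) (.leaf (nat_lit 0x1805009f41))) (.node 1 (.leaf (nat_lit 0x1800009f51)) (.leaf (nat_lit 0x1804009f51))))))) (.node 16 (.node 8 (.node 4 (.node 2 (.node 1 (.leaf (nat_lit 0x1803009f61)) (.leaf (nat_lit 0x1805009f61))) (.node 1 (.leaf (nat_lit 0x1806009f71)) (.leaf (nat_lit 0xd01009f82)))) (.node 2 (.node 1 (.leaf (nat_lit 0xd04009f82)) (.leaf (nat_lit 0xd05009f92))) (.node 1 (.leaf (nat_lit 0xd00009fa2)) (.leaf (nat_lit 0xd04009fa2))))) (.node 4 (.node 2 (.node 1 (.leaf (nat_lit 0xd03009fb2)) (.leaf (nat_lit 0xd05009fb2))) (.node 1 (.leaf (nat_lit 0xd06009fc2))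 (.leaf (nat_lit 0x1804009fd1)))) (.node 2 (.node 1 (.leaf (nat_lit 0x1803009fe1)) (.leaf (nat_lit 0x1805009fe1))) (.node 1 (.leaf (nat_lit 0x1806009ff1)) (.leaf (nat_lit 0x180400a001)))))) (.node 8 (.node 4 (.node 2 (.node 1 (.leaf (nat_lit 0x180300a011)) (.leaf (nat_lit 0x180500a011))) (.node 1 (.leaf (nat_lit 0x180500a021)) (.leaf (nat_lit 0x180700a021)))) (.node 2 (.node 1 (.leaf (nat_lit 0x180600a031)) (.leaf (nat_lit 0x1e07010a71))) (.node 1 (.leaf (nat_lit 0x180300a051)) (.leaf (nat_lit 0x180500a051))))) (.node 4 (.node 2 (.node 1 (.leaf (nat_lit 0x180500a061)) (.leaf (nat_lit 0x180700a061))) (.node 1 (.leaf (nat_lit 0x180600a071)) (.leaf (nat_lit 0x200800a0f1)))) (.node 2 (.node 1 (.leaf (nat_lit 0x180300a091)) (.leaf (nat_lit 0x180500a091))) (.node 1 (.leaf (nat_lit 0x180200a0a1)) (.leaf (nat_lit 0x180500a0a1)))))))) (.node 32 (.node 16 (.node 8 (.node 4 (.node 2 (.node 1 (.leaf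 (nat_lit 0x180700a0a1)) (.leaf (nat_lit 0x180600a0b1))) (.node 1 (.leaf (nat_lit 0x180400a0c1)) (.leaf (nat_lit 0x180600a0c1)))) (.node 2 (.node 1 (.leaf (nat_lit 0x180700a0c1)) (.leaf (nat_lit 0x180800a0d1))) (.node 1 (.leaf (nat_lit 0x1e07010b21)) (.leaf (nat_lit 0xd0100a102))))) (.node 4 (.node 2 (.node 1 (.leaf (nat_lit 0xd0400a102)) (.leaf (nat_lit 0xd0500a112))) (.node 1 (.leaf (nat_lit 0xd0000a122)) (.leaf (nat_lit 0xd0400a122)))) (.node 2 (.node 1 (.leaf (nat_lit 0xd0300a132)) (.leaf (nat_lit 0xd0500a132))) (.node 1 (.leaf (nat_lit 0xd0600a142)) (.leaf (nat_lit 0xd0400a152)))))) (.node 8 (.node 4 (.node 2 (.node 1 (.leaf (nat_lit 0xd0300a162)) (.leaf (nat_lit 0xd0500a162))) (.node 1 (.leaf (nat_lit 0xd0500a172)) (.leaf (nat_lit 0xd0700a172)))) (.node 2 (.node 1 (.leaf (nat_lit 0xd0600a182)) (.leaf (nat_lit 0x1e03010d51))) (.node 1 (.leaf (nat_lit 0x180000a1a1)) (.leaf (nat_lit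 0x180400a1a1))))) (.node 4 (.node 2 (.node 1 (.leaf (nat_lit 0x180300a1b1)) (.leaf (nat_lit 0x180500a1b1))) (.node 1 (.leaf (nat_lit 0x180600a1c1)) (.leaf (nat_lit 0x180400a1d1)))) (.node 2 (.node 1 (.leaf (nat_lit 0x180300a1e1)) (.leaf (nat_lit 0x180500a1e1))) (.node 1 (.leaf (nat_lit 0x180500a1f1)) (.leaf (nat_lit 0x180700a1f1))))))) (.node 16 (.node 8 (.node 4 (.node 2 (.node 1 (.leaf (nat_lit 0x180600a201)) (.leaf (nat_lit 0x200800a281))) (.node 1 (.leaf (nat_lit 0x180300a221)) (.leaf (nat_lit 0x180500a221)))) (.node 2 (.node 1 (.leaf (nat_lit 0x180200a231)) (.leaf (nat_lit 0x180500a231))) (.node 1 (.leaf (nat_lit 0x180700a231)) (.leaf (nat_lit 0x180600a241))))) (.node 4 (.node 2 (.node 1 (.leaf (nat_lit 0x180400a251)) (.leaf (nat_lit 0x180600a251))) (.node 1 (.leaf (nat_lit 0x180700a251)) (.leaf (nat_lit 0x180800a261)))) (.node 2 (.node 1 (.leaf (nat_lit 0x200200a281)) (.leaf (nat_lit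 0x180400a291))) (.node 1 (.leaf (nat_lit 0x180300a2a1)) (.leaf (nat_lit 0x180500a2a1)))))) (.node 8 (.node 4 (.node 2 (.node 1 (.leaf (nat_lit 0x180500a2b1)) (.leaf (nat_lit 0x180700a2b1))) (.node 1 (.leaf (nat_lit 0x180600a2c1)) (.leaf (nat_lit 0x2002011431)))) (.node 2 (.node 1 (.leaf (nat_lit 0x180300a2e1)) (.leaf (nat_lit 0x180500a2e1))) (.node 1 (.leaf (nat_lit 0x180200a2f1)) (.leaf (nat_lit 0x180500a2f1))))) (.node 4 (.node 2 (.node 1 (.leaf (nat_lit 0x180700a2f1)) (.leaf (nat_lit 0x180600a301))) (.node 1 (.leaf (nat_lit 0x180400a311)) (.leaf (nat_lit 0x180600a311)))) (.node 2 (.node 1 (.leaf (nat_lit 0x180700a311)) (.leaf (nat_lit 0x180800a321))) (.node 1 (.leaf (nat_lit 0x2007011431)) (.leaf (nat_lit 0x180200a351))))))))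

noncomputable def oT27 : Tree :=
  .node 64 (.node 32 (.node 16 (.node 8 (.node 4 (.node 2 (.node 1 (.leaf (nat_lit 0x180500a351)) (.leaf (nat_lit 0x180700a351))) (.node 1 (.leaf (nat_lit 0x180600a361)) (.leaf (nat_lit 0x180500a371)))) (.node 2 (.node 1 (.leaf (nat_lit 0x180700a371)) (.leaf (nat_lit 0x180400a381))) (.node 1 (.leaf (nat_lit 0x180600a381)) (.leaf (nat_lit 0x180700a381))))) (.node 4 (.node 2 (.node 1 (.leaf (nat_lit 0x180800a391)) (.leaf (nat_lit 0x200400a611))) (.node 1 (.leaf (nat_lit 0x180600a3b1)) (.leaf (nat_lit 0x180700a3b1)))) (.node 2 (.node 1 (.leaf (nat_lit 0x2002010fd1)) (.leaf (nat_lit 0x180700a3c1))) (.node 1 (.leaf (nat_lit 0x180800a3d1)) (.leaf (nat_lit 0x180500a411)))))) (.node 8 (.node 4 (.node 2 (.node 1 (.leaf (nat_lit 0x180500a421)) (.leaf (nat_lit 0x180600a431))) (.node 1 (.leaf (nat_lit 0x1e02011701)) (.leaf (nat_lit 0x180500a451)))) (.node 2 (.node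 1 (.leaf (nat_lit 0x180500a461)) (.leaf (nat_lit 0x180600a471))) (.node 1 (.leaf (nat_lit 0x180400a481)) (.leaf (nat_lit 0x180600a481))))) (.node 4 (.node 2 (.node 1 (.leaf (nat_lit 0x180700a481)) (.leaf (nat_lit 0x1e03011771))) (.node 1 (.leaf (nat_lit 0x180500a4c1)) (.leaf (nat_lit 0x180600a4d1)))) (.node 2 (.node 1 (.leaf (nat_lit 0x180500a4e1)) (.leaf (nat_lit 0x180400a4f1))) (.node 1 (.leaf (nat_lit 0x180600a4f1)) (.leaf (nat_lit 0x180700a4f1))))))) (.node 16 (.node 8 (.node 4 (.node 2 (.node 1 (.leaf (nat_lit 0x1e07011741)) (.leaf (nat_lit 0x180600a521))) (.node 1 (.leaf (nat_lit 0x180700a521)) (.leaf (nat_lit 0x1e07011871)))) (.node 2 (.node 1 (.leaf (nat_lit 0x180700a531)) (.leaf (nat_lit 0x180800a541))) (.node 1 (.leaf (nat_lit 0x180500a571)) (.leaf (nat_lit 0x180400a581))))) (.node 4 (.node 2 (.node 1 (.leaf (nat_lit 0x180600a581)) (.leaf (nat_lit 0x180700a581))) (.node 1 (.leaf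 (nat_lit 0x1e030118d1)) (.leaf (nat_lit 0x180400a5b1)))) (.node 2 (.node 1 (.leaf (nat_lit 0x180600a5b1)) (.leaf (nat_lit 0x180700a5b1))) (.node 1 (.leaf (nat_lit 0x180600a5d1)) (.leaf (nat_lit 0x180700a5d1)))))) (.node 8 (.node 4 (.node 2 (.node 1 (.leaf (nat_lit 0x1e07011991)) (.leaf (nat_lit 0x180700a5e1))) (.node 1 (.leaf (nat_lit 0x180800a5f1)) (.leaf (nat_lit 0x180500a621)))) (.node 2 (.node 1 (.leaf (nat_lit 0x20070119d1)) (.leaf (nat_lit 0x180700a621))) (.node 1 (.leaf (nat_lit 0x180300a631)) (.leaf (nat_lit 0x180800a631))))) (.node 4 (.node 2 (.node 1 (.leaf (nat_lit 0x1e01011991)) (.leaf (nat_lit 0x180800a651))) (.node 1 (.leaf (nat_lit 0xd0800a672)) (.leaf (nat_lit 0xd0700a682)))) (.node 2 (.node 1 (.leaf (nat_lit 0xd0300a692)) (.leaf (nat_lit 0xd0200a6a2))) (.node 1 (.leaf (nat_lit 0xd0400a6a2)) (.leaf (nat_lit 0xd0100a6b2)))))))) (.node 32 (.node 16 (.node 8 (.node 4 (.node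 2 (.node 1 (.leaf (nat_lit 0xd0400a6b2)) (.leaf (nat_lit 0xd0500a6c2))) (.node 1 (.leaf (nat_lit 0xd0300a6d2)) (.leaf (nat_lit 0xd0200a6e2)))) (.node 2 (.node 1 (.leaf (nat_lit 0xd0400a6e2)) (.leaf (nat_lit 0xd0100a6f2))) (.node 1 (.leaf (nat_lit 0xd0400a6f2)) (.leaf (nat_lit 0xd0500a702))))) (.node 4 (.node 2 (.node 1 (.leaf (nat_lit 0xd0000a712)) (.leaf (nat_lit 0xd0400a712))) (.node 1 (.leaf (nat_lit 0xd0300a722)) (.leaf (nat_lit 0xd0500a722)))) (.node 2 (.node 1 (.leaf (nat_lit 0xd0600a732)) (.leaf (nat_lit 0x180200a741))) (.node 1 (.leaf (nat_lit 0x180400a741)) (.leaf (nat_lit 0x180400a751)))))) (.node 8 (.node 4 (.node 2 (.node 1 (.leaf (nat_lit 0x180500a761)) (.leaf (nat_lit 0x180400a771))) (.node 1 (.leaf (nat_lit 0x180300a781)) (.leaf (nat_lit 0x180500a781)))) (.node 2 (.node 1 (.leaf (nat_lit 0x180600a791)) (.leaf (nat_lit 0x180400a7a1))) (.node 1 (.leaf (nat_lit 0x180300a7b1))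 (.leaf (nat_lit 0x180500a7b1))))) (.node 4 (.node 2 (.node 1 (.leaf (nat_lit 0x180500a7c1)) (.leaf (nat_lit 0x180700a7c1))) (.node 1 (.leaf (nat_lit 0x180600a7d1)) (.leaf (nat_lit 0x1a0100b741)))) (.node 2 (.node 1 (.leaf (nat_lit 0xd0400a7f2)) (.leaf (nat_lit 0xd0500a802))) (.node 1 (.leaf (nat_lit 0xd0400a812)) (.leaf (nat_lit 0xd0300a822))))))) (.node 16 (.node 8 (.node 4 (.node 2 (.node 1 (.leaf (nat_lit 0xd0500a822)) (.leaf (nat_lit 0xd0600a832))) (.node 1 (.leaf (nat_lit 0xd0400a842)) (.leaf (nat_lit 0xd0300a852)))) (.node 2 (.node 1 (.leaf (nat_lit 0xd0500a852)) (.leaf (nat_lit 0xd0500a862))) (.node 1 (.leaf (nat_lit 0xd0700a862)) (.leaf (nat_lit 0xd0600a872))))) (.node 4 (.node 2 (.node 1 (.leaf (nat_lit 0x1a0100b801)) (.leaf (nat_lit 0x180300a891))) (.node 1 (.leaf (nat_lit 0x180500a891)) (.leaf (nat_lit 0x180600a8a1)))) (.node 2 (.node 1 (.leaf (nat_lit 0x180300a8b1)) (.leaf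 (nat_lit 0x180500a8b1))) (.node 1 (.leaf (nat_lit 0x180500a8c1)) (.leaf (nat_lit 0x180700a8c1)))))) (.node 8 (.node 4 (.node 2 (.node 1 (.leaf (nat_lit 0x180600a8d1)) (.leaf (nat_lit 0x1c0800a951))) (.node 1 (.leaf (nat_lit 0x180300a8f1)) (.leaf (nat_lit 0x180500a8f1)))) (.node 2 (.node 1 (.leaf (nat_lit 0x180200a901)) (.leaf (nat_lit 0x180500a901))) (.node 1 (.leaf (nat_lit 0x180700a901)) (.leaf (nat_lit 0x180600a911))))) (.node 4 (.node 2 (.node 1 (.leaf (nat_lit 0x180400a921)) (.leaf (nat_lit 0x180600a921))) (.node 1 (.leaf (nat_lit 0x180700a921)) (.leaf (nat_lit 0x180800a931)))) (.node 2 (.node 1 (.leaf (nat_lit 0x1c01011ff1)) (.leaf (nat_lit 0x180500a961))) (.node 1 (.leaf (nat_lit 0x180700a961)) (.leaf (nat_lit 0x180600a971))))))))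

noncomputable def oT28 : Tree :=
  .node 64 (.node 32 (.node 16 (.node 8 (.node 4 (.node 2 (.node 1 (.leaf (nat_lit 0x1e05011eb1)) (.leaf (nat_lit 0x180200a991))) (.node 1 (.leaf (nat_lit 0x180500a991)) (.leaf (nat_lit 0x180700a991)))) (.node 2 (.node 1 (.leaf (nat_lit 0x180600a9a1)) (.leaf (nat_lit 0x180400a9b1))) (.node 1 (.leaf (nat_lit 0x180600a9b1)) (.leaf (nat_lit 0x180700a9b1))))) (.node 4 (.node 2 (.node 1 (.leaf (nat_lit 0x180800a9c1)) (.leaf (nat_lit 0x1e07012091))) (.node 1 (.leaf (nat_lit 0x180200a9f1)) (.leaf (nat_lit 0x180500a9f1)))) (.node 2 (.node 1 (.leaf (nat_lit 0x180700a9f1)) (.leaf (nat_lit 0x180600aa01))) (.node 1 (.leaf (nat_lit 0x180500aa11)) (.leaf (nat_lit 0x180700aa11)))))) (.node 8 (.node 4 (.node 2 (.node 1 (.leaf (nat_lit 0x180400aa21)) (.leaf (nat_lit 0x180600aa21))) (.node 1 (.leaf (nat_lit 0x180700aa21)) (.leaf (nat_lit 0x180800aa31)))) (.node 2 (.node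 1 (.leaf (nat_lit 0x1c0200ba31)) (.leaf (nat_lit 0x180600aa51))) (.node 1 (.leaf (nat_lit 0x180700aa51)) (.leaf (nat_lit 0x1e01012251))))) (.node 4 (.node 2 (.node 1 (.leaf (nat_lit 0x180700aa61)) (.leaf (nat_lit 0x180800aa71))) (.node 1 (.leaf (nat_lit 0xd0400aaa2)) (.leaf (nat_lit 0xd0300aab2)))) (.node 2 (.node 1 (.leaf (nat_lit 0xd0500aab2)) (.leaf (nat_lit 0xd0500aac2))) (.node 1 (.leaf (nat_lit 0xd0700aac2)) (.leaf (nat_lit 0xd0600aad2))))))) (.node 16 (.node 8 (.node 4 (.node 2 (.node 1 (.leaf (nat_lit 0x1c0800ab51)) (.leaf (nat_lit 0xd0300aaf2))) (.node 1 (.leaf (nat_lit 0xd0500aaf2)) (.leaf (nat_lit 0xd0200ab02)))) (.node 2 (.node 1 (.leaf (nat_lit 0xd0500ab02)) (.leaf (nat_lit 0xd0700ab02))) (.node 1 (.leaf (nat_lit 0xd0600ab12)) (.leaf (nat_lit 0xd0400ab22))))) (.node 4 (.node 2 (.node 1 (.leaf (nat_lit 0xd0600ab22)) (.leaf (nat_lit 0xd0700ab22))) (.node 1 (.leaf (nat_lit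 0xd0800ab32)) (.leaf (nat_lit 0x1c01012441)))) (.node 2 (.node 1 (.leaf (nat_lit 0x180300ab61)) (.leaf (nat_lit 0x180500ab61))) (.node 1 (.leaf (nat_lit 0x180200ab71)) (.leaf (nat_lit 0x180500ab71)))))) (.node 8 (.node 4 (.node 2 (.node 1 (.leaf (nat_lit 0x180700ab71)) (.leaf (nat_lit 0x180600ab81))) (.node 1 (.leaf (nat_lit 0x180400ab91)) (.leaf (nat_lit 0x180600ab91)))) (.node 2 (.node 1 (.leaf (nat_lit 0x180700ab91)) (.leaf (nat_lit 0x180800aba1))) (.node 1 (.leaf (nat_lit 0x1e0800ac71)) (.leaf (nat_lit 0x180200abd1))))) (.node 4 (.node 2 (.node 1 (.leaf (nat_lit 0x180500abd1)) (.leaf (nat_lit 0x180700abd1))) (.node 1 (.leaf (nat_lit 0x180600abe1)) (.leaf (nat_lit 0x180500abf1)))) (.node 2 (.node 1 (.leaf (nat_lit 0x180700abf1)) (.leaf (nat_lit 0x180400ac01))) (.node 1 (.leaf (nat_lit 0x180600ac01)) (.leaf (nat_lit 0x180700ac01)))))))) (.node 32 (.node 16 (.node 8 (.node 4 (.node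 2 (.node 1 (.leaf (nat_lit 0x180800ac11)) (.leaf (nat_lit 0x1c0200bce1))) (.node 1 (.leaf (nat_lit 0x180600ac31)) (.leaf (nat_lit 0x180700ac31)))) (.node 2 (.node 1 (.leaf (nat_lit 0x1e01012691)) (.leaf (nat_lit 0x180700ac41))) (.node 1 (.leaf (nat_lit 0x180800ac51)) (.leaf (nat_lit 0x180200ac81))))) (.node 4 (.node 2 (.node 1 (.leaf (nat_lit 0x180500ac81)) (.leaf (nat_lit 0x180700ac81))) (.node 1 (.leaf (nat_lit 0x180600ac91)) (.leaf (nat_lit 0x180500aca1)))) (.node 2 (.node 1 (.leaf (nat_lit 0x180700aca1)) (.leaf (nat_lit 0x180400acb1))) (.node 1 (.leaf (nat_lit 0x180600acb1)) (.leaf (nat_lit 0x180700acb1)))))) (.node 8 (.node 4 (.node 2 (.node 1 (.leaf (nat_lit 0x180800acc1)) (.leaf (nat_lit 0x1e0800add1))) (.node 1 (.leaf (nat_lit 0x180600ace1)) (.leaf (nat_lit 0x180700ace1)))) (.node 2 (.node 1 (.leaf (nat_lit 0x2002012131)) (.leaf (nat_lit 0x180700acf1))) (.node 1 (.leaf (nat_lit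 0x180800ad01)) (.leaf (nat_lit 0x180100ad31))))) (.node 4 (.node 2 (.node 1 (.leaf (nat_lit 0x180500ad31)) (.leaf (nat_lit 0x180700ad31))) (.node 1 (.leaf (nat_lit 0x180400ad41)) (.leaf (nat_lit 0x180600ad41)))) (.node 2 (.node 1 (.leaf (nat_lit 0x180700ad41)) (.leaf (nat_lit 0x180800ad51))) (.node 1 (.leaf (nat_lit 0x1e0200be51)) (.leaf (nat_lit 0x180400ad71))))))) (.node 16 (.node 8 (.node 4 (.node 2 (.node 1 (.leaf (nat_lit 0x180600ad71)) (.leaf (nat_lit 0x180700ad71))) (.node 1 (.leaf (nat_lit 0x180300ad81)) (.leaf (nat_lit 0x180800ad81)))) (.node 2 (.node 1 (.leaf (nat_lit 0x180600ad91)) (.leaf (nat_lit 0x180700ad91))) (.node 1 (.leaf (nat_lit 0x1e02012991)) (.leaf (nat_lit 0x180700ada1))))) (.node 4 (.node 2 (.node 1 (.leaf (nat_lit 0x180800adb1)) (.leaf (nat_lit 0x180500ade1))) (.node 1 (.leaf (nat_lit 0x1e0300afd1)) (.leaf (nat_lit 0x180700ade1)))) (.node 2 (.node 1 (.leaf (nat_lit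 0x180300adf1)) (.leaf (nat_lit 0x180800adf1))) (.node 1 (.leaf (nat_lit 0x1e04012a81)) (.leaf (nat_lit 0x180800ae11)))))) (.node 8 (.node 4 (.node 2 (.node 1 (.leaf (nat_lit 0x180400ae31)) (.leaf (nat_lit 0x180600ae31))) (.node 1 (.leaf (nat_lit 0x1e040127a1)) (.leaf (nat_lit 0x180400ae51)))) (.node 2 (.node 1 (.leaf (nat_lit 0x180600ae51)) (.leaf (nat_lit 0x180600ae61))) (.node 1 (.leaf (nat_lit 0x180700ae61)) (.leaf (nat_lit 0x1e07012b71))))) (.node 4 (.node 2 (.node 1 (.leaf (nat_lit 0x180700ae71)) (.leaf (nat_lit 0x180500aea1))) (.node 1 (.leaf (nat_lit 0x1e07012ba1)) (.leaf (nat_lit 0x180700aea1)))) (.node 2 (.node 1 (.leaf (nat_lit 0x180300aeb1)) (.leaf (nat_lit 0x180800aeb1))) (.node 1 (.leaf (nat_lit 0x1c08012bf1)) (.leaf (nat_lit 0x180800aed1))))))))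

noncomputable def oT29 : Tree :=
  .node 64 (.node 32 (.node 16 (.node 8 (.node 4 (.node 2 (.node 1 (.leaf (nat_lit 0x180400aef1)) (.leaf (nat_lit 0x180600aef1))) (.node 1 (.leaf (nat_lit 0x180600af01)) (.leaf (nat_lit 0x180700af01)))) (.node 2 (.node 1 (.leaf (nat_lit 0x1e07012c71)) (.leaf (nat_lit 0x180700af11))) (.node 1 (.leaf (nat_lit 0x180300af41)) (.leaf (nat_lit 0x180600af41))))) (.node 4 (.node 2 (.node 1 (.leaf (nat_lit 0x180700af41)) (.leaf (nat_lit 0x1e07012ce1))) (.node 1 (.leaf (nat_lit 0x180700af51)) (.leaf (nat_lit 0x180500af71)))) (.node 2 (.node 1 (.leaf (nat_lit 0x1e07012d11)) (.leaf (nat_lit 0x180700af71))) (.node 1 (.leaf (nat_lit 0x180300af81)) (.leaf (nat_lit 0x180800af81)))))) (.node 8 (.node 4 (.node 2 (.node 1 (.leaf (nat_lit 0x1c08012d61)) (.leaf (nat_lit 0x180800afa1))) (.node 1 (.leaf (nat_lit 0x1e07012d81)) (.leaf (nat_lit 0x180700afc1)))) (.node 2 (.node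 1 (.leaf (nat_lit 0x1c08012dc1)) (.leaf (nat_lit 0x180300afe1))) (.node 1 (.leaf (nat_lit 0x180800afe1)) (.leaf (nat_lit 0x180200aff1))))) (.node 4 (.node 2 (.node 1 (.leaf (nat_lit 0x180800aff1)) (.leaf (nat_lit 0x1a0300b491))) (.node 1 (.leaf (nat_lit 0xd0200b032)) (.leaf (nat_lit 0xd0500b032)))) (.node 2 (.node 1 (.leaf (nat_lit 0xd0700b032)) (.leaf (nat_lit 0xd0600b042))) (.node 1 (.leaf (nat_lit 0xd0500b052)) (.leaf (nat_lit 0xd0700b052))))))) (.node 16 (.node 8 (.node 4 (.node 2 (.node 1 (.leaf (nat_lit 0xd0400b062)) (.leaf (nat_lit 0xd0600b062))) (.node 1 (.leaf (nat_lit 0xd0700b062)) (.leaf (nat_lit 0xd0800b072)))) (.node 2 (.node 1 (.leaf (nat_lit 0x1c0200c181)) (.leaf (nat_lit 0xd0600b092))) (.node 1 (.leaf (nat_lit 0xd0700b092)) (.leaf (nat_lit 0x1e04012f41))))) (.node 4 (.node 2 (.node 1 (.leaf (nat_lit 0xd0700b0a2)) (.leaf (nat_lit 0xd0800b0b2))) (.node 1 (.leaf (nat_lit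 0x180500b0e1)) (.leaf (nat_lit 0x180700b0e1)))) (.node 2 (.node 1 (.leaf (nat_lit 0x180400b0f1)) (.leaf (nat_lit 0x180600b0f1))) (.node 1 (.leaf (nat_lit 0x180700b0f1)) (.leaf (nat_lit 0x180800b101)))))) (.node 8 (.node 4 (.node 2 (.node 1 (.leaf (nat_lit 0x1e06012e81)) (.leaf (nat_lit 0x180400b121))) (.node 1 (.leaf (nat_lit 0x180600b121)) (.leaf (nat_lit 0x180700b121)))) (.node 2 (.node 1 (.leaf (nat_lit 0x180300b131)) (.leaf (nat_lit 0x180800b131))) (.node 1 (.leaf (nat_lit 0x180600b141)) (.leaf (nat_lit 0x180700b141))))) (.node 4 (.node 2 (.node 1 (.leaf (nat_lit 0x1e06012f01)) (.leaf (nat_lit 0x180700b151))) (.node 1 (.leaf (nat_lit 0x180800b161)) (.leaf (nat_lit 0x180500b191)))) (.node 2 (.node 1 (.leaf (nat_lit 0x1c05013131)) (.leaf (nat_lit 0x180700b191))) (.node 1 (.leaf (nat_lit 0x180300b1a1)) (.leaf (nat_lit 0x180800b1a1)))))))) (.node 32 (.node 16 (.node 8 (.node 4 (.node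 2 (.node 1 (.leaf (nat_lit 0x1e0500b341)) (.leaf (nat_lit 0x180800b1c1))) (.node 1 (.leaf (nat_lit 0x180400b1e1)) (.leaf (nat_lit 0x180600b1e1)))) (.node 2 (.node 1 (.leaf (nat_lit 0x180700b1e1)) (.leaf (nat_lit 0x180800b1f1))) (.node 1 (.leaf (nat_lit 0x180600b201)) (.leaf (nat_lit 0x180700b201))))) (.node 4 (.node 2 (.node 1 (.leaf (nat_lit 0x1e05013001)) (.leaf (nat_lit 0x180700b211))) (.node 1 (.leaf (nat_lit 0x180800b221)) (.leaf (nat_lit 0x180600b251)))) (.node 2 (.node 1 (.leaf (nat_lit 0x180700b251)) (.leaf (nat_lit 0x1e05013061))) (.node 1 (.leaf (nat_lit 0x180700b261)) (.leaf (nat_lit 0x180300b271)))))) (.node 8 (.node 4 (.node 2 (.node 1 (.leaf (nat_lit 0x180800b271)) (.leaf (nat_lit 0x180400b281))) (.node 1 (.leaf (nat_lit 0x180800b281)) (.leaf (nat_lit 0x180500b2a1)))) (.node 2 (.node 1 (.leaf (nat_lit 0x1c0300b3c1)) (.leaf (nat_lit 0x180700b2a1))) (.node 1 (.leaf (nat_lit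 0x180300b2b1)) (.leaf (nat_lit 0x180800b2b1))))) (.node 4 (.node 2 (.node 1 (.leaf (nat_lit 0x1e04013351)) (.leaf (nat_lit 0x180800b2d1))) (.node 1 (.leaf (nat_lit 0x1a0300b421)) (.leaf (nat_lit 0x180700b2f1)))) (.node 2 (.node 1 (.leaf (nat_lit 0x1c030133f1)) (.leaf (nat_lit 0x180300b311))) (.node 1 (.leaf (nat_lit 0x180800b311)) (.leaf (nat_lit 0x180200b321))))))) (.node 16 (.node 8 (.node 4 (.node 2 (.node 1 (.leaf (nat_lit 0x180800b321)) (.leaf (nat_lit 0x1e04013401))) (.node 1 (.leaf (nat_lit 0x180500b361)) (.leaf (nat_lit 0x1c07013481)))) (.node 2 (.node 1 (.leaf (nat_lit 0x180700b361)) (.leaf (nat_lit 0x180300b371))) (.node 1 (.leaf (nat_lit 0x180800b371)) (.leaf (nat_lit 0x1c080134d1))))) (.node 4 (.node 2 (.node 1 (.leaf (nat_lit 0x180800b391)) (.leaf (nat_lit 0x1a070134f1))) (.node 1 (.leaf (nat_lit 0x180700b3b1)) (.leaf (nat_lit 0x1a08013531)))) (.node 2 (.node 1 (.leaf (nat_lit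 0x180300b3d1)) (.leaf (nat_lit 0x180800b3d1))) (.node 1 (.leaf (nat_lit 0x180200b3e1)) (.leaf (nat_lit 0x180800b3e1)))))) (.node 8 (.node 4 (.node 2 (.node 1 (.leaf (nat_lit 0x1a04013531)) (.leaf (nat_lit 0x180700b501))) (.node 1 (.leaf (nat_lit 0x180800b4e1)) (.leaf (nat_lit 0x180300b431)))) (.node 2 (.node 1 (.leaf (nat_lit 0x180800b431)) (.leaf (nat_lit 0x1a080135a1))) (.node 1 (.leaf (nat_lit 0x180200b4c1)) (.leaf (nat_lit 0x180200b451))))) (.node 4 (.node 2 (.node 1 (.leaf (nat_lit 0x180800b451)) (.leaf (nat_lit 0x180100b471))) (.node 1 (.leaf (nat_lit 0x180800b471)) (.leaf (nat_lit 0x180700b481)))) (.node 2 (.node 1 (.leaf (nat_lit 0x180100b4e1)) (.leaf (nat_lit 0x180000b4f1))) (.node 1 (.leaf (nat_lit 0x180800b4f1)) (.leaf (nat_lit 0xd0500b512))))))))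

noncomputable def oT30 : Tree :=
  .node 64 (.node 32 (.node 16 (.node 8 (.node 4 (.node 2 (.node 1 (.leaf (nat_lit 0xd0700b512)) (.leaf (nat_lit 0xd0800b512))) (.node 1 (.leaf (nat_lit 0xd0800b522)) (.leaf (nat_lit 0xd0700b542)))) (.node 2 (.node 1 (.leaf (nat_lit 0xd0300b552)) (.leaf (nat_lit 0xd0400b562))) (.node 1 (.leaf (nat_lit 0xd0100b572)) (.leaf (nat_lit 0xd0400b572))))) (.node 4 (.node 2 (.node 1 (.leaf (nat_lit 0xd0500b582)) (.leaf (nat_lit 0xd0000b592))) (.node 1 (.leaf (nat_lit 0xd0400b592)) (.leaf (nat_lit 0xd0300b5a2)))) (.node 2 (.node 1 (.leaf (nat_lit 0xd0500b5a2)) (.leaf (nat_lit 0xd0600b5b2))) (.node 1 (.leaf (nat_lit 0xd0400b5e2)) (.leaf (nat_lit 0xd0500b5f2)))))) (.node 8 (.node 4 (.node 2 (.node 1 (.leaf (nat_lit 0xd0400b602)) (.leaf (nat_lit 0xd0300b612))) (.node 1 (.leaf (nat_lit 0xd0500b612)) (.leaf (nat_lit 0xd0600b622)))) (.node 2 (.node 1 (.leaf (nat_lit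 0xd0400b632)) (.leaf (nat_lit 0xd0300b642))) (.node 1 (.leaf (nat_lit 0xd0500b642)) (.leaf (nat_lit 0xd0500b652))))) (.node 4 (.node 2 (.node 1 (.leaf (nat_lit 0xd0700b652)) (.leaf (nat_lit 0xd0600b662))) (.node 1 (.leaf (nat_lit 0x180200c2c1)) (.leaf (nat_lit 0x180500b681)))) (.node 2 (.node 1 (.leaf (nat_lit 0x180600b691)) (.leaf (nat_lit 0x180300b6a1))) (.node 1 (.leaf (nat_lit 0x180500b6a1)) (.leaf (nat_lit 0x180500b6b1))))))) (.node 16 (.node 8 (.node 4 (.node 2 (.node 1 (.leaf (nat_lit 0x180600b6c1)) (.leaf (nat_lit 0x1a0800b741))) (.node 1 (.leaf (nat_lit 0x180300b6e1)) (.leaf (nat_lit 0x180500b6e1)))) (.node 2 (.node 1 (.leaf (nat_lit 0x180200b6f1)) (.leaf (nat_lit 0x180500b6f1))) (.node 1 (.leaf (nat_lit 0x180700b6f1)) (.leaf (nat_lit 0x180600b701))))) (.node 4 (.node 2 (.node 1 (.leaf (nat_lit 0x180400b711)) (.leaf (nat_lit 0x180600b711))) (.node 1 (.leaf (nat_lit 0x180700b711))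 (.leaf (nat_lit 0x180300c2b1)))) (.node 2 (.node 1 (.leaf (nat_lit 0xd0600b752)) (.leaf (nat_lit 0xd0300b762))) (.node 1 (.leaf (nat_lit 0xd0500b762)) (.leaf (nat_lit 0xd0500b772)))))) (.node 8 (.node 4 (.node 2 (.node 1 (.leaf (nat_lit 0xd0600b782)) (.leaf (nat_lit 0x1a0800b801))) (.node 1 (.leaf (nat_lit 0xd0300b7a2)) (.leaf (nat_lit 0xd0500b7a2)))) (.node 2 (.node 1 (.leaf (nat_lit 0xd0200b7b2)) (.leaf (nat_lit 0xd0500b7b2))) (.node 1 (.leaf (nat_lit 0xd0700b7b2)) (.leaf (nat_lit 0xd0600b7c2))))) (.node 4 (.node 2 (.node 1 (.leaf (nat_lit 0xd0400b7d2)) (.leaf (nat_lit 0xd0600b7d2))) (.node 1 (.leaf (nat_lit 0xd0700b7d2)) (.leaf (nat_lit 0xd0800b7e2)))) (.node 2 (.node 1 (.leaf (nat_lit 0x180300bd01)) (.leaf (nat_lit 0x1c0700b861))) (.node 1 (.leaf (nat_lit 0x180200b821)) (.leaf (nat_lit 0x180500b821)))))))) (.node 32 (.node 16 (.node 8 (.node 4 (.node 2 (.node 1 (.leaf (nat_lit 0x180600b831))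 (.leaf (nat_lit 0x180400b841))) (.node 1 (.leaf (nat_lit 0x180600b841)) (.leaf (nat_lit 0x1a0800b911)))) (.node 2 (.node 1 (.leaf (nat_lit 0x180200b871)) (.leaf (nat_lit 0x180500b871))) (.node 1 (.leaf (nat_lit 0x180700b871)) (.leaf (nat_lit 0x180600b881))))) (.node 4 (.node 2 (.node 1 (.leaf (nat_lit 0x180500b891)) (.leaf (nat_lit 0x180700b891))) (.node 1 (.leaf (nat_lit 0x180400b8a1)) (.leaf (nat_lit 0x180600b8a1)))) (.node 2 (.node 1 (.leaf (nat_lit 0x180700b8a1)) (.leaf (nat_lit 0x180800b8b1))) (.node 1 (.leaf (nat_lit 0x1a03013b61)) (.leaf (nat_lit 0x180600b8d1)))))) (.node 8 (.node 4 (.node 2 (.node 1 (.leaf (nat_lit 0x180700b8d1)) (.leaf (nat_lit 0x180700bcf1))) (.node 1 (.leaf (nat_lit 0x180700b8e1)) (.leaf (nat_lit 0x180800b8f1)))) (.node 2 (.node 1 (.leaf (nat_lit 0x180500b931)) (.leaf (nat_lit 0x180400b941))) (.node 1 (.leaf (nat_lit 0x180600b941)) (.leaf (nat_lit 0x1c05013a61)))))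 (.node 4 (.node 2 (.node 1 (.leaf (nat_lit 0x180600b961)) (.leaf (nat_lit 0x1a0800ba61))) (.node 1 (.leaf (nat_lit 0x180100b991)) (.leaf (nat_lit 0x180500b991)))) (.node 2 (.node 1 (.leaf (nat_lit 0x180700b991)) (.leaf (nat_lit 0x180400b9a1))) (.node 1 (.leaf (nat_lit 0x180600b9a1)) (.leaf (nat_lit 0x180700b9a1))))))) (.node 16 (.node 8 (.node 4 (.node 2 (.node 1 (.leaf (nat_lit 0x1c05013af1)) (.leaf (nat_lit 0x180400b9d1))) (.node 1 (.leaf (nat_lit 0x180600b9d1)) (.leaf (nat_lit 0x180700b9d1)))) (.node 2 (.node 1 (.leaf (nat_lit 0x180300b9e1)) (.leaf (nat_lit 0x180600b9f1))) (.node 1 (.leaf (nat_lit 0x180700b9f1)) (.leaf (nat_lit 0x1a07013d51))))) (.node 4 (.node 2 (.node 1 (.leaf (nat_lit 0x180700ba01)) (.leaf (nat_lit 0x180800ba11))) (.node 1 (.leaf (nat_lit 0x180500ba41)) (.leaf (nat_lit 0x180700bee1)))) (.node 2 (.node 1 (.leaf (nat_lit 0x180700ba41)) (.leaf (nat_lit 0x180300ba51)))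 (.node 1 (.leaf (nat_lit 0x180800ba51)) (.leaf (nat_lit 0x180500bcf1)))))) (.node 8 (.node 4 (.node 2 (.node 1 (.leaf (nat_lit 0x180800ba71)) (.leaf (nat_lit 0xd0300ba92))) (.node 1 (.leaf (nat_lit 0xd0500ba92)) (.leaf (nat_lit 0xd0200baa2)))) (.node 2 (.node 1 (.leaf (nat_lit 0xd0500baa2)) (.leaf (nat_lit 0xd0700baa2))) (.node 1 (.leaf (nat_lit 0xd0600bab2)) (.leaf (nat_lit 0xd0400bac2))))) (.node 4 (.node 2 (.node 1 (.leaf (nat_lit 0xd0600bac2)) (.leaf (nat_lit 0xd0700bac2))) (.node 1 (.leaf (nat_lit 0xd0800bad2)) (.leaf (nat_lit 0x1a0800bba1)))) (.node 2 (.node 1 (.leaf (nat_lit 0xd0200bb02)) (.leaf (nat_lit 0xd0500bb02))) (.node 1 (.leaf (nat_lit 0xd0600bb12)) (.leaf (nat_lit 0xd0500bb22))))))))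

noncomputable def oT31 : Tree :=
  .node 64 (.node 32 (.node 16 (.node 8 (.node 4 (.node 2 (.node 1 (.leaf (nat_lit 0xd0700bb22)) (.leaf (nat_lit 0xd0400bb32))) (.node 1 (.leaf (nat_lit 0xd0600bb32)) (.leaf (nat_lit 0xd0700bb32)))) (.node 2 (.node 1 (.leaf (nat_lit 0x1a03013b51)) (.leaf (nat_lit 0xd0800bb82))) (.node 1 (.leaf (nat_lit 0x180200bbb1)) (.leaf (nat_lit 0x180500bbb1))))) (.node 4 (.node 2 (.node 1 (.leaf (nat_lit 0x180600bbc1)) (.leaf (nat_lit 0x180500bbd1))) (.node 1 (.leaf (nat_lit 0x180700bbd1)) (.leaf (nat_lit 0x180400bbe1)))) (.node 2 (.node 1 (.leaf (nat_lit 0x180600bbe1)) (.leaf (nat_lit 0x180700bbe1))) (.node 1 (.leaf (nat_lit 0x1c0800bce1)) (.leaf (nat_lit 0x180600bc11)))))) (.node 8 (.node 4 (.node 2 (.node 1 (.leaf (nat_lit 0x180700bc11)) (.leaf (nat_lit 0x1a0800bd11))) (.node 1 (.leaf (nat_lit 0x180700bc21)) (.leaf (nat_lit 0x180800bc31)))) (.node 2 (.node 1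 (.leaf (nat_lit 0x180500bc61)) (.leaf (nat_lit 0x180400bc71))) (.node 1 (.leaf (nat_lit 0x180600bc71)) (.leaf (nat_lit 0x1c03014011))))) (.node 4 (.node 2 (.node 1 (.leaf (nat_lit 0x180400bc91)) (.leaf (nat_lit 0x180600bc91))) (.node 1 (.leaf (nat_lit 0x180700bc91)) (.leaf (nat_lit 0x180300bca1)))) (.node 2 (.node 1 (.leaf (nat_lit 0x180600bcb1)) (.leaf (nat_lit 0x180700bcb1))) (.node 1 (.leaf (nat_lit 0x1a07013b41)) (.leaf (nat_lit 0x180700bcc1))))))) (.node 16 (.node 8 (.node 4 (.node 2 (.node 1 (.leaf (nat_lit 0x180800bd01)) (.leaf (nat_lit 0x180800bd21))) (.node 1 (.leaf (nat_lit 0x180500bd41)) (.leaf (nat_lit 0x180400bd51)))) (.node 2 (.node 1 (.leaf (nat_lit 0x180600bd51)) (.leaf (nat_lit 0x1c030140c1))) (.node 1 (.leaf (nat_lit 0x180400bd71)) (.leaf (nat_lit 0x180600bd71))))) (.node 4 (.node 2 (.node 1 (.leaf (nat_lit 0x180700bd71)) (.leaf (nat_lit 0x180600bd91))) (.node 1 (.leaf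 (nat_lit 0x180700bd91)) (.leaf (nat_lit 0x1c0800bec1)))) (.node 2 (.node 1 (.leaf (nat_lit 0x180700bda1)) (.leaf (nat_lit 0x180500bdd1))) (.node 1 (.leaf (nat_lit 0x1a0800bef1)) (.leaf (nat_lit 0x180700bdd1)))))) (.node 8 (.node 4 (.node 2 (.node 1 (.leaf (nat_lit 0x180300bde1)) (.leaf (nat_lit 0x180800bde1))) (.node 1 (.leaf (nat_lit 0x1a05013fc1)) (.leaf (nat_lit 0x180800be01)))) (.node 2 (.node 1 (.leaf (nat_lit 0x180400be21)) (.leaf (nat_lit 0x180600be21))) (.node 1 (.leaf (nat_lit 0x180600be31)) (.leaf (nat_lit 0x1c07013be1))))) (.node 4 (.node 2 (.node 1 (.leaf (nat_lit 0x180300be61)) (.leaf (nat_lit 0x180600be61))) (.node 1 (.leaf (nat_lit 0x180700be61)) (.leaf (nat_lit 0x1c07014281)))) (.node 2 (.node 1 (.leaf (nat_lit 0x180700be71)) (.leaf (nat_lit 0x180300be81))) (.node 1 (.leaf (nat_lit 0x180400be91)) (.leaf (nat_lit 0x180500bea1)))))))) (.node 32 (.node 16 (.node 8 (.node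 4 (.node 2 (.node 1 (.leaf (nat_lit 0x1a07013d01)) (.leaf (nat_lit 0x180700bea1))) (.node 1 (.leaf (nat_lit 0x1a05013b41)) (.leaf (nat_lit 0x180800bf01)))) (.node 2 (.node 1 (.leaf (nat_lit 0x1a05013a71)) (.leaf (nat_lit 0x180400bf41))) (.node 1 (.leaf (nat_lit 0x180600bf41)) (.leaf (nat_lit 0x180600bf51))))) (.node 4 (.node 2 (.node 1 (.leaf (nat_lit 0x180700bf51)) (.leaf (nat_lit 0x1c04014301))) (.node 1 (.leaf (nat_lit 0x180700bf61)) (.leaf (nat_lit 0x180300bf91)))) (.node 2 (.node 1 (.leaf (nat_lit 0x180600bf91)) (.leaf (nat_lit 0x180700bf91))) (.node 1 (.leaf (nat_lit 0x1e0800c0c1)) (.leaf (nat_lit 0x180700bfa1)))))) (.node 8 (.node 4 (.node 2 (.node 1 (.leaf (nat_lit 0x180500bfc1)) (.leaf (nat_lit 0x1c0800c0e1))) (.node 1 (.leaf (nat_lit 0x180700bfc1)) (.leaf (nat_lit 0x180300bfd1)))) (.node 2 (.node 1 (.leaf (nat_lit 0x1c040143d1)) (.leaf (nat_lit 0x1a0800c0f1))) (.node 1 (.leaf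 (nat_lit 0x180700c001)) (.leaf (nat_lit 0x1a03014421))))) (.node 4 (.node 2 (.node 1 (.leaf (nat_lit 0x180300c021)) (.leaf (nat_lit 0x180200c031))) (.node 1 (.leaf (nat_lit 0x180400c051)) (.leaf (nat_lit 0x180600c051)))) (.node 2 (.node 1 (.leaf (nat_lit 0x180300c061)) (.leaf (nat_lit 0x180600c061))) (.node 1 (.leaf (nat_lit 0x1e040144b1)) (.leaf (nat_lit 0x180500c081))))))) (.node 16 (.node 8 (.node 4 (.node 2 (.node 1 (.leaf (nat_lit 0x1c03014211)) (.leaf (nat_lit 0x180600c0a1))) (.node 1 (.leaf (nat_lit 0x180700c0a1)) (.leaf (nat_lit 0x180500c0b1)))) (.node 2 (.node 1 (.leaf (nat_lit 0x1c0200c0e1)) (.leaf (nat_lit 0x1a03013d21))) (.node 1 (.leaf (nat_lit 0xd0500c102)) (.leaf (nat_lit 0xd0400c112))))) (.node 4 (.node 2 (.node 1 (.leaf (nat_lit 0xd0600c112)) (.leaf (nat_lit 0x1c03014551))) (.node 1 (.leaf (nat_lit 0xd0400c132)) (.leaf (nat_lit 0xd0600c132)))) (.node 2 (.node 1 (.leaf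 (nat_lit 0xd0700c132)) (.leaf (nat_lit 0xd0300c142))) (.node 1 (.leaf (nat_lit 0xd0600c152)) (.leaf (nat_lit 0xd0700c152)))))) (.node 8 (.node 4 (.node 2 (.node 1 (.leaf (nat_lit 0x1a070138c1)) (.leaf (nat_lit 0xd0700c162))) (.node 1 (.leaf (nat_lit 0xd0800c1a2)) (.leaf (nat_lit 0xd0800c1c2)))) (.node 2 (.node 1 (.leaf (nat_lit 0x180400c1e1)) (.leaf (nat_lit 0x180600c1e1))) (.node 1 (.leaf (nat_lit 0x180600c1f1)) (.leaf (nat_lit 0x1c07013a61))))) (.node 4 (.node 2 (.node 1 (.leaf (nat_lit 0x180300c221)) (.leaf (nat_lit 0x180600c221))) (.node 1 (.leaf (nat_lit 0x180700c221)) (.leaf (nat_lit 0x1c07014661)))) (.node 2 (.node 1 (.leaf (nat_lit 0x180700c231)) (.leaf (nat_lit 0x180300c241))) (.node 1 (.leaf (nat_lit 0x180400c251)) (.leaf (nat_lit 0x1a070138d1))))))))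

noncomputable def oT32 : Tree :=
  .node 64 (.node 32 (.node 16 (.node 8 (.node 4 (.node 2 (.node 1 (.leaf (nat_lit 0x180700c261)) (.leaf (nat_lit 0x180300c271))) (.node 1 (.leaf (nat_lit 0x1a060138c1)) (.leaf (nat_lit 0x180800c2b1)))) (.node 2 (.node 1 (.leaf (nat_lit 0x180800c2c1)) (.leaf (nat_lit 0x1a06013831))) (.node 1 (.leaf (nat_lit 0x1e050145f1)) (.leaf (nat_lit 0x1c05014661))))) (.node 4 (.node 2 (.node 1 (.leaf (nat_lit 0x180300c331)) (.leaf (nat_lit 0x180400c341))) (.node 1 (.leaf (nat_lit 0x180500c351)) (.leaf (nat_lit 0xd0400c382)))) (.node 2 (.node 1 (.leaf (nat_lit 0xd0600c382)) (.leaf (nat_lit 0xd0600c392))) (.node 1 (.leaf (nat_lit 0xd0300c3b2)) (.leaf (nat_lit 0xd0600c3b2)))))) (.node 8 (.node 4 (.node 2 (.node 1 (.leaf (nat_lit 0xd0700c3b2)) (.leaf (nat_lit 0xd0700c3c2))) (.node 1 (.leaf (nat_lit 0xd0300c3d2)) (.leaf (nat_lit 0xd0400c3e2)))) (.node 2 (.node 1 (.leaf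 (nat_lit 0xd0500c3f2)) (.leaf (nat_lit 0xd0700c3f2))) (.node 1 (.leaf (nat_lit 0xd0300c402)) (.leaf (nat_lit 0xd0800c432))))) (.node 4 (.node 2 (.node 1 (.leaf (nat_lit 0xd0800c442)) (.leaf (nat_lit 0x180300c471))) (.node 1 (.leaf (nat_lit 0x180700c481)) (.leaf (nat_lit 0x180300c491)))) (.node 2 (.node 1 (.leaf (nat_lit 0x180400c4a1)) (.leaf (nat_lit 0x180500c4b1))) (.node 1 (.leaf (nat_lit 0x180200c4c1)) (.leaf (nat_lit 0x180100c4d1))))))) (.node 16 (.node 8 (.node 4 (.node 2 (.node 1 (.leaf (nat_lit 0x180800c4d1)) (.leaf (nat_lit 0x180700c4e1))) (.node 1 (.leaf (nat_lit 0x180600c4f1)) (.leaf (nat_lit 0xd0200c502)))) (.node 2 (.node 1 (.leaf (nat_lit 0xd0500c502)) (.leaf (nat_lit 0xd0700c502))) (.node 1 (.leaf (nat_lit 0xd0400c522)) (.leaf (nat_lit 0xd0700c522))))) (.node 4 (.node 2 (.node 1 (.leaf (nat_lit 0xd0800c522)) (.leaf (nat_lit 0xd0300c562))) (.node 1 (.leaf (nat_lit 0xd0400c572))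 (.leaf (nat_lit 0xd0500c582)))) (.node 2 (.node 1 (.leaf (nat_lit 0xd0300c592)) (.leaf (nat_lit 0xd0500c592))) (.node 1 (.leaf (nat_lit 0xd0600c5a2)) (.leaf (nat_lit 0xd0700c5f2)))))) (.node 8 (.node 4 (.node 2 (.node 1 (.leaf (nat_lit 0xd0500c612)) (.leaf (nat_lit 0xd0600c622))) (.node 1 (.leaf (nat_lit 0xd0500c632)) (.leaf (nat_lit 0xd0600c642)))) (.node 2 (.node 1 (.leaf (nat_lit 0x180500c721)) (.leaf (nat_lit 0xd0700c662))) (.node 1 (.leaf (nat_lit 0x180300c6c1)) (.leaf (nat_lit 0x180600c6d1))))) (.node 4 (.node 2 (.node 1 (.leaf (nat_lit 0x1a0700c711)) (.leaf (nat_lit 0x180400c6f1))) (.node 1 (.leaf (nat_lit 0x180600c6f1)) (.leaf (nat_lit 0x180600c731)))) (.node 2 (.node 1 (.leaf (nat_lit 0x180700c721)) (.leaf (nat_lit 0x180400c731))) (.node 1 (.leaf (nat_lit 0x180700c731)) (.leaf (nat_lit 0x1a0700c7d1)))))))) (.node 32 (.node 16 (.node 8 (.node 4 (.node 2 (.node 1 (.leaf (nat_lit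 0xd0400c7b2)) (.leaf (nat_lit 0xd0600c7b2))) (.node 1 (.leaf (nat_lit 0xd0500c7e2)) (.leaf (nat_lit 0xd0700c7f2)))) (.node 2 (.node 1 (.leaf (nat_lit 0x180600c871)) (.leaf (nat_lit 0x180600c8b1))) (.node 1 (.leaf (nat_lit 0x180400c8a1)) (.leaf (nat_lit 0x180600c8a1))))) (.node 4 (.node 2 (.node 1 (.leaf (nat_lit 0x180700c8b1)) (.leaf (nat_lit 0x180700c8c1))) (.node 1 (.leaf (nat_lit 0x180500c931)) (.leaf (nat_lit 0x180500c971)))) (.node 2 (.node 1 (.leaf (nat_lit 0x180300c951)) (.leaf (nat_lit 0x180600c951))) (.node 1 (.leaf (nat_lit 0x180500cb21)) (.leaf (nat_lit 0x180700c971)))))) (.node 8 (.node 4 (.node 2 (.node 1 (.leaf (nat_lit 0x180300c981)) (.leaf (nat_lit 0x180500cb91))) (.node 1 (.leaf (nat_lit 0xd0500ca02)) (.leaf (nat_lit 0xd0600ca12)))) (.node 2 (.node 1 (.leaf (nat_lit 0xd0400ca22)) (.leaf (nat_lit 0xd0600ca22))) (.node 1 (.leaf (nat_lit 0x180300cb31)) (.leaf (nat_lit 0xd0400ca82)))))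 (.node 4 (.node 2 (.node 1 (.leaf (nat_lit 0xd0600ca82)) (.leaf (nat_lit 0x1a08013fa1))) (.node 1 (.leaf (nat_lit 0x180400cad1)) (.leaf (nat_lit 0x180600cad1)))) (.node 2 (.node 1 (.leaf (nat_lit 0x1a03013f91)) (.leaf (nat_lit 0x180600caf1))) (.node 1 (.leaf (nat_lit 0x180700cb21)) (.leaf (nat_lit 0x180600cb61))))))) (.node 16 (.node 8 (.node 4 (.node 2 (.node 1 (.leaf (nat_lit 0x1a08013f91)) (.leaf (nat_lit 0x180600cbb1))) (.node 1 (.leaf (nat_lit 0x1a07013d91)) (.leaf (nat_lit 0x180500cbe1)))) (.node 2 (.node 1 (.leaf (nat_lit 0x180700cc01)) (.leaf (nat_lit 0x180300cc21))) (.node 1 (.leaf (nat_lit 0x180500cc51)) (.leaf (nat_lit 0x1a08014171))))) (.node 4 (.node 2 (.node 1 (.leaf (nat_lit 0x180400cc91)) (.leaf (nat_lit 0x180600cc91))) (.node 1 (.leaf (nat_lit 0x180300cca1)) (.leaf (nat_lit 0x180600cca1)))) (.node 2 (.node 1 (.leaf (nat_lit 0x180700cca1)) (.leaf (nat_lit 0x1a040149c1)))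 (.node 1 (.leaf (nat_lit 0x180700ccb1)) (.leaf (nat_lit 0x180500ccd1)))))) (.node 8 (.node 4 (.node 2 (.node 1 (.leaf (nat_lit 0x1a03014171)) (.leaf (nat_lit 0x180700ccd1))) (.node 1 (.leaf (nat_lit 0x180300cce1)) (.leaf (nat_lit 0x1a04014411)))) (.node 2 (.node 1 (.leaf (nat_lit 0x180600cd11)) (.leaf (nat_lit 0x180500cd21))) (.node 1 (.leaf (nat_lit 0x180500ce81)) (.leaf (nat_lit 0x180700cd21))))) (.node 4 (.node 2 (.node 1 (.leaf (nat_lit 0x1a04014a01)) (.leaf (nat_lit 0x180300cd51))) (.node 1 (.leaf (nat_lit 0x180700cd71)) (.leaf (nat_lit 0x180300cdd1)))) (.node 2 (.node 1 (.leaf (nat_lit 0x180300cd91)) (.leaf (nat_lit 0x180200cdf1))) (.node 1 (.leaf (nat_lit 0x180300ce11)) (.leaf (nat_lit 0x180600ce11))))))))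

noncomputable def oT33 : Tree :=
  .node 64 (.node 32 (.node 16 (.node 8 (.node 4 (.node 2 (.node 1 (.leaf (nat_lit 0x1c04014a51)) (.leaf (nat_lit 0x180600ce31))) (.node 1 (.leaf (nat_lit 0x180500ce41)) (.leaf (nat_lit 0x1a050149a1)))) (.node 2 (.node 1 (.leaf (nat_lit 0x1a08014191)) (.leaf (nat_lit 0xd0600cec2))) (.node 1 (.leaf (nat_lit 0x1a07013961)) (.leaf (nat_lit 0x1a07013851))))) (.node 4 (.node 2 (.node 1 (.leaf (nat_lit 0xd0500cf42)) (.leaf (nat_lit 0xd0200cf72))) (.node 1 (.leaf (nat_lit 0xd0400cf72)) (.leaf (nat_lit 0xe0700cf92)))) (.node 2 (.node 1 (.leaf (nat_lit 0xe0300cfa2)) (.leaf (nat_lit 0xe0200cfb2))) (.node 1 (.leaf (nat_lit 0xe0400cfb2)) (.leaf (nat_lit 0x190100cfc1)))))) (.node 8 (.node 4 (.node 2 (.node 1 (.leaf (nat_lit 0x190400cfc1)) (.leaf (nat_lit 0x190500cfd1))) (.node 1 (.leaf (nat_lit 0xe0200cfe2)) (.leaf (nat_lit 0xe0400cfe2)))) (.node 2 (.node 1 (.leaf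 (nat_lit 0xe0100cff2)) (.leaf (nat_lit 0xe0400cff2))) (.node 1 (.leaf (nat_lit 0xe0500d002)) (.leaf (nat_lit 0x190000d011))))) (.node 4 (.node 2 (.node 1 (.leaf (nat_lit 0x190400d011)) (.leaf (nat_lit 0x190300d021))) (.node 1 (.leaf (nat_lit 0x190500d021)) (.leaf (nat_lit 0x190600d031)))) (.node 2 (.node 1 (.leaf (nat_lit 0xe0000d042)) (.leaf (nat_lit 0xe0400d042))) (.node 1 (.leaf (nat_lit 0xe0300d052)) (.leaf (nat_lit 0xe0500d052))))))) (.node 16 (.node 8 (.node 4 (.node 2 (.node 1 (.leaf (nat_lit 0xe0600d062)) (.leaf (nat_lit 0x190400d071))) (.node 1 (.leaf (nat_lit 0x190300d081)) (.leaf (nat_lit 0x190500d081)))) (.node 2 (.node 1 (.leaf (nat_lit 0x190500d091)) (.leaf (nat_lit 0x190700d091))) (.node 1 (.leaf (nat_lit 0x190600d0a1)) (.leaf (nat_lit 0x1d06014c71))))) (.node 4 (.node 2 (.node 1 (.leaf (nat_lit 0x190300d0c1)) (.leaf (nat_lit 0x190500d0c1))) (.node 1 (.leaf (nat_lit 0x190200d0d1))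 (.leaf (nat_lit 0x190500d0d1)))) (.node 2 (.node 1 (.leaf (nat_lit 0x190700d0d1)) (.leaf (nat_lit 0x190600d0e1))) (.node 1 (.leaf (nat_lit 0x190400d0f1)) (.leaf (nat_lit 0x190600d0f1)))))) (.node 8 (.node 4 (.node 2 (.node 1 (.leaf (nat_lit 0x190700d0f1)) (.leaf (nat_lit 0x190800d101))) (.node 1 (.leaf (nat_lit 0x1d05014d21)) (.leaf (nat_lit 0xe0200d132)))) (.node 2 (.node 1 (.leaf (nat_lit 0xe0400d132)) (.leaf (nat_lit 0xe0100d142))) (.node 1 (.leaf (nat_lit 0xe0400d142)) (.leaf (nat_lit 0xe0500d152))))) (.node 4 (.node 2 (.node 1 (.leaf (nat_lit 0xe0100d162)) (.leaf (nat_lit 0xe0400d162))) (.node 1 (.leaf (nat_lit 0xe0500d172)) (.leaf (nat_lit 0xe0000d182)))) (.node 2 (.node 1 (.leaf (nat_lit 0xe0400d182)) (.leaf (nat_lit 0xe0300d192))) (.node 1 (.leaf (nat_lit 0xe0500d192)) (.leaf (nat_lit 0xe0600d1a2)))))))) (.node 32 (.node 16 (.node 8 (.node 4 (.node 2 (.node 1 (.leaf (nat_lit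 0x190400d1b1)) (.leaf (nat_lit 0x190300d1c1))) (.node 1 (.leaf (nat_lit 0x190500d1c1)) (.leaf (nat_lit 0x190600d1d1)))) (.node 2 (.node 1 (.leaf (nat_lit 0x190400d1e1)) (.leaf (nat_lit 0x190300d1f1))) (.node 1 (.leaf (nat_lit 0x190500d1f1)) (.leaf (nat_lit 0x190500d201))))) (.node 4 (.node 2 (.node 1 (.leaf (nat_lit 0x190700d201)) (.leaf (nat_lit 0x190600d211))) (.node 1 (.leaf (nat_lit 0x1d07014c01)) (.leaf (nat_lit 0xe0400d232)))) (.node 2 (.node 1 (.leaf (nat_lit 0xe0300d242)) (.leaf (nat_lit 0xe0500d242))) (.node 1 (.leaf (nat_lit 0xe0600d252)) (.leaf (nat_lit 0xe0400d262)))))) (.node 8 (.node 4 (.node 2 (.node 1 (.leaf (nat_lit 0xe0300d272)) (.leaf (nat_lit 0xe0500d272))) (.node 1 (.leaf (nat_lit 0xe0500d282)) (.leaf (nat_lit 0xe0700d282)))) (.node 2 (.node 1 (.leaf (nat_lit 0xe0600d292)) (.leaf (nat_lit 0x1d07014c71))) (.node 1 (.leaf (nat_lit 0x190300d2b1)) (.leaf (nat_lit 0x190500d2b1)))))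 (.node 4 (.node 2 (.node 1 (.leaf (nat_lit 0x190500d2c1)) (.leaf (nat_lit 0x190700d2c1))) (.node 1 (.leaf (nat_lit 0x190600d2d1)) (.leaf (nat_lit 0x1f0800d351)))) (.node 2 (.node 1 (.leaf (nat_lit 0x190300d2f1)) (.leaf (nat_lit 0x190500d2f1))) (.node 1 (.leaf (nat_lit 0x190200d301)) (.leaf (nat_lit 0x190500d301))))))) (.node 16 (.node 8 (.node 4 (.node 2 (.node 1 (.leaf (nat_lit 0x190700d301)) (.leaf (nat_lit 0x190600d311))) (.node 1 (.leaf (nat_lit 0x190400d321)) (.leaf (nat_lit 0x190600d321)))) (.node 2 (.node 1 (.leaf (nat_lit 0x190700d321)) (.leaf (nat_lit 0x190800d331))) (.node 1 (.leaf (nat_lit 0x1d07014d21)) (.leaf (nat_lit 0x190200d361))))) (.node 4 (.node 2 (.node 1 (.leaf (nat_lit 0x190500d361)) (.leaf (nat_lit 0x190700d361))) (.node 1 (.leaf (nat_lit 0x190600d371)) (.leaf (nat_lit 0x190400d381)))) (.node 2 (.node 1 (.leaf (nat_lit 0x190600d381)) (.leaf (nat_lit 0x190700d381)))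 (.node 1 (.leaf (nat_lit 0x190800d391)) (.leaf (nat_lit 0x1f0800d461)))))) (.node 8 (.node 4 (.node 2 (.node 1 (.leaf (nat_lit 0x190200d3c1)) (.leaf (nat_lit 0x190500d3c1))) (.node 1 (.leaf (nat_lit 0x190700d3c1)) (.leaf (nat_lit 0x190600d3d1)))) (.node 2 (.node 1 (.leaf (nat_lit 0x190500d3e1)) (.leaf (nat_lit 0x190700d3e1))) (.node 1 (.leaf (nat_lit 0x190400d3f1)) (.leaf (nat_lit 0x190600d3f1))))) (.node 4 (.node 2 (.node 1 (.leaf (nat_lit 0x190700d3f1)) (.leaf (nat_lit 0x190800d401))) (.node 1 (.leaf (nat_lit 0x1d07014dd1)) (.leaf (nat_lit 0x190600d421)))) (.node 2 (.node 1 (.leaf (nat_lit 0x190700d421)) (.leaf (nat_lit 0x1f0300d461))) (.node 1 (.leaf (nat_lit 0x190700d431)) (.leaf (nat_lit 0x190800d441))))))))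

noncomputable def oT34 : Tree :=
  .node 64 (.node 32 (.node 16 (.node 8 (.node 4 (.node 2 (.node 1 (.leaf (nat_lit 0xe0000d472)) (.leaf (nat_lit 0xe0400d472))) (.node 1 (.leaf (nat_lit 0xe0300d482)) (.leaf (nat_lit 0xe0500d482)))) (.node 2 (.node 1 (.leaf (nat_lit 0xe0600d492)) (.leaf (nat_lit 0xe0400d4a2))) (.node 1 (.leaf (nat_lit 0xe0300d4b2)) (.leaf (nat_lit 0xe0500d4b2))))) (.node 4 (.node 2 (.node 1 (.leaf (nat_lit 0xe0500d4c2)) (.leaf (nat_lit 0xe0700d4c2))) (.node 1 (.leaf (nat_lit 0xe0600d4d2)) (.leaf (nat_lit 0x1f0800d551)))) (.node 2 (.node 1 (.leaf (nat_lit 0xe0300d4f2)) (.leaf (nat_lit 0xe0500d4f2))) (.node 1 (.leaf (nat_lit 0xe0200d502)) (.leaf (nat_lit 0xe0500d502)))))) (.node 8 (.node 4 (.node 2 (.node 1 (.leaf (nat_lit 0xe0700d502)) (.leaf (nat_lit 0xe0600d512))) (.node 1 (.leaf (nat_lit 0xe0400d522)) (.leaf (nat_lit 0xe0600d522)))) (.node 2 (.node 1 (.leaf (nat_lit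 0xe0700d522)) (.leaf (nat_lit 0xe0800d532))) (.node 1 (.leaf (nat_lit 0x1f0200d551)) (.leaf (nat_lit 0x190400d561))))) (.node 4 (.node 2 (.node 1 (.leaf (nat_lit 0x190300d571)) (.leaf (nat_lit 0x190500d571))) (.node 1 (.leaf (nat_lit 0x190500d581)) (.leaf (nat_lit 0x190700d581)))) (.node 2 (.node 1 (.leaf (nat_lit 0x190600d591)) (.leaf (nat_lit 0x21060155c1))) (.node 1 (.leaf (nat_lit 0x190300d5b1)) (.leaf (nat_lit 0x190500d5b1))))))) (.node 16 (.node 8 (.node 4 (.node 2 (.node 1 (.leaf (nat_lit 0x190200d5c1)) (.leaf (nat_lit 0x190500d5c1))) (.node 1 (.leaf (nat_lit 0x190700d5c1)) (.leaf (nat_lit 0x190600d5d1)))) (.node 2 (.node 1 (.leaf (nat_lit 0x190400d5e1)) (.leaf (nat_lit 0x190600d5e1))) (.node 1 (.leaf (nat_lit 0x190700d5e1)) (.leaf (nat_lit 0x190800d5f1))))) (.node 4 (.node 2 (.node 1 (.leaf (nat_lit 0x2107015821)) (.leaf (nat_lit 0x190200d621))) (.node 1 (.leaf (nat_lit 0x190500d621))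 (.leaf (nat_lit 0x190700d621)))) (.node 2 (.node 1 (.leaf (nat_lit 0x190600d631)) (.leaf (nat_lit 0x190500d641))) (.node 1 (.leaf (nat_lit 0x190700d641)) (.leaf (nat_lit 0x190400d651)))))) (.node 8 (.node 4 (.node 2 (.node 1 (.leaf (nat_lit 0x190600d651)) (.leaf (nat_lit 0x190700d651))) (.node 1 (.leaf (nat_lit 0x190800d661)) (.leaf (nat_lit 0x21080158d1)))) (.node 2 (.node 1 (.leaf (nat_lit 0x190600d681)) (.leaf (nat_lit 0x190700d681))) (.node 1 (.leaf (nat_lit 0x1f020152e1)) (.leaf (nat_lit 0x190700d691))))) (.node 4 (.node 2 (.node 1 (.leaf (nat_lit 0x190800d6a1)) (.leaf (nat_lit 0x190300d6d1))) (.node 1 (.leaf (nat_lit 0x190500d6d1)) (.leaf (nat_lit 0x190200d6e1)))) (.node 2 (.node 1 (.leaf (nat_lit 0x190500d6e1)) (.leaf (nat_lit 0x190700d6e1))) (.node 1 (.leaf (nat_lit 0x190600d6f1)) (.leaf (nat_lit 0x190400d701)))))))) (.node 32 (.node 16 (.node 8 (.node 4 (.node 2 (.node 1 (.leaf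 (nat_lit 0x190600d701)) (.leaf (nat_lit 0x190700d701))) (.node 1 (.leaf (nat_lit 0x190800d711)) (.leaf (nat_lit 0x1f03015b91)))) (.node 2 (.node 1 (.leaf (nat_lit 0x190200d741)) (.leaf (nat_lit 0x190500d741))) (.node 1 (.leaf (nat_lit 0x190700d741)) (.leaf (nat_lit 0x190600d751))))) (.node 4 (.node 2 (.node 1 (.leaf (nat_lit 0x190500d761)) (.leaf (nat_lit 0x190700d761))) (.node 1 (.leaf (nat_lit 0x190400d771)) (.leaf (nat_lit 0x190600d771)))) (.node 2 (.node 1 (.leaf (nat_lit 0x190700d771)) (.leaf (nat_lit 0x190800d781))) (.node 1 (.leaf (nat_lit 0x1f07015b61)) (.leaf (nat_lit 0x190600d7a1)))))) (.node 8 (.node 4 (.node 2 (.node 1 (.leaf (nat_lit 0x190700d7a1)) (.leaf (nat_lit 0x210800d8c1))) (.node 1 (.leaf (nat_lit 0x190700d7b1)) (.leaf (nat_lit 0x190800d7c1)))) (.node 2 (.node 1 (.leaf (nat_lit 0x190100d7f1)) (.leaf (nat_lit 0x190500d7f1))) (.node 1 (.leaf (nat_lit 0x190700d7f1))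 (.leaf (nat_lit 0x190400d801))))) (.node 4 (.node 2 (.node 1 (.leaf (nat_lit 0x190600d801)) (.leaf (nat_lit 0x190700d801))) (.node 1 (.leaf (nat_lit 0x190800d811)) (.leaf (nat_lit 0x1f0400daa1)))) (.node 2 (.node 1 (.leaf (nat_lit 0x190400d831)) (.leaf (nat_lit 0x190600d831))) (.node 1 (.leaf (nat_lit 0x190700d831)) (.leaf (nat_lit 0x190300d841))))))) (.node 16 (.node 8 (.node 4 (.node 2 (.node 1 (.leaf (nat_lit 0x190800d841)) (.leaf (nat_lit 0x190600d851))) (.node 1 (.leaf (nat_lit 0x190700d851)) (.leaf (nat_lit 0x210100d8c1)))) (.node 2 (.node 1 (.leaf (nat_lit 0x190700d861)) (.leaf (nat_lit 0x190800d871))) (.node 1 (.leaf (nat_lit 0x190500d8a1)) (.leaf (nat_lit 0x210400d8c1))))) (.node 4 (.node 2 (.node 1 (.leaf (nat_lit 0x190700d8a1)) (.leaf (nat_lit 0x190300d8b1))) (.node 1 (.leaf (nat_lit 0x190800d8b1)) (.leaf (nat_lit 0x1f02015541)))) (.node 2 (.node 1 (.leaf (nat_lit 0x190800d8d1))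 (.leaf (nat_lit 0x190600d8f1))) (.node 1 (.leaf (nat_lit 0x190400d901)) (.leaf (nat_lit 0x190600d901)))))) (.node 8 (.node 4 (.node 2 (.node 1 (.leaf (nat_lit 0x1d03015fb1)) (.leaf (nat_lit 0x190600d931))) (.node 1 (.leaf (nat_lit 0x190400d941)) (.leaf (nat_lit 0x190600d941)))) (.node 2 (.node 1 (.leaf (nat_lit 0x1d03015fe1)) (.leaf (nat_lit 0x190600d961))) (.node 1 (.leaf (nat_lit 0x190700d961)) (.leaf (nat_lit 0x1d04016001))))) (.node 4 (.node 2 (.node 1 (.leaf (nat_lit 0x190700d971)) (.leaf (nat_lit 0x190400d9a1))) (.node 1 (.leaf (nat_lit 0x190600d9a1)) (.leaf (nat_lit 0x1f0800daa1)))) (.node 2 (.node 1 (.leaf (nat_lit 0x190400d9c1)) (.leaf (nat_lit 0x190600d9c1))) (.node 1 (.leaf (nat_lit 0x190600d9d1)) (.leaf (nat_lit 0x190700d9d1))))))))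

noncomputable def oT35 : Tree :=
  .node 64 (.node 32 (.node 16 (.node 8 (.node 4 (.node 2 (.node 1 (.leaf (nat_lit 0x1f0800db01)) (.leaf (nat_lit 0x190700d9e1))) (.node 1 (.leaf (nat_lit 0x190500da11)) (.leaf (nat_lit 0x1f07016101)))) (.node 2 (.node 1 (.leaf (nat_lit 0x190700da11)) (.leaf (nat_lit 0x190300da21))) (.node 1 (.leaf (nat_lit 0x190800da21)) (.leaf (nat_lit 0x1d03016031))))) (.node 4 (.node 2 (.node 1 (.leaf (nat_lit 0x190800da41)) (.leaf (nat_lit 0x190400da61))) (.node 1 (.leaf (nat_lit 0x190600da61)) (.leaf (nat_lit 0x190600da71)))) (.node 2 (.node 1 (.leaf (nat_lit 0x190700da71)) (.leaf (nat_lit 0x1d070161d1))) (.node 1 (.leaf (nat_lit 0x190700da81)) (.leaf (nat_lit 0x190300dab1)))))) (.node 8 (.node 4 (.node 2 (.node 1 (.leaf (nat_lit 0x190600dab1)) (.leaf (nat_lit 0x190700dab1))) (.node 1 (.leaf (nat_lit 0x1d07016241)) (.leaf (nat_lit 0x190700dac1)))) (.node 2 (.node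 1 (.leaf (nat_lit 0x190500dae1)) (.leaf (nat_lit 0x1f07016271))) (.node 1 (.leaf (nat_lit 0x190700dae1)) (.leaf (nat_lit 0x190300daf1))))) (.node 4 (.node 2 (.node 1 (.leaf (nat_lit 0x190800daf1)) (.leaf (nat_lit 0x1d02016241))) (.node 1 (.leaf (nat_lit 0x190800db11)) (.leaf (nat_lit 0x21070162e1)))) (.node 2 (.node 1 (.leaf (nat_lit 0x190700db31)) (.leaf (nat_lit 0x1f01016271))) (.node 1 (.leaf (nat_lit 0x190300db51)) (.leaf (nat_lit 0x190800db51))))))) (.node 16 (.node 8 (.node 4 (.node 2 (.node 1 (.leaf (nat_lit 0x190200db61)) (.leaf (nat_lit 0x190800db61))) (.node 1 (.leaf (nat_lit 0x1f0800db81)) (.leaf (nat_lit 0xe0700dba2)))) (.node 2 (.node 1 (.leaf (nat_lit 0xe0300dbb2)) (.leaf (nat_lit 0xe0200dbc2))) (.node 1 (.leaf (nat_lit 0xe0400dbc2)) (.leaf (nat_lit 0xe0100dbd2))))) (.node 4 (.node 2 (.node 1 (.leaf (nat_lit 0xe0400dbd2)) (.leaf (nat_lit 0xe0500dbe2))) (.node 1 (.leaf (nat_lit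 0xe0000dbf2)) (.leaf (nat_lit 0xe0400dbf2)))) (.node 2 (.node 1 (.leaf (nat_lit 0xe0300dc02)) (.leaf (nat_lit 0xe0500dc02))) (.node 1 (.leaf (nat_lit 0xe0600dc12)) (.leaf (nat_lit 0xe0200dc22)))))) (.node 8 (.node 4 (.node 2 (.node 1 (.leaf (nat_lit 0xe0400dc22)) (.leaf (nat_lit 0xe0400dc32))) (.node 1 (.leaf (nat_lit 0xe0500dc42)) (.leaf (nat_lit 0xe0400dc52)))) (.node 2 (.node 1 (.leaf (nat_lit 0xe0300dc62)) (.leaf (nat_lit 0xe0500dc62))) (.node 1 (.leaf (nat_lit 0xe0600dc72)) (.leaf (nat_lit 0xe0400dc82))))) (.node 4 (.node 2 (.node 1 (.leaf (nat_lit 0xe0300dc92)) (.leaf (nat_lit 0xe0500dc92))) (.node 1 (.leaf (nat_lit 0xe0500dca2)) (.leaf (nat_lit 0xe0700dca2)))) (.node 2 (.node 1 (.leaf (nat_lit 0xe0600dcb2)) (.leaf (nat_lit 0x190100f1a1))) (.node 1 (.leaf (nat_lit 0x190400dcd1)) (.leaf (nat_lit 0x190500dce1)))))))) (.node 32 (.node 16 (.node 8 (.node 4 (.node 2 (.node 1 (.leaf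 (nat_lit 0x190300dcf1)) (.leaf (nat_lit 0x190500dcf1))) (.node 1 (.leaf (nat_lit 0x190600dd01)) (.leaf (nat_lit 0x190300dd11)))) (.node 2 (.node 1 (.leaf (nat_lit 0x190500dd11)) (.leaf (nat_lit 0x190500dd21))) (.node 1 (.leaf (nat_lit 0x190700dd21)) (.leaf (nat_lit 0x190600dd31))))) (.node 4 (.node 2 (.node 1 (.leaf (nat_lit 0x1b0800ddb1)) (.leaf (nat_lit 0x190300dd51))) (.node 1 (.leaf (nat_lit 0x190500dd51)) (.leaf (nat_lit 0x190200dd61)))) (.node 2 (.node 1 (.leaf (nat_lit 0x190500dd61)) (.leaf (nat_lit 0x190700dd61))) (.node 1 (.leaf (nat_lit 0x190600dd71)) (.leaf (nat_lit 0x190400dd81)))))) (.node 8 (.node 4 (.node 2 (.node 1 (.leaf (nat_lit 0x190600dd81)) (.leaf (nat_lit 0x190700dd81))) (.node 1 (.leaf (nat_lit 0x190800dd91)) (.leaf (nat_lit 0x1b01016741)))) (.node 2 (.node 1 (.leaf (nat_lit 0xe0300ddc2)) (.leaf (nat_lit 0xe0500ddc2))) (.node 1 (.leaf (nat_lit 0xe0600ddd2)) (.leaf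 (nat_lit 0xe0300dde2))))) (.node 4 (.node 2 (.node 1 (.leaf (nat_lit 0xe0500dde2)) (.leaf (nat_lit 0xe0500ddf2))) (.node 1 (.leaf (nat_lit 0xe0700ddf2)) (.leaf (nat_lit 0xe0600de02)))) (.node 2 (.node 1 (.leaf (nat_lit 0x1b0800de81)) (.leaf (nat_lit 0xe0300de22))) (.node 1 (.leaf (nat_lit 0xe0500de22)) (.leaf (nat_lit 0xe0200de32))))))) (.node 16 (.node 8 (.node 4 (.node 2 (.node 1 (.leaf (nat_lit 0xe0500de32)) (.leaf (nat_lit 0xe0700de32))) (.node 1 (.leaf (nat_lit 0xe0600de42)) (.leaf (nat_lit 0xe0400de52)))) (.node 2 (.node 1 (.leaf (nat_lit 0xe0600de52)) (.leaf (nat_lit 0xe0700de52))) (.node 1 (.leaf (nat_lit 0xe0800de62)) (.leaf (nat_lit 0x1b01016911))))) (.node 4 (.node 2 (.node 1 (.leaf (nat_lit 0x190500de91)) (.leaf (nat_lit 0x190700de91))) (.node 1 (.leaf (nat_lit 0x190600dea1)) (.leaf (nat_lit 0x1d060167d1)))) (.node 2 (.node 1 (.leaf (nat_lit 0x190200dec1)) (.leaf (nat_lit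 0x190500dec1))) (.node 1 (.leaf (nat_lit 0x190700dec1)) (.leaf (nat_lit 0x190600ded1)))))) (.node 8 (.node 4 (.node 2 (.node 1 (.leaf (nat_lit 0x190400dee1)) (.leaf (nat_lit 0x190600dee1))) (.node 1 (.leaf (nat_lit 0x190700dee1)) (.leaf (nat_lit 0x190800def1)))) (.node 2 (.node 1 (.leaf (nat_lit 0x1d070169b1)) (.leaf (nat_lit 0x190200df21))) (.node 1 (.leaf (nat_lit 0x190500df21)) (.leaf (nat_lit 0x190700df21))))) (.node 4 (.node 2 (.node 1 (.leaf (nat_lit 0x190600df31)) (.leaf (nat_lit 0x190500df41))) (.node 1 (.leaf (nat_lit 0x190700df41)) (.leaf (nat_lit 0x190400df51)))) (.node 2 (.node 1 (.leaf (nat_lit 0x190600df51)) (.leaf (nat_lit 0x190700df51))) (.node 1 (.leaf (nat_lit 0x190800df61)) (.leaf (nat_lit 0x1b0200f4e1))))))))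

noncomputable def oT36 : Tree :=
  .node 64 (.node 32 (.node 16 (.node 8 (.node 4 (.node 2 (.node 1 (.leaf (nat_lit 0x190600df81)) (.leaf (nat_lit 0x190700df81))) (.node 1 (.leaf (nat_lit 0x1d01016b71)) (.leaf (nat_lit 0x190700df91)))) (.node 2 (.node 1 (.leaf (nat_lit 0x190800dfa1)) (.leaf (nat_lit 0x190400dfd1))) (.node 1 (.leaf (nat_lit 0x190600dfd1)) (.leaf (nat_lit 0x190700dfd1))))) (.node 4 (.node 2 (.node 1 (.leaf (nat_lit 0x190800dfe1)) (.leaf (nat_lit 0x1d050169b1))) (.node 1 (.leaf (nat_lit 0x190500e011)) (.leaf (nat_lit 0x190700e011)))) (.node 2 (.node 1 (.leaf (nat_lit 0x190400e021)) (.leaf (nat_lit 0x190600e021))) (.node 1 (.leaf (nat_lit 0x190700e021)) (.leaf (nat_lit 0x190800e031)))))) (.node 8 (.node 4 (.node 2 (.node 1 (.leaf (nat_lit 0x1d05016a21)) (.leaf (nat_lit 0x190600e051))) (.node 1 (.leaf (nat_lit 0x190700e051)) (.leaf (nat_lit 0x1f0300e091)))) (.node 2 (.node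 1 (.leaf (nat_lit 0x190700e061)) (.leaf (nat_lit 0x190800e071))) (.node 1 (.leaf (nat_lit 0x190100e0a1)) (.leaf (nat_lit 0x190500e0a1))))) (.node 4 (.node 2 (.node 1 (.leaf (nat_lit 0x190700e0a1)) (.leaf (nat_lit 0x190400e0b1))) (.node 1 (.leaf (nat_lit 0x190600e0b1)) (.leaf (nat_lit 0x190700e0b1)))) (.node 2 (.node 1 (.leaf (nat_lit 0x190800e0c1)) (.leaf (nat_lit 0x1d05016af1))) (.node 1 (.leaf (nat_lit 0x190400e0e1)) (.leaf (nat_lit 0x190600e0e1))))))) (.node 16 (.node 8 (.node 4 (.node 2 (.node 1 (.leaf (nat_lit 0x190700e0e1)) (.leaf (nat_lit 0x190300e0f1))) (.node 1 (.leaf (nat_lit 0x190800e0f1)) (.leaf (nat_lit 0x190600e101)))) (.node 2 (.node 1 (.leaf (nat_lit 0x190700e101)) (.leaf (nat_lit 0x1d02016e51))) (.node 1 (.leaf (nat_lit 0x190700e111)) (.leaf (nat_lit 0x190800e121))))) (.node 4 (.node 2 (.node 1 (.leaf (nat_lit 0x190500e151)) (.leaf (nat_lit 0x1f0200e6a1))) (.node 1 (.leaf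 (nat_lit 0x190700e151)) (.leaf (nat_lit 0x190300e161)))) (.node 2 (.node 1 (.leaf (nat_lit 0x190800e161)) (.leaf (nat_lit 0x1f04016f41))) (.node 1 (.leaf (nat_lit 0x190800e181)) (.leaf (nat_lit 0xe0300e1a2)))))) (.node 8 (.node 4 (.node 2 (.node 1 (.leaf (nat_lit 0xe0500e1a2)) (.leaf (nat_lit 0xe0200e1b2))) (.node 1 (.leaf (nat_lit 0xe0500e1b2)) (.leaf (nat_lit 0xe0700e1b2)))) (.node 2 (.node 1 (.leaf (nat_lit 0xe0600e1c2)) (.leaf (nat_lit 0xe0400e1d2))) (.node 1 (.leaf (nat_lit 0xe0600e1d2)) (.leaf (nat_lit 0xe0700e1d2))))) (.node 4 (.node 2 (.node 1 (.leaf (nat_lit 0xe0800e1e2)) (.leaf (nat_lit 0x1d0800e2b1))) (.node 1 (.leaf (nat_lit 0xe0200e212)) (.leaf (nat_lit 0xe0500e212)))) (.node 2 (.node 1 (.leaf (nat_lit 0xe0700e212)) (.leaf (nat_lit 0xe0600e222))) (.node 1 (.leaf (nat_lit 0xe0500e232)) (.leaf (nat_lit 0xe0700e232)))))))) (.node 32 (.node 16 (.node 8 (.node 4 (.node 2 (.node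 1 (.leaf (nat_lit 0xe0400e242)) (.leaf (nat_lit 0xe0600e242))) (.node 1 (.leaf (nat_lit 0xe0700e242)) (.leaf (nat_lit 0xe0800e252)))) (.node 2 (.node 1 (.leaf (nat_lit 0x1b0200f841)) (.leaf (nat_lit 0xe0600e272))) (.node 1 (.leaf (nat_lit 0xe0700e272)) (.leaf (nat_lit 0x1d01017191))))) (.node 4 (.node 2 (.node 1 (.leaf (nat_lit 0xe0700e282)) (.leaf (nat_lit 0xe0800e292))) (.node 1 (.leaf (nat_lit 0x190200e2c1)) (.leaf (nat_lit 0x190500e2c1)))) (.node 2 (.node 1 (.leaf (nat_lit 0x190700e2c1)) (.leaf (nat_lit 0x190600e2d1))) (.node 1 (.leaf (nat_lit 0x190500e2e1)) (.leaf (nat_lit 0x190700e2e1)))))) (.node 8 (.node 4 (.node 2 (.node 1 (.leaf (nat_lit 0x190400e2f1)) (.leaf (nat_lit 0x190600e2f1))) (.node 1 (.leaf (nat_lit 0x190700e2f1)) (.leaf (nat_lit 0x190800e301)))) (.node 2 (.node 1 (.leaf (nat_lit 0x1d0800e411)) (.leaf (nat_lit 0x190600e321))) (.node 1 (.leaf (nat_lit 0x190700e321))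 (.leaf (nat_lit 0x1f02016a51))))) (.node 4 (.node 2 (.node 1 (.leaf (nat_lit 0x190700e331)) (.leaf (nat_lit 0x190800e341))) (.node 1 (.leaf (nat_lit 0x190100e371)) (.leaf (nat_lit 0x190500e371)))) (.node 2 (.node 1 (.leaf (nat_lit 0x190700e371)) (.leaf (nat_lit 0x190400e381))) (.node 1 (.leaf (nat_lit 0x190600e381)) (.leaf (nat_lit 0x190700e381))))))) (.node 16 (.node 8 (.node 4 (.node 2 (.node 1 (.leaf (nat_lit 0x190800e391)) (.leaf (nat_lit 0x1d0200f971))) (.node 1 (.leaf (nat_lit 0x190400e3b1)) (.leaf (nat_lit 0x190600e3b1)))) (.node 2 (.node 1 (.leaf (nat_lit 0x190700e3b1)) (.leaf (nat_lit 0x190300e3c1))) (.node 1 (.leaf (nat_lit 0x190800e3c1)) (.leaf (nat_lit 0x190600e3d1))))) (.node 4 (.node 2 (.node 1 (.leaf (nat_lit 0x190700e3d1)) (.leaf (nat_lit 0x1d02017491))) (.node 1 (.leaf (nat_lit 0x190700e3e1)) (.leaf (nat_lit 0x190800e3f1)))) (.node 2 (.node 1 (.leaf (nat_lit 0x190500e421))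 (.leaf (nat_lit 0x1f08017361))) (.node 1 (.leaf (nat_lit 0x190700e421)) (.leaf (nat_lit 0x190300e431)))))) (.node 8 (.node 4 (.node 2 (.node 1 (.leaf (nat_lit 0x190800e431)) (.leaf (nat_lit 0x1f0500e6e1))) (.node 1 (.leaf (nat_lit 0x190800e451)) (.leaf (nat_lit 0x190100e471)))) (.node 2 (.node 1 (.leaf (nat_lit 0x190500e471)) (.leaf (nat_lit 0x190700e471))) (.node 1 (.leaf (nat_lit 0x190400e481)) (.leaf (nat_lit 0x190600e481))))) (.node 4 (.node 2 (.node 1 (.leaf (nat_lit 0x190700e481)) (.leaf (nat_lit 0x190800e491))) (.node 1 (.leaf (nat_lit 0x1d0200fa51)) (.leaf (nat_lit 0x190400e4b1)))) (.node 2 (.node 1 (.leaf (nat_lit 0x190600e4b1)) (.leaf (nat_lit 0x190700e4b1))) (.node 1 (.leaf (nat_lit 0x190300e4c1)) (.leaf (nat_lit 0x190800e4c1))))))))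

noncomputable def oT37 : Tree :=
  .node 64 (.node 32 (.node 16 (.node 8 (.node 4 (.node 2 (.node 1 (.leaf (nat_lit 0x190600e4d1)) (.leaf (nat_lit 0x190700e4d1))) (.node 1 (.leaf (nat_lit 0x1f05017321)) (.leaf (nat_lit 0x190700e4e1)))) (.node 2 (.node 1 (.leaf (nat_lit 0x190800e4f1)) (.leaf (nat_lit 0x190500e521))) (.node 1 (.leaf (nat_lit 0x1f0300e7a1)) (.leaf (nat_lit 0x190700e521))))) (.node 4 (.node 2 (.node 1 (.leaf (nat_lit 0x190300e531)) (.leaf (nat_lit 0x190800e531))) (.node 1 (.leaf (nat_lit 0x1f02016d41)) (.leaf (nat_lit 0x190800e551)))) (.node 2 (.node 1 (.leaf (nat_lit 0x190500e571)) (.leaf (nat_lit 0x190400e581))) (.node 1 (.leaf (nat_lit 0x190600e581)) (.leaf (nat_lit 0x190700e581)))))) (.node 8 (.node 4 (.node 2 (.node 1 (.leaf (nat_lit 0x190800e591)) (.leaf (nat_lit 0x190600e5a1))) (.node 1 (.leaf (nat_lit 0x190700e5a1)) (.leaf (nat_lit 0x1f02017841)))) (.node 2 (.node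 1 (.leaf (nat_lit 0x190700e5b1)) (.leaf (nat_lit 0x190800e5c1))) (.node 1 (.leaf (nat_lit 0x190300e5f1)) (.leaf (nat_lit 0x190600e5f1))))) (.node 4 (.node 2 (.node 1 (.leaf (nat_lit 0x190700e5f1)) (.leaf (nat_lit 0x1d0300fbb1))) (.node 1 (.leaf (nat_lit 0x190700e601)) (.leaf (nat_lit 0x190300e611)))) (.node 2 (.node 1 (.leaf (nat_lit 0x190800e611)) (.leaf (nat_lit 0x190400e621))) (.node 1 (.leaf (nat_lit 0x190800e621)) (.leaf (nat_lit 0x190500e641))))))) (.node 16 (.node 8 (.node 4 (.node 2 (.node 1 (.leaf (nat_lit 0x1f0300e8c1)) (.leaf (nat_lit 0x190700e641))) (.node 1 (.leaf (nat_lit 0x190300e651)) (.leaf (nat_lit 0x190800e651)))) (.node 2 (.node 1 (.leaf (nat_lit 0x1f040179e1)) (.leaf (nat_lit 0x190800e671))) (.node 1 (.leaf (nat_lit 0x1f0300e921)) (.leaf (nat_lit 0x190700e691))))) (.node 4 (.node 2 (.node 1 (.leaf (nat_lit 0x1d03017a81)) (.leaf (nat_lit 0x190300e6b1))) (.node 1 (.leaf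 (nat_lit 0x190800e6b1)) (.leaf (nat_lit 0x190200e6c1)))) (.node 2 (.node 1 (.leaf (nat_lit 0x190800e6c1)) (.leaf (nat_lit 0x1f04017a91))) (.node 1 (.leaf (nat_lit 0x190600e701)) (.leaf (nat_lit 0x1f07016081)))))) (.node 8 (.node 4 (.node 2 (.node 1 (.leaf (nat_lit 0x190300e731)) (.leaf (nat_lit 0x190600e731))) (.node 1 (.leaf (nat_lit 0x1f07016051)) (.leaf (nat_lit 0x190500e751)))) (.node 2 (.node 1 (.leaf (nat_lit 0x1f07017b71)) (.leaf (nat_lit 0x190700e751))) (.node 1 (.leaf (nat_lit 0x190300e761)) (.leaf (nat_lit 0x1d08016181))))) (.node 4 (.node 2 (.node 1 (.leaf (nat_lit 0x1f07017bb1)) (.leaf (nat_lit 0x190700e791))) (.node 1 (.leaf (nat_lit 0x1d08017bf1)) (.leaf (nat_lit 0x190300e7b1)))) (.node 2 (.node 1 (.leaf (nat_lit 0x190800e7b1)) (.leaf (nat_lit 0x190200e7c1))) (.node 1 (.leaf (nat_lit 0x190800e7c1)) (.leaf (nat_lit 0x1b0700e991)))))))) (.node 32 (.node 16 (.node 8 (.node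 4 (.node 2 (.node 1 (.leaf (nat_lit 0x190300e801)) (.leaf (nat_lit 0x190600e801))) (.node 1 (.leaf (nat_lit 0x1f070162c1)) (.leaf (nat_lit 0x190500e821)))) (.node 2 (.node 1 (.leaf (nat_lit 0x1f07017cb1)) (.leaf (nat_lit 0x190700e821))) (.node 1 (.leaf (nat_lit 0x190300e831)) (.leaf (nat_lit 0x1d08016241))))) (.node 4 (.node 2 (.node 1 (.leaf (nat_lit 0x190600e861)) (.leaf (nat_lit 0x190700e861))) (.node 1 (.leaf (nat_lit 0x190500e871)) (.leaf (nat_lit 0x1f07017d51)))) (.node 2 (.node 1 (.leaf (nat_lit 0x190700e871)) (.leaf (nat_lit 0x190300e881))) (.node 1 (.leaf (nat_lit 0x1d080161d1)) (.leaf (nat_lit 0x1f07017d91)))))) (.node 8 (.node 4 (.node 2 (.node 1 (.leaf (nat_lit 0x190700e8b1)) (.leaf (nat_lit 0x1d08017dd1))) (.node 1 (.leaf (nat_lit 0x190300e8d1)) (.leaf (nat_lit 0x190800e8d1)))) (.node 2 (.node 1 (.leaf (nat_lit 0x190200e8e1)) (.leaf (nat_lit 0x190800e8e1))) (.node 1 (.leaf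 (nat_lit 0x1b0300ef01)) (.leaf (nat_lit 0x1f07017e31))))) (.node 4 (.node 2 (.node 1 (.leaf (nat_lit 0x1d08017e51)) (.leaf (nat_lit 0x190300e931))) (.node 1 (.leaf (nat_lit 0x190800e931)) (.leaf (nat_lit 0x1b08017ea1)))) (.node 2 (.node 1 (.leaf (nat_lit 0x1b03017ea1)) (.leaf (nat_lit 0x190200e951))) (.node 1 (.leaf (nat_lit 0x190800e951)) (.leaf (nat_lit 0x190100e971))))))) (.node 16 (.node 8 (.node 4 (.node 2 (.node 1 (.leaf (nat_lit 0x190800e971)) (.leaf (nat_lit 0x190700e981))) (.node 1 (.leaf (nat_lit 0xe0500e9a2)) (.leaf (nat_lit 0xe0700e9a2)))) (.node 2 (.node 1 (.leaf (nat_lit 0xe0400e9b2)) (.leaf (nat_lit 0xe0600e9b2))) (.node 1 (.leaf (nat_lit 0xe0700e9b2)) (.leaf (nat_lit 0xe0800e9c2))))) (.node 4 (.node 2 (.node 1 (.leaf (nat_lit 0x1d03017f71)) (.leaf (nat_lit 0xe0400e9e2))) (.node 1 (.leaf (nat_lit 0xe0600e9e2)) (.leaf (nat_lit 0xe0700e9e2)))) (.node 2 (.node 1 (.leaf (nat_lit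 0xe0300e9f2)) (.leaf (nat_lit 0xe0800e9f2))) (.node 1 (.leaf (nat_lit 0xe0600ea02)) (.leaf (nat_lit 0xe0700ea02)))))) (.node 8 (.node 4 (.node 2 (.node 1 (.leaf (nat_lit 0x1d04018041)) (.leaf (nat_lit 0xe0700ea12))) (.node 1 (.leaf (nat_lit 0xe0800ea22)) (.leaf (nat_lit 0xe0500ea52)))) (.node 2 (.node 1 (.leaf (nat_lit 0x1d050180a1)) (.leaf (nat_lit 0xe0700ea52))) (.node 1 (.leaf (nat_lit 0xe0300ea62)) (.leaf (nat_lit 0xe0800ea62))))) (.node 4 (.node 2 (.node 1 (.leaf (nat_lit 0x1f0700ea71)) (.leaf (nat_lit 0xe0800ea82))) (.node 1 (.leaf (nat_lit 0x190400eaa1)) (.leaf (nat_lit 0x190600eaa1)))) (.node 2 (.node 1 (.leaf (nat_lit 0x190700eaa1)) (.leaf (nat_lit 0x190800eab1))) (.node 1 (.leaf (nat_lit 0x190600eac1)) (.leaf (nat_lit 0x190700eac1))))))))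

noncomputable def oT38 : Tree :=
  .node 64 (.node 32 (.node 16 (.node 8 (.node 4 (.node 2 (.node 1 (.leaf (nat_lit 0x1d06017f71)) (.leaf (nat_lit 0x190700ead1))) (.node 1 (.leaf (nat_lit 0x190800eae1)) (.leaf (nat_lit 0x190300eb11)))) (.node 2 (.node 1 (.leaf (nat_lit 0x190600eb11)) (.leaf (nat_lit 0x190700eb11))) (.node 1 (.leaf (nat_lit 0x1d06017fd1)) (.leaf (nat_lit 0x190700eb21))))) (.node 4 (.node 2 (.node 1 (.leaf (nat_lit 0x190300eb31)) (.leaf (nat_lit 0x190800eb31))) (.node 1 (.leaf (nat_lit 0x190400eb41)) (.leaf (nat_lit 0x190800eb41)))) (.node 2 (.node 1 (.leaf (nat_lit 0x190500eb61)) (.leaf (nat_lit 0x1d06018041))) (.node 1 (.leaf (nat_lit 0x190700eb61)) (.leaf (nat_lit 0x190300eb71)))))) (.node 8 (.node 4 (.node 2 (.node 1 (.leaf (nat_lit 0x190800eb71)) (.leaf (nat_lit 0x1f0700eb81))) (.node 1 (.leaf (nat_lit 0x190800eb91)) (.leaf (nat_lit 0x1b0400eda1)))) (.node 2 (.node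 1 (.leaf (nat_lit 0x190700ebb1)) (.leaf (nat_lit 0x1d05018361))) (.node 1 (.leaf (nat_lit 0x190300ebd1)) (.leaf (nat_lit 0x190800ebd1))))) (.node 4 (.node 2 (.node 1 (.leaf (nat_lit 0x190200ebe1)) (.leaf (nat_lit 0x190800ebe1))) (.node 1 (.leaf (nat_lit 0x1f0500ee11)) (.leaf (nat_lit 0x190600ec21)))) (.node 2 (.node 1 (.leaf (nat_lit 0x190700ec21)) (.leaf (nat_lit 0x1d05018151))) (.node 1 (.leaf (nat_lit 0x190700ec31)) (.leaf (nat_lit 0x190800ec41))))))) (.node 16 (.node 8 (.node 4 (.node 2 (.node 1 (.leaf (nat_lit 0x190500ec61)) (.leaf (nat_lit 0x1d05018471))) (.node 1 (.leaf (nat_lit 0x190700ec61)) (.leaf (nat_lit 0x190300ec71)))) (.node 2 (.node 1 (.leaf (nat_lit 0x190800ec71)) (.leaf (nat_lit 0x1f0700ec81))) (.node 1 (.leaf (nat_lit 0x190800ec91)) (.leaf (nat_lit 0x190500ecb1))))) (.node 4 (.node 2 (.node 1 (.leaf (nat_lit 0x1d050184f1)) (.leaf (nat_lit 0x190700ecb1))) (.node 1 (.leaf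 (nat_lit 0x190300ecc1)) (.leaf (nat_lit 0x190800ecc1)))) (.node 2 (.node 1 (.leaf (nat_lit 0x1f0700ecd1)) (.leaf (nat_lit 0x190300ece1))) (.node 1 (.leaf (nat_lit 0x190800ece1)) (.leaf (nat_lit 0x190400ecf1)))))) (.node 8 (.node 4 (.node 2 (.node 1 (.leaf (nat_lit 0x190800ecf1)) (.leaf (nat_lit 0x190500ed11))) (.node 1 (.leaf (nat_lit 0x190800ed11)) (.leaf (nat_lit 0x1b0300ee91)))) (.node 2 (.node 1 (.leaf (nat_lit 0x190700ed31)) (.leaf (nat_lit 0x1d03018631))) (.node 1 (.leaf (nat_lit 0x190300ed51)) (.leaf (nat_lit 0x190800ed51))))) (.node 4 (.node 2 (.node 1 (.leaf (nat_lit 0x190200ed61)) (.leaf (nat_lit 0x190800ed61))) (.node 1 (.leaf (nat_lit 0x1f04018641)) (.leaf (nat_lit 0x190300ef11)))) (.node 2 (.node 1 (.leaf (nat_lit 0x1b030186b1)) (.leaf (nat_lit 0x190300edb1))) (.node 1 (.leaf (nat_lit 0x190800edb1)) (.leaf (nat_lit 0x1b0700ef51)))))))) (.node 32 (.node 16 (.node 8 (.node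 4 (.node 2 (.node 1 (.leaf (nat_lit 0x1d03018711)) (.leaf (nat_lit 0x190200edd1))) (.node 1 (.leaf (nat_lit 0x190800edd1)) (.leaf (nat_lit 0x190100edf1)))) (.node 2 (.node 1 (.leaf (nat_lit 0x190800edf1)) (.leaf (nat_lit 0x190700ee01))) (.node 1 (.leaf (nat_lit 0x1b07018791)) (.leaf (nat_lit 0x190700ee21))))) (.node 4 (.node 2 (.node 1 (.leaf (nat_lit 0x1b080187d1)) (.leaf (nat_lit 0x190300ee41))) (.node 1 (.leaf (nat_lit 0x190800ee41)) (.leaf (nat_lit 0x190200ee51)))) (.node 2 (.node 1 (.leaf (nat_lit 0x190800ee51)) (.leaf (nat_lit 0x1b040187d1))) (.node 1 (.leaf (nat_lit 0x190700efe1)) (.leaf (nat_lit 0x190800efc1)))))) (.node 8 (.node 4 (.node 2 (.node 1 (.leaf (nat_lit 0x190300eea1)) (.leaf (nat_lit 0x190800eea1))) (.node 1 (.leaf (nat_lit 0x1b08018881)) (.leaf (nat_lit 0x190100ef61)))) (.node 2 (.node 1 (.leaf (nat_lit 0x190200eec1)) (.leaf (nat_lit 0x190800eec1))) (.node 1 (.leaf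 (nat_lit 0x190100eee1)) (.leaf (nat_lit 0x190800eee1))))) (.node 4 (.node 2 (.node 1 (.leaf (nat_lit 0x190700eef1)) (.leaf (nat_lit 0x190800ef71))) (.node 1 (.leaf (nat_lit 0x190200ef31)) (.leaf (nat_lit 0x190400ef31)))) (.node 2 (.node 1 (.leaf (nat_lit 0x190800ef31)) (.leaf (nat_lit 0x190100ef71))) (.node 1 (.leaf (nat_lit 0x190700ef81)) (.leaf (nat_lit 0x190000ef91))))))) (.node 16 (.node 8 (.node 4 (.node 2 (.node 1 (.leaf (nat_lit 0x190800ef91)) (.leaf (nat_lit 0x190700efa1))) (.node 1 (.leaf (nat_lit 0x190000efc1)) (.leaf (nat_lit 0x190800efd1)))) (.node 2 (.node 1 (.leaf (nat_lit 0xe0400eff2)) (.leaf (nat_lit 0xe0700eff2))) (.node 1 (.leaf (nat_lit 0xe0800eff2)) (.leaf (nat_lit 0xe0300f032))))) (.node 4 (.node 2 (.node 1 (.leaf (nat_lit 0xe0400f042)) (.leaf (nat_lit 0xe0500f052))) (.node 1 (.leaf (nat_lit 0xe0400f062)) (.leaf (nat_lit 0xe0300f072)))) (.node 2 (.node 1 (.leaf (nat_lit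 0xe0500f072)) (.leaf (nat_lit 0xe0600f082))) (.node 1 (.leaf (nat_lit 0xe0400f092)) (.leaf (nat_lit 0xe0300f0a2)))))) (.node 8 (.node 4 (.node 2 (.node 1 (.leaf (nat_lit 0xe0500f0a2)) (.leaf (nat_lit 0xe0500f0e2))) (.node 1 (.leaf (nat_lit 0xe0600f0f2)) (.leaf (nat_lit 0xe0300f102)))) (.node 2 (.node 1 (.leaf (nat_lit 0xe0500f102)) (.leaf (nat_lit 0xe0500f112))) (.node 1 (.leaf (nat_lit 0xe0600f122)) (.leaf (nat_lit 0x190800f1a1))))) (.node 4 (.node 2 (.node 1 (.leaf (nat_lit 0xe0300f142)) (.leaf (nat_lit 0xe0500f142))) (.node 1 (.leaf (nat_lit 0xe0200f152)) (.leaf (nat_lit 0xe0500f152)))) (.node 2 (.node 1 (.leaf (nat_lit 0xe0700f152)) (.leaf (nat_lit 0xe0600f162))) (.node 1 (.leaf (nat_lit 0x190600f1b1)) (.leaf (nat_lit 0x1b0700f211))))))))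

noncomputable def oT39 : Tree :=
  .node 64 (.node 32 (.node 16 (.node 8 (.node 4 (.node 2 (.node 1 (.leaf (nat_lit 0x190200f1d1)) (.leaf (nat_lit 0x190500f1d1))) (.node 1 (.leaf (nat_lit 0x190600f1e1)) (.leaf (nat_lit 0x190400f1f1)))) (.node 2 (.node 1 (.leaf (nat_lit 0x190600f1f1)) (.leaf (nat_lit 0x190800f2b1))) (.node 1 (.leaf (nat_lit 0x190200f221)) (.leaf (nat_lit 0x190500f221))))) (.node 4 (.node 2 (.node 1 (.leaf (nat_lit 0x190700f221)) (.leaf (nat_lit 0x190600f231))) (.node 1 (.leaf (nat_lit 0x190500f241)) (.leaf (nat_lit 0x190700f241)))) (.node 2 (.node 1 (.leaf (nat_lit 0x190400f251)) (.leaf (nat_lit 0x190600f251))) (.node 1 (.leaf (nat_lit 0x190700f251)) (.leaf (nat_lit 0x1903010001)))))) (.node 8 (.node 4 (.node 2 (.node 1 (.leaf (nat_lit 0x1b0700f311)) (.leaf (nat_lit 0xe0200f2d2))) (.node 1 (.leaf (nat_lit 0xe0500f2d2)) (.leaf (nat_lit 0xe0600f2e2)))) (.node 2 (.node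 1 (.leaf (nat_lit 0xe0400f2f2)) (.leaf (nat_lit 0xe0600f2f2))) (.node 1 (.leaf (nat_lit 0x190800f3c1)) (.leaf (nat_lit 0xe0200f322))))) (.node 4 (.node 2 (.node 1 (.leaf (nat_lit 0xe0500f322)) (.leaf (nat_lit 0xe0700f322))) (.node 1 (.leaf (nat_lit 0xe0600f332)) (.leaf (nat_lit 0xe0500f342)))) (.node 2 (.node 1 (.leaf (nat_lit 0xe0700f342)) (.leaf (nat_lit 0xe0400f352))) (.node 1 (.leaf (nat_lit 0xe0600f352)) (.leaf (nat_lit 0xe0700f352))))))) (.node 16 (.node 8 (.node 4 (.node 2 (.node 1 (.leaf (nat_lit 0xe0800f362)) (.leaf (nat_lit 0x190300f9d1))) (.node 1 (.leaf (nat_lit 0xe0800f3a2)) (.leaf (nat_lit 0x190500f3e1)))) (.node 2 (.node 1 (.leaf (nat_lit 0x190400f3f1)) (.leaf (nat_lit 0x190600f3f1))) (.node 1 (.leaf (nat_lit 0x1b06018a91)) (.leaf (nat_lit 0x190600f411))))) (.node 4 (.node 2 (.node 1 (.leaf (nat_lit 0x190800f511)) (.leaf (nat_lit 0x190100f441))) (.node 1 (.leaf (nat_lit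 0x190500f441)) (.leaf (nat_lit 0x190700f441)))) (.node 2 (.node 1 (.leaf (nat_lit 0x190400f451)) (.leaf (nat_lit 0x190600f451))) (.node 1 (.leaf (nat_lit 0x190700f451)) (.leaf (nat_lit 0x1b06018a51)))))) (.node 8 (.node 4 (.node 2 (.node 1 (.leaf (nat_lit 0x190400f481)) (.leaf (nat_lit 0x190600f481))) (.node 1 (.leaf (nat_lit 0x190700f481)) (.leaf (nat_lit 0x190300f491)))) (.node 2 (.node 1 (.leaf (nat_lit 0x190600f4a1)) (.leaf (nat_lit 0x190700f4a1))) (.node 1 (.leaf (nat_lit 0x190700f9c1)) (.leaf (nat_lit 0x190700f4b1))))) (.node 4 (.node 2 (.node 1 (.leaf (nat_lit 0x190800f4c1)) (.leaf (nat_lit 0x190800f501))) (.node 1 (.leaf (nat_lit 0x190800f521)) (.leaf (nat_lit 0x190400f541)))) (.node 2 (.node 1 (.leaf (nat_lit 0x190600f541)) (.leaf (nat_lit 0x190600f551))) (.node 1 (.leaf (nat_lit 0x1b05018bd1)) (.leaf (nat_lit 0x190500f581)))))))) (.node 32 (.node 16 (.node 8 (.node 4 (.node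 2 (.node 1 (.leaf (nat_lit 0x190800f6b1)) (.leaf (nat_lit 0x190500f5a1))) (.node 1 (.leaf (nat_lit 0x190400f5b1)) (.leaf (nat_lit 0x190600f5b1)))) (.node 2 (.node 1 (.leaf (nat_lit 0x190700f5b1)) (.leaf (nat_lit 0x190600f5d1))) (.node 1 (.leaf (nat_lit 0x190700f5d1)) (.leaf (nat_lit 0x1b05018bc1))))) (.node 4 (.node 2 (.node 1 (.leaf (nat_lit 0x190700f5e1)) (.leaf (nat_lit 0x190300f611))) (.node 1 (.leaf (nat_lit 0x190600f611)) (.leaf (nat_lit 0x190700f611)))) (.node 2 (.node 1 (.leaf (nat_lit 0x1b07018e21)) (.leaf (nat_lit 0x190700f621))) (.node 1 (.leaf (nat_lit 0x190300f631)) (.leaf (nat_lit 0x190400f641)))))) (.node 8 (.node 4 (.node 2 (.node 1 (.leaf (nat_lit 0x190500f651)) (.leaf (nat_lit 0x190700fbf1))) (.node 1 (.leaf (nat_lit 0x190700f651)) (.leaf (nat_lit 0x190300f661)))) (.node 2 (.node 1 (.leaf (nat_lit 0x190800f661)) (.leaf (nat_lit 0x190500f9c1))) (.node 1 (.leaf (nat_lit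 0x190800f681)) (.leaf (nat_lit 0x190800f6c1))))) (.node 4 (.node 2 (.node 1 (.leaf (nat_lit 0x190800f6d1)) (.leaf (nat_lit 0x190500f8f1))) (.node 1 (.leaf (nat_lit 0xe0200f712)) (.leaf (nat_lit 0xe0500f712)))) (.node 2 (.node 1 (.leaf (nat_lit 0xe0600f722)) (.leaf (nat_lit 0xe0500f732))) (.node 1 (.leaf (nat_lit 0xe0700f732)) (.leaf (nat_lit 0xe0400f742))))))) (.node 16 (.node 8 (.node 4 (.node 2 (.node 1 (.leaf (nat_lit 0xe0600f742)) (.leaf (nat_lit 0xe0700f742))) (.node 1 (.leaf (nat_lit 0x1b0800f841)) (.leaf (nat_lit 0xe0700f772)))) (.node 2 (.node 1 (.leaf (nat_lit 0xe0700f782)) (.leaf (nat_lit 0xe0800f792))) (.node 1 (.leaf (nat_lit 0xe0500f7c2)) (.leaf (nat_lit 0xe0400f7d2))))) (.node 4 (.node 2 (.node 1 (.leaf (nat_lit 0xe0600f7d2)) (.leaf (nat_lit 0x1b03018c21))) (.node 1 (.leaf (nat_lit 0xe0400f7f2)) (.leaf (nat_lit 0xe0600f7f2)))) (.node 2 (.node 1 (.leaf (nat_lit 0xe0700f7f2))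 (.leaf (nat_lit 0xe0300f802))) (.node 1 (.leaf (nat_lit 0x190500f861)) (.leaf (nat_lit 0x190400f871)))))) (.node 8 (.node 4 (.node 2 (.node 1 (.leaf (nat_lit 0x190600f871)) (.leaf (nat_lit 0x1b03018f91))) (.node 1 (.leaf (nat_lit 0x190400f891)) (.leaf (nat_lit 0x190600f891)))) (.node 2 (.node 1 (.leaf (nat_lit 0x190700f891)) (.leaf (nat_lit 0x190600f8b1))) (.node 1 (.leaf (nat_lit 0x190700f8b1)) (.leaf (nat_lit 0x1b0800f9e1))))) (.node 4 (.node 2 (.node 1 (.leaf (nat_lit 0x190700f8c1)) (.leaf (nat_lit 0x190700f8f1))) (.node 1 (.leaf (nat_lit 0x190300f901)) (.leaf (nat_lit 0x190800f901)))) (.node 2 (.node 1 (.leaf (nat_lit 0x19060105a1)) (.leaf (nat_lit 0x190800f921))) (.node 1 (.leaf (nat_lit 0x190400f941)) (.leaf (nat_lit 0x190600f941))))))))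

noncomputable def oT40 : Tree :=
  .node 64 (.node 32 (.node 16 (.node 8 (.node 4 (.node 2 (.node 1 (.leaf (nat_lit 0x190600f951)) (.leaf (nat_lit 0x1b07018bd1))) (.node 1 (.leaf (nat_lit 0x190300f981)) (.leaf (nat_lit 0x190600f981)))) (.node 2 (.node 1 (.leaf (nat_lit 0x190700f981)) (.leaf (nat_lit 0x1b07018c51))) (.node 1 (.leaf (nat_lit 0x190700f991)) (.leaf (nat_lit 0x190300f9a1))))) (.node 4 (.node 2 (.node 1 (.leaf (nat_lit 0x190400f9b1)) (.leaf (nat_lit 0x190400fa21))) (.node 1 (.leaf (nat_lit 0x190600fa21)) (.leaf (nat_lit 0x190600fa31)))) (.node 2 (.node 1 (.leaf (nat_lit 0x1b07018e91)) (.leaf (nat_lit 0x190300fa61))) (.node 1 (.leaf (nat_lit 0x190600fa61)) (.leaf (nat_lit 0x190700fa61)))))) (.node 8 (.node 4 (.node 2 (.node 1 (.leaf (nat_lit 0x1d05018fd1)) (.leaf (nat_lit 0x190700fa71))) (.node 1 (.leaf (nat_lit 0x190500fa91)) (.leaf (nat_lit 0x1b0800fc01)))) (.node 2 (.node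 1 (.leaf (nat_lit 0x190700fa91)) (.leaf (nat_lit 0x190300faa1))) (.node 1 (.leaf (nat_lit 0x1b05018f81)) (.leaf (nat_lit 0x190700fad1))))) (.node 4 (.node 2 (.node 1 (.leaf (nat_lit 0x1905010611)) (.leaf (nat_lit 0x190300faf1))) (.node 1 (.leaf (nat_lit 0x190800faf1)) (.leaf (nat_lit 0x190800fb01)))) (.node 2 (.node 1 (.leaf (nat_lit 0x19050105f1)) (.leaf (nat_lit 0x190300fb41))) (.node 1 (.leaf (nat_lit 0x190600fb41)) (.leaf (nat_lit 0x1d07018cf1))))))) (.node 16 (.node 8 (.node 4 (.node 2 (.node 1 (.leaf (nat_lit 0x190500fb61)) (.leaf (nat_lit 0x1b07018d11))) (.node 1 (.leaf (nat_lit 0x190600fb81)) (.leaf (nat_lit 0x190700fb81)))) (.node 2 (.node 1 (.leaf (nat_lit 0x190500fb91)) (.leaf (nat_lit 0x1b07018de1))) (.node 1 (.leaf (nat_lit 0x190700fb91)) (.leaf (nat_lit 0x190300fba1))))) (.node 4 (.node 2 (.node 1 (.leaf (nat_lit 0x1b05018c51)) (.leaf (nat_lit 0x190300fbc1))) (.node 1 (.leaf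 (nat_lit 0x190400fbd1)) (.leaf (nat_lit 0x190500fbe1)))) (.node 2 (.node 1 (.leaf (nat_lit 0x190300fc51)) (.leaf (nat_lit 0x190600fc51))) (.node 1 (.leaf (nat_lit 0x1d04019281)) (.leaf (nat_lit 0x190500fc71)))))) (.node 8 (.node 4 (.node 2 (.node 1 (.leaf (nat_lit 0x1b030190c1)) (.leaf (nat_lit 0x190700fc71))) (.node 1 (.leaf (nat_lit 0x190300fc81)) (.leaf (nat_lit 0x1b040192a1)))) (.node 2 (.node 1 (.leaf (nat_lit 0x190600fcb1)) (.leaf (nat_lit 0x190700fcb1))) (.node 1 (.leaf (nat_lit 0x190500fcc1)) (.leaf (nat_lit 0x1d0800fe41))))) (.node 4 (.node 2 (.node 1 (.leaf (nat_lit 0x190700fcc1)) (.leaf (nat_lit 0x190300fcd1))) (.node 1 (.leaf (nat_lit 0x1d04019341)) (.leaf (nat_lit 0x1b0800fe51)))) (.node 2 (.node 1 (.leaf (nat_lit 0x190700fd01)) (.leaf (nat_lit 0x1b03019291))) (.node 1 (.leaf (nat_lit 0x190300fd21)) (.leaf (nat_lit 0x190200fd31)))))))) (.node 32 (.node 16 (.node 8 (.node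 4 (.node 2 (.node 1 (.leaf (nat_lit 0x1903010711)) (.leaf (nat_lit 0x190300fd61))) (.node 1 (.leaf (nat_lit 0x19070106f1)) (.leaf (nat_lit 0x190200fd81)))) (.node 2 (.node 1 (.leaf (nat_lit 0x190100fd91)) (.leaf (nat_lit 0x190300fda1))) (.node 1 (.leaf (nat_lit 0x190600fda1)) (.leaf (nat_lit 0x1d04019401))))) (.node 4 (.node 2 (.node 1 (.leaf (nat_lit 0x190600fdc1)) (.leaf (nat_lit 0x190700fdc1))) (.node 1 (.leaf (nat_lit 0x190500fdd1)) (.leaf (nat_lit 0x1d0200fe01)))) (.node 2 (.node 1 (.leaf (nat_lit 0x1b03018d91)) (.leaf (nat_lit 0x190500fe11))) (.node 1 (.leaf (nat_lit 0x1d020191b1)) (.leaf (nat_lit 0x190700fe11)))))) (.node 8 (.node 4 (.node 2 (.node 1 (.leaf (nat_lit 0x190800fe21)) (.leaf (nat_lit 0x1b0200fe51))) (.node 1 (.leaf (nat_lit 0xe0400fe62)) (.leaf (nat_lit 0xe0600fe62)))) (.node 2 (.node 1 (.leaf (nat_lit 0xe0600fe72)) (.leaf (nat_lit 0x1b07018a91))) (.node 1 (.leaf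 (nat_lit 0xe0300fea2)) (.leaf (nat_lit 0xe0600fea2))))) (.node 4 (.node 2 (.node 1 (.leaf (nat_lit 0xe0700fea2)) (.leaf (nat_lit 0x1b07018ab1))) (.node 1 (.leaf (nat_lit 0xe0700feb2)) (.leaf (nat_lit 0xe0300fec2)))) (.node 2 (.node 1 (.leaf (nat_lit 0xe0400fed2)) (.leaf (nat_lit 0x190300ff41))) (.node 1 (.leaf (nat_lit 0x190600ff41)) (.leaf (nat_lit 0x1d060194d1))))))) (.node 16 (.node 8 (.node 4 (.node 2 (.node 1 (.leaf (nat_lit 0x1b07018a71)) (.leaf (nat_lit 0x190600ff81))) (.node 1 (.leaf (nat_lit 0x190700ff81)) (.leaf (nat_lit 0x1b07018ac1)))) (.node 2 (.node 1 (.leaf (nat_lit 0x190700ff91)) (.leaf (nat_lit 0x190300ffa1))) (.node 1 (.leaf (nat_lit 0x1b06018ab1)) (.leaf (nat_lit 0x190300ffc1))))) (.node 4 (.node 2 (.node 1 (.leaf (nat_lit 0x190400ffd1)) (.leaf (nat_lit 0x190500ffe1))) (.node 1 (.leaf (nat_lit 0x1902010011)) (.leaf (nat_lit 0x1907010041)))) (.node 2 (.node 1 (.leaf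 (nat_lit 0x1d050195e1)) (.leaf (nat_lit 0x1904010081))) (.node 1 (.leaf (nat_lit 0x1905010091)) (.leaf (nat_lit 0x19060100a1)))))) (.node 8 (.node 4 (.node 2 (.node 1 (.leaf (nat_lit 0xe030100b2)) (.leaf (nat_lit 0xe060100b2))) (.node 1 (.leaf (nat_lit 0xe050100d2)) (.leaf (nat_lit 0xe060100e2)))) (.node 2 (.node 1 (.leaf (nat_lit 0xe070100e2)) (.leaf (nat_lit 0xe050100f2))) (.node 1 (.leaf (nat_lit 0xe070100f2)) (.leaf (nat_lit 0xe03010102))))) (.node 4 (.node 2 (.node 1 (.leaf (nat_lit 0xe03010112)) (.leaf (nat_lit 0xe04010122))) (.node 1 (.leaf (nat_lit 0xe05010132)) (.leaf (nat_lit 0xe02010162)))) (.node 2 (.node 1 (.leaf (nat_lit 0xe07010182)) (.leaf (nat_lit 0x1907010191))) (.node 1 (.leaf (nat_lit 0x19030101a1)) (.leaf (nat_lit 0x19080101a1))))))))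

noncomputable def oT41 : Tree :=
  .node 64 (.node 32 (.node 16 (.node 8 (.node 4 (.node 2 (.node 1 (.leaf (nat_lit 0x19020101b1)) (.leaf (nat_lit 0x19040101b1))) (.node 1 (.leaf (nat_lit 0x19050101c1)) (.leaf (nat_lit 0x19060101d1)))) (.node 2 (.node 1 (.leaf (nat_lit 0x19010101e1)) (.leaf (nat_lit 0x19080101f1))) (.node 1 (.leaf (nat_lit 0x1907010201)) (.leaf (nat_lit 0x1d08015441))))) (.node 4 (.node 2 (.node 1 (.leaf (nat_lit 0xe05010232)) (.leaf (nat_lit 0xe07010232))) (.node 1 (.leaf (nat_lit 0xe04010242)) (.leaf (nat_lit 0xe07010242)))) (.node 2 (.node 1 (.leaf (nat_lit 0xe07010262)) (.leaf (nat_lit 0xe08010262))) (.node 1 (.leaf (nat_lit 0xe04010292)) (.leaf (nat_lit 0xe050102a2)))))) (.node 8 (.node 4 (.node 2 (.node 1 (.leaf (nat_lit 0xe060102b2)) (.leaf (nat_lit 0xe030102f2))) (.node 1 (.leaf (nat_lit 0xe06010302)) (.leaf (nat_lit 0x1907010341)))) (.node 2 (.node 1 (.leaf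 (nat_lit 0x1904010361)) (.leaf (nat_lit 0x1b03010381))) (.node 1 (.leaf (nat_lit 0x19030103c1)) (.leaf (nat_lit 0x1903010681))))) (.node 4 (.node 2 (.node 1 (.leaf (nat_lit 0x1906010681)) (.leaf (nat_lit 0x1b04019871))) (.node 1 (.leaf (nat_lit 0x19060106a1)) (.leaf (nat_lit 0x19050106b1)))) (.node 2 (.node 1 (.leaf (nat_lit 0x1905010811)) (.leaf (nat_lit 0x19070106b1))) (.node 1 (.leaf (nat_lit 0x1b04019391)) (.leaf (nat_lit 0x1907010751))))))) (.node 16 (.node 8 (.node 4 (.node 2 (.node 1 (.leaf (nat_lit 0x19020107b1)) (.leaf (nat_lit 0x1b03010781))) (.node 1 (.leaf (nat_lit 0x19020107e1)) (.leaf (nat_lit 0x19060107e1)))) (.node 2 (.node 1 (.leaf (nat_lit 0x19050107f1)) (.leaf (nat_lit 0x1b05019851))) (.node 1 (.leaf (nat_lit 0xe04010892)) (.leaf (nat_lit 0xf030108b2))))) (.node 4 (.node 2 (.node 1 (.leaf (nat_lit 0xf020108c2)) (.leaf (nat_lit 0xf040108c2))) (.node 1 (.leaf (nat_lit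 0xf010108d2)) (.leaf (nat_lit 0xf040108d2)))) (.node 2 (.node 1 (.leaf (nat_lit 0xf050108e2)) (.leaf (nat_lit 0x1a000108f1))) (.node 1 (.leaf (nat_lit 0x1a040108f1)) (.leaf (nat_lit 0x1a03010901)))))) (.node 8 (.node 4 (.node 2 (.node 1 (.leaf (nat_lit 0x1a05010901)) (.leaf (nat_lit 0x1a06010911))) (.node 1 (.leaf (nat_lit 0xf01010922)) (.leaf (nat_lit 0xf04010922)))) (.node 2 (.node 1 (.leaf (nat_lit 0xf05010932)) (.leaf (nat_lit 0xf00010942))) (.node 1 (.leaf (nat_lit 0xf04010942)) (.leaf (nat_lit 0xf03010952))))) (.node 4 (.node 2 (.node 1 (.leaf (nat_lit 0xf05010952)) (.leaf (nat_lit 0xf06010962))) (.node 1 (.leaf (nat_lit 0x1a04010971)) (.leaf (nat_lit 0x1a03010981)))) (.node 2 (.node 1 (.leaf (nat_lit 0x1a05010981)) (.leaf (nat_lit 0x1a05010991))) (.node 1 (.leaf (nat_lit 0x1a07010991)) (.leaf (nat_lit 0x1a060109a1)))))))) (.node 32 (.node 16 (.node 8 (.node 4 (.node 2 (.node 1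 (.leaf (nat_lit 0x1c06019a31)) (.leaf (nat_lit 0xf040109c2))) (.node 1 (.leaf (nat_lit 0xf030109d2)) (.leaf (nat_lit 0xf050109d2)))) (.node 2 (.node 1 (.leaf (nat_lit 0xf050109e2)) (.leaf (nat_lit 0xf070109e2))) (.node 1 (.leaf (nat_lit 0xf060109f2)) (.leaf (nat_lit 0x1c04019a31))))) (.node 4 (.node 2 (.node 1 (.leaf (nat_lit 0x1a03010a11)) (.leaf (nat_lit 0x1a05010a11))) (.node 1 (.leaf (nat_lit 0x1a02010a21)) (.leaf (nat_lit 0x1a05010a21)))) (.node 2 (.node 1 (.leaf (nat_lit 0x1a07010a21)) (.leaf (nat_lit 0x1a06010a31))) (.node 1 (.leaf (nat_lit 0x1a04010a41)) (.leaf (nat_lit 0x1a06010a41)))))) (.node 8 (.node 4 (.node 2 (.node 1 (.leaf (nat_lit 0x1a07010a41)) (.leaf (nat_lit 0x1a08010a51))) (.node 1 (.leaf (nat_lit 0x1c06019b51)) (.leaf (nat_lit 0x1a02010a81)))) (.node 2 (.node 1 (.leaf (nat_lit 0x1a05010a81)) (.leaf (nat_lit 0x1a07010a81))) (.node 1 (.leaf (nat_lit 0x1a06010a91))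 (.leaf (nat_lit 0x1a05010aa1))))) (.node 4 (.node 2 (.node 1 (.leaf (nat_lit 0x1a07010aa1)) (.leaf (nat_lit 0x1a04010ab1))) (.node 1 (.leaf (nat_lit 0x1a06010ab1)) (.leaf (nat_lit 0x1a07010ab1)))) (.node 2 (.node 1 (.leaf (nat_lit 0x1a08010ac1)) (.leaf (nat_lit 0x1c05019c01))) (.node 1 (.leaf (nat_lit 0x1a06010ae1)) (.leaf (nat_lit 0x1a07010ae1))))))) (.node 16 (.node 8 (.node 4 (.node 2 (.node 1 (.leaf (nat_lit 0x1c05019c31)) (.leaf (nat_lit 0x1a07010af1))) (.node 1 (.leaf (nat_lit 0x1a08010b01)) (.leaf (nat_lit 0xf01010b32)))) (.node 2 (.node 1 (.leaf (nat_lit 0xf04010b32)) (.leaf (nat_lit 0xf05010b42))) (.node 1 (.leaf (nat_lit 0xf00010b52)) (.leaf (nat_lit 0xf04010b52))))) (.node 4 (.node 2 (.node 1 (.leaf (nat_lit 0xf03010b62)) (.leaf (nat_lit 0xf05010b62))) (.node 1 (.leaf (nat_lit 0xf06010b72)) (.leaf (nat_lit 0xf04010b82)))) (.node 2 (.node 1 (.leaf (nat_lit 0xf03010b92)) (.leaf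 (nat_lit 0xf05010b92))) (.node 1 (.leaf (nat_lit 0xf06010ba2)) (.leaf (nat_lit 0xf04010bb2)))))) (.node 8 (.node 4 (.node 2 (.node 1 (.leaf (nat_lit 0xf03010bc2)) (.leaf (nat_lit 0xf05010bc2))) (.node 1 (.leaf (nat_lit 0xf05010bd2)) (.leaf (nat_lit 0xf07010bd2)))) (.node 2 (.node 1 (.leaf (nat_lit 0xf06010be2)) (.leaf (nat_lit 0x1c07019a31))) (.node 1 (.leaf (nat_lit 0x1a03010c01)) (.leaf (nat_lit 0x1a05010c01))))) (.node 4 (.node 2 (.node 1 (.leaf (nat_lit 0x1a05010c11)) (.leaf (nat_lit 0x1a07010c11))) (.node 1 (.leaf (nat_lit 0x1a06010c21)) (.leaf (nat_lit 0x1e08010ca1)))) (.node 2 (.node 1 (.leaf (nat_lit 0x1a03010c41)) (.leaf (nat_lit 0x1a05010c41))) (.node 1 (.leaf (nat_lit 0x1a02010c51)) (.leaf (nat_lit 0x1a05010c51))))))))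

noncomputable def oT42 : Tree :=
  .node 64 (.node 32 (.node 16 (.node 8 (.node 4 (.node 2 (.node 1 (.leaf (nat_lit 0x1a07010c51)) (.leaf (nat_lit 0x1a06010c61))) (.node 1 (.leaf (nat_lit 0x1a04010c71)) (.leaf (nat_lit 0x1a06010c71)))) (.node 2 (.node 1 (.leaf (nat_lit 0x1a07010c71)) (.leaf (nat_lit 0x1a08010c81))) (.node 1 (.leaf (nat_lit 0x1c07019aa1)) (.leaf (nat_lit 0xf03010cb2))))) (.node 4 (.node 2 (.node 1 (.leaf (nat_lit 0xf05010cb2)) (.leaf (nat_lit 0xf05010cc2))) (.node 1 (.leaf (nat_lit 0xf07010cc2)) (.leaf (nat_lit 0xf06010cd2)))) (.node 2 (.node 1 (.leaf (nat_lit 0x1e08010d51)) (.leaf (nat_lit 0xf03010cf2))) (.node 1 (.leaf (nat_lit 0xf05010cf2)) (.leaf (nat_lit 0xf02010d02)))))) (.node 8 (.node 4 (.node 2 (.node 1 (.leaf (nat_lit 0xf05010d02)) (.leaf (nat_lit 0xf07010d02))) (.node 1 (.leaf (nat_lit 0xf06010d12)) (.leaf (nat_lit 0xf04010d22)))) (.node 2 (.node 1 (.leaf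 (nat_lit 0xf06010d22)) (.leaf (nat_lit 0xf07010d22))) (.node 1 (.leaf (nat_lit 0xf08010d32)) (.leaf (nat_lit 0x1c07019b51))))) (.node 4 (.node 2 (.node 1 (.leaf (nat_lit 0x1a02010d61)) (.leaf (nat_lit 0x1a05010d61))) (.node 1 (.leaf (nat_lit 0x1a07010d61)) (.leaf (nat_lit 0x1a06010d71)))) (.node 2 (.node 1 (.leaf (nat_lit 0x1a04010d81)) (.leaf (nat_lit 0x1a06010d81))) (.node 1 (.leaf (nat_lit 0x1a07010d81)) (.leaf (nat_lit 0x1a08010d91))))))) (.node 16 (.node 8 (.node 4 (.node 2 (.node 1 (.leaf (nat_lit 0x1e08010e61)) (.leaf (nat_lit 0x1a02010dc1))) (.node 1 (.leaf (nat_lit 0x1a05010dc1)) (.leaf (nat_lit 0x1a07010dc1)))) (.node 2 (.node 1 (.leaf (nat_lit 0x1a06010dd1)) (.leaf (nat_lit 0x1a05010de1))) (.node 1 (.leaf (nat_lit 0x1a07010de1)) (.leaf (nat_lit 0x1a04010df1))))) (.node 4 (.node 2 (.node 1 (.leaf (nat_lit 0x1a06010df1)) (.leaf (nat_lit 0x1a07010df1))) (.node 1 (.leaf (nat_lit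 0x1a08010e01)) (.leaf (nat_lit 0x1c07019c01)))) (.node 2 (.node 1 (.leaf (nat_lit 0x1a06010e21)) (.leaf (nat_lit 0x1a07010e21))) (.node 1 (.leaf (nat_lit 0x1e03010e61)) (.leaf (nat_lit 0x1a07010e31)))))) (.node 8 (.node 4 (.node 2 (.node 1 (.leaf (nat_lit 0x1a08010e41)) (.leaf (nat_lit 0x1a05010e71))) (.node 1 (.leaf (nat_lit 0x1a07010e71)) (.leaf (nat_lit 0x1a04010e81)))) (.node 2 (.node 1 (.leaf (nat_lit 0x1a06010e81)) (.leaf (nat_lit 0x1a07010e81))) (.node 1 (.leaf (nat_lit 0x1a08010e91)) (.leaf (nat_lit 0x1e08010fa1))))) (.node 4 (.node 2 (.node 1 (.leaf (nat_lit 0x1a06010eb1)) (.leaf (nat_lit 0x1a07010eb1))) (.node 1 (.leaf (nat_lit 0x2008010fd1)) (.leaf (nat_lit 0x1a07010ec1)))) (.node 2 (.node 1 (.leaf (nat_lit 0x1a08010ed1)) (.leaf (nat_lit 0x1a01010f01))) (.node 1 (.leaf (nat_lit 0x1a05010f01)) (.leaf (nat_lit 0x1a07010f01)))))))) (.node 32 (.node 16 (.node 8 (.node 4 (.node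 2 (.node 1 (.leaf (nat_lit 0x1a04010f11)) (.leaf (nat_lit 0x1a06010f11))) (.node 1 (.leaf (nat_lit 0x1a07010f11)) (.leaf (nat_lit 0x1a08010f21)))) (.node 2 (.node 1 (.leaf (nat_lit 0x1c07019cd1)) (.leaf (nat_lit 0x1a04010f41))) (.node 1 (.leaf (nat_lit 0x1a06010f41)) (.leaf (nat_lit 0x1a07010f41))))) (.node 4 (.node 2 (.node 1 (.leaf (nat_lit 0x1a03010f51)) (.leaf (nat_lit 0x1a08010f51))) (.node 1 (.leaf (nat_lit 0x1a06010f61)) (.leaf (nat_lit 0x1a07010f61)))) (.node 2 (.node 1 (.leaf (nat_lit 0x1e03010fa1)) (.leaf (nat_lit 0x1a07010f71))) (.node 1 (.leaf (nat_lit 0x1a08010f81)) (.leaf (nat_lit 0x1a05010fb1)))))) (.node 8 (.node 4 (.node 2 (.node 1 (.leaf (nat_lit 0x2004010fd1)) (.leaf (nat_lit 0x1a07010fb1))) (.node 1 (.leaf (nat_lit 0x1a03010fc1)) (.leaf (nat_lit 0x1a08010fc1)))) (.node 2 (.node 1 (.leaf (nat_lit 0x1e03019dd1)) (.leaf (nat_lit 0x1a08010fe1))) (.node 1 (.leaf (nat_lit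 0xf04011002)) (.leaf (nat_lit 0xf03011012))))) (.node 4 (.node 2 (.node 1 (.leaf (nat_lit 0xf05011012)) (.leaf (nat_lit 0xf05011022))) (.node 1 (.leaf (nat_lit 0xf07011022)) (.leaf (nat_lit 0xf06011032)))) (.node 2 (.node 1 (.leaf (nat_lit 0x200201a8d1)) (.leaf (nat_lit 0xf03011052))) (.node 1 (.leaf (nat_lit 0xf05011052)) (.leaf (nat_lit 0xf02011062))))))) (.node 16 (.node 8 (.node 4 (.node 2 (.node 1 (.leaf (nat_lit 0xf05011062)) (.leaf (nat_lit 0xf07011062))) (.node 1 (.leaf (nat_lit 0xf06011072)) (.leaf (nat_lit 0xf04011082)))) (.node 2 (.node 1 (.leaf (nat_lit 0xf06011082)) (.leaf (nat_lit 0xf07011082))) (.node 1 (.leaf (nat_lit 0xf08011092)) (.leaf (nat_lit 0x200701a8d1))))) (.node 4 (.node 2 (.node 1 (.leaf (nat_lit 0xf020110c2)) (.leaf (nat_lit 0xf050110c2))) (.node 1 (.leaf (nat_lit 0xf070110c2)) (.leaf (nat_lit 0xf060110d2)))) (.node 2 (.node 1 (.leaf (nat_lit 0xf050110e2))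 (.leaf (nat_lit 0xf070110e2))) (.node 1 (.leaf (nat_lit 0xf040110f2)) (.leaf (nat_lit 0xf060110f2)))))) (.node 8 (.node 4 (.node 2 (.node 1 (.leaf (nat_lit 0xf070110f2)) (.leaf (nat_lit 0xf08011102))) (.node 1 (.leaf (nat_lit 0x200801a981)) (.leaf (nat_lit 0xf06011122)))) (.node 2 (.node 1 (.leaf (nat_lit 0xf07011122)) (.leaf (nat_lit 0x1e0201a261))) (.node 1 (.leaf (nat_lit 0xf07011132)) (.leaf (nat_lit 0xf08011142))))) (.node 4 (.node 2 (.node 1 (.leaf (nat_lit 0x1a03011171)) (.leaf (nat_lit 0x1a05011171))) (.node 1 (.leaf (nat_lit 0x1a02011181)) (.leaf (nat_lit 0x1a05011181)))) (.node 2 (.node 1 (.leaf (nat_lit 0x1a07011181)) (.leaf (nat_lit 0x1a06011191))) (.node 1 (.leaf (nat_lit 0x1a040111a1)) (.leaf (nat_lit 0x1a060111a1))))))))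

noncomputable def oT43 : Tree :=
  .node 64 (.node 32 (.node 16 (.node 8 (.node 4 (.node 2 (.node 1 (.leaf (nat_lit 0x1a070111a1)) (.leaf (nat_lit 0x1a080111b1))) (.node 1 (.leaf (nat_lit 0x200601a8d1)) (.leaf (nat_lit 0x1a020111e1)))) (.node 2 (.node 1 (.leaf (nat_lit 0x1a050111e1)) (.leaf (nat_lit 0x1a070111e1))) (.node 1 (.leaf (nat_lit 0x1a060111f1)) (.leaf (nat_lit 0x1a05011201))))) (.node 4 (.node 2 (.node 1 (.leaf (nat_lit 0x1a07011201)) (.leaf (nat_lit 0x1a04011211))) (.node 1 (.leaf (nat_lit 0x1a06011211)) (.leaf (nat_lit 0x1a07011211)))) (.node 2 (.node 1 (.leaf (nat_lit 0x1a08011221)) (.leaf (nat_lit 0x200701ac11))) (.node 1 (.leaf (nat_lit 0x1a06011241)) (.leaf (nat_lit 0x1a07011241)))))) (.node 8 (.node 4 (.node 2 (.node 1 (.leaf (nat_lit 0x2008011361)) (.leaf (nat_lit 0x1a07011251))) (.node 1 (.leaf (nat_lit 0x1a08011261)) (.leaf (nat_lit 0x1a01011291)))) (.node 2 (.node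 1 (.leaf (nat_lit 0x1a05011291)) (.leaf (nat_lit 0x1a07011291))) (.node 1 (.leaf (nat_lit 0x1a040112a1)) (.leaf (nat_lit 0x1a060112a1))))) (.node 4 (.node 2 (.node 1 (.leaf (nat_lit 0x1a070112a1)) (.leaf (nat_lit 0x1a080112b1))) (.node 1 (.leaf (nat_lit 0x200801ace1)) (.leaf (nat_lit 0x1a040112d1)))) (.node 2 (.node 1 (.leaf (nat_lit 0x1a060112d1)) (.leaf (nat_lit 0x1a070112d1))) (.node 1 (.leaf (nat_lit 0x1a030112e1)) (.leaf (nat_lit 0x1a080112e1))))))) (.node 16 (.node 8 (.node 4 (.node 2 (.node 1 (.leaf (nat_lit 0x1a060112f1)) (.leaf (nat_lit 0x1a070112f1))) (.node 1 (.leaf (nat_lit 0x2001011361)) (.leaf (nat_lit 0x1a07011301)))) (.node 2 (.node 1 (.leaf (nat_lit 0x1a08011311)) (.leaf (nat_lit 0x1a05011341))) (.node 1 (.leaf (nat_lit 0x1e0201a481)) (.leaf (nat_lit 0x1a07011341))))) (.node 4 (.node 2 (.node 1 (.leaf (nat_lit 0x1a03011351)) (.leaf (nat_lit 0x1a08011351))) (.node 1 (.leaf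 (nat_lit 0x1e0201a4c1)) (.leaf (nat_lit 0x1a08011371)))) (.node 2 (.node 1 (.leaf (nat_lit 0x1a02011391)) (.leaf (nat_lit 0x1a05011391))) (.node 1 (.leaf (nat_lit 0x1a07011391)) (.leaf (nat_lit 0x1a060113a1)))))) (.node 8 (.node 4 (.node 2 (.node 1 (.leaf (nat_lit 0x1a050113b1)) (.leaf (nat_lit 0x1a070113b1))) (.node 1 (.leaf (nat_lit 0x1a040113c1)) (.leaf (nat_lit 0x1a060113c1)))) (.node 2 (.node 1 (.leaf (nat_lit 0x1a070113c1)) (.leaf (nat_lit 0x1a080113d1))) (.node 1 (.leaf (nat_lit 0x1e0301b121)) (.leaf (nat_lit 0x1a060113f1))))) (.node 4 (.node 2 (.node 1 (.leaf (nat_lit 0x1a070113f1)) (.leaf (nat_lit 0x1e0401b161))) (.node 1 (.leaf (nat_lit 0x1a07011401)) (.leaf (nat_lit 0x1a08011411)))) (.node 2 (.node 1 (.leaf (nat_lit 0x1a01011441)) (.leaf (nat_lit 0x1a05011441))) (.node 1 (.leaf (nat_lit 0x1a07011441)) (.leaf (nat_lit 0x1a04011451)))))))) (.node 32 (.node 16 (.node 8 (.node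 4 (.node 2 (.node 1 (.leaf (nat_lit 0x1a06011451)) (.leaf (nat_lit 0x1a07011451))) (.node 1 (.leaf (nat_lit 0x1a08011461)) (.leaf (nat_lit 0x200701b0a1)))) (.node 2 (.node 1 (.leaf (nat_lit 0x1a04011481)) (.leaf (nat_lit 0x1a06011481))) (.node 1 (.leaf (nat_lit 0x1a07011481)) (.leaf (nat_lit 0x1a03011491))))) (.node 4 (.node 2 (.node 1 (.leaf (nat_lit 0x1a08011491)) (.leaf (nat_lit 0x1a060114a1))) (.node 1 (.leaf (nat_lit 0x1a070114a1)) (.leaf (nat_lit 0x200701b361)))) (.node 2 (.node 1 (.leaf (nat_lit 0x1a070114b1)) (.leaf (nat_lit 0x1a080114c1))) (.node 1 (.leaf (nat_lit 0x1a050114f1)) (.leaf (nat_lit 0x2003011831)))))) (.node 8 (.node 4 (.node 2 (.node 1 (.leaf (nat_lit 0x1a070114f1)) (.leaf (nat_lit 0x1a03011501))) (.node 1 (.leaf (nat_lit 0x1a08011501)) (.leaf (nat_lit 0x200301b1a1)))) (.node 2 (.node 1 (.leaf (nat_lit 0x1a08011521)) (.leaf (nat_lit 0x1a05011541))) (.node 1 (.leaf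 (nat_lit 0x1a07011541)) (.leaf (nat_lit 0x1a04011551))))) (.node 4 (.node 2 (.node 1 (.leaf (nat_lit 0x1a06011551)) (.leaf (nat_lit 0x1a07011551))) (.node 1 (.leaf (nat_lit 0x1a03011561)) (.leaf (nat_lit 0x1a08011561)))) (.node 2 (.node 1 (.leaf (nat_lit 0x1a06011571)) (.leaf (nat_lit 0x1a07011571))) (.node 1 (.leaf (nat_lit 0x200401b4d1)) (.leaf (nat_lit 0x1a07011581))))))) (.node 16 (.node 8 (.node 4 (.node 2 (.node 1 (.leaf (nat_lit 0x1a08011591)) (.leaf (nat_lit 0x1a030115c1))) (.node 1 (.leaf (nat_lit 0x1a060115c1)) (.leaf (nat_lit 0x1a070115c1)))) (.node 2 (.node 1 (.leaf (nat_lit 0x200101a6e1)) (.leaf (nat_lit 0x1a070115d1))) (.node 1 (.leaf (nat_lit 0x1a030115e1)) (.leaf (nat_lit 0x1a080115e1))))) (.node 4 (.node 2 (.node 1 (.leaf (nat_lit 0x1a040115f1)) (.leaf (nat_lit 0x1a080115f1))) (.node 1 (.leaf (nat_lit 0x1a05011611)) (.leaf (nat_lit 0x2003011951)))) (.node 2 (.node 1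 (.leaf (nat_lit 0x1a07011611)) (.leaf (nat_lit 0x1a03011621))) (.node 1 (.leaf (nat_lit 0x1a08011621)) (.leaf (nat_lit 0x20010116b1)))))) (.node 8 (.node 4 (.node 2 (.node 1 (.leaf (nat_lit 0x1a08011641)) (.leaf (nat_lit 0x200401afc1))) (.node 1 (.leaf (nat_lit 0x1a07011661)) (.leaf (nat_lit 0x20040116b1)))) (.node 2 (.node 1 (.leaf (nat_lit 0x1a03011681)) (.leaf (nat_lit 0x1a08011681))) (.node 1 (.leaf (nat_lit 0x1a02011691)) (.leaf (nat_lit 0x1a08011691))))) (.node 4 (.node 2 (.node 1 (.leaf (nat_lit 0x20080116b1)) (.leaf (nat_lit 0x1c030149e1))) (.node 1 (.leaf (nat_lit 0x1a060116e1)) (.leaf (nat_lit 0x1c0401b761)))) (.node 2 (.node 1 (.leaf (nat_lit 0x1e030143a1)) (.leaf (nat_lit 0x1a06011721))) (.node 1 (.leaf (nat_lit 0x1c0401b781)) (.leaf (nat_lit 0x1a05011751))))))))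

noncomputable def oT44 : Tree :=
  .node 64 (.node 32 (.node 16 (.node 8 (.node 4 (.node 2 (.node 1 (.leaf (nat_lit 0x1c0101b781)) (.leaf (nat_lit 0x1a07011751))) (.node 1 (.leaf (nat_lit 0x1a03011761)) (.leaf (nat_lit 0x1c0401b7b1)))) (.node 2 (.node 1 (.leaf (nat_lit 0x1a06011791)) (.leaf (nat_lit 0x1e080118d1))) (.node 1 (.leaf (nat_lit 0x1a030117c1)) (.leaf (nat_lit 0x1a060117c1))))) (.node 4 (.node 2 (.node 1 (.leaf (nat_lit 0x1e08011921)) (.leaf (nat_lit 0x1a050117e1))) (.node 1 (.leaf (nat_lit 0x2008011951)) (.leaf (nat_lit 0x1a070117e1)))) (.node 2 (.node 1 (.leaf (nat_lit 0x1a030117f1)) (.leaf (nat_lit 0x1e030142e1))) (.node 1 (.leaf (nat_lit 0x200701b8a1)) (.leaf (nat_lit 0x1a07011821)))))) (.node 8 (.node 4 (.node 2 (.node 1 (.leaf (nat_lit 0x1e0301b8d1)) (.leaf (nat_lit 0x1a03011841))) (.node 1 (.leaf (nat_lit 0x1a08011841)) (.leaf (nat_lit 0x1a02011851)))) (.node 2 (.node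 1 (.leaf (nat_lit 0x1a08011851)) (.leaf (nat_lit 0x1e03014471))) (.node 1 (.leaf (nat_lit 0x1a03011891)) (.leaf (nat_lit 0x1a06011891))))) (.node 4 (.node 2 (.node 1 (.leaf (nat_lit 0x1c07012d61)) (.leaf (nat_lit 0x1a050118b1))) (.node 1 (.leaf (nat_lit 0x1e0701b9a1)) (.leaf (nat_lit 0x1a070118b1)))) (.node 2 (.node 1 (.leaf (nat_lit 0x1a030118c1)) (.leaf (nat_lit 0x1c02012d61))) (.node 1 (.leaf (nat_lit 0x1a060118f1)) (.leaf (nat_lit 0x1a070118f1))))))) (.node 16 (.node 8 (.node 4 (.node 2 (.node 1 (.leaf (nat_lit 0x1a05011901)) (.leaf (nat_lit 0x1e0701ba41))) (.node 1 (.leaf (nat_lit 0x1a07011901)) (.leaf (nat_lit 0x1a03011911)))) (.node 2 (.node 1 (.leaf (nat_lit 0x1c030134d1)) (.leaf (nat_lit 0x200701ba81))) (.node 1 (.leaf (nat_lit 0x1a07011941)) (.leaf (nat_lit 0x1e0201ba41))))) (.node 4 (.node 2 (.node 1 (.leaf (nat_lit 0x1a03011961)) (.leaf (nat_lit 0x1a08011961))) (.node 1 (.leaf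 (nat_lit 0x1a02011971)) (.leaf (nat_lit 0x1a08011971)))) (.node 2 (.node 1 (.leaf (nat_lit 0x1e08011991)) (.leaf (nat_lit 0x200701bb21))) (.node 1 (.leaf (nat_lit 0x200801bb41)) (.leaf (nat_lit 0x1a030119c1)))))) (.node 8 (.node 4 (.node 2 (.node 1 (.leaf (nat_lit 0x1a080119c1)) (.leaf (nat_lit 0x200101bab1))) (.node 1 (.leaf (nat_lit 0x200701b8e1)) (.leaf (nat_lit 0x1a020119e1)))) (.node 2 (.node 1 (.leaf (nat_lit 0x1a080119e1)) (.leaf (nat_lit 0x1a01011a01))) (.node 1 (.leaf (nat_lit 0x1a08011a01)) (.leaf (nat_lit 0x1a07011a11))))) (.node 4 (.node 2 (.node 1 (.leaf (nat_lit 0xf03011a32)) (.leaf (nat_lit 0xf02011a42))) (.node 1 (.leaf (nat_lit 0xf04011a42)) (.leaf (nat_lit 0xf04011a52)))) (.node 2 (.node 1 (.leaf (nat_lit 0xf05011a62)) (.leaf (nat_lit 0xf04011a72))) (.node 1 (.leaf (nat_lit 0xf03011a82)) (.leaf (nat_lit 0xf05011a82)))))))) (.node 32 (.node 16 (.node 8 (.node 4 (.node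 2 (.node 1 (.leaf (nat_lit 0xf06011a92)) (.leaf (nat_lit 0xf04011aa2))) (.node 1 (.leaf (nat_lit 0xf03011ab2)) (.leaf (nat_lit 0xf05011ab2)))) (.node 2 (.node 1 (.leaf (nat_lit 0xf05011ac2)) (.leaf (nat_lit 0xf07011ac2))) (.node 1 (.leaf (nat_lit 0xf06011ad2)) (.leaf (nat_lit 0xf04011af2))))) (.node 4 (.node 2 (.node 1 (.leaf (nat_lit 0xf05011b02)) (.leaf (nat_lit 0xf03011b12))) (.node 1 (.leaf (nat_lit 0xf05011b12)) (.leaf (nat_lit 0xf06011b22)))) (.node 2 (.node 1 (.leaf (nat_lit 0xf03011b32)) (.leaf (nat_lit 0xf05011b32))) (.node 1 (.leaf (nat_lit 0xf05011b42)) (.leaf (nat_lit 0xf07011b42)))))) (.node 8 (.node 4 (.node 2 (.node 1 (.leaf (nat_lit 0xf06011b52)) (.leaf (nat_lit 0x1a08011bd1))) (.node 1 (.leaf (nat_lit 0xf03011b72)) (.leaf (nat_lit 0xf05011b72)))) (.node 2 (.node 1 (.leaf (nat_lit 0xf02011b82)) (.leaf (nat_lit 0xf05011b82))) (.node 1 (.leaf (nat_lit 0xf07011b82)) (.leaf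 (nat_lit 0xf06011b92))))) (.node 4 (.node 2 (.node 1 (.leaf (nat_lit 0xf04011ba2)) (.leaf (nat_lit 0xf06011ba2))) (.node 1 (.leaf (nat_lit 0xf07011ba2)) (.leaf (nat_lit 0xf08011bb2)))) (.node 2 (.node 1 (.leaf (nat_lit 0x1a010146a1)) (.leaf (nat_lit 0x1a03011be1))) (.node 1 (.leaf (nat_lit 0x1a05011be1)) (.leaf (nat_lit 0x1a06011bf1))))))) (.node 16 (.node 8 (.node 4 (.node 2 (.node 1 (.leaf (nat_lit 0x1a05011c01)) (.leaf (nat_lit 0x1a07011c01))) (.node 1 (.leaf (nat_lit 0x1a06011c11)) (.leaf (nat_lit 0x1c06019951)))) (.node 2 (.node 1 (.leaf (nat_lit 0x1a02011c31)) (.leaf (nat_lit 0x1a05011c31))) (.node 1 (.leaf (nat_lit 0x1a07011c31)) (.leaf (nat_lit 0x1a06011c41))))) (.node 4 (.node 2 (.node 1 (.leaf (nat_lit 0x1a04011c51)) (.leaf (nat_lit 0x1a06011c51))) (.node 1 (.leaf (nat_lit 0x1a07011c51)) (.leaf (nat_lit 0x1a08011c61)))) (.node 2 (.node 1 (.leaf (nat_lit 0x1c07019a81)) (.leaf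 (nat_lit 0x1a05011c91))) (.node 1 (.leaf (nat_lit 0x1a06011ca1)) (.leaf (nat_lit 0x1a05011cb1)))))) (.node 8 (.node 4 (.node 2 (.node 1 (.leaf (nat_lit 0x1a04011cc1)) (.leaf (nat_lit 0x1a06011cc1))) (.node 1 (.leaf (nat_lit 0x1a07011cc1)) (.leaf (nat_lit 0x1a08011cd1)))) (.node 2 (.node 1 (.leaf (nat_lit 0x1a020138f1)) (.leaf (nat_lit 0x1a06011cf1))) (.node 1 (.leaf (nat_lit 0x1a07011cf1)) (.leaf (nat_lit 0x1c0801a0e1))))) (.node 4 (.node 2 (.node 1 (.leaf (nat_lit 0x1a07011d01)) (.leaf (nat_lit 0x1a08011d11))) (.node 1 (.leaf (nat_lit 0xf05011d42)) (.leaf (nat_lit 0xf07011d42)))) (.node 2 (.node 1 (.leaf (nat_lit 0xf06011d52)) (.leaf (nat_lit 0x1c04019951))) (.node 1 (.leaf (nat_lit 0xf02011d72)) (.leaf (nat_lit 0xf05011d72))))))))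

noncomputable def oT45 : Tree :=
  .node 64 (.node 32 (.node 16 (.node 8 (.node 4 (.node 2 (.node 1 (.leaf (nat_lit 0xf07011d72)) (.leaf (nat_lit 0xf06011d82))) (.node 1 (.leaf (nat_lit 0xf04011d92)) (.leaf (nat_lit 0xf06011d92)))) (.node 2 (.node 1 (.leaf (nat_lit 0xf07011d92)) (.leaf (nat_lit 0xf08011da2))) (.node 1 (.leaf (nat_lit 0x1c07019a71)) (.leaf (nat_lit 0xf02011dd2))))) (.node 4 (.node 2 (.node 1 (.leaf (nat_lit 0xf05011dd2)) (.leaf (nat_lit 0xf07011dd2))) (.node 1 (.leaf (nat_lit 0xf06011de2)) (.leaf (nat_lit 0xf05011df2)))) (.node 2 (.node 1 (.leaf (nat_lit 0xf07011df2)) (.leaf (nat_lit 0xf04011e02))) (.node 1 (.leaf (nat_lit 0xf06011e02)) (.leaf (nat_lit 0xf07011e02)))))) (.node 8 (.node 4 (.node 2 (.node 1 (.leaf (nat_lit 0xf08011e12)) (.leaf (nat_lit 0x1a02013a11))) (.node 1 (.leaf (nat_lit 0xf06011e32)) (.leaf (nat_lit 0xf07011e32)))) (.node 2 (.node 1 (.leaf (nat_lit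 0x1c0101c131)) (.leaf (nat_lit 0xf07011e42))) (.node 1 (.leaf (nat_lit 0xf08011e52)) (.leaf (nat_lit 0x1a04011e81))))) (.node 4 (.node 2 (.node 1 (.leaf (nat_lit 0x1a06011e81)) (.leaf (nat_lit 0x1a07011e81))) (.node 1 (.leaf (nat_lit 0x1a08011e91)) (.leaf (nat_lit 0x1c06019a71)))) (.node 2 (.node 1 (.leaf (nat_lit 0x1a05011ec1)) (.leaf (nat_lit 0x1a07011ec1))) (.node 1 (.leaf (nat_lit 0x1a04011ed1)) (.leaf (nat_lit 0x1a06011ed1))))))) (.node 16 (.node 8 (.node 4 (.node 2 (.node 1 (.leaf (nat_lit 0x1a07011ed1)) (.leaf (nat_lit 0x1a08011ee1))) (.node 1 (.leaf (nat_lit 0x1c0601bfe1)) (.leaf (nat_lit 0x1a06011f01)))) (.node 2 (.node 1 (.leaf (nat_lit 0x1a07011f01)) (.leaf (nat_lit 0x1e03011f41))) (.node 1 (.leaf (nat_lit 0x1a07011f11)) (.leaf (nat_lit 0x1a08011f21))))) (.node 4 (.node 2 (.node 1 (.leaf (nat_lit 0x1a01011f51)) (.leaf (nat_lit 0x1a05011f51))) (.node 1 (.leaf (nat_lit 0x1a07011f51))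 (.leaf (nat_lit 0x1a04011f61)))) (.node 2 (.node 1 (.leaf (nat_lit 0x1a06011f61)) (.leaf (nat_lit 0x1a07011f61))) (.node 1 (.leaf (nat_lit 0x1a08011f71)) (.leaf (nat_lit 0x1c0601c0b1)))))) (.node 8 (.node 4 (.node 2 (.node 1 (.leaf (nat_lit 0x1a04011f91)) (.leaf (nat_lit 0x1a06011f91))) (.node 1 (.leaf (nat_lit 0x1a07011f91)) (.leaf (nat_lit 0x1a03011fa1)))) (.node 2 (.node 1 (.leaf (nat_lit 0x1a08011fa1)) (.leaf (nat_lit 0x1a06011fb1))) (.node 1 (.leaf (nat_lit 0x1a07011fb1)) (.leaf (nat_lit 0x1c0201c3f1))))) (.node 4 (.node 2 (.node 1 (.leaf (nat_lit 0x1a07011fc1)) (.leaf (nat_lit 0x1a08011fd1))) (.node 1 (.leaf (nat_lit 0x1a05012001)) (.leaf (nat_lit 0x1e0801c2a1)))) (.node 2 (.node 1 (.leaf (nat_lit 0x1a07012001)) (.leaf (nat_lit 0x1a03012011))) (.node 1 (.leaf (nat_lit 0x1a08012011)) (.leaf (nat_lit 0x1e0101c4a1)))))))) (.node 32 (.node 16 (.node 8 (.node 4 (.node 2 (.node 1 (.leaf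 (nat_lit 0x1a08012031)) (.leaf (nat_lit 0x1a06012051))) (.node 1 (.leaf (nat_lit 0x1a07012051)) (.leaf (nat_lit 0x1c05019c11)))) (.node 2 (.node 1 (.leaf (nat_lit 0x1a07012061)) (.leaf (nat_lit 0x1a08012071))) (.node 1 (.leaf (nat_lit 0x1a040120a1)) (.leaf (nat_lit 0x1a060120a1))))) (.node 4 (.node 2 (.node 1 (.leaf (nat_lit 0x1a070120a1)) (.leaf (nat_lit 0x1a080120b1))) (.node 1 (.leaf (nat_lit 0x1a060120c1)) (.leaf (nat_lit 0x1a070120c1)))) (.node 2 (.node 1 (.leaf (nat_lit 0x1e0501c261)) (.leaf (nat_lit 0x1a070120d1))) (.node 1 (.leaf (nat_lit 0x1a080120e1)) (.leaf (nat_lit 0x1a05012111)))))) (.node 8 (.node 4 (.node 2 (.node 1 (.leaf (nat_lit 0x2004012131)) (.leaf (nat_lit 0x1a07012111))) (.node 1 (.leaf (nat_lit 0x1a03012121)) (.leaf (nat_lit 0x1a08012121)))) (.node 2 (.node 1 (.leaf (nat_lit 0x1e0301c571)) (.leaf (nat_lit 0x1a08012141))) (.node 1 (.leaf (nat_lit 0x1a05012161))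 (.leaf (nat_lit 0x1a07012161))))) (.node 4 (.node 2 (.node 1 (.leaf (nat_lit 0x1a04012171)) (.leaf (nat_lit 0x1a06012171))) (.node 1 (.leaf (nat_lit 0x1a07012171)) (.leaf (nat_lit 0x1a03012181)))) (.node 2 (.node 1 (.leaf (nat_lit 0x1a08012181)) (.leaf (nat_lit 0x1a06012191))) (.node 1 (.leaf (nat_lit 0x1a07012191)) (.leaf (nat_lit 0x1e0501c391))))))) (.node 16 (.node 8 (.node 4 (.node 2 (.node 1 (.leaf (nat_lit 0x1a070121a1)) (.leaf (nat_lit 0x1a080121b1))) (.node 1 (.leaf (nat_lit 0x1a030121e1)) (.leaf (nat_lit 0x1a060121e1)))) (.node 2 (.node 1 (.leaf (nat_lit 0x1a070121e1)) (.leaf (nat_lit 0x1c03013cc1))) (.node 1 (.leaf (nat_lit 0x1a070121f1)) (.leaf (nat_lit 0x1a03012201))))) (.node 4 (.node 2 (.node 1 (.leaf (nat_lit 0x1a08012201)) (.leaf (nat_lit 0x1a04012211))) (.node 1 (.leaf (nat_lit 0x1a08012211)) (.leaf (nat_lit 0x1a05012231)))) (.node 2 (.node 1 (.leaf (nat_lit 0x1e04012251))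 (.leaf (nat_lit 0x1a07012231))) (.node 1 (.leaf (nat_lit 0x1a03012241)) (.leaf (nat_lit 0x1a08012241)))))) (.node 8 (.node 4 (.node 2 (.node 1 (.leaf (nat_lit 0x1e0201c881)) (.leaf (nat_lit 0x1a08012261))) (.node 1 (.leaf (nat_lit 0x200801c661)) (.leaf (nat_lit 0x1a07012281)))) (.node 2 (.node 1 (.leaf (nat_lit 0x1e02012a81)) (.leaf (nat_lit 0x1a030122a1))) (.node 1 (.leaf (nat_lit 0x1a080122a1)) (.leaf (nat_lit 0x1a020122b1))))) (.node 4 (.node 2 (.node 1 (.leaf (nat_lit 0x1a080122b1)) (.leaf (nat_lit 0x200701c6d1))) (.node 1 (.leaf (nat_lit 0xf020122f2)) (.leaf (nat_lit 0xf050122f2)))) (.node 2 (.node 1 (.leaf (nat_lit 0xf070122f2)) (.leaf (nat_lit 0xf06012302))) (.node 1 (.leaf (nat_lit 0xf05012312)) (.leaf (nat_lit 0xf07012312))))))))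

noncomputable def oT46 : Tree :=
  .node 64 (.node 32 (.node 16 (.node 8 (.node 4 (.node 2 (.node 1 (.leaf (nat_lit 0xf04012322)) (.leaf (nat_lit 0xf06012322))) (.node 1 (.leaf (nat_lit 0xf07012322)) (.leaf (nat_lit 0xf08012332)))) (.node 2 (.node 1 (.leaf (nat_lit 0x1c08012441)) (.leaf (nat_lit 0xf06012352))) (.node 1 (.leaf (nat_lit 0xf07012352)) (.leaf (nat_lit 0x1e0201c011))))) (.node 4 (.node 2 (.node 1 (.leaf (nat_lit 0xf07012362)) (.leaf (nat_lit 0xf08012372))) (.node 1 (.leaf (nat_lit 0xf010123a2)) (.leaf (nat_lit 0xf050123a2)))) (.node 2 (.node 1 (.leaf (nat_lit 0xf070123a2)) (.leaf (nat_lit 0xf040123b2))) (.node 1 (.leaf (nat_lit 0xf060123b2)) (.leaf (nat_lit 0xf070123b2)))))) (.node 8 (.node 4 (.node 2 (.node 1 (.leaf (nat_lit 0xf080123c2)) (.leaf (nat_lit 0x1c02013e91))) (.node 1 (.leaf (nat_lit 0xf040123e2)) (.leaf (nat_lit 0xf060123e2)))) (.node 2 (.node 1 (.leaf (nat_lit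 0xf070123e2)) (.leaf (nat_lit 0xf030123f2))) (.node 1 (.leaf (nat_lit 0xf080123f2)) (.leaf (nat_lit 0xf06012402))))) (.node 4 (.node 2 (.node 1 (.leaf (nat_lit 0xf07012402)) (.leaf (nat_lit 0x1c0201cc81))) (.node 1 (.leaf (nat_lit 0xf07012412)) (.leaf (nat_lit 0xf08012422)))) (.node 2 (.node 1 (.leaf (nat_lit 0xf05012452)) (.leaf (nat_lit 0x1e0801cb51))) (.node 1 (.leaf (nat_lit 0xf07012452)) (.leaf (nat_lit 0xf03012462))))))) (.node 16 (.node 8 (.node 4 (.node 2 (.node 1 (.leaf (nat_lit 0xf08012462)) (.leaf (nat_lit 0x1e0101cd31))) (.node 1 (.leaf (nat_lit 0xf08012482)) (.leaf (nat_lit 0x1a010124a1)))) (.node 2 (.node 1 (.leaf (nat_lit 0x1a050124a1)) (.leaf (nat_lit 0x1a070124a1))) (.node 1 (.leaf (nat_lit 0x1a040124b1)) (.leaf (nat_lit 0x1a060124b1))))) (.node 4 (.node 2 (.node 1 (.leaf (nat_lit 0x1a070124b1)) (.leaf (nat_lit 0x1a080124c1))) (.node 1 (.leaf (nat_lit 0x1c02013f11))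 (.leaf (nat_lit 0x1a040124e1)))) (.node 2 (.node 1 (.leaf (nat_lit 0x1a060124e1)) (.leaf (nat_lit 0x1a070124e1))) (.node 1 (.leaf (nat_lit 0x1a030124f1)) (.leaf (nat_lit 0x1a080124f1)))))) (.node 8 (.node 4 (.node 2 (.node 1 (.leaf (nat_lit 0x1a06012501)) (.leaf (nat_lit 0x1a07012501))) (.node 1 (.leaf (nat_lit 0x1e0601cb11)) (.leaf (nat_lit 0x1a07012511)))) (.node 2 (.node 1 (.leaf (nat_lit 0x1a08012521)) (.leaf (nat_lit 0x1a05012551))) (.node 1 (.leaf (nat_lit 0x1e0201c2a1)) (.leaf (nat_lit 0x1a07012551))))) (.node 4 (.node 2 (.node 1 (.leaf (nat_lit 0x1a03012561)) (.leaf (nat_lit 0x1a08012561))) (.node 1 (.leaf (nat_lit 0x1e0201c2e1)) (.leaf (nat_lit 0x1a08012581)))) (.node 2 (.node 1 (.leaf (nat_lit 0x1a050125a1)) (.leaf (nat_lit 0x1a040125b1))) (.node 1 (.leaf (nat_lit 0x1a060125b1)) (.leaf (nat_lit 0x1a070125b1)))))))) (.node 32 (.node 16 (.node 8 (.node 4 (.node 2 (.node 1 (.leaf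 (nat_lit 0x1a080125c1)) (.leaf (nat_lit 0x1a060125d1))) (.node 1 (.leaf (nat_lit 0x1a070125d1)) (.leaf (nat_lit 0x1e0201d031)))) (.node 2 (.node 1 (.leaf (nat_lit 0x1a070125e1)) (.leaf (nat_lit 0x1a080125f1))) (.node 1 (.leaf (nat_lit 0x1a03012621)) (.leaf (nat_lit 0x1a06012621))))) (.node 4 (.node 2 (.node 1 (.leaf (nat_lit 0x1a07012621)) (.leaf (nat_lit 0x1c03014051))) (.node 1 (.leaf (nat_lit 0x1a07012631)) (.leaf (nat_lit 0x1a03012641)))) (.node 2 (.node 1 (.leaf (nat_lit 0x1a08012641)) (.leaf (nat_lit 0x1a04012651))) (.node 1 (.leaf (nat_lit 0x1a08012651)) (.leaf (nat_lit 0x1a05012671)))))) (.node 8 (.node 4 (.node 2 (.node 1 (.leaf (nat_lit 0x1e04012691)) (.leaf (nat_lit 0x1a07012671))) (.node 1 (.leaf (nat_lit 0x1a03012681)) (.leaf (nat_lit 0x1a08012681)))) (.node 2 (.node 1 (.leaf (nat_lit 0x1e0201d141)) (.leaf (nat_lit 0x1a080126a1))) (.node 1 (.leaf (nat_lit 0x200801cf61))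 (.leaf (nat_lit 0x1a070126c1))))) (.node 4 (.node 2 (.node 1 (.leaf (nat_lit 0x20070126d1)) (.leaf (nat_lit 0x1a030126e1))) (.node 1 (.leaf (nat_lit 0x1a080126e1)) (.leaf (nat_lit 0x1a020126f1)))) (.node 2 (.node 1 (.leaf (nat_lit 0x1a080126f1)) (.leaf (nat_lit 0x200701cfd1))) (.node 1 (.leaf (nat_lit 0x1a05012731)) (.leaf (nat_lit 0x1a04012741))))))) (.node 16 (.node 8 (.node 4 (.node 2 (.node 1 (.leaf (nat_lit 0x1a06012741)) (.leaf (nat_lit 0x1a07012741))) (.node 1 (.leaf (nat_lit 0x1a08012751)) (.leaf (nat_lit 0x1a06012761)))) (.node 2 (.node 1 (.leaf (nat_lit 0x1a07012761)) (.leaf (nat_lit 0x1e0201d321))) (.node 1 (.leaf (nat_lit 0x1a07012771)) (.leaf (nat_lit 0x1a08012781))))) (.node 4 (.node 2 (.node 1 (.leaf (nat_lit 0x1a030127b1)) (.leaf (nat_lit 0x1a060127b1))) (.node 1 (.leaf (nat_lit 0x1a070127b1)) (.leaf (nat_lit 0x1e0501cea1)))) (.node 2 (.node 1 (.leaf (nat_lit 0x1a070127c1))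 (.leaf (nat_lit 0x1a030127d1))) (.node 1 (.leaf (nat_lit 0x1a080127d1)) (.leaf (nat_lit 0x1a080127e1)))))) (.node 8 (.node 4 (.node 2 (.node 1 (.leaf (nat_lit 0x1a05012801)) (.leaf (nat_lit 0x2003012b41))) (.node 1 (.leaf (nat_lit 0x1a07012801)) (.leaf (nat_lit 0x1a03012811)))) (.node 2 (.node 1 (.leaf (nat_lit 0x1a08012811)) (.leaf (nat_lit 0x20010128a1))) (.node 1 (.leaf (nat_lit 0x1a08012831)) (.leaf (nat_lit 0x200401cf61))))) (.node 4 (.node 2 (.node 1 (.leaf (nat_lit 0x1a07012851)) (.leaf (nat_lit 0x20040128a1))) (.node 1 (.leaf (nat_lit 0x1a03012871)) (.leaf (nat_lit 0x1a08012871)))) (.node 2 (.node 1 (.leaf (nat_lit 0x1a02012881)) (.leaf (nat_lit 0x1a08012881))) (.node 1 (.leaf (nat_lit 0x20080128a1)) (.leaf (nat_lit 0x1a040128c1))))))))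

noncomputable def oT47 : Tree :=
  .node 64 (.node 32 (.node 16 (.node 8 (.node 4 (.node 2 (.node 1 (.leaf (nat_lit 0x1a060128c1)) (.leaf (nat_lit 0x1a030128d1))) (.node 1 (.leaf (nat_lit 0x1a060128d1)) (.leaf (nat_lit 0x1a070128d1)))) (.node 2 (.node 1 (.leaf (nat_lit 0x1e030141f1)) (.leaf (nat_lit 0x1a070128e1))) (.node 1 (.leaf (nat_lit 0x1a080128f1)) (.leaf (nat_lit 0x1a05012911))))) (.node 4 (.node 2 (.node 1 (.leaf (nat_lit 0x2003012c41)) (.leaf (nat_lit 0x1a07012911))) (.node 1 (.leaf (nat_lit 0x1a03012921)) (.leaf (nat_lit 0x1a08012921)))) (.node 2 (.node 1 (.leaf (nat_lit 0x2003013251)) (.leaf (nat_lit 0x1a08012941))) (.node 1 (.leaf (nat_lit 0x1a06012961)) (.leaf (nat_lit 0x1a07012961)))))) (.node 8 (.node 4 (.node 2 (.node 1 (.leaf (nat_lit 0x1a05012971)) (.leaf (nat_lit 0x1e04012991))) (.node 1 (.leaf (nat_lit 0x1a07012971)) (.leaf (nat_lit 0x1a03012981)))) (.node 2 (.node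 1 (.leaf (nat_lit 0x1a08012981)) (.leaf (nat_lit 0x1e0301d7b1))) (.node 1 (.leaf (nat_lit 0x1a030129a1)) (.leaf (nat_lit 0x1a080129a1))))) (.node 4 (.node 2 (.node 1 (.leaf (nat_lit 0x1a040129b1)) (.leaf (nat_lit 0x1a080129b1))) (.node 1 (.leaf (nat_lit 0x1a050129d1)) (.leaf (nat_lit 0x1a080129d1)))) (.node 2 (.node 1 (.leaf (nat_lit 0x2003012cf1)) (.leaf (nat_lit 0x1a070129f1))) (.node 1 (.leaf (nat_lit 0x1e0301d871)) (.leaf (nat_lit 0x1a03012a11))))))) (.node 16 (.node 8 (.node 4 (.node 2 (.node 1 (.leaf (nat_lit 0x1a08012a11)) (.leaf (nat_lit 0x1a02012a21))) (.node 1 (.leaf (nat_lit 0x1a08012a21)) (.leaf (nat_lit 0x200401d881)))) (.node 2 (.node 1 (.leaf (nat_lit 0x2003012d71)) (.leaf (nat_lit 0x1e0301d8f1))) (.node 1 (.leaf (nat_lit 0x1a03012a71)) (.leaf (nat_lit 0x1a08012a71))))) (.node 4 (.node 2 (.node 1 (.leaf (nat_lit 0x1c07012db1)) (.leaf (nat_lit 0x1e0301d951))) (.node 1 (.leaf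 (nat_lit 0x1a02012a91)) (.leaf (nat_lit 0x1a08012a91)))) (.node 2 (.node 1 (.leaf (nat_lit 0x1a01012ab1)) (.leaf (nat_lit 0x1a08012ab1))) (.node 1 (.leaf (nat_lit 0x1a07012ac1)) (.leaf (nat_lit 0x1a05012ae1)))))) (.node 8 (.node 4 (.node 2 (.node 1 (.leaf (nat_lit 0x200701b831)) (.leaf (nat_lit 0x1a06012b01))) (.node 1 (.leaf (nat_lit 0x1a07012b01)) (.leaf (nat_lit 0x1a05012b11)))) (.node 2 (.node 1 (.leaf (nat_lit 0x200701b7f1)) (.leaf (nat_lit 0x200701da31))) (.node 1 (.leaf (nat_lit 0x1a07012b31)) (.leaf (nat_lit 0x1e0801b971))))) (.node 4 (.node 2 (.node 1 (.leaf (nat_lit 0x1a03012b51)) (.leaf (nat_lit 0x1a02012b61))) (.node 1 (.leaf (nat_lit 0x200701da81)) (.leaf (nat_lit 0x1e0801daa1)))) (.node 2 (.node 1 (.leaf (nat_lit 0x1a03012b91)) (.leaf (nat_lit 0x1a08012b91))) (.node 1 (.leaf (nat_lit 0x1e0801daf1)) (.leaf (nat_lit 0x1c07012dc1)))))))) (.node 32 (.node 16 (.node 8 (.node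 4 (.node 2 (.node 1 (.leaf (nat_lit 0x1a02012bb1)) (.leaf (nat_lit 0x1a08012bb1))) (.node 1 (.leaf (nat_lit 0x1a01012bd1)) (.leaf (nat_lit 0x1a08012bd1)))) (.node 2 (.node 1 (.leaf (nat_lit 0x1a07012be1)) (.leaf (nat_lit 0x1a06012c01))) (.node 1 (.leaf (nat_lit 0x1a07012c01)) (.leaf (nat_lit 0x1a05012c11))))) (.node 4 (.node 2 (.node 1 (.leaf (nat_lit 0x200301db71)) (.leaf (nat_lit 0x200201dba1))) (.node 1 (.leaf (nat_lit 0x1a07012c31)) (.leaf (nat_lit 0x1e0801ba41)))) (.node 2 (.node 1 (.leaf (nat_lit 0x1a03012c51)) (.leaf (nat_lit 0x1a02012c61))) (.node 1 (.leaf (nat_lit 0x1a05012c81)) (.leaf (nat_lit 0x1e040144e1)))))) (.node 8 (.node 4 (.node 2 (.node 1 (.leaf (nat_lit 0x1a07012c81)) (.leaf (nat_lit 0x1a03012c91))) (.node 1 (.leaf (nat_lit 0x1a08012c91)) (.leaf (nat_lit 0x200301dc21)))) (.node 2 (.node 1 (.leaf (nat_lit 0x1a07012ca1)) (.leaf (nat_lit 0x1e0801b9a1))) (.node 1 (.leaf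 (nat_lit 0x1a03012cc1)) (.leaf (nat_lit 0x1a02012cd1))))) (.node 4 (.node 2 (.node 1 (.leaf (nat_lit 0x200701dcf1)) (.leaf (nat_lit 0x1e0801dd11))) (.node 1 (.leaf (nat_lit 0x1a03012d01)) (.leaf (nat_lit 0x1a08012d01)))) (.node 2 (.node 1 (.leaf (nat_lit 0x1c0801dd61)) (.leaf (nat_lit 0x1c0301dd61))) (.node 1 (.leaf (nat_lit 0x1a02012d21)) (.leaf (nat_lit 0x1a08012d21))))))) (.node 16 (.node 8 (.node 4 (.node 2 (.node 1 (.leaf (nat_lit 0x1a01012d41)) (.leaf (nat_lit 0x1a08012d41))) (.node 1 (.leaf (nat_lit 0x1a07012d51)) (.leaf (nat_lit 0x1e0801dde1)))) (.node 2 (.node 1 (.leaf (nat_lit 0x1c0801de11)) (.leaf (nat_lit 0x1c0301de11))) (.node 1 (.leaf (nat_lit 0x1a02012d91)) (.leaf (nat_lit 0x1a04012d91))))) (.node 4 (.node 2 (.node 1 (.leaf (nat_lit 0x1a08012d91)) (.leaf (nat_lit 0x1a080135b1))) (.node 1 (.leaf (nat_lit 0x1a040135a1)) (.leaf (nat_lit 0x1a01012dd1)))) (.node 2 (.node 1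 (.leaf (nat_lit 0x1a08012dd1)) (.leaf (nat_lit 0x1a07012de1))) (.node 1 (.leaf (nat_lit 0x1a00012df1)) (.leaf (nat_lit 0x1a08012df1)))))) (.node 8 (.node 4 (.node 2 (.node 1 (.leaf (nat_lit 0x1a07012e01)) (.leaf (nat_lit 0xf04012e22))) (.node 1 (.leaf (nat_lit 0xf06012e22)) (.leaf (nat_lit 0xf07012e22)))) (.node 2 (.node 1 (.leaf (nat_lit 0xf08012e32)) (.leaf (nat_lit 0xf06012e42))) (.node 1 (.leaf (nat_lit 0xf07012e42)) (.leaf (nat_lit 0x1c04019ba1))))) (.node 4 (.node 2 (.node 1 (.leaf (nat_lit 0xf07012e52)) (.leaf (nat_lit 0xf08012e62))) (.node 1 (.leaf (nat_lit 0xf03012e92)) (.leaf (nat_lit 0xf06012e92)))) (.node 2 (.node 1 (.leaf (nat_lit 0xf07012e92)) (.leaf (nat_lit 0x1c04019b71))) (.node 1 (.leaf (nat_lit 0xf07012ea2)) (.leaf (nat_lit 0xf03012eb2))))))))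

noncomputable def oT48 : Tree :=
  .node 64 (.node 32 (.node 16 (.node 8 (.node 4 (.node 2 (.node 1 (.leaf (nat_lit 0xf08012eb2)) (.leaf (nat_lit 0xf04012ec2))) (.node 1 (.leaf (nat_lit 0xf08012ec2)) (.leaf (nat_lit 0xf05012ee2)))) (.node 2 (.node 1 (.leaf (nat_lit 0x1c05019b61)) (.leaf (nat_lit 0xf07012ee2))) (.node 1 (.leaf (nat_lit 0xf03012ef2)) (.leaf (nat_lit 0xf08012ef2))))) (.node 4 (.node 2 (.node 1 (.leaf (nat_lit 0x1e07012f01)) (.leaf (nat_lit 0xf08012f12))) (.node 1 (.leaf (nat_lit 0x1c01019b61)) (.leaf (nat_lit 0xf07012f32)))) (.node 2 (.node 1 (.leaf (nat_lit 0x1e07012f41)) (.leaf (nat_lit 0xf03012f52))) (.node 1 (.leaf (nat_lit 0xf08012f52)) (.leaf (nat_lit 0xf02012f62)))))) (.node 8 (.node 4 (.node 2 (.node 1 (.leaf (nat_lit 0xf08012f62)) (.leaf (nat_lit 0x2008012f81))) (.node 1 (.leaf (nat_lit 0x1a03012fa1)) (.leaf (nat_lit 0x1a06012fa1)))) (.node 2 (.node 1 (.leaf (nat_lit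 0x1a07012fa1)) (.leaf (nat_lit 0x1c06019bc1))) (.node 1 (.leaf (nat_lit 0x1a07012fb1)) (.leaf (nat_lit 0x1a08012fc1))))) (.node 4 (.node 2 (.node 1 (.leaf (nat_lit 0x1a05012fe1)) (.leaf (nat_lit 0x1c06019ba1))) (.node 1 (.leaf (nat_lit 0x1a07012fe1)) (.leaf (nat_lit 0x1a03012ff1)))) (.node 2 (.node 1 (.leaf (nat_lit 0x1a08012ff1)) (.leaf (nat_lit 0x1e07013001))) (.node 1 (.leaf (nat_lit 0x1a08013011)) (.leaf (nat_lit 0x1a06013031))))))) (.node 16 (.node 8 (.node 4 (.node 2 (.node 1 (.leaf (nat_lit 0x1a07013031)) (.leaf (nat_lit 0x1a05013041))) (.node 1 (.leaf (nat_lit 0x1c06019b71)) (.leaf (nat_lit 0x1a07013041)))) (.node 2 (.node 1 (.leaf (nat_lit 0x1a03013051)) (.leaf (nat_lit 0x1a08013051))) (.node 1 (.leaf (nat_lit 0x1e07013061)) (.leaf (nat_lit 0x1a03013071))))) (.node 4 (.node 2 (.node 1 (.leaf (nat_lit 0x1a08013071)) (.leaf (nat_lit 0x1a04013081))) (.node 1 (.leaf (nat_lit 0x1a08013081))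 (.leaf (nat_lit 0x1a050130a1)))) (.node 2 (.node 1 (.leaf (nat_lit 0x1a080130a1)) (.leaf (nat_lit 0x1c06019c71))) (.node 1 (.leaf (nat_lit 0x1a070130c1)) (.leaf (nat_lit 0x1e070130d1)))))) (.node 8 (.node 4 (.node 2 (.node 1 (.leaf (nat_lit 0x1a030130e1)) (.leaf (nat_lit 0x1a080130e1))) (.node 1 (.leaf (nat_lit 0x1a020130f1)) (.leaf (nat_lit 0x1a080130f1)))) (.node 2 (.node 1 (.leaf (nat_lit 0x2008013111)) (.leaf (nat_lit 0x1a040133b1))) (.node 1 (.leaf (nat_lit 0x1c040133c1)) (.leaf (nat_lit 0x1a03013141))))) (.node 4 (.node 2 (.node 1 (.leaf (nat_lit 0x1a08013141)) (.leaf (nat_lit 0x1e0501e371))) (.node 1 (.leaf (nat_lit 0x1e0501e381)) (.leaf (nat_lit 0x1a02013161)))) (.node 2 (.node 1 (.leaf (nat_lit 0x1a08013161)) (.leaf (nat_lit 0x1a01013181))) (.node 1 (.leaf (nat_lit 0x1a08013181)) (.leaf (nat_lit 0x1a07013191)))))))) (.node 32 (.node 16 (.node 8 (.node 4 (.node 2 (.node 1 (.leaf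 (nat_lit 0x1a050131b1)) (.leaf (nat_lit 0x1c05019d31))) (.node 1 (.leaf (nat_lit 0x1a070131b1)) (.leaf (nat_lit 0x1a030131c1)))) (.node 2 (.node 1 (.leaf (nat_lit 0x1a080131c1)) (.leaf (nat_lit 0x1e070131d1))) (.node 1 (.leaf (nat_lit 0x1a080131e1)) (.leaf (nat_lit 0x1c06019ce1))))) (.node 4 (.node 2 (.node 1 (.leaf (nat_lit 0x1a07013201)) (.leaf (nat_lit 0x1e07013211))) (.node 1 (.leaf (nat_lit 0x1a03013221)) (.leaf (nat_lit 0x1a08013221)))) (.node 2 (.node 1 (.leaf (nat_lit 0x1a02013231)) (.leaf (nat_lit 0x1a08013231))) (.node 1 (.leaf (nat_lit 0x2008013251)) (.leaf (nat_lit 0x1c06019c91)))))) (.node 8 (.node 4 (.node 2 (.node 1 (.leaf (nat_lit 0x1a07013271)) (.leaf (nat_lit 0x1e07013281))) (.node 1 (.leaf (nat_lit 0x1a03013291)) (.leaf (nat_lit 0x1a08013291)))) (.node 2 (.node 1 (.leaf (nat_lit 0x1a020132a1)) (.leaf (nat_lit 0x1a040132a1))) (.node 1 (.leaf (nat_lit 0x1a080132a1))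 (.leaf (nat_lit 0x1e070146c1))))) (.node 4 (.node 2 (.node 1 (.leaf (nat_lit 0x20080132c1)) (.leaf (nat_lit 0x1a040132d1))) (.node 1 (.leaf (nat_lit 0x1a080132d1)) (.leaf (nat_lit 0x1a050132f1)))) (.node 2 (.node 1 (.leaf (nat_lit 0x1a080132f1)) (.leaf (nat_lit 0x1a06013311))) (.node 1 (.leaf (nat_lit 0x1a08013311)) (.leaf (nat_lit 0x1a030134e1))))))) (.node 16 (.node 8 (.node 4 (.node 2 (.node 1 (.leaf (nat_lit 0x1c0301e6c1)) (.leaf (nat_lit 0x1a03013341))) (.node 1 (.leaf (nat_lit 0x1a08013341)) (.leaf (nat_lit 0x1c07013521)))) (.node 2 (.node 1 (.leaf (nat_lit 0x1e0301e721)) (.leaf (nat_lit 0x1a02013361))) (.node 1 (.leaf (nat_lit 0x1a08013361)) (.leaf (nat_lit 0x1a01013381))))) (.node 4 (.node 2 (.node 1 (.leaf (nat_lit 0x1a08013381)) (.leaf (nat_lit 0x1a07013391))) (.node 1 (.leaf (nat_lit 0x1a03013611)) (.leaf (nat_lit 0x1a07013591)))) (.node 2 (.node 1 (.leaf (nat_lit 0x1c0301e7a1))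 (.leaf (nat_lit 0x1a020133d1))) (.node 1 (.leaf (nat_lit 0x1a040133d1)) (.leaf (nat_lit 0x1a080133d1)))))) (.node 8 (.node 4 (.node 2 (.node 1 (.leaf (nat_lit 0x1a070135c1)) (.leaf (nat_lit 0x1c0701e7c1))) (.node 1 (.leaf (nat_lit 0x1a01013411)) (.leaf (nat_lit 0x1a08013411)))) (.node 2 (.node 1 (.leaf (nat_lit 0x1a07013421)) (.leaf (nat_lit 0x1a00013431))) (.node 1 (.leaf (nat_lit 0x1a08013431)) (.leaf (nat_lit 0x1a07013441))))) (.node 4 (.node 2 (.node 1 (.leaf (nat_lit 0x1a07013631)) (.leaf (nat_lit 0x1a08013621))) (.node 1 (.leaf (nat_lit 0x1a03013471)) (.leaf (nat_lit 0x1a08013471)))) (.node 2 (.node 1 (.leaf (nat_lit 0x1c0801e891)) (.leaf (nat_lit 0x1a00013531))) (.node 1 (.leaf (nat_lit 0x1a02013491)) (.leaf (nat_lit 0x1a08013491))))))))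

noncomputable def oT49 : Tree :=
  .node 64 (.node 32 (.node 16 (.node 8 (.node 4 (.node 2 (.node 1 (.leaf (nat_lit 0x1a010134b1)) (.leaf (nat_lit 0x1a080134b1))) (.node 1 (.leaf (nat_lit 0x1a070134c1)) (.leaf (nat_lit 0x1a080135d1)))) (.node 2 (.node 1 (.leaf (nat_lit 0x1a02013501)) (.leaf (nat_lit 0x1a04013501))) (.node 1 (.leaf (nat_lit 0x1a08013501)) (.leaf (nat_lit 0x1c0801e911))))) (.node 4 (.node 2 (.node 1 (.leaf (nat_lit 0x1a010135a1)) (.leaf (nat_lit 0x1a01013541))) (.node 1 (.leaf (nat_lit 0x1a08013541)) (.leaf (nat_lit 0x1a07013551)))) (.node 2 (.node 1 (.leaf (nat_lit 0x1a00013561)) (.leaf (nat_lit 0x1a08013561))) (.node 1 (.leaf (nat_lit 0x1a07013571)) (.leaf (nat_lit 0x1a000135d1)))))) (.node 8 (.node 4 (.node 2 (.node 1 (.leaf (nat_lit 0x1a080135f1)) (.leaf (nat_lit 0x1a07013601))) (.node 1 (.leaf (nat_lit 0xf07013642)) (.leaf (nat_lit 0xf08013642)))) (.node 2 (.node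 1 (.leaf (nat_lit 0xf04013672)) (.leaf (nat_lit 0xf05013682))) (.node 1 (.leaf (nat_lit 0xf06013692)) (.leaf (nat_lit 0xf030136a2))))) (.node 4 (.node 2 (.node 1 (.leaf (nat_lit 0xf050136a2)) (.leaf (nat_lit 0xf020136f2))) (.node 1 (.leaf (nat_lit 0xf06013712)) (.leaf (nat_lit 0x1a07013771)))) (.node 2 (.node 1 (.leaf (nat_lit 0xf02013732)) (.leaf (nat_lit 0xf05013732))) (.node 1 (.leaf (nat_lit 0xf06013742)) (.leaf (nat_lit 0xf02013782))))))) (.node 16 (.node 8 (.node 4 (.node 2 (.node 1 (.leaf (nat_lit 0xf07013782)) (.leaf (nat_lit 0xf050137a2))) (.node 1 (.leaf (nat_lit 0xf070137a2)) (.leaf (nat_lit 0x1c06019941)))) (.node 2 (.node 1 (.leaf (nat_lit 0x1a05013801)) (.leaf (nat_lit 0x1a04013811))) (.node 1 (.leaf (nat_lit 0x1a06013811)) (.leaf (nat_lit 0x1a06013871))))) (.node 4 (.node 2 (.node 1 (.leaf (nat_lit 0x1a05013861)) (.leaf (nat_lit 0x1a04013871))) (.node 1 (.leaf (nat_lit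 0x1a07013871)) (.leaf (nat_lit 0x1a040138a1)))) (.node 2 (.node 1 (.leaf (nat_lit 0x1a060138a1)) (.leaf (nat_lit 0x1a070138a1))) (.node 1 (.leaf (nat_lit 0xf05013912)) (.leaf (nat_lit 0xf04013922)))))) (.node 8 (.node 4 (.node 2 (.node 1 (.leaf (nat_lit 0xf06013922)) (.leaf (nat_lit 0xf01013972))) (.node 1 (.leaf (nat_lit 0xf05013972)) (.leaf (nat_lit 0xf07013972)))) (.node 2 (.node 1 (.leaf (nat_lit 0xf07013982)) (.leaf (nat_lit 0xf040139b2))) (.node 1 (.leaf (nat_lit 0xf060139b2)) (.leaf (nat_lit 0xf070139b2))))) (.node 4 (.node 2 (.node 1 (.leaf (nat_lit 0xf030139c2)) (.leaf (nat_lit 0xf080139f2))) (.node 1 (.leaf (nat_lit 0x1a04013a31)) (.leaf (nat_lit 0x1a06013a31)))) (.node 2 (.node 1 (.leaf (nat_lit 0x1a06013a41)) (.leaf (nat_lit 0x1a06013ac1))) (.node 1 (.leaf (nat_lit 0x1a05013a91)) (.leaf (nat_lit 0x1a04013aa1)))))))) (.node 32 (.node 16 (.node 8 (.node 4 (.node 2 (.node 1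 (.leaf (nat_lit 0x1a06013aa1)) (.leaf (nat_lit 0x1a07013aa1))) (.node 1 (.leaf (nat_lit 0x1a07013ac1)) (.leaf (nat_lit 0x1a07013ad1)))) (.node 2 (.node 1 (.leaf (nat_lit 0x1a03013b01)) (.leaf (nat_lit 0x1a06013b01))) (.node 1 (.leaf (nat_lit 0x1a07013b01)) (.leaf (nat_lit 0x1a07014031))))) (.node 4 (.node 2 (.node 1 (.leaf (nat_lit 0x1a07013b11)) (.leaf (nat_lit 0x1a03013b21))) (.node 1 (.leaf (nat_lit 0x1a04013b31)) (.leaf (nat_lit 0x1a08013b51)))) (.node 2 (.node 1 (.leaf (nat_lit 0x1a08013b71)) (.leaf (nat_lit 0x1a03013bb1))) (.node 1 (.leaf (nat_lit 0x1a06013bb1)) (.leaf (nat_lit 0x1c0501ea51)))))) (.node 8 (.node 4 (.node 2 (.node 1 (.leaf (nat_lit 0x1a05013bd1)) (.leaf (nat_lit 0x1a05013c51))) (.node 1 (.leaf (nat_lit 0x1a04013c11)) (.leaf (nat_lit 0x1a06013c11)))) (.node 2 (.node 1 (.leaf (nat_lit 0x1a03013c21)) (.leaf (nat_lit 0x1a06013c21))) (.node 1 (.leaf (nat_lit 0x1a07013c21))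 (.leaf (nat_lit 0x1c0501ea41))))) (.node 4 (.node 2 (.node 1 (.leaf (nat_lit 0x1a07013c31)) (.leaf (nat_lit 0x1a07013c51))) (.node 1 (.leaf (nat_lit 0x1a03013c61)) (.leaf (nat_lit 0x1a05014001)))) (.node 2 (.node 1 (.leaf (nat_lit 0x1a06013c91)) (.leaf (nat_lit 0x1a07013c91))) (.node 1 (.leaf (nat_lit 0x1a05013ca1)) (.leaf (nat_lit 0x1a07014241))))))) (.node 16 (.node 8 (.node 4 (.node 2 (.node 1 (.leaf (nat_lit 0x1a07013ca1)) (.leaf (nat_lit 0x1a03013cb1))) (.node 1 (.leaf (nat_lit 0x1a05014031)) (.leaf (nat_lit 0x1a03013cd1)))) (.node 2 (.node 1 (.leaf (nat_lit 0x1a04013ce1)) (.leaf (nat_lit 0x1a05013cf1))) (.node 1 (.leaf (nat_lit 0x1a08013d21)) (.leaf (nat_lit 0x1a02013d31))))) (.node 4 (.node 2 (.node 1 (.leaf (nat_lit 0x1a08013d31)) (.leaf (nat_lit 0x1a05013f51))) (.node 1 (.leaf (nat_lit 0xf05013da2)) (.leaf (nat_lit 0xf04013db2)))) (.node 2 (.node 1 (.leaf (nat_lit 0xf06013db2))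 (.leaf (nat_lit 0x1a03013f61))) (.node 1 (.leaf (nat_lit 0xf04013dd2)) (.leaf (nat_lit 0xf06013dd2)))))) (.node 8 (.node 4 (.node 2 (.node 1 (.leaf (nat_lit 0xf07013dd2)) (.leaf (nat_lit 0xf04013e62))) (.node 1 (.leaf (nat_lit 0xf06013e62)) (.leaf (nat_lit 0xf03013ea2)))) (.node 2 (.node 1 (.leaf (nat_lit 0xf03013ec2)) (.leaf (nat_lit 0xf04013ed2))) (.node 1 (.leaf (nat_lit 0x1a04013ee1)) (.leaf (nat_lit 0x1a06013ee1))))) (.node 4 (.node 2 (.node 1 (.leaf (nat_lit 0x1a06013ef1)) (.leaf (nat_lit 0x1a07013f51))) (.node 1 (.leaf (nat_lit 0x1a03013f21)) (.leaf (nat_lit 0x1a06013f21)))) (.node 2 (.node 1 (.leaf (nat_lit 0x1a07013f21)) (.leaf (nat_lit 0x1c0601ea61))) (.node 1 (.leaf (nat_lit 0x1a07013f31)) (.leaf (nat_lit 0x1a03013fe1))))))))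

noncomputable def oT50 : Tree :=
  .node 64 (.node 32 (.node 16 (.node 8 (.node 4 (.node 2 (.node 1 (.leaf (nat_lit 0x1a06013fe1)) (.leaf (nat_lit 0x1c0701ea51))) (.node 1 (.leaf (nat_lit 0x1a06014021)) (.leaf (nat_lit 0x1a07014021)))) (.node 2 (.node 1 (.leaf (nat_lit 0x1a03014041)) (.leaf (nat_lit 0x1a03014061))) (.node 1 (.leaf (nat_lit 0x1a04014071)) (.leaf (nat_lit 0x1a05014081))))) (.node 4 (.node 2 (.node 1 (.leaf (nat_lit 0x1a03014091)) (.leaf (nat_lit 0x1a06014091))) (.node 1 (.leaf (nat_lit 0x1c0701eb61)) (.leaf (nat_lit 0x1a050140b1)))) (.node 2 (.node 1 (.leaf (nat_lit 0x1a07014121)) (.leaf (nat_lit 0x1a060140d1))) (.node 1 (.leaf (nat_lit 0x1a070140d1)) (.leaf (nat_lit 0x1a050140e1)))))) (.node 8 (.node 4 (.node 2 (.node 1 (.leaf (nat_lit 0x1c0501eb51)) (.leaf (nat_lit 0x1a070140e1))) (.node 1 (.leaf (nat_lit 0x1a030140f1)) (.leaf (nat_lit 0x1c0501ed21)))) (.node 2 (.node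 1 (.leaf (nat_lit 0x1a03014141)) (.leaf (nat_lit 0x1a02014151))) (.node 1 (.leaf (nat_lit 0x1a060141d1)) (.leaf (nat_lit 0x1a070141d1))))) (.node 4 (.node 2 (.node 1 (.leaf (nat_lit 0x1a050141e1)) (.leaf (nat_lit 0x1c0701eb31))) (.node 1 (.leaf (nat_lit 0x1a05014221)) (.leaf (nat_lit 0x1c03014251)))) (.node 2 (.node 1 (.leaf (nat_lit 0x1a07014221)) (.leaf (nat_lit 0x1a03014231))) (.node 1 (.leaf (nat_lit 0x1a08014231)) (.leaf (nat_lit 0x1a03014261))))))) (.node 16 (.node 8 (.node 4 (.node 2 (.node 1 (.leaf (nat_lit 0x1a04014271)) (.leaf (nat_lit 0x1c0501eab1))) (.node 1 (.leaf (nat_lit 0x1a04014291)) (.leaf (nat_lit 0x1a050142a1)))) (.node 2 (.node 1 (.leaf (nat_lit 0x1a060142b1)) (.leaf (nat_lit 0x1a060142c1))) (.node 1 (.leaf (nat_lit 0x1a070142c1)) (.leaf (nat_lit 0x1a050142d1))))) (.node 4 (.node 2 (.node 1 (.leaf (nat_lit 0x1c02014301)) (.leaf (nat_lit 0x1a070142f1))) (.node 1 (.leaf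 (nat_lit 0x1a030143c1)) (.leaf (nat_lit 0x1a03014311)))) (.node 2 (.node 1 (.leaf (nat_lit 0x1a02014321)) (.leaf (nat_lit 0x1a05014341))) (.node 1 (.leaf (nat_lit 0x1e0501f031)) (.leaf (nat_lit 0x1a07014341)))))) (.node 8 (.node 4 (.node 2 (.node 1 (.leaf (nat_lit 0x1a03014351)) (.leaf (nat_lit 0x1a08014351))) (.node 1 (.leaf (nat_lit 0x1c08014511)) (.leaf (nat_lit 0x1a07014361)))) (.node 2 (.node 1 (.leaf (nat_lit 0x1c020143d1)) (.leaf (nat_lit 0x1a03014381))) (.node 1 (.leaf (nat_lit 0x1a02014391)) (.leaf (nat_lit 0x1a020143e1))))) (.node 4 (.node 2 (.node 1 (.leaf (nat_lit 0x1a010143f1)) (.leaf (nat_lit 0x1a02014411))) (.node 1 (.leaf (nat_lit 0x1a070149b1)) (.leaf (nat_lit 0x1a01014431)))) (.node 2 (.node 1 (.leaf (nat_lit 0x1a02014451)) (.leaf (nat_lit 0x1a06014451))) (.node 1 (.leaf (nat_lit 0x1a07014451)) (.leaf (nat_lit 0x1a05014461)))))))) (.node 32 (.node 16 (.node 8 (.node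 4 (.node 2 (.node 1 (.leaf (nat_lit 0x1c0501f141)) (.leaf (nat_lit 0x1a05014481))) (.node 1 (.leaf (nat_lit 0x1e0101f111)) (.leaf (nat_lit 0x1a07014481)))) (.node 2 (.node 1 (.leaf (nat_lit 0x1a08014491)) (.leaf (nat_lit 0x1c020144c1))) (.node 1 (.leaf (nat_lit 0x1a040144d1)) (.leaf (nat_lit 0x1c0201ec21))))) (.node 4 (.node 2 (.node 1 (.leaf (nat_lit 0x1a070144d1)) (.leaf (nat_lit 0x1e0201ef21))) (.node 1 (.leaf (nat_lit 0x1a080144f1)) (.leaf (nat_lit 0xf03014522)))) (.node 2 (.node 1 (.leaf (nat_lit 0xf06014522)) (.leaf (nat_lit 0x1c04019a51))) (.node 1 (.leaf (nat_lit 0xf06014562)) (.leaf (nat_lit 0xf07014562)))))) (.node 8 (.node 4 (.node 2 (.node 1 (.leaf (nat_lit 0xf03014582)) (.leaf (nat_lit 0xf030145a2))) (.node 1 (.leaf (nat_lit 0xf040145b2)) (.leaf (nat_lit 0xf050145c2)))) (.node 2 (.node 1 (.leaf (nat_lit 0x1a060145d1)) (.leaf (nat_lit 0x1a070145d1))) (.node 1 (.leaf (nat_lit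 0x1c06019a51)) (.leaf (nat_lit 0x1c06019a41))))) (.node 4 (.node 2 (.node 1 (.leaf (nat_lit 0x1a07014611)) (.leaf (nat_lit 0x1a03014621))) (.node 1 (.leaf (nat_lit 0x1a08014621)) (.leaf (nat_lit 0x1a03014641)))) (.node 2 (.node 1 (.leaf (nat_lit 0x1a02014651)) (.leaf (nat_lit 0x1a04014651))) (.node 1 (.leaf (nat_lit 0x1c0601e9b1)) (.leaf (nat_lit 0x1a04014671))))))) (.node 16 (.node 8 (.node 4 (.node 2 (.node 1 (.leaf (nat_lit 0x1a05014681)) (.leaf (nat_lit 0x1a06014691))) (.node 1 (.leaf (nat_lit 0x1e040146c1)) (.leaf (nat_lit 0x1a050146d1)))) (.node 2 (.node 1 (.leaf (nat_lit 0x1a060146e1)) (.leaf (nat_lit 0x1e0801a681))) (.node 1 (.leaf (nat_lit 0xf06014702)) (.leaf (nat_lit 0xf07014702))))) (.node 4 (.node 2 (.node 1 (.leaf (nat_lit 0xf05014712)) (.leaf (nat_lit 0xf05014732))) (.node 1 (.leaf (nat_lit 0xf07014732)) (.leaf (nat_lit 0xf03014742)))) (.node 2 (.node 1 (.leaf (nat_lit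 0xf08014742)) (.leaf (nat_lit 0xf03014762))) (.node 1 (.leaf (nat_lit 0xf02014772)) (.leaf (nat_lit 0xf04014772)))))) (.node 8 (.node 4 (.node 2 (.node 1 (.leaf (nat_lit 0xf04014782)) (.leaf (nat_lit 0xf05014792))) (.node 1 (.leaf (nat_lit 0xf060147a2)) (.leaf (nat_lit 0x1a080147d1)))) (.node 2 (.node 1 (.leaf (nat_lit 0x1a020147e1)) (.leaf (nat_lit 0x1a040147e1))) (.node 1 (.leaf (nat_lit 0x1a080147e1)) (.leaf (nat_lit 0x1a05014811))))) (.node 4 (.node 2 (.node 1 (.leaf (nat_lit 0x1a06014821)) (.leaf (nat_lit 0x1c0801a3c1))) (.node 1 (.leaf (nat_lit 0xf04014882)) (.leaf (nat_lit 0xf07014882)))) (.node 2 (.node 1 (.leaf (nat_lit 0xf03014892)) (.leaf (nat_lit 0xf070148a2))) (.node 1 (.leaf (nat_lit 0xf030148c2)) (.leaf (nat_lit 0xf050148e2))))))))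

noncomputable def oT51 : Tree :=
  .node 64 (.node 32 (.node 16 (.node 8 (.node 4 (.node 2 (.node 1 (.leaf (nat_lit 0xf060148f2)) (.leaf (nat_lit 0xf04014912))) (.node 1 (.leaf (nat_lit 0x1a03014931)) (.leaf (nat_lit 0x1a05014941)))) (.node 2 (.node 1 (.leaf (nat_lit 0x1a02014971)) (.leaf (nat_lit 0x1a06014971))) (.node 1 (.leaf (nat_lit 0x1a05014981)) (.leaf (nat_lit 0x1a05014a31))))) (.node 4 (.node 2 (.node 1 (.leaf (nat_lit 0x1a06014a21)) (.leaf (nat_lit 0xf03014a62))) (.node 1 (.leaf (nat_lit 0x1002014a72)) (.leaf (nat_lit 0x1004014a72)))) (.node 2 (.node 1 (.leaf (nat_lit 0x1001014a82)) (.leaf (nat_lit 0x1004014a82))) (.node 1 (.leaf (nat_lit 0x1005014a92)) (.leaf (nat_lit 0x1000014aa2)))))) (.node 8 (.node 4 (.node 2 (.node 1 (.leaf (nat_lit 0x1004014aa2)) (.leaf (nat_lit 0x1003014ab2))) (.node 1 (.leaf (nat_lit 0x1005014ab2)) (.leaf (nat_lit 0x1006014ac2)))) (.node 2 (.node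 1 (.leaf (nat_lit 0x1b05014ae1)) (.leaf (nat_lit 0x1b05014af1))) (.node 1 (.leaf (nat_lit 0x1b06014b01)) (.leaf (nat_lit 0x1b060165e1))))) (.node 4 (.node 2 (.node 1 (.leaf (nat_lit 0x1000014b22)) (.leaf (nat_lit 0x1004014b22))) (.node 1 (.leaf (nat_lit 0x1003014b32)) (.leaf (nat_lit 0x1005014b32)))) (.node 2 (.node 1 (.leaf (nat_lit 0x1006014b42)) (.leaf (nat_lit 0x1004014b52))) (.node 1 (.leaf (nat_lit 0x1003014b62)) (.leaf (nat_lit 0x1005014b62))))))) (.node 16 (.node 8 (.node 4 (.node 2 (.node 1 (.leaf (nat_lit 0x1005014b72)) (.leaf (nat_lit 0x1007014b72))) (.node 1 (.leaf (nat_lit 0x1006014b82)) (.leaf (nat_lit 0x1b050165d1)))) (.node 2 (.node 1 (.leaf (nat_lit 0x1b05014ba1)) (.leaf (nat_lit 0x1b05014bb1))) (.node 1 (.leaf (nat_lit 0x1b06014bc1)) (.leaf (nat_lit 0x1b04014bd1))))) (.node 4 (.node 2 (.node 1 (.leaf (nat_lit 0x1b06014bd1)) (.leaf (nat_lit 0x1b07014bd1))) (.node 1 (.leaf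 (nat_lit 0x1b06016601)) (.leaf (nat_lit 0x1003014c12)))) (.node 2 (.node 1 (.leaf (nat_lit 0x1005014c12)) (.leaf (nat_lit 0x1002014c22))) (.node 1 (.leaf (nat_lit 0x1005014c22)) (.leaf (nat_lit 0x1007014c22)))))) (.node 8 (.node 4 (.node 2 (.node 1 (.leaf (nat_lit 0x1006014c32)) (.leaf (nat_lit 0x1004014c42))) (.node 1 (.leaf (nat_lit 0x1006014c42)) (.leaf (nat_lit 0x1007014c42)))) (.node 2 (.node 1 (.leaf (nat_lit 0x1008014c52)) (.leaf (nat_lit 0x1b04016601))) (.node 1 (.leaf (nat_lit 0x1b02014c81)) (.leaf (nat_lit 0x1b05014c81))))) (.node 4 (.node 2 (.node 1 (.leaf (nat_lit 0x1b07014c81)) (.leaf (nat_lit 0x1b06014c91))) (.node 1 (.leaf (nat_lit 0x1b05014ca1)) (.leaf (nat_lit 0x1b07014ca1)))) (.node 2 (.node 1 (.leaf (nat_lit 0x1b04014cb1)) (.leaf (nat_lit 0x1b06014cb1))) (.node 1 (.leaf (nat_lit 0x1b07014cb1)) (.leaf (nat_lit 0x1b08014cc1)))))))) (.node 32 (.node 16 (.node 8 (.node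 4 (.node 2 (.node 1 (.leaf (nat_lit 0x1b06018121)) (.leaf (nat_lit 0x1b06014ce1))) (.node 1 (.leaf (nat_lit 0x1b07014ce1)) (.leaf (nat_lit 0x1b06016971)))) (.node 2 (.node 1 (.leaf (nat_lit 0x1b07014cf1)) (.leaf (nat_lit 0x1b08014d01))) (.node 1 (.leaf (nat_lit 0x1b01014d31)) (.leaf (nat_lit 0x1b05014d31))))) (.node 4 (.node 2 (.node 1 (.leaf (nat_lit 0x1b07014d31)) (.leaf (nat_lit 0x1b04014d41))) (.node 1 (.leaf (nat_lit 0x1b06014d41)) (.leaf (nat_lit 0x1b07014d41)))) (.node 2 (.node 1 (.leaf (nat_lit 0x1b08014d51)) (.leaf (nat_lit 0x1b050181f1))) (.node 1 (.leaf (nat_lit 0x1b04014d71)) (.leaf (nat_lit 0x1b06014d71)))))) (.node 8 (.node 4 (.node 2 (.node 1 (.leaf (nat_lit 0x1b07014d71)) (.leaf (nat_lit 0x1b03014d81))) (.node 1 (.leaf (nat_lit 0x1b08014d81)) (.leaf (nat_lit 0x1b06014d91)))) (.node 2 (.node 1 (.leaf (nat_lit 0x1b07014d91)) (.leaf (nat_lit 0x1b05018131))) (.node 1 (.leaf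 (nat_lit 0x1b07014da1)) (.leaf (nat_lit 0x1b08014db1))))) (.node 4 (.node 2 (.node 1 (.leaf (nat_lit 0x1b05014de1)) (.leaf (nat_lit 0x1b05016c11))) (.node 1 (.leaf (nat_lit 0x1b07014de1)) (.leaf (nat_lit 0x1b03014df1)))) (.node 2 (.node 1 (.leaf (nat_lit 0x1b08014df1)) (.leaf (nat_lit 0x1d07014e01))) (.node 1 (.leaf (nat_lit 0x1b08014e11)) (.leaf (nat_lit 0x1004014e32))))))) (.node 16 (.node 8 (.node 4 (.node 2 (.node 1 (.leaf (nat_lit 0x1003014e42)) (.leaf (nat_lit 0x1005014e42))) (.node 1 (.leaf (nat_lit 0x1006014e52)) (.leaf (nat_lit 0x1004014e62)))) (.node 2 (.node 1 (.leaf (nat_lit 0x1003014e72)) (.leaf (nat_lit 0x1005014e72))) (.node 1 (.leaf (nat_lit 0x1005014e82)) (.leaf (nat_lit 0x1007014e82))))) (.node 4 (.node 2 (.node 1 (.leaf (nat_lit 0x1006014e92)) (.leaf (nat_lit 0x1b070165d1))) (.node 1 (.leaf (nat_lit 0x1003014eb2)) (.leaf (nat_lit 0x1005014eb2)))) (.node 2 (.node 1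 (.leaf (nat_lit 0x1005014ec2)) (.leaf (nat_lit 0x1007014ec2))) (.node 1 (.leaf (nat_lit 0x1006014ed2)) (.leaf (nat_lit 0x1d08014f51)))))) (.node 8 (.node 4 (.node 2 (.node 1 (.leaf (nat_lit 0x1003014ef2)) (.leaf (nat_lit 0x1005014ef2))) (.node 1 (.leaf (nat_lit 0x1002014f02)) (.leaf (nat_lit 0x1005014f02)))) (.node 2 (.node 1 (.leaf (nat_lit 0x1007014f02)) (.leaf (nat_lit 0x1006014f12))) (.node 1 (.leaf (nat_lit 0x1004014f22)) (.leaf (nat_lit 0x1006014f22))))) (.node 4 (.node 2 (.node 1 (.leaf (nat_lit 0x1007014f22)) (.leaf (nat_lit 0x1008014f32))) (.node 1 (.leaf (nat_lit 0x1b07016601)) (.leaf (nat_lit 0x1b02014f61)))) (.node 2 (.node 1 (.leaf (nat_lit 0x1b05014f61)) (.leaf (nat_lit 0x1b07014f61))) (.node 1 (.leaf (nat_lit 0x1b06014f71)) (.leaf (nat_lit 0x1b04014f81))))))))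

noncomputable def oT52 : Tree :=
  .node 64 (.node 32 (.node 16 (.node 8 (.node 4 (.node 2 (.node 1 (.leaf (nat_lit 0x1b06014f81)) (.leaf (nat_lit 0x1b07014f81))) (.node 1 (.leaf (nat_lit 0x1b08014f91)) (.leaf (nat_lit 0x1d08015061)))) (.node 2 (.node 1 (.leaf (nat_lit 0x1b05014fc1)) (.leaf (nat_lit 0x1b06014fd1))) (.node 1 (.leaf (nat_lit 0x1b05014fe1)) (.leaf (nat_lit 0x1b04014ff1))))) (.node 4 (.node 2 (.node 1 (.leaf (nat_lit 0x1b06014ff1)) (.leaf (nat_lit 0x1b07014ff1))) (.node 1 (.leaf (nat_lit 0x1b07019541)) (.leaf (nat_lit 0x1b06015021)))) (.node 2 (.node 1 (.leaf (nat_lit 0x1b07015021)) (.leaf (nat_lit 0x1b07016691))) (.node 1 (.leaf (nat_lit 0x1b07015031)) (.leaf (nat_lit 0x1b08015041)))))) (.node 8 (.node 4 (.node 2 (.node 1 (.leaf (nat_lit 0x1002015072)) (.leaf (nat_lit 0x1005015072))) (.node 1 (.leaf (nat_lit 0x1007015072)) (.leaf (nat_lit 0x1006015082)))) (.node 2 (.node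 1 (.leaf (nat_lit 0x1004015092)) (.leaf (nat_lit 0x1006015092))) (.node 1 (.leaf (nat_lit 0x1007015092)) (.leaf (nat_lit 0x10080150a2))))) (.node 4 (.node 2 (.node 1 (.leaf (nat_lit 0x1d08015171)) (.leaf (nat_lit 0x10020150d2))) (.node 1 (.leaf (nat_lit 0x10050150d2)) (.leaf (nat_lit 0x10070150d2)))) (.node 2 (.node 1 (.leaf (nat_lit 0x10060150e2)) (.leaf (nat_lit 0x10050150f2))) (.node 1 (.leaf (nat_lit 0x10070150f2)) (.leaf (nat_lit 0x1004015102))))))) (.node 16 (.node 8 (.node 4 (.node 2 (.node 1 (.leaf (nat_lit 0x1006015102)) (.leaf (nat_lit 0x1007015102))) (.node 1 (.leaf (nat_lit 0x1008015112)) (.leaf (nat_lit 0x1b07018121)))) (.node 2 (.node 1 (.leaf (nat_lit 0x1006015132)) (.leaf (nat_lit 0x1007015132))) (.node 1 (.leaf (nat_lit 0x1d03015171)) (.leaf (nat_lit 0x1007015142))))) (.node 4 (.node 2 (.node 1 (.leaf (nat_lit 0x1008015152)) (.leaf (nat_lit 0x1b05015181))) (.node 1 (.leaf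 (nat_lit 0x1b07015181)) (.leaf (nat_lit 0x1b04015191)))) (.node 2 (.node 1 (.leaf (nat_lit 0x1b06015191)) (.leaf (nat_lit 0x1b07015191))) (.node 1 (.leaf (nat_lit 0x1b080151a1)) (.leaf (nat_lit 0x1d080152b1)))))) (.node 8 (.node 4 (.node 2 (.node 1 (.leaf (nat_lit 0x1b060151c1)) (.leaf (nat_lit 0x1b070151c1))) (.node 1 (.leaf (nat_lit 0x1f080152e1)) (.leaf (nat_lit 0x1b070151d1)))) (.node 2 (.node 1 (.leaf (nat_lit 0x1b080151e1)) (.leaf (nat_lit 0x1b01015211))) (.node 1 (.leaf (nat_lit 0x1b05015211)) (.leaf (nat_lit 0x1b07015211))))) (.node 4 (.node 2 (.node 1 (.leaf (nat_lit 0x1b04015221)) (.leaf (nat_lit 0x1b06015221))) (.node 1 (.leaf (nat_lit 0x1b07015221)) (.leaf (nat_lit 0x1b08015231)))) (.node 2 (.node 1 (.leaf (nat_lit 0x1b070181f1)) (.leaf (nat_lit 0x1b04015251))) (.node 1 (.leaf (nat_lit 0x1b06015251)) (.leaf (nat_lit 0x1b07015251)))))))) (.node 32 (.node 16 (.node 8 (.node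 4 (.node 2 (.node 1 (.leaf (nat_lit 0x1b03015261)) (.leaf (nat_lit 0x1b08015261))) (.node 1 (.leaf (nat_lit 0x1b06015271)) (.leaf (nat_lit 0x1b07015271)))) (.node 2 (.node 1 (.leaf (nat_lit 0x1d030152b1)) (.leaf (nat_lit 0x1b07015281))) (.node 1 (.leaf (nat_lit 0x1b08015291)) (.leaf (nat_lit 0x1b050152c1))))) (.node 4 (.node 2 (.node 1 (.leaf (nat_lit 0x1d0301fa31)) (.leaf (nat_lit 0x1b070152c1))) (.node 1 (.leaf (nat_lit 0x1b030152d1)) (.leaf (nat_lit 0x1b080152d1)))) (.node 2 (.node 1 (.leaf (nat_lit 0x1d0301f5b1)) (.leaf (nat_lit 0x1b080152f1))) (.node 1 (.leaf (nat_lit 0x1b04015311)) (.leaf (nat_lit 0x1b06015311)))))) (.node 8 (.node 4 (.node 2 (.node 1 (.leaf (nat_lit 0x1b07015311)) (.leaf (nat_lit 0x1b03015321))) (.node 1 (.leaf (nat_lit 0x1b08015321)) (.leaf (nat_lit 0x1b06015331)))) (.node 2 (.node 1 (.leaf (nat_lit 0x1b07015331)) (.leaf (nat_lit 0x1f080154c1))) (.node 1 (.leaf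 (nat_lit 0x1b07015341)) (.leaf (nat_lit 0x1b08015351))))) (.node 4 (.node 2 (.node 1 (.leaf (nat_lit 0x1b05015381)) (.leaf (nat_lit 0x2108015501))) (.node 1 (.leaf (nat_lit 0x1b07015381)) (.leaf (nat_lit 0x1b03015391)))) (.node 2 (.node 1 (.leaf (nat_lit 0x1b08015391)) (.leaf (nat_lit 0x21070153a1))) (.node 1 (.leaf (nat_lit 0x1b080153b1)) (.leaf (nat_lit 0x1b050153d1))))))) (.node 16 (.node 8 (.node 4 (.node 2 (.node 1 (.leaf (nat_lit 0x1b070153d1)) (.leaf (nat_lit 0x1b040153e1))) (.node 1 (.leaf (nat_lit 0x1b060153e1)) (.leaf (nat_lit 0x1b070153e1)))) (.node 2 (.node 1 (.leaf (nat_lit 0x1b030153f1)) (.leaf (nat_lit 0x1b080153f1))) (.node 1 (.leaf (nat_lit 0x1b06015401)) (.leaf (nat_lit 0x1b07015401))))) (.node 4 (.node 2 (.node 1 (.leaf (nat_lit 0x1d03015441)) (.leaf (nat_lit 0x1b07015411))) (.node 1 (.leaf (nat_lit 0x1b08015421)) (.leaf (nat_lit 0x1b03015451)))) (.node 2 (.node 1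 (.leaf (nat_lit 0x1b06015451)) (.leaf (nat_lit 0x1b07015451))) (.node 1 (.leaf (nat_lit 0x1f020154c1)) (.leaf (nat_lit 0x1b07015461)))))) (.node 8 (.node 4 (.node 2 (.node 1 (.leaf (nat_lit 0x1b03015471)) (.leaf (nat_lit 0x1b08015471))) (.node 1 (.leaf (nat_lit 0x1b04015481)) (.leaf (nat_lit 0x1b08015481)))) (.node 2 (.node 1 (.leaf (nat_lit 0x1b050154a1)) (.leaf (nat_lit 0x1f040154c1))) (.node 1 (.leaf (nat_lit 0x1b070154a1)) (.leaf (nat_lit 0x1b030154b1))))) (.node 4 (.node 2 (.node 1 (.leaf (nat_lit 0x1b080154b1)) (.leaf (nat_lit 0x1d0301f6d1))) (.node 1 (.leaf (nat_lit 0x1b080154d1)) (.leaf (nat_lit 0x1f0401ff81)))) (.node 2 (.node 1 (.leaf (nat_lit 0x1b070154f1)) (.leaf (nat_lit 0x1f04015541))) (.node 1 (.leaf (nat_lit 0x1b03015511)) (.leaf (nat_lit 0x1b08015511))))))))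

noncomputable def oT53 : Tree :=
  .node 64 (.node 32 (.node 16 (.node 8 (.node 4 (.node 2 (.node 1 (.leaf (nat_lit 0x1b02015521)) (.leaf (nat_lit 0x1b08015521))) (.node 1 (.leaf (nat_lit 0x1f08015541)) (.leaf (nat_lit 0x1003015562)))) (.node 2 (.node 1 (.leaf (nat_lit 0x1005015562)) (.leaf (nat_lit 0x1002015572))) (.node 1 (.leaf (nat_lit 0x1005015572)) (.leaf (nat_lit 0x1007015572))))) (.node 4 (.node 2 (.node 1 (.leaf (nat_lit 0x1006015582)) (.leaf (nat_lit 0x1004015592))) (.node 1 (.leaf (nat_lit 0x1006015592)) (.leaf (nat_lit 0x1007015592)))) (.node 2 (.node 1 (.leaf (nat_lit 0x10080155a2)) (.leaf (nat_lit 0x1f030205b1))) (.node 1 (.leaf (nat_lit 0x10020155d2)) (.leaf (nat_lit 0x10050155d2)))))) (.node 8 (.node 4 (.node 2 (.node 1 (.leaf (nat_lit 0x10070155d2)) (.leaf (nat_lit 0x10060155e2))) (.node 1 (.leaf (nat_lit 0x10050155f2)) (.leaf (nat_lit 0x10070155f2)))) (.node 2 (.node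 1 (.leaf (nat_lit 0x1004015602)) (.leaf (nat_lit 0x1006015602))) (.node 1 (.leaf (nat_lit 0x1007015602)) (.leaf (nat_lit 0x1008015612))))) (.node 4 (.node 2 (.node 1 (.leaf (nat_lit 0x1f07020581)) (.leaf (nat_lit 0x1006015632))) (.node 1 (.leaf (nat_lit 0x1007015632)) (.leaf (nat_lit 0x1f08015751)))) (.node 2 (.node 1 (.leaf (nat_lit 0x1007015642)) (.leaf (nat_lit 0x1008015652))) (.node 1 (.leaf (nat_lit 0x1001015682)) (.leaf (nat_lit 0x1005015682))))))) (.node 16 (.node 8 (.node 4 (.node 2 (.node 1 (.leaf (nat_lit 0x1007015682)) (.leaf (nat_lit 0x1004015692))) (.node 1 (.leaf (nat_lit 0x1006015692)) (.leaf (nat_lit 0x1007015692)))) (.node 2 (.node 1 (.leaf (nat_lit 0x10080156a2)) (.leaf (nat_lit 0x1f08020651))) (.node 1 (.leaf (nat_lit 0x10040156c2)) (.leaf (nat_lit 0x10060156c2))))) (.node 4 (.node 2 (.node 1 (.leaf (nat_lit 0x10070156c2)) (.leaf (nat_lit 0x10030156d2))) (.node 1 (.leaf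 (nat_lit 0x10080156d2)) (.leaf (nat_lit 0x10060156e2)))) (.node 2 (.node 1 (.leaf (nat_lit 0x10070156e2)) (.leaf (nat_lit 0x1f01015751))) (.node 1 (.leaf (nat_lit 0x10070156f2)) (.leaf (nat_lit 0x1008015702)))))) (.node 8 (.node 4 (.node 2 (.node 1 (.leaf (nat_lit 0x1005015732)) (.leaf (nat_lit 0x1d0201fc51))) (.node 1 (.leaf (nat_lit 0x1007015732)) (.leaf (nat_lit 0x1003015742)))) (.node 2 (.node 1 (.leaf (nat_lit 0x1008015742)) (.leaf (nat_lit 0x1d0201fc91))) (.node 1 (.leaf (nat_lit 0x1008015762)) (.leaf (nat_lit 0x1b02015781))))) (.node 4 (.node 2 (.node 1 (.leaf (nat_lit 0x1b05015781)) (.leaf (nat_lit 0x1b07015781))) (.node 1 (.leaf (nat_lit 0x1b06015791)) (.leaf (nat_lit 0x1b050157a1)))) (.node 2 (.node 1 (.leaf (nat_lit 0x1b070157a1)) (.leaf (nat_lit 0x1b040157b1))) (.node 1 (.leaf (nat_lit 0x1b060157b1)) (.leaf (nat_lit 0x1b070157b1)))))))) (.node 32 (.node 16 (.node 8 (.node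 4 (.node 2 (.node 1 (.leaf (nat_lit 0x1b080157c1)) (.leaf (nat_lit 0x1f06020581))) (.node 1 (.leaf (nat_lit 0x1b060157e1)) (.leaf (nat_lit 0x1b070157e1)))) (.node 2 (.node 1 (.leaf (nat_lit 0x1f060205b1)) (.leaf (nat_lit 0x1b070157f1))) (.node 1 (.leaf (nat_lit 0x1b08015801)) (.leaf (nat_lit 0x1b01015831))))) (.node 4 (.node 2 (.node 1 (.leaf (nat_lit 0x1b05015831)) (.leaf (nat_lit 0x1b07015831))) (.node 1 (.leaf (nat_lit 0x1b04015841)) (.leaf (nat_lit 0x1b06015841)))) (.node 2 (.node 1 (.leaf (nat_lit 0x1b07015841)) (.leaf (nat_lit 0x1b08015851))) (.node 1 (.leaf (nat_lit 0x1f07020a21)) (.leaf (nat_lit 0x1b04015871)))))) (.node 8 (.node 4 (.node 2 (.node 1 (.leaf (nat_lit 0x1b06015871)) (.leaf (nat_lit 0x1b07015871))) (.node 1 (.leaf (nat_lit 0x1b03015881)) (.leaf (nat_lit 0x1b08015881)))) (.node 2 (.node 1 (.leaf (nat_lit 0x1b06015891)) (.leaf (nat_lit 0x1b07015891))) (.node 1 (.leaf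 (nat_lit 0x21030158d1)) (.leaf (nat_lit 0x1b070158a1))))) (.node 4 (.node 2 (.node 1 (.leaf (nat_lit 0x1b080158b1)) (.leaf (nat_lit 0x1b050158e1))) (.node 1 (.leaf (nat_lit 0x1f08015a61)) (.leaf (nat_lit 0x1b070158e1)))) (.node 2 (.node 1 (.leaf (nat_lit 0x1b030158f1)) (.leaf (nat_lit 0x1b080158f1))) (.node 1 (.leaf (nat_lit 0x2103020b21)) (.leaf (nat_lit 0x1b08015911))))))) (.node 16 (.node 8 (.node 4 (.node 2 (.node 1 (.leaf (nat_lit 0x1b05015931)) (.leaf (nat_lit 0x1b07015931))) (.node 1 (.leaf (nat_lit 0x1b04015941)) (.leaf (nat_lit 0x1b06015941)))) (.node 2 (.node 1 (.leaf (nat_lit 0x1b07015941)) (.leaf (nat_lit 0x1b03015951))) (.node 1 (.leaf (nat_lit 0x1b08015951)) (.leaf (nat_lit 0x1b06015961))))) (.node 4 (.node 2 (.node 1 (.leaf (nat_lit 0x1b07015961)) (.leaf (nat_lit 0x2108020bd1))) (.node 1 (.leaf (nat_lit 0x1b07015971)) (.leaf (nat_lit 0x1b08015981)))) (.node 2 (.node 1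 (.leaf (nat_lit 0x1b030159b1)) (.leaf (nat_lit 0x1b060159b1))) (.node 1 (.leaf (nat_lit 0x1b070159b1)) (.leaf (nat_lit 0x1f0101feb1)))))) (.node 8 (.node 4 (.node 2 (.node 1 (.leaf (nat_lit 0x1b070159c1)) (.leaf (nat_lit 0x1b030159d1))) (.node 1 (.leaf (nat_lit 0x1b080159d1)) (.leaf (nat_lit 0x1b040159e1)))) (.node 2 (.node 1 (.leaf (nat_lit 0x1b080159e1)) (.leaf (nat_lit 0x1b05015a01))) (.node 1 (.leaf (nat_lit 0x1f01015a61)) (.leaf (nat_lit 0x1b07015a01))))) (.node 4 (.node 2 (.node 1 (.leaf (nat_lit 0x1b03015a11)) (.leaf (nat_lit 0x1b08015a11))) (.node 1 (.leaf (nat_lit 0x1f01015aa1)) (.leaf (nat_lit 0x1b08015a31)))) (.node 2 (.node 1 (.leaf (nat_lit 0x1f0201ff81)) (.leaf (nat_lit 0x1b07015a51))) (.node 1 (.leaf (nat_lit 0x1d0201ffa1)) (.leaf (nat_lit 0x1b03015a71))))))))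

noncomputable def oT54 : Tree :=
  .node 64 (.node 32 (.node 16 (.node 8 (.node 4 (.node 2 (.node 1 (.leaf (nat_lit 0x1b08015a71)) (.leaf (nat_lit 0x1b02015a81))) (.node 1 (.leaf (nat_lit 0x1b08015a81)) (.leaf (nat_lit 0x1f08015aa1)))) (.node 2 (.node 1 (.leaf (nat_lit 0x1b01015ac1)) (.leaf (nat_lit 0x1b05015ac1))) (.node 1 (.leaf (nat_lit 0x1b07015ac1)) (.leaf (nat_lit 0x1b06015ad1))))) (.node 4 (.node 2 (.node 1 (.leaf (nat_lit 0x1b07015ad1)) (.leaf (nat_lit 0x1b08015ae1))) (.node 1 (.leaf (nat_lit 0x1f05020a21)) (.leaf (nat_lit 0x1b04015b01)))) (.node 2 (.node 1 (.leaf (nat_lit 0x1b06015b01)) (.leaf (nat_lit 0x1b07015b01))) (.node 1 (.leaf (nat_lit 0x1b03015b11)) (.leaf (nat_lit 0x1b08015b11)))))) (.node 8 (.node 4 (.node 2 (.node 1 (.leaf (nat_lit 0x1b06015b21)) (.leaf (nat_lit 0x1b07015b21))) (.node 1 (.leaf (nat_lit 0x1d040211f1)) (.leaf (nat_lit 0x1b07015b31)))) (.node 2 (.node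 1 (.leaf (nat_lit 0x1b08015b41)) (.leaf (nat_lit 0x1b05015b71))) (.node 1 (.leaf (nat_lit 0x1d010211f1)) (.leaf (nat_lit 0x1b07015b71))))) (.node 4 (.node 2 (.node 1 (.leaf (nat_lit 0x1b03015b81)) (.leaf (nat_lit 0x1b08015b81))) (.node 1 (.leaf (nat_lit 0x1f04021261)) (.leaf (nat_lit 0x1b08015ba1)))) (.node 2 (.node 1 (.leaf (nat_lit 0x1b05015bc1)) (.leaf (nat_lit 0x1b07015bc1))) (.node 1 (.leaf (nat_lit 0x1b04015bd1)) (.leaf (nat_lit 0x1b06015bd1))))))) (.node 16 (.node 8 (.node 4 (.node 2 (.node 1 (.leaf (nat_lit 0x1b07015bd1)) (.leaf (nat_lit 0x1b03015be1))) (.node 1 (.leaf (nat_lit 0x1b08015be1)) (.leaf (nat_lit 0x1b06015bf1)))) (.node 2 (.node 1 (.leaf (nat_lit 0x1b07015bf1)) (.leaf (nat_lit 0x2103015c31))) (.node 1 (.leaf (nat_lit 0x1b07015c01)) (.leaf (nat_lit 0x1b08015c11))))) (.node 4 (.node 2 (.node 1 (.leaf (nat_lit 0x1b03015c41)) (.leaf (nat_lit 0x1b06015c41))) (.node 1 (.leaf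 (nat_lit 0x1b07015c41)) (.leaf (nat_lit 0x2108015e41)))) (.node 2 (.node 1 (.leaf (nat_lit 0x1b07015c51)) (.leaf (nat_lit 0x1b03015c61))) (.node 1 (.leaf (nat_lit 0x1b08015c61)) (.leaf (nat_lit 0x1b04015c71)))))) (.node 8 (.node 4 (.node 2 (.node 1 (.leaf (nat_lit 0x1b08015c71)) (.leaf (nat_lit 0x1b05015c91))) (.node 1 (.leaf (nat_lit 0x2108015eb1)) (.leaf (nat_lit 0x1b07015c91)))) (.node 2 (.node 1 (.leaf (nat_lit 0x1b03015ca1)) (.leaf (nat_lit 0x1b08015ca1))) (.node 1 (.leaf (nat_lit 0x1f03021221)) (.leaf (nat_lit 0x1b08015cc1))))) (.node 4 (.node 2 (.node 1 (.leaf (nat_lit 0x21030160e1)) (.leaf (nat_lit 0x1b07015ce1))) (.node 1 (.leaf (nat_lit 0x1f03021581)) (.leaf (nat_lit 0x1b03015d01)))) (.node 2 (.node 1 (.leaf (nat_lit 0x1b08015d01)) (.leaf (nat_lit 0x1b02015d11))) (.node 1 (.leaf (nat_lit 0x1b08015d11)) (.leaf (nat_lit 0x2107015f81)))))))) (.node 32 (.node 16 (.node 8 (.node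 4 (.node 2 (.node 1 (.leaf (nat_lit 0x1b04015d51)) (.leaf (nat_lit 0x1b06015d51))) (.node 1 (.leaf (nat_lit 0x1b07015d51)) (.leaf (nat_lit 0x1b08015d61)))) (.node 2 (.node 1 (.leaf (nat_lit 0x1b03015d71)) (.leaf (nat_lit 0x1b06015d71))) (.node 1 (.leaf (nat_lit 0x1b07015d71)) (.leaf (nat_lit 0x2100015e41))))) (.node 4 (.node 2 (.node 1 (.leaf (nat_lit 0x1b07015d81)) (.leaf (nat_lit 0x1b03015d91))) (.node 1 (.leaf (nat_lit 0x1b08015d91)) (.leaf (nat_lit 0x1b08015da1)))) (.node 2 (.node 1 (.leaf (nat_lit 0x1b05015dc1)) (.leaf (nat_lit 0x1f030161a1))) (.node 1 (.leaf (nat_lit 0x1b07015dc1)) (.leaf (nat_lit 0x1b03015dd1)))))) (.node 8 (.node 4 (.node 2 (.node 1 (.leaf (nat_lit 0x1b08015dd1)) (.leaf (nat_lit 0x2100015ef1))) (.node 1 (.leaf (nat_lit 0x1b08015df1)) (.leaf (nat_lit 0x1b06015e11)))) (.node 2 (.node 1 (.leaf (nat_lit 0x1b07015e11)) (.leaf (nat_lit 0x1b05015e21))) (.node 1 (.leaf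 (nat_lit 0x2104015e41)) (.leaf (nat_lit 0x1b07015e21))))) (.node 4 (.node 2 (.node 1 (.leaf (nat_lit 0x1b03015e31)) (.leaf (nat_lit 0x1b08015e31))) (.node 1 (.leaf (nat_lit 0x1f01020331)) (.leaf (nat_lit 0x1b03015e51)))) (.node 2 (.node 1 (.leaf (nat_lit 0x1b08015e51)) (.leaf (nat_lit 0x1b04015e61))) (.node 1 (.leaf (nat_lit 0x1b08015e61)) (.leaf (nat_lit 0x1b05015e81))))))) (.node 16 (.node 8 (.node 4 (.node 2 (.node 1 (.leaf (nat_lit 0x1b08015e81)) (.leaf (nat_lit 0x1b07015e91))) (.node 1 (.leaf (nat_lit 0x2104020fa1)) (.leaf (nat_lit 0x1b07015ea1)))) (.node 2 (.node 1 (.leaf (nat_lit 0x2104015ef1)) (.leaf (nat_lit 0x1b03015ec1))) (.node 1 (.leaf (nat_lit 0x1b08015ec1)) (.leaf (nat_lit 0x1b02015ed1))))) (.node 4 (.node 2 (.node 1 (.leaf (nat_lit 0x1b08015ed1)) (.leaf (nat_lit 0x2108015ef1))) (.node 1 (.leaf (nat_lit 0x2104021021)) (.leaf (nat_lit 0x1f04021031)))) (.node 2 (.node 1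 (.leaf (nat_lit 0x1b03015f21)) (.leaf (nat_lit 0x1b08015f21))) (.node 1 (.leaf (nat_lit 0x2103015f31)) (.leaf (nat_lit 0x2108015f31)))))) (.node 8 (.node 4 (.node 2 (.node 1 (.leaf (nat_lit 0x1b02015f41)) (.leaf (nat_lit 0x1b08015f41))) (.node 1 (.leaf (nat_lit 0x1b01015f61)) (.leaf (nat_lit 0x1b08015f61)))) (.node 2 (.node 1 (.leaf (nat_lit 0x1b07015f71)) (.leaf (nat_lit 0x1b05015fa1))) (.node 1 (.leaf (nat_lit 0x1b01019391)) (.leaf (nat_lit 0x1b05015fd1))))) (.node 4 (.node 2 (.node 1 (.leaf (nat_lit 0x1b020192a1)) (.leaf (nat_lit 0x1b01019371))) (.node 1 (.leaf (nat_lit 0x1b07015ff1)) (.leaf (nat_lit 0x1b05019881)))) (.node 2 (.node 1 (.leaf (nat_lit 0x1b03016011)) (.leaf (nat_lit 0x1b02016021))) (.node 1 (.leaf (nat_lit 0x1b05016041)) (.leaf (nat_lit 0x1f080161a1))))))))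

noncomputable def oT55 : Tree :=
  .node 64 (.node 32 (.node 16 (.node 8 (.node 4 (.node 2 (.node 1 (.leaf (nat_lit 0x1b06016061)) (.leaf (nat_lit 0x1b07016061))) (.node 1 (.leaf (nat_lit 0x1b05016071)) (.leaf (nat_lit 0x1f08016211)))) (.node 2 (.node 1 (.leaf (nat_lit 0x2107021b51)) (.leaf (nat_lit 0x1b07016091))) (.node 1 (.leaf (nat_lit 0x1f03021b71)) (.leaf (nat_lit 0x1b030160b1))))) (.node 4 (.node 2 (.node 1 (.leaf (nat_lit 0x1b020160c1)) (.leaf (nat_lit 0x1f07021ba1))) (.node 1 (.leaf (nat_lit 0x1f08021bc1)) (.leaf (nat_lit 0x1b030160f1)))) (.node 2 (.node 1 (.leaf (nat_lit 0x1b080160f1)) (.leaf (nat_lit 0x1d04021ab1))) (.node 1 (.leaf (nat_lit 0x1f03021c11)) (.leaf (nat_lit 0x1b02016111)))))) (.node 8 (.node 4 (.node 2 (.node 1 (.leaf (nat_lit 0x1b08016111)) (.leaf (nat_lit 0x1b01016131))) (.node 1 (.leaf (nat_lit 0x1b08016131)) (.leaf (nat_lit 0x1b07016141)))) (.node 2 (.node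 1 (.leaf (nat_lit 0x1b06016161)) (.leaf (nat_lit 0x1b07016161))) (.node 1 (.leaf (nat_lit 0x1b05016171)) (.leaf (nat_lit 0x1d07017dd1))))) (.node 4 (.node 2 (.node 1 (.leaf (nat_lit 0x1f07021ce1)) (.leaf (nat_lit 0x1b07016191))) (.node 1 (.leaf (nat_lit 0x1d02017dd1)) (.leaf (nat_lit 0x1b030161b1)))) (.node 2 (.node 1 (.leaf (nat_lit 0x1b020161c1)) (.leaf (nat_lit 0x1b050161e1))) (.node 1 (.leaf (nat_lit 0x1f07021d61)) (.leaf (nat_lit 0x1b070161e1))))))) (.node 16 (.node 8 (.node 4 (.node 2 (.node 1 (.leaf (nat_lit 0x1b030161f1)) (.leaf (nat_lit 0x1b080161f1))) (.node 1 (.leaf (nat_lit 0x1f07021dc1)) (.leaf (nat_lit 0x1b07016201)))) (.node 2 (.node 1 (.leaf (nat_lit 0x1d03021de1)) (.leaf (nat_lit 0x1b03016221))) (.node 1 (.leaf (nat_lit 0x1b02016231)) (.leaf (nat_lit 0x2107021e11))))) (.node 4 (.node 2 (.node 1 (.leaf (nat_lit 0x1f02021dc1)) (.leaf (nat_lit 0x1b03016261))) (.node 1 (.leaf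 (nat_lit 0x1b08016261)) (.leaf (nat_lit 0x1f02021e71)))) (.node 2 (.node 1 (.leaf (nat_lit 0x1f08016271)) (.leaf (nat_lit 0x1b02016281))) (.node 1 (.leaf (nat_lit 0x1b08016281)) (.leaf (nat_lit 0x1b010162a1)))))) (.node 8 (.node 4 (.node 2 (.node 1 (.leaf (nat_lit 0x1b080162a1)) (.leaf (nat_lit 0x1b070162b1))) (.node 1 (.leaf (nat_lit 0x1f08021f01)) (.leaf (nat_lit 0x2108021f31)))) (.node 2 (.node 1 (.leaf (nat_lit 0x1f07021bc1)) (.leaf (nat_lit 0x1b020162f1))) (.node 1 (.leaf (nat_lit 0x1b040162f1)) (.leaf (nat_lit 0x1b080162f1))))) (.node 4 (.node 2 (.node 1 (.leaf (nat_lit 0x2107021a21)) (.leaf (nat_lit 0x2107021fb1))) (.node 1 (.leaf (nat_lit 0x1b01016331)) (.leaf (nat_lit 0x1b08016331)))) (.node 2 (.node 1 (.leaf (nat_lit 0x1b07016341)) (.leaf (nat_lit 0x1b00016351))) (.node 1 (.leaf (nat_lit 0x1b08016351)) (.leaf (nat_lit 0x1b07016361)))))))) (.node 32 (.node 16 (.node 8 (.node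 4 (.node 2 (.node 1 (.leaf (nat_lit 0x10030163d2)) (.leaf (nat_lit 0x10050163d2))) (.node 1 (.leaf (nat_lit 0x1003016412)) (.leaf (nat_lit 0x1005016412)))) (.node 2 (.node 1 (.leaf (nat_lit 0x1002016422)) (.leaf (nat_lit 0x1005016422))) (.node 1 (.leaf (nat_lit 0x1007016422)) (.leaf (nat_lit 0x1004016442))))) (.node 4 (.node 2 (.node 1 (.leaf (nat_lit 0x1007016442)) (.leaf (nat_lit 0x10020164c2))) (.node 1 (.leaf (nat_lit 0x10050164c2)) (.leaf (nat_lit 0x10070164c2)))) (.node 2 (.node 1 (.leaf (nat_lit 0x10060164d2)) (.leaf (nat_lit 0x10040164e2))) (.node 1 (.leaf (nat_lit 0x10080164f2)) (.leaf (nat_lit 0x1005016522)))))) (.node 8 (.node 4 (.node 2 (.node 1 (.leaf (nat_lit 0x1006016532)) (.leaf (nat_lit 0x1005016542))) (.node 1 (.leaf (nat_lit 0x1004016552)) (.leaf (nat_lit 0x1006016552)))) (.node 2 (.node 1 (.leaf (nat_lit 0x1007016552)) (.leaf (nat_lit 0x1008016562))) (.node 1 (.leaf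 (nat_lit 0x1006016582)) (.leaf (nat_lit 0x1007016582))))) (.node 4 (.node 2 (.node 1 (.leaf (nat_lit 0x1007016592)) (.leaf (nat_lit 0x10080165a2))) (.node 1 (.leaf (nat_lit 0x1b08016611)) (.leaf (nat_lit 0x1b05016641)))) (.node 2 (.node 1 (.leaf (nat_lit 0x1b07016641)) (.leaf (nat_lit 0x1b04016651))) (.node 1 (.leaf (nat_lit 0x1b06016651)) (.leaf (nat_lit 0x1b07016651))))))) (.node 16 (.node 8 (.node 4 (.node 2 (.node 1 (.leaf (nat_lit 0x1b08016661)) (.leaf (nat_lit 0x1b06018a81))) (.node 1 (.leaf (nat_lit 0x1b06016681)) (.leaf (nat_lit 0x1b07016681)))) (.node 2 (.node 1 (.leaf (nat_lit 0x1b080166a1)) (.leaf (nat_lit 0x1b040166d1))) (.node 1 (.leaf (nat_lit 0x1b060166d1)) (.leaf (nat_lit 0x1b06018a41))))) (.node 4 (.node 2 (.node 1 (.leaf (nat_lit 0x1b040166f1)) (.leaf (nat_lit 0x1b060166f1))) (.node 1 (.leaf (nat_lit 0x1b06016701)) (.leaf (nat_lit 0x1b07016701)))) (.node 2 (.node 1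 (.leaf (nat_lit 0x1b020195b1)) (.leaf (nat_lit 0x1b07016711))) (.node 1 (.leaf (nat_lit 0x1b08016721)) (.leaf (nat_lit 0x1b05016751)))))) (.node 8 (.node 4 (.node 2 (.node 1 (.leaf (nat_lit 0x1d0801fa41)) (.leaf (nat_lit 0x1b07016751))) (.node 1 (.leaf (nat_lit 0x1b03016761)) (.leaf (nat_lit 0x1b08016761)))) (.node 2 (.node 1 (.leaf (nat_lit 0x1d0801f981)) (.leaf (nat_lit 0x1b08016781))) (.node 1 (.leaf (nat_lit 0x10070167a2)) (.leaf (nat_lit 0x10080167b2))))) (.node 4 (.node 2 (.node 1 (.leaf (nat_lit 0x10050167e2)) (.leaf (nat_lit 0x10070167e2))) (.node 1 (.leaf (nat_lit 0x10040167f2)) (.leaf (nat_lit 0x10060167f2)))) (.node 2 (.node 1 (.leaf (nat_lit 0x10070167f2)) (.leaf (nat_lit 0x1008016802))) (.node 1 (.leaf (nat_lit 0x1b04018a81)) (.leaf (nat_lit 0x1006016822))))))))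

noncomputable def oT56 : Tree :=
  .node 64 (.node 32 (.node 16 (.node 8 (.node 4 (.node 2 (.node 1 (.leaf (nat_lit 0x1007016822)) (.leaf (nat_lit 0x1d03016861))) (.node 1 (.leaf (nat_lit 0x1007016832)) (.leaf (nat_lit 0x1008016842)))) (.node 2 (.node 1 (.leaf (nat_lit 0x1001016872)) (.leaf (nat_lit 0x1005016872))) (.node 1 (.leaf (nat_lit 0x1007016872)) (.leaf (nat_lit 0x1004016882))))) (.node 4 (.node 2 (.node 1 (.leaf (nat_lit 0x1006016882)) (.leaf (nat_lit 0x1007016882))) (.node 1 (.leaf (nat_lit 0x1008016892)) (.leaf (nat_lit 0x1b04018a41)))) (.node 2 (.node 1 (.leaf (nat_lit 0x10040168b2)) (.leaf (nat_lit 0x10060168b2))) (.node 1 (.leaf (nat_lit 0x10070168b2)) (.leaf (nat_lit 0x10030168c2)))))) (.node 8 (.node 4 (.node 2 (.node 1 (.leaf (nat_lit 0x10080168c2)) (.leaf (nat_lit 0x10060168d2))) (.node 1 (.leaf (nat_lit 0x10070168d2)) (.leaf (nat_lit 0x1b02019041)))) (.node 2 (.node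 1 (.leaf (nat_lit 0x10070168e2)) (.leaf (nat_lit 0x10080168f2))) (.node 1 (.leaf (nat_lit 0x1005016922)) (.leaf (nat_lit 0x1d0801fa51))))) (.node 4 (.node 2 (.node 1 (.leaf (nat_lit 0x1007016922)) (.leaf (nat_lit 0x1003016932))) (.node 1 (.leaf (nat_lit 0x1008016932)) (.leaf (nat_lit 0x1d01022501)))) (.node 2 (.node 1 (.leaf (nat_lit 0x1008016952)) (.leaf (nat_lit 0x1b07016971))) (.node 1 (.leaf (nat_lit 0x1b07016981)) (.leaf (nat_lit 0x1b08016991))))))) (.node 16 (.node 8 (.node 4 (.node 2 (.node 1 (.leaf (nat_lit 0x1b040169c1)) (.leaf (nat_lit 0x1b060169c1))) (.node 1 (.leaf (nat_lit 0x1b070169c1)) (.leaf (nat_lit 0x1b080169d1)))) (.node 2 (.node 1 (.leaf (nat_lit 0x1b060169e1)) (.leaf (nat_lit 0x1b070169e1))) (.node 1 (.leaf (nat_lit 0x1d06022321)) (.leaf (nat_lit 0x1b070169f1))))) (.node 4 (.node 2 (.node 1 (.leaf (nat_lit 0x1b08016a01)) (.leaf (nat_lit 0x1b05016a31))) (.node 1 (.leaf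 (nat_lit 0x1d0301fa41)) (.leaf (nat_lit 0x1b07016a31)))) (.node 2 (.node 1 (.leaf (nat_lit 0x1b03016a41)) (.leaf (nat_lit 0x1b08016a41))) (.node 1 (.leaf (nat_lit 0x1d0301f581)) (.leaf (nat_lit 0x1b08016a61)))))) (.node 8 (.node 4 (.node 2 (.node 1 (.leaf (nat_lit 0x1b05016a81)) (.leaf (nat_lit 0x1b07016a81))) (.node 1 (.leaf (nat_lit 0x1b04016a91)) (.leaf (nat_lit 0x1b06016a91)))) (.node 2 (.node 1 (.leaf (nat_lit 0x1b07016a91)) (.leaf (nat_lit 0x1b03016aa1))) (.node 1 (.leaf (nat_lit 0x1b08016aa1)) (.leaf (nat_lit 0x1b06016ab1))))) (.node 4 (.node 2 (.node 1 (.leaf (nat_lit 0x1b07016ab1)) (.leaf (nat_lit 0x1d06022401))) (.node 1 (.leaf (nat_lit 0x1b07016ac1)) (.leaf (nat_lit 0x1b08016ad1)))) (.node 2 (.node 1 (.leaf (nat_lit 0x1b03016b01)) (.leaf (nat_lit 0x1b06016b01))) (.node 1 (.leaf (nat_lit 0x1b07016b01)) (.leaf (nat_lit 0x1b03018c71)))))))) (.node 32 (.node 16 (.node 8 (.node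 4 (.node 2 (.node 1 (.leaf (nat_lit 0x1b07016b11)) (.leaf (nat_lit 0x1b03016b21))) (.node 1 (.leaf (nat_lit 0x1b08016b21)) (.leaf (nat_lit 0x1b04016b31)))) (.node 2 (.node 1 (.leaf (nat_lit 0x1b08016b31)) (.leaf (nat_lit 0x1b05016b51))) (.node 1 (.leaf (nat_lit 0x1d04016b71)) (.leaf (nat_lit 0x1b07016b51))))) (.node 4 (.node 2 (.node 1 (.leaf (nat_lit 0x1b03016b61)) (.leaf (nat_lit 0x1b08016b61))) (.node 1 (.leaf (nat_lit 0x1d02022871)) (.leaf (nat_lit 0x1b08016b81)))) (.node 2 (.node 1 (.leaf (nat_lit 0x1f08022681)) (.leaf (nat_lit 0x1b07016ba1))) (.node 1 (.leaf (nat_lit 0x1f07016bb1)) (.leaf (nat_lit 0x1b03016bc1)))))) (.node 8 (.node 4 (.node 2 (.node 1 (.leaf (nat_lit 0x1b08016bc1)) (.leaf (nat_lit 0x1b02016bd1))) (.node 1 (.leaf (nat_lit 0x1b08016bd1)) (.leaf (nat_lit 0x1f070226c1)))) (.node 2 (.node 1 (.leaf (nat_lit 0x1b07016c11)) (.leaf (nat_lit 0x1b03016c21))) (.node 1 (.leaf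 (nat_lit 0x1b08016c21)) (.leaf (nat_lit 0x1d07016c31))))) (.node 4 (.node 2 (.node 1 (.leaf (nat_lit 0x1b08016c41)) (.leaf (nat_lit 0x1b03016c61))) (.node 1 (.leaf (nat_lit 0x1b06016c61)) (.leaf (nat_lit 0x1b07016c61)))) (.node 2 (.node 1 (.leaf (nat_lit 0x1d050225e1)) (.leaf (nat_lit 0x1b07016c71))) (.node 1 (.leaf (nat_lit 0x1b08016c81)) (.leaf (nat_lit 0x1b05016ca1))))))) (.node 16 (.node 8 (.node 4 (.node 2 (.node 1 (.leaf (nat_lit 0x1f04016cc1)) (.leaf (nat_lit 0x1b07016ca1))) (.node 1 (.leaf (nat_lit 0x1b03016cb1)) (.leaf (nat_lit 0x1b08016cb1)))) (.node 2 (.node 1 (.leaf (nat_lit 0x1f03018451)) (.leaf (nat_lit 0x1b08016cd1))) (.node 1 (.leaf (nat_lit 0x1f04022681)) (.leaf (nat_lit 0x1b07016cf1))))) (.node 4 (.node 2 (.node 1 (.leaf (nat_lit 0x1f04016d41)) (.leaf (nat_lit 0x1b03016d11))) (.node 1 (.leaf (nat_lit 0x1b08016d11)) (.leaf (nat_lit 0x1b02016d21)))) (.node 2 (.node 1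 (.leaf (nat_lit 0x1b08016d21)) (.leaf (nat_lit 0x1f08016d41))) (.node 1 (.leaf (nat_lit 0x1b04016d61)) (.leaf (nat_lit 0x1b06016d61)))))) (.node 8 (.node 4 (.node 2 (.node 1 (.leaf (nat_lit 0x1b07016d61)) (.leaf (nat_lit 0x1b08016d71))) (.node 1 (.leaf (nat_lit 0x1b03016d81)) (.leaf (nat_lit 0x1b06016d81)))) (.node 2 (.node 1 (.leaf (nat_lit 0x1b07016d81)) (.leaf (nat_lit 0x1d05022741))) (.node 1 (.leaf (nat_lit 0x1b07016d91)) (.leaf (nat_lit 0x1b03016da1))))) (.node 4 (.node 2 (.node 1 (.leaf (nat_lit 0x1b08016da1)) (.leaf (nat_lit 0x1b08016db1))) (.node 1 (.leaf (nat_lit 0x1b05016dd1)) (.leaf (nat_lit 0x1f04016df1)))) (.node 2 (.node 1 (.leaf (nat_lit 0x1b07016dd1)) (.leaf (nat_lit 0x1b03016de1))) (.node 1 (.leaf (nat_lit 0x1b08016de1)) (.leaf (nat_lit 0x1f07016df1))))))))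

noncomputable def oT57 : Tree :=
  .node 64 (.node 32 (.node 16 (.node 8 (.node 4 (.node 2 (.node 1 (.leaf (nat_lit 0x1b08016e01)) (.leaf (nat_lit 0x1b06016e21))) (.node 1 (.leaf (nat_lit 0x1b07016e21)) (.leaf (nat_lit 0x1b05016e31)))) (.node 2 (.node 1 (.leaf (nat_lit 0x1d04016e51)) (.leaf (nat_lit 0x1b07016e31))) (.node 1 (.leaf (nat_lit 0x1b03016e41)) (.leaf (nat_lit 0x1b08016e41))))) (.node 4 (.node 2 (.node 1 (.leaf (nat_lit 0x1d03022e91)) (.leaf (nat_lit 0x1b03016e61))) (.node 1 (.leaf (nat_lit 0x1b08016e61)) (.leaf (nat_lit 0x1b04016e71)))) (.node 2 (.node 1 (.leaf (nat_lit 0x1b08016e71)) (.leaf (nat_lit 0x1b05016e91))) (.node 1 (.leaf (nat_lit 0x1b08016e91)) (.leaf (nat_lit 0x1f05016ec1)))))) (.node 8 (.node 4 (.node 2 (.node 1 (.leaf (nat_lit 0x1b07016eb1)) (.leaf (nat_lit 0x1f01016f41))) (.node 1 (.leaf (nat_lit 0x1b03016ed1)) (.leaf (nat_lit 0x1b08016ed1)))) (.node 2 (.node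 1 (.leaf (nat_lit 0x1b02016ee1)) (.leaf (nat_lit 0x1b08016ee1))) (.node 1 (.leaf (nat_lit 0x1f08016f01)) (.leaf (nat_lit 0x1f08022b71))))) (.node 4 (.node 2 (.node 1 (.leaf (nat_lit 0x1f02017a51)) (.leaf (nat_lit 0x1b03016f31))) (.node 1 (.leaf (nat_lit 0x1b08016f31)) (.leaf (nat_lit 0x1d02023021)))) (.node 2 (.node 1 (.leaf (nat_lit 0x1f02017a91)) (.leaf (nat_lit 0x1b02016f51))) (.node 1 (.leaf (nat_lit 0x1b08016f51)) (.leaf (nat_lit 0x1b01016f71))))))) (.node 16 (.node 8 (.node 4 (.node 2 (.node 1 (.leaf (nat_lit 0x1b08016f71)) (.leaf (nat_lit 0x1b07016f81))) (.node 1 (.leaf (nat_lit 0x1001016fa2)) (.leaf (nat_lit 0x1005016fa2)))) (.node 2 (.node 1 (.leaf (nat_lit 0x1007016fa2)) (.leaf (nat_lit 0x1004016fb2))) (.node 1 (.leaf (nat_lit 0x1006016fb2)) (.leaf (nat_lit 0x1007016fb2))))) (.node 4 (.node 2 (.node 1 (.leaf (nat_lit 0x1008016fc2)) (.leaf (nat_lit 0x1b02018ed1))) (.node 1 (.leaf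 (nat_lit 0x1004016fe2)) (.leaf (nat_lit 0x1006016fe2)))) (.node 2 (.node 1 (.leaf (nat_lit 0x1007016fe2)) (.leaf (nat_lit 0x1003016ff2))) (.node 1 (.leaf (nat_lit 0x1008016ff2)) (.leaf (nat_lit 0x1006017002)))))) (.node 8 (.node 4 (.node 2 (.node 1 (.leaf (nat_lit 0x1007017002)) (.leaf (nat_lit 0x1d02023171))) (.node 1 (.leaf (nat_lit 0x1007017012)) (.leaf (nat_lit 0x1008017022)))) (.node 2 (.node 1 (.leaf (nat_lit 0x1005017052)) (.leaf (nat_lit 0x1d0201fa51))) (.node 1 (.leaf (nat_lit 0x1007017052)) (.leaf (nat_lit 0x1003017062))))) (.node 4 (.node 2 (.node 1 (.leaf (nat_lit 0x1008017062)) (.leaf (nat_lit 0x1d0201f591))) (.node 1 (.leaf (nat_lit 0x1008017082)) (.leaf (nat_lit 0x10050170a2)))) (.node 2 (.node 1 (.leaf (nat_lit 0x10040170b2)) (.leaf (nat_lit 0x10060170b2))) (.node 1 (.leaf (nat_lit 0x10070170b2)) (.leaf (nat_lit 0x10080170c2)))))))) (.node 32 (.node 16 (.node 8 (.node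 4 (.node 2 (.node 1 (.leaf (nat_lit 0x10060170d2)) (.leaf (nat_lit 0x10070170d2))) (.node 1 (.leaf (nat_lit 0x1d020232b1)) (.leaf (nat_lit 0x10070170e2)))) (.node 2 (.node 1 (.leaf (nat_lit 0x10080170f2)) (.leaf (nat_lit 0x1003017122))) (.node 1 (.leaf (nat_lit 0x1006017122)) (.leaf (nat_lit 0x1007017122))))) (.node 4 (.node 2 (.node 1 (.leaf (nat_lit 0x1b03018c61)) (.leaf (nat_lit 0x1007017132))) (.node 1 (.leaf (nat_lit 0x1003017142)) (.leaf (nat_lit 0x1008017142)))) (.node 2 (.node 1 (.leaf (nat_lit 0x1004017152)) (.leaf (nat_lit 0x1008017152))) (.node 1 (.leaf (nat_lit 0x1005017172)) (.leaf (nat_lit 0x1d04017191)))))) (.node 8 (.node 4 (.node 2 (.node 1 (.leaf (nat_lit 0x1007017172)) (.leaf (nat_lit 0x1003017182))) (.node 1 (.leaf (nat_lit 0x1008017182)) (.leaf (nat_lit 0x1d020233c1)))) (.node 2 (.node 1 (.leaf (nat_lit 0x10080171a2)) (.leaf (nat_lit 0x1d08022291))) (.node 1 (.leaf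 (nat_lit 0x10070171c2)) (.leaf (nat_lit 0x1f070171d1))))) (.node 4 (.node 2 (.node 1 (.leaf (nat_lit 0x10030171e2)) (.leaf (nat_lit 0x10080171e2))) (.node 1 (.leaf (nat_lit 0x10020171f2)) (.leaf (nat_lit 0x10080171f2)))) (.node 2 (.node 1 (.leaf (nat_lit 0x1f07023251)) (.leaf (nat_lit 0x1b05017231))) (.node 1 (.leaf (nat_lit 0x1b04017241)) (.leaf (nat_lit 0x1b06017241))))))) (.node 16 (.node 8 (.node 4 (.node 2 (.node 1 (.leaf (nat_lit 0x1b07017241)) (.leaf (nat_lit 0x1b08017251))) (.node 1 (.leaf (nat_lit 0x1b06017261)) (.leaf (nat_lit 0x1b07017261)))) (.node 2 (.node 1 (.leaf (nat_lit 0x1d020235b1)) (.leaf (nat_lit 0x1b07017271))) (.node 1 (.leaf (nat_lit 0x1b08017281)) (.leaf (nat_lit 0x1b030172b1))))) (.node 4 (.node 2 (.node 1 (.leaf (nat_lit 0x1b060172b1)) (.leaf (nat_lit 0x1b070172b1))) (.node 1 (.leaf (nat_lit 0x1d06023171)) (.leaf (nat_lit 0x1b070172c1)))) (.node 2 (.node 1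 (.leaf (nat_lit 0x1b030172d1)) (.leaf (nat_lit 0x1b080172d1))) (.node 1 (.leaf (nat_lit 0x1b080172e1)) (.leaf (nat_lit 0x1b05017301)))))) (.node 8 (.node 4 (.node 2 (.node 1 (.leaf (nat_lit 0x1f01017361)) (.leaf (nat_lit 0x1b07017301))) (.node 1 (.leaf (nat_lit 0x1b03017311)) (.leaf (nat_lit 0x1b08017311)))) (.node 2 (.node 1 (.leaf (nat_lit 0x1f010173a1)) (.leaf (nat_lit 0x1b08017331))) (.node 1 (.leaf (nat_lit 0x1f02022681)) (.leaf (nat_lit 0x1b07017351))))) (.node 4 (.node 2 (.node 1 (.leaf (nat_lit 0x1d0201ffb1)) (.leaf (nat_lit 0x1b03017371))) (.node 1 (.leaf (nat_lit 0x1b08017371)) (.leaf (nat_lit 0x1b02017381)))) (.node 2 (.node 1 (.leaf (nat_lit 0x1b08017381)) (.leaf (nat_lit 0x1f080173a1))) (.node 1 (.leaf (nat_lit 0x1b040173c1)) (.leaf (nat_lit 0x1b060173c1))))))))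

noncomputable def oT58 : Tree :=
  .node 64 (.node 32 (.node 16 (.node 8 (.node 4 (.node 2 (.node 1 (.leaf (nat_lit 0x1b030173d1)) (.leaf (nat_lit 0x1b060173d1))) (.node 1 (.leaf (nat_lit 0x1b070173d1)) (.leaf (nat_lit 0x1d03019011)))) (.node 2 (.node 1 (.leaf (nat_lit 0x1b070173e1)) (.leaf (nat_lit 0x1b080173f1))) (.node 1 (.leaf (nat_lit 0x1b05017411)) (.leaf (nat_lit 0x1f060232f1))))) (.node 4 (.node 2 (.node 1 (.leaf (nat_lit 0x1b07017411)) (.leaf (nat_lit 0x1b03017421))) (.node 1 (.leaf (nat_lit 0x1b08017421)) (.leaf (nat_lit 0x1f030181d1)))) (.node 2 (.node 1 (.leaf (nat_lit 0x1b08017441)) (.leaf (nat_lit 0x1b06017461))) (.node 1 (.leaf (nat_lit 0x1b07017461)) (.leaf (nat_lit 0x1b05017471)))))) (.node 8 (.node 4 (.node 2 (.node 1 (.leaf (nat_lit 0x1d04017491)) (.leaf (nat_lit 0x1b07017471))) (.node 1 (.leaf (nat_lit 0x1b03017481)) (.leaf (nat_lit 0x1b08017481)))) (.node 2 (.node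 1 (.leaf (nat_lit 0x1d03023a31)) (.leaf (nat_lit 0x1b030174a1))) (.node 1 (.leaf (nat_lit 0x1b080174a1)) (.leaf (nat_lit 0x1b040174b1))))) (.node 4 (.node 2 (.node 1 (.leaf (nat_lit 0x1b080174b1)) (.leaf (nat_lit 0x1b050174d1))) (.node 1 (.leaf (nat_lit 0x1b080174d1)) (.leaf (nat_lit 0x1f05017501)))) (.node 2 (.node 1 (.leaf (nat_lit 0x1b070174f1)) (.leaf (nat_lit 0x1f04017541))) (.node 1 (.leaf (nat_lit 0x1b03017511)) (.leaf (nat_lit 0x1b08017511))))))) (.node 16 (.node 8 (.node 4 (.node 2 (.node 1 (.leaf (nat_lit 0x1b02017521)) (.leaf (nat_lit 0x1b08017521))) (.node 1 (.leaf (nat_lit 0x1f08017541)) (.leaf (nat_lit 0x1f08023791)))) (.node 2 (.node 1 (.leaf (nat_lit 0x1f04017a51)) (.leaf (nat_lit 0x1b03017571))) (.node 1 (.leaf (nat_lit 0x1b08017571)) (.leaf (nat_lit 0x1f05023b71))))) (.node 4 (.node 2 (.node 1 (.leaf (nat_lit 0x1f070237d1)) (.leaf (nat_lit 0x1b02017591))) (.node 1 (.leaf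 (nat_lit 0x1b08017591)) (.leaf (nat_lit 0x1b010175b1)))) (.node 2 (.node 1 (.leaf (nat_lit 0x1b080175b1)) (.leaf (nat_lit 0x1b070175c1))) (.node 1 (.leaf (nat_lit 0x1b040175e1)) (.leaf (nat_lit 0x1b060175e1)))))) (.node 8 (.node 4 (.node 2 (.node 1 (.leaf (nat_lit 0x1b060175f1)) (.leaf (nat_lit 0x1b070175f1))) (.node 1 (.leaf (nat_lit 0x1d030190a1)) (.leaf (nat_lit 0x1b07017601)))) (.node 2 (.node 1 (.leaf (nat_lit 0x1b08017611)) (.leaf (nat_lit 0x1b05017631))) (.node 1 (.leaf (nat_lit 0x1f04017651)) (.leaf (nat_lit 0x1b07017631))))) (.node 4 (.node 2 (.node 1 (.leaf (nat_lit 0x1b08017641)) (.leaf (nat_lit 0x1f02023cb1))) (.node 1 (.leaf (nat_lit 0x1b08017661)) (.leaf (nat_lit 0x1b06017681)))) (.node 2 (.node 1 (.leaf (nat_lit 0x1b07017681)) (.leaf (nat_lit 0x1b05017691))) (.node 1 (.leaf (nat_lit 0x1f040176b1)) (.leaf (nat_lit 0x1b07017691)))))))) (.node 32 (.node 16 (.node 8 (.node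 4 (.node 2 (.node 1 (.leaf (nat_lit 0x1b030176a1)) (.leaf (nat_lit 0x1b080176a1))) (.node 1 (.leaf (nat_lit 0x1f070176b1)) (.leaf (nat_lit 0x1b030176c1)))) (.node 2 (.node 1 (.leaf (nat_lit 0x1b080176c1)) (.leaf (nat_lit 0x1b040176d1))) (.node 1 (.leaf (nat_lit 0x1b080176d1)) (.leaf (nat_lit 0x2104023711))))) (.node 4 (.node 2 (.node 1 (.leaf (nat_lit 0x1b07017701)) (.leaf (nat_lit 0x2104017751))) (.node 1 (.leaf (nat_lit 0x1b03017721)) (.leaf (nat_lit 0x1b08017721)))) (.node 2 (.node 1 (.leaf (nat_lit 0x1b02017731)) (.leaf (nat_lit 0x1b08017731))) (.node 1 (.leaf (nat_lit 0x2108017751)) (.leaf (nat_lit 0x1f04023791)))))) (.node 8 (.node 4 (.node 2 (.node 1 (.leaf (nat_lit 0x1f040237a1)) (.leaf (nat_lit 0x1b03017781))) (.node 1 (.leaf (nat_lit 0x1b08017781)) (.leaf (nat_lit 0x1f07017be1)))) (.node 2 (.node 1 (.leaf (nat_lit 0x1f03023f51)) (.leaf (nat_lit 0x1b020177a1))) (.node 1 (.leaf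 (nat_lit 0x1b080177a1)) (.leaf (nat_lit 0x1b010177c1))))) (.node 4 (.node 2 (.node 1 (.leaf (nat_lit 0x1b080177c1)) (.leaf (nat_lit 0x1b070177d1))) (.node 1 (.leaf (nat_lit 0x1b030177f1)) (.leaf (nat_lit 0x1b060177f1)))) (.node 2 (.node 1 (.leaf (nat_lit 0x1d05023841)) (.leaf (nat_lit 0x1b06017811))) (.node 1 (.leaf (nat_lit 0x1b07017811)) (.leaf (nat_lit 0x1b05017821))))))) (.node 16 (.node 8 (.node 4 (.node 2 (.node 1 (.leaf (nat_lit 0x1f04017841)) (.leaf (nat_lit 0x1b07017821))) (.node 1 (.leaf (nat_lit 0x1b03017831)) (.leaf (nat_lit 0x1b08017831)))) (.node 2 (.node 1 (.leaf (nat_lit 0x1f03022ad1)) (.leaf (nat_lit 0x1b08017851))) (.node 1 (.leaf (nat_lit 0x2102024051)) (.leaf (nat_lit 0x1b07017871))))) (.node 4 (.node 2 (.node 1 (.leaf (nat_lit 0x1f03024111)) (.leaf (nat_lit 0x1b03017891))) (.node 1 (.leaf (nat_lit 0x1b08017891)) (.leaf (nat_lit 0x1b020178a1)))) (.node 2 (.node 1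 (.leaf (nat_lit 0x1b080178a1)) (.leaf (nat_lit 0x21080178c1))) (.node 1 (.leaf (nat_lit 0x1b050178e1)) (.leaf (nat_lit 0x1d040191b1)))))) (.node 8 (.node 4 (.node 2 (.node 1 (.leaf (nat_lit 0x1b070178e1)) (.leaf (nat_lit 0x1b030178f1))) (.node 1 (.leaf (nat_lit 0x1b080178f1)) (.leaf (nat_lit 0x1f05017911)))) (.node 2 (.node 1 (.leaf (nat_lit 0x1b07017901)) (.leaf (nat_lit 0x1f020179e1))) (.node 1 (.leaf (nat_lit 0x1b03017921)) (.leaf (nat_lit 0x1b08017921))))) (.node 4 (.node 2 (.node 1 (.leaf (nat_lit 0x1b02017931)) (.leaf (nat_lit 0x1b04017931))) (.node 1 (.leaf (nat_lit 0x1b08017931)) (.leaf (nat_lit 0x1d07019211)))) (.node 2 (.node 1 (.leaf (nat_lit 0x1f08017951)) (.leaf (nat_lit 0x1b04017961))) (.node 1 (.leaf (nat_lit 0x1b08017961)) (.leaf (nat_lit 0x1b05017981))))))))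

noncomputable def oT59 : Tree :=
  .node 64 (.node 32 (.node 16 (.node 8 (.node 4 (.node 2 (.node 1 (.leaf (nat_lit 0x1b08017981)) (.leaf (nat_lit 0x1b060179a1))) (.node 1 (.leaf (nat_lit 0x1b080179a1)) (.leaf (nat_lit 0x2103017d81)))) (.node 2 (.node 1 (.leaf (nat_lit 0x1f03024381)) (.leaf (nat_lit 0x1b030179d1))) (.node 1 (.leaf (nat_lit 0x1b080179d1)) (.leaf (nat_lit 0x1d07017dc1))))) (.node 4 (.node 2 (.node 1 (.leaf (nat_lit 0x1f030243e1)) (.leaf (nat_lit 0x1b020179f1))) (.node 1 (.leaf (nat_lit 0x1b080179f1)) (.leaf (nat_lit 0x1b01017a11)))) (.node 2 (.node 1 (.leaf (nat_lit 0x1b08017a11)) (.leaf (nat_lit 0x1b07017a21))) (.node 1 (.leaf (nat_lit 0x1f03024451)) (.leaf (nat_lit 0x1d07017e41)))))) (.node 8 (.node 4 (.node 2 (.node 1 (.leaf (nat_lit 0x1f03024491)) (.leaf (nat_lit 0x1b02017a61))) (.node 1 (.leaf (nat_lit 0x1b04017a61)) (.leaf (nat_lit 0x1b08017a61)))) (.node 2 (.node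 1 (.leaf (nat_lit 0x1b07017e91)) (.leaf (nat_lit 0x1d07024511))) (.node 1 (.leaf (nat_lit 0x1b01017aa1)) (.leaf (nat_lit 0x1b08017aa1))))) (.node 4 (.node 2 (.node 1 (.leaf (nat_lit 0x1b07017ab1)) (.leaf (nat_lit 0x1b00017ac1))) (.node 1 (.leaf (nat_lit 0x1b08017ac1)) (.leaf (nat_lit 0x1b07017ad1)))) (.node 2 (.node 1 (.leaf (nat_lit 0x2108017c91)) (.leaf (nat_lit 0x1b05017b11))) (.node 1 (.leaf (nat_lit 0x1f040192e1)) (.leaf (nat_lit 0x1b07017b11))))))) (.node 16 (.node 8 (.node 4 (.node 2 (.node 1 (.leaf (nat_lit 0x1b08017b21)) (.leaf (nat_lit 0x2108017d31))) (.node 1 (.leaf (nat_lit 0x21070245f1)) (.leaf (nat_lit 0x1f08021cc1)))) (.node 2 (.node 1 (.leaf (nat_lit 0x1b03017b61)) (.leaf (nat_lit 0x1f08021c91))) (.node 1 (.leaf (nat_lit 0x1b02017b81)) (.leaf (nat_lit 0x1b01017b91))))) (.node 4 (.node 2 (.node 1 (.leaf (nat_lit 0x1f08024671)) (.leaf (nat_lit 0x1f080246a1))) (.node 1 (.leaf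 (nat_lit 0x1d07017e51)) (.leaf (nat_lit 0x1b02017bc1)))) (.node 2 (.node 1 (.leaf (nat_lit 0x1b04017bc1)) (.leaf (nat_lit 0x1b08017bc1))) (.node 1 (.leaf (nat_lit 0x1f08024711)) (.leaf (nat_lit 0x1d07024721)))))) (.node 8 (.node 4 (.node 2 (.node 1 (.leaf (nat_lit 0x1b01017c01)) (.leaf (nat_lit 0x1b08017c01))) (.node 1 (.leaf (nat_lit 0x1b07017c11)) (.leaf (nat_lit 0x1b00017c21)))) (.node 2 (.node 1 (.leaf (nat_lit 0x1b08017c21)) (.leaf (nat_lit 0x1b07017c31))) (.node 1 (.leaf (nat_lit 0x1b05017c51)) (.leaf (nat_lit 0x1f04019421))))) (.node 4 (.node 2 (.node 1 (.leaf (nat_lit 0x1b07017c51)) (.leaf (nat_lit 0x1b08017c61))) (.node 1 (.leaf (nat_lit 0x1f030247a1)) (.leaf (nat_lit 0x1f020247e1)))) (.node 2 (.node 1 (.leaf (nat_lit 0x1f08021dc1)) (.leaf (nat_lit 0x1b03017ca1))) (.node 1 (.leaf (nat_lit 0x1d08021de1)) (.leaf (nat_lit 0x1b02017cc1)))))))) (.node 32 (.node 16 (.node 8 (.node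 4 (.node 2 (.node 1 (.leaf (nat_lit 0x1b01017cd1)) (.leaf (nat_lit 0x1b04017ce1))) (.node 1 (.leaf (nat_lit 0x1f04024861)) (.leaf (nat_lit 0x1b07017ce1)))) (.node 2 (.node 1 (.leaf (nat_lit 0x1f04019491)) (.leaf (nat_lit 0x1b03017d01))) (.node 1 (.leaf (nat_lit 0x1b08017d01)) (.leaf (nat_lit 0x1b02017d11))))) (.node 4 (.node 2 (.node 1 (.leaf (nat_lit 0x1b08017d11)) (.leaf (nat_lit 0x1f03024881))) (.node 1 (.leaf (nat_lit 0x1f08021ce1)) (.leaf (nat_lit 0x1b03017d41)))) (.node 2 (.node 1 (.leaf (nat_lit 0x1f08021d01)) (.leaf (nat_lit 0x1b02017d61))) (.node 1 (.leaf (nat_lit 0x1b01017d71)) (.leaf (nat_lit 0x1f080249a1)))))) (.node 8 (.node 4 (.node 2 (.node 1 (.leaf (nat_lit 0x1d080249d1)) (.leaf (nat_lit 0x1d030249d1))) (.node 1 (.leaf (nat_lit 0x1b02017da1)) (.leaf (nat_lit 0x1b04017da1)))) (.node 2 (.node 1 (.leaf (nat_lit 0x1b08017da1)) (.leaf (nat_lit 0x1d08024a41))) (.node 1 (.leaf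 (nat_lit 0x1b04018881)) (.leaf (nat_lit 0x1b01017de1))))) (.node 4 (.node 2 (.node 1 (.leaf (nat_lit 0x1b08017de1)) (.leaf (nat_lit 0x1b07017df1))) (.node 1 (.leaf (nat_lit 0x1b00017e01)) (.leaf (nat_lit 0x1b08017e01)))) (.node 2 (.node 1 (.leaf (nat_lit 0x1b07017e11)) (.leaf (nat_lit 0x1d08021f51))) (.node 1 (.leaf (nat_lit 0x1d03021f51)) (.leaf (nat_lit 0x1b08017e71))))))) (.node 16 (.node 8 (.node 4 (.node 2 (.node 1 (.leaf (nat_lit 0x1b08017e61)) (.leaf (nat_lit 0x1b04017e61))) (.node 1 (.leaf (nat_lit 0x1b01017e61)) (.leaf (nat_lit 0x1b07017e81)))) (.node 2 (.node 1 (.leaf (nat_lit 0x1b08018851)) (.leaf (nat_lit 0x1b040186d1))) (.node 1 (.leaf (nat_lit 0x1b00017eb1)) (.leaf (nat_lit 0x1b08017eb1))))) (.node 4 (.node 2 (.node 1 (.leaf (nat_lit 0x1b07017ec1)) (.leaf (nat_lit 0x1b08017ee1))) (.node 1 (.leaf (nat_lit 0x1b07017ef1)) (.leaf (nat_lit 0x1b03017f01)))) (.node 2 (.node 1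 (.leaf (nat_lit 0x1007017f12)) (.leaf (nat_lit 0x1007017f22))) (.node 1 (.leaf (nat_lit 0x1008017f32)) (.leaf (nat_lit 0x1007017f52)))))) (.node 8 (.node 4 (.node 2 (.node 1 (.leaf (nat_lit 0x1003017f62)) (.leaf (nat_lit 0x1008017f62))) (.node 1 (.leaf (nat_lit 0x1d07017f71)) (.leaf (nat_lit 0x1008017f82)))) (.node 2 (.node 1 (.leaf (nat_lit 0x1007017fb2)) (.leaf (nat_lit 0x1003017fc2))) (.node 1 (.leaf (nat_lit 0x1008017fc2)) (.leaf (nat_lit 0x1d07017fd1))))) (.node 4 (.node 2 (.node 1 (.leaf (nat_lit 0x1003017fe2)) (.leaf (nat_lit 0x1008017fe2))) (.node 1 (.leaf (nat_lit 0x1004017ff2)) (.leaf (nat_lit 0x1008017ff2)))) (.node 2 (.node 1 (.leaf (nat_lit 0x1005018012)) (.leaf (nat_lit 0x1008018012))) (.node 1 (.leaf (nat_lit 0x1007018032)) (.leaf (nat_lit 0x1d07018041))))))))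

noncomputable def oT60 : Tree :=
  .node 64 (.node 32 (.node 16 (.node 8 (.node 4 (.node 2 (.node 1 (.leaf (nat_lit 0x1003018052)) (.leaf (nat_lit 0x1008018052))) (.node 1 (.leaf (nat_lit 0x1002018062)) (.leaf (nat_lit 0x1008018062)))) (.node 2 (.node 1 (.leaf (nat_lit 0x1f08018081)) (.leaf (nat_lit 0x1d070180a1))) (.node 1 (.leaf (nat_lit 0x10030180b2)) (.leaf (nat_lit 0x10080180b2))))) (.node 4 (.node 2 (.node 1 (.leaf (nat_lit 0x1f030180c1)) (.leaf (nat_lit 0x1f080180c1))) (.node 1 (.leaf (nat_lit 0x10020180d2)) (.leaf (nat_lit 0x10080180d2)))) (.node 2 (.node 1 (.leaf (nat_lit 0x10010180f2)) (.leaf (nat_lit 0x10080180f2))) (.node 1 (.leaf (nat_lit 0x1007018102)) (.leaf (nat_lit 0x1b07018131)))))) (.node 8 (.node 4 (.node 2 (.node 1 (.leaf (nat_lit 0x1b03018141)) (.leaf (nat_lit 0x1b08018141))) (.node 1 (.leaf (nat_lit 0x1d07018151)) (.leaf (nat_lit 0x1b08018161)))) (.node 2 (.node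 1 (.leaf (nat_lit 0x1b07018181)) (.leaf (nat_lit 0x1d07018191))) (.node 1 (.leaf (nat_lit 0x1b030181a1)) (.leaf (nat_lit 0x1b080181a1))))) (.node 4 (.node 2 (.node 1 (.leaf (nat_lit 0x1b020181b1)) (.leaf (nat_lit 0x1b080181b1))) (.node 1 (.leaf (nat_lit 0x1f080181d1)) (.leaf (nat_lit 0x1b03018201)))) (.node 2 (.node 1 (.leaf (nat_lit 0x1b08018201)) (.leaf (nat_lit 0x1b07018211))) (.node 1 (.leaf (nat_lit 0x1d07018221)) (.leaf (nat_lit 0x1b03018231))))))) (.node 16 (.node 8 (.node 4 (.node 2 (.node 1 (.leaf (nat_lit 0x1b08018231)) (.leaf (nat_lit 0x1b02018241))) (.node 1 (.leaf (nat_lit 0x1b04018241)) (.leaf (nat_lit 0x1b08018241)))) (.node 2 (.node 1 (.leaf (nat_lit 0x1d070195e1)) (.leaf (nat_lit 0x1f08018261))) (.node 1 (.leaf (nat_lit 0x1b04018271)) (.leaf (nat_lit 0x1b08018271))))) (.node 4 (.node 2 (.node 1 (.leaf (nat_lit 0x1b05018291)) (.leaf (nat_lit 0x1b08018291))) (.node 1 (.leaf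 (nat_lit 0x1b060182b1)) (.leaf (nat_lit 0x1b080182b1)))) (.node 2 (.node 1 (.leaf (nat_lit 0x1d070182d1)) (.leaf (nat_lit 0x1b030182e1))) (.node 1 (.leaf (nat_lit 0x1b080182e1)) (.leaf (nat_lit 0x1f030182f1)))))) (.node 8 (.node 4 (.node 2 (.node 1 (.leaf (nat_lit 0x1f080182f1)) (.leaf (nat_lit 0x1b02018301))) (.node 1 (.leaf (nat_lit 0x1b08018301)) (.leaf (nat_lit 0x1b01018321)))) (.node 2 (.node 1 (.leaf (nat_lit 0x1b08018321)) (.leaf (nat_lit 0x1b07018331))) (.node 1 (.leaf (nat_lit 0x1b040186a1)) (.leaf (nat_lit 0x1d04024b01))))) (.node 4 (.node 2 (.node 1 (.leaf (nat_lit 0x1d040186c1)) (.leaf (nat_lit 0x1b02018371))) (.node 1 (.leaf (nat_lit 0x1b04018371)) (.leaf (nat_lit 0x1b08018371)))) (.node 2 (.node 1 (.leaf (nat_lit 0x1f050250e1)) (.leaf (nat_lit 0x1f050250f1))) (.node 1 (.leaf (nat_lit 0x1b010183b1)) (.leaf (nat_lit 0x1b080183b1)))))))) (.node 32 (.node 16 (.node 8 (.node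 4 (.node 2 (.node 1 (.leaf (nat_lit 0x1b070183c1)) (.leaf (nat_lit 0x1b000183d1))) (.node 1 (.leaf (nat_lit 0x1b080183d1)) (.leaf (nat_lit 0x1b070183e1)))) (.node 2 (.node 1 (.leaf (nat_lit 0x1b07018401)) (.leaf (nat_lit 0x1d07018411))) (.node 1 (.leaf (nat_lit 0x1b03018421)) (.leaf (nat_lit 0x1b08018421))))) (.node 4 (.node 2 (.node 1 (.leaf (nat_lit 0x1b02018431)) (.leaf (nat_lit 0x1b08018431))) (.node 1 (.leaf (nat_lit 0x1f08018451)) (.leaf (nat_lit 0x1d07018471)))) (.node 2 (.node 1 (.leaf (nat_lit 0x1b03018481)) (.leaf (nat_lit 0x1b08018481))) (.node 1 (.leaf (nat_lit 0x1d070187c1)) (.leaf (nat_lit 0x1f08018491)))))) (.node 8 (.node 4 (.node 2 (.node 1 (.leaf (nat_lit 0x1b020184a1)) (.leaf (nat_lit 0x1b080184a1))) (.node 1 (.leaf (nat_lit 0x1b010184c1)) (.leaf (nat_lit 0x1b080184c1)))) (.node 2 (.node 1 (.leaf (nat_lit 0x1b070184d1)) (.leaf (nat_lit 0x1d070184f1))) (.node 1 (.leaf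 (nat_lit 0x1b03018501)) (.leaf (nat_lit 0x1b08018501))))) (.node 4 (.node 2 (.node 1 (.leaf (nat_lit 0x1f03018511)) (.leaf (nat_lit 0x1f08018511))) (.node 1 (.leaf (nat_lit 0x1b02018521)) (.leaf (nat_lit 0x1b04018521)))) (.node 2 (.node 1 (.leaf (nat_lit 0x1b08018521)) (.leaf (nat_lit 0x1b01018541))) (.node 1 (.leaf (nat_lit 0x1b04018541)) (.leaf (nat_lit 0x1b08018541))))))) (.node 16 (.node 8 (.node 4 (.node 2 (.node 1 (.leaf (nat_lit 0x1b05018551)) (.leaf (nat_lit 0x1b08018551))) (.node 1 (.leaf (nat_lit 0x1b07018561)) (.leaf (nat_lit 0x1f07019621)))) (.node 2 (.node 1 (.leaf (nat_lit 0x1f08018571)) (.leaf (nat_lit 0x1b05018591))) (.node 1 (.leaf (nat_lit 0x1b08018591)) (.leaf (nat_lit 0x1b060185b1))))) (.node 4 (.node 2 (.node 1 (.leaf (nat_lit 0x1b080185b1)) (.leaf (nat_lit 0x1f07019651))) (.node 1 (.leaf (nat_lit 0x1b080185d1)) (.leaf (nat_lit 0x1b03018911)))) (.node 2 (.node 1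 (.leaf (nat_lit 0x1b07018831)) (.leaf (nat_lit 0x1d03025541))) (.node 1 (.leaf (nat_lit 0x1b02018611)) (.leaf (nat_lit 0x1b04018611)))))) (.node 8 (.node 4 (.node 2 (.node 1 (.leaf (nat_lit 0x1b08018611)) (.leaf (nat_lit 0x1d07018871))) (.node 1 (.leaf (nat_lit 0x1d070255c1)) (.leaf (nat_lit 0x1b01018651)))) (.node 2 (.node 1 (.leaf (nat_lit 0x1b08018651)) (.leaf (nat_lit 0x1b07018661))) (.node 1 (.leaf (nat_lit 0x1b00018671)) (.leaf (nat_lit 0x1b08018671))))) (.node 4 (.node 2 (.node 1 (.leaf (nat_lit 0x1b07018681)) (.leaf (nat_lit 0x1b03018771))) (.node 1 (.leaf (nat_lit 0x1b07018731)) (.leaf (nat_lit 0x1b010186d1)))) (.node 2 (.node 1 (.leaf (nat_lit 0x1b080186d1)) (.leaf (nat_lit 0x1b080186e1))) (.node 1 (.leaf (nat_lit 0x1b070186f1)) (.leaf (nat_lit 0x1b07018861))))))))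

noncomputable def oT61 : Tree :=
  .node 64 (.node 32 (.node 16 (.node 8 (.node 4 (.node 2 (.node 1 (.leaf (nat_lit 0x1b00018721)) (.leaf (nat_lit 0x1b08018721))) (.node 1 (.leaf (nat_lit 0x1b08018751)) (.leaf (nat_lit 0x1b07018761)))) (.node 2 (.node 1 (.leaf (nat_lit 0x1b080188f1)) (.leaf (nat_lit 0x1b020187a1))) (.node 1 (.leaf (nat_lit 0x1b040187a1)) (.leaf (nat_lit 0x1b080187a1))))) (.node 4 (.node 2 (.node 1 (.leaf (nat_lit 0x1d080256c1)) (.leaf (nat_lit 0x1b00018881))) (.node 1 (.leaf (nat_lit 0x1b010187e1)) (.leaf (nat_lit 0x1b080187e1)))) (.node 2 (.node 1 (.leaf (nat_lit 0x1b070187f1)) (.leaf (nat_lit 0x1b00018801))) (.node 1 (.leaf (nat_lit 0x1b08018801)) (.leaf (nat_lit 0x1b07018811)))))) (.node 8 (.node 4 (.node 2 (.node 1 (.leaf (nat_lit 0x1b08018891)) (.leaf (nat_lit 0x1b01018841))) (.node 1 (.leaf (nat_lit 0x1b04018841)) (.leaf (nat_lit 0x1b08018841)))) (.node 2 (.node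 1 (.leaf (nat_lit 0x1b00018891)) (.leaf (nat_lit 0x1b070188a1))) (.node 1 (.leaf (nat_lit 0x1b080188c1)) (.leaf (nat_lit 0x1b070188d1))))) (.node 4 (.node 2 (.node 1 (.leaf (nat_lit 0x1b030188e1)) (.leaf (nat_lit 0x1b07018901))) (.node 1 (.leaf (nat_lit 0x1003018922)) (.leaf (nat_lit 0x1b03018ab1)))) (.node 2 (.node 1 (.leaf (nat_lit 0x1004018ae2)) (.leaf (nat_lit 0x1006018ae2))) (.node 1 (.leaf (nat_lit 0x1005018b12)) (.leaf (nat_lit 0x1007018b22))))))) (.node 16 (.node 8 (.node 4 (.node 2 (.node 1 (.leaf (nat_lit 0x1003018b52)) (.leaf (nat_lit 0x1003018b72))) (.node 1 (.leaf (nat_lit 0x1004018b82)) (.leaf (nat_lit 0x1b03018ba1)))) (.node 2 (.node 1 (.leaf (nat_lit 0x1b06018ba1)) (.leaf (nat_lit 0x1b06018bf1))) (.node 1 (.leaf (nat_lit 0x1b04018be1)) (.leaf (nat_lit 0x1b06018be1))))) (.node 4 (.node 2 (.node 1 (.leaf (nat_lit 0x1b03018bf1)) (.leaf (nat_lit 0x1b07018bf1))) (.node 1 (.leaf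 (nat_lit 0x1b07018c01)) (.leaf (nat_lit 0x1b06018c41)))) (.node 2 (.node 1 (.leaf (nat_lit 0x1b07018c41)) (.leaf (nat_lit 0x1b03018c81))) (.node 1 (.leaf (nat_lit 0x1b04018c91)) (.leaf (nat_lit 0x1b05018ca1)))))) (.node 8 (.node 4 (.node 2 (.node 1 (.leaf (nat_lit 0x1b06018cd1)) (.leaf (nat_lit 0x1b07018cd1))) (.node 1 (.leaf (nat_lit 0x1b05018ce1)) (.leaf (nat_lit 0x1b05018d51)))) (.node 2 (.node 1 (.leaf (nat_lit 0x1b03018d21)) (.leaf (nat_lit 0x1b06018d21))) (.node 1 (.leaf (nat_lit 0x1b05018fb1)) (.leaf (nat_lit 0x1b06018d41))))) (.node 4 (.node 2 (.node 1 (.leaf (nat_lit 0x1b07018d41)) (.leaf (nat_lit 0x1b07018d51))) (.node 1 (.leaf (nat_lit 0x1b03018d61)) (.leaf (nat_lit 0x1b05019001)))) (.node 2 (.node 1 (.leaf (nat_lit 0x1b02018da1)) (.leaf (nat_lit 0x1b05018dc1))) (.node 1 (.leaf (nat_lit 0x1b03018df1)) (.leaf (nat_lit 0x1b07018dc1)))))))) (.node 32 (.node 16 (.node 8 (.node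 4 (.node 2 (.node 1 (.leaf (nat_lit 0x1b03018dd1)) (.leaf (nat_lit 0x1b08018dd1))) (.node 1 (.leaf (nat_lit 0x1b03018e01)) (.leaf (nat_lit 0x1b02018e11)))) (.node 2 (.node 1 (.leaf (nat_lit 0x1b04018e11)) (.leaf (nat_lit 0x1b05019021))) (.node 1 (.leaf (nat_lit 0x1b04018e31)) (.leaf (nat_lit 0x1b05018e41))))) (.node 4 (.node 2 (.node 1 (.leaf (nat_lit 0x1b06018e51)) (.leaf (nat_lit 0x1b08018e71))) (.node 1 (.leaf (nat_lit 0x1004018ea2)) (.leaf (nat_lit 0x1006018ea2)))) (.node 2 (.node 1 (.leaf (nat_lit 0x1003018ee2)) (.leaf (nat_lit 0x1003018f12))) (.node 1 (.leaf (nat_lit 0x1007018f32)) (.leaf (nat_lit 0x1004018f42)))))) (.node 8 (.node 4 (.node 2 (.node 1 (.leaf (nat_lit 0x1005018f52)) (.leaf (nat_lit 0x1b03018f61))) (.node 1 (.leaf (nat_lit 0x1b06018f61)) (.leaf (nat_lit 0x1b07018fb1)))) (.node 2 (.node 1 (.leaf (nat_lit 0x1b06018fa1)) (.leaf (nat_lit 0x1b07018fa1))) (.node 1 (.leaf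 (nat_lit 0x1b03018fc1)) (.leaf (nat_lit 0x1b06018ff1))))) (.node 4 (.node 2 (.node 1 (.leaf (nat_lit 0x1b07018ff1)) (.leaf (nat_lit 0x1b07019021))) (.node 1 (.leaf (nat_lit 0x1b03019031)) (.leaf (nat_lit 0x1b08019031)))) (.node 2 (.node 1 (.leaf (nat_lit 0x1b04019041)) (.leaf (nat_lit 0x1b04019051))) (.node 1 (.leaf (nat_lit 0x1b05019061)) (.leaf (nat_lit 0x1b06019071))))))) (.node 16 (.node 8 (.node 4 (.node 2 (.node 1 (.leaf (nat_lit 0x1b06019081)) (.leaf (nat_lit 0x1b07019081))) (.node 1 (.leaf (nat_lit 0x1b05019091)) (.leaf (nat_lit 0x1b070190f1)))) (.node 2 (.node 1 (.leaf (nat_lit 0x1b050190d1)) (.leaf (nat_lit 0x1d05025841))) (.node 1 (.leaf (nat_lit 0x1b070190d1)) (.leaf (nat_lit 0x1b030190e1))))) (.node 4 (.node 2 (.node 1 (.leaf (nat_lit 0x1b080190e1)) (.leaf (nat_lit 0x1b03019111))) (.node 1 (.leaf (nat_lit 0x1b02019121)) (.leaf (nat_lit 0x1b02019141)))) (.node 2 (.node 1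 (.leaf (nat_lit 0x1b05019161)) (.leaf (nat_lit 0x1d03019191))) (.node 1 (.leaf (nat_lit 0x1b07019161)) (.leaf (nat_lit 0x1b08019171)))))) (.node 8 (.node 4 (.node 2 (.node 1 (.leaf (nat_lit 0x1b040191a1)) (.leaf (nat_lit 0x1b070191a1))) (.node 1 (.leaf (nat_lit 0x1d030258b1)) (.leaf (nat_lit 0x1b030191c1)))) (.node 2 (.node 1 (.leaf (nat_lit 0x1b080191c1)) (.leaf (nat_lit 0x1b040191d1))) (.node 1 (.leaf (nat_lit 0x1b080191d1)) (.leaf (nat_lit 0x1b040191f1))))) (.node 4 (.node 2 (.node 1 (.leaf (nat_lit 0x1b05019201)) (.leaf (nat_lit 0x1d04019211))) (.node 1 (.leaf (nat_lit 0x1b05019221)) (.leaf (nat_lit 0x1b06019231)))) (.node 2 (.node 1 (.leaf (nat_lit 0x1f080201f1)) (.leaf (nat_lit 0x1b05019251))) (.node 1 (.leaf (nat_lit 0x1d02025aa1)) (.leaf (nat_lit 0x1b07019251))))))))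

noncomputable def oT62 : Tree :=
  .node 64 (.node 32 (.node 16 (.node 8 (.node 4 (.node 2 (.node 1 (.leaf (nat_lit 0x1b08019261)) (.leaf (nat_lit 0x1b020192b1))) (.node 1 (.leaf (nat_lit 0x1b040192d1)) (.leaf (nat_lit 0x1d06025831)))) (.node 2 (.node 1 (.leaf (nat_lit 0x1b070192d1)) (.leaf (nat_lit 0x1f03025ce1))) (.node 1 (.leaf (nat_lit 0x1b030192f1)) (.leaf (nat_lit 0x1b080192f1))))) (.node 4 (.node 2 (.node 1 (.leaf (nat_lit 0x1b02019301)) (.leaf (nat_lit 0x1b08019301))) (.node 1 (.leaf (nat_lit 0x1b03019331)) (.leaf (nat_lit 0x1d05021161)))) (.node 2 (.node 1 (.leaf (nat_lit 0x1b02019351)) (.leaf (nat_lit 0x1b01019361))) (.node 1 (.leaf (nat_lit 0x1b060193c1)) (.leaf (nat_lit 0x1b070193c1)))))) (.node 8 (.node 4 (.node 2 (.node 1 (.leaf (nat_lit 0x1b050193d1)) (.leaf (nat_lit 0x1d02021aa1))) (.node 1 (.leaf (nat_lit 0x1b070193d1)) (.leaf (nat_lit 0x1b080193e1)))) (.node 2 (.node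 1 (.leaf (nat_lit 0x1b06019841)) (.leaf (nat_lit 0x1b04019411))) (.node 1 (.leaf (nat_lit 0x1d01021ac1)) (.leaf (nat_lit 0x1b07019411))))) (.node 4 (.node 2 (.node 1 (.leaf (nat_lit 0x1f01025d71)) (.leaf (nat_lit 0x1b08019431))) (.node 1 (.leaf (nat_lit 0x1d00021c21)) (.leaf (nat_lit 0x1b07019461)))) (.node 2 (.node 1 (.leaf (nat_lit 0x1d020258d1)) (.leaf (nat_lit 0x1b08019481))) (.node 1 (.leaf (nat_lit 0x1f08019491)) (.leaf (nat_lit 0x10030194f2))))))) (.node 16 (.node 8 (.node 4 (.node 2 (.node 1 (.leaf (nat_lit 0x10080194f2)) (.leaf (nat_lit 0x1004019502))) (.node 1 (.leaf (nat_lit 0x1004019512)) (.leaf (nat_lit 0x1005019522)))) (.node 2 (.node 1 (.leaf (nat_lit 0x1006019532)) (.leaf (nat_lit 0x1b08019551))) (.node 1 (.leaf (nat_lit 0x1b03019581)) (.leaf (nat_lit 0x1b08019581))))) (.node 4 (.node 2 (.node 1 (.leaf (nat_lit 0x1b02019591)) (.leaf (nat_lit 0x1b04019591))) (.node 1 (.leaf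 (nat_lit 0x1b08019591)) (.leaf (nat_lit 0x1b040195b1)))) (.node 2 (.node 1 (.leaf (nat_lit 0x1b040195c1)) (.leaf (nat_lit 0x1b050195d1))) (.node 1 (.leaf (nat_lit 0x1d060221b1)) (.leaf (nat_lit 0x1b050195f1)))))) (.node 8 (.node 4 (.node 2 (.node 1 (.leaf (nat_lit 0x1b06019601)) (.leaf (nat_lit 0x1d0801fe51))) (.node 1 (.leaf (nat_lit 0x1f04025ed1)) (.leaf (nat_lit 0x1b06019631)))) (.node 2 (.node 1 (.leaf (nat_lit 0x1f08020261)) (.leaf (nat_lit 0x1008019672))) (.node 1 (.leaf (nat_lit 0x10030196a2)) (.leaf (nat_lit 0x10080196a2))))) (.node 4 (.node 2 (.node 1 (.leaf (nat_lit 0x10020196b2)) (.leaf (nat_lit 0x10040196b2))) (.node 1 (.leaf (nat_lit 0x10080196b2)) (.leaf (nat_lit 0x10040196d2)))) (.node 2 (.node 1 (.leaf (nat_lit 0x10050196f2)) (.leaf (nat_lit 0x1b05019751))) (.node 1 (.leaf (nat_lit 0x1b06019771)) (.leaf (nat_lit 0x10030197a2)))))))) (.node 32 (.node 16 (.node 8 (.node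 4 (.node 2 (.node 1 (.leaf (nat_lit 0x10070197a2)) (.leaf (nat_lit 0x10030197b2))) (.node 1 (.leaf (nat_lit 0x10040197c2)) (.leaf (nat_lit 0x10030197d2)))) (.node 2 (.node 1 (.leaf (nat_lit 0x10020197e2)) (.leaf (nat_lit 0x1005019812))) (.node 1 (.leaf (nat_lit 0x1b06019831)) (.leaf (nat_lit 0x1007019892))))) (.node 4 (.node 2 (.node 1 (.leaf (nat_lit 0x1107019ab2)) (.leaf (nat_lit 0x1107019ad2))) (.node 1 (.leaf (nat_lit 0x1107019ae2)) (.leaf (nat_lit 0x1108019af2)))) (.node 2 (.node 1 (.leaf (nat_lit 0x1107019b12)) (.leaf (nat_lit 0x1107019b22))) (.node 1 (.leaf (nat_lit 0x1108019b32)) (.leaf (nat_lit 0x1c07019b61)))))) (.node 8 (.node 4 (.node 2 (.node 1 (.leaf (nat_lit 0x1c07019b71)) (.leaf (nat_lit 0x1c08019b81))) (.node 1 (.leaf (nat_lit 0x1c07019ba1)) (.leaf (nat_lit 0x1c03019bb1)))) (.node 2 (.node 1 (.leaf (nat_lit 0x1c08019bb1)) (.leaf (nat_lit 0x1c07019bc1))) (.node 1 (.leaf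 (nat_lit 0x1c07019bd1)) (.leaf (nat_lit 0x1c08019be1))))) (.node 4 (.node 2 (.node 1 (.leaf (nat_lit 0x1c07019c11)) (.leaf (nat_lit 0x1c03019c21))) (.node 1 (.leaf (nat_lit 0x1c08019c21)) (.leaf (nat_lit 0x1c07019c31)))) (.node 2 (.node 1 (.leaf (nat_lit 0x1c08019c41)) (.leaf (nat_lit 0x1c07019c61))) (.node 1 (.leaf (nat_lit 0x1c07019c71)) (.leaf (nat_lit 0x1c03019c81))))))) (.node 16 (.node 8 (.node 4 (.node 2 (.node 1 (.leaf (nat_lit 0x1c08019c81)) (.leaf (nat_lit 0x1c07019c91))) (.node 1 (.leaf (nat_lit 0x1c07019ca1)) (.leaf (nat_lit 0x1c08019cb1)))) (.node 2 (.node 1 (.leaf (nat_lit 0x1c07019ce1)) (.leaf (nat_lit 0x1c07019cf1))) (.node 1 (.leaf (nat_lit 0x1c03019d01)) (.leaf (nat_lit 0x1c08019d01))))) (.node 4 (.node 2 (.node 1 (.leaf (nat_lit 0x1c04019d11)) (.leaf (nat_lit 0x1c08019d11))) (.node 1 (.leaf (nat_lit 0x1c07019d31)) (.leaf (nat_lit 0x1c03019d41)))) (.node 2 (.node 1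 (.leaf (nat_lit 0x1c08019d41)) (.leaf (nat_lit 0x1c07019d51))) (.node 1 (.leaf (nat_lit 0x1c08019d61)) (.leaf (nat_lit 0x1c07019d81)))))) (.node 8 (.node 4 (.node 2 (.node 1 (.leaf (nat_lit 0x1c07019d91)) (.leaf (nat_lit 0x1c03019da1))) (.node 1 (.leaf (nat_lit 0x1c08019da1)) (.leaf (nat_lit 0x1c02019db1)))) (.node 2 (.node 1 (.leaf (nat_lit 0x1c08019db1)) (.leaf (nat_lit 0x1e08019dd1))) (.node 1 (.leaf (nat_lit 0x1103019df2)) (.leaf (nat_lit 0x1105019df2))))) (.node 4 (.node 2 (.node 1 (.leaf (nat_lit 0x1105019e02)) (.leaf (nat_lit 0x1107019e02))) (.node 1 (.leaf (nat_lit 0x1106019e12)) (.leaf (nat_lit 0x1c08019e91)))) (.node 2 (.node 1 (.leaf (nat_lit 0x1103019e32)) (.leaf (nat_lit 0x1102019e42))) (.node 1 (.leaf (nat_lit 0x1105019e42)) (.leaf (nat_lit 0x1107019e42))))))))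

noncomputable def oT63 : Tree :=
  .node 64 (.node 32 (.node 16 (.node 8 (.node 4 (.node 2 (.node 1 (.leaf (nat_lit 0x1102019ea2)) (.leaf (nat_lit 0x1105019ea2))) (.node 1 (.leaf (nat_lit 0x1107019ea2)) (.leaf (nat_lit 0x1106019eb2)))) (.node 2 (.node 1 (.leaf (nat_lit 0x1104019ec2)) (.leaf (nat_lit 0x1106019ec2))) (.node 1 (.leaf (nat_lit 0x1107019ec2)) (.leaf (nat_lit 0x1108019ed2))))) (.node 4 (.node 2 (.node 1 (.leaf (nat_lit 0x1c08019fa1)) (.leaf (nat_lit 0x1105019f02))) (.node 1 (.leaf (nat_lit 0x1105019f22)) (.leaf (nat_lit 0x1104019f32)))) (.node 2 (.node 1 (.leaf (nat_lit 0x1106019f32)) (.leaf (nat_lit 0x1107019f32))) (.node 1 (.leaf (nat_lit 0x1106019f62)) (.leaf (nat_lit 0x1107019f62)))))) (.node 8 (.node 4 (.node 2 (.node 1 (.leaf (nat_lit 0x1c05019fb1)) (.leaf (nat_lit 0x1c04019fc1))) (.node 1 (.leaf (nat_lit 0x1c06019fc1)) (.leaf (nat_lit 0x1c07019fc1)))) (.node 2 (.node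 1 (.leaf (nat_lit 0x1c0801a0a1)) (.leaf (nat_lit 0x1c06019ff1))) (.node 1 (.leaf (nat_lit 0x1c07019ff1)) (.leaf (nat_lit 0x1c0801a0d1))))) (.node 4 (.node 2 (.node 1 (.leaf (nat_lit 0x1c0701a001)) (.leaf (nat_lit 0x1c0801a011))) (.node 1 (.leaf (nat_lit 0x1c0401a041)) (.leaf (nat_lit 0x1c0601a041)))) (.node 2 (.node 1 (.leaf (nat_lit 0x1c0401a061)) (.leaf (nat_lit 0x1c0601a061))) (.node 1 (.leaf (nat_lit 0x1c0601a071)) (.leaf (nat_lit 0x1c0701a071))))))) (.node 16 (.node 8 (.node 4 (.node 2 (.node 1 (.leaf (nat_lit 0x1c0701bde1)) (.leaf (nat_lit 0x1c0701a081))) (.node 1 (.leaf (nat_lit 0x1c0501a0b1)) (.leaf (nat_lit 0x1c0701be21)))) (.node 2 (.node 1 (.leaf (nat_lit 0x1c0701a0b1)) (.leaf (nat_lit 0x1c0301a0c1))) (.node 1 (.leaf (nat_lit 0x1c0801a0c1)) (.leaf (nat_lit 0x110501a102))))) (.node 4 (.node 2 (.node 1 (.leaf (nat_lit 0x110701a102)) (.leaf (nat_lit 0x110401a112))) (.node 1 (.leaf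 (nat_lit 0x110601a112)) (.leaf (nat_lit 0x110701a112)))) (.node 2 (.node 1 (.leaf (nat_lit 0x110801a122)) (.leaf (nat_lit 0x1c0801a231))) (.node 1 (.leaf (nat_lit 0x110601a142)) (.leaf (nat_lit 0x110701a142)))))) (.node 8 (.node 4 (.node 2 (.node 1 (.leaf (nat_lit 0x1e0801a261)) (.leaf (nat_lit 0x110701a152))) (.node 1 (.leaf (nat_lit 0x110801a162)) (.leaf (nat_lit 0x110101a192)))) (.node 2 (.node 1 (.leaf (nat_lit 0x110501a192)) (.leaf (nat_lit 0x110701a192))) (.node 1 (.leaf (nat_lit 0x110401a1a2)) (.leaf (nat_lit 0x110601a1a2))))) (.node 4 (.node 2 (.node 1 (.leaf (nat_lit 0x110701a1a2)) (.leaf (nat_lit 0x110801a1b2))) (.node 1 (.leaf (nat_lit 0x110401a1d2)) (.leaf (nat_lit 0x110601a1d2)))) (.node 2 (.node 1 (.leaf (nat_lit 0x110701a1d2)) (.leaf (nat_lit 0x110301a1e2))) (.node 1 (.leaf (nat_lit 0x110801a1e2)) (.leaf (nat_lit 0x110601a1f2)))))))) (.node 32 (.node 16 (.node 8 (.node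 4 (.node 2 (.node 1 (.leaf (nat_lit 0x110701a1f2)) (.leaf (nat_lit 0x1c0301a231))) (.node 1 (.leaf (nat_lit 0x110701a202)) (.leaf (nat_lit 0x110801a212)))) (.node 2 (.node 1 (.leaf (nat_lit 0x110501a242)) (.leaf (nat_lit 0x1c0301be31))) (.node 1 (.leaf (nat_lit 0x110701a242)) (.leaf (nat_lit 0x110301a252))))) (.node 4 (.node 2 (.node 1 (.leaf (nat_lit 0x110801a252)) (.leaf (nat_lit 0x1c0301c1d1))) (.node 1 (.leaf (nat_lit 0x110801a272)) (.leaf (nat_lit 0x1c0401a291)))) (.node 2 (.node 1 (.leaf (nat_lit 0x1c0601a291)) (.leaf (nat_lit 0x1c0701a291))) (.node 1 (.leaf (nat_lit 0x1c0301a2a1)) (.leaf (nat_lit 0x1c0801a2a1)))))) (.node 8 (.node 4 (.node 2 (.node 1 (.leaf (nat_lit 0x1c0601a2b1)) (.leaf (nat_lit 0x1c0701a2b1))) (.node 1 (.leaf (nat_lit 0x1e0801a441)) (.leaf (nat_lit 0x1c0701a2c1)))) (.node 2 (.node 1 (.leaf (nat_lit 0x1c0801a2d1)) (.leaf (nat_lit 0x1c0501a301))) (.node 1 (.leaf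 (nat_lit 0x1e0801a481)) (.leaf (nat_lit 0x1c0701a301))))) (.node 4 (.node 2 (.node 1 (.leaf (nat_lit 0x1c0301a311)) (.leaf (nat_lit 0x1c0801a311))) (.node 1 (.leaf (nat_lit 0x200701a321)) (.leaf (nat_lit 0x1c0801a331)))) (.node 2 (.node 1 (.leaf (nat_lit 0x1c0501a351)) (.leaf (nat_lit 0x1c0701a351))) (.node 1 (.leaf (nat_lit 0x1c0401a361)) (.leaf (nat_lit 0x1c0601a361))))))) (.node 16 (.node 8 (.node 4 (.node 2 (.node 1 (.leaf (nat_lit 0x1c0701a361)) (.leaf (nat_lit 0x1c0301a371))) (.node 1 (.leaf (nat_lit 0x1c0801a371)) (.leaf (nat_lit 0x1c0601a381)))) (.node 2 (.node 1 (.leaf (nat_lit 0x1c0701a381)) (.leaf (nat_lit 0x1c0301a3c1))) (.node 1 (.leaf (nat_lit 0x1c0701a391)) (.leaf (nat_lit 0x1c0801a3a1))))) (.node 4 (.node 2 (.node 1 (.leaf (nat_lit 0x1c0301a3d1)) (.leaf (nat_lit 0x1c0601a3d1))) (.node 1 (.leaf (nat_lit 0x1c0701a3d1)) (.leaf (nat_lit 0x1e0201a441)))) (.node 2 (.node 1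 (.leaf (nat_lit 0x1c0701a3e1)) (.leaf (nat_lit 0x1c0301a3f1))) (.node 1 (.leaf (nat_lit 0x1c0801a3f1)) (.leaf (nat_lit 0x1c0401a401)))))) (.node 8 (.node 4 (.node 2 (.node 1 (.leaf (nat_lit 0x1c0801a401)) (.leaf (nat_lit 0x1c0501a421))) (.node 1 (.leaf (nat_lit 0x1e03026471)) (.leaf (nat_lit 0x1c0701a421)))) (.node 2 (.node 1 (.leaf (nat_lit 0x1c0301a431)) (.leaf (nat_lit 0x1c0801a431))) (.node 1 (.leaf (nat_lit 0x1c0301e0f1)) (.leaf (nat_lit 0x1c0801a451))))) (.node 4 (.node 2 (.node 1 (.leaf (nat_lit 0x1e030264a1)) (.leaf (nat_lit 0x1c0701a471))) (.node 1 (.leaf (nat_lit 0x1c0301c2b1)) (.leaf (nat_lit 0x1c0301a491)))) (.node 2 (.node 1 (.leaf (nat_lit 0x1c0801a491)) (.leaf (nat_lit 0x1c0201a4a1))) (.node 1 (.leaf (nat_lit 0x1c0801a4a1)) (.leaf (nat_lit 0x1e0801a4c1))))))))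

noncomputable def oT64 : Tree :=
  .node 64 (.node 32 (.node 16 (.node 8 (.node 4 (.node 2 (.node 1 (.leaf (nat_lit 0x1c0301a4e1)) (.leaf (nat_lit 0x1c0601a4e1))) (.node 1 (.leaf (nat_lit 0x1c0701a4e1)) (.leaf (nat_lit 0x200801a6e1)))) (.node 2 (.node 1 (.leaf (nat_lit 0x1c0701a4f1)) (.leaf (nat_lit 0x1c0301a501))) (.node 1 (.leaf (nat_lit 0x1c0801a501)) (.leaf (nat_lit 0x1c0801a511))))) (.node 4 (.node 2 (.node 1 (.leaf (nat_lit 0x1c0501a531)) (.leaf (nat_lit 0x200801a751))) (.node 1 (.leaf (nat_lit 0x1c0701a531)) (.leaf (nat_lit 0x1c0301a541)))) (.node 2 (.node 1 (.leaf (nat_lit 0x1c0801a541)) (.leaf (nat_lit 0x200701a551))) (.node 1 (.leaf (nat_lit 0x1c0801a561)) (.leaf (nat_lit 0x200801a7b1)))))) (.node 8 (.node 4 (.node 2 (.node 1 (.leaf (nat_lit 0x1c0701a581)) (.leaf (nat_lit 0x200201b3a1))) (.node 1 (.leaf (nat_lit 0x1c0301a5a1)) (.leaf (nat_lit 0x1c0801a5a1)))) (.node 2 (.node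 1 (.leaf (nat_lit 0x1c0201a5b1)) (.leaf (nat_lit 0x1c0801a5b1))) (.node 1 (.leaf (nat_lit 0x200701a821)) (.leaf (nat_lit 0x1c0401a5f1))))) (.node 4 (.node 2 (.node 1 (.leaf (nat_lit 0x1c0601a5f1)) (.leaf (nat_lit 0x1c0701a5f1))) (.node 1 (.leaf (nat_lit 0x1c0301a601)) (.leaf (nat_lit 0x1c0801a601)))) (.node 2 (.node 1 (.leaf (nat_lit 0x1c0301a611)) (.leaf (nat_lit 0x1c0601a611))) (.node 1 (.leaf (nat_lit 0x1c0701a611)) (.leaf (nat_lit 0x1e0201a681))))))) (.node 16 (.node 8 (.node 4 (.node 2 (.node 1 (.leaf (nat_lit 0x1c0701a621)) (.leaf (nat_lit 0x1c0301a631))) (.node 1 (.leaf (nat_lit 0x1c0801a631)) (.leaf (nat_lit 0x1c0401a641)))) (.node 2 (.node 1 (.leaf (nat_lit 0x1c0801a641)) (.leaf (nat_lit 0x1c0501a661))) (.node 1 (.leaf (nat_lit 0x1e0401a681)) (.leaf (nat_lit 0x1c0701a661))))) (.node 4 (.node 2 (.node 1 (.leaf (nat_lit 0x1c0301a671)) (.leaf (nat_lit 0x1c0801a671))) (.node 1 (.leaf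 (nat_lit 0x1c0301e1d1)) (.leaf (nat_lit 0x1c0801a691)))) (.node 2 (.node 1 (.leaf (nat_lit 0x1c0601a6b1)) (.leaf (nat_lit 0x1c0701a6b1))) (.node 1 (.leaf (nat_lit 0x1c0501a6c1)) (.leaf (nat_lit 0x200401a6e1)))))) (.node 8 (.node 4 (.node 2 (.node 1 (.leaf (nat_lit 0x1c0701a6c1)) (.leaf (nat_lit 0x1c0301a6d1))) (.node 1 (.leaf (nat_lit 0x1c0801a6d1)) (.leaf (nat_lit 0x1e0201a791)))) (.node 2 (.node 1 (.leaf (nat_lit 0x1c0301a6f1)) (.leaf (nat_lit 0x1c0801a6f1))) (.node 1 (.leaf (nat_lit 0x1c0401a701)) (.leaf (nat_lit 0x1c0801a701))))) (.node 4 (.node 2 (.node 1 (.leaf (nat_lit 0x1c0501a721)) (.leaf (nat_lit 0x1c0801a721))) (.node 1 (.leaf (nat_lit 0x1c0701a731)) (.leaf (nat_lit 0x2004026b31)))) (.node 2 (.node 1 (.leaf (nat_lit 0x1c0701a741)) (.leaf (nat_lit 0x1e0401a791))) (.node 1 (.leaf (nat_lit 0x1c0301a761)) (.leaf (nat_lit 0x1c0801a761)))))))) (.node 32 (.node 16 (.node 8 (.node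 4 (.node 2 (.node 1 (.leaf (nat_lit 0x1c0201a771)) (.leaf (nat_lit 0x1c0801a771))) (.node 1 (.leaf (nat_lit 0x1e0801a791)) (.leaf (nat_lit 0x2004026bb1)))) (.node 2 (.node 1 (.leaf (nat_lit 0x1e04026bc1)) (.leaf (nat_lit 0x1c0301a7c1))) (.node 1 (.leaf (nat_lit 0x1c0801a7c1)) (.leaf (nat_lit 0x1e04026211))))) (.node 4 (.node 2 (.node 1 (.leaf (nat_lit 0x200801a7d1)) (.leaf (nat_lit 0x1c0201a7e1))) (.node 1 (.leaf (nat_lit 0x1c0801a7e1)) (.leaf (nat_lit 0x1c0101a801)))) (.node 2 (.node 1 (.leaf (nat_lit 0x1c0801a801)) (.leaf (nat_lit 0x1c0701a811))) (.node 1 (.leaf (nat_lit 0x110201a832)) (.leaf (nat_lit 0x110501a832)))))) (.node 8 (.node 4 (.node 2 (.node 1 (.leaf (nat_lit 0x110701a832)) (.leaf (nat_lit 0x110601a842))) (.node 1 (.leaf (nat_lit 0x110501a852)) (.leaf (nat_lit 0x110701a852)))) (.node 2 (.node 1 (.leaf (nat_lit 0x110401a862)) (.leaf (nat_lit 0x110601a862))) (.node 1 (.leaf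 (nat_lit 0x110701a862)) (.leaf (nat_lit 0x110801a872))))) (.node 4 (.node 2 (.node 1 (.leaf (nat_lit 0x1e03027401)) (.leaf (nat_lit 0x110601a892))) (.node 1 (.leaf (nat_lit 0x110701a892)) (.leaf (nat_lit 0x1e04027431)))) (.node 2 (.node 1 (.leaf (nat_lit 0x110701a8a2)) (.leaf (nat_lit 0x110801a8b2))) (.node 1 (.leaf (nat_lit 0x110101a8e2)) (.leaf (nat_lit 0x110501a8e2))))))) (.node 16 (.node 8 (.node 4 (.node 2 (.node 1 (.leaf (nat_lit 0x110701a8e2)) (.leaf (nat_lit 0x110401a8f2))) (.node 1 (.leaf (nat_lit 0x110601a8f2)) (.leaf (nat_lit 0x110701a8f2)))) (.node 2 (.node 1 (.leaf (nat_lit 0x110801a902)) (.leaf (nat_lit 0x1e070273b1))) (.node 1 (.leaf (nat_lit 0x110401a922)) (.leaf (nat_lit 0x110601a922))))) (.node 4 (.node 2 (.node 1 (.leaf (nat_lit 0x110701a922)) (.leaf (nat_lit 0x110301a932))) (.node 1 (.leaf (nat_lit 0x110801a932)) (.leaf (nat_lit 0x110601a942)))) (.node 2 (.node 1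 (.leaf (nat_lit 0x110701a942)) (.leaf (nat_lit 0x200301a981))) (.node 1 (.leaf (nat_lit 0x110701a952)) (.leaf (nat_lit 0x110801a962)))))) (.node 8 (.node 4 (.node 2 (.node 1 (.leaf (nat_lit 0x110501a992)) (.leaf (nat_lit 0x1e0801ab11))) (.node 1 (.leaf (nat_lit 0x110701a992)) (.leaf (nat_lit 0x110301a9a2)))) (.node 2 (.node 1 (.leaf (nat_lit 0x110801a9a2)) (.leaf (nat_lit 0x2003027471))) (.node 1 (.leaf (nat_lit 0x110801a9c2)) (.leaf (nat_lit 0x110501a9e2))))) (.node 4 (.node 2 (.node 1 (.leaf (nat_lit 0x110701a9e2)) (.leaf (nat_lit 0x110401a9f2))) (.node 1 (.leaf (nat_lit 0x110601a9f2)) (.leaf (nat_lit 0x110701a9f2)))) (.node 2 (.node 1 (.leaf (nat_lit 0x110301aa02)) (.leaf (nat_lit 0x110801aa02))) (.node 1 (.leaf (nat_lit 0x110601aa12)) (.leaf (nat_lit 0x110701aa12))))))))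

noncomputable def oT65 : Tree :=
  .node 64 (.node 32 (.node 16 (.node 8 (.node 4 (.node 2 (.node 1 (.leaf (nat_lit 0x2008027521)) (.leaf (nat_lit 0x110701aa22))) (.node 1 (.leaf (nat_lit 0x110801aa32)) (.leaf (nat_lit 0x110301aa62)))) (.node 2 (.node 1 (.leaf (nat_lit 0x110601aa62)) (.leaf (nat_lit 0x110701aa62))) (.node 1 (.leaf (nat_lit 0x1e010266a1)) (.leaf (nat_lit 0x110701aa72))))) (.node 4 (.node 2 (.node 1 (.leaf (nat_lit 0x110301aa82)) (.leaf (nat_lit 0x110801aa82))) (.node 1 (.leaf (nat_lit 0x110401aa92)) (.leaf (nat_lit 0x110801aa92)))) (.node 2 (.node 1 (.leaf (nat_lit 0x110501aab2)) (.leaf (nat_lit 0x1e0101ab11))) (.node 1 (.leaf (nat_lit 0x110701aab2)) (.leaf (nat_lit 0x110301aac2)))))) (.node 8 (.node 4 (.node 2 (.node 1 (.leaf (nat_lit 0x110801aac2)) (.leaf (nat_lit 0x1e0101ab51))) (.node 1 (.leaf (nat_lit 0x110801aae2)) (.leaf (nat_lit 0x1e02026401)))) (.node 2 (.node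 1 (.leaf (nat_lit 0x110701ab02)) (.leaf (nat_lit 0x1c0201c2c1))) (.node 1 (.leaf (nat_lit 0x110301ab22)) (.leaf (nat_lit 0x110801ab22))))) (.node 4 (.node 2 (.node 1 (.leaf (nat_lit 0x110201ab32)) (.leaf (nat_lit 0x110801ab32))) (.node 1 (.leaf (nat_lit 0x1e0801ab51)) (.leaf (nat_lit 0x1c0101ab71)))) (.node 2 (.node 1 (.leaf (nat_lit 0x1c0501ab71)) (.leaf (nat_lit 0x1c0701ab71))) (.node 1 (.leaf (nat_lit 0x1c0401ab81)) (.leaf (nat_lit 0x1c0601ab81))))))) (.node 16 (.node 8 (.node 4 (.node 2 (.node 1 (.leaf (nat_lit 0x1c0701ab81)) (.leaf (nat_lit 0x1c0801ab91))) (.node 1 (.leaf (nat_lit 0x1e060273b1)) (.leaf (nat_lit 0x1c0401abb1)))) (.node 2 (.node 1 (.leaf (nat_lit 0x1c0601abb1)) (.leaf (nat_lit 0x1c0701abb1))) (.node 1 (.leaf (nat_lit 0x1c0301abc1)) (.leaf (nat_lit 0x1c0801abc1))))) (.node 4 (.node 2 (.node 1 (.leaf (nat_lit 0x1c0601abd1)) (.leaf (nat_lit 0x1c0701abd1))) (.node 1 (.leaf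 (nat_lit 0x1e06027401)) (.leaf (nat_lit 0x1c0701abe1)))) (.node 2 (.node 1 (.leaf (nat_lit 0x1c0801abf1)) (.leaf (nat_lit 0x1c0501ac21))) (.node 1 (.leaf (nat_lit 0x1e06027431)) (.leaf (nat_lit 0x1c0701ac21)))))) (.node 8 (.node 4 (.node 2 (.node 1 (.leaf (nat_lit 0x1c0301ac31)) (.leaf (nat_lit 0x1c0801ac31))) (.node 1 (.leaf (nat_lit 0x200701ac41)) (.leaf (nat_lit 0x1c0801ac51)))) (.node 2 (.node 1 (.leaf (nat_lit 0x1c0501ac71)) (.leaf (nat_lit 0x1c0701ac71))) (.node 1 (.leaf (nat_lit 0x1c0401ac81)) (.leaf (nat_lit 0x1c0601ac81))))) (.node 4 (.node 2 (.node 1 (.leaf (nat_lit 0x1c0701ac81)) (.leaf (nat_lit 0x1c0301ac91))) (.node 1 (.leaf (nat_lit 0x1c0801ac91)) (.leaf (nat_lit 0x1c0601aca1)))) (.node 2 (.node 1 (.leaf (nat_lit 0x1c0701aca1)) (.leaf (nat_lit 0x200301ace1))) (.node 1 (.leaf (nat_lit 0x1c0701acb1)) (.leaf (nat_lit 0x1c0801acc1)))))))) (.node 32 (.node 16 (.node 8 (.node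 4 (.node 2 (.node 1 (.leaf (nat_lit 0x1c0301acf1)) (.leaf (nat_lit 0x1c0601acf1))) (.node 1 (.leaf (nat_lit 0x1c0701acf1)) (.leaf (nat_lit 0x200801aef1)))) (.node 2 (.node 1 (.leaf (nat_lit 0x1c0701ad01)) (.leaf (nat_lit 0x1c0301ad11))) (.node 1 (.leaf (nat_lit 0x1c0801ad11)) (.leaf (nat_lit 0x1c0401ad21))))) (.node 4 (.node 2 (.node 1 (.leaf (nat_lit 0x1c0801ad21)) (.leaf (nat_lit 0x1c0501ad41))) (.node 1 (.leaf (nat_lit 0x200801af61)) (.leaf (nat_lit 0x1c0701ad41)))) (.node 2 (.node 1 (.leaf (nat_lit 0x1c0301ad51)) (.leaf (nat_lit 0x1c0801ad51))) (.node 1 (.leaf (nat_lit 0x2003027b21)) (.leaf (nat_lit 0x1c0801ad71)))))) (.node 8 (.node 4 (.node 2 (.node 1 (.leaf (nat_lit 0x200801afc1)) (.leaf (nat_lit 0x1c0701ad91))) (.node 1 (.leaf (nat_lit 0x200701ada1)) (.leaf (nat_lit 0x1c0301adb1)))) (.node 2 (.node 1 (.leaf (nat_lit 0x1c0801adb1)) (.leaf (nat_lit 0x1c0201adc1))) (.node 1 (.leaf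 (nat_lit 0x1c0801adc1)) (.leaf (nat_lit 0x200701b031))))) (.node 4 (.node 2 (.node 1 (.leaf (nat_lit 0x1c0401ae01)) (.leaf (nat_lit 0x1c0601ae01))) (.node 1 (.leaf (nat_lit 0x1c0701ae01)) (.leaf (nat_lit 0x1c0801ae11)))) (.node 2 (.node 1 (.leaf (nat_lit 0x1c0301ae21)) (.leaf (nat_lit 0x1c0601ae21))) (.node 1 (.leaf (nat_lit 0x1c0701ae21)) (.leaf (nat_lit 0x200001aef1))))))) (.node 16 (.node 8 (.node 4 (.node 2 (.node 1 (.leaf (nat_lit 0x1c0701ae31)) (.leaf (nat_lit 0x1c0301ae41))) (.node 1 (.leaf (nat_lit 0x1c0801ae41)) (.leaf (nat_lit 0x1c0801ae51)))) (.node 2 (.node 1 (.leaf (nat_lit 0x1c0501ae71)) (.leaf (nat_lit 0x200001af61))) (.node 1 (.leaf (nat_lit 0x1c0701ae71)) (.leaf (nat_lit 0x1c0301ae81))))) (.node 4 (.node 2 (.node 1 (.leaf (nat_lit 0x1c0801ae81)) (.leaf (nat_lit 0x200001afa1))) (.node 1 (.leaf (nat_lit 0x1c0801aea1)) (.leaf (nat_lit 0x1c0601aec1)))) (.node 2 (.node 1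 (.leaf (nat_lit 0x1c0701aec1)) (.leaf (nat_lit 0x1c0501aed1))) (.node 1 (.leaf (nat_lit 0x2001026a71)) (.leaf (nat_lit 0x1c0701aed1)))))) (.node 8 (.node 4 (.node 2 (.node 1 (.leaf (nat_lit 0x1c0301aee1)) (.leaf (nat_lit 0x1c0801aee1))) (.node 1 (.leaf (nat_lit 0x1e01026ab1)) (.leaf (nat_lit 0x1c0301af01)))) (.node 2 (.node 1 (.leaf (nat_lit 0x1c0801af01)) (.leaf (nat_lit 0x1c0401af11))) (.node 1 (.leaf (nat_lit 0x1c0801af11)) (.leaf (nat_lit 0x1c0501af31))))) (.node 4 (.node 2 (.node 1 (.leaf (nat_lit 0x1c0801af31)) (.leaf (nat_lit 0x1c0701af41))) (.node 1 (.leaf (nat_lit 0x200101afc1)) (.leaf (nat_lit 0x1c0701af51)))) (.node 2 (.node 1 (.leaf (nat_lit 0x1e0101afe1)) (.leaf (nat_lit 0x1c0301af71))) (.node 1 (.leaf (nat_lit 0x1c0801af71)) (.leaf (nat_lit 0x1c0201af81))))))))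

noncomputable def oT66 : Tree :=
  .node 64 (.node 32 (.node 16 (.node 8 (.node 4 (.node 2 (.node 1 (.leaf (nat_lit 0x1c0801af81)) (.leaf (nat_lit 0x200801afa1))) (.node 1 (.leaf (nat_lit 0x2002026bb1)) (.leaf (nat_lit 0x1e02026bc1)))) (.node 2 (.node 1 (.leaf (nat_lit 0x1c0301afd1)) (.leaf (nat_lit 0x1c0801afd1))) (.node 1 (.leaf (nat_lit 0x1c0201cf91)) (.leaf (nat_lit 0x1e0801afe1))))) (.node 4 (.node 2 (.node 1 (.leaf (nat_lit 0x1c0201aff1)) (.leaf (nat_lit 0x1c0801aff1))) (.node 1 (.leaf (nat_lit 0x1c0101b011)) (.leaf (nat_lit 0x1c0801b011)))) (.node 2 (.node 1 (.leaf (nat_lit 0x1c0701b021)) (.leaf (nat_lit 0x1c0501b041))) (.node 1 (.leaf (nat_lit 0x1c0701b041)) (.leaf (nat_lit 0x1c0601b051)))))) (.node 8 (.node 4 (.node 2 (.node 1 (.leaf (nat_lit 0x1c0701b051)) (.leaf (nat_lit 0x1c0301b061))) (.node 1 (.leaf (nat_lit 0x1c0801b061)) (.leaf (nat_lit 0x1e05027a51)))) (.node 2 (.node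 1 (.leaf (nat_lit 0x1c0701b071)) (.leaf (nat_lit 0x1c0801b081))) (.node 1 (.leaf (nat_lit 0x1c0601b0b1)) (.leaf (nat_lit 0x1c0701b0b1))))) (.node 4 (.node 2 (.node 1 (.leaf (nat_lit 0x1c0401f0a1)) (.leaf (nat_lit 0x1c0701b0c1))) (.node 1 (.leaf (nat_lit 0x1c0301b0d1)) (.leaf (nat_lit 0x1c0801b0d1)))) (.node 2 (.node 1 (.leaf (nat_lit 0x1c0401b0e1)) (.leaf (nat_lit 0x1c0801b0e1))) (.node 1 (.leaf (nat_lit 0x1c0501b101)) (.leaf (nat_lit 0x1c0201f0a1))))))) (.node 16 (.node 8 (.node 4 (.node 2 (.node 1 (.leaf (nat_lit 0x1c0701b101)) (.leaf (nat_lit 0x1c0801b111))) (.node 1 (.leaf (nat_lit 0x1e04028501)) (.leaf (nat_lit 0x1c0801b131)))) (.node 2 (.node 1 (.leaf (nat_lit 0x1c0101f0c1)) (.leaf (nat_lit 0x1c0701b151))) (.node 1 (.leaf (nat_lit 0x1e01028501)) (.leaf (nat_lit 0x1c0301b171))))) (.node 4 (.node 2 (.node 1 (.leaf (nat_lit 0x1c0801b171)) (.leaf (nat_lit 0x1c0201b181))) (.node 1 (.leaf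 (nat_lit 0x1c0801b181)) (.leaf (nat_lit 0x200801b1a1)))) (.node 2 (.node 1 (.leaf (nat_lit 0x1c0401b1c1)) (.leaf (nat_lit 0x1c0601b1c1))) (.node 1 (.leaf (nat_lit 0x1c0701b1c1)) (.leaf (nat_lit 0x1c0801b1d1)))))) (.node 8 (.node 4 (.node 2 (.node 1 (.leaf (nat_lit 0x1c0601b1e1)) (.leaf (nat_lit 0x1c0701b1e1))) (.node 1 (.leaf (nat_lit 0x220201b251)) (.leaf (nat_lit 0x1c0701b1f1)))) (.node 2 (.node 1 (.leaf (nat_lit 0x1c0301b201)) (.leaf (nat_lit 0x1c0801b201))) (.node 1 (.leaf (nat_lit 0x1c0801b211)) (.leaf (nat_lit 0x1c0501b231))))) (.node 4 (.node 2 (.node 1 (.leaf (nat_lit 0x200801b4d1)) (.leaf (nat_lit 0x1c0701b231))) (.node 1 (.leaf (nat_lit 0x1c0801b241)) (.leaf (nat_lit 0x2003028421)))) (.node 2 (.node 1 (.leaf (nat_lit 0x1c0801b261)) (.leaf (nat_lit 0x1c0601b281))) (.node 1 (.leaf (nat_lit 0x1c0701b281)) (.leaf (nat_lit 0x1c0501b291)))))))) (.node 32 (.node 16 (.node 8 (.node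 4 (.node 2 (.node 1 (.leaf (nat_lit 0x220801b561)) (.leaf (nat_lit 0x1c0701b291))) (.node 1 (.leaf (nat_lit 0x1c0301b2a1)) (.leaf (nat_lit 0x1c0801b2a1)))) (.node 2 (.node 1 (.leaf (nat_lit 0x20030287e1)) (.leaf (nat_lit 0x1c0301b2c1))) (.node 1 (.leaf (nat_lit 0x1c0801b2c1)) (.leaf (nat_lit 0x1c0401b2d1))))) (.node 4 (.node 2 (.node 1 (.leaf (nat_lit 0x1c0801b2d1)) (.leaf (nat_lit 0x1c0501b2f1))) (.node 1 (.leaf (nat_lit 0x1c0801b2f1)) (.leaf (nat_lit 0x1c0701b301)))) (.node 2 (.node 1 (.leaf (nat_lit 0x220301b841)) (.leaf (nat_lit 0x1c0701b311))) (.node 1 (.leaf (nat_lit 0x20030288c1)) (.leaf (nat_lit 0x1c0301b331)))))) (.node 8 (.node 4 (.node 2 (.node 1 (.leaf (nat_lit 0x1c0801b331)) (.leaf (nat_lit 0x1c0201b341))) (.node 1 (.leaf (nat_lit 0x1c0801b341)) (.leaf (nat_lit 0x200801b361)))) (.node 2 (.node 1 (.leaf (nat_lit 0x200301b891)) (.leaf (nat_lit 0x2003028931))) (.node 1 (.leaf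 (nat_lit 0x1c0301b391)) (.leaf (nat_lit 0x1c0801b391))))) (.node 4 (.node 2 (.node 1 (.leaf (nat_lit 0x1e0701b8d1)) (.leaf (nat_lit 0x200801b3a1))) (.node 1 (.leaf (nat_lit 0x1c0201b3b1)) (.leaf (nat_lit 0x1c0801b3b1)))) (.node 2 (.node 1 (.leaf (nat_lit 0x1c0101b3d1)) (.leaf (nat_lit 0x1c0801b3d1))) (.node 1 (.leaf (nat_lit 0x1c0701b3e1)) (.leaf (nat_lit 0x1c0301b401))))))) (.node 16 (.node 8 (.node 4 (.node 2 (.node 1 (.leaf (nat_lit 0x1c0601b401)) (.leaf (nat_lit 0x1c0701b401))) (.node 1 (.leaf (nat_lit 0x2000026e71)) (.leaf (nat_lit 0x1c0701b411)))) (.node 2 (.node 1 (.leaf (nat_lit 0x1c0801b421)) (.leaf (nat_lit 0x1c0601b441))) (.node 1 (.leaf (nat_lit 0x1c0701b441)) (.leaf (nat_lit 0x1c0501b451))))) (.node 4 (.node 2 (.node 1 (.leaf (nat_lit 0x2003028aa1)) (.leaf (nat_lit 0x1c0701b451))) (.node 1 (.leaf (nat_lit 0x1c0301b461)) (.leaf (nat_lit 0x1c0801b461)))) (.node 2 (.node 1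 (.leaf (nat_lit 0x200001b5a1)) (.leaf (nat_lit 0x1c0301b481))) (.node 1 (.leaf (nat_lit 0x1c0801b481)) (.leaf (nat_lit 0x1c0401b491)))))) (.node 8 (.node 4 (.node 2 (.node 1 (.leaf (nat_lit 0x1c0801b491)) (.leaf (nat_lit 0x1c0701b4b1))) (.node 1 (.leaf (nat_lit 0x200301b981)) (.leaf (nat_lit 0x1c0701b4c1)))) (.node 2 (.node 1 (.leaf (nat_lit 0x2003028c01)) (.leaf (nat_lit 0x1c0301b4e1))) (.node 1 (.leaf (nat_lit 0x1c0801b4e1)) (.leaf (nat_lit 0x1c0201b4f1))))) (.node 4 (.node 2 (.node 1 (.leaf (nat_lit 0x1c0801b4f1)) (.leaf (nat_lit 0x2207028701))) (.node 1 (.leaf (nat_lit 0x1c0501b531)) (.leaf (nat_lit 0x2007028c91)))) (.node 2 (.node 1 (.leaf (nat_lit 0x1c0701b531)) (.leaf (nat_lit 0x1c0301b541))) (.node 1 (.leaf (nat_lit 0x1c0801b541)) (.leaf (nat_lit 0x2204028111))))))))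

noncomputable def oT67 : Tree :=
  .node 64 (.node 32 (.node 16 (.node 8 (.node 4 (.node 2 (.node 1 (.leaf (nat_lit 0x1c0701b551)) (.leaf (nat_lit 0x200401b5a1))) (.node 1 (.leaf (nat_lit 0x1c0301b571)) (.leaf (nat_lit 0x1c0801b571)))) (.node 2 (.node 1 (.leaf (nat_lit 0x1c0201b581)) (.leaf (nat_lit 0x1c0401b581))) (.node 1 (.leaf (nat_lit 0x1c0801b581)) (.leaf (nat_lit 0x1e01027111))))) (.node 4 (.node 2 (.node 1 (.leaf (nat_lit 0x200801b5a1)) (.leaf (nat_lit 0x1c0401b5b1))) (.node 1 (.leaf (nat_lit 0x1c0801b5b1)) (.leaf (nat_lit 0x1c0501b5d1)))) (.node 2 (.node 1 (.leaf (nat_lit 0x1c0801b5d1)) (.leaf (nat_lit 0x1c0701b5e1))) (.node 1 (.leaf (nat_lit 0x1c0601b5f1)) (.leaf (nat_lit 0x1c0801b5f1)))))) (.node 8 (.node 4 (.node 2 (.node 1 (.leaf (nat_lit 0x1c0701b601)) (.leaf (nat_lit 0x2204028231))) (.node 1 (.leaf (nat_lit 0x2004028241)) (.leaf (nat_lit 0x1c0301b631)))) (.node 2 (.node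 1 (.leaf (nat_lit 0x1c0801b631)) (.leaf (nat_lit 0x200701bab1))) (.node 1 (.leaf (nat_lit 0x220801b641)) (.leaf (nat_lit 0x1c0201b651))))) (.node 4 (.node 2 (.node 1 (.leaf (nat_lit 0x1c0801b651)) (.leaf (nat_lit 0x1c0101b671))) (.node 1 (.leaf (nat_lit 0x1c0801b671)) (.leaf (nat_lit 0x1c0701b681)))) (.node 2 (.node 1 (.leaf (nat_lit 0x20040282e1)) (.leaf (nat_lit 0x200301b6b1))) (.node 1 (.leaf (nat_lit 0x200801b6b1)) (.leaf (nat_lit 0x1c0201b6c1))))))) (.node 16 (.node 8 (.node 4 (.node 2 (.node 1 (.leaf (nat_lit 0x1c0401b6c1)) (.leaf (nat_lit 0x1c0801b6c1))) (.node 1 (.leaf (nat_lit 0x20030272c1)) (.leaf (nat_lit 0x2207029031)))) (.node 2 (.node 1 (.leaf (nat_lit 0x1c0101b701)) (.leaf (nat_lit 0x1c0801b701))) (.node 1 (.leaf (nat_lit 0x1c0701b711)) (.leaf (nat_lit 0x1c0001b721))))) (.node 4 (.node 2 (.node 1 (.leaf (nat_lit 0x1c0801b721)) (.leaf (nat_lit 0x1c0701b731))) (.node 1 (.leaf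 (nat_lit 0x1c0301b7a1)) (.leaf (nat_lit 0x1c0501f0e1)))) (.node 2 (.node 1 (.leaf (nat_lit 0x1c0201b7c1)) (.leaf (nat_lit 0x1c0101b7d1))) (.node 1 (.leaf (nat_lit 0x200801b981)) (.leaf (nat_lit 0x1c0501b801)))))) (.node 8 (.node 4 (.node 2 (.node 1 (.leaf (nat_lit 0x200801b9e1)) (.leaf (nat_lit 0x1c0701b801))) (.node 1 (.leaf (nat_lit 0x1c0801b811)) (.leaf (nat_lit 0x200801ba21)))) (.node 2 (.node 1 (.leaf (nat_lit 0x2007029121)) (.leaf (nat_lit 0x200801dba1))) (.node 1 (.leaf (nat_lit 0x1c0301b851)) (.leaf (nat_lit 0x1e0401efe1))))) (.node 4 (.node 2 (.node 1 (.leaf (nat_lit 0x1c0201b871)) (.leaf (nat_lit 0x1c0101b881))) (.node 1 (.leaf (nat_lit 0x1e08029191)) (.leaf (nat_lit 0x1e080291c1)))) (.node 2 (.node 1 (.leaf (nat_lit 0x1e030291c1)) (.leaf (nat_lit 0x1c0201b8b1))) (.node 1 (.leaf (nat_lit 0x1c0401b8b1)) (.leaf (nat_lit 0x1c0801b8b1)))))))) (.node 32 (.node 16 (.node 8 (.node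 4 (.node 2 (.node 1 (.leaf (nat_lit 0x1c0401f101)) (.leaf (nat_lit 0x1e0401f111))) (.node 1 (.leaf (nat_lit 0x1c0101b8f1)) (.leaf (nat_lit 0x1c0801b8f1)))) (.node 2 (.node 1 (.leaf (nat_lit 0x1c0701b901)) (.leaf (nat_lit 0x1c0001b911))) (.node 1 (.leaf (nat_lit 0x1c0801b911)) (.leaf (nat_lit 0x1c0701b921))))) (.node 4 (.node 2 (.node 1 (.leaf (nat_lit 0x1c0501b941)) (.leaf (nat_lit 0x1e07029281))) (.node 1 (.leaf (nat_lit 0x1c0701b941)) (.leaf (nat_lit 0x1c0801b951)))) (.node 2 (.node 1 (.leaf (nat_lit 0x1e0701dd11)) (.leaf (nat_lit 0x20070292b1))) (.node 1 (.leaf (nat_lit 0x1e0201dd11)) (.leaf (nat_lit 0x1c0301b991)))))) (.node 8 (.node 4 (.node 2 (.node 1 (.leaf (nat_lit 0x1e020292f1)) (.leaf (nat_lit 0x1c0201b9b1))) (.node 1 (.leaf (nat_lit 0x1c0101b9c1)) (.leaf (nat_lit 0x1c0401b9d1)))) (.node 2 (.node 1 (.leaf (nat_lit 0x2007029351)) (.leaf (nat_lit 0x1c0701b9d1))) (.node 1 (.leaf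 (nat_lit 0x1e03029381)) (.leaf (nat_lit 0x1c0301b9f1))))) (.node 4 (.node 2 (.node 1 (.leaf (nat_lit 0x1c0801b9f1)) (.leaf (nat_lit 0x1c0201ba01))) (.node 1 (.leaf (nat_lit 0x1c0801ba01)) (.leaf (nat_lit 0x20070293e1)))) (.node 2 (.node 1 (.leaf (nat_lit 0x1e030293f1)) (.leaf (nat_lit 0x1c0301ba31))) (.node 1 (.leaf (nat_lit 0x1c0401e891)) (.leaf (nat_lit 0x1c0201ba51))))))) (.node 16 (.node 8 (.node 4 (.node 2 (.node 1 (.leaf (nat_lit 0x1c0101ba61)) (.leaf (nat_lit 0x20020293e1))) (.node 1 (.leaf (nat_lit 0x2002029471)) (.leaf (nat_lit 0x200701dba1)))) (.node 2 (.node 1 (.leaf (nat_lit 0x1c0201ba91)) (.leaf (nat_lit 0x1c0401ba91))) (.node 1 (.leaf (nat_lit 0x1c0801ba91)) (.leaf (nat_lit 0x1e03029421))))) (.node 4 (.node 2 (.node 1 (.leaf (nat_lit 0x200801bab1)) (.leaf (nat_lit 0x1c0101bad1))) (.node 1 (.leaf (nat_lit 0x1c0801bad1)) (.leaf (nat_lit 0x1c0701bae1)))) (.node 2 (.node 1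 (.leaf (nat_lit 0x1c0001baf1)) (.leaf (nat_lit 0x1c0801baf1))) (.node 1 (.leaf (nat_lit 0x1c0701bb01)) (.leaf (nat_lit 0x20080295a1)))))) (.node 8 (.node 4 (.node 2 (.node 1 (.leaf (nat_lit 0x1e07029191)) (.leaf (nat_lit 0x2007028f91))) (.node 1 (.leaf (nat_lit 0x2007028fa1)) (.leaf (nat_lit 0x20070295c1)))) (.node 2 (.node 1 (.leaf (nat_lit 0x1c0101bb51)) (.leaf (nat_lit 0x1c0401bb51))) (.node 1 (.leaf (nat_lit 0x1c0801bb51)) (.leaf (nat_lit 0x1c0801bb61))))) (.node 4 (.node 2 (.node 1 (.leaf (nat_lit 0x1c0701bb71)) (.leaf (nat_lit 0x20020294f1))) (.node 1 (.leaf (nat_lit 0x2207029641)) (.leaf (nat_lit 0x20030291f1)))) (.node 2 (.node 1 (.leaf (nat_lit 0x1c0001bba1)) (.leaf (nat_lit 0x1c0801bba1))) (.node 1 (.leaf (nat_lit 0x1c0701bbb1)) (.leaf (nat_lit 0x1c0801bbd1))))))))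

noncomputable def oT68 : Tree :=
  .node 64 (.node 32 (.node 16 (.node 8 (.node 4 (.node 2 (.node 1 (.leaf (nat_lit 0x1c0701bbe1)) (.leaf (nat_lit 0x1c0301bbf1))) (.node 1 (.leaf (nat_lit 0x110201bc02)) (.leaf (nat_lit 0x110401bc52)))) (.node 2 (.node 1 (.leaf (nat_lit 0x110701bc52)) (.leaf (nat_lit 0x110501bc92))) (.node 1 (.leaf (nat_lit 0x110701bc92)) (.leaf (nat_lit 0x110401bca2))))) (.node 4 (.node 2 (.node 1 (.leaf (nat_lit 0x110801bcb2)) (.leaf (nat_lit 0x110401bcf2))) (.node 1 (.leaf (nat_lit 0x110401bd12)) (.leaf (nat_lit 0x110601bd22)))) (.node 2 (.node 1 (.leaf (nat_lit 0x110701bd22)) (.leaf (nat_lit 0x110701bd32))) (.node 1 (.leaf (nat_lit 0x110801bd42)) (.leaf (nat_lit 0x110501bd62)))))) (.node 8 (.node 4 (.node 2 (.node 1 (.leaf (nat_lit 0x110701bd62)) (.leaf (nat_lit 0x110301bd72))) (.node 1 (.leaf (nat_lit 0x1c0401bdb1)) (.leaf (nat_lit 0x1c0601bdb1)))) (.node 2 (.node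 1 (.leaf (nat_lit 0x1c0701bdb1)) (.leaf (nat_lit 0x1c0601bdd1))) (.node 1 (.leaf (nat_lit 0x1c0701bdd1)) (.leaf (nat_lit 0x1c0801bdf1))))) (.node 4 (.node 2 (.node 1 (.leaf (nat_lit 0x1c0501be21)) (.leaf (nat_lit 0x1c0801be31))) (.node 1 (.leaf (nat_lit 0x1c0601be51)) (.leaf (nat_lit 0x1c0301be81)))) (.node 2 (.node 1 (.leaf (nat_lit 0x1c0601be81)) (.leaf (nat_lit 0x1c0501bea1))) (.node 1 (.leaf (nat_lit 0x1c0401bec1)) (.leaf (nat_lit 0x1c0701bea1))))))) (.node 16 (.node 8 (.node 4 (.node 2 (.node 1 (.leaf (nat_lit 0x1c0301beb1)) (.leaf (nat_lit 0x1c0801beb1))) (.node 1 (.leaf (nat_lit 0x1c0201f261)) (.leaf (nat_lit 0x1c0801bed1)))) (.node 2 (.node 1 (.leaf (nat_lit 0x1e080264b1)) (.leaf (nat_lit 0x1c0701bef1))) (.node 1 (.leaf (nat_lit 0x1e080263f1)) (.leaf (nat_lit 0x1c0301bf11))))) (.node 4 (.node 2 (.node 1 (.leaf (nat_lit 0x1c0801bf11)) (.leaf (nat_lit 0x1c0201bf21))) (.node 1 (.leaf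 (nat_lit 0x1c0801bf21)) (.leaf (nat_lit 0x110801bf62)))) (.node 2 (.node 1 (.leaf (nat_lit 0x110401bf82)) (.leaf (nat_lit 0x110601bf82))) (.node 1 (.leaf (nat_lit 0x110701bf82)) (.leaf (nat_lit 0x110801bf92)))))) (.node 8 (.node 4 (.node 2 (.node 1 (.leaf (nat_lit 0x110601bfa2)) (.leaf (nat_lit 0x110701bfa2))) (.node 1 (.leaf (nat_lit 0x1c0301bfe1)) (.leaf (nat_lit 0x110701bfb2)))) (.node 2 (.node 1 (.leaf (nat_lit 0x110801bfc2)) (.leaf (nat_lit 0x110801c002))) (.node 1 (.leaf (nat_lit 0x110801c022)) (.leaf (nat_lit 0x110501c042))))) (.node 4 (.node 2 (.node 1 (.leaf (nat_lit 0x110701c042)) (.leaf (nat_lit 0x110401c052))) (.node 1 (.leaf (nat_lit 0x110601c052)) (.leaf (nat_lit 0x110701c052)))) (.node 2 (.node 1 (.leaf (nat_lit 0x110301c062)) (.leaf (nat_lit 0x110801c062))) (.node 1 (.leaf (nat_lit 0x110601c072)) (.leaf (nat_lit 0x110701c072)))))))) (.node 32 (.node 16 (.node 8 (.node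 4 (.node 2 (.node 1 (.leaf (nat_lit 0x1c0301c0b1)) (.leaf (nat_lit 0x110701c082))) (.node 1 (.leaf (nat_lit 0x110801c092)) (.leaf (nat_lit 0x110301c0c2)))) (.node 2 (.node 1 (.leaf (nat_lit 0x110601c0c2)) (.leaf (nat_lit 0x110701c0c2))) (.node 1 (.leaf (nat_lit 0x110701c0d2)) (.leaf (nat_lit 0x110301c0e2))))) (.node 4 (.node 2 (.node 1 (.leaf (nat_lit 0x110801c0e2)) (.leaf (nat_lit 0x110401c0f2))) (.node 1 (.leaf (nat_lit 0x110801c0f2)) (.leaf (nat_lit 0x110501c112)))) (.node 2 (.node 1 (.leaf (nat_lit 0x1c0401c131)) (.leaf (nat_lit 0x110701c112))) (.node 1 (.leaf (nat_lit 0x110301c122)) (.leaf (nat_lit 0x110801c122)))))) (.node 8 (.node 4 (.node 2 (.node 1 (.leaf (nat_lit 0x1c0201eda1)) (.leaf (nat_lit 0x110801c142))) (.node 1 (.leaf (nat_lit 0x110701c162)) (.leaf (nat_lit 0x1e0701c171)))) (.node 2 (.node 1 (.leaf (nat_lit 0x110301c182)) (.leaf (nat_lit 0x110801c182))) (.node 1 (.leaf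 (nat_lit 0x110201c192)) (.leaf (nat_lit 0x110801c192))))) (.node 4 (.node 2 (.node 1 (.leaf (nat_lit 0x1e07026071)) (.leaf (nat_lit 0x1c0801c1d1))) (.node 1 (.leaf (nat_lit 0x1c0801c1e1)) (.leaf (nat_lit 0x1c0301c201)))) (.node 2 (.node 1 (.leaf (nat_lit 0x1c0601c201)) (.leaf (nat_lit 0x1c0701c201))) (.node 1 (.leaf (nat_lit 0x1c0601ea81)) (.leaf (nat_lit 0x1c0701c211))))))) (.node 16 (.node 8 (.node 4 (.node 2 (.node 1 (.leaf (nat_lit 0x1c0801c221)) (.leaf (nat_lit 0x1c0501c241))) (.node 1 (.leaf (nat_lit 0x1e03026481)) (.leaf (nat_lit 0x1c0701c241)))) (.node 2 (.node 1 (.leaf (nat_lit 0x1c0301c251)) (.leaf (nat_lit 0x1c0801c251))) (.node 1 (.leaf (nat_lit 0x1e0301e121)) (.leaf (nat_lit 0x1c0801c271))))) (.node 4 (.node 2 (.node 1 (.leaf (nat_lit 0x1e030264b1)) (.leaf (nat_lit 0x1c0701c291))) (.node 1 (.leaf (nat_lit 0x1c0801c2b1)) (.leaf (nat_lit 0x1c0801c2c1)))) (.node 2 (.node 1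 (.leaf (nat_lit 0x1e0801c2e1)) (.leaf (nat_lit 0x1c0401c301))) (.node 1 (.leaf (nat_lit 0x1c0601c301)) (.leaf (nat_lit 0x1c0701c301)))))) (.node 8 (.node 4 (.node 2 (.node 1 (.leaf (nat_lit 0x1c0801c311)) (.leaf (nat_lit 0x1c0301c321))) (.node 1 (.leaf (nat_lit 0x1c0601c321)) (.leaf (nat_lit 0x1c0701c321)))) (.node 2 (.node 1 (.leaf (nat_lit 0x1c0601ea31)) (.leaf (nat_lit 0x1c0701c331))) (.node 1 (.leaf (nat_lit 0x1c0301c341)) (.leaf (nat_lit 0x1c0801c341))))) (.node 4 (.node 2 (.node 1 (.leaf (nat_lit 0x1c0801c351)) (.leaf (nat_lit 0x1c0501c371))) (.node 1 (.leaf (nat_lit 0x1e060296f1)) (.leaf (nat_lit 0x1c0701c371)))) (.node 2 (.node 1 (.leaf (nat_lit 0x1c0301c381)) (.leaf (nat_lit 0x1c0801c381))) (.node 1 (.leaf (nat_lit 0x1e0701c391)) (.leaf (nat_lit 0x1c0801c3a1))))))))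

noncomputable def oT69 : Tree :=
  .node 64 (.node 32 (.node 16 (.node 8 (.node 4 (.node 2 (.node 1 (.leaf (nat_lit 0x1c0601c3c1)) (.leaf (nat_lit 0x1c0701c3c1))) (.node 1 (.leaf (nat_lit 0x1c0501c3d1)) (.leaf (nat_lit 0x1c0401c3f1)))) (.node 2 (.node 1 (.leaf (nat_lit 0x1c0701c3d1)) (.leaf (nat_lit 0x1c0301c3e1))) (.node 1 (.leaf (nat_lit 0x1c0801c3e1)) (.leaf (nat_lit 0x1c0301ed91))))) (.node 4 (.node 2 (.node 1 (.leaf (nat_lit 0x1c0301c401)) (.leaf (nat_lit 0x1c0801c401))) (.node 1 (.leaf (nat_lit 0x1c0401c411)) (.leaf (nat_lit 0x1c0801c411)))) (.node 2 (.node 1 (.leaf (nat_lit 0x1c0501c431)) (.leaf (nat_lit 0x1c0801c431))) (.node 1 (.leaf (nat_lit 0x1e0501c461)) (.leaf (nat_lit 0x1c0701c451)))))) (.node 8 (.node 4 (.node 2 (.node 1 (.leaf (nat_lit 0x1e0401c4a1)) (.leaf (nat_lit 0x1c0301c471))) (.node 1 (.leaf (nat_lit 0x1c0801c471)) (.leaf (nat_lit 0x1c0201c481)))) (.node 2 (.node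 1 (.leaf (nat_lit 0x1c0801c481)) (.leaf (nat_lit 0x1e0801c4a1))) (.node 1 (.leaf (nat_lit 0x1e080297e1)) (.leaf (nat_lit 0x200701c4c1))))) (.node 4 (.node 2 (.node 1 (.leaf (nat_lit 0x1c0301c4d1)) (.leaf (nat_lit 0x1c0801c4d1))) (.node 1 (.leaf (nat_lit 0x20070297f1)) (.leaf (nat_lit 0x1e07026c01)))) (.node 2 (.node 1 (.leaf (nat_lit 0x1c0201c4f1)) (.leaf (nat_lit 0x1c0801c4f1))) (.node 1 (.leaf (nat_lit 0x1c0101c511)) (.leaf (nat_lit 0x1c0801c511))))))) (.node 16 (.node 8 (.node 4 (.node 2 (.node 1 (.leaf (nat_lit 0x1c0701c521)) (.leaf (nat_lit 0x1c0301c541))) (.node 1 (.leaf (nat_lit 0x1c0801c541)) (.leaf (nat_lit 0x1c0201c551)))) (.node 2 (.node 1 (.leaf (nat_lit 0x1c0801c551)) (.leaf (nat_lit 0x1e0801c571))) (.node 1 (.leaf (nat_lit 0x1c0601c591)) (.leaf (nat_lit 0x1c0701c591))))) (.node 4 (.node 2 (.node 1 (.leaf (nat_lit 0x1c0501c5a1)) (.leaf (nat_lit 0x1e0401c5c1))) (.node 1 (.leaf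 (nat_lit 0x1c0701c5a1)) (.leaf (nat_lit 0x1c0301c5b1)))) (.node 2 (.node 1 (.leaf (nat_lit 0x1c0801c5b1)) (.leaf (nat_lit 0x1e0701c5c1))) (.node 1 (.leaf (nat_lit 0x1c0801c5d1)) (.leaf (nat_lit 0x2004029b81)))))) (.node 8 (.node 4 (.node 2 (.node 1 (.leaf (nat_lit 0x1c0701c5f1)) (.leaf (nat_lit 0x200401c641))) (.node 1 (.leaf (nat_lit 0x1c0301c611)) (.leaf (nat_lit 0x1c0801c611)))) (.node 2 (.node 1 (.leaf (nat_lit 0x1c0201c621)) (.leaf (nat_lit 0x1c0801c621))) (.node 1 (.leaf (nat_lit 0x200801c641)) (.leaf (nat_lit 0x1e040297e1))))) (.node 4 (.node 2 (.node 1 (.leaf (nat_lit 0x1e04026bd1)) (.leaf (nat_lit 0x1c0301c671))) (.node 1 (.leaf (nat_lit 0x1c0801c671)) (.leaf (nat_lit 0x1e040261f1)))) (.node 2 (.node 1 (.leaf (nat_lit 0x200801c681)) (.leaf (nat_lit 0x1c0201c691))) (.node 1 (.leaf (nat_lit 0x1c0801c691)) (.leaf (nat_lit 0x1c0101c6b1)))))))) (.node 32 (.node 16 (.node 8 (.node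 4 (.node 2 (.node 1 (.leaf (nat_lit 0x1c0801c6b1)) (.leaf (nat_lit 0x1c0701c6c1))) (.node 1 (.leaf (nat_lit 0x1c0301c6e1)) (.leaf (nat_lit 0x1c0601c6e1)))) (.node 2 (.node 1 (.leaf (nat_lit 0x1c0701c6e1)) (.leaf (nat_lit 0x1c0501ed41))) (.node 1 (.leaf (nat_lit 0x1c0701c6f1)) (.leaf (nat_lit 0x1c0801c701))))) (.node 4 (.node 2 (.node 1 (.leaf (nat_lit 0x1c0601c721)) (.leaf (nat_lit 0x1c0701c721))) (.node 1 (.leaf (nat_lit 0x1c0501c731)) (.leaf (nat_lit 0x1e0401c751)))) (.node 2 (.node 1 (.leaf (nat_lit 0x1c0701c731)) (.leaf (nat_lit 0x1c0301c741))) (.node 1 (.leaf (nat_lit 0x1c0801c741)) (.leaf (nat_lit 0x1e0701c751)))))) (.node 8 (.node 4 (.node 2 (.node 1 (.leaf (nat_lit 0x1c0301c761)) (.leaf (nat_lit 0x1c0801c761))) (.node 1 (.leaf (nat_lit 0x1c0401c771)) (.leaf (nat_lit 0x1c0801c771)))) (.node 2 (.node 1 (.leaf (nat_lit 0x2004029ce1)) (.leaf (nat_lit 0x1c0701c7a1))) (.node 1 (.leaf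 (nat_lit 0x200001c911)) (.leaf (nat_lit 0x1c0301c7c1))))) (.node 4 (.node 2 (.node 1 (.leaf (nat_lit 0x1c0801c7c1)) (.leaf (nat_lit 0x1c0201c7d1))) (.node 1 (.leaf (nat_lit 0x1c0801c7d1)) (.leaf (nat_lit 0x200801c7f1)))) (.node 2 (.node 1 (.leaf (nat_lit 0x1c0501c811)) (.leaf (nat_lit 0x1c0401ebe1))) (.node 1 (.leaf (nat_lit 0x1c0701c811)) (.leaf (nat_lit 0x1c0301c821))))))) (.node 16 (.node 8 (.node 4 (.node 2 (.node 1 (.leaf (nat_lit 0x1c0801c821)) (.leaf (nat_lit 0x1e0501c841))) (.node 1 (.leaf (nat_lit 0x1c0701c831)) (.leaf (nat_lit 0x1e0401c881)))) (.node 2 (.node 1 (.leaf (nat_lit 0x1c0301c851)) (.leaf (nat_lit 0x1c0801c851))) (.node 1 (.leaf (nat_lit 0x1c0201c861)) (.leaf (nat_lit 0x1c0401c861))))) (.node 4 (.node 2 (.node 1 (.leaf (nat_lit 0x1c0801c861)) (.leaf (nat_lit 0x1c0701ec51))) (.node 1 (.leaf (nat_lit 0x1e0801c881)) (.leaf (nat_lit 0x1c0401c891)))) (.node 2 (.node 1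 (.leaf (nat_lit 0x1c0801c891)) (.leaf (nat_lit 0x1c0501c8b1))) (.node 1 (.leaf (nat_lit 0x1c0801c8b1)) (.leaf (nat_lit 0x1c0601c8d1)))))) (.node 8 (.node 4 (.node 2 (.node 1 (.leaf (nat_lit 0x1c0801c8d1)) (.leaf (nat_lit 0x200802a131))) (.node 1 (.leaf (nat_lit 0x200101c981)) (.leaf (nat_lit 0x1c0301c901)))) (.node 2 (.node 1 (.leaf (nat_lit 0x1c0801c901)) (.leaf (nat_lit 0x1e0101c9b1))) (.node 1 (.leaf (nat_lit 0x200101c9c1)) (.leaf (nat_lit 0x1c0201c921))))) (.node 4 (.node 2 (.node 1 (.leaf (nat_lit 0x1c0801c921)) (.leaf (nat_lit 0x1c0101c941))) (.node 1 (.leaf (nat_lit 0x1c0801c941)) (.leaf (nat_lit 0x1c0701c951)))) (.node 2 (.node 1 (.leaf (nat_lit 0x200201d8e1)) (.leaf (nat_lit 0x1e0202a7f1))) (.node 1 (.leaf (nat_lit 0x200702a1e1)) (.leaf (nat_lit 0x1c0201c991))))))))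

noncomputable def oT70 : Tree :=
  .node 64 (.node 32 (.node 16 (.node 8 (.node 4 (.node 2 (.node 1 (.leaf (nat_lit 0x1c0401c991)) (.leaf (nat_lit 0x1c0801c991))) (.node 1 (.leaf (nat_lit 0x1c0301d941)) (.leaf (nat_lit 0x1e0202a881)))) (.node 2 (.node 1 (.leaf (nat_lit 0x1c0101c9d1)) (.leaf (nat_lit 0x1c0801c9d1))) (.node 1 (.leaf (nat_lit 0x1c0701c9e1)) (.leaf (nat_lit 0x1c0001c9f1))))) (.node 4 (.node 2 (.node 1 (.leaf (nat_lit 0x1c0801c9f1)) (.leaf (nat_lit 0x1c0701ca01))) (.node 1 (.leaf (nat_lit 0x110501ca22)) (.leaf (nat_lit 0x110401ca32)))) (.node 2 (.node 1 (.leaf (nat_lit 0x110601ca32)) (.leaf (nat_lit 0x110701ca32))) (.node 1 (.leaf (nat_lit 0x110801ca42)) (.leaf (nat_lit 0x110601ca52)))))) (.node 8 (.node 4 (.node 2 (.node 1 (.leaf (nat_lit 0x110701ca52)) (.leaf (nat_lit 0x1c0201ed61))) (.node 1 (.leaf (nat_lit 0x110701ca62)) (.leaf (nat_lit 0x110801ca72)))) (.node 2 (.node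 1 (.leaf (nat_lit 0x110301caa2)) (.leaf (nat_lit 0x110601caa2))) (.node 1 (.leaf (nat_lit 0x110701caa2)) (.leaf (nat_lit 0x1c0301ea61))))) (.node 4 (.node 2 (.node 1 (.leaf (nat_lit 0x110701cab2)) (.leaf (nat_lit 0x110301cac2))) (.node 1 (.leaf (nat_lit 0x110801cac2)) (.leaf (nat_lit 0x110801cad2)))) (.node 2 (.node 1 (.leaf (nat_lit 0x110501caf2)) (.leaf (nat_lit 0x1e0101cb51))) (.node 1 (.leaf (nat_lit 0x110701caf2)) (.leaf (nat_lit 0x110301cb02))))))) (.node 16 (.node 8 (.node 4 (.node 2 (.node 1 (.leaf (nat_lit 0x110801cb02)) (.leaf (nat_lit 0x1e0101cb91))) (.node 1 (.leaf (nat_lit 0x110801cb22)) (.leaf (nat_lit 0x110801cb62)))) (.node 2 (.node 1 (.leaf (nat_lit 0x110801cb72)) (.leaf (nat_lit 0x1e0801cb91))) (.node 1 (.leaf (nat_lit 0x110401cbb2)) (.leaf (nat_lit 0x110601cbb2))))) (.node 4 (.node 2 (.node 1 (.leaf (nat_lit 0x110301cbc2)) (.leaf (nat_lit 0x110601cbc2))) (.node 1 (.leaf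 (nat_lit 0x110701cbc2)) (.leaf (nat_lit 0x1c0301ea91)))) (.node 2 (.node 1 (.leaf (nat_lit 0x110701cbd2)) (.leaf (nat_lit 0x110801cbe2))) (.node 1 (.leaf (nat_lit 0x110501cc02)) (.leaf (nat_lit 0x1e0202aae1)))))) (.node 8 (.node 4 (.node 2 (.node 1 (.leaf (nat_lit 0x110701cc02)) (.leaf (nat_lit 0x110301cc12))) (.node 1 (.leaf (nat_lit 0x110801cc12)) (.leaf (nat_lit 0x1e0301df21)))) (.node 2 (.node 1 (.leaf (nat_lit 0x110801cc32)) (.leaf (nat_lit 0x110601cc52))) (.node 1 (.leaf (nat_lit 0x110701cc52)) (.leaf (nat_lit 0x110501cc62))))) (.node 4 (.node 2 (.node 1 (.leaf (nat_lit 0x1c0401cc81)) (.leaf (nat_lit 0x110701cc62))) (.node 1 (.leaf (nat_lit 0x110301cc72)) (.leaf (nat_lit 0x110801cc72)))) (.node 2 (.node 1 (.leaf (nat_lit 0x1c0301eac1)) (.leaf (nat_lit 0x110301cc92))) (.node 1 (.leaf (nat_lit 0x110801cc92)) (.leaf (nat_lit 0x110401cca2)))))))) (.node 32 (.node 16 (.node 8 (.node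 4 (.node 2 (.node 1 (.leaf (nat_lit 0x110801cca2)) (.leaf (nat_lit 0x110501ccc2))) (.node 1 (.leaf (nat_lit 0x110801ccc2)) (.leaf (nat_lit 0x1e08029821)))) (.node 2 (.node 1 (.leaf (nat_lit 0x110701cce2)) (.leaf (nat_lit 0x1e0401cd31))) (.node 1 (.leaf (nat_lit 0x110301cd02)) (.leaf (nat_lit 0x110801cd02))))) (.node 4 (.node 2 (.node 1 (.leaf (nat_lit 0x110201cd12)) (.leaf (nat_lit 0x110801cd12))) (.node 1 (.leaf (nat_lit 0x1e0801cd31)) (.leaf (nat_lit 0x1e08029801)))) (.node 2 (.node 1 (.leaf (nat_lit 0x1e0701cd51)) (.leaf (nat_lit 0x110301cd62))) (.node 1 (.leaf (nat_lit 0x110801cd62)) (.leaf (nat_lit 0x200401e081)))))) (.node 8 (.node 4 (.node 2 (.node 1 (.leaf (nat_lit 0x1e07026c21)) (.leaf (nat_lit 0x110201cd82))) (.node 1 (.leaf (nat_lit 0x110801cd82)) (.leaf (nat_lit 0x110101cda2)))) (.node 2 (.node 1 (.leaf (nat_lit 0x110801cda2)) (.leaf (nat_lit 0x110701cdb2))) (.node 1 (.leaf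 (nat_lit 0x1c0401cdd1)) (.leaf (nat_lit 0x1c0601cdd1))))) (.node 4 (.node 2 (.node 1 (.leaf (nat_lit 0x1c0301cde1)) (.leaf (nat_lit 0x1c0601cde1))) (.node 1 (.leaf (nat_lit 0x1c0701cde1)) (.leaf (nat_lit 0x1c0301ed31)))) (.node 2 (.node 1 (.leaf (nat_lit 0x1c0701cdf1)) (.leaf (nat_lit 0x1c0801ce01))) (.node 1 (.leaf (nat_lit 0x1c0501ce21)) (.leaf (nat_lit 0x1e0602a971))))))) (.node 16 (.node 8 (.node 4 (.node 2 (.node 1 (.leaf (nat_lit 0x1c0701ce21)) (.leaf (nat_lit 0x1c0301ce31))) (.node 1 (.leaf (nat_lit 0x1c0801ce31)) (.leaf (nat_lit 0x1e0202aec1)))) (.node 2 (.node 1 (.leaf (nat_lit 0x1c0801ce51)) (.leaf (nat_lit 0x1c0601ce71))) (.node 1 (.leaf (nat_lit 0x1c0701ce71)) (.leaf (nat_lit 0x1c0501ce81))))) (.node 4 (.node 2 (.node 1 (.leaf (nat_lit 0x1e06029c01)) (.leaf (nat_lit 0x1c0701ce81))) (.node 1 (.leaf (nat_lit 0x1c0301ce91)) (.leaf (nat_lit 0x1c0801ce91)))) (.node 2 (.node 1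 (.leaf (nat_lit 0x1e0701cea1)) (.leaf (nat_lit 0x1c0301ceb1))) (.node 1 (.leaf (nat_lit 0x1c0801ceb1)) (.leaf (nat_lit 0x1c0401cec1)))))) (.node 8 (.node 4 (.node 2 (.node 1 (.leaf (nat_lit 0x1c0801cec1)) (.leaf (nat_lit 0x200101cf61))) (.node 1 (.leaf (nat_lit 0x1c0701cef1)) (.leaf (nat_lit 0x1e0101cf81)))) (.node 2 (.node 1 (.leaf (nat_lit 0x1c0301cf11)) (.leaf (nat_lit 0x1c0801cf11))) (.node 1 (.leaf (nat_lit 0x1c0201cf21)) (.leaf (nat_lit 0x1c0801cf21))))) (.node 4 (.node 2 (.node 1 (.leaf (nat_lit 0x200801cf41)) (.leaf (nat_lit 0x1e020297e1))) (.node 1 (.leaf (nat_lit 0x1e02026bd1)) (.leaf (nat_lit 0x1c0301cf71)))) (.node 2 (.node 1 (.leaf (nat_lit 0x1c0801cf71)) (.leaf (nat_lit 0x1e0801cf81))) (.node 1 (.leaf (nat_lit 0x1c0801cf91)) (.leaf (nat_lit 0x1c0101cfb1))))))))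

noncomputable def oT71 : Tree :=
  .node 64 (.node 32 (.node 16 (.node 8 (.node 4 (.node 2 (.node 1 (.leaf (nat_lit 0x1c0801cfb1)) (.leaf (nat_lit 0x1c0701cfc1))) (.node 1 (.leaf (nat_lit 0x1c0301cfe1)) (.leaf (nat_lit 0x1c0601cfe1)))) (.node 2 (.node 1 (.leaf (nat_lit 0x1c0601ed11)) (.leaf (nat_lit 0x1c0601d001))) (.node 1 (.leaf (nat_lit 0x1c0701d001)) (.leaf (nat_lit 0x1c0501d011))))) (.node 4 (.node 2 (.node 1 (.leaf (nat_lit 0x1e0602aae1)) (.leaf (nat_lit 0x1c0701d011))) (.node 1 (.leaf (nat_lit 0x1c0301d021)) (.leaf (nat_lit 0x1c0801d021)))) (.node 2 (.node 1 (.leaf (nat_lit 0x1e03029b61)) (.leaf (nat_lit 0x1c0801d041))) (.node 1 (.leaf (nat_lit 0x200501d071)) (.leaf (nat_lit 0x1c0701d061)))))) (.node 8 (.node 4 (.node 2 (.node 1 (.leaf (nat_lit 0x200401d0b1)) (.leaf (nat_lit 0x1c0301d081))) (.node 1 (.leaf (nat_lit 0x1c0801d081)) (.leaf (nat_lit 0x1c0201d091)))) (.node 2 (.node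 1 (.leaf (nat_lit 0x1c0801d091)) (.leaf (nat_lit 0x200801d0b1))) (.node 1 (.leaf (nat_lit 0x1c0501d0d1)) (.leaf (nat_lit 0x1c0401ead1))))) (.node 4 (.node 2 (.node 1 (.leaf (nat_lit 0x1c0701d0d1)) (.leaf (nat_lit 0x1c0301d0e1))) (.node 1 (.leaf (nat_lit 0x1c0801d0e1)) (.leaf (nat_lit 0x1e0501d101)))) (.node 2 (.node 1 (.leaf (nat_lit 0x1c0701d0f1)) (.leaf (nat_lit 0x1e0401d141))) (.node 1 (.leaf (nat_lit 0x1c0301d111)) (.leaf (nat_lit 0x1c0801d111))))))) (.node 16 (.node 8 (.node 4 (.node 2 (.node 1 (.leaf (nat_lit 0x1c0201d121)) (.leaf (nat_lit 0x1c0401d121))) (.node 1 (.leaf (nat_lit 0x1c0801d121)) (.leaf (nat_lit 0x1c0701eab1)))) (.node 2 (.node 1 (.leaf (nat_lit 0x1e0801d141)) (.leaf (nat_lit 0x1c0401d151))) (.node 1 (.leaf (nat_lit 0x1c0801d151)) (.leaf (nat_lit 0x1c0501d171))))) (.node 4 (.node 2 (.node 1 (.leaf (nat_lit 0x1c0801d171)) (.leaf (nat_lit 0x1c0601d191))) (.node 1 (.leaf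 (nat_lit 0x1c0801d191)) (.leaf (nat_lit 0x200802b071)))) (.node 2 (.node 1 (.leaf (nat_lit 0x200401d841)) (.leaf (nat_lit 0x1c0301d1c1))) (.node 1 (.leaf (nat_lit 0x1c0801d1c1)) (.leaf (nat_lit 0x200401e2f1)))))) (.node 8 (.node 4 (.node 2 (.node 1 (.leaf (nat_lit 0x200702b0b1)) (.leaf (nat_lit 0x1c0201d1e1))) (.node 1 (.leaf (nat_lit 0x1c0801d1e1)) (.leaf (nat_lit 0x1c0101d201)))) (.node 2 (.node 1 (.leaf (nat_lit 0x1c0801d201)) (.leaf (nat_lit 0x1c0701d211))) (.node 1 (.leaf (nat_lit 0x200401d8e1)) (.leaf (nat_lit 0x1e0402b601))))) (.node 4 (.node 2 (.node 1 (.leaf (nat_lit 0x200702b111)) (.leaf (nat_lit 0x1c0201d251))) (.node 1 (.leaf (nat_lit 0x1c0401d251)) (.leaf (nat_lit 0x1c0801d251)))) (.node 2 (.node 1 (.leaf (nat_lit 0x200502b5f1)) (.leaf (nat_lit 0x200301d281))) (.node 1 (.leaf (nat_lit 0x1c0101d291)) (.leaf (nat_lit 0x1c0801d291)))))))) (.node 32 (.node 16 (.node 8 (.node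 4 (.node 2 (.node 1 (.leaf (nat_lit 0x1c0701d2a1)) (.leaf (nat_lit 0x1c0001d2b1))) (.node 1 (.leaf (nat_lit 0x1c0801d2b1)) (.leaf (nat_lit 0x1c0701d2c1)))) (.node 2 (.node 1 (.leaf (nat_lit 0x1c0601d2e1)) (.leaf (nat_lit 0x1c0501ed71))) (.node 1 (.leaf (nat_lit 0x1c0501d301)) (.leaf (nat_lit 0x1e0401d321))))) (.node 4 (.node 2 (.node 1 (.leaf (nat_lit 0x1c0701d301)) (.leaf (nat_lit 0x1c0301d311))) (.node 1 (.leaf (nat_lit 0x1c0801d311)) (.leaf (nat_lit 0x1e0302a301)))) (.node 2 (.node 1 (.leaf (nat_lit 0x1c0801d331)) (.leaf (nat_lit 0x200402aee1))) (.node 1 (.leaf (nat_lit 0x1c0701d351)) (.leaf (nat_lit 0x200401d391)))))) (.node 8 (.node 4 (.node 2 (.node 1 (.leaf (nat_lit 0x1c0801d371)) (.leaf (nat_lit 0x200801d391))) (.node 1 (.leaf (nat_lit 0x1c0501d3b1)) (.leaf (nat_lit 0x1e0401ee51)))) (.node 2 (.node 1 (.leaf (nat_lit 0x1c0701d3b1)) (.leaf (nat_lit 0x1c0301d3c1))) (.node 1 (.leaf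 (nat_lit 0x1c0801d3c1)) (.leaf (nat_lit 0x200402afa1))))) (.node 4 (.node 2 (.node 1 (.leaf (nat_lit 0x1c0701d3d1)) (.leaf (nat_lit 0x200701d3e1))) (.node 1 (.leaf (nat_lit 0x1c0301d3f1)) (.leaf (nat_lit 0x1c0801d3f1)))) (.node 2 (.node 1 (.leaf (nat_lit 0x1c0201d401)) (.leaf (nat_lit 0x1c0401d401))) (.node 1 (.leaf (nat_lit 0x1c0801d401)) (.leaf (nat_lit 0x1e0701d5c1))))))) (.node 16 (.node 8 (.node 4 (.node 2 (.node 1 (.leaf (nat_lit 0x200801d421)) (.leaf (nat_lit 0x1c0401d431))) (.node 1 (.leaf (nat_lit 0x1c0801d431)) (.leaf (nat_lit 0x1c0801d451)))) (.node 2 (.node 1 (.leaf (nat_lit 0x200402b071)) (.leaf (nat_lit 0x200402b081))) (.node 1 (.leaf (nat_lit 0x1c0301d481)) (.leaf (nat_lit 0x1c0801d481))))) (.node 4 (.node 2 (.node 1 (.leaf (nat_lit 0x200701da51)) (.leaf (nat_lit 0x200302b9e1))) (.node 1 (.leaf (nat_lit 0x1c0201d4a1)) (.leaf (nat_lit 0x1c0801d4a1)))) (.node 2 (.node 1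 (.leaf (nat_lit 0x1c0101d4c1)) (.leaf (nat_lit 0x1c0801d4c1))) (.node 1 (.leaf (nat_lit 0x1e04029f61)) (.leaf (nat_lit 0x200301d501)))))) (.node 8 (.node 4 (.node 2 (.node 1 (.leaf (nat_lit 0x200801d501)) (.leaf (nat_lit 0x1c0201d511))) (.node 1 (.leaf (nat_lit 0x1c0401d511)) (.leaf (nat_lit 0x1c0801d511)))) (.node 2 (.node 1 (.leaf (nat_lit 0x200302a211)) (.leaf (nat_lit 0x1e0702baf1))) (.node 1 (.leaf (nat_lit 0x1c0101d551)) (.leaf (nat_lit 0x1c0801d551))))) (.node 4 (.node 2 (.node 1 (.leaf (nat_lit 0x1c0701d561)) (.leaf (nat_lit 0x1c0001d571))) (.node 1 (.leaf (nat_lit 0x1c0801d571)) (.leaf (nat_lit 0x1c0701d581)))) (.node 2 (.node 1 (.leaf (nat_lit 0x1c0601d5a1)) (.leaf (nat_lit 0x1c0701d5a1))) (.node 1 (.leaf (nat_lit 0x1c0501d5b1)) (.leaf (nat_lit 0x1e0401d5c1))))))))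

noncomputable def oT72 : Tree :=
  .node 64 (.node 32 (.node 16 (.node 8 (.node 4 (.node 2 (.node 1 (.leaf (nat_lit 0x1c0501d5d1)) (.leaf (nat_lit 0x1e0401eed1))) (.node 1 (.leaf (nat_lit 0x1c0701d5d1)) (.leaf (nat_lit 0x1c0301d5e1)))) (.node 2 (.node 1 (.leaf (nat_lit 0x1c0801d5e1)) (.leaf (nat_lit 0x200302bbc1))) (.node 1 (.leaf (nat_lit 0x1c0701d5f1)) (.leaf (nat_lit 0x200201d681))))) (.node 4 (.node 2 (.node 1 (.leaf (nat_lit 0x1c0301d611)) (.leaf (nat_lit 0x1c0801d611))) (.node 1 (.leaf (nat_lit 0x1c0201d621)) (.leaf (nat_lit 0x1c0801d621)))) (.node 2 (.node 1 (.leaf (nat_lit 0x200801d641)) (.leaf (nat_lit 0x200202bc21))) (.node 1 (.leaf (nat_lit 0x200302bce1)) (.leaf (nat_lit 0x1c0301d671)))))) (.node 8 (.node 4 (.node 2 (.node 1 (.leaf (nat_lit 0x1c0801d671)) (.leaf (nat_lit 0x1e0701dbe1))) (.node 1 (.leaf (nat_lit 0x200302bd41)) (.leaf (nat_lit 0x1c0201d691)))) (.node 2 (.node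 1 (.leaf (nat_lit 0x1c0801d691)) (.leaf (nat_lit 0x1c0101d6b1))) (.node 1 (.leaf (nat_lit 0x1c0801d6b1)) (.leaf (nat_lit 0x1c0401d6e1))))) (.node 4 (.node 2 (.node 1 (.leaf (nat_lit 0x1e0501d6f1)) (.leaf (nat_lit 0x1c0701d6e1))) (.node 1 (.leaf (nat_lit 0x1e0401ef21)) (.leaf (nat_lit 0x1c0301d701)))) (.node 2 (.node 1 (.leaf (nat_lit 0x1c0801d701)) (.leaf (nat_lit 0x1c0201d711))) (.node 1 (.leaf (nat_lit 0x1c0401d711)) (.leaf (nat_lit 0x1c0801d711))))))) (.node 16 (.node 8 (.node 4 (.node 2 (.node 1 (.leaf (nat_lit 0x200302bdb1)) (.leaf (nat_lit 0x200201d841))) (.node 1 (.leaf (nat_lit 0x1c0301d741)) (.leaf (nat_lit 0x1c0801d741)))) (.node 2 (.node 1 (.leaf (nat_lit 0x200202bf01)) (.leaf (nat_lit 0x200201d881))) (.node 1 (.leaf (nat_lit 0x1c0201d761)) (.leaf (nat_lit 0x1c0401d761))))) (.node 4 (.node 2 (.node 1 (.leaf (nat_lit 0x1c0801d761)) (.leaf (nat_lit 0x1c0101d781))) (.node 1 (.leaf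 (nat_lit 0x1c0401d781)) (.leaf (nat_lit 0x1c0801d781)))) (.node 2 (.node 1 (.leaf (nat_lit 0x1c0501d791)) (.leaf (nat_lit 0x1c0801d791))) (.node 1 (.leaf (nat_lit 0x1c0701d7a1)) (.leaf (nat_lit 0x1e0701ef91)))))) (.node 8 (.node 4 (.node 2 (.node 1 (.leaf (nat_lit 0x1e0801d7b1)) (.leaf (nat_lit 0x1c0501d7d1))) (.node 1 (.leaf (nat_lit 0x1c0801d7d1)) (.leaf (nat_lit 0x1c0601d7f1)))) (.node 2 (.node 1 (.leaf (nat_lit 0x1c0801d7f1)) (.leaf (nat_lit 0x200701efc1))) (.node 1 (.leaf (nat_lit 0x1c0801d811)) (.leaf (nat_lit 0x200302c091))))) (.node 4 (.node 2 (.node 1 (.leaf (nat_lit 0x1e0701dd01)) (.leaf (nat_lit 0x200302c0d1))) (.node 1 (.leaf (nat_lit 0x1c0201d851)) (.leaf (nat_lit 0x1c0401d851)))) (.node 2 (.node 1 (.leaf (nat_lit 0x1c0801d851)) (.leaf (nat_lit 0x1e0701dd51))) (.node 1 (.leaf (nat_lit 0x1e0702c151)) (.leaf (nat_lit 0x1c0101d891)))))))) (.node 32 (.node 16 (.node 8 (.node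 4 (.node 2 (.node 1 (.leaf (nat_lit 0x1c0801d891)) (.leaf (nat_lit 0x1c0701d8a1))) (.node 1 (.leaf (nat_lit 0x1c0001d8b1)) (.leaf (nat_lit 0x1c0801d8b1)))) (.node 2 (.node 1 (.leaf (nat_lit 0x1c0701d8c1)) (.leaf (nat_lit 0x1e0701ddd1))) (.node 1 (.leaf (nat_lit 0x200302c1c1)) (.leaf (nat_lit 0x1c0701ddf1))))) (.node 4 (.node 2 (.node 1 (.leaf (nat_lit 0x1c0701de01)) (.leaf (nat_lit 0x1e0702c201))) (.node 1 (.leaf (nat_lit 0x1c0101d911)) (.leaf (nat_lit 0x1c0401d911)))) (.node 2 (.node 1 (.leaf (nat_lit 0x1c0801d911)) (.leaf (nat_lit 0x1c0801d921))) (.node 1 (.leaf (nat_lit 0x1c0701d931)) (.leaf (nat_lit 0x1c0701de41)))))) (.node 8 (.node 4 (.node 2 (.node 1 (.leaf (nat_lit 0x1c0701e7d1)) (.leaf (nat_lit 0x1c0801de51))) (.node 1 (.leaf (nat_lit 0x1c0001d961)) (.leaf (nat_lit 0x1c0801d961)))) (.node 2 (.node 1 (.leaf (nat_lit 0x1c0701d971)) (.leaf (nat_lit 0x1c0801d991))) (.node 1 (.leaf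 (nat_lit 0x1c0701d9a1)) (.leaf (nat_lit 0x1c0301d9b1))))) (.node 4 (.node 2 (.node 1 (.leaf (nat_lit 0x200801dbb1)) (.leaf (nat_lit 0x1c0401d9d1))) (.node 1 (.leaf (nat_lit 0x200801dc21)) (.leaf (nat_lit 0x1c0701d9d1)))) (.node 2 (.node 1 (.leaf (nat_lit 0x200401f051)) (.leaf (nat_lit 0x1c0801d9f1))) (.node 1 (.leaf (nat_lit 0x200801dc91)) (.leaf (nat_lit 0x20080292a1))))))) (.node 16 (.node 8 (.node 4 (.node 2 (.node 1 (.leaf (nat_lit 0x2008029261)) (.leaf (nat_lit 0x1c0201da41))) (.node 1 (.leaf (nat_lit 0x1c0401da41)) (.leaf (nat_lit 0x2008028aa1)))) (.node 2 (.node 1 (.leaf (nat_lit 0x1c0101da61)) (.leaf (nat_lit 0x1c0001da71))) (.node 1 (.leaf (nat_lit 0x200802c3c1)) (.leaf (nat_lit 0x1e0701dde1))))) (.node 4 (.node 2 (.node 1 (.leaf (nat_lit 0x200702ba51)) (.leaf (nat_lit 0x200702ba61))) (.node 1 (.leaf (nat_lit 0x1e0702c241)) (.leaf (nat_lit 0x1c0101dab1)))) (.node 2 (.node 1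 (.leaf (nat_lit 0x1c0401dab1)) (.leaf (nat_lit 0x1c0801dab1))) (.node 1 (.leaf (nat_lit 0x1c0801dac1)) (.leaf (nat_lit 0x1c0701dad1)))))) (.node 8 (.node 4 (.node 2 (.node 1 (.leaf (nat_lit 0x200802c441)) (.leaf (nat_lit 0x1e0702c451))) (.node 1 (.leaf (nat_lit 0x1c0301de51)) (.leaf (nat_lit 0x1c0001db01)))) (.node 2 (.node 1 (.leaf (nat_lit 0x1c0801db01)) (.leaf (nat_lit 0x1c0701db11))) (.node 1 (.leaf (nat_lit 0x1c0801db31)) (.leaf (nat_lit 0x1c0701db41))))) (.node 4 (.node 2 (.node 1 (.leaf (nat_lit 0x1c0301db51)) (.leaf (nat_lit 0x1c0401db61))) (.node 1 (.leaf (nat_lit 0x1e040291d1)) (.leaf (nat_lit 0x1c0701db61)))) (.node 2 (.node 1 (.leaf (nat_lit 0x200401f181)) (.leaf (nat_lit 0x1c0801db81))) (.node 1 (.leaf (nat_lit 0x1e0302c3f1)) (.leaf (nat_lit 0x20080293e1))))))))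

noncomputable def oT73 : Tree :=
  .node 64 (.node 32 (.node 16 (.node 8 (.node 4 (.node 2 (.node 1 (.leaf (nat_lit 0x1e080293f1)) (.leaf (nat_lit 0x1c0201dbd1))) (.node 1 (.leaf (nat_lit 0x1c0401dbd1)) (.leaf (nat_lit 0x1e08029421)))) (.node 2 (.node 1 (.leaf (nat_lit 0x1c0101dbf1)) (.leaf (nat_lit 0x1c0001dc01))) (.node 1 (.leaf (nat_lit 0x1e000291d1)) (.leaf (nat_lit 0x1c0701dc11))))) (.node 4 (.node 2 (.node 1 (.leaf (nat_lit 0x1e0402c3e1)) (.leaf (nat_lit 0x200402c571))) (.node 1 (.leaf (nat_lit 0x1c0301dc31)) (.leaf (nat_lit 0x1c0801dc31)))) (.node 2 (.node 1 (.leaf (nat_lit 0x200701dcc1)) (.leaf (nat_lit 0x200801dc41))) (.node 1 (.leaf (nat_lit 0x1c0201dc51)) (.leaf (nat_lit 0x1c0801dc51)))))) (.node 8 (.node 4 (.node 2 (.node 1 (.leaf (nat_lit 0x1c0101dc71)) (.leaf (nat_lit 0x1c0801dc71))) (.node 1 (.leaf (nat_lit 0x20080292b1)) (.leaf (nat_lit 0x20080292c1)))) (.node 2 (.node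 1 (.leaf (nat_lit 0x1c0201dcb1)) (.leaf (nat_lit 0x1c0401dcb1))) (.node 1 (.leaf (nat_lit 0x1e080292f1)) (.leaf (nat_lit 0x1c0101dcd1))))) (.node 4 (.node 2 (.node 1 (.leaf (nat_lit 0x1c0001dce1)) (.leaf (nat_lit 0x1e080295e1))) (.node 1 (.leaf (nat_lit 0x1e030295e1)) (.leaf (nat_lit 0x1e0802c701)))) (.node 2 (.node 1 (.leaf (nat_lit 0x1c0801de21)) (.leaf (nat_lit 0x1c0401de21))) (.node 1 (.leaf (nat_lit 0x1c0101dd21)) (.leaf (nat_lit 0x1c0401dd21))))))) (.node 16 (.node 8 (.node 4 (.node 2 (.node 1 (.leaf (nat_lit 0x1c0801dd21)) (.leaf (nat_lit 0x1c0801dd31))) (.node 1 (.leaf (nat_lit 0x1c0701dd41)) (.leaf (nat_lit 0x1c0801e921)))) (.node 2 (.node 1 (.leaf (nat_lit 0x1c0401e911)) (.leaf (nat_lit 0x1c0401e7b1))) (.node 1 (.leaf (nat_lit 0x1c0001dd71)) (.leaf (nat_lit 0x1c0801dd71))))) (.node 4 (.node 2 (.node 1 (.leaf (nat_lit 0x1c0701dd81)) (.leaf (nat_lit 0x1c0801dda1))) (.node 1 (.leaf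 (nat_lit 0x1c0701ddb1)) (.leaf (nat_lit 0x1c0301ddc1)))) (.node 2 (.node 1 (.leaf (nat_lit 0x1c0001de21)) (.leaf (nat_lit 0x1c0801e861))) (.node 1 (.leaf (nat_lit 0x1c0801de61)) (.leaf (nat_lit 0x1c0701de71)))))) (.node 8 (.node 4 (.node 2 (.node 1 (.leaf (nat_lit 0x1c0301de81)) (.leaf (nat_lit 0x1c0701de91))) (.node 1 (.leaf (nat_lit 0x1c0301dea1)) (.leaf (nat_lit 0x1c0401deb1)))) (.node 2 (.node 1 (.leaf (nat_lit 0x110801dec2)) (.leaf (nat_lit 0x110801ded2))) (.node 1 (.leaf (nat_lit 0x110301def2)) (.leaf (nat_lit 0x110801def2))))) (.node 4 (.node 2 (.node 1 (.leaf (nat_lit 0x110201df02)) (.leaf (nat_lit 0x110801df02))) (.node 1 (.leaf (nat_lit 0x1e0801df21)) (.leaf (nat_lit 0x110801df42)))) (.node 2 (.node 1 (.leaf (nat_lit 0x110201df52)) (.leaf (nat_lit 0x110401df52))) (.node 1 (.leaf (nat_lit 0x110801df52)) (.leaf (nat_lit 0x1c0701e9b1)))))))) (.node 32 (.node 16 (.node 8 (.node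 4 (.node 2 (.node 1 (.leaf (nat_lit 0x1e0801df71)) (.leaf (nat_lit 0x110401df82))) (.node 1 (.leaf (nat_lit 0x110801df82)) (.leaf (nat_lit 0x110501dfa2)))) (.node 2 (.node 1 (.leaf (nat_lit 0x110801dfa2)) (.leaf (nat_lit 0x110601dfc2))) (.node 1 (.leaf (nat_lit 0x110801dfc2)) (.leaf (nat_lit 0x110301dfe2))))) (.node 4 (.node 2 (.node 1 (.leaf (nat_lit 0x110801dfe2)) (.leaf (nat_lit 0x1e0301dff1))) (.node 1 (.leaf (nat_lit 0x1e0801dff1)) (.leaf (nat_lit 0x110201e002)))) (.node 2 (.node 1 (.leaf (nat_lit 0x110801e002)) (.leaf (nat_lit 0x110101e022))) (.node 1 (.leaf (nat_lit 0x110801e022)) (.leaf (nat_lit 0x110701e032)))))) (.node 8 (.node 4 (.node 2 (.node 1 (.leaf (nat_lit 0x1e0301e051)) (.leaf (nat_lit 0x1e0801e051))) (.node 1 (.leaf (nat_lit 0x110201e062)) (.leaf (nat_lit 0x110401e062)))) (.node 2 (.node 1 (.leaf (nat_lit 0x110801e062)) (.leaf (nat_lit 0x200201e081))) (.node 1 (.leaf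 (nat_lit 0x200801e081)) (.leaf (nat_lit 0x110101e0a2))))) (.node 4 (.node 2 (.node 1 (.leaf (nat_lit 0x110801e0a2)) (.leaf (nat_lit 0x110701e0b2))) (.node 1 (.leaf (nat_lit 0x110001e0c2)) (.leaf (nat_lit 0x110801e0c2)))) (.node 2 (.node 1 (.leaf (nat_lit 0x110701e0d2)) (.leaf (nat_lit 0x1c0801e0f1))) (.node 1 (.leaf (nat_lit 0x1c0201e101)) (.leaf (nat_lit 0x1c0801e101))))))) (.node 16 (.node 8 (.node 4 (.node 2 (.node 1 (.leaf (nat_lit 0x1e0801e121)) (.leaf (nat_lit 0x1c0301e141))) (.node 1 (.leaf (nat_lit 0x1c0801e141)) (.leaf (nat_lit 0x1e0301e151)))) (.node 2 (.node 1 (.leaf (nat_lit 0x1e0801e151)) (.leaf (nat_lit 0x1c0201e161))) (.node 1 (.leaf (nat_lit 0x1c0801e161)) (.leaf (nat_lit 0x1c0101e181))))) (.node 4 (.node 2 (.node 1 (.leaf (nat_lit 0x1c0801e181)) (.leaf (nat_lit 0x1c0701e191))) (.node 1 (.leaf (nat_lit 0x1c0201e1b1)) (.leaf (nat_lit 0x1c0401e1b1)))) (.node 2 (.node 1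 (.leaf (nat_lit 0x1c0801e1b1)) (.leaf (nat_lit 0x1c0801e1d1))) (.node 1 (.leaf (nat_lit 0x1e0801e1e1)) (.leaf (nat_lit 0x1c0201e1f1)))))) (.node 8 (.node 4 (.node 2 (.node 1 (.leaf (nat_lit 0x1c0401e1f1)) (.leaf (nat_lit 0x1c0801e1f1))) (.node 1 (.leaf (nat_lit 0x1c0101e211)) (.leaf (nat_lit 0x1c0401e211)))) (.node 2 (.node 1 (.leaf (nat_lit 0x1c0801e211)) (.leaf (nat_lit 0x1c0501e221))) (.node 1 (.leaf (nat_lit 0x1c0801e221)) (.leaf (nat_lit 0x1c0701e231))))) (.node 4 (.node 2 (.node 1 (.leaf (nat_lit 0x1e03026a01)) (.leaf (nat_lit 0x1e0801e241))) (.node 1 (.leaf (nat_lit 0x1c0501e261)) (.leaf (nat_lit 0x1c0801e261)))) (.node 2 (.node 1 (.leaf (nat_lit 0x1c0601e281)) (.leaf (nat_lit 0x1c0801e281))) (.node 1 (.leaf (nat_lit 0x1e0701f311)) (.leaf (nat_lit 0x1c0801e2a1))))))))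

noncomputable def oT74 : Tree :=
  .node 64 (.node 32 (.node 16 (.node 8 (.node 4 (.node 2 (.node 1 (.leaf (nat_lit 0x1e0301e2c1)) (.leaf (nat_lit 0x1e0801e2c1))) (.node 1 (.leaf (nat_lit 0x1c0201e2d1)) (.leaf (nat_lit 0x1c0401e2d1)))) (.node 2 (.node 1 (.leaf (nat_lit 0x1c0801e2d1)) (.leaf (nat_lit 0x1e03026991))) (.node 1 (.leaf (nat_lit 0x200801e2f1)) (.leaf (nat_lit 0x1c0101e311))))) (.node 4 (.node 2 (.node 1 (.leaf (nat_lit 0x1c0801e311)) (.leaf (nat_lit 0x1c0701e321))) (.node 1 (.leaf (nat_lit 0x1c0001e331)) (.leaf (nat_lit 0x1c0801e331)))) (.node 2 (.node 1 (.leaf (nat_lit 0x1c0701e341)) (.leaf (nat_lit 0x1c0401e791))) (.node 1 (.leaf (nat_lit 0x1e0402c481)) (.leaf (nat_lit 0x1e0402c291)))))) (.node 8 (.node 4 (.node 2 (.node 1 (.leaf (nat_lit 0x1c0101e391)) (.leaf (nat_lit 0x1c0401e391))) (.node 1 (.leaf (nat_lit 0x1c0801e391)) (.leaf (nat_lit 0x1c0801e3a1)))) (.node 2 (.node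 1 (.leaf (nat_lit 0x1c0701e3b1)) (.leaf (nat_lit 0x200202cd01))) (.node 1 (.leaf (nat_lit 0x200502cda1)) (.leaf (nat_lit 0x200402b691))))) (.node 4 (.node 2 (.node 1 (.leaf (nat_lit 0x1c0001e3e1)) (.leaf (nat_lit 0x1c0801e3e1))) (.node 1 (.leaf (nat_lit 0x1c0701e3f1)) (.leaf (nat_lit 0x1c0801e411)))) (.node 2 (.node 1 (.leaf (nat_lit 0x1c0701e421)) (.leaf (nat_lit 0x1c0301e431))) (.node 1 (.leaf (nat_lit 0x1c0301e441)) (.leaf (nat_lit 0x1c0801e441))))))) (.node 16 (.node 8 (.node 4 (.node 2 (.node 1 (.leaf (nat_lit 0x1e0301e451)) (.leaf (nat_lit 0x1e0801e451))) (.node 1 (.leaf (nat_lit 0x1c0201e461)) (.leaf (nat_lit 0x1c0801e461)))) (.node 2 (.node 1 (.leaf (nat_lit 0x1c0101e481)) (.leaf (nat_lit 0x1c0801e481))) (.node 1 (.leaf (nat_lit 0x1c0701e491)) (.leaf (nat_lit 0x1c0701e841))))) (.node 4 (.node 2 (.node 1 (.leaf (nat_lit 0x1e0801e4b1)) (.leaf (nat_lit 0x1c0201e4c1))) (.node 1 (.leaf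 (nat_lit 0x1c0401e4c1)) (.leaf (nat_lit 0x1c0801e4c1)))) (.node 2 (.node 1 (.leaf (nat_lit 0x1e0701e881)) (.leaf (nat_lit 0x1e0702cfe1))) (.node 1 (.leaf (nat_lit 0x1c0101e501)) (.leaf (nat_lit 0x1c0801e501)))))) (.node 8 (.node 4 (.node 2 (.node 1 (.leaf (nat_lit 0x1c0701e511)) (.leaf (nat_lit 0x1c0001e521))) (.node 1 (.leaf (nat_lit 0x1c0801e521)) (.leaf (nat_lit 0x1c0701e531)))) (.node 2 (.node 1 (.leaf (nat_lit 0x1e0301e551)) (.leaf (nat_lit 0x1e0801e551))) (.node 1 (.leaf (nat_lit 0x1c0201e561)) (.leaf (nat_lit 0x1c0401e561))))) (.node 4 (.node 2 (.node 1 (.leaf (nat_lit 0x1c0801e561)) (.leaf (nat_lit 0x1e0301e711))) (.node 1 (.leaf (nat_lit 0x200401e581)) (.leaf (nat_lit 0x200801e581)))) (.node 2 (.node 1 (.leaf (nat_lit 0x1c0101e5a1)) (.leaf (nat_lit 0x1c0401e5a1))) (.node 1 (.leaf (nat_lit 0x1c0801e5a1)) (.leaf (nat_lit 0x1c0501e5b1)))))))) (.node 32 (.node 16 (.node 8 (.node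 4 (.node 2 (.node 1 (.leaf (nat_lit 0x1c0801e5b1)) (.leaf (nat_lit 0x1c0701e5c1))) (.node 1 (.leaf (nat_lit 0x1c0001e5d1)) (.leaf (nat_lit 0x1c0401e5d1)))) (.node 2 (.node 1 (.leaf (nat_lit 0x1c0801e5d1)) (.leaf (nat_lit 0x1c0501e5e1))) (.node 1 (.leaf (nat_lit 0x1c0801e5e1)) (.leaf (nat_lit 0x1c0701e5f1))))) (.node 4 (.node 2 (.node 1 (.leaf (nat_lit 0x1c0601e601)) (.leaf (nat_lit 0x1c0801e601))) (.node 1 (.leaf (nat_lit 0x1c0701e611)) (.leaf (nat_lit 0x200402cc41)))) (.node 2 (.node 1 (.leaf (nat_lit 0x200801e631)) (.leaf (nat_lit 0x1c0601e651))) (.node 1 (.leaf (nat_lit 0x1c0801e651)) (.leaf (nat_lit 0x200701f341)))))) (.node 8 (.node 4 (.node 2 (.node 1 (.leaf (nat_lit 0x1c0801e671)) (.leaf (nat_lit 0x1e07027031))) (.node 1 (.leaf (nat_lit 0x1c0301e831)) (.leaf (nat_lit 0x1c0701e901)))) (.node 2 (.node 1 (.leaf (nat_lit 0x1c0701e811)) (.leaf (nat_lit 0x1c0101e6e1))) (.node 1 (.leaf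 (nat_lit 0x1c0401e6e1)) (.leaf (nat_lit 0x1c0801e6e1))))) (.node 4 (.node 2 (.node 1 (.leaf (nat_lit 0x1c0801e6f1)) (.leaf (nat_lit 0x1c0701e701))) (.node 1 (.leaf (nat_lit 0x1c0701e931)) (.leaf (nat_lit 0x1e0702d2f1)))) (.node 2 (.node 1 (.leaf (nat_lit 0x1c0801e7b1)) (.leaf (nat_lit 0x1c0001e731))) (.node 1 (.leaf (nat_lit 0x1c0801e731)) (.leaf (nat_lit 0x1c0701e741))))))) (.node 16 (.node 8 (.node 4 (.node 2 (.node 1 (.leaf (nat_lit 0x1c0801e761)) (.leaf (nat_lit 0x1c0701e771))) (.node 1 (.leaf (nat_lit 0x1c0301e781)) (.leaf (nat_lit 0x1c0001e7b1)))) (.node 2 (.node 1 (.leaf (nat_lit 0x1c0701e871)) (.leaf (nat_lit 0x1c0801e801))) (.node 1 (.leaf (nat_lit 0x1c0701e821)) (.leaf (nat_lit 0x1c0801e941))))) (.node 4 (.node 2 (.node 1 (.leaf (nat_lit 0x1c0101e851)) (.leaf (nat_lit 0x1c0401e851))) (.node 1 (.leaf (nat_lit 0x1c0801e851)) (.leaf (nat_lit 0x1e0802d3a1)))) (.node 2 (.node 1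 (.leaf (nat_lit 0x1c0001e911)) (.leaf (nat_lit 0x1c0001e8a1))) (.node 1 (.leaf (nat_lit 0x1c0801e8a1)) (.leaf (nat_lit 0x1c0701e8b1)))))) (.node 8 (.node 4 (.node 2 (.node 1 (.leaf (nat_lit 0x1c0801e8d1)) (.leaf (nat_lit 0x1c0701e8e1))) (.node 1 (.leaf (nat_lit 0x1c0301e8f1)) (.leaf (nat_lit 0x1c0301e921)))) (.node 2 (.node 1 (.leaf (nat_lit 0x1c0301e951)) (.leaf (nat_lit 0x1c0701e961))) (.node 1 (.leaf (nat_lit 0x1c0301e971)) (.leaf (nat_lit 0x1c0401e981))))) (.node 4 (.node 2 (.node 1 (.leaf (nat_lit 0x110201e9a2)) (.leaf (nat_lit 0x110501ea22))) (.node 1 (.leaf (nat_lit 0x1c0701ea31)) (.leaf (nat_lit 0x1c0701ea81)))) (.node 2 (.node 1 (.leaf (nat_lit 0x1c0801eac1)) (.leaf (nat_lit 0x1c0501eae1))) (.node 1 (.leaf (nat_lit 0x1c0601eaf1)) (.leaf (nat_lit 0x1c0501eb01))))))))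

noncomputable def oT75 : Tree :=
  .node 64 (.node 32 (.node 16 (.node 8 (.node 4 (.node 2 (.node 1 (.leaf (nat_lit 0x1c0501eb71)) (.leaf (nat_lit 0x1c0701eb01))) (.node 1 (.leaf (nat_lit 0x1c0801eb11)) (.leaf (nat_lit 0x1c0201eb41)))) (.node 2 (.node 1 (.leaf (nat_lit 0x1c0601eb41)) (.leaf (nat_lit 0x1c0701eb41))) (.node 1 (.leaf (nat_lit 0x1c0701eb71)) (.leaf (nat_lit 0x1c0301eb81))))) (.node 4 (.node 2 (.node 1 (.leaf (nat_lit 0x1c0801eb81)) (.leaf (nat_lit 0x1c0301eb91))) (.node 1 (.leaf (nat_lit 0x1c0401ebd1)) (.leaf (nat_lit 0x1c0701ebd1)))) (.node 2 (.node 1 (.leaf (nat_lit 0x1c0301ef11)) (.leaf (nat_lit 0x1c0301ebf1))) (.node 1 (.leaf (nat_lit 0x1c0801ebf1)) (.leaf (nat_lit 0x1c0201ec01)))))) (.node 8 (.node 4 (.node 2 (.node 1 (.leaf (nat_lit 0x1c0401ec01)) (.leaf (nat_lit 0x1c0801ec01))) (.node 1 (.leaf (nat_lit 0x1c0401ec21)) (.leaf (nat_lit 0x1c0401ec51)))) (.node 2 (.node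 1 (.leaf (nat_lit 0x1c0501ec61)) (.leaf (nat_lit 0x1c0601ec71))) (.node 1 (.leaf (nat_lit 0x2008026e71)) (.leaf (nat_lit 0x110701ecc2))))) (.node 4 (.node 2 (.node 1 (.leaf (nat_lit 0x110701ecd2)) (.leaf (nat_lit 0x110801ece2))) (.node 1 (.leaf (nat_lit 0x110501ecf2)) (.leaf (nat_lit 0x110601ed02)))) (.node 2 (.node 1 (.leaf (nat_lit 0x1c0701ed11)) (.leaf (nat_lit 0x1c0701ed41))) (.node 1 (.leaf (nat_lit 0x1c0301ed51)) (.leaf (nat_lit 0x1c0801ed51))))))) (.node 16 (.node 8 (.node 4 (.node 2 (.node 1 (.leaf (nat_lit 0x1c0701ed71)) (.leaf (nat_lit 0x1c0801ed81))) (.node 1 (.leaf (nat_lit 0x1c0801ed91)) (.leaf (nat_lit 0x1c0401eda1)))) (.node 2 (.node 1 (.leaf (nat_lit 0x1c0801eda1)) (.leaf (nat_lit 0x1c0501edc1))) (.node 1 (.leaf (nat_lit 0x1c0501edd1)) (.leaf (nat_lit 0x1c0601ede1))))) (.node 4 (.node 2 (.node 1 (.leaf (nat_lit 0x1e08026981)) (.leaf (nat_lit 0x1c0501ee01))) (.node 1 (.leaf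 (nat_lit 0x1c0301ee31)) (.leaf (nat_lit 0x1c0701ee01)))) (.node 2 (.node 1 (.leaf (nat_lit 0x1c0801ee11)) (.leaf (nat_lit 0x1c0401ee41))) (.node 1 (.leaf (nat_lit 0x1c0701ee41)) (.leaf (nat_lit 0x1e0701ee51)))))) (.node 8 (.node 4 (.node 2 (.node 1 (.leaf (nat_lit 0x1c0301ee61)) (.leaf (nat_lit 0x1c0801ee61))) (.node 1 (.leaf (nat_lit 0x1c0201ee71)) (.leaf (nat_lit 0x1c0801ee71)))) (.node 2 (.node 1 (.leaf (nat_lit 0x1c0201ee91)) (.leaf (nat_lit 0x1c0401eec1))) (.node 1 (.leaf (nat_lit 0x1c0701eec1)) (.leaf (nat_lit 0x1e0302d4c1))))) (.node 4 (.node 2 (.node 1 (.leaf (nat_lit 0x1c0801eee1)) (.leaf (nat_lit 0x1c0701ef01))) (.node 1 (.leaf (nat_lit 0x1c0801ef11)) (.leaf (nat_lit 0x1e0801ef21)))) (.node 2 (.node 1 (.leaf (nat_lit 0x1c0401ef31)) (.leaf (nat_lit 0x1c0801ef31))) (.node 1 (.leaf (nat_lit 0x1c0501ef51)) (.leaf (nat_lit 0x1c0801ef51)))))))) (.node 32 (.node 16 (.node 8 (.node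 4 (.node 2 (.node 1 (.leaf (nat_lit 0x1c0501ef71)) (.leaf (nat_lit 0x1c0601ef81))) (.node 1 (.leaf (nat_lit 0x1e04029d51)) (.leaf (nat_lit 0x1c0601efa1)))) (.node 2 (.node 1 (.leaf (nat_lit 0x2008026f01)) (.leaf (nat_lit 0x1c0401efd1))) (.node 1 (.leaf (nat_lit 0x1c0701efd1)) (.leaf (nat_lit 0x1e0202d691))))) (.node 4 (.node 2 (.node 1 (.leaf (nat_lit 0x1c0801eff1)) (.leaf (nat_lit 0x1e0801f1a1))) (.node 1 (.leaf (nat_lit 0x1c0701f021)) (.leaf (nat_lit 0x1e03028441)))) (.node 2 (.node 1 (.leaf (nat_lit 0x1c0301f041)) (.leaf (nat_lit 0x1c0801f041))) (.node 1 (.leaf (nat_lit 0x1e0701f0b1)) (.leaf (nat_lit 0x200801f051)))))) (.node 8 (.node 4 (.node 2 (.node 1 (.leaf (nat_lit 0x1c0201f061)) (.leaf (nat_lit 0x1c0801f061))) (.node 1 (.leaf (nat_lit 0x1c0101f081)) (.leaf (nat_lit 0x1c0801f081)))) (.node 2 (.node 1 (.leaf (nat_lit 0x1c0701f0e1)) (.leaf (nat_lit 0x1c0801f0f1))) (.node 1 (.leaf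 (nat_lit 0x1c0701f101)) (.leaf (nat_lit 0x1e02028541))))) (.node 4 (.node 2 (.node 1 (.leaf (nat_lit 0x1c0801f121)) (.leaf (nat_lit 0x1c0701f151))) (.node 1 (.leaf (nat_lit 0x1e01028581)) (.leaf (nat_lit 0x1c0801f171)))) (.node 2 (.node 1 (.leaf (nat_lit 0x200801f181)) (.leaf (nat_lit 0x1e000289a1))) (.node 1 (.leaf (nat_lit 0x1c0301f1b1)) (.leaf (nat_lit 0x1c0801f1b1))))))) (.node 16 (.node 8 (.node 4 (.node 2 (.node 1 (.leaf (nat_lit 0x1e0801f1c1)) (.leaf (nat_lit 0x110401f1f2))) (.node 1 (.leaf (nat_lit 0x110801f1f2)) (.leaf (nat_lit 0x110501f212)))) (.node 2 (.node 1 (.leaf (nat_lit 0x110501f222)) (.leaf (nat_lit 0x110601f232))) (.node 1 (.leaf (nat_lit 0x1c0401f261)) (.leaf (nat_lit 0x1c0801f261))))) (.node 4 (.node 2 (.node 1 (.leaf (nat_lit 0x1c0401f281)) (.leaf (nat_lit 0x1c0501f291))) (.node 1 (.leaf (nat_lit 0x1c0801f291)) (.leaf (nat_lit 0x1c0501f2b1)))) (.node 2 (.node 1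 (.leaf (nat_lit 0x1c0601f2d1)) (.leaf (nat_lit 0x1e0501f2e1))) (.node 1 (.leaf (nat_lit 0x1c0601f2f1)) (.leaf (nat_lit 0x1e080269f1)))))) (.node 8 (.node 4 (.node 2 (.node 1 (.leaf (nat_lit 0x200402d9b1)) (.leaf (nat_lit 0x2008026fc1))) (.node 1 (.leaf (nat_lit 0x110401f362)) (.leaf (nat_lit 0x110801f362)))) (.node 2 (.node 1 (.leaf (nat_lit 0x110501f392)) (.leaf (nat_lit 0x1c0601f3d1))) (.node 1 (.leaf (nat_lit 0x120801f482)) (.leaf (nat_lit 0x120301f492))))) (.node 4 (.node 2 (.node 1 (.leaf (nat_lit 0x120801f492)) (.leaf (nat_lit 0x120801f4a2))) (.node 1 (.leaf (nat_lit 0x120801f4c2)) (.leaf (nat_lit 0x120801f4d2)))) (.node 2 (.node 1 (.leaf (nat_lit 0x1d0301f4f1)) (.leaf (nat_lit 0x1d0801f4f1))) (.node 1 (.leaf (nat_lit 0x1d0801f501)) (.leaf (nat_lit 0x1d0301f521))))))))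

noncomputable def oT76 : Tree :=
  .node 64 (.node 32 (.node 16 (.node 8 (.node 4 (.node 2 (.node 1 (.leaf (nat_lit 0x1d0801f521)) (.leaf (nat_lit 0x1d0401f531))) (.node 1 (.leaf (nat_lit 0x1d0801f531)) (.leaf (nat_lit 0x1d0301f551)))) (.node 2 (.node 1 (.leaf (nat_lit 0x1d0801f551)) (.leaf (nat_lit 0x1d0801f561))) (.node 1 (.leaf (nat_lit 0x1d0801f581)) (.leaf (nat_lit 0x1d0801f591))))) (.node 4 (.node 2 (.node 1 (.leaf (nat_lit 0x1d0801f5b1)) (.leaf (nat_lit 0x1d0301f5d1))) (.node 1 (.leaf (nat_lit 0x1d0801f5d1)) (.leaf (nat_lit 0x1d0301f5e1)))) (.node 2 (.node 1 (.leaf (nat_lit 0x1d0801f5e1)) (.leaf (nat_lit 0x1d0401f5f1))) (.node 1 (.leaf (nat_lit 0x1d0801f5f1)) (.leaf (nat_lit 0x1d0301f611)))))) (.node 8 (.node 4 (.node 2 (.node 1 (.leaf (nat_lit 0x1d0801f611)) (.leaf (nat_lit 0x1d0801f621))) (.node 1 (.leaf (nat_lit 0x1d0801f641)) (.leaf (nat_lit 0x1d0301f651)))) (.node 2 (.node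 1 (.leaf (nat_lit 0x1d0801f651)) (.leaf (nat_lit 0x1d0401f661))) (.node 1 (.leaf (nat_lit 0x1d0801f661)) (.leaf (nat_lit 0x1d0501f681))))) (.node 4 (.node 2 (.node 1 (.leaf (nat_lit 0x1d0801f681)) (.leaf (nat_lit 0x1d0701f691))) (.node 1 (.leaf (nat_lit 0x1d0301f6a1)) (.leaf (nat_lit 0x1d0801f6a1)))) (.node 2 (.node 1 (.leaf (nat_lit 0x1d0201f6b1)) (.leaf (nat_lit 0x1d0801f6b1))) (.node 1 (.leaf (nat_lit 0x1d0801f6d1)) (.leaf (nat_lit 0x1d0301f6f1))))))) (.node 16 (.node 8 (.node 4 (.node 2 (.node 1 (.leaf (nat_lit 0x1d0801f6f1)) (.leaf (nat_lit 0x1d0301f701))) (.node 1 (.leaf (nat_lit 0x1d0801f701)) (.leaf (nat_lit 0x1d0201f711)))) (.node 2 (.node 1 (.leaf (nat_lit 0x1d0801f711)) (.leaf (nat_lit 0x1d0101f731))) (.node 1 (.leaf (nat_lit 0x1d0801f731)) (.leaf (nat_lit 0x1d0701f741))))) (.node 4 (.node 2 (.node 1 (.leaf (nat_lit 0x120201f762)) (.leaf (nat_lit 0x120501f762))) (.node 1 (.leaf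 (nat_lit 0x120701f762)) (.leaf (nat_lit 0x120501f7d2)))) (.node 2 (.node 1 (.leaf (nat_lit 0x120501f802)) (.leaf (nat_lit 0x120401f812))) (.node 1 (.leaf (nat_lit 0x120601f812)) (.leaf (nat_lit 0x120701f812)))))) (.node 8 (.node 4 (.node 2 (.node 1 (.leaf (nat_lit 0x120601f842)) (.leaf (nat_lit 0x120701f842))) (.node 1 (.leaf (nat_lit 0x120401f892)) (.leaf (nat_lit 0x120401f8a2)))) (.node 2 (.node 1 (.leaf (nat_lit 0x120601f8a2)) (.leaf (nat_lit 0x120601f8b2))) (.node 1 (.leaf (nat_lit 0x120701f8b2)) (.leaf (nat_lit 0x1d0401f901))))) (.node 4 (.node 2 (.node 1 (.leaf (nat_lit 0x1d0601f901)) (.leaf (nat_lit 0x1d0601f911))) (.node 1 (.leaf (nat_lit 0x1d0701f911)) (.leaf (nat_lit 0x1d0801fa01)))) (.node 2 (.node 1 (.leaf (nat_lit 0x1d0701f921)) (.leaf (nat_lit 0x1d0501f951))) (.node 1 (.leaf (nat_lit 0x1d0801fa31)) (.leaf (nat_lit 0x1d0701f951)))))))) (.node 32 (.node 16 (.node 8 (.node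 4 (.node 2 (.node 1 (.leaf (nat_lit 0x1d0301f961)) (.leaf (nat_lit 0x1d0801f961))) (.node 1 (.leaf (nat_lit 0x1d0601f9a1)) (.leaf (nat_lit 0x1d0301f9c1)))) (.node 2 (.node 1 (.leaf (nat_lit 0x1d0601f9c1)) (.leaf (nat_lit 0x1d07022131))) (.node 1 (.leaf (nat_lit 0x1d0501f9e1)) (.leaf (nat_lit 0x1d07022151))))) (.node 4 (.node 2 (.node 1 (.leaf (nat_lit 0x1d0701f9e1)) (.leaf (nat_lit 0x1d0301f9f1))) (.node 1 (.leaf (nat_lit 0x1d07022181)) (.leaf (nat_lit 0x1d0701fa21)))) (.node 2 (.node 1 (.leaf (nat_lit 0x120401fa72)) (.leaf (nat_lit 0x120601fa72))) (.node 1 (.leaf (nat_lit 0x120701fa72)) (.leaf (nat_lit 0x120301fa82)))))) (.node 8 (.node 4 (.node 2 (.node 1 (.leaf (nat_lit 0x120801fa82)) (.leaf (nat_lit 0x120601fa92))) (.node 1 (.leaf (nat_lit 0x120701fa92)) (.leaf (nat_lit 0x1d0801fc11)))) (.node 2 (.node 1 (.leaf (nat_lit 0x120701faa2)) (.leaf (nat_lit 0x120801fab2))) (.node 1 (.leaf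 (nat_lit 0x120501fae2)) (.leaf (nat_lit 0x1d0801fc51))))) (.node 4 (.node 2 (.node 1 (.leaf (nat_lit 0x120701fae2)) (.leaf (nat_lit 0x120301faf2))) (.node 1 (.leaf (nat_lit 0x120801faf2)) (.leaf (nat_lit 0x1f0701fb01)))) (.node 2 (.node 1 (.leaf (nat_lit 0x120801fb12)) (.leaf (nat_lit 0x120501fb32))) (.node 1 (.leaf (nat_lit 0x120701fb32)) (.leaf (nat_lit 0x120401fb42))))))) (.node 16 (.node 8 (.node 4 (.node 2 (.node 1 (.leaf (nat_lit 0x120601fb42)) (.leaf (nat_lit 0x120701fb42))) (.node 1 (.leaf (nat_lit 0x120301fb52)) (.leaf (nat_lit 0x120801fb52)))) (.node 2 (.node 1 (.leaf (nat_lit 0x120601fb62)) (.leaf (nat_lit 0x120701fb62))) (.node 1 (.leaf (nat_lit 0x120801fb82)) (.leaf (nat_lit 0x120301fba2))))) (.node 4 (.node 2 (.node 1 (.leaf (nat_lit 0x120601fba2)) (.leaf (nat_lit 0x120701fba2))) (.node 1 (.leaf (nat_lit 0x1d0201fc11)) (.leaf (nat_lit 0x120701fbb2)))) (.node 2 (.node 1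 (.leaf (nat_lit 0x120301fbc2)) (.leaf (nat_lit 0x120801fbc2))) (.node 1 (.leaf (nat_lit 0x120401fbd2)) (.leaf (nat_lit 0x120801fbd2)))))) (.node 8 (.node 4 (.node 2 (.node 1 (.leaf (nat_lit 0x120501fbf2)) (.leaf (nat_lit 0x1d03022161))) (.node 1 (.leaf (nat_lit 0x120701fbf2)) (.leaf (nat_lit 0x120301fc02)))) (.node 2 (.node 1 (.leaf (nat_lit 0x120801fc02)) (.leaf (nat_lit 0x120801fc22))) (.node 1 (.leaf (nat_lit 0x120801fc62)) (.leaf (nat_lit 0x120801fc72))))) (.node 4 (.node 2 (.node 1 (.leaf (nat_lit 0x1d0801fc91)) (.leaf (nat_lit 0x1d0301fcb1))) (.node 1 (.leaf (nat_lit 0x1d0601fcb1)) (.leaf (nat_lit 0x1d0701fcb1)))) (.node 2 (.node 1 (.leaf (nat_lit 0x1f0801feb1)) (.leaf (nat_lit 0x1d0701fcc1))) (.node 1 (.leaf (nat_lit 0x1d0301fcd1)) (.leaf (nat_lit 0x1d0801fcd1))))))))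

noncomputable def oT77 : Tree :=
  .node 64 (.node 32 (.node 16 (.node 8 (.node 4 (.node 2 (.node 1 (.leaf (nat_lit 0x1d0801fce1)) (.leaf (nat_lit 0x1d0501fd01))) (.node 1 (.leaf (nat_lit 0x1f0801ff21)) (.leaf (nat_lit 0x1d0701fd01)))) (.node 2 (.node 1 (.leaf (nat_lit 0x1d0301fd11)) (.leaf (nat_lit 0x1d0801fd11))) (.node 1 (.leaf (nat_lit 0x1f0701fd21)) (.leaf (nat_lit 0x1d0801fd31))))) (.node 4 (.node 2 (.node 1 (.leaf (nat_lit 0x1f0801ff81)) (.leaf (nat_lit 0x1d0701fd51))) (.node 1 (.leaf (nat_lit 0x1f0701fd61)) (.leaf (nat_lit 0x1d0301fd71)))) (.node 2 (.node 1 (.leaf (nat_lit 0x1d0801fd71)) (.leaf (nat_lit 0x1d0201fd81))) (.node 1 (.leaf (nat_lit 0x1d0801fd81)) (.leaf (nat_lit 0x1f0701fff1)))))) (.node 8 (.node 4 (.node 2 (.node 1 (.leaf (nat_lit 0x1d0401fdc1)) (.leaf (nat_lit 0x1d0601fdc1))) (.node 1 (.leaf (nat_lit 0x1d0701fdc1)) (.leaf (nat_lit 0x1d0301fdd1)))) (.node 2 (.node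 1 (.leaf (nat_lit 0x1d0801fdd1)) (.leaf (nat_lit 0x1d0301fde1))) (.node 1 (.leaf (nat_lit 0x1d0601fde1)) (.leaf (nat_lit 0x1d0701fde1))))) (.node 4 (.node 2 (.node 1 (.leaf (nat_lit 0x1d0201fe51)) (.leaf (nat_lit 0x1d0701fdf1))) (.node 1 (.leaf (nat_lit 0x1d0301fe01)) (.leaf (nat_lit 0x1d0801fe01)))) (.node 2 (.node 1 (.leaf (nat_lit 0x1d0401fe11)) (.leaf (nat_lit 0x1d0801fe11))) (.node 1 (.leaf (nat_lit 0x1d0501fe31)) (.leaf (nat_lit 0x1d0401fe51))))))) (.node 16 (.node 8 (.node 4 (.node 2 (.node 1 (.leaf (nat_lit 0x1d0701fe31)) (.leaf (nat_lit 0x1d0301fe41))) (.node 1 (.leaf (nat_lit 0x1d0801fe41)) (.leaf (nat_lit 0x1d0801fe61)))) (.node 2 (.node 1 (.leaf (nat_lit 0x1d0601fe81)) (.leaf (nat_lit 0x1d0701fe81))) (.node 1 (.leaf (nat_lit 0x1d0501fe91)) (.leaf (nat_lit 0x1f0201ff21))))) (.node 4 (.node 2 (.node 1 (.leaf (nat_lit 0x1d0701fe91)) (.leaf (nat_lit 0x1d0301fea1))) (.node 1 (.leaf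 (nat_lit 0x1d0801fea1)) (.leaf (nat_lit 0x1d0201ff61)))) (.node 2 (.node 1 (.leaf (nat_lit 0x1d0301fec1)) (.leaf (nat_lit 0x1d0801fec1))) (.node 1 (.leaf (nat_lit 0x1d0401fed1)) (.leaf (nat_lit 0x1d0801fed1)))))) (.node 8 (.node 4 (.node 2 (.node 1 (.leaf (nat_lit 0x1d0501fef1)) (.leaf (nat_lit 0x1d0801fef1))) (.node 1 (.leaf (nat_lit 0x1d0701ff01)) (.leaf (nat_lit 0x1f0302dd91)))) (.node 2 (.node 1 (.leaf (nat_lit 0x1d0701ff11)) (.leaf (nat_lit 0x1d03022631))) (.node 1 (.leaf (nat_lit 0x1d0301ff31)) (.leaf (nat_lit 0x1d0801ff31))))) (.node 4 (.node 2 (.node 1 (.leaf (nat_lit 0x1d0201ff41)) (.leaf (nat_lit 0x1d0801ff41))) (.node 1 (.leaf (nat_lit 0x1d0801ff61)) (.leaf (nat_lit 0x1f0302dd21)))) (.node 2 (.node 1 (.leaf (nat_lit 0x1d03022691)) (.leaf (nat_lit 0x1d0301ff91))) (.node 1 (.leaf (nat_lit 0x1d0801ff91)) (.leaf (nat_lit 0x1d0801ffa1)))))))) (.node 32 (.node 16 (.node 8 (.node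 4 (.node 2 (.node 1 (.leaf (nat_lit 0x1d0801ffb1)) (.leaf (nat_lit 0x1d0101ffd1))) (.node 1 (.leaf (nat_lit 0x1d0801ffd1)) (.leaf (nat_lit 0x1d0701ffe1)))) (.node 2 (.node 1 (.leaf (nat_lit 0x1d06020001)) (.leaf (nat_lit 0x1d07020001))) (.node 1 (.leaf (nat_lit 0x1d05020011)) (.leaf (nat_lit 0x21080202f1))))) (.node 4 (.node 2 (.node 1 (.leaf (nat_lit 0x1d07020011)) (.leaf (nat_lit 0x1d03020021))) (.node 1 (.leaf (nat_lit 0x1d08020021)) (.leaf (nat_lit 0x2107020031)))) (.node 2 (.node 1 (.leaf (nat_lit 0x1d03020041)) (.leaf (nat_lit 0x1d08020041))) (.node 1 (.leaf (nat_lit 0x1d04020051)) (.leaf (nat_lit 0x1d08020051)))))) (.node 8 (.node 4 (.node 2 (.node 1 (.leaf (nat_lit 0x1d07020071)) (.leaf (nat_lit 0x21080203b1))) (.node 1 (.leaf (nat_lit 0x1d07020081)) (.leaf (nat_lit 0x2107020091)))) (.node 2 (.node 1 (.leaf (nat_lit 0x1d030200a1)) (.leaf (nat_lit 0x1d080200a1))) (.node 1 (.leaf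 (nat_lit 0x1d020200b1)) (.leaf (nat_lit 0x1d080200b1))))) (.node 4 (.node 2 (.node 1 (.leaf (nat_lit 0x1f07020421)) (.leaf (nat_lit 0x2108020431))) (.node 1 (.leaf (nat_lit 0x2102021551)) (.leaf (nat_lit 0x1d03020101)))) (.node 2 (.node 1 (.leaf (nat_lit 0x1d08020101)) (.leaf (nat_lit 0x1f0202e8c1))) (.node 1 (.leaf (nat_lit 0x2107020481)) (.leaf (nat_lit 0x1d02020121))))))) (.node 16 (.node 8 (.node 4 (.node 2 (.node 1 (.leaf (nat_lit 0x1d08020121)) (.leaf (nat_lit 0x1d01020141))) (.node 1 (.leaf (nat_lit 0x1d08020141)) (.leaf (nat_lit 0x1d07020151)))) (.node 2 (.node 1 (.leaf (nat_lit 0x1d03020171)) (.leaf (nat_lit 0x1d06020171))) (.node 1 (.leaf (nat_lit 0x1d07020171)) (.leaf (nat_lit 0x1f010201f1))))) (.node 4 (.node 2 (.node 1 (.leaf (nat_lit 0x1d07020181)) (.leaf (nat_lit 0x1d03020191))) (.node 1 (.leaf (nat_lit 0x1d08020191)) (.leaf (nat_lit 0x1d020201a1)))) (.node 2 (.node 1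 (.leaf (nat_lit 0x1d080201a1)) (.leaf (nat_lit 0x1d060201c1))) (.node 1 (.leaf (nat_lit 0x1d070201c1)) (.leaf (nat_lit 0x1d050201d1)))))) (.node 8 (.node 4 (.node 2 (.node 1 (.leaf (nat_lit 0x1f040201f1)) (.leaf (nat_lit 0x1d070201d1))) (.node 1 (.leaf (nat_lit 0x1d030201e1)) (.leaf (nat_lit 0x1d080201e1)))) (.node 2 (.node 1 (.leaf (nat_lit 0x1d020202a1)) (.leaf (nat_lit 0x1d03020201))) (.node 1 (.leaf (nat_lit 0x1d08020201)) (.leaf (nat_lit 0x1d04020211))))) (.node 4 (.node 2 (.node 1 (.leaf (nat_lit 0x1d08020211)) (.leaf (nat_lit 0x1d05020231))) (.node 1 (.leaf (nat_lit 0x1d08020231)) (.leaf (nat_lit 0x1d07020241)))) (.node 2 (.node 1 (.leaf (nat_lit 0x1f05020261)) (.leaf (nat_lit 0x1d07020251))) (.node 1 (.leaf (nat_lit 0x1d040202a1)) (.leaf (nat_lit 0x1d03020271))))))))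

noncomputable def oT78 : Tree :=
  .node 64 (.node 32 (.node 16 (.node 8 (.node 4 (.node 2 (.node 1 (.leaf (nat_lit 0x1d08020271)) (.leaf (nat_lit 0x1d02020281))) (.node 1 (.leaf (nat_lit 0x1d08020281)) (.leaf (nat_lit 0x1d080202a1)))) (.node 2 (.node 1 (.leaf (nat_lit 0x1d050202c1)) (.leaf (nat_lit 0x21030202f1))) (.node 1 (.leaf (nat_lit 0x1d070202c1)) (.leaf (nat_lit 0x1d030202d1))))) (.node 4 (.node 2 (.node 1 (.leaf (nat_lit 0x1d080202d1)) (.leaf (nat_lit 0x210402e491))) (.node 1 (.leaf (nat_lit 0x1d070202e1)) (.leaf (nat_lit 0x1f04020331)))) (.node 2 (.node 1 (.leaf (nat_lit 0x1d03020301)) (.leaf (nat_lit 0x1d08020301))) (.node 1 (.leaf (nat_lit 0x1d02020311)) (.leaf (nat_lit 0x1d04020311)))))) (.node 8 (.node 4 (.node 2 (.node 1 (.leaf (nat_lit 0x1d08020311)) (.leaf (nat_lit 0x1d02024e11))) (.node 1 (.leaf (nat_lit 0x1f08020331)) (.leaf (nat_lit 0x1d04020341)))) (.node 2 (.node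 1 (.leaf (nat_lit 0x1d08020341)) (.leaf (nat_lit 0x1d05020361))) (.node 1 (.leaf (nat_lit 0x1d08020361)) (.leaf (nat_lit 0x1d07020371))))) (.node 4 (.node 2 (.node 1 (.leaf (nat_lit 0x1d06020381)) (.leaf (nat_lit 0x1d08020381))) (.node 1 (.leaf (nat_lit 0x1d07020391)) (.leaf (nat_lit 0x210402e5a1)))) (.node 2 (.node 1 (.leaf (nat_lit 0x1f0402e5b1)) (.leaf (nat_lit 0x1d030203c1))) (.node 1 (.leaf (nat_lit 0x1d080203c1)) (.leaf (nat_lit 0x1d040251e1))))))) (.node 16 (.node 8 (.node 4 (.node 2 (.node 1 (.leaf (nat_lit 0x1f080203d1)) (.leaf (nat_lit 0x1d020203e1))) (.node 1 (.leaf (nat_lit 0x1d080203e1)) (.leaf (nat_lit 0x1d01020401)))) (.node 2 (.node 1 (.leaf (nat_lit 0x1d08020401)) (.leaf (nat_lit 0x1d07020411))) (.node 1 (.leaf (nat_lit 0x1f0402e221)) (.leaf (nat_lit 0x1d04022b91))))) (.node 4 (.node 2 (.node 1 (.leaf (nat_lit 0x1f08020441)) (.leaf (nat_lit 0x1d02020451))) (.node 1 (.leaf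 (nat_lit 0x1d04020451)) (.leaf (nat_lit 0x1d08020451)))) (.node 2 (.node 1 (.leaf (nat_lit 0x1f0402dbf1)) (.leaf (nat_lit 0x1f08020471))) (.node 1 (.leaf (nat_lit 0x1d01020491)) (.leaf (nat_lit 0x1d08020491)))))) (.node 8 (.node 4 (.node 2 (.node 1 (.leaf (nat_lit 0x1d070204a1)) (.leaf (nat_lit 0x1d000204b1))) (.node 1 (.leaf (nat_lit 0x1d080204b1)) (.leaf (nat_lit 0x1d070204c1)))) (.node 2 (.node 1 (.leaf (nat_lit 0x12010204e2)) (.leaf (nat_lit 0x12050204e2))) (.node 1 (.leaf (nat_lit 0x12070204e2)) (.leaf (nat_lit 0x12040204f2))))) (.node 4 (.node 2 (.node 1 (.leaf (nat_lit 0x12060204f2)) (.leaf (nat_lit 0x12070204f2))) (.node 1 (.leaf (nat_lit 0x1208020502)) (.leaf (nat_lit 0x1d03020a31)))) (.node 2 (.node 1 (.leaf (nat_lit 0x1207020522)) (.leaf (nat_lit 0x1203020532))) (.node 1 (.leaf (nat_lit 0x1208020532)) (.leaf (nat_lit 0x1207020542)))))))) (.node 32 (.node 16 (.node 8 (.node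 4 (.node 2 (.node 1 (.leaf (nat_lit 0x1d040209c1)) (.leaf (nat_lit 0x1207020552))) (.node 1 (.leaf (nat_lit 0x1208020562)) (.leaf (nat_lit 0x1d050209b1)))) (.node 2 (.node 1 (.leaf (nat_lit 0x1207020592)) (.leaf (nat_lit 0x12030205a2))) (.node 1 (.leaf (nat_lit 0x12080205a2)) (.leaf (nat_lit 0x1f070205b1))))) (.node 4 (.node 2 (.node 1 (.leaf (nat_lit 0x12080205c2)) (.leaf (nat_lit 0x12050205e2))) (.node 1 (.leaf (nat_lit 0x12070205e2)) (.leaf (nat_lit 0x12040205f2)))) (.node 2 (.node 1 (.leaf (nat_lit 0x12060205f2)) (.leaf (nat_lit 0x12070205f2))) (.node 1 (.leaf (nat_lit 0x1203020602)) (.leaf (nat_lit 0x1208020602)))))) (.node 8 (.node 4 (.node 2 (.node 1 (.leaf (nat_lit 0x1206020612)) (.leaf (nat_lit 0x1207020612))) (.node 1 (.leaf (nat_lit 0x1f03020651)) (.leaf (nat_lit 0x1207020622)))) (.node 2 (.node 1 (.leaf (nat_lit 0x1208020632)) (.leaf (nat_lit 0x1203020662))) (.node 1 (.leaf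 (nat_lit 0x1206020662)) (.leaf (nat_lit 0x1207020662))))) (.node 4 (.node 2 (.node 1 (.leaf (nat_lit 0x1f08020861)) (.leaf (nat_lit 0x1207020672))) (.node 1 (.leaf (nat_lit 0x1203020682)) (.leaf (nat_lit 0x1208020682)))) (.node 2 (.node 1 (.leaf (nat_lit 0x1204020692)) (.leaf (nat_lit 0x1208020692))) (.node 1 (.leaf (nat_lit 0x12050206b2)) (.leaf (nat_lit 0x1f080208d1))))))) (.node 16 (.node 8 (.node 4 (.node 2 (.node 1 (.leaf (nat_lit 0x12070206b2)) (.leaf (nat_lit 0x12030206c2))) (.node 1 (.leaf (nat_lit 0x12080206c2)) (.leaf (nat_lit 0x1f0302f111)))) (.node 2 (.node 1 (.leaf (nat_lit 0x12080206e2)) (.leaf (nat_lit 0x1f08020931))) (.node 1 (.leaf (nat_lit 0x1207020702)) (.leaf (nat_lit 0x1f07020711))))) (.node 4 (.node 2 (.node 1 (.leaf (nat_lit 0x1203020722)) (.leaf (nat_lit 0x1208020722))) (.node 1 (.leaf (nat_lit 0x1202020732)) (.leaf (nat_lit 0x1208020732)))) (.node 2 (.node 1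 (.leaf (nat_lit 0x1f070209a1)) (.leaf (nat_lit 0x1204020772))) (.node 1 (.leaf (nat_lit 0x1206020772)) (.leaf (nat_lit 0x1207020772)))))) (.node 8 (.node 4 (.node 2 (.node 1 (.leaf (nat_lit 0x1208020782)) (.leaf (nat_lit 0x1203020792))) (.node 1 (.leaf (nat_lit 0x1206020792)) (.leaf (nat_lit 0x1207020792)))) (.node 2 (.node 1 (.leaf (nat_lit 0x1f00020861)) (.leaf (nat_lit 0x12070207a2))) (.node 1 (.leaf (nat_lit 0x12030207b2)) (.leaf (nat_lit 0x12080207b2))))) (.node 4 (.node 2 (.node 1 (.leaf (nat_lit 0x12080207c2)) (.leaf (nat_lit 0x12050207e2))) (.node 1 (.leaf (nat_lit 0x1f000208d1)) (.leaf (nat_lit 0x12070207e2)))) (.node 2 (.node 1 (.leaf (nat_lit 0x12030207f2)) (.leaf (nat_lit 0x12080207f2))) (.node 1 (.leaf (nat_lit 0x1f00020911)) (.leaf (nat_lit 0x1208020812))))))))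

noncomputable def oT79 : Tree :=
  .node 64 (.node 32 (.node 16 (.node 8 (.node 4 (.node 2 (.node 1 (.leaf (nat_lit 0x1206020832)) (.leaf (nat_lit 0x1207020832))) (.node 1 (.leaf (nat_lit 0x1205020842)) (.leaf (nat_lit 0x1f0102dfe1)))) (.node 2 (.node 1 (.leaf (nat_lit 0x1207020842)) (.leaf (nat_lit 0x1203020852))) (.node 1 (.leaf (nat_lit 0x1208020852)) (.leaf (nat_lit 0x1d01024de1))))) (.node 4 (.node 2 (.node 1 (.leaf (nat_lit 0x1203020872)) (.leaf (nat_lit 0x1208020872))) (.node 1 (.leaf (nat_lit 0x1204020882)) (.leaf (nat_lit 0x1208020882)))) (.node 2 (.node 1 (.leaf (nat_lit 0x12050208a2)) (.leaf (nat_lit 0x12080208a2))) (.node 1 (.leaf (nat_lit 0x12070208b2)) (.leaf (nat_lit 0x1f01020931)))))) (.node 8 (.node 4 (.node 2 (.node 1 (.leaf (nat_lit 0x12070208c2)) (.leaf (nat_lit 0x1d01020951))) (.node 1 (.leaf (nat_lit 0x12030208e2)) (.leaf (nat_lit 0x12080208e2)))) (.node 2 (.node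 1 (.leaf (nat_lit 0x12020208f2)) (.leaf (nat_lit 0x12080208f2))) (.node 1 (.leaf (nat_lit 0x1f08020911)) (.leaf (nat_lit 0x1f0202dd31))))) (.node 4 (.node 2 (.node 1 (.leaf (nat_lit 0x1208020942)) (.leaf (nat_lit 0x1d08020951))) (.node 1 (.leaf (nat_lit 0x1208020962)) (.leaf (nat_lit 0x1201020982)))) (.node 2 (.node 1 (.leaf (nat_lit 0x1208020982)) (.leaf (nat_lit 0x1207020992))) (.node 1 (.leaf (nat_lit 0x1d070209b1)) (.leaf (nat_lit 0x1d060209c1))))))) (.node 16 (.node 8 (.node 4 (.node 2 (.node 1 (.leaf (nat_lit 0x1d070209c1)) (.leaf (nat_lit 0x1d030209d1))) (.node 1 (.leaf (nat_lit 0x1d080209d1)) (.leaf (nat_lit 0x1d060209e1)))) (.node 2 (.node 1 (.leaf (nat_lit 0x1d070209e1)) (.leaf (nat_lit 0x1d06020a31))) (.node 1 (.leaf (nat_lit 0x1d070209f1)) (.leaf (nat_lit 0x1d08020a01))))) (.node 4 (.node 2 (.node 1 (.leaf (nat_lit 0x1d07020a31)) (.leaf (nat_lit 0x1d07020a41))) (.node 1 (.leaf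 (nat_lit 0x1d03020a51)) (.leaf (nat_lit 0x1d08020a51)))) (.node 2 (.node 1 (.leaf (nat_lit 0x1d04020a61)) (.leaf (nat_lit 0x1d08020a61))) (.node 1 (.leaf (nat_lit 0x1d05020a81)) (.leaf (nat_lit 0x1d07020a81)))))) (.node 8 (.node 4 (.node 2 (.node 1 (.leaf (nat_lit 0x1d03020a91)) (.leaf (nat_lit 0x1d08020a91))) (.node 1 (.leaf (nat_lit 0x1f07020aa1)) (.leaf (nat_lit 0x1d08020ab1)))) (.node 2 (.node 1 (.leaf (nat_lit 0x1d060210d1)) (.leaf (nat_lit 0x1d07020ad1))) (.node 1 (.leaf (nat_lit 0x1f07020ae1)) (.leaf (nat_lit 0x1d03020af1))))) (.node 4 (.node 2 (.node 1 (.leaf (nat_lit 0x1d08020af1)) (.leaf (nat_lit 0x1d02020b01))) (.node 1 (.leaf (nat_lit 0x1d08020b01)) (.leaf (nat_lit 0x2108020b21)))) (.node 2 (.node 1 (.leaf (nat_lit 0x1d04020b41)) (.leaf (nat_lit 0x1d06020b41))) (.node 1 (.leaf (nat_lit 0x1d07020b41)) (.leaf (nat_lit 0x1d08020b51)))))))) (.node 32 (.node 16 (.node 8 (.node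 4 (.node 2 (.node 1 (.leaf (nat_lit 0x1d03020b61)) (.leaf (nat_lit 0x1d06020b61))) (.node 1 (.leaf (nat_lit 0x1d07020b61)) (.leaf (nat_lit 0x2102020bd1)))) (.node 2 (.node 1 (.leaf (nat_lit 0x1d07020b71)) (.leaf (nat_lit 0x1d03020b81))) (.node 1 (.leaf (nat_lit 0x1d08020b81)) (.leaf (nat_lit 0x1d08020b91))))) (.node 4 (.node 2 (.node 1 (.leaf (nat_lit 0x1d05020bb1)) (.leaf (nat_lit 0x2104020bd1))) (.node 1 (.leaf (nat_lit 0x1d07020bb1)) (.leaf (nat_lit 0x1d03020bc1)))) (.node 2 (.node 1 (.leaf (nat_lit 0x1d08020bc1)) (.leaf (nat_lit 0x1f0302f921))) (.node 1 (.leaf (nat_lit 0x1d08020be1)) (.leaf (nat_lit 0x1d06020c01)))))) (.node 8 (.node 4 (.node 2 (.node 1 (.leaf (nat_lit 0x1d07020c01)) (.leaf (nat_lit 0x1d05020c11))) (.node 1 (.leaf (nat_lit 0x2108020ee1)) (.leaf (nat_lit 0x1d07020c11)))) (.node 2 (.node 1 (.leaf (nat_lit 0x1d03020c21)) (.leaf (nat_lit 0x1d08020c21))) (.node 1 (.leaf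 (nat_lit 0x2102020ce1)) (.leaf (nat_lit 0x1d03020c41))))) (.node 4 (.node 2 (.node 1 (.leaf (nat_lit 0x1d08020c41)) (.leaf (nat_lit 0x1d04020c51))) (.node 1 (.leaf (nat_lit 0x1d08020c51)) (.leaf (nat_lit 0x1d05020c71)))) (.node 2 (.node 1 (.leaf (nat_lit 0x1d08020c71)) (.leaf (nat_lit 0x1d07020c81))) (.node 1 (.leaf (nat_lit 0x2108020fa1)) (.leaf (nat_lit 0x1d07020c91))))))) (.node 16 (.node 8 (.node 4 (.node 2 (.node 1 (.leaf (nat_lit 0x2104020ce1)) (.leaf (nat_lit 0x1d03020cb1))) (.node 1 (.leaf (nat_lit 0x1d08020cb1)) (.leaf (nat_lit 0x1d02020cc1)))) (.node 2 (.node 1 (.leaf (nat_lit 0x1d08020cc1)) (.leaf (nat_lit 0x2108020ce1))) (.node 1 (.leaf (nat_lit 0x2108021021)) (.leaf (nat_lit 0x2104021551))))) (.node 4 (.node 2 (.node 1 (.leaf (nat_lit 0x1d03020d11)) (.leaf (nat_lit 0x1d08020d11))) (.node 1 (.leaf (nat_lit 0x210402fa51)) (.leaf (nat_lit 0x1f07021071)))) (.node 2 (.node 1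 (.leaf (nat_lit 0x1d02020d31)) (.leaf (nat_lit 0x1d08020d31))) (.node 1 (.leaf (nat_lit 0x1d01020d51)) (.leaf (nat_lit 0x1d08020d51)))))) (.node 8 (.node 4 (.node 2 (.node 1 (.leaf (nat_lit 0x1d07020d61)) (.leaf (nat_lit 0x1d03020d81))) (.node 1 (.leaf (nat_lit 0x1d06020d81)) (.leaf (nat_lit 0x1d07020d81)))) (.node 2 (.node 1 (.leaf (nat_lit 0x1f0002e2e1)) (.leaf (nat_lit 0x1d07020d91))) (.node 1 (.leaf (nat_lit 0x1d08020da1)) (.leaf (nat_lit 0x1d06020dc1))))) (.node 4 (.node 2 (.node 1 (.leaf (nat_lit 0x1d07020dc1)) (.leaf (nat_lit 0x1d05020dd1))) (.node 1 (.leaf (nat_lit 0x2100020ee1)) (.leaf (nat_lit 0x1d07020dd1)))) (.node 2 (.node 1 (.leaf (nat_lit 0x1d03020de1)) (.leaf (nat_lit 0x1d08020de1))) (.node 1 (.leaf (nat_lit 0x1f00020f21)) (.leaf (nat_lit 0x1d03020e01))))))))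

noncomputable def oT80 : Tree :=
  .node 64 (.node 32 (.node 16 (.node 8 (.node 4 (.node 2 (.node 1 (.leaf (nat_lit 0x1d08020e01)) (.leaf (nat_lit 0x1d04020e11))) (.node 1 (.leaf (nat_lit 0x1d08020e11)) (.leaf (nat_lit 0x1d07020e31)))) (.node 2 (.node 1 (.leaf (nat_lit 0x2100020fa1)) (.leaf (nat_lit 0x1d07020e41))) (.node 1 (.leaf (nat_lit 0x1f00020fc1)) (.leaf (nat_lit 0x1d03020e61))))) (.node 4 (.node 2 (.node 1 (.leaf (nat_lit 0x1d08020e61)) (.leaf (nat_lit 0x1d02020e71))) (.node 1 (.leaf (nat_lit 0x1d08020e71)) (.leaf (nat_lit 0x210702fc61)))) (.node 2 (.node 1 (.leaf (nat_lit 0x1d05020eb1)) (.leaf (nat_lit 0x210102e451))) (.node 1 (.leaf (nat_lit 0x1d07020eb1)) (.leaf (nat_lit 0x1d03020ec1)))))) (.node 8 (.node 4 (.node 2 (.node 1 (.leaf (nat_lit 0x1d08020ec1)) (.leaf (nat_lit 0x210102e491))) (.node 1 (.leaf (nat_lit 0x1d07020ed1)) (.leaf (nat_lit 0x1f0102e4b1)))) (.node 2 (.node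 1 (.leaf (nat_lit 0x1d03020ef1)) (.leaf (nat_lit 0x1d08020ef1))) (.node 1 (.leaf (nat_lit 0x1d02020f01)) (.leaf (nat_lit 0x1d04020f01))))) (.node 4 (.node 2 (.node 1 (.leaf (nat_lit 0x1d08020f01)) (.leaf (nat_lit 0x1d01024e51))) (.node 1 (.leaf (nat_lit 0x1f08020f21)) (.leaf (nat_lit 0x1d04020f31)))) (.node 2 (.node 1 (.leaf (nat_lit 0x1d08020f31)) (.leaf (nat_lit 0x1d05020f51))) (.node 1 (.leaf (nat_lit 0x1d08020f51)) (.leaf (nat_lit 0x1d07020f61))))))) (.node 16 (.node 8 (.node 4 (.node 2 (.node 1 (.leaf (nat_lit 0x1d06020f71)) (.leaf (nat_lit 0x1d08020f71))) (.node 1 (.leaf (nat_lit 0x1d07020f81)) (.leaf (nat_lit 0x2101021021)))) (.node 2 (.node 1 (.leaf (nat_lit 0x1f01021031)) (.leaf (nat_lit 0x1d03020fb1))) (.node 1 (.leaf (nat_lit 0x1d08020fb1)) (.leaf (nat_lit 0x1d01021061))))) (.node 4 (.node 2 (.node 1 (.leaf (nat_lit 0x1f08020fc1)) (.leaf (nat_lit 0x1d02020fd1))) (.node 1 (.leaf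 (nat_lit 0x1d08020fd1)) (.leaf (nat_lit 0x1d01020ff1)))) (.node 2 (.node 1 (.leaf (nat_lit 0x1d08020ff1)) (.leaf (nat_lit 0x1d07021001))) (.node 1 (.leaf (nat_lit 0x1f0202e221)) (.leaf (nat_lit 0x1d020237b1)))))) (.node 8 (.node 4 (.node 2 (.node 1 (.leaf (nat_lit 0x1f08021031)) (.leaf (nat_lit 0x1d02021041))) (.node 1 (.leaf (nat_lit 0x1d04021041)) (.leaf (nat_lit 0x1d08021041)))) (.node 2 (.node 1 (.leaf (nat_lit 0x1d08021061)) (.leaf (nat_lit 0x1d01021081))) (.node 1 (.leaf (nat_lit 0x1d08021081)) (.leaf (nat_lit 0x1d07021091))))) (.node 4 (.node 2 (.node 1 (.leaf (nat_lit 0x1d000210a1)) (.leaf (nat_lit 0x1d080210a1))) (.node 1 (.leaf (nat_lit 0x1d070210b1)) (.leaf (nat_lit 0x1d070210d1)))) (.node 2 (.node 1 (.leaf (nat_lit 0x1d030210e1)) (.leaf (nat_lit 0x1d080210e1))) (.node 1 (.leaf (nat_lit 0x1d070210f1)) (.leaf (nat_lit 0x1d03021101)))))))) (.node 32 (.node 16 (.node 8 (.node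 4 (.node 2 (.node 1 (.leaf (nat_lit 0x1d08021101)) (.leaf (nat_lit 0x1d08021111))) (.node 1 (.leaf (nat_lit 0x1f07021131)) (.leaf (nat_lit 0x1d08021141)))) (.node 2 (.node 1 (.leaf (nat_lit 0x1d07021161)) (.leaf (nat_lit 0x1d03021171))) (.node 1 (.leaf (nat_lit 0x1d08021171)) (.leaf (nat_lit 0x1d04025cc1))))) (.node 4 (.node 2 (.node 1 (.leaf (nat_lit 0x1d03021191)) (.leaf (nat_lit 0x1d08021191))) (.node 1 (.leaf (nat_lit 0x1d040211a1)) (.leaf (nat_lit 0x1d080211a1)))) (.node 2 (.node 1 (.leaf (nat_lit 0x1d050211c1)) (.leaf (nat_lit 0x1d080211c1))) (.node 1 (.leaf (nat_lit 0x1d070211d1)) (.leaf (nat_lit 0x1d070211e1)))))) (.node 8 (.node 4 (.node 2 (.node 1 (.leaf (nat_lit 0x1d02025cc1)) (.leaf (nat_lit 0x1d08021201))) (.node 1 (.leaf (nat_lit 0x1f08021221)) (.leaf (nat_lit 0x1d01025d01)))) (.node 2 (.node 1 (.leaf (nat_lit 0x1d03021251)) (.leaf (nat_lit 0x1d08021251))) (.node 1 (.leaf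 (nat_lit 0x1d07021ab1)) (.leaf (nat_lit 0x1f08021261))))) (.node 4 (.node 2 (.node 1 (.leaf (nat_lit 0x1d02021271)) (.leaf (nat_lit 0x1d08021271))) (.node 1 (.leaf (nat_lit 0x1d01021291)) (.leaf (nat_lit 0x1d08021291)))) (.node 2 (.node 1 (.leaf (nat_lit 0x1d060212c1)) (.leaf (nat_lit 0x1d070212c1))) (.node 1 (.leaf (nat_lit 0x2108021621)) (.leaf (nat_lit 0x1d070212d1))))))) (.node 16 (.node 8 (.node 4 (.node 2 (.node 1 (.leaf (nat_lit 0x1d080212e1)) (.leaf (nat_lit 0x1d05021301))) (.node 1 (.leaf (nat_lit 0x2108021681)) (.leaf (nat_lit 0x1d07021301)))) (.node 2 (.node 1 (.leaf (nat_lit 0x1d03021311)) (.leaf (nat_lit 0x1d08021311))) (.node 1 (.leaf (nat_lit 0x21020213b1)) (.leaf (nat_lit 0x1d03021331))))) (.node 4 (.node 2 (.node 1 (.leaf (nat_lit 0x1d08021331)) (.leaf (nat_lit 0x1d04021341))) (.node 1 (.leaf (nat_lit 0x1d08021341)) (.leaf (nat_lit 0x1d07021361)))) (.node 2 (.node 1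 (.leaf (nat_lit 0x2108021721)) (.leaf (nat_lit 0x1d07021371))) (.node 1 (.leaf (nat_lit 0x21040213b1)) (.leaf (nat_lit 0x1d08021391)))))) (.node 8 (.node 4 (.node 2 (.node 1 (.leaf (nat_lit 0x21080213b1)) (.leaf (nat_lit 0x1d050213d1))) (.node 1 (.leaf (nat_lit 0x21080217b1)) (.leaf (nat_lit 0x1d070213d1)))) (.node 2 (.node 1 (.leaf (nat_lit 0x1d030213e1)) (.leaf (nat_lit 0x1d080213e1))) (.node 1 (.leaf (nat_lit 0x23020214c1)) (.leaf (nat_lit 0x1d070213f1))))) (.node 4 (.node 2 (.node 1 (.leaf (nat_lit 0x2103030a11)) (.leaf (nat_lit 0x1d03021411))) (.node 1 (.leaf (nat_lit 0x1d08021411)) (.leaf (nat_lit 0x1d02021421)))) (.node 2 (.node 1 (.leaf (nat_lit 0x1d04021421)) (.leaf (nat_lit 0x1d08021421))) (.node 1 (.leaf (nat_lit 0x1f04030ac1)) (.leaf (nat_lit 0x2107021881))))))))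

noncomputable def oT81 : Tree :=
  .node 64 (.node 32 (.node 16 (.node 8 (.node 4 (.node 2 (.node 1 (.leaf (nat_lit 0x1d04021451)) (.leaf (nat_lit 0x1d08021451))) (.node 1 (.leaf (nat_lit 0x1d05021471)) (.leaf (nat_lit 0x1d08021471)))) (.node 2 (.node 1 (.leaf (nat_lit 0x1d07021481)) (.leaf (nat_lit 0x1d06021491))) (.node 1 (.leaf (nat_lit 0x1d08021491)) (.leaf (nat_lit 0x1d070214a1))))) (.node 4 (.node 2 (.node 1 (.leaf (nat_lit 0x2103021b41)) (.leaf (nat_lit 0x2103030b81))) (.node 1 (.leaf (nat_lit 0x1d030214d1)) (.leaf (nat_lit 0x1d080214d1)))) (.node 2 (.node 1 (.leaf (nat_lit 0x1f04025c71)) (.leaf (nat_lit 0x21080214e1))) (.node 1 (.leaf (nat_lit 0x1d020214f1)) (.leaf (nat_lit 0x1d080214f1)))))) (.node 8 (.node 4 (.node 2 (.node 1 (.leaf (nat_lit 0x1d01021511)) (.leaf (nat_lit 0x1d08021511))) (.node 1 (.leaf (nat_lit 0x1f03030c21)) (.leaf (nat_lit 0x1f07021bb1)))) (.node 2 (.node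 1 (.leaf (nat_lit 0x2103030c61)) (.leaf (nat_lit 0x1d02021561))) (.node 1 (.leaf (nat_lit 0x1d04021561)) (.leaf (nat_lit 0x1d08021561))))) (.node 4 (.node 2 (.node 1 (.leaf (nat_lit 0x1d07021c01)) (.leaf (nat_lit 0x1f08021581))) (.node 1 (.leaf (nat_lit 0x1d010215a1)) (.leaf (nat_lit 0x1d080215a1)))) (.node 2 (.node 1 (.leaf (nat_lit 0x1d070215b1)) (.leaf (nat_lit 0x1d000215c1))) (.node 1 (.leaf (nat_lit 0x1d080215c1)) (.leaf (nat_lit 0x1d070215d1))))))) (.node 16 (.node 8 (.node 4 (.node 2 (.node 1 (.leaf (nat_lit 0x1d060215f1)) (.leaf (nat_lit 0x1d070215f1))) (.node 1 (.leaf (nat_lit 0x1d05021601)) (.leaf (nat_lit 0x2104021621)))) (.node 2 (.node 1 (.leaf (nat_lit 0x1d07021601)) (.leaf (nat_lit 0x1d03021611))) (.node 1 (.leaf (nat_lit 0x1d08021611)) (.leaf (nat_lit 0x1f0002e9b1))))) (.node 4 (.node 2 (.node 1 (.leaf (nat_lit 0x1d08021631)) (.leaf (nat_lit 0x1d05021651))) (.node 1 (.leaf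 (nat_lit 0x1f07030e31)) (.leaf (nat_lit 0x1d07021651)))) (.node 2 (.node 1 (.leaf (nat_lit 0x1d03021661)) (.leaf (nat_lit 0x1d08021661))) (.node 1 (.leaf (nat_lit 0x2103030e11)) (.leaf (nat_lit 0x1d07021671)))))) (.node 8 (.node 4 (.node 2 (.node 1 (.leaf (nat_lit 0x21040216c1)) (.leaf (nat_lit 0x1d03021691))) (.node 1 (.leaf (nat_lit 0x1d08021691)) (.leaf (nat_lit 0x1d020216a1)))) (.node 2 (.node 1 (.leaf (nat_lit 0x1d040216a1)) (.leaf (nat_lit 0x1d080216a1))) (.node 1 (.leaf (nat_lit 0x1f00021871)) (.leaf (nat_lit 0x21080216c1))))) (.node 4 (.node 2 (.node 1 (.leaf (nat_lit 0x1d040216d1)) (.leaf (nat_lit 0x1d080216d1))) (.node 1 (.leaf (nat_lit 0x1d080216f1)) (.leaf (nat_lit 0x1d07021701)))) (.node 2 (.node 1 (.leaf (nat_lit 0x2103021cd1)) (.leaf (nat_lit 0x2104030151))) (.node 1 (.leaf (nat_lit 0x1d03021731)) (.leaf (nat_lit 0x1d08021731)))))))) (.node 32 (.node 16 (.node 8 (.node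 4 (.node 2 (.node 1 (.leaf (nat_lit 0x1f07021d01)) (.leaf (nat_lit 0x2108021741))) (.node 1 (.leaf (nat_lit 0x1d02021751)) (.leaf (nat_lit 0x1d08021751)))) (.node 2 (.node 1 (.leaf (nat_lit 0x1d01021771)) (.leaf (nat_lit 0x1d08021771))) (.node 1 (.leaf (nat_lit 0x1d040217a1)) (.leaf (nat_lit 0x21070310b1))))) (.node 4 (.node 2 (.node 1 (.leaf (nat_lit 0x1d070217a1)) (.leaf (nat_lit 0x1f02021d61))) (.node 1 (.leaf (nat_lit 0x1d030217c1)) (.leaf (nat_lit 0x1d080217c1)))) (.node 2 (.node 1 (.leaf (nat_lit 0x1d020217d1)) (.leaf (nat_lit 0x1d040217d1))) (.node 1 (.leaf (nat_lit 0x1d080217d1)) (.leaf (nat_lit 0x2304030281)))))) (.node 8 (.node 4 (.node 2 (.node 1 (.leaf (nat_lit 0x2104030291)) (.leaf (nat_lit 0x1d03021801))) (.node 1 (.leaf (nat_lit 0x1d08021801)) (.leaf (nat_lit 0x2103021811)))) (.node 2 (.node 1 (.leaf (nat_lit 0x2108021811)) (.leaf (nat_lit 0x1d02021821))) (.node 1 (.leaf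 (nat_lit 0x1d04021821)) (.leaf (nat_lit 0x1d08021821))))) (.node 4 (.node 2 (.node 1 (.leaf (nat_lit 0x1d01021841)) (.leaf (nat_lit 0x1d04021841))) (.node 1 (.leaf (nat_lit 0x1d08021841)) (.leaf (nat_lit 0x1d05021851)))) (.node 2 (.node 1 (.leaf (nat_lit 0x1d08021851)) (.leaf (nat_lit 0x1d07021861))) (.node 1 (.leaf (nat_lit 0x1f04021871)) (.leaf (nat_lit 0x1f08021871))))))) (.node 16 (.node 8 (.node 4 (.node 2 (.node 1 (.leaf (nat_lit 0x1d05021891)) (.leaf (nat_lit 0x1d08021891))) (.node 1 (.leaf (nat_lit 0x1d070218a1)) (.leaf (nat_lit 0x1d060218b1)))) (.node 2 (.node 1 (.leaf (nat_lit 0x1d080218b1)) (.leaf (nat_lit 0x1d070218c1))) (.node 1 (.leaf (nat_lit 0x2103024351)) (.leaf (nat_lit 0x1d080218e1))))) (.node 4 (.node 2 (.node 1 (.leaf (nat_lit 0x1d070218f1)) (.leaf (nat_lit 0x2104030421))) (.node 1 (.leaf (nat_lit 0x2103021921)) (.leaf (nat_lit 0x2108021921)))) (.node 2 (.node 1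 (.leaf (nat_lit 0x1d02021931)) (.leaf (nat_lit 0x1d04021931))) (.node 1 (.leaf (nat_lit 0x1d08021931)) (.leaf (nat_lit 0x1f07021e71)))))) (.node 8 (.node 4 (.node 2 (.node 1 (.leaf (nat_lit 0x2108021951)) (.leaf (nat_lit 0x1d01021971))) (.node 1 (.leaf (nat_lit 0x1d08021971)) (.leaf (nat_lit 0x1d07021981)))) (.node 2 (.node 1 (.leaf (nat_lit 0x1d00021991)) (.leaf (nat_lit 0x1d08021991))) (.node 1 (.leaf (nat_lit 0x1d070219a1)) (.leaf (nat_lit 0x21030219c1))))) (.node 4 (.node 2 (.node 1 (.leaf (nat_lit 0x21080219c1)) (.leaf (nat_lit 0x1f0302ef41))) (.node 1 (.leaf (nat_lit 0x1f03030511)) (.leaf (nat_lit 0x2107031571)))) (.node 2 (.node 1 (.leaf (nat_lit 0x1d010219f1)) (.leaf (nat_lit 0x1d040219f1))) (.node 1 (.leaf (nat_lit 0x1d080219f1)) (.leaf (nat_lit 0x1d08021a01))))))))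

noncomputable def oT82 : Tree :=
  .node 64 (.node 32 (.node 16 (.node 8 (.node 4 (.node 2 (.node 1 (.leaf (nat_lit 0x1d07021a11)) (.leaf (nat_lit 0x210302efb1))) (.node 1 (.leaf (nat_lit 0x2108021a21)) (.leaf (nat_lit 0x2108021fb1)))) (.node 2 (.node 1 (.leaf (nat_lit 0x1d00021a41)) (.leaf (nat_lit 0x1d08021a41))) (.node 1 (.leaf (nat_lit 0x1d07021a51)) (.leaf (nat_lit 0x1d08021a71))))) (.node 4 (.node 2 (.node 1 (.leaf (nat_lit 0x1d07021a81)) (.leaf (nat_lit 0x1d03021a91))) (.node 1 (.leaf (nat_lit 0x1d04021aa1)) (.leaf (nat_lit 0x2108021cd1)))) (.node 2 (.node 1 (.leaf (nat_lit 0x1d04021af1)) (.leaf (nat_lit 0x2108021d41))) (.node 1 (.leaf (nat_lit 0x1d07021af1)) (.leaf (nat_lit 0x2107021b01)))))) (.node 8 (.node 4 (.node 2 (.node 1 (.leaf (nat_lit 0x1d08021b11)) (.leaf (nat_lit 0x2108021db1))) (.node 1 (.leaf (nat_lit 0x1f080247e1)) (.leaf (nat_lit 0x1f080247a1)))) (.node 2 (.node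 1 (.leaf (nat_lit 0x1d02021b61)) (.leaf (nat_lit 0x1d04021b61))) (.node 1 (.leaf (nat_lit 0x1d04025aa1)) (.leaf (nat_lit 0x1d01021b81))))) (.node 4 (.node 2 (.node 1 (.leaf (nat_lit 0x1d080246c1)) (.leaf (nat_lit 0x1d030246c1))) (.node 1 (.leaf (nat_lit 0x1d08021be1)) (.leaf (nat_lit 0x1d08021bd1)))) (.node 2 (.node 1 (.leaf (nat_lit 0x1d04021bd1)) (.leaf (nat_lit 0x1d01021bd1))) (.node 1 (.leaf (nat_lit 0x1d07021bf1)) (.leaf (nat_lit 0x1f04025d71))))))) (.node 16 (.node 8 (.node 4 (.node 2 (.node 1 (.leaf (nat_lit 0x1d08021c21)) (.leaf (nat_lit 0x1d07021c31))) (.node 1 (.leaf (nat_lit 0x1d08021c51)) (.leaf (nat_lit 0x1d07021c61)))) (.node 2 (.node 1 (.leaf (nat_lit 0x1d03021c71)) (.leaf (nat_lit 0x1d04021c81))) (.node 1 (.leaf (nat_lit 0x1f07031781)) (.leaf (nat_lit 0x1d07021c81))))) (.node 4 (.node 2 (.node 1 (.leaf (nat_lit 0x1d03024a51)) (.leaf (nat_lit 0x1d08021ca1))) (.node 1 (.leaf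 (nat_lit 0x1f070249a1)) (.leaf (nat_lit 0x1f020249a1)))) (.node 2 (.node 1 (.leaf (nat_lit 0x1f020317c1)) (.leaf (nat_lit 0x1d02021cf1))) (.node 1 (.leaf (nat_lit 0x1d04021cf1)) (.leaf (nat_lit 0x1d03024a41)))))) (.node 8 (.node 4 (.node 2 (.node 1 (.leaf (nat_lit 0x1d01021d11)) (.leaf (nat_lit 0x1d00021d21))) (.node 1 (.leaf (nat_lit 0x2107031821)) (.leaf (nat_lit 0x1d07021d31)))) (.node 2 (.node 1 (.leaf (nat_lit 0x2107031851)) (.leaf (nat_lit 0x1f03031861))) (.node 1 (.leaf (nat_lit 0x1d03021d51)) (.leaf (nat_lit 0x1d08021d51))))) (.node 4 (.node 2 (.node 1 (.leaf (nat_lit 0x1d04025631)) (.leaf (nat_lit 0x1f08021d61))) (.node 1 (.leaf (nat_lit 0x1d02021d71)) (.leaf (nat_lit 0x1d08021d71)))) (.node 2 (.node 1 (.leaf (nat_lit 0x1d01021d91)) (.leaf (nat_lit 0x1d08021d91))) (.node 1 (.leaf (nat_lit 0x1f03031911)) (.leaf (nat_lit 0x1d04024ac1)))))))) (.node 32 (.node 16 (.node 8 (.node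 4 (.node 2 (.node 1 (.leaf (nat_lit 0x1d02021dd1)) (.leaf (nat_lit 0x1d04021dd1))) (.node 1 (.leaf (nat_lit 0x1d040256c1)) (.leaf (nat_lit 0x1d01021df1)))) (.node 2 (.node 1 (.leaf (nat_lit 0x1d00021e01)) (.leaf (nat_lit 0x2102031971))) (.node 1 (.leaf (nat_lit 0x1f070247e1)) (.leaf (nat_lit 0x1f03031921))))) (.node 4 (.node 2 (.node 1 (.leaf (nat_lit 0x2107031401)) (.leaf (nat_lit 0x21070319e1))) (.node 1 (.leaf (nat_lit 0x1d01021e41)) (.leaf (nat_lit 0x1d04021e41)))) (.node 2 (.node 1 (.leaf (nat_lit 0x1d08021e41)) (.leaf (nat_lit 0x1d08021e51))) (.node 1 (.leaf (nat_lit 0x1d07021e61)) (.leaf (nat_lit 0x1f03031951)))))) (.node 8 (.node 4 (.node 2 (.node 1 (.leaf (nat_lit 0x1f08021e71)) (.leaf (nat_lit 0x21030247c1))) (.node 1 (.leaf (nat_lit 0x1d00021e91)) (.leaf (nat_lit 0x1d08021e91)))) (.node 2 (.node 1 (.leaf (nat_lit 0x1d07021ea1)) (.leaf (nat_lit 0x1d08021ec1))) (.node 1 (.leaf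 (nat_lit 0x1d07021ed1)) (.leaf (nat_lit 0x1d03021ee1))))) (.node 4 (.node 2 (.node 1 (.leaf (nat_lit 0x2107031501)) (.leaf (nat_lit 0x2107031511))) (.node 1 (.leaf (nat_lit 0x1f07031541)) (.leaf (nat_lit 0x2107031531)))) (.node 2 (.node 1 (.leaf (nat_lit 0x1f03030c81)) (.leaf (nat_lit 0x1d00021f41))) (.node 1 (.leaf (nat_lit 0x1d04021f41)) (.leaf (nat_lit 0x1d08021f41))))))) (.node 16 (.node 8 (.node 4 (.node 2 (.node 1 (.leaf (nat_lit 0x1d07021f61)) (.leaf (nat_lit 0x1d07021f71))) (.node 1 (.leaf (nat_lit 0x1f02031a61)) (.leaf (nat_lit 0x2108021f91)))) (.node 2 (.node 1 (.leaf (nat_lit 0x2103031b61)) (.leaf (nat_lit 0x1d08021fc1))) (.node 1 (.leaf (nat_lit 0x1d07021fd1)) (.leaf (nat_lit 0x1d03021fe1))))) (.node 4 (.node 2 (.node 1 (.leaf (nat_lit 0x1d07021ff1)) (.leaf (nat_lit 0x1d03022001))) (.node 1 (.leaf (nat_lit 0x1d04022011)) (.leaf (nat_lit 0x1204022052)))) (.node 2 (.node 1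 (.leaf (nat_lit 0x12050220b2)) (.leaf (nat_lit 0x12070220b2))) (.node 1 (.leaf (nat_lit 0x12030220c2)) (.leaf (nat_lit 0x1d03022121)))))) (.node 8 (.node 4 (.node 2 (.node 1 (.leaf (nat_lit 0x1d06022121)) (.leaf (nat_lit 0x1d07022121))) (.node 1 (.leaf (nat_lit 0x1d05022151)) (.leaf (nat_lit 0x1d08022161)))) (.node 2 (.node 1 (.leaf (nat_lit 0x1d050221a1)) (.leaf (nat_lit 0x1d050221c1))) (.node 1 (.leaf (nat_lit 0x1d050221e1)) (.leaf (nat_lit 0x1d070221d1))))) (.node 4 (.node 2 (.node 1 (.leaf (nat_lit 0x1d04022221)) (.leaf (nat_lit 0x1d030221f1))) (.node 1 (.leaf (nat_lit 0x1d080221f1)) (.leaf (nat_lit 0x1d08022201)))) (.node 2 (.node 1 (.leaf (nat_lit 0x1d08022251)) (.leaf (nat_lit 0x1f0802dd21))) (.node 1 (.leaf (nat_lit 0x1d03022251)) (.leaf (nat_lit 0x1f0802dd31))))))))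

noncomputable def oT83 : Tree :=
  .node 64 (.node 32 (.node 16 (.node 8 (.node 4 (.node 2 (.node 1 (.leaf (nat_lit 0x1d02022271)) (.leaf (nat_lit 0x1d08022271))) (.node 1 (.leaf (nat_lit 0x1d01022291)) (.leaf (nat_lit 0x1d070222a1)))) (.node 2 (.node 1 (.leaf (nat_lit 0x12030222c2)) (.leaf (nat_lit 0x12060222c2))) (.node 1 (.leaf (nat_lit 0x12070222c2)) (.leaf (nat_lit 0x12070222d2))))) (.node 4 (.node 2 (.node 1 (.leaf (nat_lit 0x12080222e2)) (.leaf (nat_lit 0x1208022312))) (.node 1 (.leaf (nat_lit 0x1208022332)) (.leaf (nat_lit 0x1204022372)))) (.node 2 (.node 1 (.leaf (nat_lit 0x1207022372)) (.leaf (nat_lit 0x1208022382))) (.node 1 (.leaf (nat_lit 0x1207022392)) (.leaf (nat_lit 0x12070223a2)))))) (.node 8 (.node 4 (.node 2 (.node 1 (.leaf (nat_lit 0x12030223b2)) (.leaf (nat_lit 0x12080223b2))) (.node 1 (.leaf (nat_lit 0x12080223c2)) (.leaf (nat_lit 0x12050223e2)))) (.node 2 (.node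 1 (.leaf (nat_lit 0x12070223e2)) (.leaf (nat_lit 0x12030223f2))) (.node 1 (.leaf (nat_lit 0x12080223f2)) (.leaf (nat_lit 0x1d07022401))))) (.node 4 (.node 2 (.node 1 (.leaf (nat_lit 0x1208022412)) (.leaf (nat_lit 0x1207022432))) (.node 1 (.leaf (nat_lit 0x1205022442)) (.leaf (nat_lit 0x1207022442)))) (.node 2 (.node 1 (.leaf (nat_lit 0x1203022452)) (.leaf (nat_lit 0x1208022452))) (.node 1 (.leaf (nat_lit 0x1208022462)) (.leaf (nat_lit 0x1204022472))))))) (.node 16 (.node 8 (.node 4 (.node 2 (.node 1 (.leaf (nat_lit 0x1208022472)) (.leaf (nat_lit 0x1205022492))) (.node 1 (.leaf (nat_lit 0x1208022492)) (.leaf (nat_lit 0x12070224b2)))) (.node 2 (.node 1 (.leaf (nat_lit 0x1d04022501)) (.leaf (nat_lit 0x12030224d2))) (.node 1 (.leaf (nat_lit 0x12080224d2)) (.leaf (nat_lit 0x12020224e2))))) (.node 4 (.node 2 (.node 1 (.leaf (nat_lit 0x12080224e2)) (.leaf (nat_lit 0x1d08022501))) (.node 1 (.leaf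 (nat_lit 0x1208022522)) (.leaf (nat_lit 0x1f0702dd41)))) (.node 2 (.node 1 (.leaf (nat_lit 0x1208022542)) (.leaf (nat_lit 0x1201022562))) (.node 1 (.leaf (nat_lit 0x1208022562)) (.leaf (nat_lit 0x1d060225b1)))))) (.node 8 (.node 4 (.node 2 (.node 1 (.leaf (nat_lit 0x1d070225b1)) (.leaf (nat_lit 0x1d050225c1))) (.node 1 (.leaf (nat_lit 0x1d06022711)) (.leaf (nat_lit 0x1d070225c1)))) (.node 2 (.node 1 (.leaf (nat_lit 0x1d030225d1)) (.leaf (nat_lit 0x1d080225d1))) (.node 1 (.leaf (nat_lit 0x1d070225e1)) (.leaf (nat_lit 0x1d080225f1))))) (.node 4 (.node 2 (.node 1 (.leaf (nat_lit 0x1f0302dda1)) (.leaf (nat_lit 0x1d07022611))) (.node 1 (.leaf (nat_lit 0x1d08022631)) (.leaf (nat_lit 0x1d02022641)))) (.node 2 (.node 1 (.leaf (nat_lit 0x1d08022641)) (.leaf (nat_lit 0x1f08022661))) (.node 1 (.leaf (nat_lit 0x1d08022691)) (.leaf (nat_lit 0x1d070226b1)))))))) (.node 32 (.node 16 (.node 8 (.node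 4 (.node 2 (.node 1 (.leaf (nat_lit 0x1d030226d1)) (.leaf (nat_lit 0x1d060226d1))) (.node 1 (.leaf (nat_lit 0x1d070226d1)) (.leaf (nat_lit 0x1d070226e1)))) (.node 2 (.node 1 (.leaf (nat_lit 0x1d080226f1)) (.leaf (nat_lit 0x1d05022721))) (.node 1 (.leaf (nat_lit 0x1d07022721)) (.leaf (nat_lit 0x1d03022731))))) (.node 4 (.node 2 (.node 1 (.leaf (nat_lit 0x1d08022731)) (.leaf (nat_lit 0x1d07022741))) (.node 1 (.leaf (nat_lit 0x1d03022751)) (.leaf (nat_lit 0x1d08022751)))) (.node 2 (.node 1 (.leaf (nat_lit 0x1d04022761)) (.leaf (nat_lit 0x1d08022761))) (.node 1 (.leaf (nat_lit 0x1f050227a1)) (.leaf (nat_lit 0x1d07022791)))))) (.node 8 (.node 4 (.node 2 (.node 1 (.leaf (nat_lit 0x1f070227a1)) (.leaf (nat_lit 0x1d030227b1))) (.node 1 (.leaf (nat_lit 0x1d080227b1)) (.leaf (nat_lit 0x1d080227c1)))) (.node 2 (.node 1 (.leaf (nat_lit 0x1f080227e1)) (.leaf (nat_lit 0x1d05022801))) (.node 1 (.leaf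 (nat_lit 0x1d07022801)) (.leaf (nat_lit 0x1d03022811))))) (.node 4 (.node 2 (.node 1 (.leaf (nat_lit 0x1d08022811)) (.leaf (nat_lit 0x1d05022831))) (.node 1 (.leaf (nat_lit 0x1d07022821)) (.leaf (nat_lit 0x1d04022871)))) (.node 2 (.node 1 (.leaf (nat_lit 0x1d03022841)) (.leaf (nat_lit 0x1d08022841))) (.node 1 (.leaf (nat_lit 0x1d02022851)) (.leaf (nat_lit 0x1d04022851))))))) (.node 16 (.node 8 (.node 4 (.node 2 (.node 1 (.leaf (nat_lit 0x1d08022851)) (.leaf (nat_lit 0x1d08022871))) (.node 1 (.leaf (nat_lit 0x1d04022881)) (.leaf (nat_lit 0x1d08022881)))) (.node 2 (.node 1 (.leaf (nat_lit 0x1d050228a1)) (.leaf (nat_lit 0x1d080228a1))) (.node 1 (.leaf (nat_lit 0x1d060228c1)) (.leaf (nat_lit 0x1d080228c1))))) (.node 4 (.node 2 (.node 1 (.leaf (nat_lit 0x1f08031bf1)) (.leaf (nat_lit 0x1f05022901))) (.node 1 (.leaf (nat_lit 0x1d030228f1)) (.leaf (nat_lit 0x1d080228f1)))) (.node 2 (.node 1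 (.leaf (nat_lit 0x1f03022901)) (.leaf (nat_lit 0x1f0702e601))) (.node 1 (.leaf (nat_lit 0x1d02022911)) (.leaf (nat_lit 0x1d08022911)))))) (.node 8 (.node 4 (.node 2 (.node 1 (.leaf (nat_lit 0x1d01022931)) (.leaf (nat_lit 0x1d08022931))) (.node 1 (.leaf (nat_lit 0x1d07022941)) (.leaf (nat_lit 0x1f07022961)))) (.node 2 (.node 1 (.leaf (nat_lit 0x210702e201)) (.leaf (nat_lit 0x1f0702e651))) (.node 1 (.leaf (nat_lit 0x1d02022981)) (.leaf (nat_lit 0x1d04022981))))) (.node 4 (.node 2 (.node 1 (.leaf (nat_lit 0x1d08022981)) (.leaf (nat_lit 0x210702f431))) (.node 1 (.leaf (nat_lit 0x1f0702e271)) (.leaf (nat_lit 0x1d010229c1)))) (.node 2 (.node 1 (.leaf (nat_lit 0x1d080229c1)) (.leaf (nat_lit 0x1d070229d1))) (.node 1 (.leaf (nat_lit 0x1d000229e1)) (.leaf (nat_lit 0x1d080229e1))))))))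

noncomputable def oT84 : Tree :=
  .node 64 (.node 32 (.node 16 (.node 8 (.node 4 (.node 2 (.node 1 (.leaf (nat_lit 0x1d070229f1)) (.leaf (nat_lit 0x1d02022a11))) (.node 1 (.leaf (nat_lit 0x1d08022a11)) (.leaf (nat_lit 0x1d01022a31)))) (.node 2 (.node 1 (.leaf (nat_lit 0x1d08022a31)) (.leaf (nat_lit 0x1d07022a41))) (.node 1 (.leaf (nat_lit 0x1d05022a61)) (.leaf (nat_lit 0x1d04025801))))) (.node 4 (.node 2 (.node 1 (.leaf (nat_lit 0x1d07022a61)) (.leaf (nat_lit 0x1d03022a71))) (.node 1 (.leaf (nat_lit 0x1d08022a71)) (.leaf (nat_lit 0x1f04031ec1)))) (.node 2 (.node 1 (.leaf (nat_lit 0x1d07022a81)) (.leaf (nat_lit 0x1f07022a91))) (.node 1 (.leaf (nat_lit 0x1d03022aa1)) (.leaf (nat_lit 0x1d08022aa1)))))) (.node 8 (.node 4 (.node 2 (.node 1 (.leaf (nat_lit 0x1d02022ab1)) (.leaf (nat_lit 0x1d08022ab1))) (.node 1 (.leaf (nat_lit 0x1f08022ad1)) (.leaf (nat_lit 0x1f04031bf1)))) (.node 2 (.node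 1 (.leaf (nat_lit 0x1f0402e5c1)) (.leaf (nat_lit 0x1d03022b01))) (.node 1 (.leaf (nat_lit 0x1d08022b01)) (.leaf (nat_lit 0x1f04025201))))) (.node 4 (.node 2 (.node 1 (.leaf (nat_lit 0x2108022b11)) (.leaf (nat_lit 0x1d02022b21))) (.node 1 (.leaf (nat_lit 0x1d08022b21)) (.leaf (nat_lit 0x1d01022b41)))) (.node 2 (.node 1 (.leaf (nat_lit 0x1d08022b41)) (.leaf (nat_lit 0x1d07022b51))) (.node 1 (.leaf (nat_lit 0x1f08022b81)) (.leaf (nat_lit 0x1d02022b91))))))) (.node 16 (.node 8 (.node 4 (.node 2 (.node 1 (.leaf (nat_lit 0x1d08022b91)) (.leaf (nat_lit 0x1f0402dbd1))) (.node 1 (.leaf (nat_lit 0x1f08022bb1)) (.leaf (nat_lit 0x1d01022bd1)))) (.node 2 (.node 1 (.leaf (nat_lit 0x1d08022bd1)) (.leaf (nat_lit 0x1d07022be1))) (.node 1 (.leaf (nat_lit 0x1d00022bf1)) (.leaf (nat_lit 0x1d08022bf1))))) (.node 4 (.node 2 (.node 1 (.leaf (nat_lit 0x1d07022c01)) (.leaf (nat_lit 0x1d06022c21))) (.node 1 (.leaf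 (nat_lit 0x1d07022c21)) (.leaf (nat_lit 0x1d05022c31)))) (.node 2 (.node 1 (.leaf (nat_lit 0x1d04022c51)) (.leaf (nat_lit 0x1d07022c31))) (.node 1 (.leaf (nat_lit 0x1d03022c41)) (.leaf (nat_lit 0x1d08022c41)))))) (.node 8 (.node 4 (.node 2 (.node 1 (.leaf (nat_lit 0x1d07022c51)) (.leaf (nat_lit 0x1d08022c61))) (.node 1 (.leaf (nat_lit 0x1d05022c81)) (.leaf (nat_lit 0x1d040257f1)))) (.node 2 (.node 1 (.leaf (nat_lit 0x1d07022c81)) (.leaf (nat_lit 0x1d03022c91))) (.node 1 (.leaf (nat_lit 0x1d08022c91)) (.leaf (nat_lit 0x1f04031e81))))) (.node 4 (.node 2 (.node 1 (.leaf (nat_lit 0x1d07022ca1)) (.leaf (nat_lit 0x1f07022cb1))) (.node 1 (.leaf (nat_lit 0x1d03022cc1)) (.leaf (nat_lit 0x1d08022cc1)))) (.node 2 (.node 1 (.leaf (nat_lit 0x1d02022cd1)) (.leaf (nat_lit 0x1d04022cd1))) (.node 1 (.leaf (nat_lit 0x1d08022cd1)) (.leaf (nat_lit 0x1d07023c51)))))))) (.node 32 (.node 16 (.node 8 (.node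 4 (.node 2 (.node 1 (.leaf (nat_lit 0x1f08022cf1)) (.leaf (nat_lit 0x1d04022d01))) (.node 1 (.leaf (nat_lit 0x1d08022d01)) (.leaf (nat_lit 0x1d08022d21)))) (.node 2 (.node 1 (.leaf (nat_lit 0x2104032041)) (.leaf (nat_lit 0x2107022d41))) (.node 1 (.leaf (nat_lit 0x1d03022d51)) (.leaf (nat_lit 0x1d08022d51))))) (.node 4 (.node 2 (.node 1 (.leaf (nat_lit 0x1f00022f51)) (.leaf (nat_lit 0x2100022f61))) (.node 1 (.leaf (nat_lit 0x1d02022d71)) (.leaf (nat_lit 0x1d08022d71)))) (.node 2 (.node 1 (.leaf (nat_lit 0x1d01022d91)) (.leaf (nat_lit 0x1d08022d91))) (.node 1 (.leaf (nat_lit 0x1d07022da1)) (.leaf (nat_lit 0x1d04022dc1)))))) (.node 8 (.node 4 (.node 2 (.node 1 (.leaf (nat_lit 0x1d05022dd1)) (.leaf (nat_lit 0x1d07022dc1))) (.node 1 (.leaf (nat_lit 0x1d040258c1)) (.leaf (nat_lit 0x1d03022de1)))) (.node 2 (.node 1 (.leaf (nat_lit 0x1d08022de1)) (.leaf (nat_lit 0x1d02022df1))) (.node 1 (.leaf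 (nat_lit 0x1d04022df1)) (.leaf (nat_lit 0x1d08022df1))))) (.node 4 (.node 2 (.node 1 (.leaf (nat_lit 0x1f06022e11)) (.leaf (nat_lit 0x1f05022e31))) (.node 1 (.leaf (nat_lit 0x1d03022e21)) (.leaf (nat_lit 0x1d08022e21)))) (.node 2 (.node 1 (.leaf (nat_lit 0x1f04032b61)) (.leaf (nat_lit 0x1f08022e31))) (.node 1 (.leaf (nat_lit 0x1d02022e41)) (.leaf (nat_lit 0x1d04022e41))))))) (.node 16 (.node 8 (.node 4 (.node 2 (.node 1 (.leaf (nat_lit 0x1d08022e41)) (.leaf (nat_lit 0x1d01022e61))) (.node 1 (.leaf (nat_lit 0x1d04022e61)) (.leaf (nat_lit 0x1d08022e61)))) (.node 2 (.node 1 (.leaf (nat_lit 0x1d05022e71)) (.leaf (nat_lit 0x1d08022e71))) (.node 1 (.leaf (nat_lit 0x1d07022e81)) (.leaf (nat_lit 0x1d07025931))))) (.node 4 (.node 2 (.node 1 (.leaf (nat_lit 0x1d08022e91)) (.leaf (nat_lit 0x1d05022eb1))) (.node 1 (.leaf (nat_lit 0x1d08022eb1)) (.leaf (nat_lit 0x1d06022ed1)))) (.node 2 (.node 1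 (.leaf (nat_lit 0x1d08022ed1)) (.leaf (nat_lit 0x2107025961))) (.node 1 (.leaf (nat_lit 0x1d08022ef1)) (.leaf (nat_lit 0x2101022fc1)))))) (.node 8 (.node 4 (.node 2 (.node 1 (.leaf (nat_lit 0x1f01022fd1)) (.leaf (nat_lit 0x2107032581))) (.node 1 (.leaf (nat_lit 0x1d02022f31)) (.leaf (nat_lit 0x1d04022f31)))) (.node 2 (.node 1 (.leaf (nat_lit 0x1d08022f31)) (.leaf (nat_lit 0x1f01032d81))) (.node 1 (.leaf (nat_lit 0x1f01023031)) (.leaf (nat_lit 0x1d01022f71))))) (.node 4 (.node 2 (.node 1 (.leaf (nat_lit 0x1d08022f71)) (.leaf (nat_lit 0x1d07022f81))) (.node 1 (.leaf (nat_lit 0x1d00022f91)) (.leaf (nat_lit 0x1d08022f91)))) (.node 2 (.node 1 (.leaf (nat_lit 0x1d07022fa1)) (.leaf (nat_lit 0x1f02031b31))) (.node 1 (.leaf (nat_lit 0x1f07032371)) (.leaf (nat_lit 0x1d03024471))))))))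

noncomputable def oT85 : Tree :=
  .node 64 (.node 32 (.node 16 (.node 8 (.node 4 (.node 2 (.node 1 (.leaf (nat_lit 0x1f02032e31)) (.leaf (nat_lit 0x1f02032e41))) (.node 1 (.leaf (nat_lit 0x1d01022ff1)) (.leaf (nat_lit 0x1d04022ff1)))) (.node 2 (.node 1 (.leaf (nat_lit 0x1d08022ff1)) (.leaf (nat_lit 0x1d08023001))) (.node 1 (.leaf (nat_lit 0x1d07023011)) (.leaf (nat_lit 0x1d030244f1))))) (.node 4 (.node 2 (.node 1 (.leaf (nat_lit 0x1d03024501)) (.leaf (nat_lit 0x1f02032f01))) (.node 1 (.leaf (nat_lit 0x1d00023041)) (.leaf (nat_lit 0x1d08023041)))) (.node 2 (.node 1 (.leaf (nat_lit 0x1d07023051)) (.leaf (nat_lit 0x1d08023071))) (.node 1 (.leaf (nat_lit 0x1d07023081)) (.leaf (nat_lit 0x1d03023091)))))) (.node 8 (.node 4 (.node 2 (.node 1 (.leaf (nat_lit 0x12040230a2)) (.leaf (nat_lit 0x12030230b2))) (.node 1 (.leaf (nat_lit 0x12060230b2)) (.leaf (nat_lit 0x12070230b2)))) (.node 2 (.node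 1 (.leaf (nat_lit 0x12070230c2)) (.leaf (nat_lit 0x12080230d2))) (.node 1 (.leaf (nat_lit 0x12050230f2)) (.leaf (nat_lit 0x1d02023821))))) (.node 4 (.node 2 (.node 1 (.leaf (nat_lit 0x12070230f2)) (.leaf (nat_lit 0x1203023102))) (.node 1 (.leaf (nat_lit 0x1208023102)) (.leaf (nat_lit 0x1d020259e1)))) (.node 2 (.node 1 (.leaf (nat_lit 0x1208023122)) (.leaf (nat_lit 0x1207023142))) (.node 1 (.leaf (nat_lit 0x1205023152)) (.leaf (nat_lit 0x1207023152))))))) (.node 16 (.node 8 (.node 4 (.node 2 (.node 1 (.leaf (nat_lit 0x1203023162)) (.leaf (nat_lit 0x1208023162))) (.node 1 (.leaf (nat_lit 0x1d07023171)) (.leaf (nat_lit 0x1203023182)))) (.node 2 (.node 1 (.leaf (nat_lit 0x1208023182)) (.leaf (nat_lit 0x1204023192))) (.node 1 (.leaf (nat_lit 0x1208023192)) (.leaf (nat_lit 0x12080231e2))))) (.node 4 (.node 2 (.node 1 (.leaf (nat_lit 0x12020231f2)) (.leaf (nat_lit 0x12080231f2))) (.node 1 (.leaf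 (nat_lit 0x1f08023211)) (.leaf (nat_lit 0x1207023242)))) (.node 2 (.node 1 (.leaf (nat_lit 0x1207023282)) (.leaf (nat_lit 0x1205023292))) (.node 1 (.leaf (nat_lit 0x1d03023561)) (.leaf (nat_lit 0x1207023292)))))) (.node 8 (.node 4 (.node 2 (.node 1 (.leaf (nat_lit 0x12030232a2)) (.leaf (nat_lit 0x12080232a2))) (.node 1 (.leaf (nat_lit 0x1d030257b1)) (.leaf (nat_lit 0x12080232c2)))) (.node 2 (.node 1 (.leaf (nat_lit 0x1f0202fac1)) (.leaf (nat_lit 0x12070232e2))) (.node 1 (.leaf (nat_lit 0x1f04023331)) (.leaf (nat_lit 0x1203023302))))) (.node 4 (.node 2 (.node 1 (.leaf (nat_lit 0x1208023302)) (.leaf (nat_lit 0x1202023312))) (.node 1 (.leaf (nat_lit 0x1208023312)) (.leaf (nat_lit 0x1f08023331)))) (.node 2 (.node 1 (.leaf (nat_lit 0x1205023352)) (.leaf (nat_lit 0x1203023362))) (.node 1 (.leaf (nat_lit 0x1208023362)) (.leaf (nat_lit 0x1d05023381)))))))) (.node 32 (.node 16 (.node 8 (.node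 4 (.node 2 (.node 1 (.leaf (nat_lit 0x1207023372)) (.leaf (nat_lit 0x1d040233c1))) (.node 1 (.leaf (nat_lit 0x1203023392)) (.leaf (nat_lit 0x1208023392)))) (.node 2 (.node 1 (.leaf (nat_lit 0x12020233a2)) (.leaf (nat_lit 0x12040233a2))) (.node 1 (.leaf (nat_lit 0x12080233a2)) (.leaf (nat_lit 0x1d080233c1))))) (.node 4 (.node 2 (.node 1 (.leaf (nat_lit 0x12080233d2)) (.leaf (nat_lit 0x12050233f2))) (.node 1 (.leaf (nat_lit 0x12080233f2)) (.leaf (nat_lit 0x1206023412)))) (.node 2 (.node 1 (.leaf (nat_lit 0x1208023412)) (.leaf (nat_lit 0x1f08031c31))) (.node 1 (.leaf (nat_lit 0x1f07023431)) (.leaf (nat_lit 0x1203023442)))))) (.node 8 (.node 4 (.node 2 (.node 1 (.leaf (nat_lit 0x1208023442)) (.leaf (nat_lit 0x1f04024c91))) (.node 1 (.leaf (nat_lit 0x1f0702e671)) (.leaf (nat_lit 0x1202023462)))) (.node 2 (.node 1 (.leaf (nat_lit 0x1208023462)) (.leaf (nat_lit 0x1201023482))) (.node 1 (.leaf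 (nat_lit 0x1208023482)) (.leaf (nat_lit 0x1207023492))))) (.node 4 (.node 2 (.node 1 (.leaf (nat_lit 0x1f070234b1)) (.leaf (nat_lit 0x1f030234c1))) (.node 1 (.leaf (nat_lit 0x12040234d2)) (.leaf (nat_lit 0x12080234d2)))) (.node 2 (.node 1 (.leaf (nat_lit 0x2104024d51)) (.leaf (nat_lit 0x1f03023501))) (.node 1 (.leaf (nat_lit 0x1201023512)) (.leaf (nat_lit 0x1208023512))))))) (.node 16 (.node 8 (.node 4 (.node 2 (.node 1 (.leaf (nat_lit 0x1207023522)) (.leaf (nat_lit 0x1200023532))) (.node 1 (.leaf (nat_lit 0x1208023532)) (.leaf (nat_lit 0x1207023542)))) (.node 2 (.node 1 (.leaf (nat_lit 0x1d06023561)) (.leaf (nat_lit 0x1d06023581))) (.node 1 (.leaf (nat_lit 0x1d07023581)) (.leaf (nat_lit 0x1d05023591))))) (.node 4 (.node 2 (.node 1 (.leaf (nat_lit 0x1d06023821)) (.leaf (nat_lit 0x1d07023591))) (.node 1 (.leaf (nat_lit 0x1d030235a1)) (.leaf (nat_lit 0x1d080235a1)))) (.node 2 (.node 1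 (.leaf (nat_lit 0x1d030259d1)) (.leaf (nat_lit 0x1d080235c1))) (.node 1 (.leaf (nat_lit 0x1f050235f1)) (.leaf (nat_lit 0x1d070235e1)))))) (.node 8 (.node 4 (.node 2 (.node 1 (.leaf (nat_lit 0x1f00023731)) (.leaf (nat_lit 0x1d03023601))) (.node 1 (.leaf (nat_lit 0x1d08023601)) (.leaf (nat_lit 0x1d02023611)))) (.node 2 (.node 1 (.leaf (nat_lit 0x1d08023611)) (.leaf (nat_lit 0x1f08023631))) (.node 1 (.leaf (nat_lit 0x1d05023651)) (.leaf (nat_lit 0x1d07023651))))) (.node 4 (.node 2 (.node 1 (.leaf (nat_lit 0x1d03023661)) (.leaf (nat_lit 0x1d08023661))) (.node 1 (.leaf (nat_lit 0x1f05023681)) (.leaf (nat_lit 0x1d07023671)))) (.node 2 (.node 1 (.leaf (nat_lit 0x1f0102e5f1)) (.leaf (nat_lit 0x1d03023691))) (.node 1 (.leaf (nat_lit 0x1d08023691)) (.leaf (nat_lit 0x1d020236a1))))))))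

noncomputable def oT86 : Tree :=
  .node 64 (.node 32 (.node 16 (.node 8 (.node 4 (.node 2 (.node 1 (.leaf (nat_lit 0x1d040236a1)) (.leaf (nat_lit 0x1d080236a1))) (.node 1 (.leaf (nat_lit 0x1d07023841)) (.leaf (nat_lit 0x1f080236c1)))) (.node 2 (.node 1 (.leaf (nat_lit 0x1d040236d1)) (.leaf (nat_lit 0x1d080236d1))) (.node 1 (.leaf (nat_lit 0x1d080236f1)) (.leaf (nat_lit 0x1f01023791))))) (.node 4 (.node 2 (.node 1 (.leaf (nat_lit 0x1f010237a1)) (.leaf (nat_lit 0x1d03023721))) (.node 1 (.leaf (nat_lit 0x1d08023721)) (.leaf (nat_lit 0x1f08023731)))) (.node 2 (.node 1 (.leaf (nat_lit 0x1d02023741)) (.leaf (nat_lit 0x1d08023741))) (.node 1 (.leaf (nat_lit 0x1d01023761)) (.leaf (nat_lit 0x1d08023761)))))) (.node 8 (.node 4 (.node 2 (.node 1 (.leaf (nat_lit 0x1d07023771)) (.leaf (nat_lit 0x1f080237a1))) (.node 1 (.leaf (nat_lit 0x1d040237b1)) (.leaf (nat_lit 0x1d080237b1)))) (.node 2 (.node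 1 (.leaf (nat_lit 0x1d070237e1)) (.leaf (nat_lit 0x1d000237f1))) (.node 1 (.leaf (nat_lit 0x1d080237f1)) (.leaf (nat_lit 0x1d07023801))))) (.node 4 (.node 2 (.node 1 (.leaf (nat_lit 0x1d07023821)) (.leaf (nat_lit 0x1d05023831))) (.node 1 (.leaf (nat_lit 0x1d05023851)) (.leaf (nat_lit 0x1d07023851)))) (.node 2 (.node 1 (.leaf (nat_lit 0x1d03023861)) (.leaf (nat_lit 0x1d08023861))) (.node 1 (.leaf (nat_lit 0x1f05023881)) (.leaf (nat_lit 0x1d07023871))))))) (.node 16 (.node 8 (.node 4 (.node 2 (.node 1 (.leaf (nat_lit 0x1f07023881)) (.leaf (nat_lit 0x1d03023891))) (.node 1 (.leaf (nat_lit 0x1d08023891)) (.leaf (nat_lit 0x1d020238a1)))) (.node 2 (.node 1 (.leaf (nat_lit 0x1d080238a1)) (.leaf (nat_lit 0x1f080238c1))) (.node 1 (.leaf (nat_lit 0x2105033151)) (.leaf (nat_lit 0x2105023901))))) (.node 4 (.node 2 (.node 1 (.leaf (nat_lit 0x1d030238f1)) (.leaf (nat_lit 0x1d080238f1))) (.node 1 (.leaf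 (nat_lit 0x1f04024e31)) (.leaf (nat_lit 0x2108023901)))) (.node 2 (.node 1 (.leaf (nat_lit 0x1d02023911)) (.leaf (nat_lit 0x1d08023911))) (.node 1 (.leaf (nat_lit 0x1d01023931)) (.leaf (nat_lit 0x1d08023931)))))) (.node 8 (.node 4 (.node 2 (.node 1 (.leaf (nat_lit 0x1d07023941)) (.leaf (nat_lit 0x1d04023961))) (.node 1 (.leaf (nat_lit 0x1d05023971)) (.leaf (nat_lit 0x1d07023961)))) (.node 2 (.node 1 (.leaf (nat_lit 0x1d03023981)) (.leaf (nat_lit 0x1d08023981))) (.node 1 (.leaf (nat_lit 0x1d02023991)) (.leaf (nat_lit 0x1d04023991))))) (.node 4 (.node 2 (.node 1 (.leaf (nat_lit 0x1d08023991)) (.leaf (nat_lit 0x1f060239b1))) (.node 1 (.leaf (nat_lit 0x1f050239d1)) (.leaf (nat_lit 0x1d030239c1)))) (.node 2 (.node 1 (.leaf (nat_lit 0x1d080239c1)) (.leaf (nat_lit 0x1f040320d1))) (.node 1 (.leaf (nat_lit 0x1f080239d1)) (.leaf (nat_lit 0x1d020239e1)))))))) (.node 32 (.node 16 (.node 8 (.node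 4 (.node 2 (.node 1 (.leaf (nat_lit 0x1d040239e1)) (.leaf (nat_lit 0x1d080239e1))) (.node 1 (.leaf (nat_lit 0x1d01023a01)) (.leaf (nat_lit 0x1d04023a01)))) (.node 2 (.node 1 (.leaf (nat_lit 0x1d08023a01)) (.leaf (nat_lit 0x1d05023a11))) (.node 1 (.leaf (nat_lit 0x1d08023a11)) (.leaf (nat_lit 0x1d07023a21))))) (.node 4 (.node 2 (.node 1 (.leaf (nat_lit 0x1d08023a31)) (.leaf (nat_lit 0x1d05023a51))) (.node 1 (.leaf (nat_lit 0x1d08023a51)) (.leaf (nat_lit 0x1d06023a71)))) (.node 2 (.node 1 (.leaf (nat_lit 0x1d08023a71)) (.leaf (nat_lit 0x1f07025a81))) (.node 1 (.leaf (nat_lit 0x1d08023a91)) (.leaf (nat_lit 0x2104024371)))))) (.node 8 (.node 4 (.node 2 (.node 1 (.leaf (nat_lit 0x1f04033ca1)) (.leaf (nat_lit 0x2107033741))) (.node 1 (.leaf (nat_lit 0x1d02023ad1)) (.leaf (nat_lit 0x1d04023ad1)))) (.node 2 (.node 1 (.leaf (nat_lit 0x1d08023ad1)) (.leaf (nat_lit 0x1f04025051))) (.node 1 (.leaf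 (nat_lit 0x2108023af1)) (.leaf (nat_lit 0x1d01023b11))))) (.node 4 (.node 2 (.node 1 (.leaf (nat_lit 0x1d08023b11)) (.leaf (nat_lit 0x1d07023b21))) (.node 1 (.leaf (nat_lit 0x1d00023b31)) (.leaf (nat_lit 0x1d08023b31)))) (.node 2 (.node 1 (.leaf (nat_lit 0x1d07023b41)) (.leaf (nat_lit 0x1f04031b21))) (.node 1 (.leaf (nat_lit 0x1f07032361)) (.leaf (nat_lit 0x1f04033dc1))))))) (.node 16 (.node 8 (.node 4 (.node 2 (.node 1 (.leaf (nat_lit 0x1d03024481)) (.leaf (nat_lit 0x1f04033de1))) (.node 1 (.leaf (nat_lit 0x1d01023b91)) (.leaf (nat_lit 0x1d04023b91)))) (.node 2 (.node 1 (.leaf (nat_lit 0x1d08023b91)) (.leaf (nat_lit 0x1d08023ba1))) (.node 1 (.leaf (nat_lit 0x1d07023bb1)) (.leaf (nat_lit 0x2104025151))))) (.node 4 (.node 2 (.node 1 (.leaf (nat_lit 0x2103032391)) (.leaf (nat_lit 0x1f030305b1))) (.node 1 (.leaf (nat_lit 0x1d00023be1)) (.leaf (nat_lit 0x1d08023be1)))) (.node 2 (.node 1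 (.leaf (nat_lit 0x1d07023bf1)) (.leaf (nat_lit 0x1d08023c11))) (.node 1 (.leaf (nat_lit 0x1d07023c21)) (.leaf (nat_lit 0x1d03023c31)))))) (.node 8 (.node 4 (.node 2 (.node 1 (.leaf (nat_lit 0x1d05023c41)) (.leaf (nat_lit 0x1d04023c51))) (.node 1 (.leaf (nat_lit 0x1f040334b1)) (.leaf (nat_lit 0x1d07023c61)))) (.node 2 (.node 1 (.leaf (nat_lit 0x1f04023cb1)) (.leaf (nat_lit 0x1d03023c81))) (.node 1 (.leaf (nat_lit 0x1d08023c81)) (.leaf (nat_lit 0x1d08023c91))))) (.node 4 (.node 2 (.node 1 (.leaf (nat_lit 0x1f08023cb1)) (.leaf (nat_lit 0x2104033531))) (.node 1 (.leaf (nat_lit 0x2104033541)) (.leaf (nat_lit 0x1d08023ce1)))) (.node 2 (.node 1 (.leaf (nat_lit 0x21030316d1)) (.leaf (nat_lit 0x1d04023d21))) (.node 1 (.leaf (nat_lit 0x1f040326f1)) (.leaf (nat_lit 0x1d07023d21))))))))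

noncomputable def oT87 : Tree :=
  .node 64 (.node 32 (.node 16 (.node 8 (.node 4 (.node 2 (.node 1 (.leaf (nat_lit 0x1f07023d31)) (.leaf (nat_lit 0x1d03023d41))) (.node 1 (.leaf (nat_lit 0x1d08023d41)) (.leaf (nat_lit 0x1d04023d51)))) (.node 2 (.node 1 (.leaf (nat_lit 0x1d08023d51)) (.leaf (nat_lit 0x2104033631))) (.node 1 (.leaf (nat_lit 0x2104033641)) (.leaf (nat_lit 0x1d03023d81))))) (.node 4 (.node 2 (.node 1 (.leaf (nat_lit 0x1d08023d81)) (.leaf (nat_lit 0x2103023d91))) (.node 1 (.leaf (nat_lit 0x2102023e91)) (.leaf (nat_lit 0x1d02023da1)))) (.node 2 (.node 1 (.leaf (nat_lit 0x1d04023da1)) (.leaf (nat_lit 0x1d08023da1))) (.node 1 (.leaf (nat_lit 0x1d01023dc1)) (.leaf (nat_lit 0x1d04023dc1)))))) (.node 8 (.node 4 (.node 2 (.node 1 (.leaf (nat_lit 0x1d08023dc1)) (.leaf (nat_lit 0x1d08023dd1))) (.node 1 (.leaf (nat_lit 0x1d07023de1)) (.leaf (nat_lit 0x1f07023ff1)))) (.node 2 (.node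 1 (.leaf (nat_lit 0x1f08023df1)) (.leaf (nat_lit 0x1d05023e11))) (.node 1 (.leaf (nat_lit 0x1d08023e11)) (.leaf (nat_lit 0x1f04032351))))) (.node 4 (.node 2 (.node 1 (.leaf (nat_lit 0x2103023e51)) (.leaf (nat_lit 0x2108023e51))) (.node 1 (.leaf (nat_lit 0x1d02023e61)) (.leaf (nat_lit 0x1d04023e61)))) (.node 2 (.node 1 (.leaf (nat_lit 0x1d08023e61)) (.leaf (nat_lit 0x2107024631))) (.node 1 (.leaf (nat_lit 0x1f070317a1)) (.leaf (nat_lit 0x1d01023ea1))))))) (.node 16 (.node 8 (.node 4 (.node 2 (.node 1 (.leaf (nat_lit 0x1d08023ea1)) (.leaf (nat_lit 0x1d00023ec1))) (.node 1 (.leaf (nat_lit 0x1d08023ec1)) (.leaf (nat_lit 0x1f03023ee1)))) (.node 2 (.node 1 (.leaf (nat_lit 0x1f08023ee1)) (.leaf (nat_lit 0x1f0302ef71))) (.node 1 (.leaf (nat_lit 0x1f03030541)) (.leaf (nat_lit 0x1f070342e1))))) (.node 4 (.node 2 (.node 1 (.leaf (nat_lit 0x1d01023f11)) (.leaf (nat_lit 0x1d04023f11))) (.node 1 (.leaf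 (nat_lit 0x1d08023f11)) (.leaf (nat_lit 0x1d08023f21)))) (.node 2 (.node 1 (.leaf (nat_lit 0x1d07023f31)) (.leaf (nat_lit 0x2103032661))) (.node 1 (.leaf (nat_lit 0x1f07034371)) (.leaf (nat_lit 0x1d08024721)))))) (.node 8 (.node 4 (.node 2 (.node 1 (.leaf (nat_lit 0x1d00023f61)) (.leaf (nat_lit 0x1d08023f61))) (.node 1 (.leaf (nat_lit 0x1d07023f71)) (.leaf (nat_lit 0x1d08023f91)))) (.node 2 (.node 1 (.leaf (nat_lit 0x1d07023fa1)) (.leaf (nat_lit 0x1d03023fb1))) (.node 1 (.leaf (nat_lit 0x1d05023fc1)) (.leaf (nat_lit 0x1d04025a91))))) (.node 4 (.node 2 (.node 1 (.leaf (nat_lit 0x1d07023fc1)) (.leaf (nat_lit 0x1d08023fd1))) (.node 1 (.leaf (nat_lit 0x1f03031721)) (.leaf (nat_lit 0x1d04024001)))) (.node 2 (.node 1 (.leaf (nat_lit 0x1f04031711)) (.leaf (nat_lit 0x1d07024001))) (.node 1 (.leaf (nat_lit 0x1f04025b71)) (.leaf (nat_lit 0x1d03024021)))))))) (.node 32 (.node 16 (.node 8 (.node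 4 (.node 2 (.node 1 (.leaf (nat_lit 0x1d08024021)) (.leaf (nat_lit 0x1d08024031))) (.node 1 (.leaf (nat_lit 0x1f03034431)) (.leaf (nat_lit 0x2107024051)))) (.node 2 (.node 1 (.leaf (nat_lit 0x1d03024061)) (.leaf (nat_lit 0x1d08024061))) (.node 1 (.leaf (nat_lit 0x2102034511)) (.leaf (nat_lit 0x2102024121))))) (.node 4 (.node 2 (.node 1 (.leaf (nat_lit 0x1d02024081)) (.leaf (nat_lit 0x1d08024081))) (.node 1 (.leaf (nat_lit 0x1d010240a1)) (.leaf (nat_lit 0x1d080240a1)))) (.node 2 (.node 1 (.leaf (nat_lit 0x1d070240b1)) (.leaf (nat_lit 0x2103034591))) (.node 1 (.leaf (nat_lit 0x1f07024801)) (.leaf (nat_lit 0x21030345d1)))))) (.node 8 (.node 4 (.node 2 (.node 1 (.leaf (nat_lit 0x1d020240f1)) (.leaf (nat_lit 0x1d040240f1))) (.node 1 (.leaf (nat_lit 0x1d080240f1)) (.leaf (nat_lit 0x1f07024831)))) (.node 2 (.node 1 (.leaf (nat_lit 0x1f070318c1)) (.leaf (nat_lit 0x1d01024131))) (.node 1 (.leaf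 (nat_lit 0x1d08024131)) (.leaf (nat_lit 0x1d00024151))))) (.node 4 (.node 2 (.node 1 (.leaf (nat_lit 0x1d08024151)) (.leaf (nat_lit 0x1d05025921))) (.node 1 (.leaf (nat_lit 0x1d07024171)) (.leaf (nat_lit 0x1f04034671)))) (.node 2 (.node 1 (.leaf (nat_lit 0x1f050241a1)) (.leaf (nat_lit 0x1d03024191))) (.node 1 (.leaf (nat_lit 0x1d08024191)) (.leaf (nat_lit 0x1f04034721))))))) (.node 16 (.node 8 (.node 4 (.node 2 (.node 1 (.leaf (nat_lit 0x1f080241a1)) (.leaf (nat_lit 0x1d020241b1))) (.node 1 (.leaf (nat_lit 0x1d040241b1)) (.leaf (nat_lit 0x1d080241b1)))) (.node 2 (.node 1 (.leaf (nat_lit 0x1d010241d1)) (.leaf (nat_lit 0x1d040241d1))) (.node 1 (.leaf (nat_lit 0x1d080241d1)) (.leaf (nat_lit 0x1d050241e1))))) (.node 4 (.node 2 (.node 1 (.leaf (nat_lit 0x1d080241e1)) (.leaf (nat_lit 0x1d070241f1))) (.node 1 (.leaf (nat_lit 0x2102024371)) (.leaf (nat_lit 0x2102034851)))) (.node 2 (.node 1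 (.leaf (nat_lit 0x2102024391)) (.leaf (nat_lit 0x1d02024221))) (.node 1 (.leaf (nat_lit 0x1d04024221)) (.leaf (nat_lit 0x1d08024221)))))) (.node 8 (.node 4 (.node 2 (.node 1 (.leaf (nat_lit 0x1f030243d1)) (.leaf (nat_lit 0x1f030242f1))) (.node 1 (.leaf (nat_lit 0x2102034901)) (.leaf (nat_lit 0x1d01024261)))) (.node 2 (.node 1 (.leaf (nat_lit 0x1d04024261)) (.leaf (nat_lit 0x1d08024261))) (.node 1 (.leaf (nat_lit 0x1d05024271)) (.leaf (nat_lit 0x1d08024271))))) (.node 4 (.node 2 (.node 1 (.leaf (nat_lit 0x1d07024281)) (.leaf (nat_lit 0x1d00024291))) (.node 1 (.leaf (nat_lit 0x1d04024291)) (.leaf (nat_lit 0x1d08024291)))) (.node 2 (.node 1 (.leaf (nat_lit 0x1d050242a1)) (.leaf (nat_lit 0x1d080242a1))) (.node 1 (.leaf (nat_lit 0x1d070242b1)) (.leaf (nat_lit 0x1d060242c1))))))))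

noncomputable def oT88 : Tree :=
  .node 64 (.node 32 (.node 16 (.node 8 (.node 4 (.node 2 (.node 1 (.leaf (nat_lit 0x1d080242c1)) (.leaf (nat_lit 0x1d070242d1))) (.node 1 (.leaf (nat_lit 0x1f07025c21)) (.leaf (nat_lit 0x1f080242f1)))) (.node 2 (.node 1 (.leaf (nat_lit 0x1d06024311)) (.leaf (nat_lit 0x1d08024311))) (.node 1 (.leaf (nat_lit 0x2107025c41)) (.leaf (nat_lit 0x1d08024331))))) (.node 4 (.node 2 (.node 1 (.leaf (nat_lit 0x1f0702eb01)) (.leaf (nat_lit 0x1f07024991))) (.node 1 (.leaf (nat_lit 0x2103034af1)) (.leaf (nat_lit 0x1f070249b1)))) (.node 2 (.node 1 (.leaf (nat_lit 0x1d070249c1)) (.leaf (nat_lit 0x1f07034b41))) (.node 1 (.leaf (nat_lit 0x1d010243a1)) (.leaf (nat_lit 0x1d040243a1)))))) (.node 8 (.node 4 (.node 2 (.node 1 (.leaf (nat_lit 0x1d080243a1)) (.leaf (nat_lit 0x1d080243b1))) (.node 1 (.leaf (nat_lit 0x1d070243c1)) (.leaf (nat_lit 0x1d07024a31)))) (.node 2 (.node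 1 (.leaf (nat_lit 0x1f07034be1)) (.leaf (nat_lit 0x1d08024a51))) (.node 1 (.leaf (nat_lit 0x1d000243f1)) (.leaf (nat_lit 0x1d080243f1))))) (.node 4 (.node 2 (.node 1 (.leaf (nat_lit 0x1d07024401)) (.leaf (nat_lit 0x1d08024421))) (.node 1 (.leaf (nat_lit 0x1d07024431)) (.leaf (nat_lit 0x1d03024441)))) (.node 2 (.node 1 (.leaf (nat_lit 0x1f070315c1)) (.leaf (nat_lit 0x1d07024a11))) (.node 1 (.leaf (nat_lit 0x1d070244d1)) (.leaf (nat_lit 0x1d070244c1))))))) (.node 16 (.node 8 (.node 4 (.node 2 (.node 1 (.leaf (nat_lit 0x1d080244b1)) (.leaf (nat_lit 0x1d000244a1))) (.node 1 (.leaf (nat_lit 0x1d040244a1)) (.leaf (nat_lit 0x1d080244a1)))) (.node 2 (.node 1 (.leaf (nat_lit 0x1d030244b1)) (.leaf (nat_lit 0x1d07024ad1))) (.node 1 (.leaf (nat_lit 0x1d07025581)) (.leaf (nat_lit 0x1d08024521))))) (.node 4 (.node 2 (.node 1 (.leaf (nat_lit 0x1d07024531)) (.leaf (nat_lit 0x1d03024541))) (.node 1 (.leaf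 (nat_lit 0x1d07024551)) (.leaf (nat_lit 0x1d03024561)))) (.node 2 (.node 1 (.leaf (nat_lit 0x1d04024571)) (.leaf (nat_lit 0x1f08024861))) (.node 1 (.leaf (nat_lit 0x1d07024591)) (.leaf (nat_lit 0x1f08024881)))))) (.node 8 (.node 4 (.node 2 (.node 1 (.leaf (nat_lit 0x21050245c1)) (.leaf (nat_lit 0x1d080245b1))) (.node 1 (.leaf (nat_lit 0x21080245c1)) (.leaf (nat_lit 0x2108031771)))) (.node 2 (.node 1 (.leaf (nat_lit 0x2108030e11)) (.leaf (nat_lit 0x21070341f1))) (.node 1 (.leaf (nat_lit 0x1d01024611)) (.leaf (nat_lit 0x1d04024611))))) (.node 4 (.node 2 (.node 1 (.leaf (nat_lit 0x2108030d41)) (.leaf (nat_lit 0x1d00024641))) (.node 1 (.leaf (nat_lit 0x1f07032ea1)) (.leaf (nat_lit 0x1f07033e31)))) (.node 2 (.node 1 (.leaf (nat_lit 0x1f070315b1)) (.leaf (nat_lit 0x21070342b1))) (.node 1 (.leaf (nat_lit 0x1d000246b1)) (.leaf (nat_lit 0x1d040246b1)))))))) (.node 32 (.node 16 (.node 8 (.node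 4 (.node 2 (.node 1 (.leaf (nat_lit 0x1d080246b1)) (.leaf (nat_lit 0x1d070246d1))) (.node 1 (.leaf (nat_lit 0x1d070246e1)) (.leaf (nat_lit 0x2108034d51)))) (.node 2 (.node 1 (.leaf (nat_lit 0x1f07034d61)) (.leaf (nat_lit 0x1d03025111))) (.node 1 (.leaf (nat_lit 0x1d08024731)) (.leaf (nat_lit 0x1d07024741))))) (.node 4 (.node 2 (.node 1 (.leaf (nat_lit 0x1d03024751)) (.leaf (nat_lit 0x1d07024761))) (.node 1 (.leaf (nat_lit 0x1d03024771)) (.leaf (nat_lit 0x1d04024781)))) (.node 2 (.node 1 (.leaf (nat_lit 0x1d07024791)) (.leaf (nat_lit 0x1f04030c71))) (.node 1 (.leaf (nat_lit 0x1d080247b1)) (.leaf (nat_lit 0x21080247c1)))))) (.node 8 (.node 4 (.node 2 (.node 1 (.leaf (nat_lit 0x1f08031911)) (.leaf (nat_lit 0x1f08031921))) (.node 1 (.leaf (nat_lit 0x1d08024ac1)) (.leaf (nat_lit 0x1d01024811)))) (.node 2 (.node 1 (.leaf (nat_lit 0x1d04024811)) (.leaf (nat_lit 0x1f08031951))) (.node 1 (.leaf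 (nat_lit 0x1d00024841)) (.leaf (nat_lit 0x1f00030c71))))) (.node 4 (.node 2 (.node 1 (.leaf (nat_lit 0x1d03024871)) (.leaf (nat_lit 0x1d08024871))) (.node 1 (.leaf (nat_lit 0x1f040342f1)) (.leaf (nat_lit 0x2103024891)))) (.node 2 (.node 1 (.leaf (nat_lit 0x2108024891)) (.leaf (nat_lit 0x1d020248a1))) (.node 1 (.leaf (nat_lit 0x1d040248a1)) (.leaf (nat_lit 0x1d080248a1))))))) (.node 16 (.node 8 (.node 4 (.node 2 (.node 1 (.leaf (nat_lit 0x1f07024961)) (.leaf (nat_lit 0x2107031031))) (.node 1 (.leaf (nat_lit 0x1d010248e1)) (.leaf (nat_lit 0x1d080248e1)))) (.node 2 (.node 1 (.leaf (nat_lit 0x1d00024901)) (.leaf (nat_lit 0x1d08024901))) (.node 1 (.leaf (nat_lit 0x21080317b1)) (.leaf (nat_lit 0x1f080317c1))))) (.node 4 (.node 2 (.node 1 (.leaf (nat_lit 0x2102034f81)) (.leaf (nat_lit 0x1d01024941))) (.node 1 (.leaf (nat_lit 0x1d04024941)) (.leaf (nat_lit 0x1d08025731)))) (.node 2 (.node 1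 (.leaf (nat_lit 0x1d00024971)) (.leaf (nat_lit 0x1f08031a01))) (.node 1 (.leaf (nat_lit 0x1d080249f1)) (.leaf (nat_lit 0x1d080249e1)))))) (.node 8 (.node 4 (.node 2 (.node 1 (.leaf (nat_lit 0x1d040249e1)) (.leaf (nat_lit 0x1d000249e1))) (.node 1 (.leaf (nat_lit 0x1d030249f1)) (.leaf (nat_lit 0x1d07024a01)))) (.node 2 (.node 1 (.leaf (nat_lit 0x1d08025691)) (.leaf (nat_lit 0x1d04025551))) (.node 1 (.leaf (nat_lit 0x1d08024a61)) (.leaf (nat_lit 0x1d07024a71))))) (.node 4 (.node 2 (.node 1 (.leaf (nat_lit 0x1d03024a81)) (.leaf (nat_lit 0x1d07024a91))) (.node 1 (.leaf (nat_lit 0x1d03024aa1)) (.leaf (nat_lit 0x1d04024ab1)))) (.node 2 (.node 1 (.leaf (nat_lit 0x1d07024ae1)) (.leaf (nat_lit 0x1d03024af1))) (.node 1 (.leaf (nat_lit 0x1208024b62)) (.leaf (nat_lit 0x1208024b82))))))))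

noncomputable def oT89 : Tree :=
  .node 64 (.node 32 (.node 16 (.node 8 (.node 4 (.node 2 (.node 1 (.leaf (nat_lit 0x1207024b92)) (.leaf (nat_lit 0x1201024bc2))) (.node 1 (.leaf (nat_lit 0x1204024bc2)) (.leaf (nat_lit 0x1208024bc2)))) (.node 2 (.node 1 (.leaf (nat_lit 0x1205024bd2)) (.leaf (nat_lit 0x1208024bd2))) (.node 1 (.leaf (nat_lit 0x1207024be2)) (.leaf (nat_lit 0x1d08024bf1))))) (.node 4 (.node 2 (.node 1 (.leaf (nat_lit 0x1208024c12)) (.leaf (nat_lit 0x1206024c32))) (.node 1 (.leaf (nat_lit 0x1208024c32)) (.leaf (nat_lit 0x1d07024ec1)))) (.node 2 (.node 1 (.leaf (nat_lit 0x1204024c72)) (.leaf (nat_lit 0x1208024c72))) (.node 1 (.leaf (nat_lit 0x1f08024c91)) (.leaf (nat_lit 0x1201024cb2)))))) (.node 8 (.node 4 (.node 2 (.node 1 (.leaf (nat_lit 0x1208024cb2)) (.leaf (nat_lit 0x1207024cc2))) (.node 1 (.leaf (nat_lit 0x1200024cd2)) (.leaf (nat_lit 0x1208024cd2)))) (.node 2 (.node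 1 (.leaf (nat_lit 0x1207024ce2)) (.leaf (nat_lit 0x1f02024d01))) (.node 1 (.leaf (nat_lit 0x1f04024d01)) (.leaf (nat_lit 0x1f08024d01))))) (.node 4 (.node 2 (.node 1 (.leaf (nat_lit 0x1201024d22)) (.leaf (nat_lit 0x1204024d22))) (.node 1 (.leaf (nat_lit 0x1208024d22)) (.leaf (nat_lit 0x1208024d32)))) (.node 2 (.node 1 (.leaf (nat_lit 0x1207024d42)) (.leaf (nat_lit 0x1f0202e301))) (.node 1 (.leaf (nat_lit 0x2108024d51)) (.leaf (nat_lit 0x1f040305e1))))))) (.node 16 (.node 8 (.node 4 (.node 2 (.node 1 (.leaf (nat_lit 0x1200024d72)) (.leaf (nat_lit 0x1208024d72))) (.node 1 (.leaf (nat_lit 0x1207024d82)) (.leaf (nat_lit 0x1208024da2)))) (.node 2 (.node 1 (.leaf (nat_lit 0x1207024db2)) (.leaf (nat_lit 0x1203024dc2))) (.node 1 (.leaf (nat_lit 0x1d08024de1)) (.leaf (nat_lit 0x1d07024df1))))) (.node 4 (.node 2 (.node 1 (.leaf (nat_lit 0x1d04024e11)) (.leaf (nat_lit 0x1d08024e11))) (.node 1 (.leaf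 (nat_lit 0x1f08024e31)) (.leaf (nat_lit 0x1d08024e51)))) (.node 2 (.node 1 (.leaf (nat_lit 0x1d07024e61)) (.leaf (nat_lit 0x1d00024e71))) (.node 1 (.leaf (nat_lit 0x1d08024e71)) (.leaf (nat_lit 0x1d07024e81)))))) (.node 8 (.node 4 (.node 2 (.node 1 (.leaf (nat_lit 0x1d01024ea1)) (.leaf (nat_lit 0x1d04024ea1))) (.node 1 (.leaf (nat_lit 0x1d08024ea1)) (.leaf (nat_lit 0x1d05024eb1)))) (.node 2 (.node 1 (.leaf (nat_lit 0x1d08024eb1)) (.leaf (nat_lit 0x1d01024ef1))) (.node 1 (.leaf (nat_lit 0x1d04024ef1)) (.leaf (nat_lit 0x1d08024ef1))))) (.node 4 (.node 2 (.node 1 (.leaf (nat_lit 0x1d05024f01)) (.leaf (nat_lit 0x1d08024f01))) (.node 1 (.leaf (nat_lit 0x1d07024f11)) (.leaf (nat_lit 0x1d00024f21)))) (.node 2 (.node 1 (.leaf (nat_lit 0x1d04024f21)) (.leaf (nat_lit 0x1d08024f21))) (.node 1 (.leaf (nat_lit 0x1d05024f31)) (.leaf (nat_lit 0x1d08024f31)))))))) (.node 32 (.node 16 (.node 8 (.node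 4 (.node 2 (.node 1 (.leaf (nat_lit 0x1d07024f41)) (.leaf (nat_lit 0x1d06024f51))) (.node 1 (.leaf (nat_lit 0x1d08024f51)) (.leaf (nat_lit 0x1d07024f61)))) (.node 2 (.node 1 (.leaf (nat_lit 0x1f0302e411)) (.leaf (nat_lit 0x1f08024f81))) (.node 1 (.leaf (nat_lit 0x1d06024fa1)) (.leaf (nat_lit 0x1d08024fa1))))) (.node 4 (.node 2 (.node 1 (.leaf (nat_lit 0x1f07025ef1)) (.leaf (nat_lit 0x1d08024fc1))) (.node 1 (.leaf (nat_lit 0x1f08025001)) (.leaf (nat_lit 0x1d01025021)))) (.node 2 (.node 1 (.leaf (nat_lit 0x1d04025021)) (.leaf (nat_lit 0x1d08025021))) (.node 1 (.leaf (nat_lit 0x1d08025031)) (.leaf (nat_lit 0x1d07025041)))))) (.node 8 (.node 4 (.node 2 (.node 1 (.leaf (nat_lit 0x1f0302e2f1)) (.leaf (nat_lit 0x1f08025051))) (.node 1 (.leaf (nat_lit 0x2107025061)) (.leaf (nat_lit 0x1d00025071)))) (.node 2 (.node 1 (.leaf (nat_lit 0x1d08025071)) (.leaf (nat_lit 0x1d07025081))) (.node 1 (.leaf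 (nat_lit 0x1d080250a1)) (.leaf (nat_lit 0x1d070250b1))))) (.node 4 (.node 2 (.node 1 (.leaf (nat_lit 0x1d030250c1)) (.leaf (nat_lit 0x1f0202e9c1))) (.node 1 (.leaf (nat_lit 0x1f040343a1)) (.leaf (nat_lit 0x1f04032f31)))) (.node 2 (.node 1 (.leaf (nat_lit 0x1d00025101)) (.leaf (nat_lit 0x1d04025101))) (.node 1 (.leaf (nat_lit 0x1d08025101)) (.leaf (nat_lit 0x1d08025111))))))) (.node 16 (.node 8 (.node 4 (.node 2 (.node 1 (.leaf (nat_lit 0x1d07025121)) (.leaf (nat_lit 0x1d07025131))) (.node 1 (.leaf (nat_lit 0x1f0602f991)) (.leaf (nat_lit 0x2108025151)))) (.node 2 (.node 1 (.leaf (nat_lit 0x2104033e91)) (.leaf (nat_lit 0x1d08025181))) (.node 1 (.leaf (nat_lit 0x1d07025191)) (.leaf (nat_lit 0x1d030251a1))))) (.node 4 (.node 2 (.node 1 (.leaf (nat_lit 0x1d070251b1)) (.leaf (nat_lit 0x1d030251c1))) (.node 1 (.leaf (nat_lit 0x1d040251d1)) (.leaf (nat_lit 0x1d020251e1)))) (.node 2 (.node 1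 (.leaf (nat_lit 0x1d080251e1)) (.leaf (nat_lit 0x1f02025201))) (.node 1 (.leaf (nat_lit 0x1f08025201)) (.leaf (nat_lit 0x1d01025221)))))) (.node 8 (.node 4 (.node 2 (.node 1 (.leaf (nat_lit 0x1d08025221)) (.leaf (nat_lit 0x1d07025231))) (.node 1 (.leaf (nat_lit 0x1d00025241)) (.leaf (nat_lit 0x1d08025241)))) (.node 2 (.node 1 (.leaf (nat_lit 0x1d07025251)) (.leaf (nat_lit 0x1d07025671))) (.node 1 (.leaf (nat_lit 0x1d07025651)) (.leaf (nat_lit 0x1d01025291))))) (.node 4 (.node 2 (.node 1 (.leaf (nat_lit 0x1d04025291)) (.leaf (nat_lit 0x1d08025291))) (.node 1 (.leaf (nat_lit 0x1d080252a1)) (.leaf (nat_lit 0x1d070252b1)))) (.node 2 (.node 1 (.leaf (nat_lit 0x1f070256b1)) (.leaf (nat_lit 0x1f070357e1))) (.node 1 (.leaf (nat_lit 0x1d08025631)) (.leaf (nat_lit 0x1d000252e1))))))))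

noncomputable def oT90 : Tree :=
  .node 64 (.node 32 (.node 16 (.node 8 (.node 4 (.node 2 (.node 1 (.leaf (nat_lit 0x1d080252e1)) (.leaf (nat_lit 0x1d070252f1))) (.node 1 (.leaf (nat_lit 0x1d08025311)) (.leaf (nat_lit 0x1d07025321)))) (.node 2 (.node 1 (.leaf (nat_lit 0x1d03025331)) (.leaf (nat_lit 0x1d03025531))) (.node 1 (.leaf (nat_lit 0x1f08025341)) (.leaf (nat_lit 0x1d01025361))))) (.node 4 (.node 2 (.node 1 (.leaf (nat_lit 0x1d04025361)) (.leaf (nat_lit 0x1d08025361))) (.node 1 (.leaf (nat_lit 0x1d05025371)) (.leaf (nat_lit 0x1d08025371)))) (.node 2 (.node 1 (.leaf (nat_lit 0x1d07025381)) (.leaf (nat_lit 0x1d030255a1))) (.node 1 (.leaf (nat_lit 0x1f04025391)) (.leaf (nat_lit 0x1f030255b1)))))) (.node 8 (.node 4 (.node 2 (.node 1 (.leaf (nat_lit 0x1f0402ebb1)) (.leaf (nat_lit 0x21080253a1))) (.node 1 (.leaf (nat_lit 0x21070253b1)) (.leaf (nat_lit 0x1d000253c1)))) (.node 2 (.node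 1 (.leaf (nat_lit 0x1d040253c1)) (.leaf (nat_lit 0x1d080253c1))) (.node 1 (.leaf (nat_lit 0x1d050253d1)) (.leaf (nat_lit 0x1d080253d1))))) (.node 4 (.node 2 (.node 1 (.leaf (nat_lit 0x1d070253e1)) (.leaf (nat_lit 0x1d060253f1))) (.node 1 (.leaf (nat_lit 0x1d080253f1)) (.leaf (nat_lit 0x1d07025401)))) (.node 2 (.node 1 (.leaf (nat_lit 0x1d04025421)) (.leaf (nat_lit 0x1d08025421))) (.node 1 (.leaf (nat_lit 0x1d05025431)) (.leaf (nat_lit 0x1d08025431))))))) (.node 16 (.node 8 (.node 4 (.node 2 (.node 1 (.leaf (nat_lit 0x1d07025441)) (.leaf (nat_lit 0x1d06025451))) (.node 1 (.leaf (nat_lit 0x1d08025451)) (.leaf (nat_lit 0x1d07025461)))) (.node 2 (.node 1 (.leaf (nat_lit 0x1d03025471)) (.leaf (nat_lit 0x21030254f1))) (.node 1 (.leaf (nat_lit 0x1d08025481)) (.leaf (nat_lit 0x1d07025491))))) (.node 4 (.node 2 (.node 1 (.leaf (nat_lit 0x1f04032061)) (.leaf (nat_lit 0x21080254b1))) (.node 1 (.leaf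 (nat_lit 0x2107025f11)) (.leaf (nat_lit 0x1d080254d1)))) (.node 2 (.node 1 (.leaf (nat_lit 0x1f0702ebd1)) (.leaf (nat_lit 0x1d070255e1))) (.node 1 (.leaf (nat_lit 0x1d00025551)) (.leaf (nat_lit 0x1d08025551)))))) (.node 8 (.node 4 (.node 2 (.node 1 (.leaf (nat_lit 0x1d03025561)) (.leaf (nat_lit 0x1d08025561))) (.node 1 (.leaf (nat_lit 0x1d07025571)) (.leaf (nat_lit 0x1d070256a1)))) (.node 2 (.node 1 (.leaf (nat_lit 0x1d080255d1)) (.leaf (nat_lit 0x1d030255f1))) (.node 1 (.leaf (nat_lit 0x1d07025601)) (.leaf (nat_lit 0x1d03025611))))) (.node 4 (.node 2 (.node 1 (.leaf (nat_lit 0x1d04025621)) (.leaf (nat_lit 0x1d080256d1))) (.node 1 (.leaf (nat_lit 0x1d00025681)) (.leaf (nat_lit 0x1d04025681)))) (.node 2 (.node 1 (.leaf (nat_lit 0x1d08025681)) (.leaf (nat_lit 0x1d03025691))) (.node 1 (.leaf (nat_lit 0x1d070256e1)) (.leaf (nat_lit 0x1d030256f1)))))))) (.node 32 (.node 16 (.node 8 (.node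 4 (.node 2 (.node 1 (.leaf (nat_lit 0x1d07025701)) (.leaf (nat_lit 0x1d03025711))) (.node 1 (.leaf (nat_lit 0x1d04025721)) (.leaf (nat_lit 0x1d07025731)))) (.node 2 (.node 1 (.leaf (nat_lit 0x1d04025741)) (.leaf (nat_lit 0x1201025782))) (.node 1 (.leaf (nat_lit 0x1206025792)) (.leaf (nat_lit 0x1d080257a1))))) (.node 4 (.node 2 (.node 1 (.leaf (nat_lit 0x1d080257b1)) (.leaf (nat_lit 0x1d060257d1))) (.node 1 (.leaf (nat_lit 0x1f0802e2e1)) (.leaf (nat_lit 0x1d070257f1)))) (.node 2 (.node 1 (.leaf (nat_lit 0x1d07025801)) (.leaf (nat_lit 0x1d08025811))) (.node 1 (.leaf (nat_lit 0x1d07025841)) (.leaf (nat_lit 0x1d08025851)))))) (.node 8 (.node 4 (.node 2 (.node 1 (.leaf (nat_lit 0x1d03025861)) (.leaf (nat_lit 0x1d08025861))) (.node 1 (.leaf (nat_lit 0x1d08025871)) (.leaf (nat_lit 0x1d070258a1)))) (.node 2 (.node 1 (.leaf (nat_lit 0x1d080258b1)) (.leaf (nat_lit 0x1d080258c1))) (.node 1 (.leaf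 (nat_lit 0x1d040258d1)) (.leaf (nat_lit 0x1d080258d1))))) (.node 4 (.node 2 (.node 1 (.leaf (nat_lit 0x1d080258f1)) (.leaf (nat_lit 0x1d08025901))) (.node 1 (.leaf (nat_lit 0x1d06025941)) (.leaf (nat_lit 0x210802e971)))) (.node 2 (.node 1 (.leaf (nat_lit 0x1208025972)) (.leaf (nat_lit 0x1208025982))) (.node 1 (.leaf (nat_lit 0x12060259a2)) (.leaf (nat_lit 0x1d080259c1))))))) (.node 16 (.node 8 (.node 4 (.node 2 (.node 1 (.leaf (nat_lit 0x1d080259d1)) (.leaf (nat_lit 0x1d080259e1))) (.node 1 (.leaf (nat_lit 0x1d08025a01)) (.leaf (nat_lit 0x1d05025a31)))) (.node 2 (.node 1 (.leaf (nat_lit 0x1d08025a31)) (.leaf (nat_lit 0x1d06025a51))) (.node 1 (.leaf (nat_lit 0x1d06025a61)) (.leaf (nat_lit 0x1f0802e361))))) (.node 4 (.node 2 (.node 1 (.leaf (nat_lit 0x1d07025a91)) (.leaf (nat_lit 0x1d03025ae1))) (.node 1 (.leaf (nat_lit 0x1d08025ab1)) (.leaf (nat_lit 0x1d07025ad1)))) (.node 2 (.node 1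 (.leaf (nat_lit 0x1d08025ae1)) (.leaf (nat_lit 0x1f08025af1))) (.node 1 (.leaf (nat_lit 0x1d02025b01)) (.leaf (nat_lit 0x1d08025b01)))))) (.node 8 (.node 4 (.node 2 (.node 1 (.leaf (nat_lit 0x1d08025b21)) (.leaf (nat_lit 0x1d07025b51))) (.node 1 (.leaf (nat_lit 0x1d08025b61)) (.leaf (nat_lit 0x1f08025b71)))) (.node 2 (.node 1 (.leaf (nat_lit 0x1d03025b91)) (.leaf (nat_lit 0x1d08025b91))) (.node 1 (.leaf (nat_lit 0x1d05025bc1)) (.leaf (nat_lit 0x1d08025bc1))))) (.node 4 (.node 2 (.node 1 (.leaf (nat_lit 0x1d06025be1)) (.leaf (nat_lit 0x1d08025be1))) (.node 1 (.leaf (nat_lit 0x1d06025c01)) (.leaf (nat_lit 0x210802ea41)))) (.node 2 (.node 1 (.leaf (nat_lit 0x1f0402e441)) (.leaf (nat_lit 0x210802ea81))) (.node 1 (.leaf (nat_lit 0x1d07025c51)) (.leaf (nat_lit 0x1d08025c61))))))))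

noncomputable def oT91 : Tree :=
  .node 64 (.node 32 (.node 16 (.node 8 (.node 4 (.node 2 (.node 1 (.leaf (nat_lit 0x1f08025c71)) (.leaf (nat_lit 0x1f04025cb1))) (.node 1 (.leaf (nat_lit 0x1d03025ca1)) (.leaf (nat_lit 0x1d08025ca1)))) (.node 2 (.node 1 (.leaf (nat_lit 0x1f08025cb1)) (.leaf (nat_lit 0x1d08025cc1))) (.node 1 (.leaf (nat_lit 0x1f08025ce1)) (.leaf (nat_lit 0x1d08025d01))))) (.node 4 (.node 2 (.node 1 (.leaf (nat_lit 0x1d08025d21)) (.leaf (nat_lit 0x1d08025d41))) (.node 1 (.leaf (nat_lit 0x1d08025d61)) (.leaf (nat_lit 0x1f08025d71)))) (.node 2 (.node 1 (.leaf (nat_lit 0x1d03025d91)) (.leaf (nat_lit 0x1d08025d91))) (.node 1 (.leaf (nat_lit 0x1f08025da1)) (.leaf (nat_lit 0x1f0002e8e1)))))) (.node 8 (.node 4 (.node 2 (.node 1 (.leaf (nat_lit 0x1f08025dd1)) (.leaf (nat_lit 0x1d02025de1))) (.node 1 (.leaf (nat_lit 0x1d08025de1)) (.leaf (nat_lit 0x1205025e12)))) (.node 2 (.node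 1 (.leaf (nat_lit 0x1208025e12)) (.leaf (nat_lit 0x1206025e42))) (.node 1 (.leaf (nat_lit 0x1d05025e61)) (.leaf (nat_lit 0x1d08025e61))))) (.node 4 (.node 2 (.node 1 (.leaf (nat_lit 0x1d03025e81)) (.leaf (nat_lit 0x1d06025e91))) (.node 1 (.leaf (nat_lit 0x1d06025eb1)) (.leaf (nat_lit 0x1f0502dd61)))) (.node 2 (.node 1 (.leaf (nat_lit 0x1f0802e401)) (.leaf (nat_lit 0x2104035e51))) (.node 1 (.leaf (nat_lit 0x1304025f72)) (.leaf (nat_lit 0x1308025f72))))))) (.node 16 (.node 8 (.node 4 (.node 2 (.node 1 (.leaf (nat_lit 0x1e04025fc1)) (.leaf (nat_lit 0x1e08025fc1))) (.node 1 (.leaf (nat_lit 0x1e04025ff1)) (.leaf (nat_lit 0x1e08025ff1)))) (.node 2 (.node 1 (.leaf (nat_lit 0x1e05026011)) (.leaf (nat_lit 0x1e08026011))) (.node 1 (.leaf (nat_lit 0x1e07026021)) (.leaf (nat_lit 0x1e08026031))))) (.node 4 (.node 2 (.node 1 (.leaf (nat_lit 0x1e02026091)) (.leaf (nat_lit 0x1e04026091))) (.node 1 (.leaf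 (nat_lit 0x1e08026091)) (.leaf (nat_lit 0x1e080260b1)))) (.node 2 (.node 1 (.leaf (nat_lit 0x1e050260d1)) (.leaf (nat_lit 0x1e080260d1))) (.node 1 (.leaf (nat_lit 0x1e070260e1)) (.leaf (nat_lit 0x1e080260f1)))))) (.node 8 (.node 4 (.node 2 (.node 1 (.leaf (nat_lit 0x1e04026131)) (.leaf (nat_lit 0x1e08026131))) (.node 1 (.leaf (nat_lit 0x1e05026151)) (.leaf (nat_lit 0x1e08026151)))) (.node 2 (.node 1 (.leaf (nat_lit 0x1e07026161)) (.leaf (nat_lit 0x1e06026171))) (.node 1 (.leaf (nat_lit 0x1e08026171)) (.leaf (nat_lit 0x1e07026181))))) (.node 4 (.node 2 (.node 1 (.leaf (nat_lit 0x1e020261a1)) (.leaf (nat_lit 0x1e080261a1))) (.node 1 (.leaf (nat_lit 0x1e010261c1)) (.leaf (nat_lit 0x1e080261c1)))) (.node 2 (.node 1 (.leaf (nat_lit 0x1e070261d1)) (.leaf (nat_lit 0x1e020261f1))) (.node 1 (.leaf (nat_lit 0x1e080261f1)) (.leaf (nat_lit 0x1e02026211)))))))) (.node 32 (.node 16 (.node 8 (.node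 4 (.node 2 (.node 1 (.leaf (nat_lit 0x1e08026211)) (.leaf (nat_lit 0x1e01026231))) (.node 1 (.leaf (nat_lit 0x1e08026231)) (.leaf (nat_lit 0x1e07026241)))) (.node 2 (.node 1 (.leaf (nat_lit 0x1e00026251)) (.leaf (nat_lit 0x1e08026251))) (.node 1 (.leaf (nat_lit 0x1e07026261)) (.leaf (nat_lit 0x13040262c2))))) (.node 4 (.node 2 (.node 1 (.leaf (nat_lit 0x13060262d2)) (.leaf (nat_lit 0x13070262d2))) (.node 1 (.leaf (nat_lit 0x1306026332)) (.leaf (nat_lit 0x1e03026371)))) (.node 2 (.node 1 (.leaf (nat_lit 0x1e06026371)) (.leaf (nat_lit 0x1e05026391))) (.node 1 (.leaf (nat_lit 0x1e08026471)) (.leaf (nat_lit 0x1e07026391)))))) (.node 8 (.node 4 (.node 2 (.node 1 (.leaf (nat_lit 0x1e030263a1)) (.leaf (nat_lit 0x1e080264a1))) (.node 1 (.leaf (nat_lit 0x1e070263d1)) (.leaf (nat_lit 0x1e030263f1)))) (.node 2 (.node 1 (.leaf (nat_lit 0x1e08026401)) (.leaf (nat_lit 0x1e05026421))) (.node 1 (.leaf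 (nat_lit 0x1e06026431)) (.leaf (nat_lit 0x1e05026441))))) (.node 4 (.node 2 (.node 1 (.leaf (nat_lit 0x1e07029701)) (.leaf (nat_lit 0x1e07029721))) (.node 1 (.leaf (nat_lit 0x1e07026461)) (.leaf (nat_lit 0x13030264c2)))) (.node 2 (.node 1 (.leaf (nat_lit 0x13060264c2)) (.leaf (nat_lit 0x13070264c2))) (.node 1 (.leaf (nat_lit 0x1e080266a1)) (.leaf (nat_lit 0x13070264d2))))))) (.node 16 (.node 8 (.node 4 (.node 2 (.node 1 (.leaf (nat_lit 0x13030264e2)) (.leaf (nat_lit 0x13080264e2))) (.node 1 (.leaf (nat_lit 0x13080264f2)) (.leaf (nat_lit 0x1305026512)))) (.node 2 (.node 1 (.leaf (nat_lit 0x1e08026711)) (.leaf (nat_lit 0x1307026512))) (.node 1 (.leaf (nat_lit 0x1303026522)) (.leaf (nat_lit 0x1308026522))))) (.node 4 (.node 2 (.node 1 (.leaf (nat_lit 0x1e07026531)) (.leaf (nat_lit 0x1308026542))) (.node 1 (.leaf (nat_lit 0x1e07026571)) (.leaf (nat_lit 0x1308026582)))) (.node 2 (.node 1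 (.leaf (nat_lit 0x1308026592)) (.leaf (nat_lit 0x1e07026781))) (.node 1 (.leaf (nat_lit 0x13040265d2)) (.leaf (nat_lit 0x13060265d2)))))) (.node 8 (.node 4 (.node 2 (.node 1 (.leaf (nat_lit 0x13070265d2)) (.leaf (nat_lit 0x13030265e2))) (.node 1 (.leaf (nat_lit 0x13080265e2)) (.leaf (nat_lit 0x13030265f2)))) (.node 2 (.node 1 (.leaf (nat_lit 0x13060265f2)) (.leaf (nat_lit 0x13070265f2))) (.node 1 (.leaf (nat_lit 0x1308026612)) (.leaf (nat_lit 0x1304026622))))) (.node 4 (.node 2 (.node 1 (.leaf (nat_lit 0x1308026622)) (.leaf (nat_lit 0x1305026642))) (.node 1 (.leaf (nat_lit 0x1308026652)) (.leaf (nat_lit 0x1306026672)))) (.node 2 (.node 1 (.leaf (nat_lit 0x1307026672)) (.leaf (nat_lit 0x1305026682))) (.node 1 (.leaf (nat_lit 0x1e02026711)) (.leaf (nat_lit 0x1307026682))))))))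

noncomputable def oT92 : Tree :=
  .node 64 (.node 32 (.node 16 (.node 8 (.node 4 (.node 2 (.node 1 (.leaf (nat_lit 0x1303026692)) (.leaf (nat_lit 0x1308026692))) (.node 1 (.leaf (nat_lit 0x13080266b2)) (.leaf (nat_lit 0x13040266c2)))) (.node 2 (.node 1 (.leaf (nat_lit 0x13080266c2)) (.leaf (nat_lit 0x13050266e2))) (.node 1 (.leaf (nat_lit 0x13080266e2)) (.leaf (nat_lit 0x13070266f2))))) (.node 4 (.node 2 (.node 1 (.leaf (nat_lit 0x1308026722)) (.leaf (nat_lit 0x1302026732))) (.node 1 (.leaf (nat_lit 0x1308026732)) (.leaf (nat_lit 0x1e06026791)))) (.node 2 (.node 1 (.leaf (nat_lit 0x1e07026791)) (.leaf (nat_lit 0x1e050267a1))) (.node 1 (.leaf (nat_lit 0x2008026a71)) (.leaf (nat_lit 0x1e070267a1)))))) (.node 8 (.node 4 (.node 2 (.node 1 (.leaf (nat_lit 0x1e030267b1)) (.leaf (nat_lit 0x1e080267b1))) (.node 1 (.leaf (nat_lit 0x20070267c1)) (.leaf (nat_lit 0x1e030267d1)))) (.node 2 (.node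 1 (.leaf (nat_lit 0x1e080267d1)) (.leaf (nat_lit 0x1e040267e1))) (.node 1 (.leaf (nat_lit 0x1e080267e1)) (.leaf (nat_lit 0x1e07026801))))) (.node 4 (.node 2 (.node 1 (.leaf (nat_lit 0x2008026b31)) (.leaf (nat_lit 0x1e07026811))) (.node 1 (.leaf (nat_lit 0x2007026821)) (.leaf (nat_lit 0x1e03026831)))) (.node 2 (.node 1 (.leaf (nat_lit 0x1e08026831)) (.leaf (nat_lit 0x1e02026841))) (.node 1 (.leaf (nat_lit 0x1e08026841)) (.leaf (nat_lit 0x1e07026ba1))))))) (.node 16 (.node 8 (.node 4 (.node 2 (.node 1 (.leaf (nat_lit 0x2008026bb1)) (.leaf (nat_lit 0x2007026881))) (.node 1 (.leaf (nat_lit 0x1e03026891)) (.leaf (nat_lit 0x1e08026891)))) (.node 2 (.node 1 (.leaf (nat_lit 0x1e07029811)) (.leaf (nat_lit 0x1e07026bf1))) (.node 1 (.leaf (nat_lit 0x1e020268b1)) (.leaf (nat_lit 0x1e080268b1))))) (.node 4 (.node 2 (.node 1 (.leaf (nat_lit 0x1e010268d1)) (.leaf (nat_lit 0x1e080268d1))) (.node 1 (.leaf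 (nat_lit 0x1e070268e1)) (.leaf (nat_lit 0x1e03026901)))) (.node 2 (.node 1 (.leaf (nat_lit 0x1e06026901)) (.leaf (nat_lit 0x1e07026901))) (.node 1 (.leaf (nat_lit 0x1e01026981)) (.leaf (nat_lit 0x1e07026911)))))) (.node 8 (.node 4 (.node 2 (.node 1 (.leaf (nat_lit 0x1e03026921)) (.leaf (nat_lit 0x1e08026921))) (.node 1 (.leaf (nat_lit 0x1e02026931)) (.leaf (nat_lit 0x1e08026931)))) (.node 2 (.node 1 (.leaf (nat_lit 0x1e06026951)) (.leaf (nat_lit 0x1e05026961))) (.node 1 (.leaf (nat_lit 0x1e04026981)) (.leaf (nat_lit 0x1e07026961))))) (.node 4 (.node 2 (.node 1 (.leaf (nat_lit 0x1e03026971)) (.leaf (nat_lit 0x1e08026971))) (.node 1 (.leaf (nat_lit 0x1e08026991)) (.leaf (nat_lit 0x1e040269a1)))) (.node 2 (.node 1 (.leaf (nat_lit 0x1e080269a1)) (.leaf (nat_lit 0x1e050269c1))) (.node 1 (.leaf (nat_lit 0x1e080269c1)) (.leaf (nat_lit 0x1e070269d1)))))))) (.node 32 (.node 16 (.node 8 (.node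 4 (.node 2 (.node 1 (.leaf (nat_lit 0x1e050269f1)) (.leaf (nat_lit 0x1e070269e1))) (.node 1 (.leaf (nat_lit 0x1e08026a01)) (.leaf (nat_lit 0x1e08026a11)))) (.node 2 (.node 1 (.leaf (nat_lit 0x1e05026a41)) (.leaf (nat_lit 0x20020361c1))) (.node 1 (.leaf (nat_lit 0x1e07026a41)) (.leaf (nat_lit 0x1e03026a51))))) (.node 4 (.node 2 (.node 1 (.leaf (nat_lit 0x1e08026a51)) (.leaf (nat_lit 0x2002026b31))) (.node 1 (.leaf (nat_lit 0x1e07026a61)) (.leaf (nat_lit 0x1e02026b51)))) (.node 2 (.node 1 (.leaf (nat_lit 0x1e03026a81)) (.leaf (nat_lit 0x1e08026a81))) (.node 1 (.leaf (nat_lit 0x1e02026a91)) (.leaf (nat_lit 0x1e04026a91)))))) (.node 8 (.node 4 (.node 2 (.node 1 (.leaf (nat_lit 0x1e08026a91)) (.leaf (nat_lit 0x1e08026ab1))) (.node 1 (.leaf (nat_lit 0x1e04026ac1)) (.leaf (nat_lit 0x1e08026ac1)))) (.node 2 (.node 1 (.leaf (nat_lit 0x1e05026ae1)) (.leaf (nat_lit 0x1e08026ae1))) (.node 1 (.leaf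 (nat_lit 0x1e07026af1)) (.leaf (nat_lit 0x1e06026b01))))) (.node 4 (.node 2 (.node 1 (.leaf (nat_lit 0x1e08026b01)) (.leaf (nat_lit 0x1e07026b11))) (.node 1 (.leaf (nat_lit 0x2003036191)) (.leaf (nat_lit 0x1e03029b91)))) (.node 2 (.node 1 (.leaf (nat_lit 0x1e03026b41)) (.leaf (nat_lit 0x1e08026b41))) (.node 1 (.leaf (nat_lit 0x1e08026b51)) (.leaf (nat_lit 0x1e02026b61))))))) (.node 16 (.node 8 (.node 4 (.node 2 (.node 1 (.leaf (nat_lit 0x1e08026b61)) (.leaf (nat_lit 0x1e01026b81))) (.node 1 (.leaf (nat_lit 0x1e08026b81)) (.leaf (nat_lit 0x1e07026b91)))) (.node 2 (.node 1 (.leaf (nat_lit 0x1e08026bc1)) (.leaf (nat_lit 0x1e08026bd1))) (.node 1 (.leaf (nat_lit 0x1e00026c11)) (.leaf (nat_lit 0x1e08026c11))))) (.node 4 (.node 2 (.node 1 (.leaf (nat_lit 0x1e05026c41)) (.leaf (nat_lit 0x2208027051))) (.node 1 (.leaf (nat_lit 0x1e07026c41)) (.leaf (nat_lit 0x1e03026c51)))) (.node 2 (.node 1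 (.leaf (nat_lit 0x1e08026c51)) (.leaf (nat_lit 0x2208027091))) (.node 1 (.leaf (nat_lit 0x1e07026c61)) (.leaf (nat_lit 0x2207026c71)))))) (.node 8 (.node 4 (.node 2 (.node 1 (.leaf (nat_lit 0x1e03026c81)) (.leaf (nat_lit 0x1e08026c81))) (.node 1 (.leaf (nat_lit 0x1e02026c91)) (.leaf (nat_lit 0x1e04026c91)))) (.node 2 (.node 1 (.leaf (nat_lit 0x1e08026c91)) (.leaf (nat_lit 0x2004036c51))) (.node 1 (.leaf (nat_lit 0x2007027121)) (.leaf (nat_lit 0x1e04026cc1))))) (.node 4 (.node 2 (.node 1 (.leaf (nat_lit 0x1e08026cc1)) (.leaf (nat_lit 0x1e08026ce1))) (.node 1 (.leaf (nat_lit 0x1e07026cf1)) (.leaf (nat_lit 0x20040365b1)))) (.node 2 (.node 1 (.leaf (nat_lit 0x2201026da1)) (.leaf (nat_lit 0x1e03026d21))) (.node 1 (.leaf (nat_lit 0x1e08026d21)) (.leaf (nat_lit 0x2001026dd1))))))))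

noncomputable def oT93 : Tree :=
  .node 64 (.node 32 (.node 16 (.node 8 (.node 4 (.node 2 (.node 1 (.leaf (nat_lit 0x2007027201)) (.leaf (nat_lit 0x1e02026d41))) (.node 1 (.leaf (nat_lit 0x1e08026d41)) (.leaf (nat_lit 0x1e01026d61)))) (.node 2 (.node 1 (.leaf (nat_lit 0x1e08026d61)) (.leaf (nat_lit 0x1e07026d71))) (.node 1 (.leaf (nat_lit 0x2002028921)) (.leaf (nat_lit 0x2002036da1))))) (.node 4 (.node 2 (.node 1 (.leaf (nat_lit 0x2007027281)) (.leaf (nat_lit 0x1e02026db1))) (.node 1 (.leaf (nat_lit 0x1e04026db1)) (.leaf (nat_lit 0x1e08026db1)))) (.node 2 (.node 1 (.leaf (nat_lit 0x1e03028981)) (.leaf (nat_lit 0x2008026dd1))) (.node 1 (.leaf (nat_lit 0x1e01026df1)) (.leaf (nat_lit 0x1e08026df1)))))) (.node 8 (.node 4 (.node 2 (.node 1 (.leaf (nat_lit 0x1e07026e01)) (.leaf (nat_lit 0x1e00026e11))) (.node 1 (.leaf (nat_lit 0x1e08026e11)) (.leaf (nat_lit 0x1e07026e21)))) (.node 2 (.node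 1 (.leaf (nat_lit 0x1e06026e41)) (.leaf (nat_lit 0x1e07026e41))) (.node 1 (.leaf (nat_lit 0x1e05026e51)) (.leaf (nat_lit 0x2004026e71))))) (.node 4 (.node 2 (.node 1 (.leaf (nat_lit 0x1e07026e51)) (.leaf (nat_lit 0x1e03026e61))) (.node 1 (.leaf (nat_lit 0x1e08026e61)) (.leaf (nat_lit 0x1e01026f41)))) (.node 2 (.node 1 (.leaf (nat_lit 0x1e03026e81)) (.leaf (nat_lit 0x1e08026e81))) (.node 1 (.leaf (nat_lit 0x1e02026e91)) (.leaf (nat_lit 0x1e04026e91))))))) (.node 16 (.node 8 (.node 4 (.node 2 (.node 1 (.leaf (nat_lit 0x1e08026e91)) (.leaf (nat_lit 0x1e08026eb1))) (.node 1 (.leaf (nat_lit 0x1e07026ec1)) (.leaf (nat_lit 0x1e05026ed1)))) (.node 2 (.node 1 (.leaf (nat_lit 0x2003026f01)) (.leaf (nat_lit 0x1e07026ed1))) (.node 1 (.leaf (nat_lit 0x1e03026ee1)) (.leaf (nat_lit 0x1e08026ee1))))) (.node 4 (.node 2 (.node 1 (.leaf (nat_lit 0x2005026f01)) (.leaf (nat_lit 0x1e07026ef1))) (.node 1 (.leaf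 (nat_lit 0x1e04026f41)) (.leaf (nat_lit 0x1e03026f11)))) (.node 2 (.node 1 (.leaf (nat_lit 0x1e08026f11)) (.leaf (nat_lit 0x1e02026f21))) (.node 1 (.leaf (nat_lit 0x1e04026f21)) (.leaf (nat_lit 0x1e08026f21)))))) (.node 8 (.node 4 (.node 2 (.node 1 (.leaf (nat_lit 0x1e08026f41)) (.leaf (nat_lit 0x1e04026f51))) (.node 1 (.leaf (nat_lit 0x1e08026f51)) (.leaf (nat_lit 0x1e05026f71)))) (.node 2 (.node 1 (.leaf (nat_lit 0x1e08026f71)) (.leaf (nat_lit 0x1e07026f81))) (.node 1 (.leaf (nat_lit 0x1e06026f91)) (.leaf (nat_lit 0x1e08026f91))))) (.node 4 (.node 2 (.node 1 (.leaf (nat_lit 0x1e07026fa1)) (.leaf (nat_lit 0x2006026fc1))) (.node 1 (.leaf (nat_lit 0x1e05026fe1)) (.leaf (nat_lit 0x1e03026fd1)))) (.node 2 (.node 1 (.leaf (nat_lit 0x1e08026fd1)) (.leaf (nat_lit 0x1e08026fe1))) (.node 1 (.leaf (nat_lit 0x1e02026ff1)) (.leaf (nat_lit 0x1e08026ff1)))))))) (.node 32 (.node 16 (.node 8 (.node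 4 (.node 2 (.node 1 (.leaf (nat_lit 0x1e08027011)) (.leaf (nat_lit 0x1e07027021))) (.node 1 (.leaf (nat_lit 0x1e04027041)) (.leaf (nat_lit 0x2203027091)))) (.node 2 (.node 1 (.leaf (nat_lit 0x1e07027041)) (.leaf (nat_lit 0x2001028c91))) (.node 1 (.leaf (nat_lit 0x1e03027061)) (.leaf (nat_lit 0x1e08027061))))) (.node 4 (.node 2 (.node 1 (.leaf (nat_lit 0x1e02027071)) (.leaf (nat_lit 0x1e04027071))) (.node 1 (.leaf (nat_lit 0x1e08027071)) (.leaf (nat_lit 0x2204036901)))) (.node 2 (.node 1 (.leaf (nat_lit 0x2004036911)) (.leaf (nat_lit 0x1e030270a1))) (.node 1 (.leaf (nat_lit 0x1e080270a1)) (.leaf (nat_lit 0x20030270b1)))))) (.node 8 (.node 4 (.node 2 (.node 1 (.leaf (nat_lit 0x20080270b1)) (.leaf (nat_lit 0x1e020270c1))) (.node 1 (.leaf (nat_lit 0x1e040270c1)) (.leaf (nat_lit 0x1e080270c1)))) (.node 2 (.node 1 (.leaf (nat_lit 0x1e010270e1)) (.leaf (nat_lit 0x1e040270e1))) (.node 1 (.leaf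 (nat_lit 0x1e080270e1)) (.leaf (nat_lit 0x1e050270f1))))) (.node 4 (.node 2 (.node 1 (.leaf (nat_lit 0x1e080270f1)) (.leaf (nat_lit 0x1e07027101))) (.node 1 (.leaf (nat_lit 0x1e04027111)) (.leaf (nat_lit 0x1e08027111)))) (.node 2 (.node 1 (.leaf (nat_lit 0x1e05027131)) (.leaf (nat_lit 0x1e08027131))) (.node 1 (.leaf (nat_lit 0x1e07027141)) (.leaf (nat_lit 0x1e06027151))))))) (.node 16 (.node 8 (.node 4 (.node 2 (.node 1 (.leaf (nat_lit 0x1e08027151)) (.leaf (nat_lit 0x1e07027161))) (.node 1 (.leaf (nat_lit 0x2200037181)) (.leaf (nat_lit 0x1e08027181)))) (.node 2 (.node 1 (.leaf (nat_lit 0x1e07027191)) (.leaf (nat_lit 0x20040365d1))) (.node 1 (.leaf (nat_lit 0x1e0402a151)) (.leaf (nat_lit 0x20080271c1))))) (.node 4 (.node 2 (.node 1 (.leaf (nat_lit 0x1e020271d1)) (.leaf (nat_lit 0x1e040271d1))) (.node 1 (.leaf (nat_lit 0x1e080271d1)) (.leaf (nat_lit 0x1e0402ceb1)))) (.node 2 (.node 1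 (.leaf (nat_lit 0x1e080271f1)) (.leaf (nat_lit 0x1e01027211))) (.node 1 (.leaf (nat_lit 0x1e08027211)) (.leaf (nat_lit 0x1e07027221)))))) (.node 8 (.node 4 (.node 2 (.node 1 (.leaf (nat_lit 0x1e00027231)) (.leaf (nat_lit 0x1e08027231))) (.node 1 (.leaf (nat_lit 0x1e07027241)) (.leaf (nat_lit 0x2008027261)))) (.node 2 (.node 1 (.leaf (nat_lit 0x1e0402a1f1)) (.leaf (nat_lit 0x1e08027271))) (.node 1 (.leaf (nat_lit 0x1e01027291)) (.leaf (nat_lit 0x1e04027291))))) (.node 4 (.node 2 (.node 1 (.leaf (nat_lit 0x1e08027291)) (.leaf (nat_lit 0x1e080272a1))) (.node 1 (.leaf (nat_lit 0x1e070272b1)) (.leaf (nat_lit 0x20040360c1)))) (.node 2 (.node 1 (.leaf (nat_lit 0x20080272c1)) (.leaf (nat_lit 0x20070272d1))) (.node 1 (.leaf (nat_lit 0x1e000272e1)) (.leaf (nat_lit 0x1e080272e1))))))))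

noncomputable def oT94 : Tree :=
  .node 64 (.node 32 (.node 16 (.node 8 (.node 4 (.node 2 (.node 1 (.leaf (nat_lit 0x1e070272f1)) (.leaf (nat_lit 0x1e08027311))) (.node 1 (.leaf (nat_lit 0x1e07027321)) (.leaf (nat_lit 0x1e03027331)))) (.node 2 (.node 1 (.leaf (nat_lit 0x1307027342)) (.leaf (nat_lit 0x1307027352))) (.node 1 (.leaf (nat_lit 0x1303027362)) (.leaf (nat_lit 0x1308027362))))) (.node 4 (.node 2 (.node 1 (.leaf (nat_lit 0x1307027372)) (.leaf (nat_lit 0x1307027382))) (.node 1 (.leaf (nat_lit 0x1308027392)) (.leaf (nat_lit 0x13030273c2)))) (.node 2 (.node 1 (.leaf (nat_lit 0x13080273c2)) (.leaf (nat_lit 0x13040273d2))) (.node 1 (.leaf (nat_lit 0x13080273d2)) (.leaf (nat_lit 0x13030273f2)))))) (.node 8 (.node 4 (.node 2 (.node 1 (.leaf (nat_lit 0x13080273f2)) (.leaf (nat_lit 0x1e07027401))) (.node 1 (.leaf (nat_lit 0x1308027412)) (.leaf (nat_lit 0x1e07027431)))) (.node 2 (.node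 1 (.leaf (nat_lit 0x1303027442)) (.leaf (nat_lit 0x1308027442))) (.node 1 (.leaf (nat_lit 0x1302027452)) (.leaf (nat_lit 0x1308027452))))) (.node 4 (.node 2 (.node 1 (.leaf (nat_lit 0x2008027471)) (.leaf (nat_lit 0x1304027492))) (.node 1 (.leaf (nat_lit 0x1306027492)) (.leaf (nat_lit 0x1307027492)))) (.node 2 (.node 1 (.leaf (nat_lit 0x13080274a2)) (.leaf (nat_lit 0x13030274b2))) (.node 1 (.leaf (nat_lit 0x13060274b2)) (.leaf (nat_lit 0x13070274b2))))))) (.node 16 (.node 8 (.node 4 (.node 2 (.node 1 (.leaf (nat_lit 0x2002027521)) (.leaf (nat_lit 0x13070274c2))) (.node 1 (.leaf (nat_lit 0x13030274d2)) (.leaf (nat_lit 0x13080274d2)))) (.node 2 (.node 1 (.leaf (nat_lit 0x13080274e2)) (.leaf (nat_lit 0x1305027502))) (.node 1 (.leaf (nat_lit 0x2004027521)) (.leaf (nat_lit 0x1307027502))))) (.node 4 (.node 2 (.node 1 (.leaf (nat_lit 0x1303027512)) (.leaf (nat_lit 0x1308027512))) (.node 1 (.leaf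 (nat_lit 0x1e03027a81)) (.leaf (nat_lit 0x1308027532)))) (.node 2 (.node 1 (.leaf (nat_lit 0x1306027552)) (.leaf (nat_lit 0x1307027552))) (.node 1 (.leaf (nat_lit 0x1305027562)) (.leaf (nat_lit 0x2008027831)))))) (.node 8 (.node 4 (.node 2 (.node 1 (.leaf (nat_lit 0x1307027562)) (.leaf (nat_lit 0x1303027572))) (.node 1 (.leaf (nat_lit 0x1308027572)) (.leaf (nat_lit 0x2002027631)))) (.node 2 (.node 1 (.leaf (nat_lit 0x1303027592)) (.leaf (nat_lit 0x1308027592))) (.node 1 (.leaf (nat_lit 0x13040275a2)) (.leaf (nat_lit 0x13080275a2))))) (.node 4 (.node 2 (.node 1 (.leaf (nat_lit 0x13050275c2)) (.leaf (nat_lit 0x13080275c2))) (.node 1 (.leaf (nat_lit 0x13070275d2)) (.leaf (nat_lit 0x20080278f1)))) (.node 2 (.node 1 (.leaf (nat_lit 0x13070275e2)) (.leaf (nat_lit 0x2004027631))) (.node 1 (.leaf (nat_lit 0x1303027602)) (.leaf (nat_lit 0x1308027602)))))))) (.node 32 (.node 16 (.node 8 (.node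 4 (.node 2 (.node 1 (.leaf (nat_lit 0x1302027612)) (.leaf (nat_lit 0x1308027612))) (.node 1 (.leaf (nat_lit 0x2008027631)) (.leaf (nat_lit 0x2008027971)))) (.node 2 (.node 1 (.leaf (nat_lit 0x2007027651)) (.leaf (nat_lit 0x1308027662))) (.node 1 (.leaf (nat_lit 0x2004037881)) (.leaf (nat_lit 0x1e07027991))))) (.node 4 (.node 2 (.node 1 (.leaf (nat_lit 0x1308027682)) (.leaf (nat_lit 0x13010276a2))) (.node 1 (.leaf (nat_lit 0x13080276a2)) (.leaf (nat_lit 0x13070276b2)))) (.node 2 (.node 1 (.leaf (nat_lit 0x13030276d2)) (.leaf (nat_lit 0x13060276d2))) (.node 1 (.leaf (nat_lit 0x13070276d2)) (.leaf (nat_lit 0x1e0002cb01)))))) (.node 8 (.node 4 (.node 2 (.node 1 (.leaf (nat_lit 0x13070276e2)) (.leaf (nat_lit 0x13080276f2))) (.node 1 (.leaf (nat_lit 0x1306027712)) (.leaf (nat_lit 0x1307027712)))) (.node 2 (.node 1 (.leaf (nat_lit 0x1305027722)) (.leaf (nat_lit 0x2000027831))) (.node 1 (.leaf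 (nat_lit 0x1307027722)) (.leaf (nat_lit 0x1303027732))))) (.node 4 (.node 2 (.node 1 (.leaf (nat_lit 0x1308027732)) (.leaf (nat_lit 0x1e00027871))) (.node 1 (.leaf (nat_lit 0x1303027752)) (.leaf (nat_lit 0x1308027752)))) (.node 2 (.node 1 (.leaf (nat_lit 0x1304027762)) (.leaf (nat_lit 0x1308027762))) (.node 1 (.leaf (nat_lit 0x1307027782)) (.leaf (nat_lit 0x20000278f1))))))) (.node 16 (.node 8 (.node 4 (.node 2 (.node 1 (.leaf (nat_lit 0x1307027792)) (.leaf (nat_lit 0x1e00027911))) (.node 1 (.leaf (nat_lit 0x13030277b2)) (.leaf (nat_lit 0x13080277b2)))) (.node 2 (.node 1 (.leaf (nat_lit 0x13020277c2)) (.leaf (nat_lit 0x13080277c2))) (.node 1 (.leaf (nat_lit 0x2007037a51)) (.leaf (nat_lit 0x1305027802))))) (.node 4 (.node 2 (.node 1 (.leaf (nat_lit 0x2001036381)) (.leaf (nat_lit 0x1307027802))) (.node 1 (.leaf (nat_lit 0x1303027812)) (.leaf (nat_lit 0x1308027812)))) (.node 2 (.node 1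 (.leaf (nat_lit 0x20010361b1)) (.leaf (nat_lit 0x1307027822))) (.node 1 (.leaf (nat_lit 0x1e01029bb1)) (.leaf (nat_lit 0x1303027842)))))) (.node 8 (.node 4 (.node 2 (.node 1 (.leaf (nat_lit 0x1308027842)) (.leaf (nat_lit 0x1302027852))) (.node 1 (.leaf (nat_lit 0x1304027852)) (.leaf (nat_lit 0x1308027852)))) (.node 2 (.node 1 (.leaf (nat_lit 0x1e08027871)) (.leaf (nat_lit 0x1304027882))) (.node 1 (.leaf (nat_lit 0x1308027882)) (.leaf (nat_lit 0x13050278a2))))) (.node 4 (.node 2 (.node 1 (.leaf (nat_lit 0x13080278a2)) (.leaf (nat_lit 0x13070278b2))) (.node 1 (.leaf (nat_lit 0x13060278c2)) (.leaf (nat_lit 0x13080278c2)))) (.node 2 (.node 1 (.leaf (nat_lit 0x13070278d2)) (.leaf (nat_lit 0x2001027971))) (.node 1 (.leaf (nat_lit 0x1308027902)) (.leaf (nat_lit 0x1e08027911))))))))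

noncomputable def oT95 : Tree :=
  .node 64 (.node 32 (.node 16 (.node 8 (.node 4 (.node 2 (.node 1 (.leaf (nat_lit 0x1302027922)) (.leaf (nat_lit 0x1308027922))) (.node 1 (.leaf (nat_lit 0x1301027942)) (.leaf (nat_lit 0x1308027942)))) (.node 2 (.node 1 (.leaf (nat_lit 0x1307027952)) (.leaf (nat_lit 0x13070279a2))) (.node 1 (.leaf (nat_lit 0x13000279b2)) (.leaf (nat_lit 0x13080279b2))))) (.node 4 (.node 2 (.node 1 (.leaf (nat_lit 0x13070279c2)) (.leaf (nat_lit 0x1e030279e1))) (.node 1 (.leaf (nat_lit 0x1e080279e1)) (.leaf (nat_lit 0x1e070279f1)))) (.node 2 (.node 1 (.leaf (nat_lit 0x1e03027a01)) (.leaf (nat_lit 0x1e08027a01))) (.node 1 (.leaf (nat_lit 0x1e08027a11)) (.leaf (nat_lit 0x1e07027a31)))))) (.node 8 (.node 4 (.node 2 (.node 1 (.leaf (nat_lit 0x1e03027a41)) (.leaf (nat_lit 0x1e08027a41))) (.node 1 (.leaf (nat_lit 0x1e07027a51)) (.leaf (nat_lit 0x1e08027a61)))) (.node 2 (.node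 1 (.leaf (nat_lit 0x1e08027a81)) (.leaf (nat_lit 0x1e03027a91))) (.node 1 (.leaf (nat_lit 0x1e08027a91)) (.leaf (nat_lit 0x1e04027aa1))))) (.node 4 (.node 2 (.node 1 (.leaf (nat_lit 0x1e08027aa1)) (.leaf (nat_lit 0x1e05027ac1))) (.node 1 (.leaf (nat_lit 0x1e08027ac1)) (.leaf (nat_lit 0x1e07027ad1)))) (.node 2 (.node 1 (.leaf (nat_lit 0x1e07027ae1)) (.leaf (nat_lit 0x1e03027af1))) (.node 1 (.leaf (nat_lit 0x1e08027af1)) (.leaf (nat_lit 0x1e02027b01))))))) (.node 16 (.node 8 (.node 4 (.node 2 (.node 1 (.leaf (nat_lit 0x1e08027b01)) (.leaf (nat_lit 0x2008027b21))) (.node 1 (.leaf (nat_lit 0x1e07027b41)) (.leaf (nat_lit 0x1e03027b51)))) (.node 2 (.node 1 (.leaf (nat_lit 0x1e08027b51)) (.leaf (nat_lit 0x2003027b61))) (.node 1 (.leaf (nat_lit 0x2008027b61)) (.leaf (nat_lit 0x1e02027b71))))) (.node 4 (.node 2 (.node 1 (.leaf (nat_lit 0x1e08027b71)) (.leaf (nat_lit 0x1e01027b91))) (.node 1 (.leaf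 (nat_lit 0x1e08027b91)) (.leaf (nat_lit 0x1e07027ba1)))) (.node 2 (.node 1 (.leaf (nat_lit 0x1e03027bc1)) (.leaf (nat_lit 0x1e06027bc1))) (.node 1 (.leaf (nat_lit 0x1e07027bc1)) (.leaf (nat_lit 0x2008027f41)))))) (.node 8 (.node 4 (.node 2 (.node 1 (.leaf (nat_lit 0x1e07027bd1)) (.leaf (nat_lit 0x1e08027be1))) (.node 1 (.leaf (nat_lit 0x1e06027c01)) (.leaf (nat_lit 0x1e07027c01)))) (.node 2 (.node 1 (.leaf (nat_lit 0x1e05027c11)) (.leaf (nat_lit 0x2204027c31))) (.node 1 (.leaf (nat_lit 0x1e07027c11)) (.leaf (nat_lit 0x1e03027c21))))) (.node 4 (.node 2 (.node 1 (.leaf (nat_lit 0x1e08027c21)) (.leaf (nat_lit 0x2002027cd1))) (.node 1 (.leaf (nat_lit 0x1e03027c41)) (.leaf (nat_lit 0x1e08027c41)))) (.node 2 (.node 1 (.leaf (nat_lit 0x1e04027c51)) (.leaf (nat_lit 0x1e08027c51))) (.node 1 (.leaf (nat_lit 0x1e07027c71)) (.leaf (nat_lit 0x2205027c91)))))))) (.node 32 (.node 16 (.node 8 (.node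 4 (.node 2 (.node 1 (.leaf (nat_lit 0x1e07027c81)) (.leaf (nat_lit 0x2004027cd1))) (.node 1 (.leaf (nat_lit 0x1e03027ca1)) (.leaf (nat_lit 0x1e08027ca1)))) (.node 2 (.node 1 (.leaf (nat_lit 0x1e02027cb1)) (.leaf (nat_lit 0x1e08027cb1))) (.node 1 (.leaf (nat_lit 0x2008027cd1)) (.leaf (nat_lit 0x1e05027cf1))))) (.node 4 (.node 2 (.node 1 (.leaf (nat_lit 0x2006037a61)) (.leaf (nat_lit 0x1e07027cf1))) (.node 1 (.leaf (nat_lit 0x1e03027d01)) (.leaf (nat_lit 0x1e08027d01)))) (.node 2 (.node 1 (.leaf (nat_lit 0x2208028111)) (.leaf (nat_lit 0x1e07027d11))) (.node 1 (.leaf (nat_lit 0x2204027d61)) (.leaf (nat_lit 0x1e03027d31)))))) (.node 8 (.node 4 (.node 2 (.node 1 (.leaf (nat_lit 0x1e08027d31)) (.leaf (nat_lit 0x1e02027d41))) (.node 1 (.leaf (nat_lit 0x1e04027d41)) (.leaf (nat_lit 0x1e08027d41)))) (.node 2 (.node 1 (.leaf (nat_lit 0x2002038111)) (.leaf (nat_lit 0x20070281a1))) (.node 1 (.leaf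 (nat_lit 0x1e04027d71)) (.leaf (nat_lit 0x1e08027d71))))) (.node 4 (.node 2 (.node 1 (.leaf (nat_lit 0x1e05027d91)) (.leaf (nat_lit 0x1e08027d91))) (.node 1 (.leaf (nat_lit 0x1e07027da1)) (.leaf (nat_lit 0x1e06027db1)))) (.node 2 (.node 1 (.leaf (nat_lit 0x1e08027db1)) (.leaf (nat_lit 0x1e07027dc1))) (.node 1 (.leaf (nat_lit 0x2208028231)) (.leaf (nat_lit 0x2205027e01))))))) (.node 16 (.node 8 (.node 4 (.node 2 (.node 1 (.leaf (nat_lit 0x1e03027df1)) (.leaf (nat_lit 0x1e08027df1))) (.node 1 (.leaf (nat_lit 0x20040380d1)) (.leaf (nat_lit 0x2007028281)))) (.node 2 (.node 1 (.leaf (nat_lit 0x1e02027e11)) (.leaf (nat_lit 0x1e08027e11))) (.node 1 (.leaf (nat_lit 0x1e01027e31)) (.leaf (nat_lit 0x1e08027e31))))) (.node 4 (.node 2 (.node 1 (.leaf (nat_lit 0x1e07027e41)) (.leaf (nat_lit 0x2004028921))) (.node 1 (.leaf (nat_lit 0x2004038841)) (.leaf (nat_lit 0x2007028301)))) (.node 2 (.node 1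 (.leaf (nat_lit 0x1e02027e81)) (.leaf (nat_lit 0x1e04027e81))) (.node 1 (.leaf (nat_lit 0x1e08027e81)) (.leaf (nat_lit 0x200502b5d1)))))) (.node 8 (.node 4 (.node 2 (.node 1 (.leaf (nat_lit 0x2003027eb1)) (.leaf (nat_lit 0x1e01027ec1))) (.node 1 (.leaf (nat_lit 0x1e08027ec1)) (.leaf (nat_lit 0x1e07027ed1)))) (.node 2 (.node 1 (.leaf (nat_lit 0x1e00027ee1)) (.leaf (nat_lit 0x1e08027ee1))) (.node 1 (.leaf (nat_lit 0x1e07027ef1)) (.leaf (nat_lit 0x1e02027f11))))) (.node 4 (.node 2 (.node 1 (.leaf (nat_lit 0x1e06027f11)) (.leaf (nat_lit 0x1e07027f11))) (.node 1 (.leaf (nat_lit 0x1e05027f21)) (.leaf (nat_lit 0x2004027f41)))) (.node 2 (.node 1 (.leaf (nat_lit 0x1e07027f21)) (.leaf (nat_lit 0x1e03027f31))) (.node 1 (.leaf (nat_lit 0x1e08027f31)) (.leaf (nat_lit 0x1e0002cb51))))))))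

noncomputable def oT96 : Tree :=
  .node 64 (.node 32 (.node 16 (.node 8 (.node 4 (.node 2 (.node 1 (.leaf (nat_lit 0x1e08027f51)) (.leaf (nat_lit 0x1e05027f71))) (.node 1 (.leaf (nat_lit 0x22000280d1)) (.leaf (nat_lit 0x1e07027f71)))) (.node 2 (.node 1 (.leaf (nat_lit 0x1e03027f81)) (.leaf (nat_lit 0x1e08027f81))) (.node 1 (.leaf (nat_lit 0x2200028111)) (.leaf (nat_lit 0x1e07027f91))))) (.node 4 (.node 2 (.node 1 (.leaf (nat_lit 0x2000028131)) (.leaf (nat_lit 0x1e03027fb1))) (.node 1 (.leaf (nat_lit 0x1e08027fb1)) (.leaf (nat_lit 0x1e02027fc1)))) (.node 2 (.node 1 (.leaf (nat_lit 0x1e04027fc1)) (.leaf (nat_lit 0x1e08027fc1))) (.node 1 (.leaf (nat_lit 0x1e00028191)) (.leaf (nat_lit 0x2008027fe1)))))) (.node 8 (.node 4 (.node 2 (.node 1 (.leaf (nat_lit 0x1e04027ff1)) (.leaf (nat_lit 0x1e08027ff1))) (.node 1 (.leaf (nat_lit 0x1e08028011)) (.leaf (nat_lit 0x1e07028021)))) (.node 2 (.node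 1 (.leaf (nat_lit 0x2200028231)) (.leaf (nat_lit 0x2000028241))) (.node 1 (.leaf (nat_lit 0x1e03028051)) (.leaf (nat_lit 0x1e08028051))))) (.node 4 (.node 2 (.node 1 (.leaf (nat_lit 0x1e00028271)) (.leaf (nat_lit 0x2008028061))) (.node 1 (.leaf (nat_lit 0x1e02028071)) (.leaf (nat_lit 0x1e08028071)))) (.node 2 (.node 1 (.leaf (nat_lit 0x1e01028091)) (.leaf (nat_lit 0x1e08028091))) (.node 1 (.leaf (nat_lit 0x1e070280a1)) (.leaf (nat_lit 0x1e040280c1))))))) (.node 16 (.node 8 (.node 4 (.node 2 (.node 1 (.leaf (nat_lit 0x2201036891)) (.leaf (nat_lit 0x1e070280c1))) (.node 1 (.leaf (nat_lit 0x22010368b1)) (.leaf (nat_lit 0x1e030280e1)))) (.node 2 (.node 1 (.leaf (nat_lit 0x1e080280e1)) (.leaf (nat_lit 0x1e020280f1))) (.node 1 (.leaf (nat_lit 0x1e040280f1)) (.leaf (nat_lit 0x1e080280f1))))) (.node 4 (.node 2 (.node 1 (.leaf (nat_lit 0x2201036901)) (.leaf (nat_lit 0x2001036911))) (.node 1 (.leaf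 (nat_lit 0x1e03028121)) (.leaf (nat_lit 0x1e08028121)))) (.node 2 (.node 1 (.leaf (nat_lit 0x2001036941)) (.leaf (nat_lit 0x2008028131))) (.node 1 (.leaf (nat_lit 0x1e02028141)) (.leaf (nat_lit 0x1e04028141)))))) (.node 8 (.node 4 (.node 2 (.node 1 (.leaf (nat_lit 0x1e08028141)) (.leaf (nat_lit 0x1e01028161))) (.node 1 (.leaf (nat_lit 0x1e04028161)) (.leaf (nat_lit 0x1e08028161)))) (.node 2 (.node 1 (.leaf (nat_lit 0x1e05028171)) (.leaf (nat_lit 0x1e08028171))) (.node 1 (.leaf (nat_lit 0x1e07028181)) (.leaf (nat_lit 0x1e0102b2c1))))) (.node 4 (.node 2 (.node 1 (.leaf (nat_lit 0x1e08028191)) (.leaf (nat_lit 0x1e050281b1))) (.node 1 (.leaf (nat_lit 0x1e080281b1)) (.leaf (nat_lit 0x1e070281c1)))) (.node 2 (.node 1 (.leaf (nat_lit 0x1e060281d1)) (.leaf (nat_lit 0x1e080281d1))) (.node 1 (.leaf (nat_lit 0x1e070281e1)) (.leaf (nat_lit 0x200302b4d1)))))))) (.node 32 (.node 16 (.node 8 (.node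 4 (.node 2 (.node 1 (.leaf (nat_lit 0x1e08028201)) (.leaf (nat_lit 0x1e07028211))) (.node 1 (.leaf (nat_lit 0x20010282e1)) (.leaf (nat_lit 0x1e010282f1)))) (.node 2 (.node 1 (.leaf (nat_lit 0x2008028241)) (.leaf (nat_lit 0x1e02028251))) (.node 1 (.leaf (nat_lit 0x1e04028251)) (.leaf (nat_lit 0x1e08028251))))) (.node 4 (.node 2 (.node 1 (.leaf (nat_lit 0x1e0102b0c1)) (.leaf (nat_lit 0x1e08028271))) (.node 1 (.leaf (nat_lit 0x1e01028291)) (.leaf (nat_lit 0x1e08028291)))) (.node 2 (.node 1 (.leaf (nat_lit 0x1e070282a1)) (.leaf (nat_lit 0x1e000282b1))) (.node 1 (.leaf (nat_lit 0x1e080282b1)) (.leaf (nat_lit 0x1e070282c1)))))) (.node 8 (.node 4 (.node 2 (.node 1 (.leaf (nat_lit 0x20080282e1)) (.leaf (nat_lit 0x1e040282f1))) (.node 1 (.leaf (nat_lit 0x1e080282f1)) (.leaf (nat_lit 0x1e01028311)))) (.node 2 (.node 1 (.leaf (nat_lit 0x1e04028311)) (.leaf (nat_lit 0x1e08028311))) (.node 1 (.leaf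 (nat_lit 0x1e08028321)) (.leaf (nat_lit 0x1e07028331))))) (.node 4 (.node 2 (.node 1 (.leaf (nat_lit 0x1e07028341)) (.leaf (nat_lit 0x1e00028351))) (.node 1 (.leaf (nat_lit 0x1e08028351)) (.leaf (nat_lit 0x1e07028361)))) (.node 2 (.node 1 (.leaf (nat_lit 0x1e08028381)) (.leaf (nat_lit 0x1e07028391))) (.node 1 (.leaf (nat_lit 0x1e030283a1)) (.leaf (nat_lit 0x1e030283b1))))))) (.node 16 (.node 8 (.node 4 (.node 2 (.node 1 (.leaf (nat_lit 0x1e080283b1)) (.leaf (nat_lit 0x1e080283c1))) (.node 1 (.leaf (nat_lit 0x1e030283e1)) (.leaf (nat_lit 0x1e080283e1)))) (.node 2 (.node 1 (.leaf (nat_lit 0x1e040283f1)) (.leaf (nat_lit 0x1e080283f1))) (.node 1 (.leaf (nat_lit 0x1e07028411)) (.leaf (nat_lit 0x2008028421))))) (.node 4 (.node 2 (.node 1 (.leaf (nat_lit 0x1e08028441)) (.leaf (nat_lit 0x1e04028451))) (.node 1 (.leaf (nat_lit 0x1e08028451)) (.leaf (nat_lit 0x1e0402d821)))) (.node 2 (.node 1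 (.leaf (nat_lit 0x1e08028471)) (.leaf (nat_lit 0x1e04028481))) (.node 1 (.leaf (nat_lit 0x1e08028481)) (.leaf (nat_lit 0x1e050284a1)))))) (.node 8 (.node 4 (.node 2 (.node 1 (.leaf (nat_lit 0x1e080284a1)) (.leaf (nat_lit 0x1e070284b1))) (.node 1 (.leaf (nat_lit 0x1e060284c1)) (.leaf (nat_lit 0x1e080284c1)))) (.node 2 (.node 1 (.leaf (nat_lit 0x1e070284d1)) (.leaf (nat_lit 0x1e080284f1))) (.node 1 (.leaf (nat_lit 0x1e08028501)) (.leaf (nat_lit 0x1e08028531))))) (.node 4 (.node 2 (.node 1 (.leaf (nat_lit 0x1e04028541)) (.leaf (nat_lit 0x1e08028541))) (.node 1 (.leaf (nat_lit 0x1e08028561)) (.leaf (nat_lit 0x1e08028581)))) (.node 2 (.node 1 (.leaf (nat_lit 0x1e080285a1)) (.leaf (nat_lit 0x1e050285c1))) (.node 1 (.leaf (nat_lit 0x2208028a31)) (.leaf (nat_lit 0x1e070285c1))))))))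

noncomputable def oT97 : Tree :=
  .node 64 (.node 32 (.node 16 (.node 8 (.node 4 (.node 2 (.node 1 (.leaf (nat_lit 0x1e030285d1)) (.leaf (nat_lit 0x1e080285d1))) (.node 1 (.leaf (nat_lit 0x2201028661)) (.leaf (nat_lit 0x1e080285f1)))) (.node 2 (.node 1 (.leaf (nat_lit 0x2208028ae1)) (.leaf (nat_lit 0x1e07028611))) (.node 1 (.leaf (nat_lit 0x2204028661)) (.leaf (nat_lit 0x1e03028631))))) (.node 4 (.node 2 (.node 1 (.leaf (nat_lit 0x1e08028631)) (.leaf (nat_lit 0x1e04028641))) (.node 1 (.leaf (nat_lit 0x1e08028641)) (.leaf (nat_lit 0x20020381c1)))) (.node 2 (.node 1 (.leaf (nat_lit 0x2208028661)) (.leaf (nat_lit 0x1e04028671))) (.node 1 (.leaf (nat_lit 0x1e08028671)) (.leaf (nat_lit 0x1e08028691)))))) (.node 8 (.node 4 (.node 2 (.node 1 (.leaf (nat_lit 0x1e070286a1)) (.leaf (nat_lit 0x2208028bc1))) (.node 1 (.leaf (nat_lit 0x22050286e1)) (.leaf (nat_lit 0x1e080286d1)))) (.node 2 (.node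 1 (.leaf (nat_lit 0x22080286e1)) (.leaf (nat_lit 0x1e04028711))) (.node 1 (.leaf (nat_lit 0x2208028c71)) (.leaf (nat_lit 0x1e07028711))))) (.node 4 (.node 2 (.node 1 (.leaf (nat_lit 0x2207028721)) (.leaf (nat_lit 0x1e03028731))) (.node 1 (.leaf (nat_lit 0x1e08028731)) (.leaf (nat_lit 0x1e04028741)))) (.node 2 (.node 1 (.leaf (nat_lit 0x1e08028741)) (.leaf (nat_lit 0x2202028881))) (.node 1 (.leaf (nat_lit 0x2202028891)) (.leaf (nat_lit 0x1e03028771))))))) (.node 16 (.node 8 (.node 4 (.node 2 (.node 1 (.leaf (nat_lit 0x1e08028771)) (.leaf (nat_lit 0x20040395e1))) (.node 1 (.leaf (nat_lit 0x2207028d41)) (.leaf (nat_lit 0x1e02028791)))) (.node 2 (.node 1 (.leaf (nat_lit 0x1e04028791)) (.leaf (nat_lit 0x1e08028791))) (.node 1 (.leaf (nat_lit 0x1e010287b1)) (.leaf (nat_lit 0x1e040287b1))))) (.node 4 (.node 2 (.node 1 (.leaf (nat_lit 0x1e080287b1)) (.leaf (nat_lit 0x1e050287c1))) (.node 1 (.leaf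 (nat_lit 0x1e080287c1)) (.leaf (nat_lit 0x1e070287d1)))) (.node 2 (.node 1 (.leaf (nat_lit 0x1e0202d821)) (.leaf (nat_lit 0x20080287e1))) (.node 1 (.leaf (nat_lit 0x1e05028801)) (.leaf (nat_lit 0x1e08028801)))))) (.node 8 (.node 4 (.node 2 (.node 1 (.leaf (nat_lit 0x1e07028811)) (.leaf (nat_lit 0x1e06028821))) (.node 1 (.leaf (nat_lit 0x1e08028821)) (.leaf (nat_lit 0x1e07028831)))) (.node 2 (.node 1 (.leaf (nat_lit 0x1e0002ccb1)) (.leaf (nat_lit 0x1e08028851))) (.node 1 (.leaf (nat_lit 0x1e07028861)) (.leaf (nat_lit 0x2003039781))))) (.node 4 (.node 2 (.node 1 (.leaf (nat_lit 0x2007029131)) (.leaf (nat_lit 0x22030397c1))) (.node 1 (.leaf (nat_lit 0x1e020288a1)) (.leaf (nat_lit 0x1e040288a1)))) (.node 2 (.node 1 (.leaf (nat_lit 0x1e080288a1)) (.leaf (nat_lit 0x1e0402d691))) (.node 1 (.leaf (nat_lit 0x20080288c1)) (.leaf (nat_lit 0x1e010288e1)))))))) (.node 32 (.node 16 (.node 8 (.node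 4 (.node 2 (.node 1 (.leaf (nat_lit 0x1e080288e1)) (.leaf (nat_lit 0x1e08028901))) (.node 1 (.leaf (nat_lit 0x1e07029181)) (.leaf (nat_lit 0x2003039831)))) (.node 2 (.node 1 (.leaf (nat_lit 0x1e070291a1)) (.leaf (nat_lit 0x1e070291b1))) (.node 1 (.leaf (nat_lit 0x2007039861)) (.leaf (nat_lit 0x1e01028951))))) (.node 4 (.node 2 (.node 1 (.leaf (nat_lit 0x1e04028951)) (.leaf (nat_lit 0x1e08028951))) (.node 1 (.leaf (nat_lit 0x1e08028961)) (.leaf (nat_lit 0x1e07028971)))) (.node 2 (.node 1 (.leaf (nat_lit 0x1e08028981)) (.leaf (nat_lit 0x20080291f1))) (.node 1 (.leaf (nat_lit 0x1e080289a1)) (.leaf (nat_lit 0x1e070289b1)))))) (.node 8 (.node 4 (.node 2 (.node 1 (.leaf (nat_lit 0x1e080289d1)) (.leaf (nat_lit 0x1e070289e1))) (.node 1 (.leaf (nat_lit 0x1e030289f1)) (.leaf (nat_lit 0x1e05028a01)))) (.node 2 (.node 1 (.leaf (nat_lit 0x20070398d1)) (.leaf (nat_lit 0x1e07028a01))) (.node 1 (.leaf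 (nat_lit 0x1e03028a11)) (.leaf (nat_lit 0x1e08028a11))))) (.node 4 (.node 2 (.node 1 (.leaf (nat_lit 0x22030398b1)) (.leaf (nat_lit 0x1e07028a21))) (.node 1 (.leaf (nat_lit 0x2004028a71)) (.leaf (nat_lit 0x1e03028a41)))) (.node 2 (.node 1 (.leaf (nat_lit 0x1e08028a41)) (.leaf (nat_lit 0x1e02028a51))) (.node 1 (.leaf (nat_lit 0x1e08028a51)) (.leaf (nat_lit 0x2008028a71))))))) (.node 16 (.node 8 (.node 4 (.node 2 (.node 1 (.leaf (nat_lit 0x1e04028a91)) (.leaf (nat_lit 0x20070399e1))) (.node 1 (.leaf (nat_lit 0x1e07028a91)) (.leaf (nat_lit 0x1e02029281)))) (.node 2 (.node 1 (.leaf (nat_lit 0x1e03028ab1)) (.leaf (nat_lit 0x1e08028ab1))) (.node 1 (.leaf (nat_lit 0x1e04028ac1)) (.leaf (nat_lit 0x1e08028ac1))))) (.node 4 (.node 2 (.node 1 (.leaf (nat_lit 0x22030399d1)) (.leaf (nat_lit 0x2204038ac1))) (.node 1 (.leaf (nat_lit 0x1e03028af1)) (.leaf (nat_lit 0x1e08028af1)))) (.node 2 (.node 1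 (.leaf (nat_lit 0x2007039a11)) (.leaf (nat_lit 0x2208028b01))) (.node 1 (.leaf (nat_lit 0x1e02028b11)) (.leaf (nat_lit 0x1e04028b11)))))) (.node 8 (.node 4 (.node 2 (.node 1 (.leaf (nat_lit 0x1e08028b11)) (.leaf (nat_lit 0x1e01028b31))) (.node 1 (.leaf (nat_lit 0x1e04028b31)) (.leaf (nat_lit 0x1e08028b31)))) (.node 2 (.node 1 (.leaf (nat_lit 0x1e08028b41)) (.leaf (nat_lit 0x1e07028b51))) (.node 1 (.leaf (nat_lit 0x2004028b61)) (.leaf (nat_lit 0x2008028b61))))) (.node 4 (.node 2 (.node 1 (.leaf (nat_lit 0x1e05028b81)) (.leaf (nat_lit 0x1e08028b81))) (.node 1 (.leaf (nat_lit 0x1e07028b91)) (.leaf (nat_lit 0x1e07028ba1)))) (.node 2 (.node 1 (.leaf (nat_lit 0x2204038bf1)) (.leaf (nat_lit 0x20070292c1))) (.node 1 (.leaf (nat_lit 0x2208028bd1)) (.leaf (nat_lit 0x1e02028be1))))))))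

noncomputable def oT98 : Tree :=
  .node 64 (.node 32 (.node 16 (.node 8 (.node 4 (.node 2 (.node 1 (.leaf (nat_lit 0x1e04028be1)) (.leaf (nat_lit 0x1e08028be1))) (.node 1 (.leaf (nat_lit 0x1e070292f1)) (.leaf (nat_lit 0x2008028c01)))) (.node 2 (.node 1 (.leaf (nat_lit 0x1e01028c21)) (.leaf (nat_lit 0x1e08028c21))) (.node 1 (.leaf (nat_lit 0x1e00028c41)) (.leaf (nat_lit 0x1e08028c41))))) (.node 4 (.node 2 (.node 1 (.leaf (nat_lit 0x2207039ce1)) (.leaf (nat_lit 0x1e07028c61))) (.node 1 (.leaf (nat_lit 0x2207039d11)) (.leaf (nat_lit 0x2002029351)))) (.node 2 (.node 1 (.leaf (nat_lit 0x1e03028c81)) (.leaf (nat_lit 0x1e08028c81))) (.node 1 (.leaf (nat_lit 0x2002039d71)) (.leaf (nat_lit 0x2008028c91)))))) (.node 8 (.node 4 (.node 2 (.node 1 (.leaf (nat_lit 0x1e02028ca1)) (.leaf (nat_lit 0x1e04028ca1))) (.node 1 (.leaf (nat_lit 0x1e08028ca1)) (.leaf (nat_lit 0x1e01028cc1)))) (.node 2 (.node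 1 (.leaf (nat_lit 0x1e04028cc1)) (.leaf (nat_lit 0x1e08028cc1))) (.node 1 (.leaf (nat_lit 0x1e05028cd1)) (.leaf (nat_lit 0x1e08028cd1))))) (.node 4 (.node 2 (.node 1 (.leaf (nat_lit 0x1e07028ce1)) (.leaf (nat_lit 0x2204038de1))) (.node 1 (.leaf (nat_lit 0x2203028d01)) (.leaf (nat_lit 0x2208028d01)))) (.node 2 (.node 1 (.leaf (nat_lit 0x1e02028d11)) (.leaf (nat_lit 0x1e04028d11))) (.node 1 (.leaf (nat_lit 0x1e08028d11)) (.leaf (nat_lit 0x2007039d71))))))) (.node 16 (.node 8 (.node 4 (.node 2 (.node 1 (.leaf (nat_lit 0x2003028de1)) (.leaf (nat_lit 0x2208028d31))) (.node 1 (.leaf (nat_lit 0x1e01028d51)) (.leaf (nat_lit 0x1e04028d51)))) (.node 2 (.node 1 (.leaf (nat_lit 0x1e08028d51)) (.leaf (nat_lit 0x1e05028d61))) (.node 1 (.leaf (nat_lit 0x1e08028d61)) (.leaf (nat_lit 0x1e07028d71))))) (.node 4 (.node 2 (.node 1 (.leaf (nat_lit 0x1e00028d81)) (.leaf (nat_lit 0x1e04028d81))) (.node 1 (.leaf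 (nat_lit 0x1e08028d81)) (.leaf (nat_lit 0x1e05028d91)))) (.node 2 (.node 1 (.leaf (nat_lit 0x1e08028d91)) (.leaf (nat_lit 0x1e07028da1))) (.node 1 (.leaf (nat_lit 0x1e06028db1)) (.leaf (nat_lit 0x1e08028db1)))))) (.node 8 (.node 4 (.node 2 (.node 1 (.leaf (nat_lit 0x1e07028dc1)) (.leaf (nat_lit 0x2004038f61))) (.node 1 (.leaf (nat_lit 0x2008028de1)) (.leaf (nat_lit 0x2007028df1)))) (.node 2 (.node 1 (.leaf (nat_lit 0x1e06028e01)) (.leaf (nat_lit 0x1e08028e01))) (.node 1 (.leaf (nat_lit 0x1e07028e11)) (.leaf (nat_lit 0x2000036c51))))) (.node 4 (.node 2 (.node 1 (.leaf (nat_lit 0x1e08028e31)) (.leaf (nat_lit 0x1e07028e41))) (.node 1 (.leaf (nat_lit 0x1e03028e51)) (.leaf (nat_lit 0x200302c081)))) (.node 2 (.node 1 (.leaf (nat_lit 0x1e07028e71)) (.leaf (nat_lit 0x2203028e91))) (.node 1 (.leaf (nat_lit 0x2208028e91)) (.leaf (nat_lit 0x2007029471)))))))) (.node 32 (.node 16 (.node 8 (.node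 4 (.node 2 (.node 1 (.leaf (nat_lit 0x2003039041)) (.leaf (nat_lit 0x220703a201))) (.node 1 (.leaf (nat_lit 0x1e01028ec1)) (.leaf (nat_lit 0x1e04028ec1)))) (.node 2 (.node 1 (.leaf (nat_lit 0x1e08028ec1)) (.leaf (nat_lit 0x1e08028ed1))) (.node 1 (.leaf (nat_lit 0x1e07028ee1)) (.leaf (nat_lit 0x20070294f1))))) (.node 4 (.node 2 (.node 1 (.leaf (nat_lit 0x2008028ef1)) (.leaf (nat_lit 0x2208029511))) (.node 1 (.leaf (nat_lit 0x1e00028f11)) (.leaf (nat_lit 0x1e08028f11)))) (.node 2 (.node 1 (.leaf (nat_lit 0x1e07028f21)) (.leaf (nat_lit 0x1e08028f41))) (.node 1 (.leaf (nat_lit 0x1e07028f51)) (.leaf (nat_lit 0x1e03028f61)))))) (.node 8 (.node 4 (.node 2 (.node 1 (.leaf (nat_lit 0x2003036dd1)) (.leaf (nat_lit 0x2003038871))) (.node 1 (.leaf (nat_lit 0x200703a341)) (.leaf (nat_lit 0x2003037681)))) (.node 2 (.node 1 (.leaf (nat_lit 0x1e0302ba91)) (.leaf (nat_lit 0x2008028f91))) (.node 1 (.leaf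 (nat_lit 0x2008028fa1)) (.leaf (nat_lit 0x20080295c1))))) (.node 4 (.node 2 (.node 1 (.leaf (nat_lit 0x1e00028fc1)) (.leaf (nat_lit 0x1e04028fc1))) (.node 1 (.leaf (nat_lit 0x1e08028fc1)) (.leaf (nat_lit 0x1e03028fd1)))) (.node 2 (.node 1 (.leaf (nat_lit 0x1e08028fd1)) (.leaf (nat_lit 0x1e07028fe1))) (.node 1 (.leaf (nat_lit 0x1e07028ff1)) (.leaf (nat_lit 0x2007029621))))))) (.node 16 (.node 8 (.node 4 (.node 2 (.node 1 (.leaf (nat_lit 0x2208029011)) (.leaf (nat_lit 0x2208029641))) (.node 1 (.leaf (nat_lit 0x1e08029041)) (.leaf (nat_lit 0x1e07029051)))) (.node 2 (.node 1 (.leaf (nat_lit 0x1e03029061)) (.leaf (nat_lit 0x1e07029071))) (.node 1 (.leaf (nat_lit 0x1e03029081)) (.leaf (nat_lit 0x1e04029091))))) (.node 4 (.node 2 (.node 1 (.leaf (nat_lit 0x220703a471)) (.leaf (nat_lit 0x1e070290c1))) (.node 1 (.leaf (nat_lit 0x2208029341)) (.leaf (nat_lit 0x220302b7a1)))) (.node 2 (.node 1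 (.leaf (nat_lit 0x1e080290e1)) (.leaf (nat_lit 0x2007029391))) (.node 1 (.leaf (nat_lit 0x1e0802c3f1)) (.leaf (nat_lit 0x1e0402bb61)))))) (.node 8 (.node 4 (.node 2 (.node 1 (.leaf (nat_lit 0x1e080291d1)) (.leaf (nat_lit 0x1e01029141))) (.node 1 (.leaf (nat_lit 0x1e04029141)) (.leaf (nat_lit 0x1e07029201)))) (.node 2 (.node 1 (.leaf (nat_lit 0x1e03029211)) (.leaf (nat_lit 0x200703a4c1))) (.node 1 (.leaf (nat_lit 0x1e07029251)) (.leaf (nat_lit 0x200703a3a1))))) (.node 4 (.node 2 (.node 1 (.leaf (nat_lit 0x1e0302c221)) (.leaf (nat_lit 0x1e08029271))) (.node 1 (.leaf (nat_lit 0x1e08029281)) (.leaf (nat_lit 0x200203a501)))) (.node 2 (.node 1 (.leaf (nat_lit 0x1e0302c701)) (.leaf (nat_lit 0x200203a521))) (.node 1 (.leaf (nat_lit 0x1e010292d1)) (.leaf (nat_lit 0x1e040292d1))))))))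

noncomputable def oT99 : Tree :=
  .node 64 (.node 32 (.node 16 (.node 8 (.node 4 (.node 2 (.node 1 (.leaf (nat_lit 0x1e00029301)) (.leaf (nat_lit 0x220703a561))) (.node 1 (.leaf (nat_lit 0x200303a571)) (.leaf (nat_lit 0x1e03029331)))) (.node 2 (.node 1 (.leaf (nat_lit 0x1e08029331)) (.leaf (nat_lit 0x200303a381))) (.node 1 (.leaf (nat_lit 0x1e0402c211)) (.leaf (nat_lit 0x2008029351))))) (.node 4 (.node 2 (.node 1 (.leaf (nat_lit 0x1e02029361)) (.leaf (nat_lit 0x1e04029361))) (.node 1 (.leaf (nat_lit 0x1e08029361)) (.leaf (nat_lit 0x1e0402d2e1)))) (.node 2 (.node 1 (.leaf (nat_lit 0x1e08029381)) (.leaf (nat_lit 0x1e010293a1))) (.node 1 (.leaf (nat_lit 0x1e080293a1)) (.leaf (nat_lit 0x1e000293c1)))))) (.node 8 (.node 4 (.node 2 (.node 1 (.leaf (nat_lit 0x1e080293c1)) (.leaf (nat_lit 0x1e040295d1))) (.node 1 (.leaf (nat_lit 0x1e0402c711)) (.leaf (nat_lit 0x1e01029401)))) (.node 2 (.node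 1 (.leaf (nat_lit 0x1e04029401)) (.leaf (nat_lit 0x1e0402d3a1))) (.node 1 (.leaf (nat_lit 0x1e00029431)) (.leaf (nat_lit 0x200303a681))))) (.node 4 (.node 2 (.node 1 (.leaf (nat_lit 0x220703a1a1)) (.leaf (nat_lit 0x200703a361))) (.node 1 (.leaf (nat_lit 0x200303a691)) (.leaf (nat_lit 0x200303a711)))) (.node 2 (.node 1 (.leaf (nat_lit 0x2008029471)) (.leaf (nat_lit 0x220703a311))) (.node 1 (.leaf (nat_lit 0x200302c4d1)) (.leaf (nat_lit 0x1e000294a1))))))) (.node 16 (.node 8 (.node 4 (.node 2 (.node 1 (.leaf (nat_lit 0x1e040294a1)) (.leaf (nat_lit 0x1e080294a1))) (.node 1 (.leaf (nat_lit 0x1e030294b1)) (.leaf (nat_lit 0x1e080294b1)))) (.node 2 (.node 1 (.leaf (nat_lit 0x1e070294c1)) (.leaf (nat_lit 0x1e070294d1))) (.node 1 (.leaf (nat_lit 0x1e0302d3b1)) (.leaf (nat_lit 0x20080294f1))))) (.node 4 (.node 2 (.node 1 (.leaf (nat_lit 0x2007029501)) (.leaf (nat_lit 0x1e08029521))) (.node 1 (.leaf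 (nat_lit 0x1e07029531)) (.leaf (nat_lit 0x1e03029541)))) (.node 2 (.node 1 (.leaf (nat_lit 0x1e07029551)) (.leaf (nat_lit 0x1e03029561))) (.node 1 (.leaf (nat_lit 0x1e04029571)) (.leaf (nat_lit 0x200203a701)))))) (.node 8 (.node 4 (.node 2 (.node 1 (.leaf (nat_lit 0x1e080295d1)) (.leaf (nat_lit 0x1e070295f1))) (.node 1 (.leaf (nat_lit 0x1e03029601)) (.leaf (nat_lit 0x1e03029611)))) (.node 2 (.node 1 (.leaf (nat_lit 0x2008029621)) (.leaf (nat_lit 0x220303a831))) (.node 1 (.leaf (nat_lit 0x2004038251)) (.leaf (nat_lit 0x1e07029651))))) (.node 4 (.node 2 (.node 1 (.leaf (nat_lit 0x1e03029661)) (.leaf (nat_lit 0x1e04029671))) (.node 1 (.leaf (nat_lit 0x1e070296f1)) (.leaf (nat_lit 0x1e05029701)))) (.node 2 (.node 1 (.leaf (nat_lit 0x1e03029711)) (.leaf (nat_lit 0x1e08029771))) (.node 1 (.leaf (nat_lit 0x1e05029781)) (.leaf (nat_lit 0x1e03029771)))))))) (.node 32 (.node 16 (.node 8 (.node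 4 (.node 2 (.node 1 (.leaf (nat_lit 0x1e03029781)) (.leaf (nat_lit 0x1e08029791))) (.node 1 (.leaf (nat_lit 0x1e070297b1)) (.leaf (nat_lit 0x1e01029801)))) (.node 2 (.node 1 (.leaf (nat_lit 0x1307029842)) (.leaf (nat_lit 0x1303029862))) (.node 1 (.leaf (nat_lit 0x1308029862)) (.leaf (nat_lit 0x1308029872))))) (.node 4 (.node 2 (.node 1 (.leaf (nat_lit 0x13070298b2)) (.leaf (nat_lit 0x13080298c2))) (.node 1 (.leaf (nat_lit 0x13030298e2)) (.leaf (nat_lit 0x13080298e2)))) (.node 2 (.node 1 (.leaf (nat_lit 0x13080298f2)) (.leaf (nat_lit 0x1304029902))) (.node 1 (.leaf (nat_lit 0x1308029902)) (.leaf (nat_lit 0x1307029932)))))) (.node 8 (.node 4 (.node 2 (.node 1 (.leaf (nat_lit 0x1303029942)) (.leaf (nat_lit 0x1308029942))) (.node 1 (.leaf (nat_lit 0x1308029952)) (.leaf (nat_lit 0x1e08029971)))) (.node 2 (.node 1 (.leaf (nat_lit 0x1303029992)) (.leaf (nat_lit 0x1308029992))) (.node 1 (.leaf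 (nat_lit 0x13070299a2)) (.leaf (nat_lit 0x13030299b2))))) (.node 4 (.node 2 (.node 1 (.leaf (nat_lit 0x13080299b2)) (.leaf (nat_lit 0x13020299c2))) (.node 1 (.leaf (nat_lit 0x13040299c2)) (.leaf (nat_lit 0x13080299c2)))) (.node 2 (.node 1 (.leaf (nat_lit 0x13050299f2)) (.leaf (nat_lit 0x13080299f2))) (.node 1 (.leaf (nat_lit 0x1306029a12)) (.leaf (nat_lit 0x1308029a12))))))) (.node 16 (.node 8 (.node 4 (.node 2 (.node 1 (.leaf (nat_lit 0x1308029a32)) (.leaf (nat_lit 0x1e03029a41))) (.node 1 (.leaf (nat_lit 0x1302029a52)) (.leaf (nat_lit 0x1308029a52)))) (.node 2 (.node 1 (.leaf (nat_lit 0x1301029a72)) (.leaf (nat_lit 0x1308029a72))) (.node 1 (.leaf (nat_lit 0x1300029ad2)) (.leaf (nat_lit 0x1308029ad2))))) (.node 4 (.node 2 (.node 1 (.leaf (nat_lit 0x1e05029af1)) (.leaf (nat_lit 0x1e07029af1))) (.node 1 (.leaf (nat_lit 0x1e03029b01)) (.leaf (nat_lit 0x1e08029b01)))) (.node 2 (.node 1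 (.leaf (nat_lit 0x1e05029b21)) (.leaf (nat_lit 0x1e07029b11))) (.node 1 (.leaf (nat_lit 0x1e03029b31)) (.leaf (nat_lit 0x1e08029b31)))))) (.node 8 (.node 4 (.node 2 (.node 1 (.leaf (nat_lit 0x1e02029b41)) (.leaf (nat_lit 0x1e08029b41))) (.node 1 (.leaf (nat_lit 0x1e08029b61)) (.leaf (nat_lit 0x1e08029b91)))) (.node 2 (.node 1 (.leaf (nat_lit 0x1e08029bb1)) (.leaf (nat_lit 0x1e07029bc1))) (.node 1 (.leaf (nat_lit 0x1e05029c11)) (.leaf (nat_lit 0x1e07029c11))))) (.node 4 (.node 2 (.node 1 (.leaf (nat_lit 0x1e03029c21)) (.leaf (nat_lit 0x1e08029c21))) (.node 1 (.leaf (nat_lit 0x1e08029c31)) (.leaf (nat_lit 0x1e07029c51)))) (.node 2 (.node 1 (.leaf (nat_lit 0x1e03029c61)) (.leaf (nat_lit 0x1e08029c61))) (.node 1 (.leaf (nat_lit 0x1e04029c71)) (.leaf (nat_lit 0x1e08029c71))))))))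

noncomputable def oT100 : Tree :=
  .node 64 (.node 32 (.node 16 (.node 8 (.node 4 (.node 2 (.node 1 (.leaf (nat_lit 0x1e08029c91)) (.leaf (nat_lit 0x1e04029ca1))) (.node 1 (.leaf (nat_lit 0x1e08029ca1)) (.leaf (nat_lit 0x1e08029cc1)))) (.node 2 (.node 1 (.leaf (nat_lit 0x2005036151)) (.leaf (nat_lit 0x2007029ce1))) (.node 1 (.leaf (nat_lit 0x1e03029cf1)) (.leaf (nat_lit 0x1e08029cf1))))) (.node 4 (.node 2 (.node 1 (.leaf (nat_lit 0x2003029d01)) (.leaf (nat_lit 0x200702cc51))) (.node 1 (.leaf (nat_lit 0x1e08029d11)) (.leaf (nat_lit 0x1e07029d31)))) (.node 2 (.node 1 (.leaf (nat_lit 0x1e07029d51)) (.leaf (nat_lit 0x1e03029d61))) (.node 1 (.leaf (nat_lit 0x1e08029d61)) (.leaf (nat_lit 0x1e04029d71)))))) (.node 8 (.node 4 (.node 2 (.node 1 (.leaf (nat_lit 0x1e08029d71)) (.leaf (nat_lit 0x1e06029d91))) (.node 1 (.leaf (nat_lit 0x1e05029db1)) (.leaf (nat_lit 0x1e03029da1)))) (.node 2 (.node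 1 (.leaf (nat_lit 0x1e08029da1)) (.leaf (nat_lit 0x1e0402b341))) (.node 1 (.leaf (nat_lit 0x1e08029db1)) (.leaf (nat_lit 0x1e02029dc1))))) (.node 4 (.node 2 (.node 1 (.leaf (nat_lit 0x1e04029dc1)) (.leaf (nat_lit 0x1e08029dc1))) (.node 1 (.leaf (nat_lit 0x1e01029de1)) (.leaf (nat_lit 0x1e04029de1)))) (.node 2 (.node 1 (.leaf (nat_lit 0x1e08029de1)) (.leaf (nat_lit 0x1e05029df1))) (.node 1 (.leaf (nat_lit 0x1e08029df1)) (.leaf (nat_lit 0x1e07029e01))))))) (.node 16 (.node 8 (.node 4 (.node 2 (.node 1 (.leaf (nat_lit 0x1e05029e21)) (.leaf (nat_lit 0x1e08029e21))) (.node 1 (.leaf (nat_lit 0x1e06029e41)) (.leaf (nat_lit 0x1e08029e41)))) (.node 2 (.node 1 (.leaf (nat_lit 0x200702d4a1)) (.leaf (nat_lit 0x1e08029e61))) (.node 1 (.leaf (nat_lit 0x2007029e81)) (.leaf (nat_lit 0x2005029ec1))))) (.node 4 (.node 2 (.node 1 (.leaf (nat_lit 0x2007036aa1)) (.leaf (nat_lit 0x1e02029ea1))) (.node 1 (.leaf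 (nat_lit 0x1e04029ea1)) (.leaf (nat_lit 0x1e08029ea1)))) (.node 2 (.node 1 (.leaf (nat_lit 0x200303aca1)) (.leaf (nat_lit 0x2007036621))) (.node 1 (.leaf (nat_lit 0x1e01029ee1)) (.leaf (nat_lit 0x1e08029ee1)))))) (.node 8 (.node 4 (.node 2 (.node 1 (.leaf (nat_lit 0x1e07029ef1)) (.leaf (nat_lit 0x1e08029f01))) (.node 1 (.leaf (nat_lit 0x1e07029f11)) (.leaf (nat_lit 0x1e07029f81)))) (.node 2 (.node 1 (.leaf (nat_lit 0x2007036671)) (.leaf (nat_lit 0x1e01029f61))) (.node 1 (.leaf (nat_lit 0x1e08029f61)) (.leaf (nat_lit 0x1e08029f71))))) (.node 4 (.node 2 (.node 1 (.leaf (nat_lit 0x2207037ba1)) (.leaf (nat_lit 0x2007036691))) (.node 1 (.leaf (nat_lit 0x1e00029fb1)) (.leaf (nat_lit 0x1e08029fb1)))) (.node 2 (.node 1 (.leaf (nat_lit 0x1e07029fc1)) (.leaf (nat_lit 0x1e08029fe1))) (.node 1 (.leaf (nat_lit 0x1e07029ff1)) (.leaf (nat_lit 0x1e0302a001)))))))) (.node 32 (.node 16 (.node 8 (.node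 4 (.node 2 (.node 1 (.leaf (nat_lit 0x1e0102a011)) (.leaf (nat_lit 0x1e0802a011))) (.node 1 (.leaf (nat_lit 0x1e0702a021)) (.leaf (nat_lit 0x1e0002a031)))) (.node 2 (.node 1 (.leaf (nat_lit 0x1e0802a031)) (.leaf (nat_lit 0x1e0702a041))) (.node 1 (.leaf (nat_lit 0x1e0402a061)) (.leaf (nat_lit 0x1e0402a321))))) (.node 4 (.node 2 (.node 1 (.leaf (nat_lit 0x1e0702a061)) (.leaf (nat_lit 0x1e0702a071))) (.node 1 (.leaf (nat_lit 0x1e0302a081)) (.leaf (nat_lit 0x1e0802a081)))) (.node 2 (.node 1 (.leaf (nat_lit 0x1e0802a091)) (.leaf (nat_lit 0x2004036781))) (.node 1 (.leaf (nat_lit 0x2004036a91)) (.leaf (nat_lit 0x1e0302a0c1)))))) (.node 8 (.node 4 (.node 2 (.node 1 (.leaf (nat_lit 0x1e0802a0c1)) (.leaf (nat_lit 0x200302a0d1))) (.node 1 (.leaf (nat_lit 0x200802a0d1)) (.leaf (nat_lit 0x1e0202a0e1)))) (.node 2 (.node 1 (.leaf (nat_lit 0x1e0802a0e1)) (.leaf (nat_lit 0x1e0102a101))) (.node 1 (.leaf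 (nat_lit 0x1e0802a101)) (.leaf (nat_lit 0x1e0702a111))))) (.node 4 (.node 2 (.node 1 (.leaf (nat_lit 0x200802a141)) (.leaf (nat_lit 0x1e0202a151))) (.node 1 (.leaf (nat_lit 0x1e0802a151)) (.leaf (nat_lit 0x200402ced1)))) (.node 2 (.node 1 (.leaf (nat_lit 0x200802a171)) (.leaf (nat_lit 0x1e0102a191))) (.node 1 (.leaf (nat_lit 0x1e0802a191)) (.leaf (nat_lit 0x1e0702a1a1))))))) (.node 16 (.node 8 (.node 4 (.node 2 (.node 1 (.leaf (nat_lit 0x1e0002a1b1)) (.leaf (nat_lit 0x1e0802a1b1))) (.node 1 (.leaf (nat_lit 0x1e0702a1c1)) (.leaf (nat_lit 0x1e0102a1f1)))) (.node 2 (.node 1 (.leaf (nat_lit 0x1e0802a1f1)) (.leaf (nat_lit 0x1e0702a201))) (.node 1 (.leaf (nat_lit 0x2004036091)) (.leaf (nat_lit 0x200802a211))))) (.node 4 (.node 2 (.node 1 (.leaf (nat_lit 0x200702a221)) (.leaf (nat_lit 0x1e0002a231))) (.node 1 (.leaf (nat_lit 0x1e0802a231)) (.leaf (nat_lit 0x1e0702a241)))) (.node 2 (.node 1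 (.leaf (nat_lit 0x1e0802a261)) (.leaf (nat_lit 0x1e0702a271))) (.node 1 (.leaf (nat_lit 0x1e0302a281)) (.leaf (nat_lit 0x1e0502a291)))))) (.node 8 (.node 4 (.node 2 (.node 1 (.leaf (nat_lit 0x1e0702a291)) (.leaf (nat_lit 0x1e0802a2a1))) (.node 1 (.leaf (nat_lit 0x1e0402af61)) (.leaf (nat_lit 0x1e0702a2b1)))) (.node 2 (.node 1 (.leaf (nat_lit 0x1e0702a2c1)) (.leaf (nat_lit 0x1e0302a2d1))) (.node 1 (.leaf (nat_lit 0x1e0802a2d1)) (.leaf (nat_lit 0x1e0802a2e1))))) (.node 4 (.node 2 (.node 1 (.leaf (nat_lit 0x1e0802a301)) (.leaf (nat_lit 0x1e0702a321))) (.node 1 (.leaf (nat_lit 0x1e0702a331)) (.leaf (nat_lit 0x1e0302a341)))) (.node 2 (.node 1 (.leaf (nat_lit 0x1e0802a341)) (.leaf (nat_lit 0x1e0202a351))) (.node 1 (.leaf (nat_lit 0x1e0802a351)) (.leaf (nat_lit 0x2004036481))))))))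

noncomputable def oT101 : Tree :=
  .node 64 (.node 32 (.node 16 (.node 8 (.node 4 (.node 2 (.node 1 (.leaf (nat_lit 0x200702a371)) (.leaf (nat_lit 0x1e0302a381))) (.node 1 (.leaf (nat_lit 0x1e0802a381)) (.leaf (nat_lit 0x200302a391)))) (.node 2 (.node 1 (.leaf (nat_lit 0x200802a391)) (.leaf (nat_lit 0x1e0202a3a1))) (.node 1 (.leaf (nat_lit 0x1e0402a3a1)) (.leaf (nat_lit 0x1e0802a3a1))))) (.node 4 (.node 2 (.node 1 (.leaf (nat_lit 0x1e0102a3c1)) (.leaf (nat_lit 0x1e0402a3c1))) (.node 1 (.leaf (nat_lit 0x1e0802a3c1)) (.leaf (nat_lit 0x1e0802a3d1)))) (.node 2 (.node 1 (.leaf (nat_lit 0x1e0702a3e1)) (.leaf (nat_lit 0x1e0702b711))) (.node 1 (.leaf (nat_lit 0x1e0802a3f1)) (.leaf (nat_lit 0x1e0502a411)))))) (.node 8 (.node 4 (.node 2 (.node 1 (.leaf (nat_lit 0x1e0802a411)) (.leaf (nat_lit 0x220702a441))) (.node 1 (.leaf (nat_lit 0x200002a701)) (.leaf (nat_lit 0x220702d291)))) (.node 2 (.node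 1 (.leaf (nat_lit 0x1e0202a461)) (.leaf (nat_lit 0x1e0402a461))) (.node 1 (.leaf (nat_lit 0x1e0802a461)) (.leaf (nat_lit 0x200002a751))))) (.node 4 (.node 2 (.node 1 (.leaf (nat_lit 0x200002a761)) (.leaf (nat_lit 0x1e0102a4a1))) (.node 1 (.leaf (nat_lit 0x1e0802a4a1)) (.leaf (nat_lit 0x1e0702a4b1)))) (.node 2 (.node 1 (.leaf (nat_lit 0x1e0002a4c1)) (.leaf (nat_lit 0x1e0802a4c1))) (.node 1 (.leaf (nat_lit 0x1e0702a4d1)) (.leaf (nat_lit 0x1e0702a4f1))))))) (.node 16 (.node 8 (.node 4 (.node 2 (.node 1 (.leaf (nat_lit 0x1e0602a501)) (.leaf (nat_lit 0x1e0502a521))) (.node 1 (.leaf (nat_lit 0x1e0302a511)) (.leaf (nat_lit 0x1e0802a511)))) (.node 2 (.node 1 (.leaf (nat_lit 0x1e0402d741)) (.leaf (nat_lit 0x1e0802a521))) (.node 1 (.leaf (nat_lit 0x1e0202a531)) (.leaf (nat_lit 0x1e0402a531))))) (.node 4 (.node 2 (.node 1 (.leaf (nat_lit 0x1e0802a531)) (.leaf (nat_lit 0x1e0102a551))) (.node 1 (.leaf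 (nat_lit 0x1e0402a551)) (.leaf (nat_lit 0x1e0802a551)))) (.node 2 (.node 1 (.leaf (nat_lit 0x1e0502a561)) (.leaf (nat_lit 0x1e0802a561))) (.node 1 (.leaf (nat_lit 0x1e0702a571)) (.leaf (nat_lit 0x200602a591)))))) (.node 8 (.node 4 (.node 2 (.node 1 (.leaf (nat_lit 0x200502a5c1)) (.leaf (nat_lit 0x200802a591))) (.node 1 (.leaf (nat_lit 0x1e0202a5a1)) (.leaf (nat_lit 0x1e0402a5a1)))) (.node 2 (.node 1 (.leaf (nat_lit 0x1e0802a5a1)) (.leaf (nat_lit 0x200103b841))) (.node 1 (.leaf (nat_lit 0x1e0302a671)) (.leaf (nat_lit 0x200802a5c1))))) (.node 4 (.node 2 (.node 1 (.leaf (nat_lit 0x1e0102a5e1)) (.leaf (nat_lit 0x1e0402a5e1))) (.node 1 (.leaf (nat_lit 0x1e0802a5e1)) (.leaf (nat_lit 0x1e0502a5f1)))) (.node 2 (.node 1 (.leaf (nat_lit 0x1e0802a5f1)) (.leaf (nat_lit 0x1e0702a601))) (.node 1 (.leaf (nat_lit 0x1e0002a611)) (.leaf (nat_lit 0x1e0402a611)))))))) (.node 32 (.node 16 (.node 8 (.node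 4 (.node 2 (.node 1 (.leaf (nat_lit 0x1e0802a611)) (.leaf (nat_lit 0x1e0502a621))) (.node 1 (.leaf (nat_lit 0x1e0802a621)) (.leaf (nat_lit 0x1e0702a631)))) (.node 2 (.node 1 (.leaf (nat_lit 0x1e0602a641)) (.leaf (nat_lit 0x1e0802a641))) (.node 1 (.leaf (nat_lit 0x1e0702a651)) (.leaf (nat_lit 0x1e0702b311))))) (.node 4 (.node 2 (.node 1 (.leaf (nat_lit 0x1e0802a671)) (.leaf (nat_lit 0x1e0602a691))) (.node 1 (.leaf (nat_lit 0x1e0802a691)) (.leaf (nat_lit 0x220702d5b1)))) (.node 2 (.node 1 (.leaf (nat_lit 0x1e0802a6b1)) (.leaf (nat_lit 0x2007036f51))) (.node 1 (.leaf (nat_lit 0x200102a7d1)) (.leaf (nat_lit 0x200703ae51)))))) (.node 8 (.node 4 (.node 2 (.node 1 (.leaf (nat_lit 0x200103ba51)) (.leaf (nat_lit 0x200102a801))) (.node 1 (.leaf (nat_lit 0x200102a811)) (.leaf (nat_lit 0x1e0102a721)))) (.node 2 (.node 1 (.leaf (nat_lit 0x1e0402a721)) (.leaf (nat_lit 0x1e0802a721))) (.node 1 (.leaf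 (nat_lit 0x1e0802a731)) (.leaf (nat_lit 0x1e0702a741))))) (.node 4 (.node 2 (.node 1 (.leaf (nat_lit 0x1e0202a871)) (.leaf (nat_lit 0x200103bb21))) (.node 1 (.leaf (nat_lit 0x200102a891)) (.leaf (nat_lit 0x1e0002a771)))) (.node 2 (.node 1 (.leaf (nat_lit 0x1e0802a771)) (.leaf (nat_lit 0x1e0702a781))) (.node 1 (.leaf (nat_lit 0x1e0802a7a1)) (.leaf (nat_lit 0x1e0702a7b1))))))) (.node 16 (.node 8 (.node 4 (.node 2 (.node 1 (.leaf (nat_lit 0x1e0302a7c1)) (.leaf (nat_lit 0x200203a3f1))) (.node 1 (.leaf (nat_lit 0x1e0302c1d1)) (.leaf (nat_lit 0x1e0302c421)))) (.node 2 (.node 1 (.leaf (nat_lit 0x1e0302c1e1)) (.leaf (nat_lit 0x200203bbc1))) (.node 1 (.leaf (nat_lit 0x2003037701)) (.leaf (nat_lit 0x1e0002a821))))) (.node 4 (.node 2 (.node 1 (.leaf (nat_lit 0x1e0402a821)) (.leaf (nat_lit 0x1e0802a821))) (.node 1 (.leaf (nat_lit 0x1e0302a831)) (.leaf (nat_lit 0x1e0802a831)))) (.node 2 (.node 1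 (.leaf (nat_lit 0x1e0702a841)) (.leaf (nat_lit 0x1e0702a851))) (.node 1 (.leaf (nat_lit 0x1e0302c251)) (.leaf (nat_lit 0x1e0302c261)))))) (.node 8 (.node 4 (.node 2 (.node 1 (.leaf (nat_lit 0x1e0302ce11)) (.leaf (nat_lit 0x1e0802a8a1))) (.node 1 (.leaf (nat_lit 0x1e0702a8b1)) (.leaf (nat_lit 0x1e0302a8c1)))) (.node 2 (.node 1 (.leaf (nat_lit 0x1e0702a8d1)) (.leaf (nat_lit 0x1e0302a8e1))) (.node 1 (.leaf (nat_lit 0x1e0402a8f1)) (.leaf (nat_lit 0x130702a912))))) (.node 4 (.node 2 (.node 1 (.leaf (nat_lit 0x130702a922)) (.leaf (nat_lit 0x130302a932))) (.node 1 (.leaf (nat_lit 0x130802a932)) (.leaf (nat_lit 0x130802a942)))) (.node 2 (.node 1 (.leaf (nat_lit 0x130802a982)) (.leaf (nat_lit 0x130202a992))) (.node 1 (.leaf (nat_lit 0x130802a992)) (.leaf (nat_lit 0x1e0802a9b1))))))))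

noncomputable def oT102 : Tree :=
  .node 64 (.node 32 (.node 16 (.node 8 (.node 4 (.node 2 (.node 1 (.leaf (nat_lit 0x130302a9d2)) (.leaf (nat_lit 0x130802a9d2))) (.node 1 (.leaf (nat_lit 0x130302a9f2)) (.leaf (nat_lit 0x130802a9f2)))) (.node 2 (.node 1 (.leaf (nat_lit 0x130202aa02)) (.leaf (nat_lit 0x130402aa02))) (.node 1 (.leaf (nat_lit 0x130802aa02)) (.leaf (nat_lit 0x1e0802aa21))))) (.node 4 (.node 2 (.node 1 (.leaf (nat_lit 0x130802aa32)) (.leaf (nat_lit 0x130802aa52))) (.node 1 (.leaf (nat_lit 0x130802aa82)) (.leaf (nat_lit 0x130702aa92)))) (.node 2 (.node 1 (.leaf (nat_lit 0x130302aac2)) (.leaf (nat_lit 0x130802aac2))) (.node 1 (.leaf (nat_lit 0x130702aad2)) (.leaf (nat_lit 0x1e0702aae1)))))) (.node 8 (.node 4 (.node 2 (.node 1 (.leaf (nat_lit 0x130302aaf2)) (.leaf (nat_lit 0x130802aaf2))) (.node 1 (.leaf (nat_lit 0x130202ab02)) (.leaf (nat_lit 0x130802ab02)))) (.node 2 (.node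 1 (.leaf (nat_lit 0x1e0802ab21)) (.leaf (nat_lit 0x200602ab41))) (.node 1 (.leaf (nat_lit 0x200502ab61)) (.leaf (nat_lit 0x130302ab52))))) (.node 4 (.node 2 (.node 1 (.leaf (nat_lit 0x130802ab52)) (.leaf (nat_lit 0x200802ab61))) (.node 1 (.leaf (nat_lit 0x130802ab72)) (.leaf (nat_lit 0x130802ab92)))) (.node 2 (.node 1 (.leaf (nat_lit 0x130702aba2)) (.leaf (nat_lit 0x130202abd2))) (.node 1 (.leaf (nat_lit 0x130802abd2)) (.leaf (nat_lit 0x1e0602abf1))))))) (.node 16 (.node 8 (.node 4 (.node 2 (.node 1 (.leaf (nat_lit 0x1e0502ac11)) (.leaf (nat_lit 0x130302ac02))) (.node 1 (.leaf (nat_lit 0x130802ac02)) (.leaf (nat_lit 0x1e0802ac11)))) (.node 2 (.node 1 (.leaf (nat_lit 0x130202ac22)) (.leaf (nat_lit 0x130802ac22))) (.node 1 (.leaf (nat_lit 0x130102ac42)) (.leaf (nat_lit 0x130402ac42))))) (.node 4 (.node 2 (.node 1 (.leaf (nat_lit 0x130802ac42)) (.leaf (nat_lit 0x130502ac52))) (.node 1 (.leaf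 (nat_lit 0x130802ac52)) (.leaf (nat_lit 0x130702ac62)))) (.node 2 (.node 1 (.leaf (nat_lit 0x130602ac92)) (.leaf (nat_lit 0x130802ac92))) (.node 1 (.leaf (nat_lit 0x1e0702cb21)) (.leaf (nat_lit 0x130802acb2)))))) (.node 8 (.node 4 (.node 2 (.node 1 (.leaf (nat_lit 0x200702acd1)) (.leaf (nat_lit 0x200502ad11))) (.node 1 (.leaf (nat_lit 0x130202acf2)) (.leaf (nat_lit 0x130402acf2)))) (.node 2 (.node 1 (.leaf (nat_lit 0x130802acf2)) (.leaf (nat_lit 0x200802ad11))) (.node 1 (.leaf (nat_lit 0x130102ad32)) (.leaf (nat_lit 0x130802ad32))))) (.node 4 (.node 2 (.node 1 (.leaf (nat_lit 0x130702ad42)) (.leaf (nat_lit 0x130002ad52))) (.node 1 (.leaf (nat_lit 0x130802ad52)) (.leaf (nat_lit 0x130702ad62)))) (.node 2 (.node 1 (.leaf (nat_lit 0x200502c961)) (.leaf (nat_lit 0x130802ada2))) (.node 1 (.leaf (nat_lit 0x130702adb2)) (.leaf (nat_lit 0x200402c9d1)))))))) (.node 32 (.node 16 (.node 8 (.node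 4 (.node 2 (.node 1 (.leaf (nat_lit 0x20030366c1)) (.leaf (nat_lit 0x130002ade2))) (.node 1 (.leaf (nat_lit 0x130802ade2)) (.leaf (nat_lit 0x130702adf2)))) (.node 2 (.node 1 (.leaf (nat_lit 0x130802ae12)) (.leaf (nat_lit 0x130702ae22))) (.node 1 (.leaf (nat_lit 0x1e0502ae41)) (.leaf (nat_lit 0x1e0502ae51))))) (.node 4 (.node 2 (.node 1 (.leaf (nat_lit 0x1e0702ae51)) (.leaf (nat_lit 0x1e0302ae61))) (.node 1 (.leaf (nat_lit 0x1e0802ae61)) (.leaf (nat_lit 0x1e0502ae81)))) (.node 2 (.node 1 (.leaf (nat_lit 0x1e0702ae71)) (.leaf (nat_lit 0x1e0702ae81))) (.node 1 (.leaf (nat_lit 0x1e0302ae91)) (.leaf (nat_lit 0x1e0802ae91)))))) (.node 8 (.node 4 (.node 2 (.node 1 (.leaf (nat_lit 0x1e0202aea1)) (.leaf (nat_lit 0x1e0802aea1))) (.node 1 (.leaf (nat_lit 0x1e0802aec1)) (.leaf (nat_lit 0x2005038941)))) (.node 2 (.node 1 (.leaf (nat_lit 0x200002b081)) (.leaf (nat_lit 0x1e0302aef1))) (.node 1 (.leaf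 (nat_lit 0x1e0802aef1)) (.leaf (nat_lit 0x200802af01))))) (.node 4 (.node 2 (.node 1 (.leaf (nat_lit 0x1e0202af11)) (.leaf (nat_lit 0x1e0802af11))) (.node 1 (.leaf (nat_lit 0x1e0102af31)) (.leaf (nat_lit 0x1e0802af31)))) (.node 2 (.node 1 (.leaf (nat_lit 0x1e0702af41)) (.leaf (nat_lit 0x1e0702af61))) (.node 1 (.leaf (nat_lit 0x1e0302af71)) (.leaf (nat_lit 0x1e0802af71))))))) (.node 16 (.node 8 (.node 4 (.node 2 (.node 1 (.leaf (nat_lit 0x1e0202af81)) (.leaf (nat_lit 0x1e0402af81))) (.node 1 (.leaf (nat_lit 0x1e0802af81)) (.leaf (nat_lit 0x20050366d1)))) (.node 2 (.node 1 (.leaf (nat_lit 0x2001036a91)) (.leaf (nat_lit 0x1e0302afb1))) (.node 1 (.leaf (nat_lit 0x1e0802afb1)) (.leaf (nat_lit 0x2001036961))))) (.node 4 (.node 2 (.node 1 (.leaf (nat_lit 0x200802afc1)) (.leaf (nat_lit 0x1e0202afd1))) (.node 1 (.leaf (nat_lit 0x1e0402afd1)) (.leaf (nat_lit 0x1e0802afd1)))) (.node 2 (.node 1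 (.leaf (nat_lit 0x1e0102aff1)) (.leaf (nat_lit 0x1e0402aff1))) (.node 1 (.leaf (nat_lit 0x1e0802aff1)) (.leaf (nat_lit 0x1e0802b001)))))) (.node 8 (.node 4 (.node 2 (.node 1 (.leaf (nat_lit 0x1e0702b011)) (.leaf (nat_lit 0x1e0802b021))) (.node 1 (.leaf (nat_lit 0x1e0502b041)) (.leaf (nat_lit 0x1e0802b041)))) (.node 2 (.node 1 (.leaf (nat_lit 0x200802b081)) (.leaf (nat_lit 0x1e0202b091))) (.node 1 (.leaf (nat_lit 0x1e0402b091)) (.leaf (nat_lit 0x1e0802b091))))) (.node 4 (.node 2 (.node 1 (.leaf (nat_lit 0x1e0802b0c1)) (.leaf (nat_lit 0x1e0702b0d1))) (.node 1 (.leaf (nat_lit 0x1e0002b0e1)) (.leaf (nat_lit 0x1e0802b0e1)))) (.node 2 (.node 1 (.leaf (nat_lit 0x1e0702b0f1)) (.leaf (nat_lit 0x1e0802b121))) (.node 1 (.leaf (nat_lit 0x1e0702b131)) (.leaf (nat_lit 0x1e0802b151))))))))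

noncomputable def oT103 : Tree :=
  .node 64 (.node 32 (.node 16 (.node 8 (.node 4 (.node 2 (.node 1 (.leaf (nat_lit 0x1e0702b161)) (.leaf (nat_lit 0x1e0302b171))) (.node 1 (.leaf (nat_lit 0x1e0802b181)) (.leaf (nat_lit 0x1e0402b1a1)))) (.node 2 (.node 1 (.leaf (nat_lit 0x1e0702b1a1)) (.leaf (nat_lit 0x1e0302b1b1))) (.node 1 (.leaf (nat_lit 0x1e0802b1b1)) (.leaf (nat_lit 0x1e0202b1c1))))) (.node 4 (.node 2 (.node 1 (.leaf (nat_lit 0x1e0802b1c1)) (.leaf (nat_lit 0x2005038301))) (.node 1 (.leaf (nat_lit 0x200702b1e1)) (.leaf (nat_lit 0x1e0302b1f1)))) (.node 2 (.node 1 (.leaf (nat_lit 0x1e0802b1f1)) (.leaf (nat_lit 0x2004036961))) (.node 1 (.leaf (nat_lit 0x200802b201)) (.leaf (nat_lit 0x1e0202b211)))))) (.node 8 (.node 4 (.node 2 (.node 1 (.leaf (nat_lit 0x1e0802b211)) (.leaf (nat_lit 0x1e0102b231))) (.node 1 (.leaf (nat_lit 0x1e0802b231)) (.leaf (nat_lit 0x1e0702b241)))) (.node 2 (.node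 1 (.leaf (nat_lit 0x220602b271)) (.leaf (nat_lit 0x200502b2a1))) (.node 1 (.leaf (nat_lit 0x220802b271)) (.leaf (nat_lit 0x1e0202b281))))) (.node 4 (.node 2 (.node 1 (.leaf (nat_lit 0x1e0402b281)) (.leaf (nat_lit 0x1e0802b281))) (.node 1 (.leaf (nat_lit 0x200802b2a1)) (.leaf (nat_lit 0x1e0802b2c1)))) (.node 2 (.node 1 (.leaf (nat_lit 0x1e0702b2d1)) (.leaf (nat_lit 0x1e0002b2e1))) (.node 1 (.leaf (nat_lit 0x1e0802b2e1)) (.leaf (nat_lit 0x1e0702b2f1))))))) (.node 16 (.node 8 (.node 4 (.node 2 (.node 1 (.leaf (nat_lit 0x1e0602b321)) (.leaf (nat_lit 0x1e0302b331))) (.node 1 (.leaf (nat_lit 0x1e0802b331)) (.leaf (nat_lit 0x1e0202b341)))) (.node 2 (.node 1 (.leaf (nat_lit 0x1e0802b341)) (.leaf (nat_lit 0x1e0102b361))) (.node 1 (.leaf (nat_lit 0x1e0402b361)) (.leaf (nat_lit 0x1e0802b361))))) (.node 4 (.node 2 (.node 1 (.leaf (nat_lit 0x1e0502b371)) (.leaf (nat_lit 0x1e0802b371))) (.node 1 (.leaf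 (nat_lit 0x1e0702b381)) (.leaf (nat_lit 0x200602b3a1)))) (.node 2 (.node 1 (.leaf (nat_lit 0x200502b3d1)) (.leaf (nat_lit 0x200802b3a1))) (.node 1 (.leaf (nat_lit 0x1e0202b3b1)) (.leaf (nat_lit 0x1e0402b3b1)))))) (.node 8 (.node 4 (.node 2 (.node 1 (.leaf (nat_lit 0x1e0802b3b1)) (.leaf (nat_lit 0x20040367c1))) (.node 1 (.leaf (nat_lit 0x200802b3d1)) (.leaf (nat_lit 0x1e0102b3f1)))) (.node 2 (.node 1 (.leaf (nat_lit 0x1e0402b3f1)) (.leaf (nat_lit 0x1e0802b3f1))) (.node 1 (.leaf (nat_lit 0x1e0502b401)) (.leaf (nat_lit 0x1e0802b401))))) (.node 4 (.node 2 (.node 1 (.leaf (nat_lit 0x1e0702b411)) (.leaf (nat_lit 0x1e0002b421))) (.node 1 (.leaf (nat_lit 0x1e0402b421)) (.leaf (nat_lit 0x1e0802b421)))) (.node 2 (.node 1 (.leaf (nat_lit 0x1e0502b431)) (.leaf (nat_lit 0x1e0802b431))) (.node 1 (.leaf (nat_lit 0x1e0702b441)) (.leaf (nat_lit 0x1e0602b451)))))))) (.node 32 (.node 16 (.node 8 (.node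 4 (.node 2 (.node 1 (.leaf (nat_lit 0x1e0802b451)) (.leaf (nat_lit 0x1e0702b461))) (.node 1 (.leaf (nat_lit 0x1e0602b491)) (.leaf (nat_lit 0x1e0802b491)))) (.node 2 (.node 1 (.leaf (nat_lit 0x200702d671)) (.leaf (nat_lit 0x1e0802b4b1))) (.node 1 (.leaf (nat_lit 0x1e0702cb71)) (.leaf (nat_lit 0x200403a811))))) (.node 4 (.node 2 (.node 1 (.leaf (nat_lit 0x200703aed1)) (.leaf (nat_lit 0x200502b551))) (.node 1 (.leaf (nat_lit 0x1e0302c0c1)) (.leaf (nat_lit 0x200403c991)))) (.node 2 (.node 1 (.leaf (nat_lit 0x1e0102b521)) (.leaf (nat_lit 0x1e0402b521))) (.node 1 (.leaf (nat_lit 0x1e0802b521)) (.leaf (nat_lit 0x1e0802b531)))))) (.node 8 (.node 4 (.node 2 (.node 1 (.leaf (nat_lit 0x1e0702b541)) (.leaf (nat_lit 0x200402cd01))) (.node 1 (.leaf (nat_lit 0x200802b551)) (.leaf (nat_lit 0x20030391c1)))) (.node 2 (.node 1 (.leaf (nat_lit 0x1e0002b571)) (.leaf (nat_lit 0x1e0802b571))) (.node 1 (.leaf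 (nat_lit 0x1e0702b581)) (.leaf (nat_lit 0x1e0802b5a1))))) (.node 4 (.node 2 (.node 1 (.leaf (nat_lit 0x1e0702b5b1)) (.leaf (nat_lit 0x1e0302b5c1))) (.node 1 (.leaf (nat_lit 0x200403a3e1)) (.leaf (nat_lit 0x200403cac1)))) (.node 2 (.node 1 (.leaf (nat_lit 0x1e0302c411)) (.leaf (nat_lit 0x200403cae1))) (.node 1 (.leaf (nat_lit 0x1e0302c1f1)) (.leaf (nat_lit 0x2003039191))))))) (.node 16 (.node 8 (.node 4 (.node 2 (.node 1 (.leaf (nat_lit 0x1e0002b621)) (.leaf (nat_lit 0x1e0402b621))) (.node 1 (.leaf (nat_lit 0x1e0802b621)) (.leaf (nat_lit 0x1e0302b631)))) (.node 2 (.node 1 (.leaf (nat_lit 0x1e0802b631)) (.leaf (nat_lit 0x1e0702b641))) (.node 1 (.leaf (nat_lit 0x1e0702b651)) (.leaf (nat_lit 0x2006038171))))) (.node 4 (.node 2 (.node 1 (.leaf (nat_lit 0x220303aef1)) (.leaf (nat_lit 0x2003038901))) (.node 1 (.leaf (nat_lit 0x1e0802b6a1)) (.leaf (nat_lit 0x1e0702b6b1)))) (.node 2 (.node 1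 (.leaf (nat_lit 0x1e0302b6c1)) (.leaf (nat_lit 0x1e0702b6d1))) (.node 1 (.leaf (nat_lit 0x1e0302b6e1)) (.leaf (nat_lit 0x1e0402b6f1)))))) (.node 8 (.node 4 (.node 2 (.node 1 (.leaf (nat_lit 0x2004038951)) (.leaf (nat_lit 0x200702b721))) (.node 1 (.leaf (nat_lit 0x1e0302b731)) (.leaf (nat_lit 0x1e0802b731)))) (.node 2 (.node 1 (.leaf (nat_lit 0x200403b2d1)) (.leaf (nat_lit 0x200802b741))) (.node 1 (.leaf (nat_lit 0x1e0802b751)) (.leaf (nat_lit 0x1e0702b771))))) (.node 4 (.node 2 (.node 1 (.leaf (nat_lit 0x200403aec1)) (.leaf (nat_lit 0x220802b7a1))) (.node 1 (.leaf (nat_lit 0x1e0702b7d1)) (.leaf (nat_lit 0x2004036e81)))) (.node 2 (.node 1 (.leaf (nat_lit 0x200702b7e1)) (.leaf (nat_lit 0x1e0302b7f1))) (.node 1 (.leaf (nat_lit 0x1e0802b7f1)) (.leaf (nat_lit 0x200302b801))))))))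

noncomputable def oT104 : Tree :=
  .node 64 (.node 32 (.node 16 (.node 8 (.node 4 (.node 2 (.node 1 (.leaf (nat_lit 0x200802b801)) (.leaf (nat_lit 0x1e0402b811))) (.node 1 (.leaf (nat_lit 0x1e0802b811)) (.leaf (nat_lit 0x1e0802b831)))) (.node 2 (.node 1 (.leaf (nat_lit 0x1e0702b841)) (.leaf (nat_lit 0x200403ae21))) (.node 1 (.leaf (nat_lit 0x220302b861)) (.leaf (nat_lit 0x220802b861))))) (.node 4 (.node 2 (.node 1 (.leaf (nat_lit 0x1e0202b871)) (.leaf (nat_lit 0x1e0402b871))) (.node 1 (.leaf (nat_lit 0x1e0802b871)) (.leaf (nat_lit 0x220302b9d1)))) (.node 2 (.node 1 (.leaf (nat_lit 0x200302b931)) (.leaf (nat_lit 0x220203ce21))) (.node 1 (.leaf (nat_lit 0x1e0102b8b1)) (.leaf (nat_lit 0x1e0402b8b1)))))) (.node 8 (.node 4 (.node 2 (.node 1 (.leaf (nat_lit 0x1e0802b8b1)) (.leaf (nat_lit 0x1e0502b8c1))) (.node 1 (.leaf (nat_lit 0x1e0802b8c1)) (.leaf (nat_lit 0x1e0702b8d1)))) (.node 2 (.node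 1 (.leaf (nat_lit 0x1e0402b8e1)) (.leaf (nat_lit 0x1e0802b8e1))) (.node 1 (.leaf (nat_lit 0x1e0802b8f1)) (.leaf (nat_lit 0x1e0702b901))))) (.node 4 (.node 2 (.node 1 (.leaf (nat_lit 0x1e0702b911)) (.leaf (nat_lit 0x200702bba1))) (.node 1 (.leaf (nat_lit 0x200802b931)) (.leaf (nat_lit 0x1e0802b951)))) (.node 2 (.node 1 (.leaf (nat_lit 0x200302b971)) (.leaf (nat_lit 0x200802b971))) (.node 1 (.leaf (nat_lit 0x220202b981)) (.leaf (nat_lit 0x2003039161))))))) (.node 16 (.node 8 (.node 4 (.node 2 (.node 1 (.leaf (nat_lit 0x200703a4f1)) (.leaf (nat_lit 0x1e0102b9a1))) (.node 1 (.leaf (nat_lit 0x1e0402b9a1)) (.leaf (nat_lit 0x1e0802b9a1)))) (.node 2 (.node 1 (.leaf (nat_lit 0x1e0802b9b1)) (.leaf (nat_lit 0x220202bad1))) (.node 1 (.leaf (nat_lit 0x2007039a21)) (.leaf (nat_lit 0x1e0002b9f1))))) (.node 4 (.node 2 (.node 1 (.leaf (nat_lit 0x1e0802b9f1)) (.leaf (nat_lit 0x1e0802ba11))) (.node 1 (.leaf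 (nat_lit 0x200703a3d1)) (.leaf (nat_lit 0x20030376c1)))) (.node 2 (.node 1 (.leaf (nat_lit 0x200802ba51)) (.leaf (nat_lit 0x200802ba61))) (.node 1 (.leaf (nat_lit 0x1e0802c241)) (.leaf (nat_lit 0x1e0002ba81)))))) (.node 8 (.node 4 (.node 2 (.node 1 (.leaf (nat_lit 0x1e0402ba81)) (.leaf (nat_lit 0x1e0802ba81))) (.node 1 (.leaf (nat_lit 0x1e0802ba91)) (.leaf (nat_lit 0x1e0702baa1)))) (.node 2 (.node 1 (.leaf (nat_lit 0x1e0702bab1)) (.leaf (nat_lit 0x220303b1f1))) (.node 1 (.leaf (nat_lit 0x200703d051)) (.leaf (nat_lit 0x1e0802c451))))) (.node 4 (.node 2 (.node 1 (.leaf (nat_lit 0x1e0802bb01)) (.leaf (nat_lit 0x1e0702bb11))) (.node 1 (.leaf (nat_lit 0x1e0302bb21)) (.leaf (nat_lit 0x1e0702bb31)))) (.node 2 (.node 1 (.leaf (nat_lit 0x1e0302bb41)) (.leaf (nat_lit 0x1e0402bb51))) (.node 1 (.leaf (nat_lit 0x1e0702bb61)) (.leaf (nat_lit 0x1e0702bb71)))))))) (.node 32 (.node 16 (.node 8 (.node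 4 (.node 2 (.node 1 (.leaf (nat_lit 0x1e0802bb81)) (.leaf (nat_lit 0x1e0302c371))) (.node 1 (.leaf (nat_lit 0x1e0702bbb1)) (.leaf (nat_lit 0x1e0402c361)))) (.node 2 (.node 1 (.leaf (nat_lit 0x20040397d1)) (.leaf (nat_lit 0x1e0302bbd1))) (.node 1 (.leaf (nat_lit 0x1e0802bbd1)) (.leaf (nat_lit 0x200403aff1))))) (.node 4 (.node 2 (.node 1 (.leaf (nat_lit 0x200802bbe1)) (.leaf (nat_lit 0x1e0802bbf1))) (.node 1 (.leaf (nat_lit 0x1e0702bc11)) (.leaf (nat_lit 0x200702bc21)))) (.node 2 (.node 1 (.leaf (nat_lit 0x220703d0c1)) (.leaf (nat_lit 0x220802bc31))) (.node 1 (.leaf (nat_lit 0x1e0202bc41)) (.leaf (nat_lit 0x1e0402bc41)))))) (.node 8 (.node 4 (.node 2 (.node 1 (.leaf (nat_lit 0x1e0802bc41)) (.leaf (nat_lit 0x200302bd31))) (.node 1 (.leaf (nat_lit 0x220203d1d1)) (.leaf (nat_lit 0x1e0102bc81)))) (.node 2 (.node 1 (.leaf (nat_lit 0x1e0802bc81)) (.leaf (nat_lit 0x1e0702bc91))) (.node 1 (.leaf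 (nat_lit 0x1e0002bca1)) (.leaf (nat_lit 0x1e0802bca1))))) (.node 4 (.node 2 (.node 1 (.leaf (nat_lit 0x1e0702bcb1)) (.leaf (nat_lit 0x200702c501))) (.node 1 (.leaf (nat_lit 0x220303d251)) (.leaf (nat_lit 0x200702c511)))) (.node 2 (.node 1 (.leaf (nat_lit 0x1e0702c521)) (.leaf (nat_lit 0x200703a5e1))) (.node 1 (.leaf (nat_lit 0x1e0102bd01)) (.leaf (nat_lit 0x1e0402bd01))))))) (.node 16 (.node 8 (.node 4 (.node 2 (.node 1 (.leaf (nat_lit 0x1e0802bd01)) (.leaf (nat_lit 0x1e0802bd11))) (.node 1 (.leaf (nat_lit 0x200702c551)) (.leaf (nat_lit 0x200703a641)))) (.node 2 (.node 1 (.leaf (nat_lit 0x1e0002bd51)) (.leaf (nat_lit 0x1e0802bd51))) (.node 1 (.leaf (nat_lit 0x1e0802bd71)) (.leaf (nat_lit 0x1e0002c361))))) (.node 4 (.node 2 (.node 1 (.leaf (nat_lit 0x1e0502d561)) (.leaf (nat_lit 0x1e0302bda1))) (.node 1 (.leaf (nat_lit 0x1e0802bda1)) (.leaf (nat_lit 0x200403cf81)))) (.node 2 (.node 1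 (.leaf (nat_lit 0x200502bdf1)) (.leaf (nat_lit 0x200802bdc1))) (.node 1 (.leaf (nat_lit 0x1e0202bdd1)) (.leaf (nat_lit 0x1e0402bdd1)))))) (.node 8 (.node 4 (.node 2 (.node 1 (.leaf (nat_lit 0x1e0802bdd1)) (.leaf (nat_lit 0x200302c601))) (.node 1 (.leaf (nat_lit 0x1e0302d531)) (.leaf (nat_lit 0x200802bdf1)))) (.node 2 (.node 1 (.leaf (nat_lit 0x1e0102be11)) (.leaf (nat_lit 0x1e0402be11))) (.node 1 (.leaf (nat_lit 0x1e0802be11)) (.leaf (nat_lit 0x1e0502be21))))) (.node 4 (.node 2 (.node 1 (.leaf (nat_lit 0x1e0802be21)) (.leaf (nat_lit 0x1e0702be31))) (.node 1 (.leaf (nat_lit 0x1e0002be41)) (.leaf (nat_lit 0x1e0402be41)))) (.node 2 (.node 1 (.leaf (nat_lit 0x1e0802be41)) (.leaf (nat_lit 0x1e0502be51))) (.node 1 (.leaf (nat_lit 0x1e0802be51)) (.leaf (nat_lit 0x1e0702be61))))))))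

noncomputable def oT105 : Tree :=
  .node 64 (.node 32 (.node 16 (.node 8 (.node 4 (.node 2 (.node 1 (.leaf (nat_lit 0x1e0602be71)) (.leaf (nat_lit 0x1e0802be71))) (.node 1 (.leaf (nat_lit 0x1e0702be81)) (.leaf (nat_lit 0x220203d581)))) (.node 2 (.node 1 (.leaf (nat_lit 0x220202c0a1)) (.leaf (nat_lit 0x200302c0b1))) (.node 1 (.leaf (nat_lit 0x220503d5e1)) (.leaf (nat_lit 0x220203d5d1))))) (.node 4 (.node 2 (.node 1 (.leaf (nat_lit 0x1e0102bed1)) (.leaf (nat_lit 0x1e0402bed1))) (.node 1 (.leaf (nat_lit 0x1e0802bed1)) (.leaf (nat_lit 0x1e0502bee1)))) (.node 2 (.node 1 (.leaf (nat_lit 0x1e0802bee1)) (.leaf (nat_lit 0x1e0702bef1))) (.node 1 (.leaf (nat_lit 0x1e0302c131)) (.leaf (nat_lit 0x200402bf01)))))) (.node 8 (.node 4 (.node 2 (.node 1 (.leaf (nat_lit 0x200302c141)) (.leaf (nat_lit 0x200302c021))) (.node 1 (.leaf (nat_lit 0x200802bf11)) (.leaf (nat_lit 0x220203d701)))) (.node 2 (.node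 1 (.leaf (nat_lit 0x1e0002bf31)) (.leaf (nat_lit 0x1e0402bf31))) (.node 1 (.leaf (nat_lit 0x1e0802bf31)) (.leaf (nat_lit 0x1e0502bf41))))) (.node 4 (.node 2 (.node 1 (.leaf (nat_lit 0x1e0802bf41)) (.leaf (nat_lit 0x1e0702bf51))) (.node 1 (.leaf (nat_lit 0x1e0602bf61)) (.leaf (nat_lit 0x1e0802bf61)))) (.node 2 (.node 1 (.leaf (nat_lit 0x1e0702bf71)) (.leaf (nat_lit 0x1e0402bf91))) (.node 1 (.leaf (nat_lit 0x1e0802bf91)) (.leaf (nat_lit 0x1e0502bfa1))))))) (.node 16 (.node 8 (.node 4 (.node 2 (.node 1 (.leaf (nat_lit 0x1e0802bfa1)) (.leaf (nat_lit 0x1e0702bfb1))) (.node 1 (.leaf (nat_lit 0x1e0602bfc1)) (.leaf (nat_lit 0x1e0802bfc1)))) (.node 2 (.node 1 (.leaf (nat_lit 0x1e0702bfd1)) (.leaf (nat_lit 0x1e0302bfe1))) (.node 1 (.leaf (nat_lit 0x220302c061)) (.leaf (nat_lit 0x1e0802bff1))))) (.node 4 (.node 2 (.node 1 (.leaf (nat_lit 0x1e0702c001)) (.leaf (nat_lit 0x200702d7c1))) (.node 1 (.leaf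 (nat_lit 0x200802c021)) (.leaf (nat_lit 0x220702d7d1)))) (.node 2 (.node 1 (.leaf (nat_lit 0x1e0802c041)) (.leaf (nat_lit 0x20070370a1))) (.node 1 (.leaf (nat_lit 0x200702c6d1)) (.leaf (nat_lit 0x200703a3b1)))))) (.node 8 (.node 4 (.node 2 (.node 1 (.leaf (nat_lit 0x1e0702c6e1)) (.leaf (nat_lit 0x1e0702c6f1))) (.node 1 (.leaf (nat_lit 0x200703d941)) (.leaf (nat_lit 0x1e0702c231)))) (.node 2 (.node 1 (.leaf (nat_lit 0x1e0802c221)) (.leaf (nat_lit 0x1e0002c0e1))) (.node 1 (.leaf (nat_lit 0x1e0402c0e1)) (.leaf (nat_lit 0x1e0802c0e1))))) (.node 4 (.node 2 (.node 1 (.leaf (nat_lit 0x1e0302c0f1)) (.leaf (nat_lit 0x1e0802c0f1))) (.node 1 (.leaf (nat_lit 0x1e0702c101)) (.leaf (nat_lit 0x1e0702c111)))) (.node 2 (.node 1 (.leaf (nat_lit 0x1e0702c741)) (.leaf (nat_lit 0x1e0702d311))) (.node 1 (.leaf (nat_lit 0x1e0802c751)) (.leaf (nat_lit 0x1e0802c161)))))))) (.node 32 (.node 16 (.node 8 (.node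 4 (.node 2 (.node 1 (.leaf (nat_lit 0x1e0702c171)) (.leaf (nat_lit 0x1e0302c181))) (.node 1 (.leaf (nat_lit 0x1e0702c191)) (.leaf (nat_lit 0x1e0302c1a1)))) (.node 2 (.node 1 (.leaf (nat_lit 0x1e0402c1b1)) (.leaf (nat_lit 0x1e0802c211))) (.node 1 (.leaf (nat_lit 0x1e0702cfa1)) (.leaf (nat_lit 0x1e0702c271))))) (.node 4 (.node 2 (.node 1 (.leaf (nat_lit 0x1e0302c281)) (.leaf (nat_lit 0x1e0802c3e1))) (.node 1 (.leaf (nat_lit 0x200502d811)) (.leaf (nat_lit 0x1e0302c2e1)))) (.node 2 (.node 1 (.leaf (nat_lit 0x1e0802c2e1)) (.leaf (nat_lit 0x200702c2f1))) (.node 1 (.leaf (nat_lit 0x220802c301)) (.leaf (nat_lit 0x22080399d1)))))) (.node 8 (.node 4 (.node 2 (.node 1 (.leaf (nat_lit 0x200703cb21)) (.leaf (nat_lit 0x220703cf41))) (.node 1 (.leaf (nat_lit 0x220703cf51)) (.leaf (nat_lit 0x2208036e91)))) (.node 2 (.node 1 (.leaf (nat_lit 0x1e0702c401)) (.leaf (nat_lit 0x200703da31))) (.node 1 (.leaf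 (nat_lit 0x1e0302cdd1)) (.leaf (nat_lit 0x1e0702c461))))) (.node 4 (.node 2 (.node 1 (.leaf (nat_lit 0x1e0302c471)) (.leaf (nat_lit 0x1e0302c4c1))) (.node 1 (.leaf (nat_lit 0x1e0802c4c1)) (.leaf (nat_lit 0x200802c4d1)))) (.node 2 (.node 1 (.leaf (nat_lit 0x200803a681)) (.leaf (nat_lit 0x200403a6a1))) (.node 1 (.leaf (nat_lit 0x1e0802c711)) (.leaf (nat_lit 0x1e0002c531))))))) (.node 16 (.node 8 (.node 4 (.node 2 (.node 1 (.leaf (nat_lit 0x1e0402c531)) (.leaf (nat_lit 0x1e0302c541))) (.node 1 (.leaf (nat_lit 0x1e0802d3b1)) (.leaf (nat_lit 0x2000036dc1)))) (.node 2 (.node 1 (.leaf (nat_lit 0x200802c571)) (.leaf (nat_lit 0x1e0202c581))) (.node 1 (.leaf (nat_lit 0x1e0402c581)) (.leaf (nat_lit 0x1e0802c581))))) (.node 4 (.node 2 (.node 1 (.leaf (nat_lit 0x200302c5a1)) (.leaf (nat_lit 0x200802c5a1))) (.node 1 (.leaf (nat_lit 0x200702c671)) (.leaf (nat_lit 0x220303da81)))) (.node 2 (.node 1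 (.leaf (nat_lit 0x220802c5b1)) (.leaf (nat_lit 0x1e0102c5d1))) (.node 1 (.leaf (nat_lit 0x1e0402c5d1)) (.leaf (nat_lit 0x1e0802c5d1)))))) (.node 8 (.node 4 (.node 2 (.node 1 (.leaf (nat_lit 0x1e0802c5e1)) (.leaf (nat_lit 0x1e0702c6b1))) (.node 1 (.leaf (nat_lit 0x2007039c91)) (.leaf (nat_lit 0x1e0002c621)))) (.node 2 (.node 1 (.leaf (nat_lit 0x1e0802c621)) (.leaf (nat_lit 0x1e0802c641))) (.node 1 (.leaf (nat_lit 0x200803a501)) (.leaf (nat_lit 0x1e0802c721))))) (.node 4 (.node 2 (.node 1 (.leaf (nat_lit 0x200303a541)) (.leaf (nat_lit 0x1e0002c691))) (.node 1 (.leaf (nat_lit 0x1e0402c691)) (.leaf (nat_lit 0x1e0302c6a1)))) (.node 2 (.node 1 (.leaf (nat_lit 0x1e0802d3d1)) (.leaf (nat_lit 0x1e0702c721))) (.node 1 (.leaf (nat_lit 0x1e0302c731)) (.leaf (nat_lit 0x1e0302c751))))))))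

noncomputable def oT106 : Tree :=
  .node 64 (.node 32 (.node 16 (.node 8 (.node 4 (.node 2 (.node 1 (.leaf (nat_lit 0x1e0702c761)) (.leaf (nat_lit 0x1e0302c771))) (.node 1 (.leaf (nat_lit 0x1e0402c781)) (.leaf (nat_lit 0x130702c7e2)))) (.node 2 (.node 1 (.leaf (nat_lit 0x130702c7f2)) (.leaf (nat_lit 0x130402c812))) (.node 1 (.leaf (nat_lit 0x130802c812)) (.leaf (nat_lit 0x130502c822))))) (.node 4 (.node 2 (.node 1 (.leaf (nat_lit 0x130802c822)) (.leaf (nat_lit 0x130802c842))) (.node 1 (.leaf (nat_lit 0x130702c852)) (.leaf (nat_lit 0x1e0702cb41)))) (.node 2 (.node 1 (.leaf (nat_lit 0x130802c8c2)) (.leaf (nat_lit 0x130702c8d2))) (.node 1 (.leaf (nat_lit 0x200702c8e1)) (.leaf (nat_lit 0x130802c8f2)))))) (.node 8 (.node 4 (.node 2 (.node 1 (.leaf (nat_lit 0x130702c902)) (.leaf (nat_lit 0x130802c922))) (.node 1 (.leaf (nat_lit 0x130702c932)) (.leaf (nat_lit 0x130302c942)))) (.node 2 (.node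 1 (.leaf (nat_lit 0x200802c951)) (.leaf (nat_lit 0x200802c961))) (.node 1 (.leaf (nat_lit 0x200702c971)) (.leaf (nat_lit 0x130802c982))))) (.node 4 (.node 2 (.node 1 (.leaf (nat_lit 0x130802c992)) (.leaf (nat_lit 0x130702c9a2))) (.node 1 (.leaf (nat_lit 0x130702c9b2)) (.leaf (nat_lit 0x200802c9d1)))) (.node 2 (.node 1 (.leaf (nat_lit 0x2004038931)) (.leaf (nat_lit 0x130802ca02))) (.node 1 (.leaf (nat_lit 0x130702ca12)) (.leaf (nat_lit 0x130302ca22))))))) (.node 16 (.node 8 (.node 4 (.node 2 (.node 1 (.leaf (nat_lit 0x130702ca32)) (.leaf (nat_lit 0x130302ca42))) (.node 1 (.leaf (nat_lit 0x130402ca52)) (.leaf (nat_lit 0x1e0702ca61)))) (.node 2 (.node 1 (.leaf (nat_lit 0x1e0802ca81)) (.leaf (nat_lit 0x1e0702ca91))) (.node 1 (.leaf (nat_lit 0x200702caa1)) (.leaf (nat_lit 0x1e0702cab1))))) (.node 4 (.node 2 (.node 1 (.leaf (nat_lit 0x1e0802cad1)) (.leaf (nat_lit 0x1e0702cae1))) (.node 1 (.leaf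 (nat_lit 0x1e0302caf1)) (.leaf (nat_lit 0x1e0402cb01)))) (.node 2 (.node 1 (.leaf (nat_lit 0x1e0802cb01)) (.leaf (nat_lit 0x1e0302cb11))) (.node 1 (.leaf (nat_lit 0x1e0502cb11)) (.leaf (nat_lit 0x1e0802cb11)))))) (.node 8 (.node 4 (.node 2 (.node 1 (.leaf (nat_lit 0x1e0602cb31)) (.leaf (nat_lit 0x1e0402cb51))) (.node 1 (.leaf (nat_lit 0x1e0802cb51)) (.leaf (nat_lit 0x1e0502cb61)))) (.node 2 (.node 1 (.leaf (nat_lit 0x1e0802cb61)) (.leaf (nat_lit 0x1e0602cb81))) (.node 1 (.leaf (nat_lit 0x1e0802cb81)) (.leaf (nat_lit 0x1e0702cb91))))) (.node 4 (.node 2 (.node 1 (.leaf (nat_lit 0x1e0402cbb1)) (.leaf (nat_lit 0x1e0802cbb1))) (.node 1 (.leaf (nat_lit 0x1e0502cbc1)) (.leaf (nat_lit 0x1e0802cbc1)))) (.node 2 (.node 1 (.leaf (nat_lit 0x1e0702cbd1)) (.leaf (nat_lit 0x1e0602cbe1))) (.node 1 (.leaf (nat_lit 0x1e0802cbe1)) (.leaf (nat_lit 0x1e0702cbf1)))))))) (.node 32 (.node 16 (.node 8 (.node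 4 (.node 2 (.node 1 (.leaf (nat_lit 0x1e0302cc01)) (.leaf (nat_lit 0x2007036151))) (.node 1 (.leaf (nat_lit 0x1e0802cc11)) (.leaf (nat_lit 0x1e0702cc21)))) (.node 2 (.node 1 (.leaf (nat_lit 0x200802cc41)) (.leaf (nat_lit 0x200702d9c1))) (.node 1 (.leaf (nat_lit 0x1e0802cc61)) (.leaf (nat_lit 0x200702cca1))))) (.node 4 (.node 2 (.node 1 (.leaf (nat_lit 0x1e0402ccb1)) (.leaf (nat_lit 0x1e0802ccb1))) (.node 1 (.leaf (nat_lit 0x1e0302ccc1)) (.leaf (nat_lit 0x1e0802ccc1)))) (.node 2 (.node 1 (.leaf (nat_lit 0x1e0702ccd1)) (.leaf (nat_lit 0x1e0702cce1))) (.node 1 (.leaf (nat_lit 0x200802cd01)) (.leaf (nat_lit 0x200702cd11)))))) (.node 8 (.node 4 (.node 2 (.node 1 (.leaf (nat_lit 0x1e0802cd31)) (.leaf (nat_lit 0x1e0702cd41))) (.node 1 (.leaf (nat_lit 0x1e0302cd51)) (.leaf (nat_lit 0x1e0702cd61)))) (.node 2 (.node 1 (.leaf (nat_lit 0x1e0302cd71)) (.leaf (nat_lit 0x1e0402cd81))) (.node 1 (.leaf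 (nat_lit 0x200802cd91)) (.leaf (nat_lit 0x200403b241))))) (.node 4 (.node 2 (.node 1 (.leaf (nat_lit 0x1e0402cdc1)) (.leaf (nat_lit 0x1e0802cdc1))) (.node 1 (.leaf (nat_lit 0x1e0802cdd1)) (.leaf (nat_lit 0x1e0702cde1)))) (.node 2 (.node 1 (.leaf (nat_lit 0x1e0702cdf1)) (.leaf (nat_lit 0x1e0302ce01))) (.node 1 (.leaf (nat_lit 0x200802ce21)) (.leaf (nat_lit 0x220702ce31))))))) (.node 16 (.node 8 (.node 4 (.node 2 (.node 1 (.leaf (nat_lit 0x220403e041)) (.leaf (nat_lit 0x1e0702ce51))) (.node 1 (.leaf (nat_lit 0x1e0302ce61)) (.leaf (nat_lit 0x1e0402ce71)))) (.node 2 (.node 1 (.leaf (nat_lit 0x1e0302ce81)) (.leaf (nat_lit 0x1e0202ce91))) (.node 1 (.leaf (nat_lit 0x1e0402ce91)) (.leaf (nat_lit 0x1e0502cea1))))) (.node 4 (.node 2 (.node 1 (.leaf (nat_lit 0x1e0102ceb1)) (.leaf (nat_lit 0x1e0802ceb1))) (.node 1 (.leaf (nat_lit 0x1e0702cec1)) (.leaf (nat_lit 0x200102ced1)))) (.node 2 (.node 1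 (.leaf (nat_lit 0x200802ced1)) (.leaf (nat_lit 0x200702cee1))) (.node 1 (.leaf (nat_lit 0x1e0002cef1)) (.leaf (nat_lit 0x1e0802cef1)))))) (.node 8 (.node 4 (.node 2 (.node 1 (.leaf (nat_lit 0x1e0702cf01)) (.leaf (nat_lit 0x1e0802cf21))) (.node 1 (.leaf (nat_lit 0x1e0702cf31)) (.leaf (nat_lit 0x1e0302cf41)))) (.node 2 (.node 1 (.leaf (nat_lit 0x1e0702d391)) (.leaf (nat_lit 0x1e0702d341))) (.node 1 (.leaf (nat_lit 0x1e0002cf71)) (.leaf (nat_lit 0x1e0402cf71))))) (.node 4 (.node 2 (.node 1 (.leaf (nat_lit 0x1e0802cf71)) (.leaf (nat_lit 0x1e0302cf81))) (.node 1 (.leaf (nat_lit 0x1e0802cf81)) (.leaf (nat_lit 0x1e0702cf91)))) (.node 2 (.node 1 (.leaf (nat_lit 0x1e0702d3c1)) (.leaf (nat_lit 0x200703e1b1))) (.node 1 (.leaf (nat_lit 0x1e0802d2e1)) (.leaf (nat_lit 0x1e0802cff1))))))))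

noncomputable def oT107 : Tree :=
  .node 64 (.node 32 (.node 16 (.node 8 (.node 4 (.node 2 (.node 1 (.leaf (nat_lit 0x1e0702d001)) (.leaf (nat_lit 0x1e0302d011))) (.node 1 (.leaf (nat_lit 0x1e0702d021)) (.leaf (nat_lit 0x1e0302d031)))) (.node 2 (.node 1 (.leaf (nat_lit 0x1e0402d041)) (.leaf (nat_lit 0x1e0302d2d1))) (.node 1 (.leaf (nat_lit 0x200702d061)) (.leaf (nat_lit 0x1e0002d071))))) (.node 4 (.node 2 (.node 1 (.leaf (nat_lit 0x1e0402d071)) (.leaf (nat_lit 0x1e0802d071))) (.node 1 (.leaf (nat_lit 0x1e0302d081)) (.leaf (nat_lit 0x1e0502d081)))) (.node 2 (.node 1 (.leaf (nat_lit 0x1e0802d081)) (.leaf (nat_lit 0x1e0702d091))) (.node 1 (.leaf (nat_lit 0x1e0602d0a1)) (.leaf (nat_lit 0x1e0802d0a1)))))) (.node 8 (.node 4 (.node 2 (.node 1 (.leaf (nat_lit 0x1e0702d0b1)) (.leaf (nat_lit 0x1e0302d331))) (.node 1 (.leaf (nat_lit 0x1e0402d0d1)) (.leaf (nat_lit 0x1e0302d321)))) (.node 2 (.node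 1 (.leaf (nat_lit 0x20040371d1)) (.leaf (nat_lit 0x200402d0f1))) (.node 1 (.leaf (nat_lit 0x200303e291)) (.leaf (nat_lit 0x200802d101))))) (.node 4 (.node 2 (.node 1 (.leaf (nat_lit 0x220702d111)) (.leaf (nat_lit 0x1e0402d131))) (.node 1 (.leaf (nat_lit 0x1e0802d131)) (.leaf (nat_lit 0x1e0502d141)))) (.node 2 (.node 1 (.leaf (nat_lit 0x1e0802d141)) (.leaf (nat_lit 0x1e0702d151))) (.node 1 (.leaf (nat_lit 0x1e0602d161)) (.leaf (nat_lit 0x1e0802d161))))))) (.node 16 (.node 8 (.node 4 (.node 2 (.node 1 (.leaf (nat_lit 0x1e0702d171)) (.leaf (nat_lit 0x1e0302d181))) (.node 1 (.leaf (nat_lit 0x2200036cc1)) (.leaf (nat_lit 0x1e0802d191)))) (.node 2 (.node 1 (.leaf (nat_lit 0x1e0702d1a1)) (.leaf (nat_lit 0x1e0502d1c1))) (.node 1 (.leaf (nat_lit 0x1e0802d1c1)) (.leaf (nat_lit 0x1e0702d1d1))))) (.node 4 (.node 2 (.node 1 (.leaf (nat_lit 0x1e0602d1e1)) (.leaf (nat_lit 0x1e0802d1e1))) (.node 1 (.leaf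 (nat_lit 0x1e0702d1f1)) (.leaf (nat_lit 0x1e0302d201)))) (.node 2 (.node 1 (.leaf (nat_lit 0x2000036d11)) (.leaf (nat_lit 0x1e0802d211))) (.node 1 (.leaf (nat_lit 0x1e0702d221)) (.leaf (nat_lit 0x1e0302d231)))))) (.node 8 (.node 4 (.node 2 (.node 1 (.leaf (nat_lit 0x1e0402d241)) (.leaf (nat_lit 0x200302d2c1))) (.node 1 (.leaf (nat_lit 0x1e0702d261)) (.leaf (nat_lit 0x220403ab91)))) (.node 2 (.node 1 (.leaf (nat_lit 0x200802d281)) (.leaf (nat_lit 0x20070371c1))) (.node 1 (.leaf (nat_lit 0x1e0702d301)) (.leaf (nat_lit 0x1e0802d301))))) (.node 4 (.node 2 (.node 1 (.leaf (nat_lit 0x1e0402d351)) (.leaf (nat_lit 0x1e0702d3d1))) (.node 1 (.leaf (nat_lit 0x1e0302d3e1)) (.leaf (nat_lit 0x1e0402d3f1)))) (.node 2 (.node 1 (.leaf (nat_lit 0x1e0802d431)) (.leaf (nat_lit 0x1e0502d441))) (.node 1 (.leaf (nat_lit 0x20080366f1)) (.leaf (nat_lit 0x1e0802d4b1)))))))) (.node 32 (.node 16 (.node 8 (.node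 4 (.node 2 (.node 1 (.leaf (nat_lit 0x1e0802d4c1)) (.leaf (nat_lit 0x1e0802d4e1))) (.node 1 (.leaf (nat_lit 0x1e0802d501)) (.leaf (nat_lit 0x1e0802d531)))) (.node 2 (.node 1 (.leaf (nat_lit 0x1e0802d561)) (.leaf (nat_lit 0x2208036ed1))) (.node 1 (.leaf (nat_lit 0x1e0602d631)) (.leaf (nat_lit 0x20020361a1))))) (.node 4 (.node 2 (.node 1 (.leaf (nat_lit 0x20080367a1)) (.leaf (nat_lit 0x1e0802d681))) (.node 1 (.leaf (nat_lit 0x1e0802d691)) (.leaf (nat_lit 0x1e0302d6b1)))) (.node 2 (.node 1 (.leaf (nat_lit 0x1e0802d6b1)) (.leaf (nat_lit 0x1e0802d6e1))) (.node 1 (.leaf (nat_lit 0x1e0302d711)) (.leaf (nat_lit 0x1e0802d711)))))) (.node 8 (.node 4 (.node 2 (.node 1 (.leaf (nat_lit 0x1e0202d741)) (.leaf (nat_lit 0x1e0802d741))) (.node 1 (.leaf (nat_lit 0x1e0602d761)) (.leaf (nat_lit 0x1e0802d761)))) (.node 2 (.node 1 (.leaf (nat_lit 0x220702d7b1)) (.leaf (nat_lit 0x1e0802d781))) (.node 1 (.leaf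 (nat_lit 0x2208036fd1)) (.leaf (nat_lit 0x2204036891))))) (.node 4 (.node 2 (.node 1 (.leaf (nat_lit 0x1e0302d7e1)) (.leaf (nat_lit 0x1e0802d7e1))) (.node 1 (.leaf (nat_lit 0x200802d811)) (.leaf (nat_lit 0x1e0802d821)))) (.node 2 (.node 1 (.leaf (nat_lit 0x1e0202d8c1)) (.leaf (nat_lit 0x1e0802d8c1))) (.node 1 (.leaf (nat_lit 0x2000036d31)) (.leaf (nat_lit 0x200802d8f1))))))) (.node 16 (.node 8 (.node 4 (.node 2 (.node 1 (.leaf (nat_lit 0x1e0102d911)) (.leaf (nat_lit 0x1e0802d911))) (.node 1 (.leaf (nat_lit 0x1e0702d921)) (.leaf (nat_lit 0x1e0602d961)))) (.node 2 (.node 1 (.leaf (nat_lit 0x1e0802d961)) (.leaf (nat_lit 0x20030361d1))) (.node 1 (.leaf (nat_lit 0x140502d9e2)) (.leaf (nat_lit 0x140802d9e2))))) (.node 4 (.node 2 (.node 1 (.leaf (nat_lit 0x140702d9f2)) (.leaf (nat_lit 0x1f0502da01))) (.node 1 (.leaf (nat_lit 0x1f0802da01)) (.leaf (nat_lit 0x1f0702da11)))) (.node 2 (.node 1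 (.leaf (nat_lit 0x1f0502da21)) (.leaf (nat_lit 0x1f0802da21))) (.node 1 (.leaf (nat_lit 0x1f0702da31)) (.leaf (nat_lit 0x1f0602da41)))))) (.node 8 (.node 4 (.node 2 (.node 1 (.leaf (nat_lit 0x1f0802da41)) (.leaf (nat_lit 0x1f0702da51))) (.node 1 (.leaf (nat_lit 0x1f0802da81)) (.leaf (nat_lit 0x1f0802da91)))) (.node 2 (.node 1 (.leaf (nat_lit 0x1f0702daa1)) (.leaf (nat_lit 0x1f0702dab1))) (.node 1 (.leaf (nat_lit 0x1f0602dac1)) (.leaf (nat_lit 0x1f0802dac1))))) (.node 4 (.node 2 (.node 1 (.leaf (nat_lit 0x1f0702dad1)) (.leaf (nat_lit 0x1f0702daf1))) (.node 1 (.leaf (nat_lit 0x1f0502db01)) (.leaf (nat_lit 0x1f0802db01)))) (.node 2 (.node 1 (.leaf (nat_lit 0x1f0702db11)) (.leaf (nat_lit 0x1f0602db21))) (.node 1 (.leaf (nat_lit 0x1f0802db21)) (.leaf (nat_lit 0x1f0702db31))))))))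

noncomputable def oT108 : Tree :=
  .node 64 (.node 32 (.node 16 (.node 8 (.node 4 (.node 2 (.node 1 (.leaf (nat_lit 0x210003e781)) (.leaf (nat_lit 0x1f0802db51))) (.node 1 (.leaf (nat_lit 0x1f0702db61)) (.leaf (nat_lit 0x1f0302db71)))) (.node 2 (.node 1 (.leaf (nat_lit 0x1f0102db81)) (.leaf (nat_lit 0x1f0802db81))) (.node 1 (.leaf (nat_lit 0x1f0702db91)) (.leaf (nat_lit 0x1f0802dba1))))) (.node 4 (.node 2 (.node 1 (.leaf (nat_lit 0x1f0702dbb1)) (.leaf (nat_lit 0x1f0102dbd1))) (.node 1 (.leaf (nat_lit 0x1f0802dbd1)) (.leaf (nat_lit 0x1f0702dbe1)))) (.node 2 (.node 1 (.leaf (nat_lit 0x1f0102dbf1)) (.leaf (nat_lit 0x1f0802dbf1))) (.node 1 (.leaf (nat_lit 0x1f0702dc01)) (.leaf (nat_lit 0x1f0002dc11)))))) (.node 8 (.node 4 (.node 2 (.node 1 (.leaf (nat_lit 0x1f0802dc11)) (.leaf (nat_lit 0x1f0702dc21))) (.node 1 (.leaf (nat_lit 0x1f0802dc41)) (.leaf (nat_lit 0x1f0702dc51)))) (.node 2 (.node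 1 (.leaf (nat_lit 0x1f0302dc61)) (.leaf (nat_lit 0x1f0602dcb1))) (.node 1 (.leaf (nat_lit 0x1f0702dcb1)) (.leaf (nat_lit 0x1f0502dcc1))))) (.node 4 (.node 2 (.node 1 (.leaf (nat_lit 0x1f0802dd91)) (.leaf (nat_lit 0x1f0702dcd1))) (.node 1 (.leaf (nat_lit 0x1f0302dcf1)) (.leaf (nat_lit 0x1f0202dd01)))) (.node 2 (.node 1 (.leaf (nat_lit 0x1f0302dd81)) (.leaf (nat_lit 0x1f07031bb1))) (.node 1 (.leaf (nat_lit 0x140602ddb2)) (.leaf (nat_lit 0x140702ddb2))))))) (.node 16 (.node 8 (.node 4 (.node 2 (.node 1 (.leaf (nat_lit 0x140502ddc2)) (.leaf (nat_lit 0x1f0802dfe1))) (.node 1 (.leaf (nat_lit 0x140702ddc2)) (.leaf (nat_lit 0x140302ddd2)))) (.node 2 (.node 1 (.leaf (nat_lit 0x140802ddd2)) (.leaf (nat_lit 0x1f0702dde1))) (.node 1 (.leaf (nat_lit 0x140302ddf2)) (.leaf (nat_lit 0x140802ddf2))))) (.node 4 (.node 2 (.node 1 (.leaf (nat_lit 0x140402de02)) (.leaf (nat_lit 0x140802de02))) (.node 1 (.leaf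 (nat_lit 0x140702de22)) (.leaf (nat_lit 0x1f0702de41)))) (.node 2 (.node 1 (.leaf (nat_lit 0x140802de52)) (.leaf (nat_lit 0x140202de62))) (.node 1 (.leaf (nat_lit 0x140802de62)) (.leaf (nat_lit 0x140602dee2)))))) (.node 8 (.node 4 (.node 2 (.node 1 (.leaf (nat_lit 0x140702dee2)) (.leaf (nat_lit 0x140802df02))) (.node 1 (.leaf (nat_lit 0x140802df12)) (.leaf (nat_lit 0x140302df52)))) (.node 2 (.node 1 (.leaf (nat_lit 0x140802df52)) (.leaf (nat_lit 0x140502df72))) (.node 1 (.leaf (nat_lit 0x140802df72)) (.leaf (nat_lit 0x140702df82))))) (.node 4 (.node 2 (.node 1 (.leaf (nat_lit 0x1f02031bc1)) (.leaf (nat_lit 0x140702dfb2))) (.node 1 (.leaf (nat_lit 0x140302dfc2)) (.leaf (nat_lit 0x140802dfc2)))) (.node 2 (.node 1 (.leaf (nat_lit 0x140302dff2)) (.leaf (nat_lit 0x140802dff2))) (.node 1 (.leaf (nat_lit 0x140202e002)) (.leaf (nat_lit 0x140402e002)))))))) (.node 32 (.node 16 (.node 8 (.node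 4 (.node 2 (.node 1 (.leaf (nat_lit 0x140802e002)) (.leaf (nat_lit 0x140502e032))) (.node 1 (.leaf (nat_lit 0x140802e032)) (.leaf (nat_lit 0x140702e042)))) (.node 2 (.node 1 (.leaf (nat_lit 0x140602e052)) (.leaf (nat_lit 0x140802e052))) (.node 1 (.leaf (nat_lit 0x140702e062)) (.leaf (nat_lit 0x140802e092))))) (.node 4 (.node 2 (.node 1 (.leaf (nat_lit 0x1f0502e0b1)) (.leaf (nat_lit 0x1f060352e1))) (.node 1 (.leaf (nat_lit 0x1f0702e0b1)) (.leaf (nat_lit 0x1f0302e0c1)))) (.node 2 (.node 1 (.leaf (nat_lit 0x1f0802e0c1)) (.leaf (nat_lit 0x210802e491))) (.node 1 (.leaf (nat_lit 0x1f0702e0d1)) (.leaf (nat_lit 0x210702e0e1)))))) (.node 8 (.node 4 (.node 2 (.node 1 (.leaf (nat_lit 0x1f0302e0f1)) (.leaf (nat_lit 0x1f0802e0f1))) (.node 1 (.leaf (nat_lit 0x1f0202e101)) (.leaf (nat_lit 0x1f0402e101)))) (.node 2 (.node 1 (.leaf (nat_lit 0x1f0802e101)) (.leaf (nat_lit 0x210102fd41))) (.node 1 (.leaf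 (nat_lit 0x1f0702e511)) (.leaf (nat_lit 0x1f0402e131))))) (.node 4 (.node 2 (.node 1 (.leaf (nat_lit 0x1f0802e131)) (.leaf (nat_lit 0x1f0802e151))) (.node 1 (.leaf (nat_lit 0x1f0702e161)) (.leaf (nat_lit 0x1f05031c01)))) (.node 2 (.node 1 (.leaf (nat_lit 0x210702e181)) (.leaf (nat_lit 0x1f0302e191))) (.node 1 (.leaf (nat_lit 0x1f0802e191)) (.leaf (nat_lit 0x1f07031c11))))))) (.node 16 (.node 8 (.node 4 (.node 2 (.node 1 (.leaf (nat_lit 0x1f0702e5e1)) (.leaf (nat_lit 0x1f0202e1b1))) (.node 1 (.leaf (nat_lit 0x1f0802e1b1)) (.leaf (nat_lit 0x1f0102e1d1)))) (.node 2 (.node 1 (.leaf (nat_lit 0x1f0802e1d1)) (.leaf (nat_lit 0x1f0702e1e1))) (.node 1 (.leaf (nat_lit 0x1f0702e641)) (.leaf (nat_lit 0x1f0802e221))))) (.node 4 (.node 2 (.node 1 (.leaf (nat_lit 0x1f0102e261)) (.leaf (nat_lit 0x1f0802e261))) (.node 1 (.leaf (nat_lit 0x1f0002e281)) (.leaf (nat_lit 0x1f0802e281)))) (.node 2 (.node 1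 (.leaf (nat_lit 0x1f0702e291)) (.leaf (nat_lit 0x1f0602e2b1))) (.node 1 (.leaf (nat_lit 0x1f0502e2c1)) (.leaf (nat_lit 0x1f0402e2e1)))))) (.node 8 (.node 4 (.node 2 (.node 1 (.leaf (nat_lit 0x1f0702e2c1)) (.leaf (nat_lit 0x1f0302e2d1))) (.node 1 (.leaf (nat_lit 0x1f0802e2d1)) (.leaf (nat_lit 0x1f0802e2f1)))) (.node 2 (.node 1 (.leaf (nat_lit 0x1f0402e301)) (.leaf (nat_lit 0x1f0802e301))) (.node 1 (.leaf (nat_lit 0x1f0802e321)) (.leaf (nat_lit 0x1f0702e331))))) (.node 4 (.node 2 (.node 1 (.leaf (nat_lit 0x1f0502e341)) (.leaf (nat_lit 0x1f0302e361))) (.node 1 (.leaf (nat_lit 0x1f0502e361)) (.leaf (nat_lit 0x1f0702e351)))) (.node 2 (.node 1 (.leaf (nat_lit 0x1f0302e371)) (.leaf (nat_lit 0x1f0802e371))) (.node 1 (.leaf (nat_lit 0x1f0402e381)) (.leaf (nat_lit 0x1f0802e381))))))))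

noncomputable def oT109 : Tree :=
  .node 64 (.node 32 (.node 16 (.node 8 (.node 4 (.node 2 (.node 1 (.leaf (nat_lit 0x1f0502e3b1)) (.leaf (nat_lit 0x1f0802e3b1))) (.node 1 (.leaf (nat_lit 0x1f0702e3c1)) (.leaf (nat_lit 0x1f0602e3d1)))) (.node 2 (.node 1 (.leaf (nat_lit 0x1f0802e3d1)) (.leaf (nat_lit 0x1f0702e3e1))) (.node 1 (.leaf (nat_lit 0x1f0602e401)) (.leaf (nat_lit 0x1f0802e411))))) (.node 4 (.node 2 (.node 1 (.leaf (nat_lit 0x1f0702e431)) (.leaf (nat_lit 0x2102035e51))) (.node 1 (.leaf (nat_lit 0x1f0702e441)) (.leaf (nat_lit 0x2102032081)))) (.node 2 (.node 1 (.leaf (nat_lit 0x1f0302e461)) (.leaf (nat_lit 0x1f0802e461))) (.node 1 (.leaf (nat_lit 0x1f0402e471)) (.leaf (nat_lit 0x1f0802e471)))))) (.node 8 (.node 4 (.node 2 (.node 1 (.leaf (nat_lit 0x210202e5a1)) (.leaf (nat_lit 0x1f0202e5b1))) (.node 1 (.leaf (nat_lit 0x1f0302e4a1)) (.leaf (nat_lit 0x1f0802e4a1)))) (.node 2 (.node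 1 (.leaf (nat_lit 0x1f02031ee1)) (.leaf (nat_lit 0x1f0802e4b1))) (.node 1 (.leaf (nat_lit 0x1f0202e4c1)) (.leaf (nat_lit 0x1f0402e4c1))))) (.node 4 (.node 2 (.node 1 (.leaf (nat_lit 0x1f0802e4c1)) (.leaf (nat_lit 0x1f0102e4e1))) (.node 1 (.leaf (nat_lit 0x1f0402e4e1)) (.leaf (nat_lit 0x1f0802e4e1)))) (.node 2 (.node 1 (.leaf (nat_lit 0x1f0502e4f1)) (.leaf (nat_lit 0x1f0802e4f1))) (.node 1 (.leaf (nat_lit 0x1f0702e501)) (.leaf (nat_lit 0x1f0502e521))))))) (.node 16 (.node 8 (.node 4 (.node 2 (.node 1 (.leaf (nat_lit 0x1f0802e521)) (.leaf (nat_lit 0x1f0702e531))) (.node 1 (.leaf (nat_lit 0x1f0602e541)) (.leaf (nat_lit 0x1f0802e541)))) (.node 2 (.node 1 (.leaf (nat_lit 0x1f0702e551)) (.leaf (nat_lit 0x210003ef41))) (.node 1 (.leaf (nat_lit 0x1f0802e571)) (.leaf (nat_lit 0x1f0702e581))))) (.node 4 (.node 2 (.node 1 (.leaf (nat_lit 0x1f0802e5b1)) (.leaf (nat_lit 0x1f0202e5c1))) (.node 1 (.leaf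 (nat_lit 0x1f0802e5c1)) (.leaf (nat_lit 0x1f0802e5f1)))) (.node 2 (.node 1 (.leaf (nat_lit 0x1f0802e611)) (.leaf (nat_lit 0x1f0802e661))) (.node 1 (.leaf (nat_lit 0x1f0402e681)) (.leaf (nat_lit 0x230802ec31)))))) (.node 8 (.node 4 (.node 2 (.node 1 (.leaf (nat_lit 0x1f0702e681)) (.leaf (nat_lit 0x230702e691))) (.node 1 (.leaf (nat_lit 0x1f0302e6a1)) (.leaf (nat_lit 0x1f0802e6a1)))) (.node 2 (.node 1 (.leaf (nat_lit 0x1f0202e6b1)) (.leaf (nat_lit 0x1f0402e6b1))) (.node 1 (.leaf (nat_lit 0x1f0802e6b1)) (.leaf (nat_lit 0x210403ec11))))) (.node 4 (.node 2 (.node 1 (.leaf (nat_lit 0x23010309e1)) (.leaf (nat_lit 0x1f0302e6e1))) (.node 1 (.leaf (nat_lit 0x1f0802e6e1)) (.leaf (nat_lit 0x210403f311)))) (.node 2 (.node 1 (.leaf (nat_lit 0x210702ed01)) (.leaf (nat_lit 0x1f0202e701))) (.node 1 (.leaf (nat_lit 0x1f0402e701)) (.leaf (nat_lit 0x1f0802e701)))))))) (.node 32 (.node 16 (.node 8 (.node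 4 (.node 2 (.node 1 (.leaf (nat_lit 0x1f0102e721)) (.leaf (nat_lit 0x1f0402e721))) (.node 1 (.leaf (nat_lit 0x1f0802e721)) (.leaf (nat_lit 0x1f0802e731)))) (.node 2 (.node 1 (.leaf (nat_lit 0x1f0702e741)) (.leaf (nat_lit 0x1f01030ac1))) (.node 1 (.leaf (nat_lit 0x210302e761)) (.leaf (nat_lit 0x1f0502e771))))) (.node 4 (.node 2 (.node 1 (.leaf (nat_lit 0x1f0802e771)) (.leaf (nat_lit 0x1f0702e781))) (.node 1 (.leaf (nat_lit 0x1f0702e791)) (.leaf (nat_lit 0x210102e861)))) (.node 2 (.node 1 (.leaf (nat_lit 0x210102e871)) (.leaf (nat_lit 0x210702ee71))) (.node 1 (.leaf (nat_lit 0x1f0202e7d1)) (.leaf (nat_lit 0x1f0402e7d1)))))) (.node 8 (.node 4 (.node 2 (.node 1 (.leaf (nat_lit 0x1f0802e7d1)) (.leaf (nat_lit 0x1f01035dc1))) (.node 1 (.leaf (nat_lit 0x210302e801)) (.leaf (nat_lit 0x1f0102e811)))) (.node 2 (.node 1 (.leaf (nat_lit 0x1f0802e811)) (.leaf (nat_lit 0x1f0702e821))) (.node 1 (.leaf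 (nat_lit 0x1f0002e831)) (.leaf (nat_lit 0x1f0802e831))))) (.node 4 (.node 2 (.node 1 (.leaf (nat_lit 0x1f0702e841)) (.leaf (nat_lit 0x210702ef31))) (.node 1 (.leaf (nat_lit 0x1f03030c41)) (.leaf (nat_lit 0x210203f521)))) (.node 2 (.node 1 (.leaf (nat_lit 0x1f0102e891)) (.leaf (nat_lit 0x1f0402e891))) (.node 1 (.leaf (nat_lit 0x1f0802e891)) (.leaf (nat_lit 0x1f0802e8a1))))))) (.node 16 (.node 8 (.node 4 (.node 2 (.node 1 (.leaf (nat_lit 0x1f0702e8b1)) (.leaf (nat_lit 0x1f0802e8c1))) (.node 1 (.leaf (nat_lit 0x210302efd1)) (.leaf (nat_lit 0x1f0802e8e1)))) (.node 2 (.node 1 (.leaf (nat_lit 0x1f0702e8f1)) (.leaf (nat_lit 0x1f0802e911))) (.node 1 (.leaf (nat_lit 0x1f0702e921)) (.leaf (nat_lit 0x1f0302e931))))) (.node 4 (.node 2 (.node 1 (.leaf (nat_lit 0x1f0502e941)) (.leaf (nat_lit 0x210302e971))) (.node 1 (.leaf (nat_lit 0x1f0702e941)) (.leaf (nat_lit 0x1f0302e951)))) (.node 2 (.node 1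 (.leaf (nat_lit 0x1f0802e951)) (.leaf (nat_lit 0x210502e971))) (.node 1 (.leaf (nat_lit 0x1f0702e961)) (.leaf (nat_lit 0x1f0402e9b1)))))) (.node 8 (.node 4 (.node 2 (.node 1 (.leaf (nat_lit 0x1f0302e981)) (.leaf (nat_lit 0x1f0802e981))) (.node 1 (.leaf (nat_lit 0x1f0202e991)) (.leaf (nat_lit 0x1f0402e991)))) (.node 2 (.node 1 (.leaf (nat_lit 0x1f0802e991)) (.leaf (nat_lit 0x1f0802e9b1))) (.node 1 (.leaf (nat_lit 0x1f0402e9c1)) (.leaf (nat_lit 0x1f0802e9c1))))) (.node 4 (.node 2 (.node 1 (.leaf (nat_lit 0x1f0802e9e1)) (.leaf (nat_lit 0x1f0802e9f1))) (.node 1 (.leaf (nat_lit 0x1f0702ea01)) (.leaf (nat_lit 0x1f0702ea11)))) (.node 2 (.node 1 (.leaf (nat_lit 0x1f0402ea31)) (.leaf (nat_lit 0x210502ea41))) (.node 1 (.leaf (nat_lit 0x1f0702ea31)) (.leaf (nat_lit 0x210702ea41))))))))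

noncomputable def oT110 : Tree :=
  .node 64 (.node 32 (.node 16 (.node 8 (.node 4 (.node 2 (.node 1 (.leaf (nat_lit 0x1f0302ea51)) (.leaf (nat_lit 0x1f0802ea51))) (.node 1 (.leaf (nat_lit 0x1f0202ea61)) (.leaf (nat_lit 0x1f0402ea61)))) (.node 2 (.node 1 (.leaf (nat_lit 0x1f0802ea61)) (.leaf (nat_lit 0x210602ea81))) (.node 1 (.leaf (nat_lit 0x1f0502eaa1)) (.leaf (nat_lit 0x1f0302ea91))))) (.node 4 (.node 2 (.node 1 (.leaf (nat_lit 0x1f0802ea91)) (.leaf (nat_lit 0x1f0302eaa1))) (.node 1 (.leaf (nat_lit 0x1f0802eaa1)) (.leaf (nat_lit 0x1f0202eab1)))) (.node 2 (.node 1 (.leaf (nat_lit 0x1f0402eab1)) (.leaf (nat_lit 0x1f0802eab1))) (.node 1 (.leaf (nat_lit 0x1f0802ead1)) (.leaf (nat_lit 0x1f0502eae1)))))) (.node 8 (.node 4 (.node 2 (.node 1 (.leaf (nat_lit 0x1f0802eae1)) (.leaf (nat_lit 0x1f0702eaf1))) (.node 1 (.leaf (nat_lit 0x1f0502eb11)) (.leaf (nat_lit 0x1f0802eb11)))) (.node 2 (.node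 1 (.leaf (nat_lit 0x1f0702eb21)) (.leaf (nat_lit 0x1f0602eb31))) (.node 1 (.leaf (nat_lit 0x1f0802eb31)) (.leaf (nat_lit 0x1f0702eb41))))) (.node 4 (.node 2 (.node 1 (.leaf (nat_lit 0x21010308b1)) (.leaf (nat_lit 0x1f0802eb61))) (.node 1 (.leaf (nat_lit 0x1f0702eb71)) (.leaf (nat_lit 0x1f0602eba1)))) (.node 2 (.node 1 (.leaf (nat_lit 0x1f0802eba1)) (.leaf (nat_lit 0x1f0202ebb1))) (.node 1 (.leaf (nat_lit 0x1f0802ebb1)) (.leaf (nat_lit 0x1f0802ebe1))))))) (.node 16 (.node 8 (.node 4 (.node 2 (.node 1 (.leaf (nat_lit 0x1f0702ebf1)) (.leaf (nat_lit 0x1f0702ec01))) (.node 1 (.leaf (nat_lit 0x2303035d71)) (.leaf (nat_lit 0x1f0702ec21)))) (.node 2 (.node 1 (.leaf (nat_lit 0x230302ecb1)) (.leaf (nat_lit 0x21010310b1))) (.node 1 (.leaf (nat_lit 0x1f0302ec41)) (.leaf (nat_lit 0x1f0802ec41))))) (.node 4 (.node 2 (.node 1 (.leaf (nat_lit 0x210702ecf1)) (.leaf (nat_lit 0x210802ec51))) (.node 1 (.leaf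 (nat_lit 0x1f0202ec61)) (.leaf (nat_lit 0x1f0402ec61)))) (.node 2 (.node 1 (.leaf (nat_lit 0x1f0802ec61)) (.leaf (nat_lit 0x1f0102ec81))) (.node 1 (.leaf (nat_lit 0x1f0402ec81)) (.leaf (nat_lit 0x1f0802ec81)))))) (.node 8 (.node 4 (.node 2 (.node 1 (.leaf (nat_lit 0x1f0502ec91)) (.leaf (nat_lit 0x1f0802ec91))) (.node 1 (.leaf (nat_lit 0x1f0702eca1)) (.leaf (nat_lit 0x210403ed61)))) (.node 2 (.node 1 (.leaf (nat_lit 0x210302ecc1)) (.leaf (nat_lit 0x210802ecc1))) (.node 1 (.leaf (nat_lit 0x1f0202ecd1)) (.leaf (nat_lit 0x1f0402ecd1))))) (.node 4 (.node 2 (.node 1 (.leaf (nat_lit 0x1f0802ecd1)) (.leaf (nat_lit 0x1f0302eeb1))) (.node 1 (.leaf (nat_lit 0x1f0302eda1)) (.leaf (nat_lit 0x210802ecf1)))) (.node 2 (.node 1 (.leaf (nat_lit 0x1f0102ed11)) (.leaf (nat_lit 0x1f0402ed11))) (.node 1 (.leaf (nat_lit 0x1f0802ed11)) (.leaf (nat_lit 0x1f0502ed21)))))))) (.node 32 (.node 16 (.node 8 (.node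 4 (.node 2 (.node 1 (.leaf (nat_lit 0x1f0802ed21)) (.leaf (nat_lit 0x1f0702ed31))) (.node 1 (.leaf (nat_lit 0x1f0002ed41)) (.leaf (nat_lit 0x1f0402ed41)))) (.node 2 (.node 1 (.leaf (nat_lit 0x1f0802ed41)) (.leaf (nat_lit 0x1f0502ed51))) (.node 1 (.leaf (nat_lit 0x1f0802ed51)) (.leaf (nat_lit 0x1f0702ed61))))) (.node 4 (.node 2 (.node 1 (.leaf (nat_lit 0x1f0602ed71)) (.leaf (nat_lit 0x1f0802ed71))) (.node 1 (.leaf (nat_lit 0x1f0702ed81)) (.leaf (nat_lit 0x1f04033971)))) (.node 2 (.node 1 (.leaf (nat_lit 0x1f0802eda1)) (.leaf (nat_lit 0x1f0702edb1))) (.node 1 (.leaf (nat_lit 0x1f0602edc1)) (.leaf (nat_lit 0x1f0802edc1)))))) (.node 8 (.node 4 (.node 2 (.node 1 (.leaf (nat_lit 0x1f0702edd1)) (.leaf (nat_lit 0x210003f941))) (.node 1 (.leaf (nat_lit 0x1f0802edf1)) (.leaf (nat_lit 0x1f0702ee01)))) (.node 2 (.node 1 (.leaf (nat_lit 0x1f0302ee11)) (.leaf (nat_lit 0x2103032cd1))) (.node 1 (.leaf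 (nat_lit 0x1f0702ee31)) (.leaf (nat_lit 0x210802ee51))))) (.node 4 (.node 2 (.node 1 (.leaf (nat_lit 0x1f04032591)) (.leaf (nat_lit 0x1f0802ee61))) (.node 1 (.leaf (nat_lit 0x1f0102ee81)) (.leaf (nat_lit 0x1f0402ee81)))) (.node 2 (.node 1 (.leaf (nat_lit 0x1f0802ee81)) (.leaf (nat_lit 0x1f0802ee91))) (.node 1 (.leaf (nat_lit 0x1f0702eea1)) (.leaf (nat_lit 0x1f04035681))))))) (.node 16 (.node 8 (.node 4 (.node 2 (.node 1 (.leaf (nat_lit 0x1f0802eeb1)) (.leaf (nat_lit 0x1f0702eec1))) (.node 1 (.leaf (nat_lit 0x1f0002eed1)) (.leaf (nat_lit 0x1f0802eed1)))) (.node 2 (.node 1 (.leaf (nat_lit 0x1f0702eee1)) (.leaf (nat_lit 0x1f0802ef01))) (.node 1 (.leaf (nat_lit 0x1f0702ef11)) (.leaf (nat_lit 0x1f0302ef21))))) (.node 4 (.node 2 (.node 1 (.leaf (nat_lit 0x1f04032631)) (.leaf (nat_lit 0x1f0802ef41))) (.node 1 (.leaf (nat_lit 0x1f0702ef51)) (.leaf (nat_lit 0x1f0002ef61)))) (.node 2 (.node 1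 (.leaf (nat_lit 0x1f0402ef61)) (.leaf (nat_lit 0x1f0802ef61))) (.node 1 (.leaf (nat_lit 0x1f0802ef71)) (.leaf (nat_lit 0x1f0702ef81)))))) (.node 8 (.node 4 (.node 2 (.node 1 (.leaf (nat_lit 0x1f0702ef91)) (.leaf (nat_lit 0x210403e8c1))) (.node 1 (.leaf (nat_lit 0x210802efb1)) (.leaf (nat_lit 0x210702efc1)))) (.node 2 (.node 1 (.leaf (nat_lit 0x1f0802efe1)) (.leaf (nat_lit 0x1f0702eff1))) (.node 1 (.leaf (nat_lit 0x1f0302f001)) (.leaf (nat_lit 0x1f0702f011))))) (.node 4 (.node 2 (.node 1 (.leaf (nat_lit 0x1f0302f021)) (.leaf (nat_lit 0x1f0402f031))) (.node 1 (.leaf (nat_lit 0x140802f042)) (.leaf (nat_lit 0x140302f052)))) (.node 2 (.node 1 (.leaf (nat_lit 0x140802f052)) (.leaf (nat_lit 0x140802f062))) (.node 1 (.leaf (nat_lit 0x140302f082)) (.leaf (nat_lit 0x140802f082))))))))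

noncomputable def oT111 : Tree :=
  .node 64 (.node 32 (.node 16 (.node 8 (.node 4 (.node 2 (.node 1 (.leaf (nat_lit 0x140802f092)) (.leaf (nat_lit 0x140402f0b2))) (.node 1 (.leaf (nat_lit 0x140802f0b2)) (.leaf (nat_lit 0x140802f0d2)))) (.node 2 (.node 1 (.leaf (nat_lit 0x140702f0e2)) (.leaf (nat_lit 0x140202f0f2))) (.node 1 (.leaf (nat_lit 0x140802f0f2)) (.leaf (nat_lit 0x1f0802f111))))) (.node 4 (.node 2 (.node 1 (.leaf (nat_lit 0x1f0302f131)) (.leaf (nat_lit 0x1f0802f131))) (.node 1 (.leaf (nat_lit 0x140802f142)) (.leaf (nat_lit 0x140102f162)))) (.node 2 (.node 1 (.leaf (nat_lit 0x140802f162)) (.leaf (nat_lit 0x140702f172))) (.node 1 (.leaf (nat_lit 0x140602f192)) (.leaf (nat_lit 0x140702f192)))))) (.node 8 (.node 4 (.node 2 (.node 1 (.leaf (nat_lit 0x1f0802f4f1)) (.leaf (nat_lit 0x140702f1a2))) (.node 1 (.leaf (nat_lit 0x140802f1b2)) (.leaf (nat_lit 0x140602f1d2)))) (.node 2 (.node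 1 (.leaf (nat_lit 0x140702f1d2)) (.leaf (nat_lit 0x140502f1e2))) (.node 1 (.leaf (nat_lit 0x210402f201)) (.leaf (nat_lit 0x140702f1e2))))) (.node 4 (.node 2 (.node 1 (.leaf (nat_lit 0x140302f1f2)) (.leaf (nat_lit 0x140802f1f2))) (.node 1 (.leaf (nat_lit 0x1f0202f2a1)) (.leaf (nat_lit 0x140802f212)))) (.node 2 (.node 1 (.leaf (nat_lit 0x140402f222)) (.leaf (nat_lit 0x140802f222))) (.node 1 (.leaf (nat_lit 0x140702f242)) (.leaf (nat_lit 0x210802f5f1))))))) (.node 16 (.node 8 (.node 4 (.node 2 (.node 1 (.leaf (nat_lit 0x140702f252)) (.leaf (nat_lit 0x1f0402f2a1))) (.node 1 (.leaf (nat_lit 0x140802f272)) (.leaf (nat_lit 0x140202f282)))) (.node 2 (.node 1 (.leaf (nat_lit 0x140802f282)) (.leaf (nat_lit 0x1f0802f2a1))) (.node 1 (.leaf (nat_lit 0x1f050352b1)) (.leaf (nat_lit 0x140702f2c2))))) (.node 4 (.node 2 (.node 1 (.leaf (nat_lit 0x140302f2d2)) (.leaf (nat_lit 0x140802f2d2))) (.node 1 (.leaf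 (nat_lit 0x1f030352b1)) (.leaf (nat_lit 0x140702f2e2)))) (.node 2 (.node 1 (.leaf (nat_lit 0x210402f331)) (.leaf (nat_lit 0x140302f302))) (.node 1 (.leaf (nat_lit 0x140802f302)) (.leaf (nat_lit 0x140202f312)))))) (.node 8 (.node 4 (.node 2 (.node 1 (.leaf (nat_lit 0x140402f312)) (.leaf (nat_lit 0x140802f312))) (.node 1 (.leaf (nat_lit 0x1f0202f901)) (.leaf (nat_lit 0x1f0702f741)))) (.node 2 (.node 1 (.leaf (nat_lit 0x140802f342)) (.leaf (nat_lit 0x140502f362))) (.node 1 (.leaf (nat_lit 0x140802f362)) (.leaf (nat_lit 0x140702f372))))) (.node 4 (.node 2 (.node 1 (.leaf (nat_lit 0x140802f382)) (.leaf (nat_lit 0x140702f392))) (.node 1 (.leaf (nat_lit 0x210802f7d1)) (.leaf (nat_lit 0x210702f3b1)))) (.node 2 (.node 1 (.leaf (nat_lit 0x140802f3c2)) (.leaf (nat_lit 0x1f0402f8c1))) (.node 1 (.leaf (nat_lit 0x1f0702f7f1)) (.leaf (nat_lit 0x140802f3e2)))))))) (.node 32 (.node 16 (.node 8 (.node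 4 (.node 2 (.node 1 (.leaf (nat_lit 0x140102f402)) (.leaf (nat_lit 0x140802f402))) (.node 1 (.leaf (nat_lit 0x140702f412)) (.leaf (nat_lit 0x1f0302f471)))) (.node 2 (.node 1 (.leaf (nat_lit 0x140702f482)) (.leaf (nat_lit 0x140002f492))) (.node 1 (.leaf (nat_lit 0x140802f492)) (.leaf (nat_lit 0x140702f4a2))))) (.node 4 (.node 2 (.node 1 (.leaf (nat_lit 0x140702f4c2)) (.leaf (nat_lit 0x1f0402f4f1))) (.node 1 (.leaf (nat_lit 0x140702f4d2)) (.leaf (nat_lit 0x140302f4e2)))) (.node 2 (.node 1 (.leaf (nat_lit 0x140802f4e2)) (.leaf (nat_lit 0x140802f502))) (.node 1 (.leaf (nat_lit 0x210002f681)) (.leaf (nat_lit 0x140702f522)))))) (.node 8 (.node 4 (.node 2 (.node 1 (.leaf (nat_lit 0x140302f532)) (.leaf (nat_lit 0x140802f532))) (.node 1 (.leaf (nat_lit 0x210002f6c1)) (.leaf (nat_lit 0x140702f542)))) (.node 2 (.node 1 (.leaf (nat_lit 0x1f0002f6e1)) (.leaf (nat_lit 0x140302f562))) (.node 1 (.leaf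 (nat_lit 0x140802f562)) (.leaf (nat_lit 0x140202f572))))) (.node 4 (.node 2 (.node 1 (.leaf (nat_lit 0x140402f572)) (.leaf (nat_lit 0x140802f572))) (.node 1 (.leaf (nat_lit 0x1f0802f591)) (.leaf (nat_lit 0x140402f5a2)))) (.node 2 (.node 1 (.leaf (nat_lit 0x140802f5a2)) (.leaf (nat_lit 0x140802f5c2))) (.node 1 (.leaf (nat_lit 0x140702f5d2)) (.leaf (nat_lit 0x210002f7d1))))))) (.node 16 (.node 8 (.node 4 (.node 2 (.node 1 (.leaf (nat_lit 0x140802f602)) (.leaf (nat_lit 0x1f0802f611))) (.node 1 (.leaf (nat_lit 0x140202f622)) (.leaf (nat_lit 0x140802f622)))) (.node 2 (.node 1 (.leaf (nat_lit 0x140102f642)) (.leaf (nat_lit 0x140802f642))) (.node 1 (.leaf (nat_lit 0x140702f652)) (.leaf (nat_lit 0x1f080352b1))))) (.node 4 (.node 2 (.node 1 (.leaf (nat_lit 0x140702f672)) (.leaf (nat_lit 0x210103eaa1))) (.node 1 (.leaf (nat_lit 0x140302f692)) (.leaf (nat_lit 0x140802f692)))) (.node 2 (.node 1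 (.leaf (nat_lit 0x140202f6a2)) (.leaf (nat_lit 0x140402f6a2))) (.node 1 (.leaf (nat_lit 0x140802f6a2)) (.leaf (nat_lit 0x2101035c71)))))) (.node 8 (.node 4 (.node 2 (.node 1 (.leaf (nat_lit 0x140302f6d2)) (.leaf (nat_lit 0x140802f6d2))) (.node 1 (.leaf (nat_lit 0x1f01031f01)) (.leaf (nat_lit 0x1f0802f6e1)))) (.node 2 (.node 1 (.leaf (nat_lit 0x140202f6f2)) (.leaf (nat_lit 0x140402f6f2))) (.node 1 (.leaf (nat_lit 0x140802f6f2)) (.leaf (nat_lit 0x140102f712))))) (.node 4 (.node 2 (.node 1 (.leaf (nat_lit 0x140402f712)) (.leaf (nat_lit 0x140802f712))) (.node 1 (.leaf (nat_lit 0x140502f722)) (.leaf (nat_lit 0x140802f722)))) (.node 2 (.node 1 (.leaf (nat_lit 0x140702f732)) (.leaf (nat_lit 0x140802f752))) (.node 1 (.leaf (nat_lit 0x140702f762)) (.leaf (nat_lit 0x140602f772))))))))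

noncomputable def oT112 : Tree :=
  .node 64 (.node 32 (.node 16 (.node 8 (.node 4 (.node 2 (.node 1 (.leaf (nat_lit 0x140802f772)) (.leaf (nat_lit 0x140702f782))) (.node 1 (.leaf (nat_lit 0x1f030332e1)) (.leaf (nat_lit 0x140802f7a2)))) (.node 2 (.node 1 (.leaf (nat_lit 0x140702f7b2)) (.leaf (nat_lit 0x140802f802))) (.node 1 (.leaf (nat_lit 0x140702f812)) (.leaf (nat_lit 0x140002f822))))) (.node 4 (.node 2 (.node 1 (.leaf (nat_lit 0x140802f822)) (.leaf (nat_lit 0x140702f832))) (.node 1 (.leaf (nat_lit 0x140802f862)) (.leaf (nat_lit 0x140702f872)))) (.node 2 (.node 1 (.leaf (nat_lit 0x1f0802f891)) (.leaf (nat_lit 0x1f0302f8b1))) (.node 1 (.leaf (nat_lit 0x1f0802f8b1)) (.leaf (nat_lit 0x1f0802f8c1)))))) (.node 8 (.node 4 (.node 2 (.node 1 (.leaf (nat_lit 0x1f0702f8e1)) (.leaf (nat_lit 0x1f0302f8f1))) (.node 1 (.leaf (nat_lit 0x1f0802f8f1)) (.leaf (nat_lit 0x1f0802f901)))) (.node 2 (.node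 1 (.leaf (nat_lit 0x1f0802f921)) (.leaf (nat_lit 0x1f0402f951))) (.node 1 (.leaf (nat_lit 0x1f0802f951)) (.leaf (nat_lit 0x1f0502f971))))) (.node 4 (.node 2 (.node 1 (.leaf (nat_lit 0x1f0802f971)) (.leaf (nat_lit 0x1f0702f981))) (.node 1 (.leaf (nat_lit 0x1f0802f991)) (.leaf (nat_lit 0x1f0702f9a1)))) (.node 2 (.node 1 (.leaf (nat_lit 0x1f0302f9c1)) (.leaf (nat_lit 0x1f0802f9c1))) (.node 1 (.leaf (nat_lit 0x1f0202f9d1)) (.leaf (nat_lit 0x1f0802f9d1))))))) (.node 16 (.node 8 (.node 4 (.node 2 (.node 1 (.leaf (nat_lit 0x1f0102f9f1)) (.leaf (nat_lit 0x1f0802f9f1))) (.node 1 (.leaf (nat_lit 0x1f0702fa01)) (.leaf (nat_lit 0x1f0302fa21)))) (.node 2 (.node 1 (.leaf (nat_lit 0x1f0802fa21)) (.leaf (nat_lit 0x1f0202fa31))) (.node 1 (.leaf (nat_lit 0x1f0402fa31)) (.leaf (nat_lit 0x1f0802fa31))))) (.node 4 (.node 2 (.node 1 (.leaf (nat_lit 0x1f05031b91)) (.leaf (nat_lit 0x210802fa51))) (.node 1 (.leaf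 (nat_lit 0x1f0102fa71)) (.leaf (nat_lit 0x1f0802fa71)))) (.node 2 (.node 1 (.leaf (nat_lit 0x1f0702fa81)) (.leaf (nat_lit 0x1f0002fa91))) (.node 1 (.leaf (nat_lit 0x1f0802fa91)) (.leaf (nat_lit 0x1f0702faa1)))))) (.node 8 (.node 4 (.node 2 (.node 1 (.leaf (nat_lit 0x1f0602fac1)) (.leaf (nat_lit 0x1f0702fac1))) (.node 1 (.leaf (nat_lit 0x1f0502fad1)) (.leaf (nat_lit 0x210802ffb1)))) (.node 2 (.node 1 (.leaf (nat_lit 0x1f0702fad1)) (.leaf (nat_lit 0x1f0302fae1))) (.node 1 (.leaf (nat_lit 0x1f0802fae1)) (.leaf (nat_lit 0x210102fb91))))) (.node 4 (.node 2 (.node 1 (.leaf (nat_lit 0x1f0802fb01)) (.leaf (nat_lit 0x1f0502fb21))) (.node 1 (.leaf (nat_lit 0x21060401b1)) (.leaf (nat_lit 0x1f0702fb21)))) (.node 2 (.node 1 (.leaf (nat_lit 0x1f0302fb31)) (.leaf (nat_lit 0x1f0802fb31))) (.node 1 (.leaf (nat_lit 0x230502fb51)) (.leaf (nat_lit 0x1f0702fb41)))))))) (.node 32 (.node 16 (.node 8 (.node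 4 (.node 2 (.node 1 (.leaf (nat_lit 0x210402fb91)) (.leaf (nat_lit 0x1f0302fb61))) (.node 1 (.leaf (nat_lit 0x1f0802fb61)) (.leaf (nat_lit 0x1f0202fb71)))) (.node 2 (.node 1 (.leaf (nat_lit 0x1f0402fb71)) (.leaf (nat_lit 0x1f0802fb71))) (.node 1 (.leaf (nat_lit 0x210802fb91)) (.leaf (nat_lit 0x1f0402fba1))))) (.node 4 (.node 2 (.node 1 (.leaf (nat_lit 0x1f0802fba1)) (.leaf (nat_lit 0x1f0802fbc1))) (.node 1 (.leaf (nat_lit 0x1f0702fbd1)) (.leaf (nat_lit 0x2308030141)))) (.node 2 (.node 1 (.leaf (nat_lit 0x210502fc11)) (.leaf (nat_lit 0x1f0302fc01))) (.node 1 (.leaf (nat_lit 0x1f0802fc01)) (.leaf (nat_lit 0x210802fc11)))))) (.node 8 (.node 4 (.node 2 (.node 1 (.leaf (nat_lit 0x1f0202fc21)) (.leaf (nat_lit 0x1f0802fc21))) (.node 1 (.leaf (nat_lit 0x1f0102fc41)) (.leaf (nat_lit 0x1f0802fc41)))) (.node 2 (.node 1 (.leaf (nat_lit 0x1f0702fc51)) (.leaf (nat_lit 0x1f0402fc71))) (.node 1 (.leaf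 (nat_lit 0x210603ee21)) (.leaf (nat_lit 0x1f0702fc71))))) (.node 4 (.node 2 (.node 1 (.leaf (nat_lit 0x1f060353a1)) (.leaf (nat_lit 0x1f0302fc91))) (.node 1 (.leaf (nat_lit 0x1f0802fc91)) (.leaf (nat_lit 0x1f0202fca1)))) (.node 2 (.node 1 (.leaf (nat_lit 0x1f0402fca1)) (.leaf (nat_lit 0x1f0802fca1))) (.node 1 (.leaf (nat_lit 0x210503ee11)) (.leaf (nat_lit 0x230502fce1))))))) (.node 16 (.node 8 (.node 4 (.node 2 (.node 1 (.leaf (nat_lit 0x1f0302fcd1)) (.leaf (nat_lit 0x1f0802fcd1))) (.node 1 (.leaf (nat_lit 0x2104040c81)) (.leaf (nat_lit 0x21070302d1)))) (.node 2 (.node 1 (.leaf (nat_lit 0x1f0202fcf1)) (.leaf (nat_lit 0x1f0402fcf1))) (.node 1 (.leaf (nat_lit 0x1f0802fcf1)) (.leaf (nat_lit 0x1f0102fd11))))) (.node 4 (.node 2 (.node 1 (.leaf (nat_lit 0x1f0402fd11)) (.leaf (nat_lit 0x1f0802fd11))) (.node 1 (.leaf (nat_lit 0x1f0502fd21)) (.leaf (nat_lit 0x1f0802fd21)))) (.node 2 (.node 1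 (.leaf (nat_lit 0x1f0702fd31)) (.leaf (nat_lit 0x210802fd41))) (.node 1 (.leaf (nat_lit 0x1f0502fd61)) (.leaf (nat_lit 0x1f0802fd61)))))) (.node 8 (.node 4 (.node 2 (.node 1 (.leaf (nat_lit 0x1f0702fd71)) (.leaf (nat_lit 0x1f0602fd81))) (.node 1 (.leaf (nat_lit 0x1f0802fd81)) (.leaf (nat_lit 0x1f0702fd91)))) (.node 2 (.node 1 (.leaf (nat_lit 0x1f0802fdb1)) (.leaf (nat_lit 0x1f0702fdc1))) (.node 1 (.leaf (nat_lit 0x2104030b71)) (.leaf (nat_lit 0x210502fe21))))) (.node 4 (.node 2 (.node 1 (.leaf (nat_lit 0x2107030441)) (.leaf (nat_lit 0x1f0202fe01))) (.node 1 (.leaf (nat_lit 0x1f0402fe01)) (.leaf (nat_lit 0x1f0802fe01)))) (.node 2 (.node 1 (.leaf (nat_lit 0x210802fe21)) (.leaf (nat_lit 0x1f0102fe41))) (.node 1 (.leaf (nat_lit 0x1f0802fe41)) (.leaf (nat_lit 0x1f0702fe51))))))))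

noncomputable def oT113 : Tree :=
  .node 64 (.node 32 (.node 16 (.node 8 (.node 4 (.node 2 (.node 1 (.leaf (nat_lit 0x1f0002fe61)) (.leaf (nat_lit 0x1f0802fe61))) (.node 1 (.leaf (nat_lit 0x1f0702fe71)) (.leaf (nat_lit 0x2107030501)))) (.node 2 (.node 1 (.leaf (nat_lit 0x1f03030c51)) (.leaf (nat_lit 0x2104041151))) (.node 1 (.leaf (nat_lit 0x1f0102fec1)) (.leaf (nat_lit 0x1f0402fec1))))) (.node 4 (.node 2 (.node 1 (.leaf (nat_lit 0x1f0802fec1)) (.leaf (nat_lit 0x1f0802fed1))) (.node 1 (.leaf (nat_lit 0x1f0702fee1)) (.leaf (nat_lit 0x2106033311)))) (.node 2 (.node 1 (.leaf (nat_lit 0x1f030323c1)) (.leaf (nat_lit 0x1f03030581))) (.node 1 (.leaf (nat_lit 0x1f0002ff11)) (.leaf (nat_lit 0x1f0802ff11)))))) (.node 8 (.node 4 (.node 2 (.node 1 (.leaf (nat_lit 0x1f0702ff21)) (.leaf (nat_lit 0x1f0802ff41))) (.node 1 (.leaf (nat_lit 0x1f0702ff51)) (.leaf (nat_lit 0x1f0302ff61)))) (.node 2 (.node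 1 (.leaf (nat_lit 0x1f0602ff71)) (.leaf (nat_lit 0x1f0502ff81))) (.node 1 (.leaf (nat_lit 0x210302ffb1)) (.leaf (nat_lit 0x1f0702ff81))))) (.node 4 (.node 2 (.node 1 (.leaf (nat_lit 0x1f0302ff91)) (.leaf (nat_lit 0x1f0802ff91))) (.node 1 (.leaf (nat_lit 0x210502ffb1)) (.leaf (nat_lit 0x1f0702ffa1)))) (.node 2 (.node 1 (.leaf (nat_lit 0x1f0402fff1)) (.leaf (nat_lit 0x1f0302ffc1))) (.node 1 (.leaf (nat_lit 0x1f0802ffc1)) (.leaf (nat_lit 0x1f0202ffd1))))))) (.node 16 (.node 8 (.node 4 (.node 2 (.node 1 (.leaf (nat_lit 0x1f0802ffd1)) (.leaf (nat_lit 0x1f0802fff1))) (.node 1 (.leaf (nat_lit 0x1f04030011)) (.leaf (nat_lit 0x2300030201)))) (.node 2 (.node 1 (.leaf (nat_lit 0x1f07030011)) (.leaf (nat_lit 0x2306040511))) (.node 1 (.leaf (nat_lit 0x1f03030031)) (.leaf (nat_lit 0x1f08030031))))) (.node 4 (.node 2 (.node 1 (.leaf (nat_lit 0x1f02030041)) (.leaf (nat_lit 0x1f04030041))) (.node 1 (.leaf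 (nat_lit 0x1f08030041)) (.leaf (nat_lit 0x2300030281)))) (.node 2 (.node 1 (.leaf (nat_lit 0x2100030291)) (.leaf (nat_lit 0x1f03030071))) (.node 1 (.leaf (nat_lit 0x1f08030071)) (.leaf (nat_lit 0x21000302c1)))))) (.node 8 (.node 4 (.node 2 (.node 1 (.leaf (nat_lit 0x2108030081)) (.leaf (nat_lit 0x1f02030091))) (.node 1 (.leaf (nat_lit 0x1f04030091)) (.leaf (nat_lit 0x1f08030091)))) (.node 2 (.node 1 (.leaf (nat_lit 0x1f010300b1)) (.leaf (nat_lit 0x1f040300b1))) (.node 1 (.leaf (nat_lit 0x1f080300b1)) (.leaf (nat_lit 0x1f080300c1))))) (.node 4 (.node 2 (.node 1 (.leaf (nat_lit 0x1f070300d1)) (.leaf (nat_lit 0x1f00030371))) (.node 1 (.leaf (nat_lit 0x1f080300e1)) (.leaf (nat_lit 0x1f05030101)))) (.node 2 (.node 1 (.leaf (nat_lit 0x1f08030101)) (.leaf (nat_lit 0x1f07030111))) (.node 1 (.leaf (nat_lit 0x1f07030121)) (.leaf (nat_lit 0x2100030421)))))))) (.node 32 (.node 16 (.node 8 (.node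 4 (.node 2 (.node 1 (.leaf (nat_lit 0x1f00030431)) (.leaf (nat_lit 0x2108030151))) (.node 1 (.leaf (nat_lit 0x1f02030161)) (.leaf (nat_lit 0x1f04030161)))) (.node 2 (.node 1 (.leaf (nat_lit 0x1f08030161)) (.leaf (nat_lit 0x1f00030481))) (.node 1 (.leaf (nat_lit 0x1f08030181)) (.leaf (nat_lit 0x1f010301a1))))) (.node 4 (.node 2 (.node 1 (.leaf (nat_lit 0x1f080301a1)) (.leaf (nat_lit 0x1f070301b1))) (.node 1 (.leaf (nat_lit 0x1f000301c1)) (.leaf (nat_lit 0x1f080301c1)))) (.node 2 (.node 1 (.leaf (nat_lit 0x1f070301d1)) (.leaf (nat_lit 0x2304030201))) (.node 1 (.leaf (nat_lit 0x1f070301f1)) (.leaf (nat_lit 0x210803ee21)))))) (.node 8 (.node 4 (.node 2 (.node 1 (.leaf (nat_lit 0x230103ef71)) (.leaf (nat_lit 0x1f03030211))) (.node 1 (.leaf (nat_lit 0x1f08030211)) (.leaf (nat_lit 0x210103efa1)))) (.node 2 (.node 1 (.leaf (nat_lit 0x2107040e01)) (.leaf (nat_lit 0x1f02030231))) (.node 1 (.leaf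 (nat_lit 0x1f04030231)) (.leaf (nat_lit 0x1f08030231))))) (.node 4 (.node 2 (.node 1 (.leaf (nat_lit 0x1f01030251)) (.leaf (nat_lit 0x1f04030251))) (.node 1 (.leaf (nat_lit 0x1f08030251)) (.leaf (nat_lit 0x1f05030261)))) (.node 2 (.node 1 (.leaf (nat_lit 0x1f08030261)) (.leaf (nat_lit 0x1f07030271))) (.node 1 (.leaf (nat_lit 0x210103ed61)) (.leaf (nat_lit 0x210103f011))))))) (.node 16 (.node 8 (.node 4 (.node 2 (.node 1 (.leaf (nat_lit 0x2108030291)) (.leaf (nat_lit 0x1f020302a1))) (.node 1 (.leaf (nat_lit 0x1f040302a1)) (.leaf (nat_lit 0x1f080302a1)))) (.node 2 (.node 1 (.leaf (nat_lit 0x1f01033691)) (.leaf (nat_lit 0x1f010338f1))) (.node 1 (.leaf (nat_lit 0x21080302c1)) (.leaf (nat_lit 0x1f010302e1))))) (.node 4 (.node 2 (.node 1 (.leaf (nat_lit 0x1f040302e1)) (.leaf (nat_lit 0x1f080302e1))) (.node 1 (.leaf (nat_lit 0x1f050302f1)) (.leaf (nat_lit 0x1f080302f1)))) (.node 2 (.node 1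 (.leaf (nat_lit 0x1f07030301)) (.leaf (nat_lit 0x1f00030311))) (.node 1 (.leaf (nat_lit 0x1f04030311)) (.leaf (nat_lit 0x1f08030311)))))) (.node 8 (.node 4 (.node 2 (.node 1 (.leaf (nat_lit 0x1f05030321)) (.leaf (nat_lit 0x1f08030321))) (.node 1 (.leaf (nat_lit 0x1f07030331)) (.leaf (nat_lit 0x1f06030341)))) (.node 2 (.node 1 (.leaf (nat_lit 0x1f08030341)) (.leaf (nat_lit 0x1f07030351))) (.node 1 (.leaf (nat_lit 0x1f01033971)) (.leaf (nat_lit 0x1f08030371))))) (.node 4 (.node 2 (.node 1 (.leaf (nat_lit 0x1f07030381)) (.leaf (nat_lit 0x1f06030391))) (.node 1 (.leaf (nat_lit 0x1f08030391)) (.leaf (nat_lit 0x1f070303a1)))) (.node 2 (.node 1 (.leaf (nat_lit 0x210003ecf1)) (.leaf (nat_lit 0x1f080303c1))) (.node 1 (.leaf (nat_lit 0x1f070303d1)) (.leaf (nat_lit 0x1f030303e1))))))))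

noncomputable def oT114 : Tree :=
  .node 64 (.node 32 (.node 16 (.node 8 (.node 4 (.node 2 (.node 1 (.leaf (nat_lit 0x1f03033c61)) (.leaf (nat_lit 0x1f07030401))) (.node 1 (.leaf (nat_lit 0x2108030421)) (.leaf (nat_lit 0x1f01033751)))) (.node 2 (.node 1 (.leaf (nat_lit 0x1f04030431)) (.leaf (nat_lit 0x1f08030431))) (.node 1 (.leaf (nat_lit 0x1f01030451)) (.leaf (nat_lit 0x1f04030451))))) (.node 4 (.node 2 (.node 1 (.leaf (nat_lit 0x1f08030451)) (.leaf (nat_lit 0x1f08030461))) (.node 1 (.leaf (nat_lit 0x1f07030471)) (.leaf (nat_lit 0x1f08030481)))) (.node 2 (.node 1 (.leaf (nat_lit 0x1f07030491)) (.leaf (nat_lit 0x1f000304a1))) (.node 1 (.leaf (nat_lit 0x1f080304a1)) (.leaf (nat_lit 0x1f070304b1)))))) (.node 8 (.node 4 (.node 2 (.node 1 (.leaf (nat_lit 0x1f080304d1)) (.leaf (nat_lit 0x1f070304e1))) (.node 1 (.leaf (nat_lit 0x1f030304f1)) (.leaf (nat_lit 0x1f08030511)))) (.node 2 (.node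 1 (.leaf (nat_lit 0x1f07030521)) (.leaf (nat_lit 0x1f00030531))) (.node 1 (.leaf (nat_lit 0x1f04030531)) (.leaf (nat_lit 0x1f08030531))))) (.node 4 (.node 2 (.node 1 (.leaf (nat_lit 0x1f08030541)) (.leaf (nat_lit 0x1f07030551))) (.node 1 (.leaf (nat_lit 0x1f07030561)) (.leaf (nat_lit 0x1f08030591)))) (.node 2 (.node 1 (.leaf (nat_lit 0x1f070305a1)) (.leaf (nat_lit 0x1f070305c1))) (.node 1 (.leaf (nat_lit 0x1f030305d1)) (.leaf (nat_lit 0x1f080305f1))))))) (.node 16 (.node 8 (.node 4 (.node 2 (.node 1 (.leaf (nat_lit 0x1f07030611)) (.leaf (nat_lit 0x1f04030621))) (.node 1 (.leaf (nat_lit 0x1f08030621)) (.leaf (nat_lit 0x1f08030641)))) (.node 2 (.node 1 (.leaf (nat_lit 0x1f07030651)) (.leaf (nat_lit 0x1f08030691))) (.node 1 (.leaf (nat_lit 0x1f080306b1)) (.leaf (nat_lit 0x1f050306d1))))) (.node 4 (.node 2 (.node 1 (.leaf (nat_lit 0x1f080306d1)) (.leaf (nat_lit 0x1f070306e1))) (.node 1 (.leaf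 (nat_lit 0x1f060306f1)) (.leaf (nat_lit 0x1f080306f1)))) (.node 2 (.node 1 (.leaf (nat_lit 0x1f07030701)) (.leaf (nat_lit 0x1f08030721))) (.node 1 (.leaf (nat_lit 0x1f07030731)) (.leaf (nat_lit 0x1f03030741)))))) (.node 8 (.node 4 (.node 2 (.node 1 (.leaf (nat_lit 0x1f08030781)) (.leaf (nat_lit 0x2303034d11))) (.node 1 (.leaf (nat_lit 0x1f070307d1)) (.leaf (nat_lit 0x2304030821)))) (.node 2 (.node 1 (.leaf (nat_lit 0x1f030307f1)) (.leaf (nat_lit 0x1f080307f1))) (.node 1 (.leaf (nat_lit 0x1f02030801)) (.leaf (nat_lit 0x1f08030801))))) (.node 4 (.node 2 (.node 1 (.leaf (nat_lit 0x2107030df1)) (.leaf (nat_lit 0x2308030e81))) (.node 1 (.leaf (nat_lit 0x2305030861)) (.leaf (nat_lit 0x1f03030851)))) (.node 2 (.node 1 (.leaf (nat_lit 0x1f08030851)) (.leaf (nat_lit 0x2102033ff1))) (.node 1 (.leaf (nat_lit 0x2308030861)) (.leaf (nat_lit 0x1f04030871)))))))) (.node 32 (.node 16 (.node 8 (.node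 4 (.node 2 (.node 1 (.leaf (nat_lit 0x1f08030871)) (.leaf (nat_lit 0x1f08030891))) (.node 1 (.leaf (nat_lit 0x1f070308a1)) (.leaf (nat_lit 0x1f02035d81)))) (.node 2 (.node 1 (.leaf (nat_lit 0x21080308b1)) (.leaf (nat_lit 0x1f050308d1))) (.node 1 (.leaf (nat_lit 0x1f080308d1)) (.leaf (nat_lit 0x1f070308e1))))) (.node 4 (.node 2 (.node 1 (.leaf (nat_lit 0x1f070308f1)) (.leaf (nat_lit 0x2103034cd1))) (.node 1 (.leaf (nat_lit 0x2308030921)) (.leaf (nat_lit 0x2307041f01)))) (.node 2 (.node 1 (.leaf (nat_lit 0x1f07030951)) (.leaf (nat_lit 0x23080310a1))) (.node 1 (.leaf (nat_lit 0x23020316b1)) (.leaf (nat_lit 0x1f03030971)))))) (.node 8 (.node 4 (.node 2 (.node 1 (.leaf (nat_lit 0x1f08030971)) (.leaf (nat_lit 0x2104041f81))) (.node 1 (.leaf (nat_lit 0x21070310f1)) (.leaf (nat_lit 0x1f04030991)))) (.node 2 (.node 1 (.leaf (nat_lit 0x1f08030991)) (.leaf (nat_lit 0x1f080309b1))) (.node 1 (.leaf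 (nat_lit 0x1f070309c1)) (.leaf (nat_lit 0x2102030b71))))) (.node 4 (.node 2 (.node 1 (.leaf (nat_lit 0x2102042001)) (.leaf (nat_lit 0x2302030b91))) (.node 1 (.leaf (nat_lit 0x1f020309f1)) (.leaf (nat_lit 0x1f040309f1)))) (.node 2 (.node 1 (.leaf (nat_lit 0x1f080309f1)) (.leaf (nat_lit 0x1f04035cb1))) (.node 1 (.leaf (nat_lit 0x1f02035cb1)) (.leaf (nat_lit 0x2108030a11))))))) (.node 16 (.node 8 (.node 4 (.node 2 (.node 1 (.leaf (nat_lit 0x1f01030a31)) (.leaf (nat_lit 0x1f04030a31))) (.node 1 (.leaf (nat_lit 0x1f08030a31)) (.leaf (nat_lit 0x1f05030a41)))) (.node 2 (.node 1 (.leaf (nat_lit 0x1f08030a41)) (.leaf (nat_lit 0x1f07030a51))) (.node 1 (.leaf (nat_lit 0x1f08030a61)) (.leaf (nat_lit 0x1f08030a71))))) (.node 4 (.node 2 (.node 1 (.leaf (nat_lit 0x1f07030a81)) (.leaf (nat_lit 0x1f06030a91))) (.node 1 (.leaf (nat_lit 0x1f08030a91)) (.leaf (nat_lit 0x1f07030aa1)))) (.node 2 (.node 1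 (.leaf (nat_lit 0x1f02034cb1)) (.leaf (nat_lit 0x1f08030ac1))) (.node 1 (.leaf (nat_lit 0x2103031331)) (.leaf (nat_lit 0x1f06030ae1)))))) (.node 8 (.node 4 (.node 2 (.node 1 (.leaf (nat_lit 0x1f08030ae1)) (.leaf (nat_lit 0x1f07030af1))) (.node 1 (.leaf (nat_lit 0x1f04030b41)) (.leaf (nat_lit 0x1f08030b11)))) (.node 2 (.node 1 (.leaf (nat_lit 0x1f07030b21)) (.leaf (nat_lit 0x1f03030b31))) (.node 1 (.leaf (nat_lit 0x1f08030b41)) (.leaf (nat_lit 0x1f07030b51))))) (.node 4 (.node 2 (.node 1 (.leaf (nat_lit 0x1f070316e1)) (.leaf (nat_lit 0x2103042271))) (.node 1 (.leaf (nat_lit 0x1f070316f1)) (.leaf (nat_lit 0x1f07031701)))) (.node 2 (.node 1 (.leaf (nat_lit 0x2107034db1)) (.leaf (nat_lit 0x1f01030ba1))) (.node 1 (.leaf (nat_lit 0x1f04030ba1)) (.leaf (nat_lit 0x1f08030ba1))))))))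

noncomputable def oT115 : Tree :=
  .node 64 (.node 32 (.node 16 (.node 8 (.node 4 (.node 2 (.node 1 (.leaf (nat_lit 0x1f08030bb1)) (.leaf (nat_lit 0x1f08030bd1))) (.node 1 (.leaf (nat_lit 0x1f08030bf1)) (.leaf (nat_lit 0x1f07034321)))) (.node 2 (.node 1 (.leaf (nat_lit 0x1f07030ca1)) (.leaf (nat_lit 0x1f07030c91))) (.node 1 (.leaf (nat_lit 0x1f08030c81)) (.leaf (nat_lit 0x1f08030c71))))) (.node 4 (.node 2 (.node 1 (.leaf (nat_lit 0x1f07030ce1)) (.leaf (nat_lit 0x1f03030cf1))) (.node 1 (.leaf (nat_lit 0x1f04030d31)) (.leaf (nat_lit 0x21070422d1)))) (.node 2 (.node 1 (.leaf (nat_lit 0x1f07030d31)) (.leaf (nat_lit 0x1f02034d61))) (.node 1 (.leaf (nat_lit 0x1f03030d51)) (.leaf (nat_lit 0x1f08030d51)))))) (.node 8 (.node 4 (.node 2 (.node 1 (.leaf (nat_lit 0x1f08030d61)) (.leaf (nat_lit 0x2303034d21))) (.node 1 (.leaf (nat_lit 0x2105030da1)) (.leaf (nat_lit 0x1f03030d91)))) (.node 2 (.node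 1 (.leaf (nat_lit 0x1f08030d91)) (.leaf (nat_lit 0x2103030da1))) (.node 1 (.leaf (nat_lit 0x2108030da1)) (.leaf (nat_lit 0x1f02030db1))))) (.node 4 (.node 2 (.node 1 (.leaf (nat_lit 0x1f08030db1)) (.leaf (nat_lit 0x1f08030dd1))) (.node 1 (.leaf (nat_lit 0x1f07030de1)) (.leaf (nat_lit 0x21070423f1)))) (.node 2 (.node 1 (.leaf (nat_lit 0x1f07030e01)) (.leaf (nat_lit 0x2107042421))) (.node 1 (.leaf (nat_lit 0x1f02031781)) (.leaf (nat_lit 0x1f03030e21))))))) (.node 16 (.node 8 (.node 4 (.node 2 (.node 1 (.leaf (nat_lit 0x1f08030e21)) (.leaf (nat_lit 0x1f02034ff1))) (.node 1 (.leaf (nat_lit 0x1f08030e31)) (.leaf (nat_lit 0x1f04030e41)))) (.node 2 (.node 1 (.leaf (nat_lit 0x1f08030e41)) (.leaf (nat_lit 0x1f08030e61))) (.node 1 (.leaf (nat_lit 0x1f07030e71)) (.leaf (nat_lit 0x2304041401))))) (.node 4 (.node 2 (.node 1 (.leaf (nat_lit 0x2107042431)) (.leaf (nat_lit 0x2308030e91))) (.node 1 (.leaf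 (nat_lit 0x1f02030ea1)) (.leaf (nat_lit 0x1f04030ea1)))) (.node 2 (.node 1 (.leaf (nat_lit 0x1f08030ea1)) (.leaf (nat_lit 0x1f07034ff1))) (.node 1 (.leaf (nat_lit 0x2103030f61)) (.leaf (nat_lit 0x2108030ec1)))))) (.node 8 (.node 4 (.node 2 (.node 1 (.leaf (nat_lit 0x1f01030ee1)) (.leaf (nat_lit 0x1f04030ee1))) (.node 1 (.leaf (nat_lit 0x1f08030ee1)) (.leaf (nat_lit 0x1f05030ef1)))) (.node 2 (.node 1 (.leaf (nat_lit 0x1f08030ef1)) (.leaf (nat_lit 0x1f07030f01))) (.node 1 (.leaf (nat_lit 0x1f08030f11)) (.leaf (nat_lit 0x1f08030f21))))) (.node 4 (.node 2 (.node 1 (.leaf (nat_lit 0x1f07030f31)) (.leaf (nat_lit 0x1f07030f41))) (.node 1 (.leaf (nat_lit 0x2104041551)) (.leaf (nat_lit 0x2108030f61)))) (.node 2 (.node 1 (.leaf (nat_lit 0x2107030f71)) (.leaf (nat_lit 0x1f08030f81))) (.node 1 (.leaf (nat_lit 0x1f07030f91)) (.leaf (nat_lit 0x1f03030fb1)))))))) (.node 32 (.node 16 (.node 8 (.node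 4 (.node 2 (.node 1 (.leaf (nat_lit 0x21070317b1)) (.leaf (nat_lit 0x2308030fc1))) (.node 1 (.leaf (nat_lit 0x1f070317c1)) (.leaf (nat_lit 0x21030415d1)))) (.node 2 (.node 1 (.leaf (nat_lit 0x2108030fd1)) (.leaf (nat_lit 0x1f01030ff1))) (.node 1 (.leaf (nat_lit 0x1f04030ff1)) (.leaf (nat_lit 0x1f08030ff1))))) (.node 4 (.node 2 (.node 1 (.leaf (nat_lit 0x1f08031001)) (.leaf (nat_lit 0x1f08031021))) (.node 1 (.leaf (nat_lit 0x1f00031041)) (.leaf (nat_lit 0x1f08031041)))) (.node 2 (.node 1 (.leaf (nat_lit 0x1f08031061)) (.leaf (nat_lit 0x2307042781))) (.node 1 (.leaf (nat_lit 0x2102031821)) (.leaf (nat_lit 0x1f03031091)))))) (.node 8 (.node 4 (.node 2 (.node 1 (.leaf (nat_lit 0x1f08031091)) (.leaf (nat_lit 0x2102031851))) (.node 1 (.leaf (nat_lit 0x2102042801)) (.leaf (nat_lit 0x21080310b1)))) (.node 2 (.node 1 (.leaf (nat_lit 0x1f020310c1)) (.leaf (nat_lit 0x1f040310c1))) (.node 1 (.leaf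 (nat_lit 0x1f080310c1)) (.leaf (nat_lit 0x1f030318b1))))) (.node 4 (.node 2 (.node 1 (.leaf (nat_lit 0x2107031201)) (.leaf (nat_lit 0x21080310e1))) (.node 1 (.leaf (nat_lit 0x1f01031101)) (.leaf (nat_lit 0x1f04031101)))) (.node 2 (.node 1 (.leaf (nat_lit 0x1f08031101)) (.leaf (nat_lit 0x1f05031111))) (.node 1 (.leaf (nat_lit 0x1f08031111)) (.leaf (nat_lit 0x1f07031121))))))) (.node 16 (.node 8 (.node 4 (.node 2 (.node 1 (.leaf (nat_lit 0x1f08031131)) (.leaf (nat_lit 0x1f05031141))) (.node 1 (.leaf (nat_lit 0x1f08031141)) (.leaf (nat_lit 0x1f07031151)))) (.node 2 (.node 1 (.leaf (nat_lit 0x1f06031161)) (.leaf (nat_lit 0x1f08031161))) (.node 1 (.leaf (nat_lit 0x1f07031171)) (.leaf (nat_lit 0x2303031191))))) (.node 4 (.node 2 (.node 1 (.leaf (nat_lit 0x2308031191)) (.leaf (nat_lit 0x2107042801))) (.node 1 (.leaf (nat_lit 0x2303041871)) (.leaf (nat_lit 0x23080311a1)))) (.node 2 (.node 1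 (.leaf (nat_lit 0x1f010311c1)) (.leaf (nat_lit 0x1f040311c1))) (.node 1 (.leaf (nat_lit 0x1f080311c1)) (.leaf (nat_lit 0x1f050311d1)))))) (.node 8 (.node 4 (.node 2 (.node 1 (.leaf (nat_lit 0x1f080311d1)) (.leaf (nat_lit 0x1f070311e1))) (.node 1 (.leaf (nat_lit 0x210203fc21)) (.leaf (nat_lit 0x2102031201)))) (.node 2 (.node 1 (.leaf (nat_lit 0x21080311f1)) (.leaf (nat_lit 0x2103031311))) (.node 1 (.leaf (nat_lit 0x2108031201)) (.leaf (nat_lit 0x2307031211))))) (.node 4 (.node 2 (.node 1 (.leaf (nat_lit 0x1f00031221)) (.leaf (nat_lit 0x1f04031221))) (.node 1 (.leaf (nat_lit 0x1f08031221)) (.leaf (nat_lit 0x1f05031231)))) (.node 2 (.node 1 (.leaf (nat_lit 0x1f08031231)) (.leaf (nat_lit 0x1f07031241))) (.node 1 (.leaf (nat_lit 0x1f06031251)) (.leaf (nat_lit 0x1f08031251))))))))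

noncomputable def oT116 : Tree :=
  .node 64 (.node 32 (.node 16 (.node 8 (.node 4 (.node 2 (.node 1 (.leaf (nat_lit 0x1f07031261)) (.leaf (nat_lit 0x1f08031281))) (.node 1 (.leaf (nat_lit 0x1f05031291)) (.leaf (nat_lit 0x1f08031291)))) (.node 2 (.node 1 (.leaf (nat_lit 0x1f070312a1)) (.leaf (nat_lit 0x1f060312b1))) (.node 1 (.leaf (nat_lit 0x1f080312b1)) (.leaf (nat_lit 0x1f070312c1))))) (.node 4 (.node 2 (.node 1 (.leaf (nat_lit 0x1f030312d1)) (.leaf (nat_lit 0x210003f311))) (.node 1 (.leaf (nat_lit 0x1f080312e1)) (.leaf (nat_lit 0x1f070312f1)))) (.node 2 (.node 1 (.leaf (nat_lit 0x1f03031301)) (.leaf (nat_lit 0x21040415f1))) (.node 1 (.leaf (nat_lit 0x2108031311)) (.leaf (nat_lit 0x2107031321)))))) (.node 8 (.node 4 (.node 2 (.node 1 (.leaf (nat_lit 0x210003f3d1)) (.leaf (nat_lit 0x1f08031341))) (.node 1 (.leaf (nat_lit 0x1f07031351)) (.leaf (nat_lit 0x1f03031361)))) (.node 2 (.node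 1 (.leaf (nat_lit 0x21040313b1)) (.leaf (nat_lit 0x1f07031381))) (.node 1 (.leaf (nat_lit 0x1f03031391)) (.leaf (nat_lit 0x1f020313a1))))) (.node 4 (.node 2 (.node 1 (.leaf (nat_lit 0x1f030354c1)) (.leaf (nat_lit 0x2107031971))) (.node 1 (.leaf (nat_lit 0x2103041181)) (.leaf (nat_lit 0x2107042e41)))) (.node 2 (.node 1 (.leaf (nat_lit 0x2102031531)) (.leaf (nat_lit 0x2102031401))) (.node 1 (.leaf (nat_lit 0x21080313f1)) (.leaf (nat_lit 0x2108031401))))))) (.node 16 (.node 8 (.node 4 (.node 2 (.node 1 (.leaf (nat_lit 0x21080319e1)) (.leaf (nat_lit 0x1f00031421))) (.node 1 (.leaf (nat_lit 0x1f04031421)) (.leaf (nat_lit 0x1f08031421)))) (.node 2 (.node 1 (.leaf (nat_lit 0x1f03031431)) (.leaf (nat_lit 0x1f08031431))) (.node 1 (.leaf (nat_lit 0x1f07031441)) (.leaf (nat_lit 0x1f07031451))))) (.node 4 (.node 2 (.node 1 (.leaf (nat_lit 0x1f07031a61)) (.leaf (nat_lit 0x2108031471))) (.node 1 (.leaf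 (nat_lit 0x2107031481)) (.leaf (nat_lit 0x1f080314a1)))) (.node 2 (.node 1 (.leaf (nat_lit 0x1f070314b1)) (.leaf (nat_lit 0x1f030314c1))) (.node 1 (.leaf (nat_lit 0x1f070314d1)) (.leaf (nat_lit 0x1f030314e1)))))) (.node 8 (.node 4 (.node 2 (.node 1 (.leaf (nat_lit 0x1f040314f1)) (.leaf (nat_lit 0x210303f541))) (.node 1 (.leaf (nat_lit 0x2108031501)) (.leaf (nat_lit 0x2108031511)))) (.node 2 (.node 1 (.leaf (nat_lit 0x1f08031541)) (.leaf (nat_lit 0x210303ffa1))) (.node 1 (.leaf (nat_lit 0x1f03034301)) (.leaf (nat_lit 0x2108031531))))) (.node 4 (.node 2 (.node 1 (.leaf (nat_lit 0x1f04031581)) (.leaf (nat_lit 0x1f08031581))) (.node 1 (.leaf (nat_lit 0x1f03031591)) (.leaf (nat_lit 0x1f08031591)))) (.node 2 (.node 1 (.leaf (nat_lit 0x1f070315a1)) (.leaf (nat_lit 0x1f080315b1))) (.node 1 (.leaf (nat_lit 0x1f030315d1)) (.leaf (nat_lit 0x1f030315e1)))))))) (.node 32 (.node 16 (.node 8 (.node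 4 (.node 2 (.node 1 (.leaf (nat_lit 0x21080315f1)) (.leaf (nat_lit 0x2308031b51))) (.node 1 (.leaf (nat_lit 0x2108031b61)) (.leaf (nat_lit 0x1f07031621)))) (.node 2 (.node 1 (.leaf (nat_lit 0x1f03031631)) (.leaf (nat_lit 0x1f04031641))) (.node 1 (.leaf (nat_lit 0x2107043031)) (.leaf (nat_lit 0x2103041c51))))) (.node 4 (.node 2 (.node 1 (.leaf (nat_lit 0x1f03031691)) (.leaf (nat_lit 0x1f08031691))) (.node 1 (.leaf (nat_lit 0x2103033f81)) (.leaf (nat_lit 0x2107031871)))) (.node 2 (.node 1 (.leaf (nat_lit 0x1f03032e81)) (.leaf (nat_lit 0x1f03031761))) (.node 1 (.leaf (nat_lit 0x1f08031761)) (.leaf (nat_lit 0x1f08031781)))))) (.node 8 (.node 4 (.node 2 (.node 1 (.leaf (nat_lit 0x1f03031a01)) (.leaf (nat_lit 0x21020430a1))) (.node 1 (.leaf (nat_lit 0x1f03034fa1)) (.leaf (nat_lit 0x1f000317e1)))) (.node 2 (.node 1 (.leaf (nat_lit 0x1f040317e1)) (.leaf (nat_lit 0x1f030317f1))) (.node 1 (.leaf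 (nat_lit 0x210303ffd1)) (.leaf (nat_lit 0x1f04032e71))))) (.node 4 (.node 2 (.node 1 (.leaf (nat_lit 0x2108031821)) (.leaf (nat_lit 0x1f02031831))) (.node 1 (.leaf (nat_lit 0x1f04031831)) (.leaf (nat_lit 0x1f08031831)))) (.node 2 (.node 1 (.leaf (nat_lit 0x2108031851)) (.leaf (nat_lit 0x1f04034b51))) (.node 1 (.leaf (nat_lit 0x1f08031861)) (.leaf (nat_lit 0x1f01031881))))))) (.node 16 (.node 8 (.node 4 (.node 2 (.node 1 (.leaf (nat_lit 0x1f04031881)) (.leaf (nat_lit 0x1f08031881))) (.node 1 (.leaf (nat_lit 0x1f08031891)) (.leaf (nat_lit 0x1f04035761)))) (.node 2 (.node 1 (.leaf (nat_lit 0x1f080318b1)) (.leaf (nat_lit 0x1f000318d1))) (.node 1 (.leaf (nat_lit 0x1f080318d1)) (.leaf (nat_lit 0x1f080318f1))))) (.node 4 (.node 2 (.node 1 (.leaf (nat_lit 0x1f040319f1)) (.leaf (nat_lit 0x1f04034df1))) (.node 1 (.leaf (nat_lit 0x1f00031931)) (.leaf (nat_lit 0x1f04031931)))) (.node 2 (.node 1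 (.leaf (nat_lit 0x1f03031941)) (.leaf (nat_lit 0x21030430b1))) (.node 1 (.leaf (nat_lit 0x2103034dd1)) (.leaf (nat_lit 0x2108031971)))))) (.node 8 (.node 4 (.node 2 (.node 1 (.leaf (nat_lit 0x1f03034e01)) (.leaf (nat_lit 0x1f04034f91))) (.node 1 (.leaf (nat_lit 0x21020319e1)) (.leaf (nat_lit 0x1f080319f1)))) (.node 2 (.node 1 (.leaf (nat_lit 0x1f07031a11)) (.leaf (nat_lit 0x1f07031a21))) (.node 1 (.leaf (nat_lit 0x1f08031a21)) (.leaf (nat_lit 0x1f07031a31))))) (.node 4 (.node 2 (.node 1 (.leaf (nat_lit 0x1f03031a41)) (.leaf (nat_lit 0x1f03031a51))) (.node 1 (.leaf (nat_lit 0x1f08031a61)) (.leaf (nat_lit 0x2107031a71)))) (.node 2 (.node 1 (.leaf (nat_lit 0x2103031a81)) (.leaf (nat_lit 0x1f07031a91))) (.node 1 (.leaf (nat_lit 0x1f03031aa1)) (.leaf (nat_lit 0x1f04031ab1))))))))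

noncomputable def oT117 : Tree :=
  .node 64 (.node 32 (.node 16 (.node 8 (.node 4 (.node 2 (.node 1 (.leaf (nat_lit 0x1f07031b01)) (.leaf (nat_lit 0x1f03031b11))) (.node 1 (.leaf (nat_lit 0x2107031b41)) (.leaf (nat_lit 0x210403e781)))) (.node 2 (.node 1 (.leaf (nat_lit 0x1f03031ba1)) (.leaf (nat_lit 0x1403031c42))) (.node 1 (.leaf (nat_lit 0x1408031c42)) (.leaf (nat_lit 0x1408031c52))))) (.node 4 (.node 2 (.node 1 (.leaf (nat_lit 0x1403031c82)) (.leaf (nat_lit 0x1408031c82))) (.node 1 (.leaf (nat_lit 0x1404031ca2)) (.leaf (nat_lit 0x1408031ca2)))) (.node 2 (.node 1 (.leaf (nat_lit 0x1408031cd2)) (.leaf (nat_lit 0x1408031cf2))) (.node 1 (.leaf (nat_lit 0x1408031d02)) (.leaf (nat_lit 0x1408031d42)))))) (.node 8 (.node 4 (.node 2 (.node 1 (.leaf (nat_lit 0x1403031d62)) (.leaf (nat_lit 0x1408031d62))) (.node 1 (.leaf (nat_lit 0x1402031d72)) (.leaf (nat_lit 0x1408031d72)))) (.node 2 (.node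 1 (.leaf (nat_lit 0x1401031d92)) (.leaf (nat_lit 0x1404031d92))) (.node 1 (.leaf (nat_lit 0x1408031d92)) (.leaf (nat_lit 0x1405031da2))))) (.node 4 (.node 2 (.node 1 (.leaf (nat_lit 0x1408031da2)) (.leaf (nat_lit 0x1407031db2))) (.node 1 (.leaf (nat_lit 0x1408031dc2)) (.leaf (nat_lit 0x1f070352c1)))) (.node 2 (.node 1 (.leaf (nat_lit 0x1408031de2)) (.leaf (nat_lit 0x1f03033a61))) (.node 1 (.leaf (nat_lit 0x1408031e22)) (.leaf (nat_lit 0x1408031e42))))))) (.node 16 (.node 8 (.node 4 (.node 2 (.node 1 (.leaf (nat_lit 0x1408031e62)) (.leaf (nat_lit 0x1f07031e81))) (.node 1 (.leaf (nat_lit 0x1f03031e91)) (.leaf (nat_lit 0x1f08031e91)))) (.node 2 (.node 1 (.leaf (nat_lit 0x1f02031ea1)) (.leaf (nat_lit 0x1f08031ea1))) (.node 1 (.leaf (nat_lit 0x1f03031ed1)) (.leaf (nat_lit 0x1f08031ed1))))) (.node 4 (.node 2 (.node 1 (.leaf (nat_lit 0x1f08031ee1)) (.leaf (nat_lit 0x1f08031f01))) (.node 1 (.leaf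 (nat_lit 0x1f07031f11)) (.leaf (nat_lit 0x1f07031f41)))) (.node 2 (.node 1 (.leaf (nat_lit 0x1f07031f61)) (.leaf (nat_lit 0x1f03031f71))) (.node 1 (.leaf (nat_lit 0x1f08031f71)) (.leaf (nat_lit 0x1f08031f81)))))) (.node 8 (.node 4 (.node 2 (.node 1 (.leaf (nat_lit 0x1f03031fb1)) (.leaf (nat_lit 0x1f08031fb1))) (.node 1 (.leaf (nat_lit 0x1f04031fc1)) (.leaf (nat_lit 0x1f08031fc1)))) (.node 2 (.node 1 (.leaf (nat_lit 0x1f08031fe1)) (.leaf (nat_lit 0x1f07031ff1))) (.node 1 (.leaf (nat_lit 0x1f05032011)) (.leaf (nat_lit 0x1f08032011))))) (.node 4 (.node 2 (.node 1 (.leaf (nat_lit 0x2107032041)) (.leaf (nat_lit 0x2103032051))) (.node 1 (.leaf (nat_lit 0x2107035441)) (.leaf (nat_lit 0x1f08032061)))) (.node 2 (.node 1 (.leaf (nat_lit 0x1f07035421)) (.leaf (nat_lit 0x1f070320a1))) (.node 1 (.leaf (nat_lit 0x1f030320c1)) (.leaf (nat_lit 0x1f080320c1)))))))) (.node 32 (.node 16 (.node 8 (.node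 4 (.node 2 (.node 1 (.leaf (nat_lit 0x1f080320d1)) (.leaf (nat_lit 0x1f050320f1))) (.node 1 (.leaf (nat_lit 0x1f080320f1)) (.leaf (nat_lit 0x1f07032101)))) (.node 2 (.node 1 (.leaf (nat_lit 0x1f06032121)) (.leaf (nat_lit 0x1f05032151))) (.node 1 (.leaf (nat_lit 0x1f08032121)) (.leaf (nat_lit 0x1f02032131))))) (.node 4 (.node 2 (.node 1 (.leaf (nat_lit 0x1f04032131)) (.leaf (nat_lit 0x1f08032131))) (.node 1 (.leaf (nat_lit 0x1f04033a31)) (.leaf (nat_lit 0x1f08032151)))) (.node 2 (.node 1 (.leaf (nat_lit 0x1f01032171)) (.leaf (nat_lit 0x1f04032171))) (.node 1 (.leaf (nat_lit 0x1f08032171)) (.leaf (nat_lit 0x1f05032181)))))) (.node 8 (.node 4 (.node 2 (.node 1 (.leaf (nat_lit 0x1f08032181)) (.leaf (nat_lit 0x1f07032191))) (.node 1 (.leaf (nat_lit 0x1f040321a1)) (.leaf (nat_lit 0x1f080321a1)))) (.node 2 (.node 1 (.leaf (nat_lit 0x1f050321b1)) (.leaf (nat_lit 0x1f080321b1))) (.node 1 (.leaf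 (nat_lit 0x1f070321c1)) (.leaf (nat_lit 0x1f060321d1))))) (.node 4 (.node 2 (.node 1 (.leaf (nat_lit 0x1f080321d1)) (.leaf (nat_lit 0x1f070321e1))) (.node 1 (.leaf (nat_lit 0x1f06032201)) (.leaf (nat_lit 0x1f08032201)))) (.node 2 (.node 1 (.leaf (nat_lit 0x2107035be1)) (.leaf (nat_lit 0x1f08032221))) (.node 1 (.leaf (nat_lit 0x1f07035321)) (.leaf (nat_lit 0x1f070322b1))))))) (.node 16 (.node 8 (.node 4 (.node 2 (.node 1 (.leaf (nat_lit 0x21050322c1)) (.leaf (nat_lit 0x210703ed71))) (.node 1 (.leaf (nat_lit 0x1f01032291)) (.leaf (nat_lit 0x1f04032291)))) (.node 2 (.node 1 (.leaf (nat_lit 0x1f08032291)) (.leaf (nat_lit 0x1f080322a1))) (.node 1 (.leaf (nat_lit 0x2103043641)) (.leaf (nat_lit 0x210703ed91))))) (.node 4 (.node 2 (.node 1 (.leaf (nat_lit 0x1f080322e1)) (.leaf (nat_lit 0x1f070322f1))) (.node 1 (.leaf (nat_lit 0x1f07032311)) (.leaf (nat_lit 0x1f03032321)))) (.node 2 (.node 1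 (.leaf (nat_lit 0x1f00032351)) (.leaf (nat_lit 0x1f08032351))) (.node 1 (.leaf (nat_lit 0x21060402b1)) (.leaf (nat_lit 0x210703ede1)))))) (.node 8 (.node 4 (.node 2 (.node 1 (.leaf (nat_lit 0x1f080323a1)) (.leaf (nat_lit 0x1f070323b1))) (.node 1 (.leaf (nat_lit 0x1f070323d1)) (.leaf (nat_lit 0x1f030323e1)))) (.node 2 (.node 1 (.leaf (nat_lit 0x1f040323f1)) (.leaf (nat_lit 0x1f00032401))) (.node 1 (.leaf (nat_lit 0x1f08032401)) (.leaf (nat_lit 0x1f07032411))))) (.node 4 (.node 2 (.node 1 (.leaf (nat_lit 0x1f08032431)) (.leaf (nat_lit 0x1f07032441))) (.node 1 (.leaf (nat_lit 0x1f03032451)) (.leaf (nat_lit 0x1f07032461)))) (.node 2 (.node 1 (.leaf (nat_lit 0x1f07032471)) (.leaf (nat_lit 0x1f03032481))) (.node 1 (.leaf (nat_lit 0x1f08032481)) (.leaf (nat_lit 0x1f03032491))))))))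

noncomputable def oT118 : Tree :=
  .node 64 (.node 32 (.node 16 (.node 8 (.node 4 (.node 2 (.node 1 (.leaf (nat_lit 0x1f08032491)) (.leaf (nat_lit 0x1f080324a1))) (.node 1 (.leaf (nat_lit 0x1f070324c1)) (.leaf (nat_lit 0x21030324e1)))) (.node 2 (.node 1 (.leaf (nat_lit 0x21080324e1)) (.leaf (nat_lit 0x1f020324f1))) (.node 1 (.leaf (nat_lit 0x1f040324f1)) (.leaf (nat_lit 0x1f080324f1))))) (.node 4 (.node 2 (.node 1 (.leaf (nat_lit 0x21030325b1)) (.leaf (nat_lit 0x2108032511))) (.node 1 (.leaf (nat_lit 0x1f01032531)) (.leaf (nat_lit 0x1f08032531)))) (.node 2 (.node 1 (.leaf (nat_lit 0x1f07032541)) (.leaf (nat_lit 0x1f00032551))) (.node 1 (.leaf (nat_lit 0x1f08032551)) (.leaf (nat_lit 0x1f07032561)))))) (.node 8 (.node 4 (.node 2 (.node 1 (.leaf (nat_lit 0x1f01032591)) (.leaf (nat_lit 0x1f08032591))) (.node 1 (.leaf (nat_lit 0x1f070325a1)) (.leaf (nat_lit 0x21040356b1)))) (.node 2 (.node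 1 (.leaf (nat_lit 0x21080325b1)) (.leaf (nat_lit 0x21070325c1))) (.node 1 (.leaf (nat_lit 0x1f000325d1)) (.leaf (nat_lit 0x1f080325d1))))) (.node 4 (.node 2 (.node 1 (.leaf (nat_lit 0x1f070325e1)) (.leaf (nat_lit 0x1f08032601))) (.node 1 (.leaf (nat_lit 0x1f07032611)) (.leaf (nat_lit 0x1f03032621)))) (.node 2 (.node 1 (.leaf (nat_lit 0x1f00032631)) (.leaf (nat_lit 0x1f08032631))) (.node 1 (.leaf (nat_lit 0x1f07032641)) (.leaf (nat_lit 0x210403e891))))))) (.node 16 (.node 8 (.node 4 (.node 2 (.node 1 (.leaf (nat_lit 0x2108032661)) (.leaf (nat_lit 0x1f030355c1))) (.node 1 (.leaf (nat_lit 0x1f08032691)) (.leaf (nat_lit 0x1f070326a1)))) (.node 2 (.node 1 (.leaf (nat_lit 0x1f030326b1)) (.leaf (nat_lit 0x1f070326c1))) (.node 1 (.leaf (nat_lit 0x1f030326d1)) (.leaf (nat_lit 0x1f040326e1))))) (.node 4 (.node 2 (.node 1 (.leaf (nat_lit 0x1f070326f1)) (.leaf (nat_lit 0x1f08032701))) (.node 1 (.leaf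 (nat_lit 0x1f07032721)) (.leaf (nat_lit 0x1f03032731)))) (.node 2 (.node 1 (.leaf (nat_lit 0x1f08032731)) (.leaf (nat_lit 0x1f03032741))) (.node 1 (.leaf (nat_lit 0x1f08032741)) (.leaf (nat_lit 0x1f08032751)))))) (.node 8 (.node 4 (.node 2 (.node 1 (.leaf (nat_lit 0x1f07032771)) (.leaf (nat_lit 0x1f03032791))) (.node 1 (.leaf (nat_lit 0x1f08032791)) (.leaf (nat_lit 0x1f030327a1)))) (.node 2 (.node 1 (.leaf (nat_lit 0x1f080327a1)) (.leaf (nat_lit 0x1f020327b1))) (.node 1 (.leaf (nat_lit 0x1f080327b1)) (.leaf (nat_lit 0x1f080327d1))))) (.node 4 (.node 2 (.node 1 (.leaf (nat_lit 0x1f070327e1)) (.leaf (nat_lit 0x21070327f1))) (.node 1 (.leaf (nat_lit 0x2103032801)) (.leaf (nat_lit 0x2108032801)))) (.node 2 (.node 1 (.leaf (nat_lit 0x1f02032811)) (.leaf (nat_lit 0x1f04032811))) (.node 1 (.leaf (nat_lit 0x1f08032811)) (.leaf (nat_lit 0x2100032b51)))))))) (.node 32 (.node 16 (.node 8 (.node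 4 (.node 2 (.node 1 (.leaf (nat_lit 0x1f030328d1)) (.leaf (nat_lit 0x2108032831))) (.node 1 (.leaf (nat_lit 0x1f01032851)) (.leaf (nat_lit 0x1f04032851)))) (.node 2 (.node 1 (.leaf (nat_lit 0x1f08032851)) (.leaf (nat_lit 0x1f05032861))) (.node 1 (.leaf (nat_lit 0x1f08032861)) (.leaf (nat_lit 0x1f07032871))))) (.node 4 (.node 2 (.node 1 (.leaf (nat_lit 0x1f08032881)) (.leaf (nat_lit 0x1f08032891))) (.node 1 (.leaf (nat_lit 0x1f070328a1)) (.leaf (nat_lit 0x1f070328b1)))) (.node 2 (.node 1 (.leaf (nat_lit 0x1f07033831)) (.leaf (nat_lit 0x1f080328d1))) (.node 1 (.leaf (nat_lit 0x1f080328f1)) (.leaf (nat_lit 0x2100032ce1)))))) (.node 8 (.node 4 (.node 2 (.node 1 (.leaf (nat_lit 0x2107035b41)) (.leaf (nat_lit 0x2100032d01))) (.node 1 (.leaf (nat_lit 0x2100032d11)) (.leaf (nat_lit 0x2100032d21)))) (.node 2 (.node 1 (.leaf (nat_lit 0x1f01032941)) (.leaf (nat_lit 0x1f04032941))) (.node 1 (.leaf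 (nat_lit 0x1f08032941)) (.leaf (nat_lit 0x1f08032951))))) (.node 4 (.node 2 (.node 1 (.leaf (nat_lit 0x1f07032961)) (.leaf (nat_lit 0x2100043ed1))) (.node 1 (.leaf (nat_lit 0x2100032d91)) (.leaf (nat_lit 0x2100032da1)))) (.node 2 (.node 1 (.leaf (nat_lit 0x1f00032991)) (.leaf (nat_lit 0x1f08032991))) (.node 1 (.leaf (nat_lit 0x1f070329a1)) (.leaf (nat_lit 0x1f080329c1))))))) (.node 16 (.node 8 (.node 4 (.node 2 (.node 1 (.leaf (nat_lit 0x1f070329d1)) (.leaf (nat_lit 0x1f030329e1))) (.node 1 (.leaf (nat_lit 0x1f030329f1)) (.leaf (nat_lit 0x1f080329f1)))) (.node 2 (.node 1 (.leaf (nat_lit 0x1f06032a11)) (.leaf (nat_lit 0x1f05032a41))) (.node 1 (.leaf (nat_lit 0x1f08032a11)) (.leaf (nat_lit 0x1f02032a21))))) (.node 4 (.node 2 (.node 1 (.leaf (nat_lit 0x1f04032a21)) (.leaf (nat_lit 0x1f08032a21))) (.node 1 (.leaf (nat_lit 0x1f04035d01)) (.leaf (nat_lit 0x1f08032a41)))) (.node 2 (.node 1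 (.leaf (nat_lit 0x1f01032a61)) (.leaf (nat_lit 0x1f04032a61))) (.node 1 (.leaf (nat_lit 0x1f08032a61)) (.leaf (nat_lit 0x1f05032a71)))))) (.node 8 (.node 4 (.node 2 (.node 1 (.leaf (nat_lit 0x1f08032a71)) (.leaf (nat_lit 0x1f07032a81))) (.node 1 (.leaf (nat_lit 0x1f04032a91)) (.leaf (nat_lit 0x1f08032a91)))) (.node 2 (.node 1 (.leaf (nat_lit 0x1f08032aa1)) (.leaf (nat_lit 0x1f07032ab1))) (.node 1 (.leaf (nat_lit 0x1f06032ac1)) (.leaf (nat_lit 0x1f08032ac1))))) (.node 4 (.node 2 (.node 1 (.leaf (nat_lit 0x1f07032ad1)) (.leaf (nat_lit 0x2106032b01))) (.node 1 (.leaf (nat_lit 0x21070437d1)) (.leaf (nat_lit 0x2101044191)))) (.node 2 (.node 1 (.leaf (nat_lit 0x21050441c1)) (.leaf (nat_lit 0x2108032b01))) (.node 1 (.leaf (nat_lit 0x1f01032b21)) (.leaf (nat_lit 0x1f04032b21))))))))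

noncomputable def oT119 : Tree :=
  .node 64 (.node 32 (.node 16 (.node 8 (.node 4 (.node 2 (.node 1 (.leaf (nat_lit 0x1f08032b21)) (.leaf (nat_lit 0x1f05032b31))) (.node 1 (.leaf (nat_lit 0x1f08032b31)) (.leaf (nat_lit 0x1f07032b41)))) (.node 2 (.node 1 (.leaf (nat_lit 0x1f020348e1)) (.leaf (nat_lit 0x1f02032b61))) (.node 1 (.leaf (nat_lit 0x21010442b1)) (.leaf (nat_lit 0x1f03032c71))))) (.node 4 (.node 2 (.node 1 (.leaf (nat_lit 0x1f08032b61)) (.leaf (nat_lit 0x2107032b71))) (.node 1 (.leaf (nat_lit 0x1f00032b81)) (.leaf (nat_lit 0x1f04032b81)))) (.node 2 (.node 1 (.leaf (nat_lit 0x1f08032b81)) (.leaf (nat_lit 0x1f05032b91))) (.node 1 (.leaf (nat_lit 0x1f08032b91)) (.leaf (nat_lit 0x1f07032ba1)))))) (.node 8 (.node 4 (.node 2 (.node 1 (.leaf (nat_lit 0x1f06032bb1)) (.leaf (nat_lit 0x1f08032bb1))) (.node 1 (.leaf (nat_lit 0x1f07032bc1)) (.leaf (nat_lit 0x1f04032be1)))) (.node 2 (.node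 1 (.leaf (nat_lit 0x1f08032be1)) (.leaf (nat_lit 0x1f05032bf1))) (.node 1 (.leaf (nat_lit 0x1f08032bf1)) (.leaf (nat_lit 0x1f07032c01))))) (.node 4 (.node 2 (.node 1 (.leaf (nat_lit 0x1f06032c11)) (.leaf (nat_lit 0x1f08032c11))) (.node 1 (.leaf (nat_lit 0x1f07032c21)) (.leaf (nat_lit 0x1f03032c31)))) (.node 2 (.node 1 (.leaf (nat_lit 0x2303032cb1)) (.leaf (nat_lit 0x1f08032c41))) (.node 1 (.leaf (nat_lit 0x1f07032c51)) (.leaf (nat_lit 0x1f08032c71))))))) (.node 16 (.node 8 (.node 4 (.node 2 (.node 1 (.leaf (nat_lit 0x2307035c51)) (.leaf (nat_lit 0x1f08032c91))) (.node 1 (.leaf (nat_lit 0x210703f6a1)) (.leaf (nat_lit 0x2101043271)))) (.node 2 (.node 1 (.leaf (nat_lit 0x2101032e11)) (.leaf (nat_lit 0x1f02032e21))) (.node 1 (.leaf (nat_lit 0x2101043081)) (.leaf (nat_lit 0x21010444d1))))) (.node 4 (.node 2 (.node 1 (.leaf (nat_lit 0x2101032e51)) (.leaf (nat_lit 0x210303ff01))) (.node 1 (.leaf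 (nat_lit 0x1f00032d31)) (.leaf (nat_lit 0x1f04032d31)))) (.node 2 (.node 1 (.leaf (nat_lit 0x1f08032d31)) (.leaf (nat_lit 0x1f03032d41))) (.node 1 (.leaf (nat_lit 0x1f08032d41)) (.leaf (nat_lit 0x1f07032d51)))))) (.node 8 (.node 4 (.node 2 (.node 1 (.leaf (nat_lit 0x1f07032d61)) (.leaf (nat_lit 0x1f02032ee1))) (.node 1 (.leaf (nat_lit 0x1f02032ef1)) (.leaf (nat_lit 0x21010445b1)))) (.node 2 (.node 1 (.leaf (nat_lit 0x1f08032db1)) (.leaf (nat_lit 0x1f07032dc1))) (.node 1 (.leaf (nat_lit 0x1f03032dd1)) (.leaf (nat_lit 0x1f07032de1))))) (.node 4 (.node 2 (.node 1 (.leaf (nat_lit 0x1f03032df1)) (.leaf (nat_lit 0x1f04032e01))) (.node 1 (.leaf (nat_lit 0x1f03032ed1)) (.leaf (nat_lit 0x1f03034bb1)))) (.node 2 (.node 1 (.leaf (nat_lit 0x1f03034341)) (.leaf (nat_lit 0x1f03033e61))) (.node 1 (.leaf (nat_lit 0x210303f581)) (.leaf (nat_lit 0x1f08032e71)))))))) (.node 32 (.node 16 (.node 8 (.node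 4 (.node 2 (.node 1 (.leaf (nat_lit 0x1f08032e81)) (.leaf (nat_lit 0x1f07032e91))) (.node 1 (.leaf (nat_lit 0x1f08032ea1)) (.leaf (nat_lit 0x1f07032eb1)))) (.node 2 (.node 1 (.leaf (nat_lit 0x1f03032ec1)) (.leaf (nat_lit 0x1f03034c61))) (.node 1 (.leaf (nat_lit 0x1f030354d1)) (.leaf (nat_lit 0x1f07032f11))))) (.node 4 (.node 2 (.node 1 (.leaf (nat_lit 0x1f03032f21)) (.leaf (nat_lit 0x1403032f72))) (.node 1 (.leaf (nat_lit 0x1408032f72)) (.leaf (nat_lit 0x1403032f82)))) (.node 2 (.node 1 (.leaf (nat_lit 0x1408032f82)) (.leaf (nat_lit 0x1402032f92))) (.node 1 (.leaf (nat_lit 0x1408032f92)) (.leaf (nat_lit 0x1401032fd2)))))) (.node 8 (.node 4 (.node 2 (.node 1 (.leaf (nat_lit 0x1408032fd2)) (.leaf (nat_lit 0x1407032fe2))) (.node 1 (.leaf (nat_lit 0x1402033002)) (.leaf (nat_lit 0x1408033002)))) (.node 2 (.node 1 (.leaf (nat_lit 0x1408033022)) (.leaf (nat_lit 0x1404033042))) (.node 1 (.leaf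 (nat_lit 0x1408033042)) (.leaf (nat_lit 0x1408033052))))) (.node 4 (.node 2 (.node 1 (.leaf (nat_lit 0x1407033062)) (.leaf (nat_lit 0x14070330a2))) (.node 1 (.leaf (nat_lit 0x14020330c2)) (.leaf (nat_lit 0x14080330c2)))) (.node 2 (.node 1 (.leaf (nat_lit 0x14030330e2)) (.leaf (nat_lit 0x14080330e2))) (.node 1 (.leaf (nat_lit 0x1f080330f1)) (.leaf (nat_lit 0x1408033102))))))) (.node 16 (.node 8 (.node 4 (.node 2 (.node 1 (.leaf (nat_lit 0x1408033122)) (.leaf (nat_lit 0x1407033132))) (.node 1 (.leaf (nat_lit 0x2106033161)) (.leaf (nat_lit 0x1408033172)))) (.node 2 (.node 1 (.leaf (nat_lit 0x14070331a2)) (.leaf (nat_lit 0x14070331b2))) (.node 1 (.leaf (nat_lit 0x14010331d2)) (.leaf (nat_lit 0x14080331d2))))) (.node 4 (.node 2 (.node 1 (.leaf (nat_lit 0x14070331e2)) (.leaf (nat_lit 0x1f06033201))) (.node 1 (.leaf (nat_lit 0x1402033212)) (.leaf (nat_lit 0x1404033212)))) (.node 2 (.node 1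 (.leaf (nat_lit 0x1408033212)) (.leaf (nat_lit 0x1401033242))) (.node 1 (.leaf (nat_lit 0x1408033242)) (.leaf (nat_lit 0x1407033252)))))) (.node 8 (.node 4 (.node 2 (.node 1 (.leaf (nat_lit 0x1400033262)) (.leaf (nat_lit 0x1404033262))) (.node 1 (.leaf (nat_lit 0x1408033262)) (.leaf (nat_lit 0x1405033272)))) (.node 2 (.node 1 (.leaf (nat_lit 0x1408033272)) (.leaf (nat_lit 0x1407033282))) (.node 1 (.leaf (nat_lit 0x1406033292)) (.leaf (nat_lit 0x1408033292))))) (.node 4 (.node 2 (.node 1 (.leaf (nat_lit 0x14070332a2)) (.leaf (nat_lit 0x1f070352f1))) (.node 1 (.leaf (nat_lit 0x14080332c2)) (.leaf (nat_lit 0x1408033322)))) (.node 2 (.node 1 (.leaf (nat_lit 0x1408033332)) (.leaf (nat_lit 0x1407033342))) (.node 1 (.leaf (nat_lit 0x1408033362)) (.leaf (nat_lit 0x1407033372))))))))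

noncomputable def oT120 : Tree :=
  .node 64 (.node 32 (.node 16 (.node 8 (.node 4 (.node 2 (.node 1 (.leaf (nat_lit 0x1408033392)) (.leaf (nat_lit 0x14070333a2))) (.node 1 (.leaf (nat_lit 0x14030333b2)) (.leaf (nat_lit 0x14070333d2)))) (.node 2 (.node 1 (.leaf (nat_lit 0x210303ee01)) (.leaf (nat_lit 0x1408033412))) (.node 1 (.leaf (nat_lit 0x1407033422)) (.leaf (nat_lit 0x1407033442))))) (.node 4 (.node 2 (.node 1 (.leaf (nat_lit 0x1f07033471)) (.leaf (nat_lit 0x1f03033481))) (.node 1 (.leaf (nat_lit 0x1f08033481)) (.leaf (nat_lit 0x1f08033491)))) (.node 2 (.node 1 (.leaf (nat_lit 0x1f070334b1)) (.leaf (nat_lit 0x1f030334c1))) (.node 1 (.leaf (nat_lit 0x1f080334c1)) (.leaf (nat_lit 0x1f040335e1)))))) (.node 8 (.node 4 (.node 2 (.node 1 (.leaf (nat_lit 0x1f080334d1)) (.leaf (nat_lit 0x1f020334e1))) (.node 1 (.leaf (nat_lit 0x1f080334e1)) (.leaf (nat_lit 0x1f08033501)))) (.node 2 (.node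 1 (.leaf (nat_lit 0x1f07033511)) (.leaf (nat_lit 0x2108033541))) (.node 1 (.leaf (nat_lit 0x1f02033551)) (.leaf (nat_lit 0x1f08033551))))) (.node 4 (.node 2 (.node 1 (.leaf (nat_lit 0x1f01033581)) (.leaf (nat_lit 0x1f08033581))) (.node 1 (.leaf (nat_lit 0x1f07033591)) (.leaf (nat_lit 0x1f000335a1)))) (.node 2 (.node 1 (.leaf (nat_lit 0x1f080335a1)) (.leaf (nat_lit 0x1f070335b1))) (.node 1 (.leaf (nat_lit 0x1f030335d1)) (.leaf (nat_lit 0x1f080335d1))))))) (.node 16 (.node 8 (.node 4 (.node 2 (.node 1 (.leaf (nat_lit 0x1f020335e1)) (.leaf (nat_lit 0x1f080335e1))) (.node 1 (.leaf (nat_lit 0x1f01033601)) (.leaf (nat_lit 0x1f08033601)))) (.node 2 (.node 1 (.leaf (nat_lit 0x1f08033611)) (.leaf (nat_lit 0x1f07033621))) (.node 1 (.leaf (nat_lit 0x210103f031)) (.leaf (nat_lit 0x2108033641))))) (.node 4 (.node 2 (.node 1 (.leaf (nat_lit 0x1f02033651)) (.leaf (nat_lit 0x1f04033651))) (.node 1 (.leaf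 (nat_lit 0x1f08033651)) (.leaf (nat_lit 0x2108033671)))) (.node 2 (.node 1 (.leaf (nat_lit 0x1f04033691)) (.leaf (nat_lit 0x1f08033691))) (.node 1 (.leaf (nat_lit 0x1f050336a1)) (.leaf (nat_lit 0x1f080336a1)))))) (.node 8 (.node 4 (.node 2 (.node 1 (.leaf (nat_lit 0x1f070336b1)) (.leaf (nat_lit 0x1f000336c1))) (.node 1 (.leaf (nat_lit 0x1f040336c1)) (.leaf (nat_lit 0x1f080336c1)))) (.node 2 (.node 1 (.leaf (nat_lit 0x1f080336d1)) (.leaf (nat_lit 0x1f070336e1))) (.node 1 (.leaf (nat_lit 0x1f070336f1)) (.leaf (nat_lit 0x1f08033721))))) (.node 4 (.node 2 (.node 1 (.leaf (nat_lit 0x1f04033751)) (.leaf (nat_lit 0x1f08033751))) (.node 1 (.leaf (nat_lit 0x1f08033761)) (.leaf (nat_lit 0x1f07033771)))) (.node 2 (.node 1 (.leaf (nat_lit 0x1f07033781)) (.leaf (nat_lit 0x1f080337a1))) (.node 1 (.leaf (nat_lit 0x1f070337b1)) (.leaf (nat_lit 0x1f030337c1)))))))) (.node 32 (.node 16 (.node 8 (.node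 4 (.node 2 (.node 1 (.leaf (nat_lit 0x1f070337d1)) (.leaf (nat_lit 0x1f070337f1))) (.node 1 (.leaf (nat_lit 0x1f03033801)) (.leaf (nat_lit 0x1f04033811)))) (.node 2 (.node 1 (.leaf (nat_lit 0x1f03033841)) (.leaf (nat_lit 0x1f08033841))) (.node 1 (.leaf (nat_lit 0x1f02033851)) (.leaf (nat_lit 0x1f08033851))))) (.node 4 (.node 2 (.node 1 (.leaf (nat_lit 0x1f01033871)) (.leaf (nat_lit 0x1f08033871))) (.node 1 (.leaf (nat_lit 0x1f07033881)) (.leaf (nat_lit 0x2107033891)))) (.node 2 (.node 1 (.leaf (nat_lit 0x21050338d1)) (.leaf (nat_lit 0x21080338a1))) (.node 1 (.leaf (nat_lit 0x1f020338b1)) (.leaf (nat_lit 0x1f040338b1)))))) (.node 8 (.node 4 (.node 2 (.node 1 (.leaf (nat_lit 0x1f080338b1)) (.leaf (nat_lit 0x21080338d1))) (.node 1 (.leaf (nat_lit 0x1f080338f1)) (.leaf (nat_lit 0x1f07033901)))) (.node 2 (.node 1 (.leaf (nat_lit 0x1f00033911)) (.leaf (nat_lit 0x1f08033911))) (.node 1 (.leaf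 (nat_lit 0x1f07033921)) (.leaf (nat_lit 0x2106033951))))) (.node 4 (.node 2 (.node 1 (.leaf (nat_lit 0x2107043811)) (.leaf (nat_lit 0x2108033951))) (.node 1 (.leaf (nat_lit 0x1f08033971)) (.leaf (nat_lit 0x1f08033981)))) (.node 2 (.node 1 (.leaf (nat_lit 0x1f07033991)) (.leaf (nat_lit 0x21070339a1))) (.node 1 (.leaf (nat_lit 0x1f070339b1)) (.leaf (nat_lit 0x1f080339d1))))))) (.node 16 (.node 8 (.node 4 (.node 2 (.node 1 (.leaf (nat_lit 0x1f070339e1)) (.leaf (nat_lit 0x1f030339f1))) (.node 1 (.leaf (nat_lit 0x1f02033a11)) (.leaf (nat_lit 0x1f04033a11)))) (.node 2 (.node 1 (.leaf (nat_lit 0x1f08033a11)) (.leaf (nat_lit 0x1f01033a31))) (.node 1 (.leaf (nat_lit 0x1f08033a31)) (.leaf (nat_lit 0x1f07033a41))))) (.node 4 (.node 2 (.node 1 (.leaf (nat_lit 0x1f04033a51)) (.leaf (nat_lit 0x1f08033a51))) (.node 1 (.leaf (nat_lit 0x1f05033a61)) (.leaf (nat_lit 0x1f08033a61)))) (.node 2 (.node 1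 (.leaf (nat_lit 0x1f07033a71)) (.leaf (nat_lit 0x1f06033a81))) (.node 1 (.leaf (nat_lit 0x1f07033a91)) (.leaf (nat_lit 0x2106033ac1)))))) (.node 8 (.node 4 (.node 2 (.node 1 (.leaf (nat_lit 0x21070437b1)) (.leaf (nat_lit 0x2105033b11))) (.node 1 (.leaf (nat_lit 0x2105043531)) (.leaf (nat_lit 0x2108033ac1)))) (.node 2 (.node 1 (.leaf (nat_lit 0x1f01033ae1)) (.leaf (nat_lit 0x1f04033ae1))) (.node 1 (.leaf (nat_lit 0x1f08033ae1)) (.leaf (nat_lit 0x1f05033af1))))) (.node 4 (.node 2 (.node 1 (.leaf (nat_lit 0x1f08033af1)) (.leaf (nat_lit 0x1f07033b01))) (.node 1 (.leaf (nat_lit 0x210403ee41)) (.leaf (nat_lit 0x2108033b11)))) (.node 2 (.node 1 (.leaf (nat_lit 0x2107033b21)) (.leaf (nat_lit 0x1f00033b31))) (.node 1 (.leaf (nat_lit 0x1f04033b31)) (.leaf (nat_lit 0x1f08033b31))))))))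

noncomputable def oT121 : Tree :=
  .node 64 (.node 32 (.node 16 (.node 8 (.node 4 (.node 2 (.node 1 (.leaf (nat_lit 0x1f05033b41)) (.leaf (nat_lit 0x1f08033b41))) (.node 1 (.leaf (nat_lit 0x1f07033b51)) (.leaf (nat_lit 0x1f06033b61)))) (.node 2 (.node 1 (.leaf (nat_lit 0x1f08033b61)) (.leaf (nat_lit 0x1f07033b71))) (.node 1 (.leaf (nat_lit 0x1f04033b91)) (.leaf (nat_lit 0x1f08033b91))))) (.node 4 (.node 2 (.node 1 (.leaf (nat_lit 0x1f05033ba1)) (.leaf (nat_lit 0x1f08033ba1))) (.node 1 (.leaf (nat_lit 0x1f07033bb1)) (.leaf (nat_lit 0x1f06033bc1)))) (.node 2 (.node 1 (.leaf (nat_lit 0x1f08033bc1)) (.leaf (nat_lit 0x1f07033bd1))) (.node 1 (.leaf (nat_lit 0x1f03033be1)) (.leaf (nat_lit 0x210203ebc1)))))) (.node 8 (.node 4 (.node 2 (.node 1 (.leaf (nat_lit 0x1f08033bf1)) (.leaf (nat_lit 0x1f07033c01))) (.node 1 (.leaf (nat_lit 0x2107035c81)) (.leaf (nat_lit 0x1f08033c21)))) (.node 2 (.node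 1 (.leaf (nat_lit 0x1f07035341)) (.leaf (nat_lit 0x2106033c91))) (.node 1 (.leaf (nat_lit 0x2104043001)) (.leaf (nat_lit 0x2105033d11))))) (.node 4 (.node 2 (.node 1 (.leaf (nat_lit 0x2108033c91)) (.leaf (nat_lit 0x1f03034b31))) (.node 1 (.leaf (nat_lit 0x2103041c81)) (.leaf (nat_lit 0x1f00033cc1)))) (.node 2 (.node 1 (.leaf (nat_lit 0x1f04033cc1)) (.leaf (nat_lit 0x1f08033cc1))) (.node 1 (.leaf (nat_lit 0x1f03033cd1)) (.leaf (nat_lit 0x1f08033cd1))))))) (.node 16 (.node 8 (.node 4 (.node 2 (.node 1 (.leaf (nat_lit 0x1f07033ce1)) (.leaf (nat_lit 0x1f07033cf1))) (.node 1 (.leaf (nat_lit 0x2108033d11)) (.leaf (nat_lit 0x2107033d21)))) (.node 2 (.node 1 (.leaf (nat_lit 0x1f08033d41)) (.leaf (nat_lit 0x1f07033d51))) (.node 1 (.leaf (nat_lit 0x1f03033d61)) (.leaf (nat_lit 0x1f07033d71))))) (.node 4 (.node 2 (.node 1 (.leaf (nat_lit 0x1f03033d81)) (.leaf (nat_lit 0x1f04033d91))) (.node 1 (.leaf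 (nat_lit 0x1f03033e51)) (.leaf (nat_lit 0x21060409a1)))) (.node 2 (.node 1 (.leaf (nat_lit 0x1f03034d41)) (.leaf (nat_lit 0x2104045301))) (.node 1 (.leaf (nat_lit 0x1f03034331)) (.leaf (nat_lit 0x21030411b1)))))) (.node 8 (.node 4 (.node 2 (.node 1 (.leaf (nat_lit 0x1f04033e01)) (.leaf (nat_lit 0x1f08033e01))) (.node 1 (.leaf (nat_lit 0x1f03033e11)) (.leaf (nat_lit 0x1f08033e11)))) (.node 2 (.node 1 (.leaf (nat_lit 0x1f07033e21)) (.leaf (nat_lit 0x1f08033e31))) (.node 1 (.leaf (nat_lit 0x1f07033e41)) (.leaf (nat_lit 0x2108033e71))))) (.node 4 (.node 2 (.node 1 (.leaf (nat_lit 0x21030411f1)) (.leaf (nat_lit 0x1f07033ea1))) (.node 1 (.leaf (nat_lit 0x1f03033eb1)) (.leaf (nat_lit 0x1f04033ec1)))) (.node 2 (.node 1 (.leaf (nat_lit 0x1f03033ed1)) (.leaf (nat_lit 0x1f02033ee1))) (.node 1 (.leaf (nat_lit 0x1f04033ee1)) (.leaf (nat_lit 0x1f05033ef1)))))))) (.node 32 (.node 16 (.node 8 (.node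 4 (.node 2 (.node 1 (.leaf (nat_lit 0x2107033f01)) (.leaf (nat_lit 0x2103033f11))) (.node 1 (.leaf (nat_lit 0x2108033f11)) (.leaf (nat_lit 0x1f04033f21)))) (.node 2 (.node 1 (.leaf (nat_lit 0x1f08033f21)) (.leaf (nat_lit 0x2108033f41))) (.node 1 (.leaf (nat_lit 0x1f07033f61)) (.leaf (nat_lit 0x2108033f81))))) (.node 4 (.node 2 (.node 1 (.leaf (nat_lit 0x1f03033fa1)) (.leaf (nat_lit 0x1f08033fa1))) (.node 1 (.leaf (nat_lit 0x2107033fb1)) (.leaf (nat_lit 0x2103033fc1)))) (.node 2 (.node 1 (.leaf (nat_lit 0x2108033fc1)) (.leaf (nat_lit 0x1f04033fd1))) (.node 1 (.leaf (nat_lit 0x1f08033fd1)) (.leaf (nat_lit 0x1f030343f1)))))) (.node 8 (.node 4 (.node 2 (.node 1 (.leaf (nat_lit 0x2108033ff1)) (.leaf (nat_lit 0x1f05034011))) (.node 1 (.leaf (nat_lit 0x1f08034011)) (.leaf (nat_lit 0x1f07034021)))) (.node 2 (.node 1 (.leaf (nat_lit 0x1f07034031)) (.leaf (nat_lit 0x2103034051))) (.node 1 (.leaf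 (nat_lit 0x2108034051)) (.leaf (nat_lit 0x2302034061))))) (.node 4 (.node 2 (.node 1 (.leaf (nat_lit 0x2303044ae1)) (.leaf (nat_lit 0x2308034061))) (.node 1 (.leaf (nat_lit 0x1f01034081)) (.leaf (nat_lit 0x1f04034081)))) (.node 2 (.node 1 (.leaf (nat_lit 0x1f08034081)) (.leaf (nat_lit 0x1f05034091))) (.node 1 (.leaf (nat_lit 0x1f08034091)) (.leaf (nat_lit 0x1f070340a1))))))) (.node 16 (.node 8 (.node 4 (.node 2 (.node 1 (.leaf (nat_lit 0x2302043991)) (.leaf (nat_lit 0x21020340c1))) (.node 1 (.leaf (nat_lit 0x2103034261)) (.leaf (nat_lit 0x21070422b1)))) (.node 2 (.node 1 (.leaf (nat_lit 0x21080340c1)) (.leaf (nat_lit 0x2302045631))) (.node 1 (.leaf (nat_lit 0x1f040340e1)) (.leaf (nat_lit 0x1f080340e1))))) (.node 4 (.node 2 (.node 1 (.leaf (nat_lit 0x1f050340f1)) (.leaf (nat_lit 0x1f080340f1))) (.node 1 (.leaf (nat_lit 0x1f07034101)) (.leaf (nat_lit 0x1f08034111)))) (.node 2 (.node 1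 (.leaf (nat_lit 0x1f07034121)) (.leaf (nat_lit 0x1f08034141))) (.node 1 (.leaf (nat_lit 0x1f07034151)) (.leaf (nat_lit 0x1f07034161)))))) (.node 8 (.node 4 (.node 2 (.node 1 (.leaf (nat_lit 0x1f07034411)) (.leaf (nat_lit 0x2108034191))) (.node 1 (.leaf (nat_lit 0x21020341c1)) (.leaf (nat_lit 0x2107042ff1)))) (.node 2 (.node 1 (.leaf (nat_lit 0x21020342b1)) (.leaf (nat_lit 0x21020341f1))) (.node 1 (.leaf (nat_lit 0x2107042441)) (.leaf (nat_lit 0x21080341f1))))) (.node 4 (.node 2 (.node 1 (.leaf (nat_lit 0x1f00034211)) (.leaf (nat_lit 0x1f04034211))) (.node 1 (.leaf (nat_lit 0x1f08034211)) (.leaf (nat_lit 0x1f03034221)))) (.node 2 (.node 1 (.leaf (nat_lit 0x1f08034221)) (.leaf (nat_lit 0x2302034351))) (.node 1 (.leaf (nat_lit 0x2107042311)) (.leaf (nat_lit 0x1f08034271))))))))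

noncomputable def oT122 : Tree :=
  .node 64 (.node 32 (.node 16 (.node 8 (.node 4 (.node 2 (.node 1 (.leaf (nat_lit 0x21080342b1)) (.leaf (nat_lit 0x1f080342f1))) (.node 1 (.leaf (nat_lit 0x1f08034301)) (.leaf (nat_lit 0x1f07034311)))) (.node 2 (.node 1 (.leaf (nat_lit 0x21070457a1)) (.leaf (nat_lit 0x1f08034d61))) (.node 1 (.leaf (nat_lit 0x1f07034381)) (.leaf (nat_lit 0x1f03034391))))) (.node 4 (.node 2 (.node 1 (.leaf (nat_lit 0x1f080343e1)) (.leaf (nat_lit 0x1f080343f1))) (.node 1 (.leaf (nat_lit 0x1f03034421)) (.leaf (nat_lit 0x1f08034421)))) (.node 2 (.node 1 (.leaf (nat_lit 0x2103034441)) (.leaf (nat_lit 0x2108034441))) (.node 1 (.leaf (nat_lit 0x1f04034451)) (.leaf (nat_lit 0x1f08034451)))))) (.node 8 (.node 4 (.node 2 (.node 1 (.leaf (nat_lit 0x2108034471)) (.leaf (nat_lit 0x1f07034491))) (.node 1 (.leaf (nat_lit 0x2107045751)) (.leaf (nat_lit 0x21080344b1)))) (.node 2 (.node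 1 (.leaf (nat_lit 0x21030345b1)) (.leaf (nat_lit 0x2305043921))) (.node 1 (.leaf (nat_lit 0x23080344c1)) (.leaf (nat_lit 0x1f010344e1))))) (.node 4 (.node 2 (.node 1 (.leaf (nat_lit 0x1f040344e1)) (.leaf (nat_lit 0x1f080344e1))) (.node 1 (.leaf (nat_lit 0x1f080344f1)) (.leaf (nat_lit 0x1f07034501)))) (.node 2 (.node 1 (.leaf (nat_lit 0x2103034621)) (.leaf (nat_lit 0x2103034631))) (.node 1 (.leaf (nat_lit 0x2302045941)) (.leaf (nat_lit 0x1f00034531))))))) (.node 16 (.node 8 (.node 4 (.node 2 (.node 1 (.leaf (nat_lit 0x1f08034531)) (.leaf (nat_lit 0x1f07034541))) (.node 1 (.leaf (nat_lit 0x1f08034561)) (.leaf (nat_lit 0x1f07034571)))) (.node 2 (.node 1 (.leaf (nat_lit 0x2107034dc1)) (.leaf (nat_lit 0x2107042fd1))) (.node 1 (.leaf (nat_lit 0x2104043171)) (.leaf (nat_lit 0x1f07034de1))))) (.node 4 (.node 2 (.node 1 (.leaf (nat_lit 0x2107043161)) (.leaf (nat_lit 0x1f07034c51))) (.node 1 (.leaf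 (nat_lit 0x1f000345e1)) (.leaf (nat_lit 0x1f040345e1)))) (.node 2 (.node 1 (.leaf (nat_lit 0x1f080345e1)) (.leaf (nat_lit 0x1f030345f1))) (.node 1 (.leaf (nat_lit 0x1f080345f1)) (.leaf (nat_lit 0x1f07034e21)))))) (.node 8 (.node 4 (.node 2 (.node 1 (.leaf (nat_lit 0x21070431c1)) (.leaf (nat_lit 0x1f08034641))) (.node 1 (.leaf (nat_lit 0x1f08034681)) (.leaf (nat_lit 0x1f02034691)))) (.node 2 (.node 1 (.leaf (nat_lit 0x1f04034691)) (.leaf (nat_lit 0x1f08034691))) (.node 1 (.leaf (nat_lit 0x21030346b1)) (.leaf (nat_lit 0x21080346b1))))) (.node 4 (.node 2 (.node 1 (.leaf (nat_lit 0x2103034ea1)) (.leaf (nat_lit 0x2105043f71))) (.node 1 (.leaf (nat_lit 0x21080346c1)) (.leaf (nat_lit 0x1f010346e1)))) (.node 2 (.node 1 (.leaf (nat_lit 0x1f040346e1)) (.leaf (nat_lit 0x1f080346e1))) (.node 1 (.leaf (nat_lit 0x1f050346f1)) (.leaf (nat_lit 0x1f080346f1)))))))) (.node 32 (.node 16 (.node 8 (.node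 4 (.node 2 (.node 1 (.leaf (nat_lit 0x1f07034701)) (.leaf (nat_lit 0x1f03034f11))) (.node 1 (.leaf (nat_lit 0x1f02034721)) (.leaf (nat_lit 0x2103034f21)))) (.node 2 (.node 1 (.leaf (nat_lit 0x1f08034721)) (.leaf (nat_lit 0x2107034731))) (.node 1 (.leaf (nat_lit 0x1f00034741)) (.leaf (nat_lit 0x1f04034741))))) (.node 4 (.node 2 (.node 1 (.leaf (nat_lit 0x1f08034741)) (.leaf (nat_lit 0x1f05034751))) (.node 1 (.leaf (nat_lit 0x1f08034751)) (.leaf (nat_lit 0x1f07034761)))) (.node 2 (.node 1 (.leaf (nat_lit 0x1f06034771)) (.leaf (nat_lit 0x1f08034771))) (.node 1 (.leaf (nat_lit 0x1f07034781)) (.leaf (nat_lit 0x1f080347a1)))))) (.node 8 (.node 4 (.node 2 (.node 1 (.leaf (nat_lit 0x1f080347b1)) (.leaf (nat_lit 0x1f070347c1))) (.node 1 (.leaf (nat_lit 0x1f060347d1)) (.leaf (nat_lit 0x1f080347d1)))) (.node 2 (.node 1 (.leaf (nat_lit 0x1f070347e1)) (.leaf (nat_lit 0x2303035d41))) (.node 1 (.leaf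 (nat_lit 0x1f08034801)) (.leaf (nat_lit 0x1f07034811))))) (.node 4 (.node 2 (.node 1 (.leaf (nat_lit 0x2103034ae1)) (.leaf (nat_lit 0x2304034831))) (.node 1 (.leaf (nat_lit 0x2302045d11)) (.leaf (nat_lit 0x1f03034b01)))) (.node 2 (.node 1 (.leaf (nat_lit 0x2104034851)) (.leaf (nat_lit 0x2103034b21))) (.node 1 (.leaf (nat_lit 0x2104034911)) (.leaf (nat_lit 0x2308034861))))))) (.node 16 (.node 8 (.node 4 (.node 2 (.node 1 (.leaf (nat_lit 0x2302045da1)) (.leaf (nat_lit 0x1f00034881))) (.node 1 (.leaf (nat_lit 0x1f04034881)) (.leaf (nat_lit 0x1f08034881)))) (.node 2 (.node 1 (.leaf (nat_lit 0x1f03034891)) (.leaf (nat_lit 0x1f05034891))) (.node 1 (.leaf (nat_lit 0x1f08034891)) (.leaf (nat_lit 0x1f070348a1))))) (.node 4 (.node 2 (.node 1 (.leaf (nat_lit 0x1f060348b1)) (.leaf (nat_lit 0x1f080348b1))) (.node 1 (.leaf (nat_lit 0x1f070348c1)) (.leaf (nat_lit 0x1f03034bc1)))) (.node 2 (.node 1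 (.leaf (nat_lit 0x1f040348e1)) (.leaf (nat_lit 0x1f03034bd1))) (.node 1 (.leaf (nat_lit 0x2103035941)) (.leaf (nat_lit 0x2104034901)))))) (.node 8 (.node 4 (.node 2 (.node 1 (.leaf (nat_lit 0x2103045f61)) (.leaf (nat_lit 0x2103034a91))) (.node 1 (.leaf (nat_lit 0x2108034911)) (.leaf (nat_lit 0x2107034921)))) (.node 2 (.node 1 (.leaf (nat_lit 0x1f04034941)) (.leaf (nat_lit 0x1f08034941))) (.node 1 (.leaf (nat_lit 0x1f05034951)) (.leaf (nat_lit 0x1f08034951))))) (.node 4 (.node 2 (.node 1 (.leaf (nat_lit 0x1f07034961)) (.leaf (nat_lit 0x1f06034971))) (.node 1 (.leaf (nat_lit 0x1f08034971)) (.leaf (nat_lit 0x1f07034981)))) (.node 2 (.node 1 (.leaf (nat_lit 0x1f03034991)) (.leaf (nat_lit 0x230003f2b1))) (.node 1 (.leaf (nat_lit 0x1f080349a1)) (.leaf (nat_lit 0x1f070349b1))))))))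

noncomputable def oT123 : Tree :=
  .node 64 (.node 32 (.node 16 (.node 8 (.node 4 (.node 2 (.node 1 (.leaf (nat_lit 0x1f080349d1)) (.leaf (nat_lit 0x1f070349e1))) (.node 1 (.leaf (nat_lit 0x1f060349f1)) (.leaf (nat_lit 0x1f080349f1)))) (.node 2 (.node 1 (.leaf (nat_lit 0x1f07034a01)) (.leaf (nat_lit 0x1f03034a11))) (.node 1 (.leaf (nat_lit 0x210003f301)) (.leaf (nat_lit 0x1f08034a21))))) (.node 4 (.node 2 (.node 1 (.leaf (nat_lit 0x1f07034a31)) (.leaf (nat_lit 0x1f03034a41))) (.node 1 (.leaf (nat_lit 0x1f04034a51)) (.leaf (nat_lit 0x2103034ad1)))) (.node 2 (.node 1 (.leaf (nat_lit 0x1f07034a71)) (.leaf (nat_lit 0x230403ef71))) (.node 1 (.leaf (nat_lit 0x2108034a91)) (.leaf (nat_lit 0x210703f841)))))) (.node 8 (.node 4 (.node 2 (.node 1 (.leaf (nat_lit 0x2107042ef1)) (.leaf (nat_lit 0x1f07034b91))) (.node 1 (.leaf (nat_lit 0x1f03034b11)) (.leaf (nat_lit 0x1f07034b71)))) (.node 2 (.node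 1 (.leaf (nat_lit 0x1f08034b61)) (.leaf (nat_lit 0x1f08034b51))) (.node 1 (.leaf (nat_lit 0x1f03034b61)) (.leaf (nat_lit 0x1f07034b81))))) (.node 4 (.node 2 (.node 1 (.leaf (nat_lit 0x1f08034b81)) (.leaf (nat_lit 0x1f03034ba1))) (.node 1 (.leaf (nat_lit 0x1f070357a1)) (.leaf (nat_lit 0x1f08034ff1)))) (.node 2 (.node 1 (.leaf (nat_lit 0x1f07034bf1)) (.leaf (nat_lit 0x1f03034c01))) (.node 1 (.leaf (nat_lit 0x1f04034c11)) (.leaf (nat_lit 0x1f07034c91))))))) (.node 16 (.node 8 (.node 4 (.node 2 (.node 1 (.leaf (nat_lit 0x2108034ca1)) (.leaf (nat_lit 0x1f08034cb1))) (.node 1 (.leaf (nat_lit 0x2107034e91)) (.leaf (nat_lit 0x1f03035581)))) (.node 2 (.node 1 (.leaf (nat_lit 0x1f02034d91)) (.leaf (nat_lit 0x1f08034d91))) (.node 1 (.leaf (nat_lit 0x1f07034e11)) (.leaf (nat_lit 0x210003f461))))) (.node 4 (.node 2 (.node 1 (.leaf (nat_lit 0x2104034e31)) (.leaf (nat_lit 0x2108034e31))) (.node 1 (.leaf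 (nat_lit 0x1f01034e51)) (.leaf (nat_lit 0x1f04034e51)))) (.node 2 (.node 1 (.leaf (nat_lit 0x1f08034e51)) (.leaf (nat_lit 0x1f08034e61))) (.node 1 (.leaf (nat_lit 0x1f07034e71)) (.leaf (nat_lit 0x2107034f61)))))) (.node 8 (.node 4 (.node 2 (.node 1 (.leaf (nat_lit 0x2108034e81)) (.leaf (nat_lit 0x1f07034f71))) (.node 1 (.leaf (nat_lit 0x2107034f81)) (.leaf (nat_lit 0x2107042701)))) (.node 2 (.node 1 (.leaf (nat_lit 0x2308034eb1)) (.leaf (nat_lit 0x1f00034ed1))) (.node 1 (.leaf (nat_lit 0x1f04034ed1)) (.leaf (nat_lit 0x1f08034ed1))))) (.node 4 (.node 2 (.node 1 (.leaf (nat_lit 0x1f03034ee1)) (.leaf (nat_lit 0x1f08034ee1))) (.node 1 (.leaf (nat_lit 0x1f07034fc1)) (.leaf (nat_lit 0x1f07035bc1)))) (.node 2 (.node 1 (.leaf (nat_lit 0x1f08034f31)) (.leaf (nat_lit 0x1f07034fb1))) (.node 1 (.leaf (nat_lit 0x1f08034fd1)) (.leaf (nat_lit 0x1f04034fe1)))))))) (.node 32 (.node 16 (.node 8 (.node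 4 (.node 2 (.node 1 (.leaf (nat_lit 0x1f03035881)) (.leaf (nat_lit 0x1f05035021))) (.node 1 (.leaf (nat_lit 0x1403035042)) (.leaf (nat_lit 0x1408035052)))) (.node 2 (.node 1 (.leaf (nat_lit 0x1408035072)) (.leaf (nat_lit 0x14070350c2))) (.node 1 (.leaf (nat_lit 0x14070350f2)) (.leaf (nat_lit 0x1407035112))))) (.node 4 (.node 2 (.node 1 (.leaf (nat_lit 0x1403035122)) (.leaf (nat_lit 0x1404035132))) (.node 1 (.leaf (nat_lit 0x2107035141)) (.leaf (nat_lit 0x1407035172)))) (.node 2 (.node 1 (.leaf (nat_lit 0x1407035182)) (.leaf (nat_lit 0x1403035192))) (.node 1 (.leaf (nat_lit 0x14030351a2)) (.leaf (nat_lit 0x21070351b1)))))) (.node 8 (.node 4 (.node 2 (.node 1 (.leaf (nat_lit 0x2104040b01)) (.leaf (nat_lit 0x14070351d2))) (.node 1 (.leaf (nat_lit 0x14030351e2)) (.leaf (nat_lit 0x14040351f2)))) (.node 2 (.node 1 (.leaf (nat_lit 0x1403035202)) (.leaf (nat_lit 0x1402035212))) (.node 1 (.leaf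 (nat_lit 0x1404035212)) (.leaf (nat_lit 0x1f03035231))))) (.node 4 (.node 2 (.node 1 (.leaf (nat_lit 0x1f07035241)) (.leaf (nat_lit 0x1f03035271))) (.node 1 (.leaf (nat_lit 0x1f07035281)) (.leaf (nat_lit 0x1f03035291)))) (.node 2 (.node 1 (.leaf (nat_lit 0x1f040352a1)) (.leaf (nat_lit 0x1f05035311))) (.node 1 (.leaf (nat_lit 0x1f08035311)) (.leaf (nat_lit 0x1f06035331))))))) (.node 16 (.node 8 (.node 4 (.node 2 (.node 1 (.leaf (nat_lit 0x1f08035331)) (.leaf (nat_lit 0x1f08035351))) (.node 1 (.leaf (nat_lit 0x1f07035361)) (.leaf (nat_lit 0x1f05035381)))) (.node 2 (.node 1 (.leaf (nat_lit 0x1f08035381)) (.leaf (nat_lit 0x1f07035391))) (.node 1 (.leaf (nat_lit 0x1f080353a1)) (.leaf (nat_lit 0x1f070353b1))))) (.node 4 (.node 2 (.node 1 (.leaf (nat_lit 0x1f030353c1)) (.leaf (nat_lit 0x1f080353d1))) (.node 1 (.leaf (nat_lit 0x1f070353e1)) (.leaf (nat_lit 0x1f030353f1)))) (.node 2 (.node 1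 (.leaf (nat_lit 0x1f04035401)) (.leaf (nat_lit 0x1f03035481))) (.node 1 (.leaf (nat_lit 0x1f08035481)) (.leaf (nat_lit 0x1f07035491)))))) (.node 8 (.node 4 (.node 2 (.node 1 (.leaf (nat_lit 0x1f070354a1)) (.leaf (nat_lit 0x1f080354a1))) (.node 1 (.leaf (nat_lit 0x1f070354b1)) (.leaf (nat_lit 0x21070354e1)))) (.node 2 (.node 1 (.leaf (nat_lit 0x1f07035501)) (.leaf (nat_lit 0x1f03035511))) (.node 1 (.leaf (nat_lit 0x1f04035521)) (.leaf (nat_lit 0x1f03035531))))) (.node 4 (.node 2 (.node 1 (.leaf (nat_lit 0x1f02035541)) (.leaf (nat_lit 0x1f04035541))) (.node 1 (.leaf (nat_lit 0x1f05035551)) (.leaf (nat_lit 0x2107035561)))) (.node 2 (.node 1 (.leaf (nat_lit 0x2104043861)) (.leaf (nat_lit 0x1f08035581))) (.node 1 (.leaf (nat_lit 0x1f07035591)) (.leaf (nat_lit 0x1f070355a1))))))))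

noncomputable def oT124 : Tree :=
  .node 64 (.node 32 (.node 16 (.node 8 (.node 4 (.node 2 (.node 1 (.leaf (nat_lit 0x1f030355b1)) (.leaf (nat_lit 0x1f040355d1))) (.node 1 (.leaf (nat_lit 0x21070355e1)) (.leaf (nat_lit 0x21040465b1)))) (.node 2 (.node 1 (.leaf (nat_lit 0x2103040ad1)) (.leaf (nat_lit 0x1f03035611))) (.node 1 (.leaf (nat_lit 0x1f02035621)) (.leaf (nat_lit 0x1f04035621))))) (.node 4 (.node 2 (.node 1 (.leaf (nat_lit 0x1f05035631)) (.leaf (nat_lit 0x1f02035641))) (.node 1 (.leaf (nat_lit 0x1f04035641)) (.leaf (nat_lit 0x1f04035651)))) (.node 2 (.node 1 (.leaf (nat_lit 0x1f05035661)) (.leaf (nat_lit 0x1f06035671))) (.node 1 (.leaf (nat_lit 0x1f00035681)) (.leaf (nat_lit 0x1f08035681)))))) (.node 8 (.node 4 (.node 2 (.node 1 (.leaf (nat_lit 0x1f07035691)) (.leaf (nat_lit 0x1f030357c1))) (.node 1 (.leaf (nat_lit 0x21080356b1)) (.leaf (nat_lit 0x21070356c1)))) (.node 2 (.node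 1 (.leaf (nat_lit 0x1f080356e1)) (.leaf (nat_lit 0x1f070356f1))) (.node 1 (.leaf (nat_lit 0x1f03035701)) (.leaf (nat_lit 0x1f07035711))))) (.node 4 (.node 2 (.node 1 (.leaf (nat_lit 0x1f03035721)) (.leaf (nat_lit 0x1f04035731))) (.node 1 (.leaf (nat_lit 0x1f070357f1)) (.leaf (nat_lit 0x1f08035761)))) (.node 2 (.node 1 (.leaf (nat_lit 0x1f03035771)) (.leaf (nat_lit 0x1f08035771))) (.node 1 (.leaf (nat_lit 0x1f07035781)) (.leaf (nat_lit 0x1f07035791))))))) (.node 16 (.node 8 (.node 4 (.node 2 (.node 1 (.leaf (nat_lit 0x1f08035791)) (.leaf (nat_lit 0x1f030357b1))) (.node 1 (.leaf (nat_lit 0x1f08035871)) (.leaf (nat_lit 0x1f03035801)))) (.node 2 (.node 1 (.leaf (nat_lit 0x1f04035811)) (.leaf (nat_lit 0x1f030359d1))) (.node 1 (.leaf (nat_lit 0x1f04035871)) (.leaf (nat_lit 0x1f05035881))))) (.node 4 (.node 2 (.node 1 (.leaf (nat_lit 0x1f08035881)) (.leaf (nat_lit 0x1f07035891))) (.node 1 (.leaf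 (nat_lit 0x1f050358a1)) (.leaf (nat_lit 0x1f070358a1)))) (.node 2 (.node 1 (.leaf (nat_lit 0x1f080358a1)) (.leaf (nat_lit 0x1f060358b1))) (.node 1 (.leaf (nat_lit 0x1f080358b1)) (.leaf (nat_lit 0x1f070358c1)))))) (.node 8 (.node 4 (.node 2 (.node 1 (.leaf (nat_lit 0x1f030358d1)) (.leaf (nat_lit 0x1f080358e1))) (.node 1 (.leaf (nat_lit 0x1f070358f1)) (.leaf (nat_lit 0x1f03035901)))) (.node 2 (.node 1 (.leaf (nat_lit 0x1f04035911)) (.leaf (nat_lit 0x1f05035921))) (.node 1 (.leaf (nat_lit 0x1f04035931)) (.leaf (nat_lit 0x2108035941))))) (.node 4 (.node 2 (.node 1 (.leaf (nat_lit 0x2104035961)) (.leaf (nat_lit 0x2107035971))) (.node 1 (.leaf (nat_lit 0x1f05035991)) (.leaf (nat_lit 0x1f08035991)))) (.node 2 (.node 1 (.leaf (nat_lit 0x1f070359a1)) (.leaf (nat_lit 0x1f060359b1))) (.node 1 (.leaf (nat_lit 0x1f080359b1)) (.leaf (nat_lit 0x1f070359c1)))))))) (.node 32 (.node 16 (.node 8 (.node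 4 (.node 2 (.node 1 (.leaf (nat_lit 0x210003f441)) (.leaf (nat_lit 0x1f080359e1))) (.node 1 (.leaf (nat_lit 0x1f070359f1)) (.leaf (nat_lit 0x1f03035a01)))) (.node 2 (.node 1 (.leaf (nat_lit 0x1f04035a11)) (.leaf (nat_lit 0x2103035b51))) (.node 1 (.leaf (nat_lit 0x1f07035a31)) (.leaf (nat_lit 0x1f06035a51))))) (.node 4 (.node 2 (.node 1 (.leaf (nat_lit 0x1f08035a51)) (.leaf (nat_lit 0x1f07035a61))) (.node 1 (.leaf (nat_lit 0x1f00035e01)) (.leaf (nat_lit 0x1f08035a81)))) (.node 2 (.node 1 (.leaf (nat_lit 0x1f07035a91)) (.leaf (nat_lit 0x1f03035aa1))) (.node 1 (.leaf (nat_lit 0x2102035b11)) (.leaf (nat_lit 0x1f07035ad1)))))) (.node 8 (.node 4 (.node 2 (.node 1 (.leaf (nat_lit 0x1f03035ae1)) (.leaf (nat_lit 0x1f04035af1))) (.node 1 (.leaf (nat_lit 0x210703f9a1)) (.leaf (nat_lit 0x1f08035b61)))) (.node 2 (.node 1 (.leaf (nat_lit 0x1f07035b71)) (.leaf (nat_lit 0x1f05035b81))) (.node 1 (.leaf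 (nat_lit 0x1f08035b91)) (.leaf (nat_lit 0x1f05035bb1))))) (.node 4 (.node 2 (.node 1 (.leaf (nat_lit 0x1f08035cb1)) (.leaf (nat_lit 0x1f02035ce1))) (.node 1 (.leaf (nat_lit 0x1f08035ce1)) (.leaf (nat_lit 0x1f01035d01)))) (.node 2 (.node 1 (.leaf (nat_lit 0x1f08035d01)) (.leaf (nat_lit 0x1f07035d11))) (.node 1 (.leaf (nat_lit 0x2301042781)) (.leaf (nat_lit 0x1f08035d21))))))) (.node 16 (.node 8 (.node 4 (.node 2 (.node 1 (.leaf (nat_lit 0x230703f7b1)) (.leaf (nat_lit 0x1f08035d81))) (.node 1 (.leaf (nat_lit 0x1f07035db1)) (.leaf (nat_lit 0x1f08035dc1)))) (.node 2 (.node 1 (.leaf (nat_lit 0x1f07035dd1)) (.leaf (nat_lit 0x2108035de1))) (.node 1 (.leaf (nat_lit 0x2107035df1)) (.leaf (nat_lit 0x1f08035e01))))) (.node 4 (.node 2 (.node 1 (.leaf (nat_lit 0x1f07035e11)) (.leaf (nat_lit 0x1506035e62))) (.node 1 (.leaf (nat_lit 0x1508035e62)) (.leaf (nat_lit 0x1507035e72)))) (.node 2 (.node 1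 (.leaf (nat_lit 0x2006035e91)) (.leaf (nat_lit 0x2008035e91))) (.node 1 (.leaf (nat_lit 0x2007035ea1)) (.leaf (nat_lit 0x2006035ec1)))))) (.node 8 (.node 4 (.node 2 (.node 1 (.leaf (nat_lit 0x2008035ec1)) (.leaf (nat_lit 0x2007035ed1))) (.node 1 (.leaf (nat_lit 0x20000382a1)) (.leaf (nat_lit 0x2008035ef1)))) (.node 2 (.node 1 (.leaf (nat_lit 0x2007035f01)) (.leaf (nat_lit 0x2003035f11))) (.node 1 (.leaf (nat_lit 0x2007035f21)) (.leaf (nat_lit 0x2007035f31))))) (.node 4 (.node 2 (.node 1 (.leaf (nat_lit 0x2001038251)) (.leaf (nat_lit 0x2008035f61))) (.node 1 (.leaf (nat_lit 0x2007035f71)) (.leaf (nat_lit 0x2003035f81)))) (.node 2 (.node 1 (.leaf (nat_lit 0x2006035fa1)) (.leaf (nat_lit 0x2008035fa1))) (.node 1 (.leaf (nat_lit 0x2007035fb1)) (.leaf (nat_lit 0x2204036001))))))))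

noncomputable def oT125 : Tree :=
  .node 64 (.node 32 (.node 16 (.node 8 (.node 4 (.node 2 (.node 1 (.leaf (nat_lit 0x2008035fd1)) (.leaf (nat_lit 0x2007035fe1))) (.node 1 (.leaf (nat_lit 0x2208036001)) (.leaf (nat_lit 0x2007036011)))) (.node 2 (.node 1 (.leaf (nat_lit 0x2003036021)) (.leaf (nat_lit 0x2002036031))) (.node 1 (.leaf (nat_lit 0x2008036041)) (.leaf (nat_lit 0x2007036051))))) (.node 4 (.node 2 (.node 1 (.leaf (nat_lit 0x2007036071)) (.leaf (nat_lit 0x2000036091))) (.node 1 (.leaf (nat_lit 0x2008036091)) (.leaf (nat_lit 0x20070360a1)))) (.node 2 (.node 1 (.leaf (nat_lit 0x20000360c1)) (.leaf (nat_lit 0x20080360c1))) (.node 1 (.leaf (nat_lit 0x20070360d1)) (.leaf (nat_lit 0x20080360f1)))))) (.node 8 (.node 4 (.node 2 (.node 1 (.leaf (nat_lit 0x2007036101)) (.leaf (nat_lit 0x2003036111))) (.node 1 (.leaf (nat_lit 0x2007036121)) (.leaf (nat_lit 0x2003036131)))) (.node 2 (.node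 1 (.leaf (nat_lit 0x2004036141)) (.leaf (nat_lit 0x15030361f2))) (.node 1 (.leaf (nat_lit 0x15080361f2)) (.leaf (nat_lit 0x2007036211))))) (.node 4 (.node 2 (.node 1 (.leaf (nat_lit 0x1503036222)) (.leaf (nat_lit 0x1508036222))) (.node 1 (.leaf (nat_lit 0x1502036232)) (.leaf (nat_lit 0x1504036232)))) (.node 2 (.node 1 (.leaf (nat_lit 0x1508036232)) (.leaf (nat_lit 0x2001037b21))) (.node 1 (.leaf (nat_lit 0x1504036262)) (.leaf (nat_lit 0x1508036262))))))) (.node 16 (.node 8 (.node 4 (.node 2 (.node 1 (.leaf (nat_lit 0x1508036282)) (.leaf (nat_lit 0x1507036292))) (.node 1 (.leaf (nat_lit 0x15080362d2)) (.leaf (nat_lit 0x1503036302)))) (.node 2 (.node 1 (.leaf (nat_lit 0x1508036302)) (.leaf (nat_lit 0x1507036322))) (.node 1 (.leaf (nat_lit 0x1508036332)) (.leaf (nat_lit 0x1506036352))))) (.node 4 (.node 2 (.node 1 (.leaf (nat_lit 0x1508036352)) (.leaf (nat_lit 0x1507036362))) (.node 1 (.leaf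 (nat_lit 0x200203a841)) (.leaf (nat_lit 0x1503036392)))) (.node 2 (.node 1 (.leaf (nat_lit 0x1508036392)) (.leaf (nat_lit 0x15040363a2))) (.node 1 (.leaf (nat_lit 0x15080363a2)) (.leaf (nat_lit 0x15080363c2)))))) (.node 8 (.node 4 (.node 2 (.node 1 (.leaf (nat_lit 0x15080363e2)) (.leaf (nat_lit 0x15050363f2))) (.node 1 (.leaf (nat_lit 0x15080363f2)) (.leaf (nat_lit 0x1507036402)))) (.node 2 (.node 1 (.leaf (nat_lit 0x1506036412)) (.leaf (nat_lit 0x1508036412))) (.node 1 (.leaf (nat_lit 0x1507036422)) (.leaf (nat_lit 0x2000038201))))) (.node 4 (.node 2 (.node 1 (.leaf (nat_lit 0x1508036442)) (.leaf (nat_lit 0x1507036452))) (.node 1 (.leaf (nat_lit 0x20060367a1)) (.leaf (nat_lit 0x2007036481)))) (.node 2 (.node 1 (.leaf (nat_lit 0x20030364a1)) (.leaf (nat_lit 0x20080364a1))) (.node 1 (.leaf (nat_lit 0x20020364b1)) (.leaf (nat_lit 0x20040364b1)))))))) (.node 32 (.node 16 (.node 8 (.node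 4 (.node 2 (.node 1 (.leaf (nat_lit 0x20080364b1)) (.leaf (nat_lit 0x2005036791))) (.node 1 (.leaf (nat_lit 0x22070364d1)) (.leaf (nat_lit 0x20030364e1)))) (.node 2 (.node 1 (.leaf (nat_lit 0x20080364e1)) (.leaf (nat_lit 0x200603c6a1))) (.node 1 (.leaf (nat_lit 0x2007036951)) (.leaf (nat_lit 0x2002036501))))) (.node 4 (.node 2 (.node 1 (.leaf (nat_lit 0x2004036501)) (.leaf (nat_lit 0x2008036501))) (.node 1 (.leaf (nat_lit 0x2001036521)) (.leaf (nat_lit 0x2004036521)))) (.node 2 (.node 1 (.leaf (nat_lit 0x2008036521)) (.leaf (nat_lit 0x2008036531))) (.node 1 (.leaf (nat_lit 0x2007036541)) (.leaf (nat_lit 0x2001038501)))))) (.node 8 (.node 4 (.node 2 (.node 1 (.leaf (nat_lit 0x2003036561)) (.leaf (nat_lit 0x2005036571))) (.node 1 (.leaf (nat_lit 0x2008036571)) (.leaf (nat_lit 0x2007036581)))) (.node 2 (.node 1 (.leaf (nat_lit 0x2007036591)) (.leaf (nat_lit 0x2007036a81))) (.node 1 (.leaf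 (nat_lit 0x20020365d1)) (.leaf (nat_lit 0x20080365d1))))) (.node 4 (.node 2 (.node 1 (.leaf (nat_lit 0x2001036611)) (.leaf (nat_lit 0x2008036611))) (.node 1 (.leaf (nat_lit 0x2000036631)) (.leaf (nat_lit 0x2008036631)))) (.node 2 (.node 1 (.leaf (nat_lit 0x2007036641)) (.leaf (nat_lit 0x2000036681))) (.node 1 (.leaf (nat_lit 0x2008036681)) (.leaf (nat_lit 0x20080366a1))))))) (.node 16 (.node 8 (.node 4 (.node 2 (.node 1 (.leaf (nat_lit 0x20070366b1)) (.leaf (nat_lit 0x20030366f1))) (.node 1 (.leaf (nat_lit 0x20050366f1)) (.leaf (nat_lit 0x20070366e1)))) (.node 2 (.node 1 (.leaf (nat_lit 0x2003036701)) (.leaf (nat_lit 0x2008036701))) (.node 1 (.leaf (nat_lit 0x2004036711)) (.leaf (nat_lit 0x2008036711))))) (.node 4 (.node 2 (.node 1 (.leaf (nat_lit 0x2008036741)) (.leaf (nat_lit 0x2007036751))) (.node 1 (.leaf (nat_lit 0x2007036761)) (.leaf (nat_lit 0x20030367b1)))) (.node 2 (.node 1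 (.leaf (nat_lit 0x20080367b1)) (.leaf (nat_lit 0x20080367c1))) (.node 1 (.leaf (nat_lit 0x20050367e1)) (.leaf (nat_lit 0x20080367e1)))))) (.node 8 (.node 4 (.node 2 (.node 1 (.leaf (nat_lit 0x20070367f1)) (.leaf (nat_lit 0x2006036801))) (.node 1 (.leaf (nat_lit 0x2008036801)) (.leaf (nat_lit 0x2007036811)))) (.node 2 (.node 1 (.leaf (nat_lit 0x20010381e1)) (.leaf (nat_lit 0x2008036831))) (.node 1 (.leaf (nat_lit 0x2007036841)) (.leaf (nat_lit 0x220203ab91))))) (.node 4 (.node 2 (.node 1 (.leaf (nat_lit 0x20030368a1)) (.leaf (nat_lit 0x20080368a1))) (.node 1 (.leaf (nat_lit 0x200203aa21)) (.leaf (nat_lit 0x200703de91)))) (.node 2 (.node 1 (.leaf (nat_lit 0x20040368c1)) (.leaf (nat_lit 0x20080368c1))) (.node 1 (.leaf (nat_lit 0x20050368e1)) (.leaf (nat_lit 0x20080368e1))))))))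

noncomputable def oT126 : Tree :=
  .node 64 (.node 32 (.node 16 (.node 8 (.node 4 (.node 2 (.node 1 (.leaf (nat_lit 0x20070368f1)) (.leaf (nat_lit 0x200203aa61))) (.node 1 (.leaf (nat_lit 0x2008036911)) (.leaf (nat_lit 0x2002036921)))) (.node 2 (.node 1 (.leaf (nat_lit 0x2004036921)) (.leaf (nat_lit 0x2008036921))) (.node 1 (.leaf (nat_lit 0x2008036941)) (.leaf (nat_lit 0x2008036961))))) (.node 4 (.node 2 (.node 1 (.leaf (nat_lit 0x2005036971)) (.leaf (nat_lit 0x2008036971))) (.node 1 (.leaf (nat_lit 0x2007036981)) (.leaf (nat_lit 0x2008036991)))) (.node 2 (.node 1 (.leaf (nat_lit 0x20050369a1)) (.leaf (nat_lit 0x20080369a1))) (.node 1 (.leaf (nat_lit 0x20070369b1)) (.leaf (nat_lit 0x20060369c1)))))) (.node 8 (.node 4 (.node 2 (.node 1 (.leaf (nat_lit 0x20080369c1)) (.leaf (nat_lit 0x20070369d1))) (.node 1 (.leaf (nat_lit 0x20060369f1)) (.leaf (nat_lit 0x20080369f1)))) (.node 2 (.node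 1 (.leaf (nat_lit 0x2007036a01)) (.leaf (nat_lit 0x20000387d1))) (.node 1 (.leaf (nat_lit 0x2008036a21)) (.leaf (nat_lit 0x2007036a31))))) (.node 4 (.node 2 (.node 1 (.leaf (nat_lit 0x2003036a41)) (.leaf (nat_lit 0x200303ade1))) (.node 1 (.leaf (nat_lit 0x2007036a61)) (.leaf (nat_lit 0x2008036a91)))) (.node 2 (.node 1 (.leaf (nat_lit 0x2206036fd1)) (.leaf (nat_lit 0x2007036ae1))) (.node 1 (.leaf (nat_lit 0x2204036fd1)) (.leaf (nat_lit 0x24010394e1))))))) (.node 16 (.node 8 (.node 4 (.node 2 (.node 1 (.leaf (nat_lit 0x2003036b01)) (.leaf (nat_lit 0x2008036b01))) (.node 1 (.leaf (nat_lit 0x22040473d1)) (.leaf (nat_lit 0x2207037291)))) (.node 2 (.node 1 (.leaf (nat_lit 0x2002036b21)) (.leaf (nat_lit 0x2004036b21))) (.node 1 (.leaf (nat_lit 0x2008036b21)) (.leaf (nat_lit 0x2008036b41))))) (.node 4 (.node 2 (.node 1 (.leaf (nat_lit 0x2008036b51)) (.leaf (nat_lit 0x2007036b61))) (.node 1 (.leaf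 (nat_lit 0x220403ae01)) (.leaf (nat_lit 0x2201039581)))) (.node 2 (.node 1 (.leaf (nat_lit 0x2207037351)) (.leaf (nat_lit 0x2002036b91))) (.node 1 (.leaf (nat_lit 0x2004036b91)) (.leaf (nat_lit 0x2008036b91)))))) (.node 8 (.node 4 (.node 2 (.node 1 (.leaf (nat_lit 0x200103e591)) (.leaf (nat_lit 0x20010395e1))) (.node 1 (.leaf (nat_lit 0x2203036bc1)) (.leaf (nat_lit 0x2001036bd1)))) (.node 2 (.node 1 (.leaf (nat_lit 0x2004036bd1)) (.leaf (nat_lit 0x2008036bd1))) (.node 1 (.leaf (nat_lit 0x2005036be1)) (.leaf (nat_lit 0x2008036be1))))) (.node 4 (.node 2 (.node 1 (.leaf (nat_lit 0x2007036bf1)) (.leaf (nat_lit 0x2008036c01))) (.node 1 (.leaf (nat_lit 0x2008036c11)) (.leaf (nat_lit 0x2007036c21)))) (.node 2 (.node 1 (.leaf (nat_lit 0x2007036c31)) (.leaf (nat_lit 0x20010396c1))) (.node 1 (.leaf (nat_lit 0x2008036c51)) (.leaf (nat_lit 0x20030374d1)))))))) (.node 32 (.node 16 (.node 8 (.node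 4 (.node 2 (.node 1 (.leaf (nat_lit 0x2008036c71)) (.leaf (nat_lit 0x2007036c81))) (.node 1 (.leaf (nat_lit 0x2003036ca1)) (.leaf (nat_lit 0x2207037571)))) (.node 2 (.node 1 (.leaf (nat_lit 0x200103da41)) (.leaf (nat_lit 0x2201036db1))) (.node 1 (.leaf (nat_lit 0x2001036ce1)) (.leaf (nat_lit 0x2004036ce1))))) (.node 4 (.node 2 (.node 1 (.leaf (nat_lit 0x2008036ce1)) (.leaf (nat_lit 0x2008036cf1))) (.node 1 (.leaf (nat_lit 0x2007036d01)) (.leaf (nat_lit 0x2008036d11)))) (.node 2 (.node 1 (.leaf (nat_lit 0x2003037611)) (.leaf (nat_lit 0x2008036d31))) (.node 1 (.leaf (nat_lit 0x2007036d41)) (.leaf (nat_lit 0x2008036d61)))))) (.node 8 (.node 4 (.node 2 (.node 1 (.leaf (nat_lit 0x2007036d71)) (.leaf (nat_lit 0x2003036d81))) (.node 1 (.leaf (nat_lit 0x2003039841)) (.leaf (nat_lit 0x20030376a1)))) (.node 2 (.node 1 (.leaf (nat_lit 0x2004036dc1)) (.leaf (nat_lit 0x2008036dc1))) (.node 1 (.leaf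 (nat_lit 0x2008036dd1)) (.leaf (nat_lit 0x2007036de1))))) (.node 4 (.node 2 (.node 1 (.leaf (nat_lit 0x2007036df1)) (.leaf (nat_lit 0x2007036e11))) (.node 1 (.leaf (nat_lit 0x2007036e31)) (.leaf (nat_lit 0x2003036e41)))) (.node 2 (.node 1 (.leaf (nat_lit 0x2007036e51)) (.leaf (nat_lit 0x2003036e61))) (.node 1 (.leaf (nat_lit 0x2004036e71)) (.leaf (nat_lit 0x22070477b1))))))) (.node 16 (.node 8 (.node 4 (.node 2 (.node 1 (.leaf (nat_lit 0x2007036e81)) (.leaf (nat_lit 0x200203da31))) (.node 1 (.leaf (nat_lit 0x2003036ea1)) (.leaf (nat_lit 0x2008036ea1)))) (.node 2 (.node 1 (.leaf (nat_lit 0x2008036eb1)) (.leaf (nat_lit 0x2206036ed1))) (.node 1 (.leaf (nat_lit 0x2005036ef1)) (.leaf (nat_lit 0x2003036ee1))))) (.node 4 (.node 2 (.node 1 (.leaf (nat_lit 0x2008036ee1)) (.leaf (nat_lit 0x2003036ef1))) (.node 1 (.leaf (nat_lit 0x2008036ef1)) (.leaf (nat_lit 0x2002036f01)))) (.node 2 (.node 1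 (.leaf (nat_lit 0x2004036f01)) (.leaf (nat_lit 0x2008036f01))) (.node 1 (.leaf (nat_lit 0x2008036f21)) (.leaf (nat_lit 0x2008036f31)))))) (.node 8 (.node 4 (.node 2 (.node 1 (.leaf (nat_lit 0x2007036f41)) (.leaf (nat_lit 0x2005036f61))) (.node 1 (.leaf (nat_lit 0x2008036f61)) (.leaf (nat_lit 0x2007036f71)))) (.node 2 (.node 1 (.leaf (nat_lit 0x2007036f81)) (.leaf (nat_lit 0x2007036f91))) (.node 1 (.leaf (nat_lit 0x2007036fc1)) (.leaf (nat_lit 0x22010477b1))))) (.node 4 (.node 2 (.node 1 (.leaf (nat_lit 0x2003036fe1)) (.leaf (nat_lit 0x2008036fe1))) (.node 1 (.leaf (nat_lit 0x2007037091)) (.leaf (nat_lit 0x2208036ff1)))) (.node 2 (.node 1 (.leaf (nat_lit 0x2002037001)) (.leaf (nat_lit 0x2004037001))) (.node 1 (.leaf (nat_lit 0x2008037001)) (.leaf (nat_lit 0x2008037021))))))))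

noncomputable def oT127 : Tree :=
  .node 64 (.node 32 (.node 16 (.node 8 (.node 4 (.node 2 (.node 1 (.leaf (nat_lit 0x2008037031)) (.leaf (nat_lit 0x2007037041))) (.node 1 (.leaf (nat_lit 0x2006037061)) (.leaf (nat_lit 0x2005037091)))) (.node 2 (.node 1 (.leaf (nat_lit 0x2008037061)) (.leaf (nat_lit 0x2002037071))) (.node 1 (.leaf (nat_lit 0x2004037071)) (.leaf (nat_lit 0x2008037071))))) (.node 4 (.node 2 (.node 1 (.leaf (nat_lit 0x2008037091)) (.leaf (nat_lit 0x20080370b1))) (.node 1 (.leaf (nat_lit 0x20050370c1)) (.leaf (nat_lit 0x20080370c1)))) (.node 2 (.node 1 (.leaf (nat_lit 0x20070370d1)) (.leaf (nat_lit 0x20070370e1))) (.node 1 (.leaf (nat_lit 0x20060370f1)) (.leaf (nat_lit 0x20080370f1)))))) (.node 8 (.node 4 (.node 2 (.node 1 (.leaf (nat_lit 0x2007037101)) (.leaf (nat_lit 0x2006037121))) (.node 1 (.leaf (nat_lit 0x2008037121)) (.leaf (nat_lit 0x2007037131)))) (.node 2 (.node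 1 (.leaf (nat_lit 0x2001039431)) (.leaf (nat_lit 0x2008037151))) (.node 1 (.leaf (nat_lit 0x2007037161)) (.leaf (nat_lit 0x2003037171))))) (.node 4 (.node 2 (.node 1 (.leaf (nat_lit 0x2208037181)) (.leaf (nat_lit 0x2007037191))) (.node 1 (.leaf (nat_lit 0x20080371b1)) (.leaf (nat_lit 0x20080371d1)))) (.node 2 (.node 1 (.leaf (nat_lit 0x20070371e1)) (.leaf (nat_lit 0x20070371f1))) (.node 1 (.leaf (nat_lit 0x2003037211)) (.leaf (nat_lit 0x2201039ce1))))))) (.node 16 (.node 8 (.node 4 (.node 2 (.node 1 (.leaf (nat_lit 0x2003037231)) (.leaf (nat_lit 0x2008037231))) (.node 1 (.leaf (nat_lit 0x2201039d11)) (.leaf (nat_lit 0x2207037341)))) (.node 2 (.node 1 (.leaf (nat_lit 0x2208037251)) (.leaf (nat_lit 0x2002037261))) (.node 1 (.leaf (nat_lit 0x2004037261)) (.leaf (nat_lit 0x2008037261))))) (.node 4 (.node 2 (.node 1 (.leaf (nat_lit 0x2007037391)) (.leaf (nat_lit 0x20070373a1))) (.node 1 (.leaf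 (nat_lit 0x2208037281)) (.leaf (nat_lit 0x20010372a1)))) (.node 2 (.node 1 (.leaf (nat_lit 0x20040372a1)) (.leaf (nat_lit 0x20080372a1))) (.node 1 (.leaf (nat_lit 0x20050372b1)) (.leaf (nat_lit 0x20080372b1)))))) (.node 8 (.node 4 (.node 2 (.node 1 (.leaf (nat_lit 0x20070372c1)) (.leaf (nat_lit 0x20080372d1))) (.node 1 (.leaf (nat_lit 0x20080372e1)) (.leaf (nat_lit 0x20070372f1)))) (.node 2 (.node 1 (.leaf (nat_lit 0x2006037301)) (.leaf (nat_lit 0x2008037301))) (.node 1 (.leaf (nat_lit 0x2007037311)) (.leaf (nat_lit 0x2203037331))))) (.node 4 (.node 2 (.node 1 (.leaf (nat_lit 0x2208037331)) (.leaf (nat_lit 0x2003037581))) (.node 1 (.leaf (nat_lit 0x2203047171)) (.leaf (nat_lit 0x2208037341)))) (.node 2 (.node 1 (.leaf (nat_lit 0x2001037361)) (.leaf (nat_lit 0x2004037361))) (.node 1 (.leaf (nat_lit 0x2008037361)) (.leaf (nat_lit 0x2005037371)))))))) (.node 32 (.node 16 (.node 8 (.node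 4 (.node 2 (.node 1 (.leaf (nat_lit 0x2008037371)) (.leaf (nat_lit 0x2007037381))) (.node 1 (.leaf (nat_lit 0x20030375f1)) (.leaf (nat_lit 0x2008037391)))) (.node 2 (.node 1 (.leaf (nat_lit 0x20030374b1)) (.leaf (nat_lit 0x20080373a1))) (.node 1 (.leaf (nat_lit 0x22070373b1)) (.leaf (nat_lit 0x20000373c1))))) (.node 4 (.node 2 (.node 1 (.leaf (nat_lit 0x20040373c1)) (.leaf (nat_lit 0x20080373c1))) (.node 1 (.leaf (nat_lit 0x20050373d1)) (.leaf (nat_lit 0x20080373d1)))) (.node 2 (.node 1 (.leaf (nat_lit 0x20070373e1)) (.leaf (nat_lit 0x20060373f1))) (.node 1 (.leaf (nat_lit 0x20080373f1)) (.leaf (nat_lit 0x2007037401)))))) (.node 8 (.node 4 (.node 2 (.node 1 (.leaf (nat_lit 0x2008037421)) (.leaf (nat_lit 0x2008037431))) (.node 1 (.leaf (nat_lit 0x2007037441)) (.leaf (nat_lit 0x2006037451)))) (.node 2 (.node 1 (.leaf (nat_lit 0x2008037451)) (.leaf (nat_lit 0x2007037461))) (.node 1 (.leaf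 (nat_lit 0x2003037471)) (.leaf (nat_lit 0x2202048081))))) (.node 4 (.node 2 (.node 1 (.leaf (nat_lit 0x2008037481)) (.leaf (nat_lit 0x2007037491))) (.node 1 (.leaf (nat_lit 0x20030374a1)) (.leaf (nat_lit 0x2004038c21)))) (.node 2 (.node 1 (.leaf (nat_lit 0x20080374b1)) (.leaf (nat_lit 0x20070374c1))) (.node 1 (.leaf (nat_lit 0x22040472b1)) (.leaf (nat_lit 0x20080374e1))))))) (.node 16 (.node 8 (.node 4 (.node 2 (.node 1 (.leaf (nat_lit 0x20070374f1)) (.leaf (nat_lit 0x2003037501))) (.node 1 (.leaf (nat_lit 0x2204037551)) (.leaf (nat_lit 0x2007037521)))) (.node 2 (.node 1 (.leaf (nat_lit 0x2003037531)) (.leaf (nat_lit 0x2002037541))) (.node 1 (.leaf (nat_lit 0x200303def1)) (.leaf (nat_lit 0x200403b101))))) (.node 4 (.node 2 (.node 1 (.leaf (nat_lit 0x2008037581)) (.leaf (nat_lit 0x2007037591))) (.node 1 (.leaf (nat_lit 0x20000375a1)) (.leaf (nat_lit 0x20040375a1)))) (.node 2 (.node 1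 (.leaf (nat_lit 0x20080375a1)) (.leaf (nat_lit 0x20030375b1))) (.node 1 (.leaf (nat_lit 0x20080375b1)) (.leaf (nat_lit 0x20070375c1)))))) (.node 8 (.node 4 (.node 2 (.node 1 (.leaf (nat_lit 0x20070375d1)) (.leaf (nat_lit 0x200403e0e1))) (.node 1 (.leaf (nat_lit 0x20080375f1)) (.leaf (nat_lit 0x2007037601)))) (.node 2 (.node 1 (.leaf (nat_lit 0x2008037621)) (.leaf (nat_lit 0x2007037631))) (.node 1 (.leaf (nat_lit 0x2003037641)) (.leaf (nat_lit 0x2007037651))))) (.node 4 (.node 2 (.node 1 (.leaf (nat_lit 0x2003037661)) (.leaf (nat_lit 0x2004037671))) (.node 1 (.leaf (nat_lit 0x200403b1c1)) (.leaf (nat_lit 0x2008037681)))) (.node 2 (.node 1 (.leaf (nat_lit 0x2007037691)) (.leaf (nat_lit 0x20040376b1))) (.node 1 (.leaf (nat_lit 0x20080376b1)) (.leaf (nat_lit 0x20080376c1))))))))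

noncomputable def oT128 : Tree :=
  .node 64 (.node 32 (.node 16 (.node 8 (.node 4 (.node 2 (.node 1 (.leaf (nat_lit 0x20070376d1)) (.leaf (nat_lit 0x20070376e1))) (.node 1 (.leaf (nat_lit 0x20030376f1)) (.leaf (nat_lit 0x2208037711)))) (.node 2 (.node 1 (.leaf (nat_lit 0x2207037721)) (.leaf (nat_lit 0x220703a421))) (.node 1 (.leaf (nat_lit 0x2007037741)) (.leaf (nat_lit 0x2003037751))))) (.node 4 (.node 2 (.node 1 (.leaf (nat_lit 0x2004037761)) (.leaf (nat_lit 0x15080377b2))) (.node 1 (.leaf (nat_lit 0x15070377d2)) (.leaf (nat_lit 0x15080377e2)))) (.node 2 (.node 1 (.leaf (nat_lit 0x1508037812)) (.leaf (nat_lit 0x1507037822))) (.node 1 (.leaf (nat_lit 0x1507037832)) (.leaf (nat_lit 0x1508037852)))))) (.node 8 (.node 4 (.node 2 (.node 1 (.leaf (nat_lit 0x1507037862)) (.leaf (nat_lit 0x2008037881))) (.node 1 (.leaf (nat_lit 0x15070378a2)) (.leaf (nat_lit 0x15080378b2)))) (.node 2 (.node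 1 (.leaf (nat_lit 0x15070378c2)) (.leaf (nat_lit 0x2008037c91))) (.node 1 (.leaf (nat_lit 0x15070378e2)) (.leaf (nat_lit 0x15030378f2))))) (.node 4 (.node 2 (.node 1 (.leaf (nat_lit 0x15080378f2)) (.leaf (nat_lit 0x20010379a1))) (.node 1 (.leaf (nat_lit 0x1508037912)) (.leaf (nat_lit 0x2005037c91)))) (.node 2 (.node 1 (.leaf (nat_lit 0x1507037932)) (.leaf (nat_lit 0x1503037942))) (.node 1 (.leaf (nat_lit 0x1508037942)) (.leaf (nat_lit 0x2003037c91))))))) (.node 16 (.node 8 (.node 4 (.node 2 (.node 1 (.leaf (nat_lit 0x1507037952)) (.leaf (nat_lit 0x20040379a1))) (.node 1 (.leaf (nat_lit 0x1503037972)) (.leaf (nat_lit 0x1508037972)))) (.node 2 (.node 1 (.leaf (nat_lit 0x1502037982)) (.leaf (nat_lit 0x1504037982))) (.node 1 (.leaf (nat_lit 0x1508037982)) (.leaf (nat_lit 0x20080379a1))))) (.node 4 (.node 2 (.node 1 (.leaf (nat_lit 0x15080379c2)) (.leaf (nat_lit 0x15070379d2))) (.node 1 (.leaf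 (nat_lit 0x2208037df1)) (.leaf (nat_lit 0x2005037a11)))) (.node 2 (.node 1 (.leaf (nat_lit 0x1508037a02)) (.leaf (nat_lit 0x2008037a11))) (.node 1 (.leaf (nat_lit 0x1508037a32)) (.leaf (nat_lit 0x1507037a42)))))) (.node 8 (.node 4 (.node 2 (.node 1 (.leaf (nat_lit 0x1503037a72)) (.leaf (nat_lit 0x1508037a72))) (.node 1 (.leaf (nat_lit 0x1502037a82)) (.leaf (nat_lit 0x1504037a82)))) (.node 2 (.node 1 (.leaf (nat_lit 0x1508037a82)) (.leaf (nat_lit 0x200303c681))) (.node 1 (.leaf (nat_lit 0x1503037ab2)) (.leaf (nat_lit 0x1508037ab2))))) (.node 4 (.node 2 (.node 1 (.leaf (nat_lit 0x2004038431)) (.leaf (nat_lit 0x2007037f31))) (.node 1 (.leaf (nat_lit 0x1508037ad2)) (.leaf (nat_lit 0x1501037af2)))) (.node 2 (.node 1 (.leaf (nat_lit 0x1508037af2)) (.leaf (nat_lit 0x1505037b02))) (.node 1 (.leaf (nat_lit 0x1508037b02)) (.leaf (nat_lit 0x1507037b12)))))))) (.node 32 (.node 16 (.node 8 (.node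 4 (.node 2 (.node 1 (.leaf (nat_lit 0x2008037b21)) (.leaf (nat_lit 0x1507037b42))) (.node 1 (.leaf (nat_lit 0x1508037b52)) (.leaf (nat_lit 0x1507037b62)))) (.node 2 (.node 1 (.leaf (nat_lit 0x1507037b82)) (.leaf (nat_lit 0x2008037bd1))) (.node 1 (.leaf (nat_lit 0x1507037bf2)) (.leaf (nat_lit 0x1508037c02))))) (.node 4 (.node 2 (.node 1 (.leaf (nat_lit 0x1507037c12)) (.leaf (nat_lit 0x1508037c52))) (.node 1 (.leaf (nat_lit 0x1507037c62)) (.leaf (nat_lit 0x1503037c82)))) (.node 2 (.node 1 (.leaf (nat_lit 0x1508037c82)) (.leaf (nat_lit 0x1503037ca2))) (.node 1 (.leaf (nat_lit 0x1508037ca2)) (.leaf (nat_lit 0x1502037cb2)))))) (.node 8 (.node 4 (.node 2 (.node 1 (.leaf (nat_lit 0x1508037cb2)) (.leaf (nat_lit 0x2205048401))) (.node 1 (.leaf (nat_lit 0x1503037cf2)) (.leaf (nat_lit 0x1508037cf2)))) (.node 2 (.node 1 (.leaf (nat_lit 0x1502037d02)) (.leaf (nat_lit 0x1504037d02))) (.node 1 (.leaf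 (nat_lit 0x1508037d02)) (.leaf (nat_lit 0x2200037ef1))))) (.node 4 (.node 2 (.node 1 (.leaf (nat_lit 0x1503037d32)) (.leaf (nat_lit 0x1508037d32))) (.node 1 (.leaf (nat_lit 0x2000037f21)) (.leaf (nat_lit 0x2008037d41)))) (.node 2 (.node 1 (.leaf (nat_lit 0x1502037d52)) (.leaf (nat_lit 0x1504037d52))) (.node 1 (.leaf (nat_lit 0x1508037d52)) (.leaf (nat_lit 0x1501037d72))))))) (.node 16 (.node 8 (.node 4 (.node 2 (.node 1 (.leaf (nat_lit 0x1504037d72)) (.leaf (nat_lit 0x1508037d72))) (.node 1 (.leaf (nat_lit 0x1508037d82)) (.leaf (nat_lit 0x1507037d92)))) (.node 2 (.node 1 (.leaf (nat_lit 0x1505037db2)) (.leaf (nat_lit 0x1508037db2))) (.node 1 (.leaf (nat_lit 0x1507037dc2)) (.leaf (nat_lit 0x1507037dd2))))) (.node 4 (.node 2 (.node 1 (.leaf (nat_lit 0x1501037e22)) (.leaf (nat_lit 0x1508037e22))) (.node 1 (.leaf (nat_lit 0x1507037e32)) (.leaf (nat_lit 0x1508037e42)))) (.node 2 (.node 1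 (.leaf (nat_lit 0x1507037e52)) (.leaf (nat_lit 0x2007037e71))) (.node 1 (.leaf (nat_lit 0x1503037e82)) (.leaf (nat_lit 0x1508037e82)))))) (.node 8 (.node 4 (.node 2 (.node 1 (.leaf (nat_lit 0x200103aa41)) (.leaf (nat_lit 0x200703de61))) (.node 1 (.leaf (nat_lit 0x1502037ea2)) (.leaf (nat_lit 0x1504037ea2)))) (.node 2 (.node 1 (.leaf (nat_lit 0x1508037ea2)) (.leaf (nat_lit 0x1501037ec2))) (.node 1 (.leaf (nat_lit 0x1504037ec2)) (.leaf (nat_lit 0x1508037ec2))))) (.node 4 (.node 2 (.node 1 (.leaf (nat_lit 0x1505037ed2)) (.leaf (nat_lit 0x1508037ed2))) (.node 1 (.leaf (nat_lit 0x1507037ee2)) (.leaf (nat_lit 0x1504037f02)))) (.node 2 (.node 1 (.leaf (nat_lit 0x1508037f02)) (.leaf (nat_lit 0x2008037f21))) (.node 1 (.leaf (nat_lit 0x1504037f42)) (.leaf (nat_lit 0x1508037f42))))))))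

noncomputable def oT129 : Tree :=
  .node 64 (.node 32 (.node 16 (.node 8 (.node 4 (.node 2 (.node 1 (.leaf (nat_lit 0x1508037f52)) (.leaf (nat_lit 0x1507037f62))) (.node 1 (.leaf (nat_lit 0x1500037f72)) (.leaf (nat_lit 0x1504037f72)))) (.node 2 (.node 1 (.leaf (nat_lit 0x1508037f72)) (.leaf (nat_lit 0x1505037f82))) (.node 1 (.leaf (nat_lit 0x1508037f82)) (.leaf (nat_lit 0x1507037f92))))) (.node 4 (.node 2 (.node 1 (.leaf (nat_lit 0x1506037fa2)) (.leaf (nat_lit 0x1508037fa2))) (.node 1 (.leaf (nat_lit 0x1507037fb2)) (.leaf (nat_lit 0x1507037fd2)))) (.node 2 (.node 1 (.leaf (nat_lit 0x2000038521)) (.leaf (nat_lit 0x1508037ff2))) (.node 1 (.leaf (nat_lit 0x1507038002)) (.leaf (nat_lit 0x1503038012)))))) (.node 8 (.node 4 (.node 2 (.node 1 (.leaf (nat_lit 0x1507038052)) (.leaf (nat_lit 0x1508038072))) (.node 1 (.leaf (nat_lit 0x1507038082)) (.leaf (nat_lit 0x1503038092)))) (.node 2 (.node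 1 (.leaf (nat_lit 0x15070380a2)) (.leaf (nat_lit 0x20070380c1))) (.node 1 (.leaf (nat_lit 0x20080380d1)) (.leaf (nat_lit 0x20070380f1))))) (.node 4 (.node 2 (.node 1 (.leaf (nat_lit 0x2008038111)) (.leaf (nat_lit 0x2007038131))) (.node 1 (.leaf (nat_lit 0x2005038151)) (.leaf (nat_lit 0x2008038151)))) (.node 2 (.node 1 (.leaf (nat_lit 0x2007038161)) (.leaf (nat_lit 0x2008038171))) (.node 1 (.leaf (nat_lit 0x2007038181)) (.leaf (nat_lit 0x20070381a1))))))) (.node 16 (.node 8 (.node 4 (.node 2 (.node 1 (.leaf (nat_lit 0x20030381b1)) (.leaf (nat_lit 0x20080381c1))) (.node 1 (.leaf (nat_lit 0x20080381e1)) (.leaf (nat_lit 0x20070381f1)))) (.node 2 (.node 1 (.leaf (nat_lit 0x2008038201)) (.leaf (nat_lit 0x2007038211))) (.node 1 (.leaf (nat_lit 0x2008038231)) (.leaf (nat_lit 0x2008038251))))) (.node 4 (.node 2 (.node 1 (.leaf (nat_lit 0x2008038261)) (.leaf (nat_lit 0x2007038271))) (.node 1 (.leaf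 (nat_lit 0x200503a451)) (.leaf (nat_lit 0x20040388d1)))) (.node 2 (.node 1 (.leaf (nat_lit 0x20080382a1)) (.leaf (nat_lit 0x20070382b1))) (.node 1 (.leaf (nat_lit 0x20080382d1)) (.leaf (nat_lit 0x20070382e1)))))) (.node 8 (.node 4 (.node 2 (.node 1 (.leaf (nat_lit 0x20030382f1)) (.leaf (nat_lit 0x2007038301))) (.node 1 (.leaf (nat_lit 0x2008038311)) (.leaf (nat_lit 0x22080389a1)))) (.node 2 (.node 1 (.leaf (nat_lit 0x2007038321)) (.leaf (nat_lit 0x2204038371))) (.node 1 (.leaf (nat_lit 0x2003038341)) (.leaf (nat_lit 0x2008038341))))) (.node 4 (.node 2 (.node 1 (.leaf (nat_lit 0x2008038351)) (.leaf (nat_lit 0x2007038a11))) (.node 1 (.leaf (nat_lit 0x22060389a1)) (.leaf (nat_lit 0x2007038391)))) (.node 2 (.node 1 (.leaf (nat_lit 0x200603de31)) (.leaf (nat_lit 0x20030383b1))) (.node 1 (.leaf (nat_lit 0x20080383b1)) (.leaf (nat_lit 0x20020383c1)))))))) (.node 32 (.node 16 (.node 8 (.node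 4 (.node 2 (.node 1 (.leaf (nat_lit 0x20040383c1)) (.leaf (nat_lit 0x20080383c1))) (.node 1 (.leaf (nat_lit 0x2205038961)) (.leaf (nat_lit 0x2205038401)))) (.node 2 (.node 1 (.leaf (nat_lit 0x20030383f1)) (.leaf (nat_lit 0x20080383f1))) (.node 1 (.leaf (nat_lit 0x2004038641)) (.leaf (nat_lit 0x2208038401))))) (.node 4 (.node 2 (.node 1 (.leaf (nat_lit 0x2002038411)) (.leaf (nat_lit 0x2004038411))) (.node 1 (.leaf (nat_lit 0x2008038411)) (.leaf (nat_lit 0x2001038431)))) (.node 2 (.node 1 (.leaf (nat_lit 0x2008038431)) (.leaf (nat_lit 0x2008038441))) (.node 1 (.leaf (nat_lit 0x2007038451)) (.leaf (nat_lit 0x2005038471)))))) (.node 8 (.node 4 (.node 2 (.node 1 (.leaf (nat_lit 0x2008038471)) (.leaf (nat_lit 0x2007038481))) (.node 1 (.leaf (nat_lit 0x2007038491)) (.leaf (nat_lit 0x22060384c1)))) (.node 2 (.node 1 (.leaf (nat_lit 0x22080384c1)) (.leaf (nat_lit 0x20020384d1))) (.node 1 (.leaf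 (nat_lit 0x20080384d1)) (.leaf (nat_lit 0x2008038501))))) (.node 4 (.node 2 (.node 1 (.leaf (nat_lit 0x2007038511)) (.leaf (nat_lit 0x2008038521))) (.node 1 (.leaf (nat_lit 0x2007038531)) (.leaf (nat_lit 0x2007038551)))) (.node 2 (.node 1 (.leaf (nat_lit 0x200603ddd1)) (.leaf (nat_lit 0x2003038571))) (.node 1 (.leaf (nat_lit 0x2008038571)) (.leaf (nat_lit 0x200603c881))))))) (.node 16 (.node 8 (.node 4 (.node 2 (.node 1 (.leaf (nat_lit 0x2008038581)) (.leaf (nat_lit 0x2002038591))) (.node 1 (.leaf (nat_lit 0x2004038591)) (.leaf (nat_lit 0x2008038591)))) (.node 2 (.node 1 (.leaf (nat_lit 0x20010385b1)) (.leaf (nat_lit 0x20040385b1))) (.node 1 (.leaf (nat_lit 0x20080385b1)) (.leaf (nat_lit 0x20050385c1))))) (.node 4 (.node 2 (.node 1 (.leaf (nat_lit 0x20080385c1)) (.leaf (nat_lit 0x20070385d1))) (.node 1 (.leaf (nat_lit 0x220503ae61)) (.leaf (nat_lit 0x2205038621)))) (.node 2 (.node 1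 (.leaf (nat_lit 0x2207038e01)) (.leaf (nat_lit 0x2002038601))) (.node 1 (.leaf (nat_lit 0x2004038601)) (.leaf (nat_lit 0x2008038601)))))) (.node 8 (.node 4 (.node 2 (.node 1 (.leaf (nat_lit 0x2208038621)) (.leaf (nat_lit 0x2001038641))) (.node 1 (.leaf (nat_lit 0x2008038641)) (.leaf (nat_lit 0x2005038651)))) (.node 2 (.node 1 (.leaf (nat_lit 0x2008038651)) (.leaf (nat_lit 0x2007038661))) (.node 1 (.leaf (nat_lit 0x2000038671)) (.leaf (nat_lit 0x2004038671))))) (.node 4 (.node 2 (.node 1 (.leaf (nat_lit 0x2008038671)) (.leaf (nat_lit 0x2005038681))) (.node 1 (.leaf (nat_lit 0x2008038681)) (.leaf (nat_lit 0x2007038691)))) (.node 2 (.node 1 (.leaf (nat_lit 0x20060386a1)) (.leaf (nat_lit 0x20080386a1))) (.node 1 (.leaf (nat_lit 0x20070386b1)) (.leaf (nat_lit 0x2003038f81))))))))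

noncomputable def oT130 : Tree :=
  .node 64 (.node 32 (.node 16 (.node 8 (.node 4 (.node 2 (.node 1 (.leaf (nat_lit 0x20060386e1)) (.leaf (nat_lit 0x20080386e1))) (.node 1 (.leaf (nat_lit 0x20070386f1)) (.leaf (nat_lit 0x2008038711)))) (.node 2 (.node 1 (.leaf (nat_lit 0x2007038721)) (.leaf (nat_lit 0x2003038731))) (.node 1 (.leaf (nat_lit 0x2007038741)) (.leaf (nat_lit 0x2207039021))))) (.node 4 (.node 2 (.node 1 (.leaf (nat_lit 0x2005039211)) (.leaf (nat_lit 0x2208038771))) (.node 1 (.leaf (nat_lit 0x2001038791)) (.leaf (nat_lit 0x2004038791)))) (.node 2 (.node 1 (.leaf (nat_lit 0x2008038791)) (.leaf (nat_lit 0x20080387a1))) (.node 1 (.leaf (nat_lit 0x20070387b1)) (.leaf (nat_lit 0x20030390c1)))))) (.node 8 (.node 4 (.node 2 (.node 1 (.leaf (nat_lit 0x20080387d1)) (.leaf (nat_lit 0x20070387e1))) (.node 1 (.leaf (nat_lit 0x2008038801)) (.leaf (nat_lit 0x2007038811)))) (.node 2 (.node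 1 (.leaf (nat_lit 0x2003038821)) (.leaf (nat_lit 0x2003039851))) (.node 1 (.leaf (nat_lit 0x2003039141)) (.leaf (nat_lit 0x2000038861))))) (.node 4 (.node 2 (.node 1 (.leaf (nat_lit 0x2004038861)) (.leaf (nat_lit 0x2008038861))) (.node 1 (.leaf (nat_lit 0x2008038871)) (.leaf (nat_lit 0x2007038881)))) (.node 2 (.node 1 (.leaf (nat_lit 0x2007038891)) (.leaf (nat_lit 0x200303af11))) (.node 1 (.leaf (nat_lit 0x20080388e1)) (.leaf (nat_lit 0x20070388f1))))))) (.node 16 (.node 8 (.node 4 (.node 2 (.node 1 (.leaf (nat_lit 0x2007038911)) (.leaf (nat_lit 0x2003038921))) (.node 1 (.leaf (nat_lit 0x2007038951)) (.leaf (nat_lit 0x2206048491)))) (.node 2 (.node 1 (.leaf (nat_lit 0x2003038971)) (.leaf (nat_lit 0x2008038971))) (.node 1 (.leaf (nat_lit 0x2008038981)) (.leaf (nat_lit 0x20050389c1))))) (.node 4 (.node 2 (.node 1 (.leaf (nat_lit 0x20030389b1)) (.leaf (nat_lit 0x20080389b1))) (.node 1 (.leaf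 (nat_lit 0x200403c7d1)) (.leaf (nat_lit 0x20080389c1)))) (.node 2 (.node 1 (.leaf (nat_lit 0x20020389d1)) (.leaf (nat_lit 0x20080389d1))) (.node 1 (.leaf (nat_lit 0x20010389f1)) (.leaf (nat_lit 0x20080389f1)))))) (.node 8 (.node 4 (.node 2 (.node 1 (.leaf (nat_lit 0x2007038a01)) (.leaf (nat_lit 0x22030399b1))) (.node 1 (.leaf (nat_lit 0x2007038a21)) (.leaf (nat_lit 0x2406048ad1)))) (.node 2 (.node 1 (.leaf (nat_lit 0x2003038a41)) (.leaf (nat_lit 0x2008038a41))) (.node 1 (.leaf (nat_lit 0x22060486a1)) (.leaf (nat_lit 0x2207048b81))))) (.node 4 (.node 2 (.node 1 (.leaf (nat_lit 0x2002038a61)) (.leaf (nat_lit 0x2004038a61))) (.node 1 (.leaf (nat_lit 0x2008038a61)) (.leaf (nat_lit 0x2001038a81)))) (.node 2 (.node 1 (.leaf (nat_lit 0x2004038a81)) (.leaf (nat_lit 0x2008038a81))) (.node 1 (.leaf (nat_lit 0x2008038a91)) (.leaf (nat_lit 0x2007038aa1)))))))) (.node 32 (.node 16 (.node 8 (.node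 4 (.node 2 (.node 1 (.leaf (nat_lit 0x2200038de1)) (.leaf (nat_lit 0x2200038df1))) (.node 1 (.leaf (nat_lit 0x2208038ac1)) (.leaf (nat_lit 0x2002038ad1)))) (.node 2 (.node 1 (.leaf (nat_lit 0x2004038ad1)) (.leaf (nat_lit 0x2008038ad1))) (.node 1 (.leaf (nat_lit 0x2000038e41)) (.leaf (nat_lit 0x2000038e51))))) (.node 4 (.node 2 (.node 1 (.leaf (nat_lit 0x2208038af1)) (.leaf (nat_lit 0x2001038b11))) (.node 1 (.leaf (nat_lit 0x2004038b11)) (.leaf (nat_lit 0x2008038b11)))) (.node 2 (.node 1 (.leaf (nat_lit 0x2005038b21)) (.leaf (nat_lit 0x2008038b21))) (.node 1 (.leaf (nat_lit 0x2007038b31)) (.leaf (nat_lit 0x2000038b41)))))) (.node 8 (.node 4 (.node 2 (.node 1 (.leaf (nat_lit 0x2004038b41)) (.leaf (nat_lit 0x2008038b41))) (.node 1 (.leaf (nat_lit 0x2008038b51)) (.leaf (nat_lit 0x2007038b61)))) (.node 2 (.node 1 (.leaf (nat_lit 0x2007038b71)) (.leaf (nat_lit 0x2000038f61))) (.node 1 (.leaf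 (nat_lit 0x2008038b91)) (.leaf (nat_lit 0x2007038ba1))))) (.node 4 (.node 2 (.node 1 (.leaf (nat_lit 0x2008038bb1)) (.leaf (nat_lit 0x2007038bc1))) (.node 1 (.leaf (nat_lit 0x2003038be1)) (.leaf (nat_lit 0x2208038bf1)))) (.node 2 (.node 1 (.leaf (nat_lit 0x2000039031)) (.leaf (nat_lit 0x2004038c01))) (.node 1 (.leaf (nat_lit 0x2008038c01)) (.leaf (nat_lit 0x2001038c21))))))) (.node 16 (.node 8 (.node 4 (.node 2 (.node 1 (.leaf (nat_lit 0x2008038c21)) (.leaf (nat_lit 0x2008038c31))) (.node 1 (.leaf (nat_lit 0x2007038c41)) (.leaf (nat_lit 0x200003c181)))) (.node 2 (.node 1 (.leaf (nat_lit 0x2008038c51)) (.leaf (nat_lit 0x2007038c61))) (.node 1 (.leaf (nat_lit 0x2000038c71)) (.leaf (nat_lit 0x2008038c71))))) (.node 4 (.node 2 (.node 1 (.leaf (nat_lit 0x2007038c81)) (.leaf (nat_lit 0x2008038ca1))) (.node 1 (.leaf (nat_lit 0x2007038cb1)) (.leaf (nat_lit 0x2003038cc1)))) (.node 2 (.node 1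 (.leaf (nat_lit 0x2404038d01)) (.leaf (nat_lit 0x2003038ce1))) (.node 1 (.leaf (nat_lit 0x2008038ce1)) (.leaf (nat_lit 0x2207038cf1)))))) (.node 8 (.node 4 (.node 2 (.node 1 (.leaf (nat_lit 0x22010470c1)) (.leaf (nat_lit 0x2207048d81))) (.node 1 (.leaf (nat_lit 0x2002038d11)) (.leaf (nat_lit 0x2004038d11)))) (.node 2 (.node 1 (.leaf (nat_lit 0x2008038d11)) (.leaf (nat_lit 0x200103c201))) (.node 1 (.leaf (nat_lit 0x200103c461)) (.leaf (nat_lit 0x2208038d31))))) (.node 4 (.node 2 (.node 1 (.leaf (nat_lit 0x2001038d51)) (.leaf (nat_lit 0x2004038d51))) (.node 1 (.leaf (nat_lit 0x2008038d51)) (.leaf (nat_lit 0x2005038d61)))) (.node 2 (.node 1 (.leaf (nat_lit 0x2008038d61)) (.leaf (nat_lit 0x2007038d71))) (.node 1 (.leaf (nat_lit 0x2008038d81)) (.leaf (nat_lit 0x2008038d91))))))))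

noncomputable def oT131 : Tree :=
  .node 64 (.node 32 (.node 16 (.node 8 (.node 4 (.node 2 (.node 1 (.leaf (nat_lit 0x2007038da1)) (.leaf (nat_lit 0x2006038db1))) (.node 1 (.leaf (nat_lit 0x2008038db1)) (.leaf (nat_lit 0x2007038dc1)))) (.node 2 (.node 1 (.leaf (nat_lit 0x2201046df1)) (.leaf (nat_lit 0x2208038de1))) (.node 1 (.leaf (nat_lit 0x200103c281)) (.leaf (nat_lit 0x2204038df1))))) (.node 4 (.node 2 (.node 1 (.leaf (nat_lit 0x2208038df1)) (.leaf (nat_lit 0x2001038e11))) (.node 1 (.leaf (nat_lit 0x2004038e11)) (.leaf (nat_lit 0x2008038e11)))) (.node 2 (.node 1 (.leaf (nat_lit 0x2005038e21)) (.leaf (nat_lit 0x2008038e21))) (.node 1 (.leaf (nat_lit 0x2007038e31)) (.leaf (nat_lit 0x2004038e41)))))) (.node 8 (.node 4 (.node 2 (.node 1 (.leaf (nat_lit 0x2008038e41)) (.leaf (nat_lit 0x200103c4e1))) (.node 1 (.leaf (nat_lit 0x2008038e51)) (.leaf (nat_lit 0x2207038e61)))) (.node 2 (.node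 1 (.leaf (nat_lit 0x2000038e71)) (.leaf (nat_lit 0x2004038e71))) (.node 1 (.leaf (nat_lit 0x2008038e71)) (.leaf (nat_lit 0x2005038e81))))) (.node 4 (.node 2 (.node 1 (.leaf (nat_lit 0x2008038e81)) (.leaf (nat_lit 0x2007038e91))) (.node 1 (.leaf (nat_lit 0x2006038ea1)) (.leaf (nat_lit 0x2008038ea1)))) (.node 2 (.node 1 (.leaf (nat_lit 0x2007038eb1)) (.leaf (nat_lit 0x2008038ed1))) (.node 1 (.leaf (nat_lit 0x2008038ee1)) (.leaf (nat_lit 0x2007038ef1))))))) (.node 16 (.node 8 (.node 4 (.node 2 (.node 1 (.leaf (nat_lit 0x2006038f01)) (.leaf (nat_lit 0x2008038f01))) (.node 1 (.leaf (nat_lit 0x2007038f11)) (.leaf (nat_lit 0x2003038f21)))) (.node 2 (.node 1 (.leaf (nat_lit 0x220403c8f1)) (.leaf (nat_lit 0x2008038f31))) (.node 1 (.leaf (nat_lit 0x2007038f41)) (.leaf (nat_lit 0x2003038f51))))) (.node 4 (.node 2 (.node 1 (.leaf (nat_lit 0x2008038f61)) (.leaf (nat_lit 0x2007038f71))) (.node 1 (.leaf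 (nat_lit 0x2200046f01)) (.leaf (nat_lit 0x2008038f91)))) (.node 2 (.node 1 (.leaf (nat_lit 0x2007038fa1)) (.leaf (nat_lit 0x2003038fb1))) (.node 1 (.leaf (nat_lit 0x2004039001)) (.leaf (nat_lit 0x2007038fd1)))))) (.node 8 (.node 4 (.node 2 (.node 1 (.leaf (nat_lit 0x2003038fe1)) (.leaf (nat_lit 0x2002038ff1))) (.node 1 (.leaf (nat_lit 0x2004039031)) (.leaf (nat_lit 0x2008039031)))) (.node 2 (.node 1 (.leaf (nat_lit 0x2008039041)) (.leaf (nat_lit 0x2007039051))) (.node 1 (.leaf (nat_lit 0x2000039061)) (.leaf (nat_lit 0x2004039061))))) (.node 4 (.node 2 (.node 1 (.leaf (nat_lit 0x2008039061)) (.leaf (nat_lit 0x2003039071))) (.node 1 (.leaf (nat_lit 0x2008039071)) (.leaf (nat_lit 0x2007039081)))) (.node 2 (.node 1 (.leaf (nat_lit 0x2007039091)) (.leaf (nat_lit 0x20070390b1))) (.node 1 (.leaf (nat_lit 0x20080390d1)) (.leaf (nat_lit 0x20070390e1)))))))) (.node 32 (.node 16 (.node 8 (.node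 4 (.node 2 (.node 1 (.leaf (nat_lit 0x20030390f1)) (.leaf (nat_lit 0x2007039101))) (.node 1 (.leaf (nat_lit 0x2003039111)) (.leaf (nat_lit 0x2004039121)))) (.node 2 (.node 1 (.leaf (nat_lit 0x2007039131)) (.leaf (nat_lit 0x2004039151))) (.node 1 (.leaf (nat_lit 0x2008039151)) (.leaf (nat_lit 0x2008039161))))) (.node 4 (.node 2 (.node 1 (.leaf (nat_lit 0x2007039171)) (.leaf (nat_lit 0x2007039181))) (.node 1 (.leaf (nat_lit 0x20030391a1)) (.leaf (nat_lit 0x20070391b1)))) (.node 2 (.node 1 (.leaf (nat_lit 0x2008039211)) (.leaf (nat_lit 0x2007039221))) (.node 1 (.leaf (nat_lit 0x2007039261)) (.leaf (nat_lit 0x2006039271)))))) (.node 8 (.node 4 (.node 2 (.node 1 (.leaf (nat_lit 0x2008039271)) (.leaf (nat_lit 0x2007039281))) (.node 1 (.leaf (nat_lit 0x20080392a1)) (.leaf (nat_lit 0x20070392b1)))) (.node 2 (.node 1 (.leaf (nat_lit 0x20070392d1)) (.leaf (nat_lit 0x20030392e1))) (.node 1 (.leaf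 (nat_lit 0x2403049dc1)) (.leaf (nat_lit 0x2003039321))))) (.node 4 (.node 2 (.node 1 (.leaf (nat_lit 0x2008039321)) (.leaf (nat_lit 0x22010393d1))) (.node 1 (.leaf (nat_lit 0x2207039961)) (.leaf (nat_lit 0x2002039341)))) (.node 2 (.node 1 (.leaf (nat_lit 0x2008039341)) (.leaf (nat_lit 0x2008039361))) (.node 1 (.leaf (nat_lit 0x2007039371)) (.leaf (nat_lit 0x2202039491))))))) (.node 16 (.node 8 (.node 4 (.node 2 (.node 1 (.leaf (nat_lit 0x220203ccb1)) (.leaf (nat_lit 0x24080393a1))) (.node 1 (.leaf (nat_lit 0x20040393b1)) (.leaf (nat_lit 0x20080393b1)))) (.node 2 (.node 1 (.leaf (nat_lit 0x200203ccf1)) (.leaf (nat_lit 0x22080393d1))) (.node 1 (.leaf (nat_lit 0x20050393f1)) (.leaf (nat_lit 0x20080393f1))))) (.node 4 (.node 2 (.node 1 (.leaf (nat_lit 0x2007039401)) (.leaf (nat_lit 0x2007039411))) (.node 1 (.leaf (nat_lit 0x2008039431)) (.leaf (nat_lit 0x2207039441)))) (.node 2 (.node 1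 (.leaf (nat_lit 0x2008039451)) (.leaf (nat_lit 0x2007039461))) (.node 1 (.leaf (nat_lit 0x2003039481)) (.leaf (nat_lit 0x220303da21)))))) (.node 8 (.node 4 (.node 2 (.node 1 (.leaf (nat_lit 0x220203a471)) (.leaf (nat_lit 0x20030394c1))) (.node 1 (.leaf (nat_lit 0x20080394c1)) (.leaf (nat_lit 0x220203a4a1)))) (.node 2 (.node 1 (.leaf (nat_lit 0x220203cc11)) (.leaf (nat_lit 0x2207039d31))) (.node 1 (.leaf (nat_lit 0x20040394f1)) (.leaf (nat_lit 0x20080394f1))))) (.node 4 (.node 2 (.node 1 (.leaf (nat_lit 0x200203b2d1)) (.leaf (nat_lit 0x2203039521))) (.node 1 (.leaf (nat_lit 0x2005039531)) (.leaf (nat_lit 0x2008039531)))) (.node 2 (.node 1 (.leaf (nat_lit 0x2007039541)) (.leaf (nat_lit 0x2007039551))) (.node 1 (.leaf (nat_lit 0x220204a071)) (.leaf (nat_lit 0x2202039791))))))))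

noncomputable def oT132 : Tree :=
  .node 64 (.node 32 (.node 16 (.node 8 (.node 4 (.node 2 (.node 1 (.leaf (nat_lit 0x20030397a1)) (.leaf (nat_lit 0x220504a0c1))) (.node 1 (.leaf (nat_lit 0x2208039581)) (.leaf (nat_lit 0x20010395a1)))) (.node 2 (.node 1 (.leaf (nat_lit 0x20040395a1)) (.leaf (nat_lit 0x20080395a1))) (.node 1 (.leaf (nat_lit 0x20050395b1)) (.leaf (nat_lit 0x20080395b1))))) (.node 4 (.node 2 (.node 1 (.leaf (nat_lit 0x20070395c1)) (.leaf (nat_lit 0x20080395d1))) (.node 1 (.leaf (nat_lit 0x200203cc81)) (.leaf (nat_lit 0x20080395e1)))) (.node 2 (.node 1 (.leaf (nat_lit 0x22070395f1)) (.leaf (nat_lit 0x2008039601))) (.node 1 (.leaf (nat_lit 0x2005039611)) (.leaf (nat_lit 0x2008039611)))))) (.node 8 (.node 4 (.node 2 (.node 1 (.leaf (nat_lit 0x2007039621)) (.leaf (nat_lit 0x2006039631))) (.node 1 (.leaf (nat_lit 0x2008039631)) (.leaf (nat_lit 0x2007039641)))) (.node 2 (.node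 1 (.leaf (nat_lit 0x2007039661)) (.leaf (nat_lit 0x2007039671))) (.node 1 (.leaf (nat_lit 0x2003039721)) (.leaf (nat_lit 0x2008039691))))) (.node 4 (.node 2 (.node 1 (.leaf (nat_lit 0x20070396a1)) (.leaf (nat_lit 0x20030396b1))) (.node 1 (.leaf (nat_lit 0x200203a481)) (.leaf (nat_lit 0x20080396c1)))) (.node 2 (.node 1 (.leaf (nat_lit 0x20070396d1)) (.leaf (nat_lit 0x200403c9b1))) (.node 1 (.leaf (nat_lit 0x20080396f1)) (.leaf (nat_lit 0x2007039701))))))) (.node 16 (.node 8 (.node 4 (.node 2 (.node 1 (.leaf (nat_lit 0x2003039711)) (.leaf (nat_lit 0x2008039721))) (.node 1 (.leaf (nat_lit 0x2007039731)) (.leaf (nat_lit 0x2003039741)))) (.node 2 (.node 1 (.leaf (nat_lit 0x2002039751)) (.leaf (nat_lit 0x2007039761))) (.node 1 (.leaf (nat_lit 0x20070398a1)) (.leaf (nat_lit 0x200703d021))))) (.node 4 (.node 2 (.node 1 (.leaf (nat_lit 0x20080397a1)) (.leaf (nat_lit 0x2007039871))) (.node 1 (.leaf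 (nat_lit 0x20080397d1)) (.leaf (nat_lit 0x20030397e1)))) (.node 2 (.node 1 (.leaf (nat_lit 0x20080397e1)) (.leaf (nat_lit 0x200203cb21))) (.node 1 (.leaf (nat_lit 0x20030398c1)) (.leaf (nat_lit 0x20080398c1)))))) (.node 8 (.node 4 (.node 2 (.node 1 (.leaf (nat_lit 0x200203ded1)) (.leaf (nat_lit 0x20080398d1))) (.node 1 (.leaf (nat_lit 0x20080398e1)) (.leaf (nat_lit 0x2007039901)))) (.node 2 (.node 1 (.leaf (nat_lit 0x2206039921)) (.leaf (nat_lit 0x220704a311))) (.node 1 (.leaf (nat_lit 0x2208039921)) (.leaf (nat_lit 0x2002039931))))) (.node 4 (.node 2 (.node 1 (.leaf (nat_lit 0x2004039931)) (.leaf (nat_lit 0x2008039931))) (.node 1 (.leaf (nat_lit 0x200703ded1)) (.leaf (nat_lit 0x2208039951)))) (.node 2 (.node 1 (.leaf (nat_lit 0x2008039971)) (.leaf (nat_lit 0x2007039981))) (.node 1 (.leaf (nat_lit 0x2007039991)) (.leaf (nat_lit 0x200203a4c1)))))))) (.node 32 (.node 16 (.node 8 (.node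 4 (.node 2 (.node 1 (.leaf (nat_lit 0x20030399c1)) (.leaf (nat_lit 0x20080399c1))) (.node 1 (.leaf (nat_lit 0x200203a3a1)) (.leaf (nat_lit 0x200203d961)))) (.node 2 (.node 1 (.leaf (nat_lit 0x20080399e1)) (.leaf (nat_lit 0x20040399f1))) (.node 1 (.leaf (nat_lit 0x20080399f1)) (.leaf (nat_lit 0x200203dc01))))) (.node 4 (.node 2 (.node 1 (.leaf (nat_lit 0x2008039a11)) (.leaf (nat_lit 0x2005039a31))) (.node 1 (.leaf (nat_lit 0x2008039a31)) (.leaf (nat_lit 0x2007039a41)))) (.node 2 (.node 1 (.leaf (nat_lit 0x2007039a51)) (.leaf (nat_lit 0x220704a491))) (.node 1 (.leaf (nat_lit 0x2408039a71)) (.leaf (nat_lit 0x200703d961)))))) (.node 8 (.node 4 (.node 2 (.node 1 (.leaf (nat_lit 0x220704a4b1)) (.leaf (nat_lit 0x2208039a81))) (.node 1 (.leaf (nat_lit 0x2001039aa1)) (.leaf (nat_lit 0x2004039aa1)))) (.node 2 (.node 1 (.leaf (nat_lit 0x2008039aa1)) (.leaf (nat_lit 0x2005039ab1))) (.node 1 (.leaf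 (nat_lit 0x2008039ab1)) (.leaf (nat_lit 0x2007039ac1))))) (.node 4 (.node 2 (.node 1 (.leaf (nat_lit 0x200703dc01)) (.leaf (nat_lit 0x2008039ad1))) (.node 1 (.leaf (nat_lit 0x2203039ba1)) (.leaf (nat_lit 0x2208039ae1)))) (.node 2 (.node 1 (.leaf (nat_lit 0x2207039af1)) (.leaf (nat_lit 0x2008039b01))) (.node 1 (.leaf (nat_lit 0x2005039b11)) (.leaf (nat_lit 0x2008039b11))))))) (.node 16 (.node 8 (.node 4 (.node 2 (.node 1 (.leaf (nat_lit 0x2007039b21)) (.leaf (nat_lit 0x2008039b31))) (.node 1 (.leaf (nat_lit 0x2007039b41)) (.leaf (nat_lit 0x2007039b61)))) (.node 2 (.node 1 (.leaf (nat_lit 0x2007039b71)) (.leaf (nat_lit 0x2003039b91))) (.node 1 (.leaf (nat_lit 0x2204049571)) (.leaf (nat_lit 0x2208039ba1))))) (.node 4 (.node 2 (.node 1 (.leaf (nat_lit 0x2207039bb1)) (.leaf (nat_lit 0x2007039bd1))) (.node 1 (.leaf (nat_lit 0x2003039be1)) (.leaf (nat_lit 0x2002039bf1)))) (.node 2 (.node 1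 (.leaf (nat_lit 0x200703a501)) (.leaf (nat_lit 0x2203046aa1))) (.node 1 (.leaf (nat_lit 0x2208039c01)) (.leaf (nat_lit 0x200703a521)))))) (.node 8 (.node 4 (.node 2 (.node 1 (.leaf (nat_lit 0x2008039c21)) (.leaf (nat_lit 0x2208039c31))) (.node 1 (.leaf (nat_lit 0x2000039c51)) (.leaf (nat_lit 0x2004039c51)))) (.node 2 (.node 1 (.leaf (nat_lit 0x2008039c51)) (.leaf (nat_lit 0x2003039c61))) (.node 1 (.leaf (nat_lit 0x2008039c61)) (.leaf (nat_lit 0x2008039ca1))))) (.node 4 (.node 2 (.node 1 (.leaf (nat_lit 0x220203a561)) (.leaf (nat_lit 0x220204a851))) (.node 1 (.leaf (nat_lit 0x2208039ce1)) (.leaf (nat_lit 0x2002039cf1)))) (.node 2 (.node 1 (.leaf (nat_lit 0x2004039cf1)) (.leaf (nat_lit 0x2008039cf1))) (.node 1 (.leaf (nat_lit 0x220204a8e1)) (.leaf (nat_lit 0x2208039d11))))))))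

noncomputable def oT133 : Tree :=
  .node 64 (.node 32 (.node 16 (.node 8 (.node 4 (.node 2 (.node 1 (.leaf (nat_lit 0x200303a5d1)) (.leaf (nat_lit 0x220204a921))) (.node 1 (.leaf (nat_lit 0x2208039d21)) (.leaf (nat_lit 0x2001039d41)))) (.node 2 (.node 1 (.leaf (nat_lit 0x2004039d41)) (.leaf (nat_lit 0x2008039d41))) (.node 1 (.leaf (nat_lit 0x2005039d51)) (.leaf (nat_lit 0x2008039d51))))) (.node 4 (.node 2 (.node 1 (.leaf (nat_lit 0x2007039d61)) (.leaf (nat_lit 0x200303a631))) (.node 1 (.leaf (nat_lit 0x200303e261)) (.leaf (nat_lit 0x2008039d71)))) (.node 2 (.node 1 (.leaf (nat_lit 0x2207039f51)) (.leaf (nat_lit 0x2208039d81))) (.node 1 (.leaf (nat_lit 0x2207039d91)) (.leaf (nat_lit 0x2008039da1)))))) (.node 8 (.node 4 (.node 2 (.node 1 (.leaf (nat_lit 0x2005039db1)) (.leaf (nat_lit 0x2008039db1))) (.node 1 (.leaf (nat_lit 0x2007039dc1)) (.leaf (nat_lit 0x2006039dd1)))) (.node 2 (.node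 1 (.leaf (nat_lit 0x2008039dd1)) (.leaf (nat_lit 0x2007039de1))) (.node 1 (.leaf (nat_lit 0x2007039e01)) (.leaf (nat_lit 0x2006039e11))))) (.node 4 (.node 2 (.node 1 (.leaf (nat_lit 0x2008039e11)) (.leaf (nat_lit 0x2007039e21))) (.node 1 (.leaf (nat_lit 0x2201047dd1)) (.leaf (nat_lit 0x2008039e41)))) (.node 2 (.node 1 (.leaf (nat_lit 0x2007039e51)) (.leaf (nat_lit 0x2003039e61))) (.node 1 (.leaf (nat_lit 0x220704a8e1)) (.leaf (nat_lit 0x24030498d1))))))) (.node 16 (.node 8 (.node 4 (.node 2 (.node 1 (.leaf (nat_lit 0x2408039e71)) (.leaf (nat_lit 0x2202047e31))) (.node 1 (.leaf (nat_lit 0x220704a921)) (.leaf (nat_lit 0x2208039e91)))) (.node 2 (.node 1 (.leaf (nat_lit 0x2203049911)) (.leaf (nat_lit 0x2408039ea1))) (.node 1 (.leaf (nat_lit 0x2407039eb1)) (.leaf (nat_lit 0x2000039ec1))))) (.node 4 (.node 2 (.node 1 (.leaf (nat_lit 0x2004039ec1)) (.leaf (nat_lit 0x2008039ec1))) (.node 1 (.leaf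 (nat_lit 0x2003039ed1)) (.leaf (nat_lit 0x2005039ed1)))) (.node 2 (.node 1 (.leaf (nat_lit 0x2008039ed1)) (.leaf (nat_lit 0x2007039ee1))) (.node 1 (.leaf (nat_lit 0x2006039ef1)) (.leaf (nat_lit 0x2008039ef1)))))) (.node 8 (.node 4 (.node 2 (.node 1 (.leaf (nat_lit 0x2007039f01)) (.leaf (nat_lit 0x200703e1c1))) (.node 1 (.leaf (nat_lit 0x200203e1c1)) (.leaf (nat_lit 0x2208039f21)))) (.node 2 (.node 1 (.leaf (nat_lit 0x2202039f51)) (.leaf (nat_lit 0x2208039f31))) (.node 1 (.leaf (nat_lit 0x2207039f41)) (.leaf (nat_lit 0x220303a0d1))))) (.node 4 (.node 2 (.node 1 (.leaf (nat_lit 0x2208039f51)) (.leaf (nat_lit 0x2207039f61))) (.node 1 (.leaf (nat_lit 0x2008039f81)) (.leaf (nat_lit 0x2005039f91)))) (.node 2 (.node 1 (.leaf (nat_lit 0x2008039f91)) (.leaf (nat_lit 0x2007039fa1))) (.node 1 (.leaf (nat_lit 0x2006039fb1)) (.leaf (nat_lit 0x2008039fb1)))))))) (.node 32 (.node 16 (.node 8 (.node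 4 (.node 2 (.node 1 (.leaf (nat_lit 0x2007039fc1)) (.leaf (nat_lit 0x2003039fd1))) (.node 1 (.leaf (nat_lit 0x2200047521)) (.leaf (nat_lit 0x2008039fe1)))) (.node 2 (.node 1 (.leaf (nat_lit 0x2007039ff1)) (.leaf (nat_lit 0x200303a001))) (.node 1 (.leaf (nat_lit 0x200703a011)) (.leaf (nat_lit 0x200603a021))))) (.node 4 (.node 2 (.node 1 (.leaf (nat_lit 0x200803a021)) (.leaf (nat_lit 0x200703a031))) (.node 1 (.leaf (nat_lit 0x200303a041)) (.leaf (nat_lit 0x220104af21)))) (.node 2 (.node 1 (.leaf (nat_lit 0x200803a051)) (.leaf (nat_lit 0x200703a061))) (.node 1 (.leaf (nat_lit 0x200303a071)) (.leaf (nat_lit 0x200403a081)))))) (.node 8 (.node 4 (.node 2 (.node 1 (.leaf (nat_lit 0x220403d8b1)) (.leaf (nat_lit 0x200703a0a1))) (.node 1 (.leaf (nat_lit 0x200303a0b1)) (.leaf (nat_lit 0x200203a0c1)))) (.node 2 (.node 1 (.leaf (nat_lit 0x22000475f1)) (.leaf (nat_lit 0x220803a0d1))) (.node 1 (.leaf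 (nat_lit 0x220703a0e1)) (.leaf (nat_lit 0x220303a0f1))))) (.node 4 (.node 2 (.node 1 (.leaf (nat_lit 0x220803a101)) (.leaf (nat_lit 0x200703a111))) (.node 1 (.leaf (nat_lit 0x200303a121)) (.leaf (nat_lit 0x200203a131)))) (.node 2 (.node 1 (.leaf (nat_lit 0x200403a181)) (.leaf (nat_lit 0x200303a151))) (.node 1 (.leaf (nat_lit 0x200203a161)) (.leaf (nat_lit 0x200103a171))))))) (.node 16 (.node 8 (.node 4 (.node 2 (.node 1 (.leaf (nat_lit 0x220203a311)) (.leaf (nat_lit 0x220203a1a1))) (.node 1 (.leaf (nat_lit 0x220803a191)) (.leaf (nat_lit 0x220803a1a1)))) (.node 2 (.node 1 (.leaf (nat_lit 0x200803a361)) (.leaf (nat_lit 0x200703a701))) (.node 1 (.leaf (nat_lit 0x200203a361)) (.leaf (nat_lit 0x220803a1c1))))) (.node 4 (.node 2 (.node 1 (.leaf (nat_lit 0x2202049c31)) (.leaf (nat_lit 0x220803a1d1))) (.node 1 (.leaf (nat_lit 0x220803a721)) (.leaf (nat_lit 0x220803a311)))) (.node 2 (.node 1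 (.leaf (nat_lit 0x200403a211)) (.leaf (nat_lit 0x200803a211))) (.node 1 (.leaf (nat_lit 0x200303a221)) (.leaf (nat_lit 0x200803a221)))))) (.node 8 (.node 4 (.node 2 (.node 1 (.leaf (nat_lit 0x200703a231)) (.leaf (nat_lit 0x200703a241))) (.node 1 (.leaf (nat_lit 0x200803a241)) (.leaf (nat_lit 0x200703a251)))) (.node 2 (.node 1 (.leaf (nat_lit 0x200303a261)) (.leaf (nat_lit 0x200303a271))) (.node 1 (.leaf (nat_lit 0x200803a281)) (.leaf (nat_lit 0x220703a291))))) (.node 4 (.node 2 (.node 1 (.leaf (nat_lit 0x220303a2a1)) (.leaf (nat_lit 0x200703a2b1))) (.node 1 (.leaf (nat_lit 0x200303a2c1)) (.leaf (nat_lit 0x200403a2d1)))) (.node 2 (.node 1 (.leaf (nat_lit 0x220803a351)) (.leaf (nat_lit 0x200803a381))) (.node 1 (.leaf (nat_lit 0x200703a391)) (.leaf (nat_lit 0x200803a3a1))))))))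

noncomputable def oT134 : Tree :=
  .node 64 (.node 32 (.node 16 (.node 8 (.node 4 (.node 2 (.node 1 (.leaf (nat_lit 0x200303a3c1)) (.leaf (nat_lit 0x220703a401))) (.node 1 (.leaf (nat_lit 0x220803a831)) (.leaf (nat_lit 0x200303cb01)))) (.node 2 (.node 1 (.leaf (nat_lit 0x220803a471)) (.leaf (nat_lit 0x200803a481))) (.node 1 (.leaf (nat_lit 0x220703a5c1)) (.leaf (nat_lit 0x200803a4c1))))) (.node 4 (.node 2 (.node 1 (.leaf (nat_lit 0x200203a4d1)) (.leaf (nat_lit 0x200803a4d1))) (.node 1 (.leaf (nat_lit 0x200303a6b1)) (.leaf (nat_lit 0x200403a531)))) (.node 2 (.node 1 (.leaf (nat_lit 0x200703a551)) (.leaf (nat_lit 0x220803a561))) (.node 1 (.leaf (nat_lit 0x200403baa1)) (.leaf (nat_lit 0x200803a571)))))) (.node 8 (.node 4 (.node 2 (.node 1 (.leaf (nat_lit 0x200103a591)) (.leaf (nat_lit 0x200403a591))) (.node 1 (.leaf (nat_lit 0x200803a591)) (.leaf (nat_lit 0x200803a5a1)))) (.node 2 (.node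 1 (.leaf (nat_lit 0x200703a5b1)) (.leaf (nat_lit 0x200403d2a1))) (.node 1 (.leaf (nat_lit 0x200803a5d1)) (.leaf (nat_lit 0x200003a5f1))))) (.node 4 (.node 2 (.node 1 (.leaf (nat_lit 0x200403a5f1)) (.leaf (nat_lit 0x200803a5f1))) (.node 1 (.leaf (nat_lit 0x200303a601)) (.leaf (nat_lit 0x200803a601)))) (.node 2 (.node 1 (.leaf (nat_lit 0x200803a631)) (.leaf (nat_lit 0x200803a651))) (.node 1 (.leaf (nat_lit 0x200703a6c1)) (.leaf (nat_lit 0x200403db51))))))) (.node 16 (.node 8 (.node 4 (.node 2 (.node 1 (.leaf (nat_lit 0x220203d0c1)) (.leaf (nat_lit 0x200703a731))) (.node 1 (.leaf (nat_lit 0x200303a741)) (.leaf (nat_lit 0x200803a751)))) (.node 2 (.node 1 (.leaf (nat_lit 0x200703a761)) (.leaf (nat_lit 0x200303a771))) (.node 1 (.leaf (nat_lit 0x200403a781)) (.leaf (nat_lit 0x200203a791))))) (.node 4 (.node 2 (.node 1 (.leaf (nat_lit 0x200703a7a1)) (.leaf (nat_lit 0x220303a7b1))) (.node 1 (.leaf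 (nat_lit 0x200203aff1)) (.leaf (nat_lit 0x200503a7f1)))) (.node 2 (.node 1 (.leaf (nat_lit 0x150803a852)) (.leaf (nat_lit 0x150703a872))) (.node 1 (.leaf (nat_lit 0x150803a882)) (.leaf (nat_lit 0x150803a8a2)))))) (.node 8 (.node 4 (.node 2 (.node 1 (.leaf (nat_lit 0x150703a8b2)) (.leaf (nat_lit 0x150703a8f2))) (.node 1 (.leaf (nat_lit 0x150803a902)) (.leaf (nat_lit 0x150803a922)))) (.node 2 (.node 1 (.leaf (nat_lit 0x150703a932)) (.leaf (nat_lit 0x150403a942))) (.node 1 (.leaf (nat_lit 0x150803a942)) (.leaf (nat_lit 0x150503a952))))) (.node 4 (.node 2 (.node 1 (.leaf (nat_lit 0x150803a952)) (.leaf (nat_lit 0x150703a962))) (.node 1 (.leaf (nat_lit 0x150803a972)) (.leaf (nat_lit 0x150703a982)))) (.node 2 (.node 1 (.leaf (nat_lit 0x200303aa11)) (.leaf (nat_lit 0x200803aa11))) (.node 1 (.leaf (nat_lit 0x200803aa21)) (.leaf (nat_lit 0x200803aa41)))))))) (.node 32 (.node 16 (.node 8 (.node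 4 (.node 2 (.node 1 (.leaf (nat_lit 0x200703aa51)) (.leaf (nat_lit 0x200403aa61))) (.node 1 (.leaf (nat_lit 0x200803aa61)) (.leaf (nat_lit 0x200703aa81)))) (.node 2 (.node 1 (.leaf (nat_lit 0x200703aa91)) (.leaf (nat_lit 0x200303aab1))) (.node 1 (.leaf (nat_lit 0x200303aac1)) (.leaf (nat_lit 0x200803aac1))))) (.node 4 (.node 2 (.node 1 (.leaf (nat_lit 0x200803aad1)) (.leaf (nat_lit 0x200703aaf1))) (.node 1 (.leaf (nat_lit 0x200403ab01)) (.leaf (nat_lit 0x200803ab01)))) (.node 2 (.node 1 (.leaf (nat_lit 0x200503ab21)) (.leaf (nat_lit 0x200803ab21))) (.node 1 (.leaf (nat_lit 0x200703ab31)) (.leaf (nat_lit 0x200703ab41)))))) (.node 8 (.node 4 (.node 2 (.node 1 (.leaf (nat_lit 0x200803ab61)) (.leaf (nat_lit 0x200703abb1))) (.node 1 (.leaf (nat_lit 0x200703de11)) (.leaf (nat_lit 0x200403abe1)))) (.node 2 (.node 1 (.leaf (nat_lit 0x200803abe1)) (.leaf (nat_lit 0x200703ac01))) (.node 1 (.leaf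 (nat_lit 0x200603ac11)) (.leaf (nat_lit 0x200803ac11))))) (.node 4 (.node 2 (.node 1 (.leaf (nat_lit 0x200703ac21)) (.leaf (nat_lit 0x200603ac51))) (.node 1 (.leaf (nat_lit 0x200703ae41)) (.leaf (nat_lit 0x200503aca1)))) (.node 2 (.node 1 (.leaf (nat_lit 0x200503c631)) (.leaf (nat_lit 0x200803ac51))) (.node 1 (.leaf (nat_lit 0x200103ac71)) (.leaf (nat_lit 0x200403ac71))))))) (.node 16 (.node 8 (.node 4 (.node 2 (.node 1 (.leaf (nat_lit 0x200803ac71)) (.leaf (nat_lit 0x200503ac81))) (.node 1 (.leaf (nat_lit 0x200803ac81)) (.leaf (nat_lit 0x200703ac91)))) (.node 2 (.node 1 (.leaf (nat_lit 0x200403c651)) (.leaf (nat_lit 0x200803aca1))) (.node 1 (.leaf (nat_lit 0x200703acb1)) (.leaf (nat_lit 0x200403acc1))))) (.node 4 (.node 2 (.node 1 (.leaf (nat_lit 0x200803acc1)) (.leaf (nat_lit 0x200503acd1))) (.node 1 (.leaf (nat_lit 0x200803acd1)) (.leaf (nat_lit 0x200703ace1)))) (.node 2 (.node 1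 (.leaf (nat_lit 0x200603acf1)) (.leaf (nat_lit 0x200803acf1))) (.node 1 (.leaf (nat_lit 0x200703ad01)) (.leaf (nat_lit 0x200803ad21)))))) (.node 8 (.node 4 (.node 2 (.node 1 (.leaf (nat_lit 0x200703ad31)) (.leaf (nat_lit 0x200603ad41))) (.node 1 (.leaf (nat_lit 0x200803ad41)) (.leaf (nat_lit 0x200703ad51)))) (.node 2 (.node 1 (.leaf (nat_lit 0x200303ad61)) (.leaf (nat_lit 0x220103c8f1))) (.node 1 (.leaf (nat_lit 0x200803ad71)) (.leaf (nat_lit 0x200703ad81))))) (.node 4 (.node 2 (.node 1 (.leaf (nat_lit 0x200803ada1)) (.leaf (nat_lit 0x200703dde1))) (.node 1 (.leaf (nat_lit 0x2207046f51)) (.leaf (nat_lit 0x200803ae21)))) (.node 2 (.node 1 (.leaf (nat_lit 0x200303ae31)) (.leaf (nat_lit 0x200803ae31))) (.node 1 (.leaf (nat_lit 0x2207046f71)) (.leaf (nat_lit 0x200703ae81))))))))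

noncomputable def oT135 : Tree :=
  .node 64 (.node 32 (.node 16 (.node 8 (.node 4 (.node 2 (.node 1 (.leaf (nat_lit 0x200303ae91)) (.leaf (nat_lit 0x200803aec1))) (.node 1 (.leaf (nat_lit 0x2207046fa1)) (.leaf (nat_lit 0x200703af01)))) (.node 2 (.node 1 (.leaf (nat_lit 0x200803af51)) (.leaf (nat_lit 0x200703af61))) (.node 1 (.leaf (nat_lit 0x200303af71)) (.leaf (nat_lit 0x200703af81))))) (.node 4 (.node 2 (.node 1 (.leaf (nat_lit 0x200303af91)) (.leaf (nat_lit 0x200403afa1))) (.node 1 (.leaf (nat_lit 0x200303afb1)) (.leaf (nat_lit 0x200803afb1)))) (.node 2 (.node 1 (.leaf (nat_lit 0x200303afc1)) (.leaf (nat_lit 0x200803afc1))) (.node 1 (.leaf (nat_lit 0x200403afd1)) (.leaf (nat_lit 0x200803afd1)))))) (.node 8 (.node 4 (.node 2 (.node 1 (.leaf (nat_lit 0x200803aff1)) (.leaf (nat_lit 0x200703b011))) (.node 1 (.leaf (nat_lit 0x2203047191)) (.leaf (nat_lit 0x220803b031)))) (.node 2 (.node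 1 (.leaf (nat_lit 0x200103b051)) (.leaf (nat_lit 0x200403b051))) (.node 1 (.leaf (nat_lit 0x200803b051)) (.leaf (nat_lit 0x200803b061))))) (.node 4 (.node 2 (.node 1 (.leaf (nat_lit 0x200703b071)) (.leaf (nat_lit 0x220303b131))) (.node 1 (.leaf (nat_lit 0x220803b081)) (.leaf (nat_lit 0x220703b091)))) (.node 2 (.node 1 (.leaf (nat_lit 0x200003b0a1)) (.leaf (nat_lit 0x200803b0a1))) (.node 1 (.leaf (nat_lit 0x200703b0b1)) (.leaf (nat_lit 0x200803b0d1))))))) (.node 16 (.node 8 (.node 4 (.node 2 (.node 1 (.leaf (nat_lit 0x200703b0e1)) (.leaf (nat_lit 0x200303b0f1))) (.node 1 (.leaf (nat_lit 0x200003b101)) (.leaf (nat_lit 0x200803b101)))) (.node 2 (.node 1 (.leaf (nat_lit 0x200703b111)) (.leaf (nat_lit 0x200403e111))) (.node 1 (.leaf (nat_lit 0x220803b131)) (.leaf (nat_lit 0x220703b141))))) (.node 4 (.node 2 (.node 1 (.leaf (nat_lit 0x200803b161)) (.leaf (nat_lit 0x200703b171))) (.node 1 (.leaf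 (nat_lit 0x200303b181)) (.leaf (nat_lit 0x200703b191)))) (.node 2 (.node 1 (.leaf (nat_lit 0x200303b1a1)) (.leaf (nat_lit 0x200403b1b1))) (.node 1 (.leaf (nat_lit 0x200803b1c1)) (.leaf (nat_lit 0x200703b1d1)))))) (.node 8 (.node 4 (.node 2 (.node 1 (.leaf (nat_lit 0x200303b1e1)) (.leaf (nat_lit 0x220803b1f1))) (.node 1 (.leaf (nat_lit 0x200303dff1)) (.leaf (nat_lit 0x200703b221)))) (.node 2 (.node 1 (.leaf (nat_lit 0x200303b231)) (.leaf (nat_lit 0x200803b281))) (.node 1 (.leaf (nat_lit 0x200303b2a1)) (.leaf (nat_lit 0x200803b2a1))))) (.node 4 (.node 2 (.node 1 (.leaf (nat_lit 0x200403b2b1)) (.leaf (nat_lit 0x200803b2b1))) (.node 1 (.leaf (nat_lit 0x200803b2d1)) (.leaf (nat_lit 0x200703b2f1)))) (.node 2 (.node 1 (.leaf (nat_lit 0x200203b311)) (.leaf (nat_lit 0x200403b311))) (.node 1 (.leaf (nat_lit 0x200803b311)) (.leaf (nat_lit 0x200203b331)))))))) (.node 32 (.node 16 (.node 8 (.node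 4 (.node 2 (.node 1 (.leaf (nat_lit 0x200803b331)) (.leaf (nat_lit 0x200803b351))) (.node 1 (.leaf (nat_lit 0x200703b361)) (.leaf (nat_lit 0x200703b371)))) (.node 2 (.node 1 (.leaf (nat_lit 0x220303b391)) (.leaf (nat_lit 0x220803b391))) (.node 1 (.leaf (nat_lit 0x220203b3a1)) (.leaf (nat_lit 0x220403b3a1))))) (.node 4 (.node 2 (.node 1 (.leaf (nat_lit 0x220803b3a1)) (.leaf (nat_lit 0x200103b3c1))) (.node 1 (.leaf (nat_lit 0x200403b3c1)) (.leaf (nat_lit 0x200803b3c1)))) (.node 2 (.node 1 (.leaf (nat_lit 0x200503b3d1)) (.leaf (nat_lit 0x200803b3d1))) (.node 1 (.leaf (nat_lit 0x200703b3e1)) (.leaf (nat_lit 0x220004aaf1)))))) (.node 8 (.node 4 (.node 2 (.node 1 (.leaf (nat_lit 0x200203b401)) (.leaf (nat_lit 0x220003b861))) (.node 1 (.leaf (nat_lit 0x200303b4c1)) (.leaf (nat_lit 0x200803b401)))) (.node 2 (.node 1 (.leaf (nat_lit 0x220703b411)) (.leaf (nat_lit 0x200803b421))) (.node 1 (.leaf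 (nat_lit 0x200503b431)) (.leaf (nat_lit 0x200803b431))))) (.node 4 (.node 2 (.node 1 (.leaf (nat_lit 0x200703b441)) (.leaf (nat_lit 0x200803b451))) (.node 1 (.leaf (nat_lit 0x200703b461)) (.leaf (nat_lit 0x200703b481)))) (.node 2 (.node 1 (.leaf (nat_lit 0x200703b491)) (.leaf (nat_lit 0x200303b4a1))) (.node 1 (.leaf (nat_lit 0x200803b4c1)) (.leaf (nat_lit 0x220003ba31))))))) (.node 16 (.node 8 (.node 4 (.node 2 (.node 1 (.leaf (nat_lit 0x220003ba41)) (.leaf (nat_lit 0x220404b291))) (.node 1 (.leaf (nat_lit 0x220003ba61)) (.leaf (nat_lit 0x220003ba71)))) (.node 2 (.node 1 (.leaf (nat_lit 0x220003ba81)) (.leaf (nat_lit 0x220303e391))) (.node 1 (.leaf (nat_lit 0x200003b541)) (.leaf (nat_lit 0x200403b541))))) (.node 4 (.node 2 (.node 1 (.leaf (nat_lit 0x200803b541)) (.leaf (nat_lit 0x200303b551))) (.node 1 (.leaf (nat_lit 0x200803b551)) (.leaf (nat_lit 0x200703b561)))) (.node 2 (.node 1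 (.leaf (nat_lit 0x200703b571)) (.leaf (nat_lit 0x200103bb11))) (.node 1 (.leaf (nat_lit 0x220004bde1)) (.leaf (nat_lit 0x220003bb31)))))) (.node 8 (.node 4 (.node 2 (.node 1 (.leaf (nat_lit 0x200803b5c1)) (.leaf (nat_lit 0x200703b5d1))) (.node 1 (.leaf (nat_lit 0x200303b5e1)) (.leaf (nat_lit 0x200703b5f1)))) (.node 2 (.node 1 (.leaf (nat_lit 0x200303b601)) (.leaf (nat_lit 0x200403b611))) (.node 1 (.leaf (nat_lit 0x200203b621)) (.leaf (nat_lit 0x200403b621))))) (.node 4 (.node 2 (.node 1 (.leaf (nat_lit 0x200803b621)) (.leaf (nat_lit 0x200603b651))) (.node 1 (.leaf (nat_lit 0x200803b641)) (.leaf (nat_lit 0x200503b6a1)))) (.node 2 (.node 1 (.leaf (nat_lit 0x200503d341)) (.leaf (nat_lit 0x200803b651))) (.node 1 (.leaf (nat_lit 0x200103b671)) (.leaf (nat_lit 0x200403b671))))))))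

noncomputable def oT136 : Tree :=
  .node 64 (.node 32 (.node 16 (.node 8 (.node 4 (.node 2 (.node 1 (.leaf (nat_lit 0x200803b671)) (.leaf (nat_lit 0x200503b681))) (.node 1 (.leaf (nat_lit 0x200803b681)) (.leaf (nat_lit 0x200703b691)))) (.node 2 (.node 1 (.leaf (nat_lit 0x200203d411)) (.leaf (nat_lit 0x200803b6a1))) (.node 1 (.leaf (nat_lit 0x200703b6b1)) (.leaf (nat_lit 0x200403b6c1))))) (.node 4 (.node 2 (.node 1 (.leaf (nat_lit 0x200803b6c1)) (.leaf (nat_lit 0x200503b6d1))) (.node 1 (.leaf (nat_lit 0x200803b6d1)) (.leaf (nat_lit 0x200703b6e1)))) (.node 2 (.node 1 (.leaf (nat_lit 0x200603b6f1)) (.leaf (nat_lit 0x200803b6f1))) (.node 1 (.leaf (nat_lit 0x200703b701)) (.leaf (nat_lit 0x200803b721)))))) (.node 8 (.node 4 (.node 2 (.node 1 (.leaf (nat_lit 0x200703b731)) (.leaf (nat_lit 0x200703b741))) (.node 1 (.leaf (nat_lit 0x200303b751)) (.leaf (nat_lit 0x2204047dd1)))) (.node 2 (.node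 1 (.leaf (nat_lit 0x200803b761)) (.leaf (nat_lit 0x200703b771))) (.node 1 (.leaf (nat_lit 0x220104b3c1)) (.leaf (nat_lit 0x220603b7c1))))) (.node 4 (.node 2 (.node 1 (.leaf (nat_lit 0x220303b7a1)) (.leaf (nat_lit 0x200203d5b1))) (.node 1 (.leaf (nat_lit 0x220504c111)) (.leaf (nat_lit 0x220104c0f1)))) (.node 2 (.node 1 (.leaf (nat_lit 0x200403b871)) (.leaf (nat_lit 0x220803b7c1))) (.node 1 (.leaf (nat_lit 0x220703b7d1)) (.leaf (nat_lit 0x200003b7e1))))))) (.node 16 (.node 8 (.node 4 (.node 2 (.node 1 (.leaf (nat_lit 0x200403b7e1)) (.leaf (nat_lit 0x200803b7e1))) (.node 1 (.leaf (nat_lit 0x200303b7f1)) (.leaf (nat_lit 0x200503b7f1)))) (.node 2 (.node 1 (.leaf (nat_lit 0x200803b7f1)) (.leaf (nat_lit 0x200703b801))) (.node 1 (.leaf (nat_lit 0x200603b811)) (.leaf (nat_lit 0x200803b811))))) (.node 4 (.node 2 (.node 1 (.leaf (nat_lit 0x200703b821)) (.leaf (nat_lit 0x200203d6b1))) (.node 1 (.leaf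 (nat_lit 0x200403b841)) (.leaf (nat_lit 0x200203d6d1)))) (.node 2 (.node 1 (.leaf (nat_lit 0x200203b871)) (.leaf (nat_lit 0x200803b851))) (.node 1 (.leaf (nat_lit 0x220104c2b1)) (.leaf (nat_lit 0x200803b871)))))) (.node 8 (.node 4 (.node 2 (.node 1 (.leaf (nat_lit 0x200703b881)) (.leaf (nat_lit 0x200403b8a1))) (.node 1 (.leaf (nat_lit 0x200803b8a1)) (.leaf (nat_lit 0x200503b8b1)))) (.node 2 (.node 1 (.leaf (nat_lit 0x200803b8b1)) (.leaf (nat_lit 0x200703b8c1))) (.node 1 (.leaf (nat_lit 0x200603b8d1)) (.leaf (nat_lit 0x200803b8d1))))) (.node 4 (.node 2 (.node 1 (.leaf (nat_lit 0x200703b8e1)) (.leaf (nat_lit 0x200303b8f1))) (.node 1 (.leaf (nat_lit 0x240704a831)) (.leaf (nat_lit 0x200803b901)))) (.node 2 (.node 1 (.leaf (nat_lit 0x200703b911)) (.leaf (nat_lit 0x200803b931))) (.node 1 (.leaf (nat_lit 0x200703b941)) (.leaf (nat_lit 0x200603b951)))))))) (.node 32 (.node 16 (.node 8 (.node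 4 (.node 2 (.node 1 (.leaf (nat_lit 0x200803b951)) (.leaf (nat_lit 0x200703b961))) (.node 1 (.leaf (nat_lit 0x200303b971)) (.leaf (nat_lit 0x2204048081)))) (.node 2 (.node 1 (.leaf (nat_lit 0x200803b981)) (.leaf (nat_lit 0x200703b991))) (.node 1 (.leaf (nat_lit 0x200303b9a1)) (.leaf (nat_lit 0x200403b9b1))))) (.node 4 (.node 2 (.node 1 (.leaf (nat_lit 0x220303ba21)) (.leaf (nat_lit 0x200703b9d1))) (.node 1 (.leaf (nat_lit 0x2207047841)) (.leaf (nat_lit 0x220104b1c1)))) (.node 2 (.node 1 (.leaf (nat_lit 0x200303bb01)) (.leaf (nat_lit 0x200203bbb1))) (.node 1 (.leaf (nat_lit 0x220104a461)) (.leaf (nat_lit 0x220803ba61)))))) (.node 8 (.node 4 (.node 2 (.node 1 (.leaf (nat_lit 0x220203ba91)) (.leaf (nat_lit 0x22030476c1))) (.node 1 (.leaf (nat_lit 0x200803baa1)) (.leaf (nat_lit 0x200303bab1)))) (.node 2 (.node 1 (.leaf (nat_lit 0x200803bab1)) (.leaf (nat_lit 0x200703bac1))) (.node 1 (.leaf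 (nat_lit 0x200703bad1)) (.leaf (nat_lit 0x200803bad1))))) (.node 4 (.node 2 (.node 1 (.leaf (nat_lit 0x200703bae1)) (.leaf (nat_lit 0x200303baf1))) (.node 1 (.leaf (nat_lit 0x200203bc51)) (.leaf (nat_lit 0x200203bc61)))) (.node 2 (.node 1 (.leaf (nat_lit 0x220104c571)) (.leaf (nat_lit 0x200703bb41))) (.node 1 (.leaf (nat_lit 0x200303bb51)) (.leaf (nat_lit 0x200403bb61))))))) (.node 16 (.node 8 (.node 4 (.node 2 (.node 1 (.leaf (nat_lit 0x200303ca11)) (.leaf (nat_lit 0x200303c401))) (.node 1 (.leaf (nat_lit 0x200703bbf1)) (.leaf (nat_lit 0x200703bc01)))) (.node 2 (.node 1 (.leaf (nat_lit 0x200303bc11)) (.leaf (nat_lit 0x200303dd81))) (.node 1 (.leaf (nat_lit 0x150803bc92)) (.leaf (nat_lit 0x150803bcb2))))) (.node 4 (.node 2 (.node 1 (.leaf (nat_lit 0x150803bcd2)) (.leaf (nat_lit 0x150703bce2))) (.node 1 (.leaf (nat_lit 0x150803bcf2)) (.leaf (nat_lit 0x150703bd02)))) (.node 2 (.node 1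 (.leaf (nat_lit 0x150803bd22)) (.leaf (nat_lit 0x150703bd32))) (.node 1 (.leaf (nat_lit 0x150703bd42)) (.leaf (nat_lit 0x150803bd52)))))) (.node 8 (.node 4 (.node 2 (.node 1 (.leaf (nat_lit 0x150703bd62)) (.leaf (nat_lit 0x150703bd72))) (.node 1 (.leaf (nat_lit 0x150303bd92)) (.leaf (nat_lit 0x150803bda2)))) (.node 2 (.node 1 (.leaf (nat_lit 0x150703bdb2)) (.leaf (nat_lit 0x150803bdc2))) (.node 1 (.leaf (nat_lit 0x150703bdf2)) (.leaf (nat_lit 0x150703be02))))) (.node 4 (.node 2 (.node 1 (.leaf (nat_lit 0x150703be32)) (.leaf (nat_lit 0x150303be52))) (.node 1 (.leaf (nat_lit 0x150803be62)) (.leaf (nat_lit 0x150703be72)))) (.node 2 (.node 1 (.leaf (nat_lit 0x150803bea2)) (.leaf (nat_lit 0x150803beb2))) (.node 1 (.leaf (nat_lit 0x150703bec2)) (.leaf (nat_lit 0x150803bed2))))))))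

noncomputable def oT137 : Tree :=
  .node 64 (.node 32 (.node 16 (.node 8 (.node 4 (.node 2 (.node 1 (.leaf (nat_lit 0x150703bee2)) (.leaf (nat_lit 0x150803bf02))) (.node 1 (.leaf (nat_lit 0x150803bf12)) (.leaf (nat_lit 0x150703bf22)))) (.node 2 (.node 1 (.leaf (nat_lit 0x150803bf32)) (.leaf (nat_lit 0x150703bf42))) (.node 1 (.leaf (nat_lit 0x150303bf52)) (.leaf (nat_lit 0x150803bf62))))) (.node 4 (.node 2 (.node 1 (.leaf (nat_lit 0x150703bf72)) (.leaf (nat_lit 0x150703bfb2))) (.node 1 (.leaf (nat_lit 0x150703bfc2)) (.leaf (nat_lit 0x150703bfe2)))) (.node 2 (.node 1 (.leaf (nat_lit 0x150303bff2)) (.leaf (nat_lit 0x150703c002))) (.node 1 (.leaf (nat_lit 0x150303c012)) (.leaf (nat_lit 0x150403c022)))))) (.node 8 (.node 4 (.node 2 (.node 1 (.leaf (nat_lit 0x150703c052)) (.leaf (nat_lit 0x200303c081))) (.node 1 (.leaf (nat_lit 0x200803c081)) (.leaf (nat_lit 0x200803c091)))) (.node 2 (.node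 1 (.leaf (nat_lit 0x200703c0b1)) (.leaf (nat_lit 0x200503c0f1))) (.node 1 (.leaf (nat_lit 0x200803c0c1)) (.leaf (nat_lit 0x200203c0d1))))) (.node 4 (.node 2 (.node 1 (.leaf (nat_lit 0x200403c0d1)) (.leaf (nat_lit 0x200803c0d1))) (.node 1 (.leaf (nat_lit 0x200803c0f1)) (.leaf (nat_lit 0x200803c111)))) (.node 2 (.node 1 (.leaf (nat_lit 0x200703c121)) (.leaf (nat_lit 0x200703c131))) (.node 1 (.leaf (nat_lit 0x200103c161)) (.leaf (nat_lit 0x200803c161))))))) (.node 16 (.node 8 (.node 4 (.node 2 (.node 1 (.leaf (nat_lit 0x200703c171)) (.leaf (nat_lit 0x200803c181))) (.node 1 (.leaf (nat_lit 0x200703c191)) (.leaf (nat_lit 0x200803c1b1)))) (.node 2 (.node 1 (.leaf (nat_lit 0x200703c1c1)) (.leaf (nat_lit 0x200303c1d1))) (.node 1 (.leaf (nat_lit 0x200203c1e1)) (.leaf (nat_lit 0x200403c1e1))))) (.node 4 (.node 2 (.node 1 (.leaf (nat_lit 0x200803c1e1)) (.leaf (nat_lit 0x200803c201))) (.node 1 (.leaf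 (nat_lit 0x200703c211)) (.leaf (nat_lit 0x200803c221)))) (.node 2 (.node 1 (.leaf (nat_lit 0x200703c231)) (.leaf (nat_lit 0x200703c241))) (.node 1 (.leaf (nat_lit 0x220403c261)) (.leaf (nat_lit 0x220803c261)))))) (.node 8 (.node 4 (.node 2 (.node 1 (.leaf (nat_lit 0x200403c281)) (.leaf (nat_lit 0x200803c281))) (.node 1 (.leaf (nat_lit 0x200503c291)) (.leaf (nat_lit 0x200803c291)))) (.node 2 (.node 1 (.leaf (nat_lit 0x200703c2a1)) (.leaf (nat_lit 0x220703c2b1))) (.node 1 (.leaf (nat_lit 0x200503c2c1)) (.leaf (nat_lit 0x200803c2c1))))) (.node 4 (.node 2 (.node 1 (.leaf (nat_lit 0x200703c2d1)) (.leaf (nat_lit 0x200803c2e1))) (.node 1 (.leaf (nat_lit 0x200703c2f1)) (.leaf (nat_lit 0x200803c311)))) (.node 2 (.node 1 (.leaf (nat_lit 0x200803c321)) (.leaf (nat_lit 0x200703c331))) (.node 1 (.leaf (nat_lit 0x200703c341)) (.leaf (nat_lit 0x200303c351)))))))) (.node 32 (.node 16 (.node 8 (.node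 4 (.node 2 (.node 1 (.leaf (nat_lit 0x200303c381)) (.leaf (nat_lit 0x200803c381))) (.node 1 (.leaf (nat_lit 0x200703c391)) (.leaf (nat_lit 0x200703c3a1)))) (.node 2 (.node 1 (.leaf (nat_lit 0x200303c3c1)) (.leaf (nat_lit 0x200703c3d1))) (.node 1 (.leaf (nat_lit 0x200303c3e1)) (.leaf (nat_lit 0x200403c3f1))))) (.node 4 (.node 2 (.node 1 (.leaf (nat_lit 0x200203c441)) (.leaf (nat_lit 0x200403c441))) (.node 1 (.leaf (nat_lit 0x200803c441)) (.leaf (nat_lit 0x200803c461)))) (.node 2 (.node 1 (.leaf (nat_lit 0x200703c471)) (.leaf (nat_lit 0x200803c481))) (.node 1 (.leaf (nat_lit 0x200703c491)) (.leaf (nat_lit 0x220603c4c1)))))) (.node 8 (.node 4 (.node 2 (.node 1 (.leaf (nat_lit 0x220803c4b1)) (.leaf (nat_lit 0x2205047191))) (.node 1 (.leaf (nat_lit 0x220803c4c1)) (.leaf (nat_lit 0x200403c4e1)))) (.node 2 (.node 1 (.leaf (nat_lit 0x200803c4e1)) (.leaf (nat_lit 0x200803c4f1))) (.node 1 (.leaf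 (nat_lit 0x200703c501)) (.leaf (nat_lit 0x220703c511))))) (.node 4 (.node 2 (.node 1 (.leaf (nat_lit 0x200703c521)) (.leaf (nat_lit 0x200803c541))) (.node 1 (.leaf (nat_lit 0x200703c551)) (.leaf (nat_lit 0x200303c561)))) (.node 2 (.node 1 (.leaf (nat_lit 0x220803c571)) (.leaf (nat_lit 0x220703c591))) (.node 1 (.leaf (nat_lit 0x200703c5a1)) (.leaf (nat_lit 0x200703c5b1))))))) (.node 16 (.node 8 (.node 4 (.node 2 (.node 1 (.leaf (nat_lit 0x200303c5e1)) (.leaf (nat_lit 0x200703c5f1))) (.node 1 (.leaf (nat_lit 0x200303c601)) (.leaf (nat_lit 0x200403c611)))) (.node 2 (.node 1 (.leaf (nat_lit 0x200103c621)) (.leaf (nat_lit 0x200403c621))) (.node 1 (.leaf (nat_lit 0x200803c621)) (.leaf (nat_lit 0x200803c631))))) (.node 4 (.node 2 (.node 1 (.leaf (nat_lit 0x200703c641)) (.leaf (nat_lit 0x200803c651))) (.node 1 (.leaf (nat_lit 0x200703c661)) (.leaf (nat_lit 0x200803c681)))) (.node 2 (.node 1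 (.leaf (nat_lit 0x200703c691)) (.leaf (nat_lit 0x200703c6b1))) (.node 1 (.leaf (nat_lit 0x200303c6c1)) (.leaf (nat_lit 0x220603c711)))))) (.node 8 (.node 4 (.node 2 (.node 1 (.leaf (nat_lit 0x220603c721)) (.leaf (nat_lit 0x220803c6f1))) (.node 1 (.leaf (nat_lit 0x220503c7a1)) (.leaf (nat_lit 0x2205047021)))) (.node 2 (.node 1 (.leaf (nat_lit 0x220803c711)) (.leaf (nat_lit 0x220803c721))) (.node 1 (.leaf (nat_lit 0x220703c731)) (.leaf (nat_lit 0x200003c741))))) (.node 4 (.node 2 (.node 1 (.leaf (nat_lit 0x200403c741)) (.leaf (nat_lit 0x200803c741))) (.node 1 (.leaf (nat_lit 0x200303c751)) (.leaf (nat_lit 0x200503c751)))) (.node 2 (.node 1 (.leaf (nat_lit 0x200803c751)) (.leaf (nat_lit 0x200703c761))) (.node 1 (.leaf (nat_lit 0x200603c771)) (.leaf (nat_lit 0x200803c771))))))))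

noncomputable def oT138 : Tree :=
  .node 64 (.node 32 (.node 16 (.node 8 (.node 4 (.node 2 (.node 1 (.leaf (nat_lit 0x200703c781)) (.leaf (nat_lit 0x220803c7a1))) (.node 1 (.leaf (nat_lit 0x220703c7b1)) (.leaf (nat_lit 0x200803c7d1)))) (.node 2 (.node 1 (.leaf (nat_lit 0x200503c7e1)) (.leaf (nat_lit 0x200803c7e1))) (.node 1 (.leaf (nat_lit 0x200703c7f1)) (.leaf (nat_lit 0x200603c801))))) (.node 4 (.node 2 (.node 1 (.leaf (nat_lit 0x200803c801)) (.leaf (nat_lit 0x200703c811))) (.node 1 (.leaf (nat_lit 0x200303c821)) (.leaf (nat_lit 0x2202046d51)))) (.node 2 (.node 1 (.leaf (nat_lit 0x200803c831)) (.leaf (nat_lit 0x200703c841))) (.node 1 (.leaf (nat_lit 0x200803c861)) (.leaf (nat_lit 0x200703c871)))))) (.node 8 (.node 4 (.node 2 (.node 1 (.leaf (nat_lit 0x200803c881)) (.leaf (nat_lit 0x200703c891))) (.node 1 (.leaf (nat_lit 0x200303c8a1)) (.leaf (nat_lit 0x200803c8b1)))) (.node 2 (.node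 1 (.leaf (nat_lit 0x200703c8c1)) (.leaf (nat_lit 0x200303c8d1))) (.node 1 (.leaf (nat_lit 0x200403c8e1)) (.leaf (nat_lit 0x200303c941))))) (.node 4 (.node 2 (.node 1 (.leaf (nat_lit 0x200703c901)) (.leaf (nat_lit 0x200703de01))) (.node 1 (.leaf (nat_lit 0x220803c951)) (.leaf (nat_lit 0x200303cb41)))) (.node 2 (.node 1 (.leaf (nat_lit 0x220803c971)) (.leaf (nat_lit 0x220703c981))) (.node 1 (.leaf (nat_lit 0x200803c9b1)) (.leaf (nat_lit 0x200303c9c1))))))) (.node 16 (.node 8 (.node 4 (.node 2 (.node 1 (.leaf (nat_lit 0x200803c9c1)) (.leaf (nat_lit 0x200703c9d1))) (.node 1 (.leaf (nat_lit 0x200703c9e1)) (.leaf (nat_lit 0x200803c9e1)))) (.node 2 (.node 1 (.leaf (nat_lit 0x200703c9f1)) (.leaf (nat_lit 0x200303ca01))) (.node 1 (.leaf (nat_lit 0x220703ca21)) (.leaf (nat_lit 0x220303ca31))))) (.node 4 (.node 2 (.node 1 (.leaf (nat_lit 0x200703ca41)) (.leaf (nat_lit 0x200303ca51))) (.node 1 (.leaf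 (nat_lit 0x200403ca61)) (.leaf (nat_lit 0x200303ca71)))) (.node 2 (.node 1 (.leaf (nat_lit 0x200203ca81)) (.leaf (nat_lit 0x200403ca81))) (.node 1 (.leaf (nat_lit 0x200503ca91)) (.leaf (nat_lit 0x220803cab1)))))) (.node 8 (.node 4 (.node 2 (.node 1 (.leaf (nat_lit 0x200303d031)) (.leaf (nat_lit 0x2203049151))) (.node 1 (.leaf (nat_lit 0x200803cb01)) (.leaf (nat_lit 0x200703cb11)))) (.node 2 (.node 1 (.leaf (nat_lit 0x200803cb21)) (.leaf (nat_lit 0x200703cb31))) (.node 1 (.leaf (nat_lit 0x220703cb71)) (.leaf (nat_lit 0x200303cb91))))) (.node 4 (.node 2 (.node 1 (.leaf (nat_lit 0x200203cba1)) (.leaf (nat_lit 0x200403cba1))) (.node 1 (.leaf (nat_lit 0x220303cc01)) (.leaf (nat_lit 0x220803cc01)))) (.node 2 (.node 1 (.leaf (nat_lit 0x220504ba31)) (.leaf (nat_lit 0x220803cc11))) (.node 1 (.leaf (nat_lit 0x200803cc31)) (.leaf (nat_lit 0x200703cc41)))))))) (.node 32 (.node 16 (.node 8 (.node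 4 (.node 2 (.node 1 (.leaf (nat_lit 0x220703cc51)) (.leaf (nat_lit 0x200403cc81))) (.node 1 (.leaf (nat_lit 0x200803cc81)) (.leaf (nat_lit 0x220303cca1)))) (.node 2 (.node 1 (.leaf (nat_lit 0x220803cca1)) (.leaf (nat_lit 0x220504a111))) (.node 1 (.leaf (nat_lit 0x220803ccb1)) (.leaf (nat_lit 0x200503ccd1))))) (.node 4 (.node 2 (.node 1 (.leaf (nat_lit 0x200803ccd1)) (.leaf (nat_lit 0x200703cce1))) (.node 1 (.leaf (nat_lit 0x200803ccf1)) (.leaf (nat_lit 0x220703cd01)))) (.node 2 (.node 1 (.leaf (nat_lit 0x200803cd11)) (.leaf (nat_lit 0x200703cd21))) (.node 1 (.leaf (nat_lit 0x220203cd51)) (.leaf (nat_lit 0x220304b621)))))) (.node 8 (.node 4 (.node 2 (.node 1 (.leaf (nat_lit 0x220803cd51)) (.leaf (nat_lit 0x2202048211))) (.node 1 (.leaf (nat_lit 0x240203cd81)) (.leaf (nat_lit 0x220303cf61)))) (.node 2 (.node 1 (.leaf (nat_lit 0x220704a111)) (.leaf (nat_lit 0x240803cd81))) (.node 1 (.leaf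 (nat_lit 0x240703cd91)) (.leaf (nat_lit 0x200403cda1))))) (.node 4 (.node 2 (.node 1 (.leaf (nat_lit 0x200803cda1)) (.leaf (nat_lit 0x200303cdb1))) (.node 1 (.leaf (nat_lit 0x200503cdb1)) (.leaf (nat_lit 0x200803cdb1)))) (.node 2 (.node 1 (.leaf (nat_lit 0x200703cdc1)) (.leaf (nat_lit 0x200803cdd1))) (.node 1 (.leaf (nat_lit 0x200703cde1)) (.leaf (nat_lit 0x220203d1c1))))))) (.node 16 (.node 8 (.node 4 (.node 2 (.node 1 (.leaf (nat_lit 0x220303cfe1)) (.leaf (nat_lit 0x22070490b1))) (.node 1 (.leaf (nat_lit 0x220403ce21)) (.leaf (nat_lit 0x220304a521)))) (.node 2 (.node 1 (.leaf (nat_lit 0x200703cfb1)) (.leaf (nat_lit 0x220803ce31))) (.node 1 (.leaf (nat_lit 0x220703ce41)) (.leaf (nat_lit 0x200503ce61))))) (.node 4 (.node 2 (.node 1 (.leaf (nat_lit 0x200803ce61)) (.leaf (nat_lit 0x200703ce71))) (.node 1 (.leaf (nat_lit 0x200803ce81)) (.leaf (nat_lit 0x200703ce91)))) (.node 2 (.node 1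 (.leaf (nat_lit 0x200703ceb1)) (.leaf (nat_lit 0x200703ced1))) (.node 1 (.leaf (nat_lit 0x200303cef1)) (.leaf (nat_lit 0x200803cf01)))))) (.node 8 (.node 4 (.node 2 (.node 1 (.leaf (nat_lit 0x220704a4a1)) (.leaf (nat_lit 0x220803cf41))) (.node 1 (.leaf (nat_lit 0x2202049c91)) (.leaf (nat_lit 0x220803cf51)))) (.node 2 (.node 1 (.leaf (nat_lit 0x200803cf81)) (.leaf (nat_lit 0x200303cf91))) (.node 1 (.leaf (nat_lit 0x200803cf91)) (.leaf (nat_lit 0x200803cfb1))))) (.node 4 (.node 2 (.node 1 (.leaf (nat_lit 0x22070477f1)) (.leaf (nat_lit 0x200703d011))) (.node 1 (.leaf (nat_lit 0x200803da31)) (.leaf (nat_lit 0x200203d0a1)))) (.node 2 (.node 1 (.leaf (nat_lit 0x200403d0a1)) (.leaf (nat_lit 0x200803d0a1))) (.node 1 (.leaf (nat_lit 0x220304a0f1)) (.leaf (nat_lit 0x220803d0c1))))))))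

noncomputable def oT139 : Tree :=
  .node 64 (.node 32 (.node 16 (.node 8 (.node 4 (.node 2 (.node 1 (.leaf (nat_lit 0x200803d0e1)) (.leaf (nat_lit 0x200703d0f1))) (.node 1 (.leaf (nat_lit 0x220703d101)) (.leaf (nat_lit 0x220303d241)))) (.node 2 (.node 1 (.leaf (nat_lit 0x220704d271)) (.leaf (nat_lit 0x220803d121))) (.node 1 (.leaf (nat_lit 0x220303d261)) (.leaf (nat_lit 0x2205047ec1))))) (.node 4 (.node 2 (.node 1 (.leaf (nat_lit 0x220303d281)) (.leaf (nat_lit 0x240803d151))) (.node 1 (.leaf (nat_lit 0x240703d161)) (.leaf (nat_lit 0x200003d171)))) (.node 2 (.node 1 (.leaf (nat_lit 0x200403d171)) (.leaf (nat_lit 0x200803d171))) (.node 1 (.leaf (nat_lit 0x200303d181)) (.leaf (nat_lit 0x200803d181)))))) (.node 8 (.node 4 (.node 2 (.node 1 (.leaf (nat_lit 0x200703d191)) (.leaf (nat_lit 0x200703d1a1))) (.node 1 (.leaf (nat_lit 0x200303d2f1)) (.leaf (nat_lit 0x220303d301)))) (.node 2 (.node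 1 (.leaf (nat_lit 0x220304aa31)) (.leaf (nat_lit 0x200803d1f1))) (.node 1 (.leaf (nat_lit 0x200703d201)) (.leaf (nat_lit 0x200703d221))))) (.node 4 (.node 2 (.node 1 (.leaf (nat_lit 0x220704b141)) (.leaf (nat_lit 0x220803d261))) (.node 1 (.leaf (nat_lit 0x200703d951)) (.leaf (nat_lit 0x200803d2a1)))) (.node 2 (.node 1 (.leaf (nat_lit 0x200303d2b1)) (.leaf (nat_lit 0x200803d2b1))) (.node 1 (.leaf (nat_lit 0x200703d2d1)) (.leaf (nat_lit 0x200803d2d1))))))) (.node 16 (.node 8 (.node 4 (.node 2 (.node 1 (.leaf (nat_lit 0x200703e1d1)) (.leaf (nat_lit 0x200103d331))) (.node 1 (.leaf (nat_lit 0x200403d331)) (.leaf (nat_lit 0x200803d331)))) (.node 2 (.node 1 (.leaf (nat_lit 0x200803d341)) (.leaf (nat_lit 0x200703d351))) (.node 1 (.leaf (nat_lit 0x220303daf1)) (.leaf (nat_lit 0x220603d391))))) (.node 4 (.node 2 (.node 1 (.leaf (nat_lit 0x220803d361)) (.leaf (nat_lit 0x200303db11))) (.node 1 (.leaf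 (nat_lit 0x220504be61)) (.leaf (nat_lit 0x220303db31)))) (.node 2 (.node 1 (.leaf (nat_lit 0x220803d391)) (.leaf (nat_lit 0x220703d3a1))) (.node 1 (.leaf (nat_lit 0x200003d3b1)) (.leaf (nat_lit 0x200403d3b1)))))) (.node 8 (.node 4 (.node 2 (.node 1 (.leaf (nat_lit 0x200803d3b1)) (.leaf (nat_lit 0x200303d3c1))) (.node 1 (.leaf (nat_lit 0x200503d3c1)) (.leaf (nat_lit 0x200803d3c1)))) (.node 2 (.node 1 (.leaf (nat_lit 0x200703d3d1)) (.leaf (nat_lit 0x200603d3e1))) (.node 1 (.leaf (nat_lit 0x200803d3e1)) (.leaf (nat_lit 0x200703d3f1))))) (.node 4 (.node 2 (.node 1 (.leaf (nat_lit 0x200303dba1)) (.leaf (nat_lit 0x200403d411))) (.node 1 (.leaf (nat_lit 0x200303dbb1)) (.leaf (nat_lit 0x200803d421)))) (.node 2 (.node 1 (.leaf (nat_lit 0x220304a681)) (.leaf (nat_lit 0x200703d441))) (.node 1 (.leaf (nat_lit 0x200803d461)) (.leaf (nat_lit 0x200503d471)))))))) (.node 32 (.node 16 (.node 8 (.node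 4 (.node 2 (.node 1 (.leaf (nat_lit 0x200803d471)) (.leaf (nat_lit 0x200703d481))) (.node 1 (.leaf (nat_lit 0x200603d491)) (.leaf (nat_lit 0x200803d491)))) (.node 2 (.node 1 (.leaf (nat_lit 0x200703d4a1)) (.leaf (nat_lit 0x240104a831))) (.node 1 (.leaf (nat_lit 0x200803d4c1)) (.leaf (nat_lit 0x200703d4d1))))) (.node 4 (.node 2 (.node 1 (.leaf (nat_lit 0x200703d4f1)) (.leaf (nat_lit 0x200703d501))) (.node 1 (.leaf (nat_lit 0x220404aaf1)) (.leaf (nat_lit 0x200803d521)))) (.node 2 (.node 1 (.leaf (nat_lit 0x200703d531)) (.leaf (nat_lit 0x200303d541))) (.node 1 (.leaf (nat_lit 0x240303e601)) (.leaf (nat_lit 0x200703d561)))))) (.node 8 (.node 4 (.node 2 (.node 1 (.leaf (nat_lit 0x220403d581)) (.leaf (nat_lit 0x220303d901))) (.node 1 (.leaf (nat_lit 0x240604d971)) (.leaf (nat_lit 0x240403d5a1)))) (.node 2 (.node 1 (.leaf (nat_lit 0x240204d961)) (.leaf (nat_lit 0x200403d5b1))) (.node 1 (.leaf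 (nat_lit 0x200303d911)) (.leaf (nat_lit 0x200403d921))))) (.node 4 (.node 2 (.node 1 (.leaf (nat_lit 0x2203047a51)) (.leaf (nat_lit 0x220403d5d1))) (.node 1 (.leaf (nat_lit 0x220304da01)) (.leaf (nat_lit 0x220403d711)))) (.node 2 (.node 1 (.leaf (nat_lit 0x220803d5e1)) (.leaf (nat_lit 0x240703d5f1))) (.node 1 (.leaf (nat_lit 0x200403d611)) (.leaf (nat_lit 0x200803d611))))))) (.node 16 (.node 8 (.node 4 (.node 2 (.node 1 (.leaf (nat_lit 0x200303d621)) (.leaf (nat_lit 0x200503d621))) (.node 1 (.leaf (nat_lit 0x200803d621)) (.leaf (nat_lit 0x200703d631)))) (.node 2 (.node 1 (.leaf (nat_lit 0x200503d641)) (.leaf (nat_lit 0x200703d641))) (.node 1 (.leaf (nat_lit 0x200803d641)) (.leaf (nat_lit 0x200603d651))))) (.node 4 (.node 2 (.node 1 (.leaf (nat_lit 0x200803d651)) (.leaf (nat_lit 0x200703d661))) (.node 1 (.leaf (nat_lit 0x200303d671)) (.leaf (nat_lit 0x240304cde1)))) (.node 2 (.node 1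 (.leaf (nat_lit 0x200803d681)) (.leaf (nat_lit 0x200703d691))) (.node 1 (.leaf (nat_lit 0x200303d6a1)) (.leaf (nat_lit 0x200403d6b1)))))) (.node 8 (.node 4 (.node 2 (.node 1 (.leaf (nat_lit 0x200303d9a1)) (.leaf (nat_lit 0x200503d6c1))) (.node 1 (.leaf (nat_lit 0x200403d6d1)) (.leaf (nat_lit 0x200303e541)))) (.node 2 (.node 1 (.leaf (nat_lit 0x220803d6e1)) (.leaf (nat_lit 0x220403d701))) (.node 1 (.leaf (nat_lit 0x200703d9b1)) (.leaf (nat_lit 0x2400047451))))) (.node 4 (.node 2 (.node 1 (.leaf (nat_lit 0x220803d711)) (.leaf (nat_lit 0x220703d721))) (.node 1 (.leaf (nat_lit 0x200503d741)) (.leaf (nat_lit 0x200803d741)))) (.node 2 (.node 1 (.leaf (nat_lit 0x200703d751)) (.leaf (nat_lit 0x200603d761))) (.node 1 (.leaf (nat_lit 0x200803d761)) (.leaf (nat_lit 0x200703d771))))))))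

noncomputable def oT140 : Tree :=
  .node 64 (.node 32 (.node 16 (.node 8 (.node 4 (.node 2 (.node 1 (.leaf (nat_lit 0x200303d781)) (.leaf (nat_lit 0x2200047471))) (.node 1 (.leaf (nat_lit 0x200803d791)) (.leaf (nat_lit 0x200703d7a1)))) (.node 2 (.node 1 (.leaf (nat_lit 0x200303d7b1)) (.leaf (nat_lit 0x200403d7c1))) (.node 1 (.leaf (nat_lit 0x220303d8f1)) (.leaf (nat_lit 0x200703d7e1))))) (.node 4 (.node 2 (.node 1 (.leaf (nat_lit 0x200703d801)) (.leaf (nat_lit 0x200003e5b1))) (.node 1 (.leaf (nat_lit 0x200803d821)) (.leaf (nat_lit 0x200703d831)))) (.node 2 (.node 1 (.leaf (nat_lit 0x200303d841)) (.leaf (nat_lit 0x220203d8b1))) (.node 1 (.leaf (nat_lit 0x200703d871)) (.leaf (nat_lit 0x200303d881)))))) (.node 8 (.node 4 (.node 2 (.node 1 (.leaf (nat_lit 0x200403d891)) (.leaf (nat_lit 0x2203047aa1))) (.node 1 (.leaf (nat_lit 0x2207047a21)) (.leaf (nat_lit 0x200303d931)))) (.node 2 (.node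 1 (.leaf (nat_lit 0x200803d961)) (.leaf (nat_lit 0x200803d971))) (.node 1 (.leaf (nat_lit 0x200703d981)) (.leaf (nat_lit 0x200403d991))))) (.node 4 (.node 2 (.node 1 (.leaf (nat_lit 0x200803dc01)) (.leaf (nat_lit 0x200503d9e1))) (.node 1 (.leaf (nat_lit 0x200703da11)) (.leaf (nat_lit 0x200803da41)))) (.node 2 (.node 1 (.leaf (nat_lit 0x200703da51)) (.leaf (nat_lit 0x200803da61))) (.node 1 (.leaf (nat_lit 0x200603e3a1)) (.leaf (nat_lit 0x220403da71))))))) (.node 16 (.node 8 (.node 4 (.node 2 (.node 1 (.leaf (nat_lit 0x220803da71)) (.leaf (nat_lit 0x220803da81))) (.node 1 (.leaf (nat_lit 0x220703da91)) (.leaf (nat_lit 0x200003daa1)))) (.node 2 (.node 1 (.leaf (nat_lit 0x200403daa1)) (.leaf (nat_lit 0x200803daa1))) (.node 1 (.leaf (nat_lit 0x200303dab1)) (.leaf (nat_lit 0x200803dab1))))) (.node 4 (.node 2 (.node 1 (.leaf (nat_lit 0x200703dac1)) (.leaf (nat_lit 0x200703dad1))) (.node 1 (.leaf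 (nat_lit 0x220704a791)) (.leaf (nat_lit 0x200703dbe1)))) (.node 2 (.node 1 (.leaf (nat_lit 0x220704a7f1)) (.leaf (nat_lit 0x220803db21))) (.node 1 (.leaf (nat_lit 0x200803db51)) (.leaf (nat_lit 0x200303db61)))))) (.node 8 (.node 4 (.node 2 (.node 1 (.leaf (nat_lit 0x200803db61)) (.leaf (nat_lit 0x200703db81))) (.node 1 (.leaf (nat_lit 0x200803db81)) (.leaf (nat_lit 0x200703e561)))) (.node 2 (.node 1 (.leaf (nat_lit 0x200803dbd1)) (.leaf (nat_lit 0x200503dbf1))) (.node 1 (.leaf (nat_lit 0x200503dc01)) (.leaf (nat_lit 0x150403dc22))))) (.node 4 (.node 2 (.node 1 (.leaf (nat_lit 0x150303dc52)) (.leaf (nat_lit 0x150303dc72))) (.node 1 (.leaf (nat_lit 0x150203dc82)) (.leaf (nat_lit 0x150403dc82)))) (.node 2 (.node 1 (.leaf (nat_lit 0x150503dc92)) (.leaf (nat_lit 0x220303dca1))) (.node 1 (.leaf (nat_lit 0x150303dcb2)) (.leaf (nat_lit 0x200403e091)))))))) (.node 32 (.node 16 (.node 8 (.node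 4 (.node 2 (.node 1 (.leaf (nat_lit 0x150303dd12)) (.leaf (nat_lit 0x150203dd22))) (.node 1 (.leaf (nat_lit 0x150403dd22)) (.leaf (nat_lit 0x200403dd91)))) (.node 2 (.node 1 (.leaf (nat_lit 0x200803ddd1)) (.leaf (nat_lit 0x200803ddf1))) (.node 1 (.leaf (nat_lit 0x200803de31)) (.leaf (nat_lit 0x200703de41))))) (.node 4 (.node 2 (.node 1 (.leaf (nat_lit 0x200303de71)) (.leaf (nat_lit 0x200403deb1))) (.node 1 (.leaf (nat_lit 0x200803ded1)) (.leaf (nat_lit 0x200703dee1)))) (.node 2 (.node 1 (.leaf (nat_lit 0x200803df01)) (.leaf (nat_lit 0x200703df11))) (.node 1 (.leaf (nat_lit 0x200303df21)) (.leaf (nat_lit 0x200303df41)))))) (.node 8 (.node 4 (.node 2 (.node 1 (.leaf (nat_lit 0x200203df51)) (.leaf (nat_lit 0x200403df51))) (.node 1 (.leaf (nat_lit 0x200503df61)) (.leaf (nat_lit 0x200603dfa1)))) (.node 2 (.node 1 (.leaf (nat_lit 0x2202046b01)) (.leaf (nat_lit 0x200703dfd1))) (.node 1 (.leaf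 (nat_lit 0x200303dfe1)) (.leaf (nat_lit 0x200203e001))))) (.node 4 (.node 2 (.node 1 (.leaf (nat_lit 0x200403e001)) (.leaf (nat_lit 0x200403e061))) (.node 1 (.leaf (nat_lit 0x200403e051)) (.leaf (nat_lit 0x200203e051)))) (.node 2 (.node 1 (.leaf (nat_lit 0x2203048391)) (.leaf (nat_lit 0x200503e071))) (.node 1 (.leaf (nat_lit 0x200803e0e1)) (.leaf (nat_lit 0x200703e0f1))))))) (.node 16 (.node 8 (.node 4 (.node 2 (.node 1 (.leaf (nat_lit 0x200303e101)) (.leaf (nat_lit 0x200303e1e1))) (.node 1 (.leaf (nat_lit 0x220703e121)) (.leaf (nat_lit 0x200703e221)))) (.node 2 (.node 1 (.leaf (nat_lit 0x200703e141)) (.leaf (nat_lit 0x200303e151))) (.node 1 (.leaf (nat_lit 0x200403e161)) (.leaf (nat_lit 0x200803e1c1))))) (.node 4 (.node 2 (.node 1 (.leaf (nat_lit 0x200803e1f1)) (.leaf (nat_lit 0x200703e201))) (.node 1 (.leaf (nat_lit 0x200403e211)) (.leaf (nat_lit 0x200803e261)))) (.node 2 (.node 1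 (.leaf (nat_lit 0x200503e241)) (.leaf (nat_lit 0x200503e261))) (.node 1 (.leaf (nat_lit 0x200603e271)) (.leaf (nat_lit 0x200803e271)))))) (.node 8 (.node 4 (.node 2 (.node 1 (.leaf (nat_lit 0x200703e281)) (.leaf (nat_lit 0x200603e2a1))) (.node 1 (.leaf (nat_lit 0x200703e2a1)) (.leaf (nat_lit 0x200803e2a1)))) (.node 2 (.node 1 (.leaf (nat_lit 0x200803e2b1)) (.leaf (nat_lit 0x200703e2c1))) (.node 1 (.leaf (nat_lit 0x200803e2d1)) (.leaf (nat_lit 0x200703e2e1))))) (.node 4 (.node 2 (.node 1 (.leaf (nat_lit 0x200303e2f1)) (.leaf (nat_lit 0x200403e301))) (.node 1 (.leaf (nat_lit 0x200703e311)) (.leaf (nat_lit 0x200303e321)))) (.node 2 (.node 1 (.leaf (nat_lit 0x200203e331)) (.leaf (nat_lit 0x200503e341))) (.node 1 (.leaf (nat_lit 0x200503e361)) (.leaf (nat_lit 0x220703e371))))))))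

noncomputable def oT141 : Tree :=
  .node 64 (.node 32 (.node 16 (.node 8 (.node 4 (.node 2 (.node 1 (.leaf (nat_lit 0x220404e041)) (.leaf (nat_lit 0x200803e3a1))) (.node 1 (.leaf (nat_lit 0x200703e3b1)) (.leaf (nat_lit 0x200803e3d1)))) (.node 2 (.node 1 (.leaf (nat_lit 0x200703e3e1)) (.leaf (nat_lit 0x200303e3f1))) (.node 1 (.leaf (nat_lit 0x220803e401)) (.leaf (nat_lit 0x200703e411))))) (.node 4 (.node 2 (.node 1 (.leaf (nat_lit 0x200303e421)) (.leaf (nat_lit 0x200403e431))) (.node 1 (.leaf (nat_lit 0x200503e441)) (.leaf (nat_lit 0x200803e471)))) (.node 2 (.node 1 (.leaf (nat_lit 0x200703e481)) (.leaf (nat_lit 0x200803e4a1))) (.node 1 (.leaf (nat_lit 0x200703e4b1)) (.leaf (nat_lit 0x200303e4c1)))))) (.node 8 (.node 4 (.node 2 (.node 1 (.leaf (nat_lit 0x200203e4d1)) (.leaf (nat_lit 0x200303e4f1))) (.node 1 (.leaf (nat_lit 0x200703e531)) (.leaf (nat_lit 0x200703e581)))) (.node 2 (.node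 1 (.leaf (nat_lit 0x200803e591)) (.leaf (nat_lit 0x200703e5a1))) (.node 1 (.leaf (nat_lit 0x200803e5b1)) (.leaf (nat_lit 0x200703e5c1))))) (.node 4 (.node 2 (.node 1 (.leaf (nat_lit 0x240803e5e1)) (.leaf (nat_lit 0x200703e611))) (.node 1 (.leaf (nat_lit 0x200703e631)) (.leaf (nat_lit 0x220703e651)))) (.node 2 (.node 1 (.leaf (nat_lit 0x200703e671)) (.leaf (nat_lit 0x200303e681))) (.node 1 (.leaf (nat_lit 0x160803e692)) (.leaf (nat_lit 0x160703e6a2))))))) (.node 16 (.node 8 (.node 4 (.node 2 (.node 1 (.leaf (nat_lit 0x160303e6b2)) (.leaf (nat_lit 0x210803e6c1))) (.node 1 (.leaf (nat_lit 0x210803e6f1)) (.leaf (nat_lit 0x210803e721)))) (.node 2 (.node 1 (.leaf (nat_lit 0x210703e731)) (.leaf (nat_lit 0x210203e751))) (.node 1 (.leaf (nat_lit 0x210303e761)) (.leaf (nat_lit 0x210803e781))))) (.node 4 (.node 2 (.node 1 (.leaf (nat_lit 0x210703e791)) (.leaf (nat_lit 0x210303e7a1))) (.node 1 (.leaf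 (nat_lit 0x2104041171)) (.leaf (nat_lit 0x210803e7c1)))) (.node 2 (.node 1 (.leaf (nat_lit 0x210703e7d1)) (.leaf (nat_lit 0x230803e7f1))) (.node 1 (.leaf (nat_lit 0x210703e801)) (.leaf (nat_lit 0x210203fe61)))))) (.node 8 (.node 4 (.node 2 (.node 1 (.leaf (nat_lit 0x210303e831)) (.leaf (nat_lit 0x210203e841))) (.node 1 (.leaf (nat_lit 0x210403e841)) (.leaf (nat_lit 0x210703e861)))) (.node 2 (.node 1 (.leaf (nat_lit 0x210803e891)) (.leaf (nat_lit 0x210703e8a1))) (.node 1 (.leaf (nat_lit 0x210803e8c1)) (.leaf (nat_lit 0x210703e8d1))))) (.node 4 (.node 2 (.node 1 (.leaf (nat_lit 0x210303e8e1)) (.leaf (nat_lit 0x210703e8f1))) (.node 1 (.leaf (nat_lit 0x210303e901)) (.leaf (nat_lit 0x210203e931)))) (.node 2 (.node 1 (.leaf (nat_lit 0x160403e952)) (.leaf (nat_lit 0x160803e952))) (.node 1 (.leaf (nat_lit 0x160403e982)) (.leaf (nat_lit 0x160803e982)))))))) (.node 32 (.node 16 (.node 8 (.node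 4 (.node 2 (.node 1 (.leaf (nat_lit 0x160403e9a2)) (.leaf (nat_lit 0x160803e9a2))) (.node 1 (.leaf (nat_lit 0x160803e9b2)) (.leaf (nat_lit 0x160703e9c2)))) (.node 2 (.node 1 (.leaf (nat_lit 0x160803e9e2)) (.leaf (nat_lit 0x160703ea02))) (.node 1 (.leaf (nat_lit 0x160803ea32)) (.leaf (nat_lit 0x160703ea62))))) (.node 4 (.node 2 (.node 1 (.leaf (nat_lit 0x160803ea72)) (.leaf (nat_lit 0x160703ea82))) (.node 1 (.leaf (nat_lit 0x160803eab2)) (.leaf (nat_lit 0x160803ead2)))) (.node 2 (.node 1 (.leaf (nat_lit 0x160703eae2)) (.leaf (nat_lit 0x160703eaf2))) (.node 1 (.leaf (nat_lit 0x160703eb02)) (.leaf (nat_lit 0x160603eb12)))))) (.node 8 (.node 4 (.node 2 (.node 1 (.leaf (nat_lit 0x160803eb12)) (.leaf (nat_lit 0x160703eb22))) (.node 1 (.leaf (nat_lit 0x160803eb42)) (.leaf (nat_lit 0x160703eb52)))) (.node 2 (.node 1 (.leaf (nat_lit 0x160303eb62)) (.leaf (nat_lit 0x210303ebb1))) (.node 1 (.leaf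 (nat_lit 0x210803ebb1)) (.leaf (nat_lit 0x210403ebc1))))) (.node 4 (.node 2 (.node 1 (.leaf (nat_lit 0x210803ebc1)) (.leaf (nat_lit 0x210103ebe1))) (.node 1 (.leaf (nat_lit 0x210403ebe1)) (.leaf (nat_lit 0x210803ebf1)))) (.node 2 (.node 1 (.leaf (nat_lit 0x210703ec01)) (.leaf (nat_lit 0x21060435b1))) (.node 1 (.leaf (nat_lit 0x210703f021)) (.leaf (nat_lit 0x210203ec31))))))) (.node 16 (.node 8 (.node 4 (.node 2 (.node 1 (.leaf (nat_lit 0x210403ec31)) (.leaf (nat_lit 0x210803ec31))) (.node 1 (.leaf (nat_lit 0x2101040c81)) (.leaf (nat_lit 0x210303ec61)))) (.node 2 (.node 1 (.leaf (nat_lit 0x210103ec71)) (.leaf (nat_lit 0x210403ec71))) (.node 1 (.leaf (nat_lit 0x210803ec71)) (.leaf (nat_lit 0x210503ec81))))) (.node 4 (.node 2 (.node 1 (.leaf (nat_lit 0x210803ec81)) (.leaf (nat_lit 0x210703ec91))) (.node 1 (.leaf (nat_lit 0x210003eca1)) (.leaf (nat_lit 0x210403eca1)))) (.node 2 (.node 1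 (.leaf (nat_lit 0x210803eca1)) (.leaf (nat_lit 0x210803ecb1))) (.node 1 (.leaf (nat_lit 0x210703ecc1)) (.leaf (nat_lit 0x210703ecd1)))))) (.node 8 (.node 4 (.node 2 (.node 1 (.leaf (nat_lit 0x2101040d51)) (.leaf (nat_lit 0x210803ecf1))) (.node 1 (.leaf (nat_lit 0x210803ed11)) (.leaf (nat_lit 0x210703ed21)))) (.node 2 (.node 1 (.leaf (nat_lit 0x210303ed41)) (.leaf (nat_lit 0x210803ed61))) (.node 1 (.leaf (nat_lit 0x210003ed81)) (.leaf (nat_lit 0x210803ed81))))) (.node 4 (.node 2 (.node 1 (.leaf (nat_lit 0x210803eda1)) (.leaf (nat_lit 0x210703edb1))) (.node 1 (.leaf (nat_lit 0x210803edd1)) (.leaf (nat_lit 0x210703edf1)))) (.node 2 (.node 1 (.leaf (nat_lit 0x210303ee31)) (.leaf (nat_lit 0x210803ee31))) (.node 1 (.leaf (nat_lit 0x210803ee41)) (.leaf (nat_lit 0x210803ee61))))))))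

noncomputable def oT142 : Tree :=
  .node 64 (.node 32 (.node 16 (.node 8 (.node 4 (.node 2 (.node 1 (.leaf (nat_lit 0x210703ee71)) (.leaf (nat_lit 0x210703ee81))) (.node 1 (.leaf (nat_lit 0x210403eeb1)) (.leaf (nat_lit 0x210803eeb1)))) (.node 2 (.node 1 (.leaf (nat_lit 0x210703eed1)) (.leaf (nat_lit 0x210603eee1))) (.node 1 (.leaf (nat_lit 0x210803eee1)) (.leaf (nat_lit 0x210703eef1))))) (.node 4 (.node 2 (.node 1 (.leaf (nat_lit 0x210803ef11)) (.leaf (nat_lit 0x210303ef31))) (.node 1 (.leaf (nat_lit 0x210803ef41)) (.leaf (nat_lit 0x210703ef51)))) (.node 2 (.node 1 (.leaf (nat_lit 0x21020433c1)) (.leaf (nat_lit 0x2107046451))) (.node 1 (.leaf (nat_lit 0x210403ef81)) (.leaf (nat_lit 0x210803ef81)))))) (.node 8 (.node 4 (.node 2 (.node 1 (.leaf (nat_lit 0x210803efa1)) (.leaf (nat_lit 0x210503efc1))) (.node 1 (.leaf (nat_lit 0x210803efc1)) (.leaf (nat_lit 0x210703efd1)))) (.node 2 (.node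 1 (.leaf (nat_lit 0x210603efe1)) (.leaf (nat_lit 0x210803efe1))) (.node 1 (.leaf (nat_lit 0x210703eff1)) (.leaf (nat_lit 0x210403f011))))) (.node 4 (.node 2 (.node 1 (.leaf (nat_lit 0x210803f011)) (.leaf (nat_lit 0x210403f031))) (.node 1 (.leaf (nat_lit 0x210803f031)) (.leaf (nat_lit 0x210503f041)))) (.node 2 (.node 1 (.leaf (nat_lit 0x210803f041)) (.leaf (nat_lit 0x210703f051))) (.node 1 (.leaf (nat_lit 0x210703f061)) (.leaf (nat_lit 0x210703f071))))))) (.node 16 (.node 8 (.node 4 (.node 2 (.node 1 (.leaf (nat_lit 0x210603f081)) (.leaf (nat_lit 0x210803f081))) (.node 1 (.leaf (nat_lit 0x210703f091)) (.leaf (nat_lit 0x210703f0b1)))) (.node 2 (.node 1 (.leaf (nat_lit 0x210603f0c1)) (.leaf (nat_lit 0x210803f0c1))) (.node 1 (.leaf (nat_lit 0x210703f0d1)) (.leaf (nat_lit 0x2100040f11))))) (.node 4 (.node 2 (.node 1 (.leaf (nat_lit 0x210803f0f1)) (.leaf (nat_lit 0x210703f101))) (.node 1 (.leaf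 (nat_lit 0x210303f111)) (.leaf (nat_lit 0x21000410a1)))) (.node 2 (.node 1 (.leaf (nat_lit 0x210803f121)) (.leaf (nat_lit 0x210703f131))) (.node 1 (.leaf (nat_lit 0x210303f141)) (.leaf (nat_lit 0x210803f151)))))) (.node 8 (.node 4 (.node 2 (.node 1 (.leaf (nat_lit 0x210703f161)) (.leaf (nat_lit 0x210303f171))) (.node 1 (.leaf (nat_lit 0x210203f181)) (.leaf (nat_lit 0x2301041f01)))) (.node 2 (.node 1 (.leaf (nat_lit 0x210303f1d1)) (.leaf (nat_lit 0x210803f1d1))) (.node 1 (.leaf (nat_lit 0x2301041f31)) (.leaf (nat_lit 0x2301041f41))))) (.node 4 (.node 2 (.node 1 (.leaf (nat_lit 0x230703fa41)) (.leaf (nat_lit 0x210203f201))) (.node 1 (.leaf (nat_lit 0x210403f201)) (.leaf (nat_lit 0x210803f201)))) (.node 2 (.node 1 (.leaf (nat_lit 0x2101043d01)) (.leaf (nat_lit 0x2101041f81))) (.node 1 (.leaf (nat_lit 0x230303f231)) (.leaf (nat_lit 0x210803f241)))))))) (.node 32 (.node 16 (.node 8 (.node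 4 (.node 2 (.node 1 (.leaf (nat_lit 0x210503f251)) (.leaf (nat_lit 0x210803f251))) (.node 1 (.leaf (nat_lit 0x210703f261)) (.leaf (nat_lit 0x210703f271)))) (.node 2 (.node 1 (.leaf (nat_lit 0x210703f281)) (.leaf (nat_lit 0x2301041fe1))) (.node 1 (.leaf (nat_lit 0x230703fb81)) (.leaf (nat_lit 0x21010457b1))))) (.node 4 (.node 2 (.node 1 (.leaf (nat_lit 0x230604ea21)) (.leaf (nat_lit 0x230303f2c1))) (.node 1 (.leaf (nat_lit 0x210103f2d1)) (.leaf (nat_lit 0x210403f2d1)))) (.node 2 (.node 1 (.leaf (nat_lit 0x210803f2d1)) (.leaf (nat_lit 0x210503f2e1))) (.node 1 (.leaf (nat_lit 0x210803f2e1)) (.leaf (nat_lit 0x210703f2f1)))))) (.node 8 (.node 4 (.node 2 (.node 1 (.leaf (nat_lit 0x2101043bf1)) (.leaf (nat_lit 0x210803f301))) (.node 1 (.leaf (nat_lit 0x21010420a1)) (.leaf (nat_lit 0x210803f311)))) (.node 2 (.node 1 (.leaf (nat_lit 0x230303fc61)) (.leaf (nat_lit 0x210803f331))) (.node 1 (.leaf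 (nat_lit 0x210503f341)) (.leaf (nat_lit 0x210803f341))))) (.node 4 (.node 2 (.node 1 (.leaf (nat_lit 0x210703f351)) (.leaf (nat_lit 0x210803f361))) (.node 1 (.leaf (nat_lit 0x210703f371)) (.leaf (nat_lit 0x210703f391)))) (.node 2 (.node 1 (.leaf (nat_lit 0x210703f3a1)) (.leaf (nat_lit 0x210303f3b1))) (.node 1 (.leaf (nat_lit 0x210303f3c1)) (.leaf (nat_lit 0x21010421a1))))))) (.node 16 (.node 8 (.node 4 (.node 2 (.node 1 (.leaf (nat_lit 0x210803f3d1)) (.leaf (nat_lit 0x210403f3f1))) (.node 1 (.leaf (nat_lit 0x210703f401)) (.leaf (nat_lit 0x210303f411)))) (.node 2 (.node 1 (.leaf (nat_lit 0x210203f421)) (.leaf (nat_lit 0x210803f441))) (.node 1 (.leaf (nat_lit 0x210303fe91)) (.leaf (nat_lit 0x210403f461))))) (.node 4 (.node 2 (.node 1 (.leaf (nat_lit 0x210803f461)) (.leaf (nat_lit 0x210303f471))) (.node 1 (.leaf (nat_lit 0x210803f471)) (.leaf (nat_lit 0x210703f481)))) (.node 2 (.node 1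 (.leaf (nat_lit 0x210703f491)) (.leaf (nat_lit 0x210203f4c1))) (.node 1 (.leaf (nat_lit 0x210703f4d1)) (.leaf (nat_lit 0x210303f4e1)))))) (.node 8 (.node 4 (.node 2 (.node 1 (.leaf (nat_lit 0x210703f4f1)) (.leaf (nat_lit 0x210303f501))) (.node 1 (.leaf (nat_lit 0x210403f511)) (.leaf (nat_lit 0x21030411c1)))) (.node 2 (.node 1 (.leaf (nat_lit 0x210803f541)) (.leaf (nat_lit 0x210703f551))) (.node 1 (.leaf (nat_lit 0x210703f561)) (.leaf (nat_lit 0x210303f571))))) (.node 4 (.node 2 (.node 1 (.leaf (nat_lit 0x2107040a81)) (.leaf (nat_lit 0x210303f5a1))) (.node 1 (.leaf (nat_lit 0x210403f5b1)) (.leaf (nat_lit 0x2102043031)))) (.node 2 (.node 1 (.leaf (nat_lit 0x210303f601)) (.leaf (nat_lit 0x210803f601))) (.node 1 (.leaf (nat_lit 0x210703f691)) (.leaf (nat_lit 0x210803f611))))))))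

noncomputable def oT143 : Tree :=
  .node 64 (.node 32 (.node 16 (.node 8 (.node 4 (.node 2 (.node 1 (.leaf (nat_lit 0x210803f621)) (.leaf (nat_lit 0x210703f641))) (.node 1 (.leaf (nat_lit 0x210603f661)) (.leaf (nat_lit 0x210503f691)))) (.node 2 (.node 1 (.leaf (nat_lit 0x210803f661)) (.leaf (nat_lit 0x210203f671))) (.node 1 (.leaf (nat_lit 0x210403f671)) (.leaf (nat_lit 0x210803f671))))) (.node 4 (.node 2 (.node 1 (.leaf (nat_lit 0x210203f691)) (.leaf (nat_lit 0x210803f691))) (.node 1 (.leaf (nat_lit 0x210803f6b1)) (.leaf (nat_lit 0x210503f6c1)))) (.node 2 (.node 1 (.leaf (nat_lit 0x210803f6c1)) (.leaf (nat_lit 0x210703f6d1))) (.node 1 (.leaf (nat_lit 0x210703f6e1)) (.leaf (nat_lit 0x210703f6f1)))))) (.node 8 (.node 4 (.node 2 (.node 1 (.leaf (nat_lit 0x210803f711)) (.leaf (nat_lit 0x210703f721))) (.node 1 (.leaf (nat_lit 0x210303f751)) (.leaf (nat_lit 0x210303f761)))) (.node 2 (.node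 1 (.leaf (nat_lit 0x210803f761)) (.leaf (nat_lit 0x210703f831))) (.node 1 (.leaf (nat_lit 0x230803f771)) (.leaf (nat_lit 0x210203f781))))) (.node 4 (.node 2 (.node 1 (.leaf (nat_lit 0x210403f781)) (.leaf (nat_lit 0x210803f781))) (.node 1 (.leaf (nat_lit 0x210803f7a1)) (.leaf (nat_lit 0x210803f7c1)))) (.node 2 (.node 1 (.leaf (nat_lit 0x210503f7d1)) (.leaf (nat_lit 0x210803f7d1))) (.node 1 (.leaf (nat_lit 0x210703f7e1)) (.leaf (nat_lit 0x210703f7f1))))))) (.node 16 (.node 8 (.node 4 (.node 2 (.node 1 (.leaf (nat_lit 0x210703f801)) (.leaf (nat_lit 0x210603f831))) (.node 1 (.leaf (nat_lit 0x210803f821)) (.leaf (nat_lit 0x2105044fa1)))) (.node 2 (.node 1 (.leaf (nat_lit 0x210803f831)) (.leaf (nat_lit 0x210403f851))) (.node 1 (.leaf (nat_lit 0x210803f851)) (.leaf (nat_lit 0x210503f861))))) (.node 4 (.node 2 (.node 1 (.leaf (nat_lit 0x210803f861)) (.leaf (nat_lit 0x210703f871))) (.node 1 (.leaf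 (nat_lit 0x210703f881)) (.leaf (nat_lit 0x210703f891)))) (.node 2 (.node 1 (.leaf (nat_lit 0x210603f8a1)) (.leaf (nat_lit 0x210803f8a1))) (.node 1 (.leaf (nat_lit 0x210703f8b1)) (.leaf (nat_lit 0x210303f8d1)))))) (.node 8 (.node 4 (.node 2 (.node 1 (.leaf (nat_lit 0x2101041e41)) (.leaf (nat_lit 0x210803f8e1))) (.node 1 (.leaf (nat_lit 0x210703f8f1)) (.leaf (nat_lit 0x210303f901)))) (.node 2 (.node 1 (.leaf (nat_lit 0x21040410a1)) (.leaf (nat_lit 0x210803f911))) (.node 1 (.leaf (nat_lit 0x210703f921)) (.leaf (nat_lit 0x210303f931))))) (.node 4 (.node 2 (.node 1 (.leaf (nat_lit 0x210803f941)) (.leaf (nat_lit 0x210703f951))) (.node 1 (.leaf (nat_lit 0x210303f961)) (.leaf (nat_lit 0x2103042251)))) (.node 2 (.node 1 (.leaf (nat_lit 0x210703f9b1)) (.leaf (nat_lit 0x210303f9d1))) (.node 1 (.leaf (nat_lit 0x2301042791)) (.leaf (nat_lit 0x230803f9f1)))))))) (.node 32 (.node 16 (.node 8 (.node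 4 (.node 2 (.node 1 (.leaf (nat_lit 0x210203fa01)) (.leaf (nat_lit 0x210403fa01))) (.node 1 (.leaf (nat_lit 0x210803fa01)) (.leaf (nat_lit 0x230703fb71)))) (.node 2 (.node 1 (.leaf (nat_lit 0x230803fa21)) (.leaf (nat_lit 0x210703fb91))) (.node 1 (.leaf (nat_lit 0x230703fba1)) (.leaf (nat_lit 0x230803fa31))))) (.node 4 (.node 2 (.node 1 (.leaf (nat_lit 0x210103fa51)) (.leaf (nat_lit 0x210403fa51))) (.node 1 (.leaf (nat_lit 0x210803fa51)) (.leaf (nat_lit 0x210503fa61)))) (.node 2 (.node 1 (.leaf (nat_lit 0x210803fa61)) (.leaf (nat_lit 0x210703fa71))) (.node 1 (.leaf (nat_lit 0x210703fc21)) (.leaf (nat_lit 0x210803fa81)))))) (.node 8 (.node 4 (.node 2 (.node 1 (.leaf (nat_lit 0x210703fc41)) (.leaf (nat_lit 0x210803fa91))) (.node 1 (.leaf (nat_lit 0x230703faa1)) (.leaf (nat_lit 0x210803fab1)))) (.node 2 (.node 1 (.leaf (nat_lit 0x210503fac1)) (.leaf (nat_lit 0x210803fac1))) (.node 1 (.leaf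 (nat_lit 0x210703fad1)) (.leaf (nat_lit 0x210603fae1))))) (.node 4 (.node 2 (.node 1 (.leaf (nat_lit 0x210803fae1)) (.leaf (nat_lit 0x210703faf1))) (.node 1 (.leaf (nat_lit 0x210703fb11)) (.leaf (nat_lit 0x210703fb21)))) (.node 2 (.node 1 (.leaf (nat_lit 0x210303fb31)) (.leaf (nat_lit 0x2102045921))) (.node 1 (.leaf (nat_lit 0x210803fb41)) (.leaf (nat_lit 0x210703fb51))))))) (.node 16 (.node 8 (.node 4 (.node 2 (.node 1 (.leaf (nat_lit 0x210303fb61)) (.leaf (nat_lit 0x230304e421))) (.node 1 (.leaf (nat_lit 0x230803fb71)) (.leaf (nat_lit 0x210303fe71)))) (.node 2 (.node 1 (.leaf (nat_lit 0x2103043951)) (.leaf (nat_lit 0x210803fb91))) (.node 1 (.leaf (nat_lit 0x2103044d31)) (.leaf (nat_lit 0x230803fba1))))) (.node 4 (.node 2 (.node 1 (.leaf (nat_lit 0x230703fbb1)) (.leaf (nat_lit 0x210003fbc1))) (.node 1 (.leaf (nat_lit 0x210403fbc1)) (.leaf (nat_lit 0x210803fbc1)))) (.node 2 (.node 1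 (.leaf (nat_lit 0x210303fbd1)) (.leaf (nat_lit 0x210503fbd1))) (.node 1 (.leaf (nat_lit 0x210803fbd1)) (.leaf (nat_lit 0x210703fbe1)))))) (.node 8 (.node 4 (.node 2 (.node 1 (.leaf (nat_lit 0x210603fbf1)) (.leaf (nat_lit 0x210803fbf1))) (.node 1 (.leaf (nat_lit 0x210703fc01)) (.leaf (nat_lit 0x210303ff11)))) (.node 2 (.node 1 (.leaf (nat_lit 0x210803fc21)) (.leaf (nat_lit 0x210703fc31))) (.node 1 (.leaf (nat_lit 0x210303fdb1)) (.leaf (nat_lit 0x210803fc41))))) (.node 4 (.node 2 (.node 1 (.leaf (nat_lit 0x210703fc51)) (.leaf (nat_lit 0x210803fc71))) (.node 1 (.leaf (nat_lit 0x210503fc81)) (.leaf (nat_lit 0x210803fc81)))) (.node 2 (.node 1 (.leaf (nat_lit 0x210703fc91)) (.leaf (nat_lit 0x210603fca1))) (.node 1 (.leaf (nat_lit 0x210803fca1)) (.leaf (nat_lit 0x210703fcb1))))))))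

noncomputable def oT144 : Tree :=
  .node 64 (.node 32 (.node 16 (.node 8 (.node 4 (.node 2 (.node 1 (.leaf (nat_lit 0x210303fcc1)) (.leaf (nat_lit 0x230303fde1))) (.node 1 (.leaf (nat_lit 0x210803fcd1)) (.leaf (nat_lit 0x210703fce1)))) (.node 2 (.node 1 (.leaf (nat_lit 0x210303fcf1)) (.leaf (nat_lit 0x210703fd01))) (.node 1 (.leaf (nat_lit 0x210703fd11)) (.leaf (nat_lit 0x210303fd21))))) (.node 4 (.node 2 (.node 1 (.leaf (nat_lit 0x2103043281)) (.leaf (nat_lit 0x210803fd31))) (.node 1 (.leaf (nat_lit 0x210703fd41)) (.leaf (nat_lit 0x210403fd61)))) (.node 2 (.node 1 (.leaf (nat_lit 0x2304044481)) (.leaf (nat_lit 0x210703fd81))) (.node 1 (.leaf (nat_lit 0x210303fd91)) (.leaf (nat_lit 0x210203fda1)))))) (.node 8 (.node 4 (.node 2 (.node 1 (.leaf (nat_lit 0x21040415c1)) (.leaf (nat_lit 0x210803fdb1))) (.node 1 (.leaf (nat_lit 0x210703fdc1)) (.leaf (nat_lit 0x210303fdd1)))) (.node 2 (.node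 1 (.leaf (nat_lit 0x230803fde1)) (.leaf (nat_lit 0x210703fdf1))) (.node 1 (.leaf (nat_lit 0x210303fe01)) (.leaf (nat_lit 0x210203fe11))))) (.node 4 (.node 2 (.node 1 (.leaf (nat_lit 0x210403fe61)) (.leaf (nat_lit 0x210303fe31))) (.node 1 (.leaf (nat_lit 0x210203fe41)) (.leaf (nat_lit 0x210103fe51)))) (.node 2 (.node 1 (.leaf (nat_lit 0x2104043a21)) (.leaf (nat_lit 0x210803fe71))) (.node 1 (.leaf (nat_lit 0x210703fe81)) (.leaf (nat_lit 0x210403fea1))))))) (.node 16 (.node 8 (.node 4 (.node 2 (.node 1 (.leaf (nat_lit 0x210803fea1)) (.leaf (nat_lit 0x210303feb1))) (.node 1 (.leaf (nat_lit 0x210803feb1)) (.leaf (nat_lit 0x210703fec1)))) (.node 2 (.node 1 (.leaf (nat_lit 0x210703fed1)) (.leaf (nat_lit 0x210803fed1))) (.node 1 (.leaf (nat_lit 0x210703fee1)) (.leaf (nat_lit 0x210303fef1))))) (.node 4 (.node 2 (.node 1 (.leaf (nat_lit 0x210803ff11)) (.leaf (nat_lit 0x210703ff21))) (.node 1 (.leaf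 (nat_lit 0x210303ff31)) (.leaf (nat_lit 0x210703ff41)))) (.node 2 (.node 1 (.leaf (nat_lit 0x210303ff51)) (.leaf (nat_lit 0x210403ff61))) (.node 1 (.leaf (nat_lit 0x210403ff81)) (.leaf (nat_lit 0x210503ff91)))))) (.node 8 (.node 4 (.node 2 (.node 1 (.leaf (nat_lit 0x210803ffa1)) (.leaf (nat_lit 0x210703ffb1))) (.node 1 (.leaf (nat_lit 0x21070411a1)) (.leaf (nat_lit 0x210803ffd1)))) (.node 2 (.node 1 (.leaf (nat_lit 0x210703ffe1)) (.leaf (nat_lit 0x210703fff1))) (.node 1 (.leaf (nat_lit 0x2103040001)) (.leaf (nat_lit 0x2307040031))))) (.node 4 (.node 2 (.node 1 (.leaf (nat_lit 0x2307043021)) (.leaf (nat_lit 0x2107040a71))) (.node 1 (.leaf (nat_lit 0x1607040092)) (.leaf (nat_lit 0x16070400b2)))) (.node 2 (.node 1 (.leaf (nat_lit 0x16070400c2)) (.leaf (nat_lit 0x16030400e2))) (.node 1 (.leaf (nat_lit 0x16070400f2)) (.leaf (nat_lit 0x1607040132)))))))) (.node 32 (.node 16 (.node 8 (.node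 4 (.node 2 (.node 1 (.leaf (nat_lit 0x2104040191)) (.leaf (nat_lit 0x1603040162))) (.node 1 (.leaf (nat_lit 0x1608040162)) (.leaf (nat_lit 0x1608040172)))) (.node 2 (.node 1 (.leaf (nat_lit 0x16030401c2)) (.leaf (nat_lit 0x16080401c2))) (.node 1 (.leaf (nat_lit 0x16020401d2)) (.leaf (nat_lit 0x16040401d2))))) (.node 4 (.node 2 (.node 1 (.leaf (nat_lit 0x16080401d2)) (.leaf (nat_lit 0x2105040211))) (.node 1 (.leaf (nat_lit 0x1603040202)) (.leaf (nat_lit 0x1608040202)))) (.node 2 (.node 1 (.leaf (nat_lit 0x2108040211)) (.leaf (nat_lit 0x1608040222))) (.node 1 (.leaf (nat_lit 0x1608040242)) (.leaf (nat_lit 0x1608040252)))))) (.node 8 (.node 4 (.node 2 (.node 1 (.leaf (nat_lit 0x1607040262)) (.leaf (nat_lit 0x1607040282))) (.node 1 (.leaf (nat_lit 0x16070402e2)) (.leaf (nat_lit 0x1608040302)))) (.node 2 (.node 1 (.leaf (nat_lit 0x1601040322)) (.leaf (nat_lit 0x1608040322))) (.node 1 (.leaf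 (nat_lit 0x1605040332)) (.leaf (nat_lit 0x1608040332))))) (.node 4 (.node 2 (.node 1 (.leaf (nat_lit 0x1607040342)) (.leaf (nat_lit 0x1608040362))) (.node 1 (.leaf (nat_lit 0x2108040381)) (.leaf (nat_lit 0x16070403a2)))) (.node 2 (.node 1 (.leaf (nat_lit 0x16080403b2)) (.leaf (nat_lit 0x16070403c2))) (.node 1 (.leaf (nat_lit 0x16080403d2)) (.leaf (nat_lit 0x16070403e2))))))) (.node 16 (.node 8 (.node 4 (.node 2 (.node 1 (.leaf (nat_lit 0x1607040422)) (.leaf (nat_lit 0x1603040432))) (.node 1 (.leaf (nat_lit 0x1607040472)) (.leaf (nat_lit 0x1603040482)))) (.node 2 (.node 1 (.leaf (nat_lit 0x1607040492)) (.leaf (nat_lit 0x16080404b2))) (.node 1 (.leaf (nat_lit 0x16080404d2)) (.leaf (nat_lit 0x16010404f2))))) (.node 4 (.node 2 (.node 1 (.leaf (nat_lit 0x16080404f2)) (.leaf (nat_lit 0x1607040502))) (.node 1 (.leaf (nat_lit 0x2105040f71)) (.leaf (nat_lit 0x2107046461)))) (.node 2 (.node 1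 (.leaf (nat_lit 0x1602040522)) (.leaf (nat_lit 0x1608040522))) (.node 1 (.leaf (nat_lit 0x1601040542)) (.leaf (nat_lit 0x1604040542)))))) (.node 8 (.node 4 (.node 2 (.node 1 (.leaf (nat_lit 0x1608040542)) (.leaf (nat_lit 0x1608040552))) (.node 1 (.leaf (nat_lit 0x1607040562)) (.leaf (nat_lit 0x1608040582)))) (.node 2 (.node 1 (.leaf (nat_lit 0x21080405a1)) (.leaf (nat_lit 0x16080405c2))) (.node 1 (.leaf (nat_lit 0x16050405d2)) (.leaf (nat_lit 0x16080405d2))))) (.node 4 (.node 2 (.node 1 (.leaf (nat_lit 0x16070405e2)) (.leaf (nat_lit 0x16080405f2))) (.node 1 (.leaf (nat_lit 0x1608040602)) (.leaf (nat_lit 0x1607040612)))) (.node 2 (.node 1 (.leaf (nat_lit 0x1607040622)) (.leaf (nat_lit 0x1608040642))) (.node 1 (.leaf (nat_lit 0x1607040652)) (.leaf (nat_lit 0x1603040672))))))))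

noncomputable def oT145 : Tree :=
  .node 64 (.node 32 (.node 16 (.node 8 (.node 4 (.node 2 (.node 1 (.leaf (nat_lit 0x1608040682)) (.leaf (nat_lit 0x1607040692))) (.node 1 (.leaf (nat_lit 0x16070406b2)) (.leaf (nat_lit 0x16030406c2)))) (.node 2 (.node 1 (.leaf (nat_lit 0x16080406e2)) (.leaf (nat_lit 0x2108040701))) (.node 1 (.leaf (nat_lit 0x1608040722)) (.leaf (nat_lit 0x1608040732))))) (.node 4 (.node 2 (.node 1 (.leaf (nat_lit 0x1607040742)) (.leaf (nat_lit 0x1608040752))) (.node 1 (.leaf (nat_lit 0x1608040762)) (.leaf (nat_lit 0x1607040772)))) (.node 2 (.node 1 (.leaf (nat_lit 0x1608040782)) (.leaf (nat_lit 0x1607040792))) (.node 1 (.leaf (nat_lit 0x16080407b2)) (.leaf (nat_lit 0x16070407c2)))))) (.node 8 (.node 4 (.node 2 (.node 1 (.leaf (nat_lit 0x21070407d1)) (.leaf (nat_lit 0x16080407e2))) (.node 1 (.leaf (nat_lit 0x16070407f2)) (.leaf (nat_lit 0x1607040802)))) (.node 2 (.node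 1 (.leaf (nat_lit 0x1608040822)) (.leaf (nat_lit 0x1608040832))) (.node 1 (.leaf (nat_lit 0x1607040842)) (.leaf (nat_lit 0x1608040852))))) (.node 4 (.node 2 (.node 1 (.leaf (nat_lit 0x1607040862)) (.leaf (nat_lit 0x1603040872))) (.node 1 (.leaf (nat_lit 0x1608040882)) (.leaf (nat_lit 0x1607040892)))) (.node 2 (.node 1 (.leaf (nat_lit 0x16030408a2)) (.leaf (nat_lit 0x16030408b2))) (.node 1 (.leaf (nat_lit 0x16030408e2)) (.leaf (nat_lit 0x16020408f2))))))) (.node 16 (.node 8 (.node 4 (.node 2 (.node 1 (.leaf (nat_lit 0x1603040902)) (.leaf (nat_lit 0x1607040912))) (.node 1 (.leaf (nat_lit 0x1603040922)) (.leaf (nat_lit 0x1604040932)))) (.node 2 (.node 1 (.leaf (nat_lit 0x2107040961)) (.leaf (nat_lit 0x2107040981))) (.node 1 (.leaf (nat_lit 0x21080409a1)) (.leaf (nat_lit 0x21070409b1))))) (.node 4 (.node 2 (.node 1 (.leaf (nat_lit 0x21070409d1)) (.leaf (nat_lit 0x2107040a11))) (.node 1 (.leaf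 (nat_lit 0x2107040a21)) (.leaf (nat_lit 0x2107040ac1)))) (.node 2 (.node 1 (.leaf (nat_lit 0x2108040b11)) (.leaf (nat_lit 0x2305040b51))) (.node 1 (.leaf (nat_lit 0x2103040b41)) (.leaf (nat_lit 0x2108040b41)))))) (.node 8 (.node 4 (.node 2 (.node 1 (.leaf (nat_lit 0x2104040f11)) (.leaf (nat_lit 0x21070412b1))) (.node 1 (.leaf (nat_lit 0x2108040b61)) (.leaf (nat_lit 0x2107040b81)))) (.node 2 (.node 1 (.leaf (nat_lit 0x2106041271)) (.leaf (nat_lit 0x2103040bb1))) (.node 1 (.leaf (nat_lit 0x2108040bb1)) (.leaf (nat_lit 0x2104040e11))))) (.node 4 (.node 2 (.node 1 (.leaf (nat_lit 0x2108040bc1)) (.leaf (nat_lit 0x2102040bd1))) (.node 1 (.leaf (nat_lit 0x2104040bd1)) (.leaf (nat_lit 0x2108040bd1)))) (.node 2 (.node 1 (.leaf (nat_lit 0x2108040bf1)) (.leaf (nat_lit 0x2108040c01))) (.node 1 (.leaf (nat_lit 0x2107040c11)) (.leaf (nat_lit 0x2306040c31)))))))) (.node 32 (.node 16 (.node 8 (.node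 4 (.node 2 (.node 1 (.leaf (nat_lit 0x2105040c61)) (.leaf (nat_lit 0x2308040c31))) (.node 1 (.leaf (nat_lit 0x2102040c41)) (.leaf (nat_lit 0x2104040c41)))) (.node 2 (.node 1 (.leaf (nat_lit 0x2108040c41)) (.leaf (nat_lit 0x2108040c61))) (.node 1 (.leaf (nat_lit 0x2108040c81)) (.leaf (nat_lit 0x2105040c91))))) (.node 4 (.node 2 (.node 1 (.leaf (nat_lit 0x2108040c91)) (.leaf (nat_lit 0x2107040ca1))) (.node 1 (.leaf (nat_lit 0x2108040cb1)) (.leaf (nat_lit 0x2107040cc1)))) (.node 2 (.node 1 (.leaf (nat_lit 0x2107040cd1)) (.leaf (nat_lit 0x2108040cf1))) (.node 1 (.leaf (nat_lit 0x2107040d01)) (.leaf (nat_lit 0x2103040d21)))))) (.node 8 (.node 4 (.node 2 (.node 1 (.leaf (nat_lit 0x23070415b1)) (.leaf (nat_lit 0x2108040d51))) (.node 1 (.leaf (nat_lit 0x2107040d61)) (.leaf (nat_lit 0x2107040d71)))) (.node 2 (.node 1 (.leaf (nat_lit 0x2103040da1)) (.leaf (nat_lit 0x2103040db1))) (.node 1 (.leaf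 (nat_lit 0x2108040db1)) (.leaf (nat_lit 0x2106045041))))) (.node 4 (.node 2 (.node 1 (.leaf (nat_lit 0x2108040dc1)) (.leaf (nat_lit 0x2102040dd1))) (.node 1 (.leaf (nat_lit 0x2104040dd1)) (.leaf (nat_lit 0x2108040dd1)))) (.node 2 (.node 1 (.leaf (nat_lit 0x2108040df1)) (.leaf (nat_lit 0x2101040e11))) (.node 1 (.leaf (nat_lit 0x2108040e11)) (.leaf (nat_lit 0x2105040e21))))))) (.node 16 (.node 8 (.node 4 (.node 2 (.node 1 (.leaf (nat_lit 0x2108040e21)) (.leaf (nat_lit 0x2107040e31))) (.node 1 (.leaf (nat_lit 0x2108040e41)) (.leaf (nat_lit 0x2108040e51)))) (.node 2 (.node 1 (.leaf (nat_lit 0x2107040e61)) (.leaf (nat_lit 0x2106040e71))) (.node 1 (.leaf (nat_lit 0x2108040e71)) (.leaf (nat_lit 0x2107040e81))))) (.node 4 (.node 2 (.node 1 (.leaf (nat_lit 0x2105043641)) (.leaf (nat_lit 0x2307041851))) (.node 1 (.leaf (nat_lit 0x230504ffa1)) (.leaf (nat_lit 0x2308040eb1)))) (.node 2 (.node 1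 (.leaf (nat_lit 0x2101040ed1)) (.leaf (nat_lit 0x2104040ed1))) (.node 1 (.leaf (nat_lit 0x2108040ed1)) (.leaf (nat_lit 0x2105040ee1)))))) (.node 8 (.node 4 (.node 2 (.node 1 (.leaf (nat_lit 0x2108040ee1)) (.leaf (nat_lit 0x2107040ef1))) (.node 1 (.leaf (nat_lit 0x2307040f01)) (.leaf (nat_lit 0x2108040f11)))) (.node 2 (.node 1 (.leaf (nat_lit 0x2107040f21)) (.leaf (nat_lit 0x2106040f31))) (.node 1 (.leaf (nat_lit 0x2108040f31)) (.leaf (nat_lit 0x2107040f41))))) (.node 4 (.node 2 (.node 1 (.leaf (nat_lit 0x2108040f61)) (.leaf (nat_lit 0x2108040f71))) (.node 1 (.leaf (nat_lit 0x2107040f81)) (.leaf (nat_lit 0x2106040f91)))) (.node 2 (.node 1 (.leaf (nat_lit 0x2108040f91)) (.leaf (nat_lit 0x2107040fa1))) (.node 1 (.leaf (nat_lit 0x2103040fb1)) (.leaf (nat_lit 0x2108040fc1))))))))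

noncomputable def oT146 : Tree :=
  .node 64 (.node 32 (.node 16 (.node 8 (.node 4 (.node 2 (.node 1 (.leaf (nat_lit 0x2107040fd1)) (.leaf (nat_lit 0x2103040fe1))) (.node 1 (.leaf (nat_lit 0x2108041001)) (.leaf (nat_lit 0x2107041011)))) (.node 2 (.node 1 (.leaf (nat_lit 0x2103041021)) (.leaf (nat_lit 0x2107041031))) (.node 1 (.leaf (nat_lit 0x2103041041)) (.leaf (nat_lit 0x2102041051))))) (.node 4 (.node 2 (.node 1 (.leaf (nat_lit 0x2108041081)) (.leaf (nat_lit 0x2103041b51))) (.node 1 (.leaf (nat_lit 0x21080410a1)) (.leaf (nat_lit 0x21030410b1)))) (.node 2 (.node 1 (.leaf (nat_lit 0x21080410b1)) (.leaf (nat_lit 0x21070410c1))) (.node 1 (.leaf (nat_lit 0x21070410d1)) (.leaf (nat_lit 0x2107041101)))))) (.node 8 (.node 4 (.node 2 (.node 1 (.leaf (nat_lit 0x2103041111)) (.leaf (nat_lit 0x2103041131))) (.node 1 (.leaf (nat_lit 0x2104041141)) (.leaf (nat_lit 0x2108041171)))) (.node 2 (.node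 1 (.leaf (nat_lit 0x2108041181)) (.leaf (nat_lit 0x2107041191))) (.node 1 (.leaf (nat_lit 0x21070411e1)) (.leaf (nat_lit 0x2103041221))))) (.node 4 (.node 2 (.node 1 (.leaf (nat_lit 0x2108041221)) (.leaf (nat_lit 0x230704e5b1))) (.node 1 (.leaf (nat_lit 0x2108041241)) (.leaf (nat_lit 0x2107041261)))) (.node 2 (.node 1 (.leaf (nat_lit 0x21050412a1)) (.leaf (nat_lit 0x2108041271))) (.node 1 (.leaf (nat_lit 0x2102041281)) (.leaf (nat_lit 0x2104041281))))))) (.node 16 (.node 8 (.node 4 (.node 2 (.node 1 (.leaf (nat_lit 0x2108041281)) (.leaf (nat_lit 0x21080412a1))) (.node 1 (.leaf (nat_lit 0x21010412c1)) (.leaf (nat_lit 0x21080412c1)))) (.node 2 (.node 1 (.leaf (nat_lit 0x21070412d1)) (.leaf (nat_lit 0x21080412e1))) (.node 1 (.leaf (nat_lit 0x21070412f1)) (.leaf (nat_lit 0x2303050551))))) (.node 4 (.node 2 (.node 1 (.leaf (nat_lit 0x2103041321)) (.leaf (nat_lit 0x2108041321))) (.node 1 (.leaf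 (nat_lit 0x230604fe41)) (.leaf (nat_lit 0x230704feb1)))) (.node 2 (.node 1 (.leaf (nat_lit 0x2102041341)) (.leaf (nat_lit 0x2104041341))) (.node 1 (.leaf (nat_lit 0x2108041341)) (.leaf (nat_lit 0x2104041491)))))) (.node 8 (.node 4 (.node 2 (.node 1 (.leaf (nat_lit 0x2308041361)) (.leaf (nat_lit 0x2101041381))) (.node 1 (.leaf (nat_lit 0x2104041381)) (.leaf (nat_lit 0x2108041381)))) (.node 2 (.node 1 (.leaf (nat_lit 0x2105041391)) (.leaf (nat_lit 0x2108041391))) (.node 1 (.leaf (nat_lit 0x21070413a1)) (.leaf (nat_lit 0x21080413b1))))) (.node 4 (.node 2 (.node 1 (.leaf (nat_lit 0x21080413c1)) (.leaf (nat_lit 0x21070413d1))) (.node 1 (.leaf (nat_lit 0x21070413e1)) (.leaf (nat_lit 0x2300041841)))) (.node 2 (.node 1 (.leaf (nat_lit 0x2308041401)) (.leaf (nat_lit 0x2100041861))) (.node 1 (.leaf (nat_lit 0x2304041411)) (.leaf (nat_lit 0x2308041411)))))))) (.node 32 (.node 16 (.node 8 (.node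 4 (.node 2 (.node 1 (.leaf (nat_lit 0x2101041431)) (.leaf (nat_lit 0x2104041431))) (.node 1 (.leaf (nat_lit 0x2108041431)) (.leaf (nat_lit 0x2105041441)))) (.node 2 (.node 1 (.leaf (nat_lit 0x2108041441)) (.leaf (nat_lit 0x2107041451))) (.node 1 (.leaf (nat_lit 0x2108041461)) (.leaf (nat_lit 0x2100041911))))) (.node 4 (.node 2 (.node 1 (.leaf (nat_lit 0x2108041471)) (.leaf (nat_lit 0x230304fff1))) (.node 1 (.leaf (nat_lit 0x2100041491)) (.leaf (nat_lit 0x2108041491)))) (.node 2 (.node 1 (.leaf (nat_lit 0x21050414a1)) (.leaf (nat_lit 0x21080414a1))) (.node 1 (.leaf (nat_lit 0x21070414b1)) (.leaf (nat_lit 0x21080414c1)))))) (.node 8 (.node 4 (.node 2 (.node 1 (.leaf (nat_lit 0x21070414d1)) (.leaf (nat_lit 0x21080414f1))) (.node 1 (.leaf (nat_lit 0x2108041501)) (.leaf (nat_lit 0x2107041511)))) (.node 2 (.node 1 (.leaf (nat_lit 0x2107041521)) (.leaf (nat_lit 0x2103041531))) (.node 1 (.leaf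 (nat_lit 0x2103041541)) (.leaf (nat_lit 0x21000415f1))))) (.node 4 (.node 2 (.node 1 (.leaf (nat_lit 0x2108041551)) (.leaf (nat_lit 0x2107041561))) (.node 1 (.leaf (nat_lit 0x2107041581)) (.leaf (nat_lit 0x2103041591)))) (.node 2 (.node 1 (.leaf (nat_lit 0x21020415a1)) (.leaf (nat_lit 0x21000449e1))) (.node 1 (.leaf (nat_lit 0x21080415c1)) (.leaf (nat_lit 0x21080415d1))))))) (.node 16 (.node 8 (.node 4 (.node 2 (.node 1 (.leaf (nat_lit 0x21070415e1)) (.leaf (nat_lit 0x21080415f1))) (.node 1 (.leaf (nat_lit 0x2107041601)) (.leaf (nat_lit 0x2107041611)))) (.node 2 (.node 1 (.leaf (nat_lit 0x2108041631)) (.leaf (nat_lit 0x2107041641))) (.node 1 (.leaf (nat_lit 0x2108041661)) (.leaf (nat_lit 0x2107041671))))) (.node 4 (.node 2 (.node 1 (.leaf (nat_lit 0x2103041681)) (.leaf (nat_lit 0x2107041691))) (.node 1 (.leaf (nat_lit 0x21030416a1)) (.leaf (nat_lit 0x21040416b1)))) (.node 2 (.node 1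 (.leaf (nat_lit 0x2307042791)) (.leaf (nat_lit 0x230704edb1))) (.node 1 (.leaf (nat_lit 0x21020416d1)) (.leaf (nat_lit 0x21040416d1)))))) (.node 8 (.node 4 (.node 2 (.node 1 (.leaf (nat_lit 0x21080416d1)) (.leaf (nat_lit 0x23010450b1))) (.node 1 (.leaf (nat_lit 0x2107046441)) (.leaf (nat_lit 0x2101044a61)))) (.node 2 (.node 1 (.leaf (nat_lit 0x2304041701)) (.leaf (nat_lit 0x2308041701))) (.node 1 (.leaf (nat_lit 0x2101041721)) (.leaf (nat_lit 0x2104041721))))) (.node 4 (.node 2 (.node 1 (.leaf (nat_lit 0x2108041721)) (.leaf (nat_lit 0x2105041731))) (.node 1 (.leaf (nat_lit 0x2108041731)) (.leaf (nat_lit 0x2107041741)))) (.node 2 (.node 1 (.leaf (nat_lit 0x2108041751)) (.leaf (nat_lit 0x2101044c81))) (.node 1 (.leaf (nat_lit 0x2108041761)) (.leaf (nat_lit 0x2307041771))))))))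

noncomputable def oT147 : Tree :=
  .node 64 (.node 32 (.node 16 (.node 8 (.node 4 (.node 2 (.node 1 (.leaf (nat_lit 0x2108041781)) (.leaf (nat_lit 0x2105041791))) (.node 1 (.leaf (nat_lit 0x2108041791)) (.leaf (nat_lit 0x21070417a1)))) (.node 2 (.node 1 (.leaf (nat_lit 0x21060417b1)) (.leaf (nat_lit 0x21080417b1))) (.node 1 (.leaf (nat_lit 0x21070417c1)) (.leaf (nat_lit 0x21070417e1))))) (.node 4 (.node 2 (.node 1 (.leaf (nat_lit 0x21070417f1)) (.leaf (nat_lit 0x2103041801))) (.node 1 (.leaf (nat_lit 0x2108041811)) (.leaf (nat_lit 0x2107041821)))) (.node 2 (.node 1 (.leaf (nat_lit 0x2103041831)) (.leaf (nat_lit 0x2304041841))) (.node 1 (.leaf (nat_lit 0x2308041841)) (.leaf (nat_lit 0x2104041861)))))) (.node 8 (.node 4 (.node 2 (.node 1 (.leaf (nat_lit 0x2108041861)) (.leaf (nat_lit 0x2104041911))) (.node 1 (.leaf (nat_lit 0x2308041871)) (.leaf (nat_lit 0x2307041881)))) (.node 2 (.node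 1 (.leaf (nat_lit 0x2100041891)) (.leaf (nat_lit 0x2104041891))) (.node 1 (.leaf (nat_lit 0x2108041891)) (.leaf (nat_lit 0x21030418a1))))) (.node 4 (.node 2 (.node 1 (.leaf (nat_lit 0x21050418a1)) (.leaf (nat_lit 0x21080418a1))) (.node 1 (.leaf (nat_lit 0x21070418b1)) (.leaf (nat_lit 0x21060418c1)))) (.node 2 (.node 1 (.leaf (nat_lit 0x21080418c1)) (.leaf (nat_lit 0x21070418d1))) (.node 1 (.leaf (nat_lit 0x21050418f1)) (.leaf (nat_lit 0x21080418f1))))))) (.node 16 (.node 8 (.node 4 (.node 2 (.node 1 (.leaf (nat_lit 0x2107041901)) (.leaf (nat_lit 0x2108041911))) (.node 1 (.leaf (nat_lit 0x2107041921)) (.leaf (nat_lit 0x2108041941)))) (.node 2 (.node 1 (.leaf (nat_lit 0x2105041951)) (.leaf (nat_lit 0x2108041951))) (.node 1 (.leaf (nat_lit 0x2107041961)) (.leaf (nat_lit 0x2106041971))))) (.node 4 (.node 2 (.node 1 (.leaf (nat_lit 0x2108041971)) (.leaf (nat_lit 0x2107041981))) (.node 1 (.leaf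 (nat_lit 0x2103041991)) (.leaf (nat_lit 0x2305041a41)))) (.node 2 (.node 1 (.leaf (nat_lit 0x21080419a1)) (.leaf (nat_lit 0x21070419b1))) (.node 1 (.leaf (nat_lit 0x21030419c1)) (.leaf (nat_lit 0x21070419d1)))))) (.node 8 (.node 4 (.node 2 (.node 1 (.leaf (nat_lit 0x21070419e1)) (.leaf (nat_lit 0x21030419f1))) (.node 1 (.leaf (nat_lit 0x2108041a01)) (.leaf (nat_lit 0x2107041a11)))) (.node 2 (.node 1 (.leaf (nat_lit 0x2103041a21)) (.leaf (nat_lit 0x2104041a31))) (.node 1 (.leaf (nat_lit 0x2104045171)) (.leaf (nat_lit 0x2107041a51))))) (.node 4 (.node 2 (.node 1 (.leaf (nat_lit 0x2103041a61)) (.leaf (nat_lit 0x2102041a71))) (.node 1 (.leaf (nat_lit 0x2107041a81)) (.leaf (nat_lit 0x2103041a91)))) (.node 2 (.node 1 (.leaf (nat_lit 0x2105041ae1)) (.leaf (nat_lit 0x2107041ab1))) (.node 1 (.leaf (nat_lit 0x2103041ac1)) (.leaf (nat_lit 0x2102041ad1)))))))) (.node 32 (.node 16 (.node 8 (.node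 4 (.node 2 (.node 1 (.leaf (nat_lit 0x2103041af1)) (.leaf (nat_lit 0x2102041b01))) (.node 1 (.leaf (nat_lit 0x2101041b11)) (.leaf (nat_lit 0x2103041b21)))) (.node 2 (.node 1 (.leaf (nat_lit 0x2108041b21)) (.leaf (nat_lit 0x2107041b31))) (.node 1 (.leaf (nat_lit 0x2107041b41)) (.leaf (nat_lit 0x2104041b61))))) (.node 4 (.node 2 (.node 1 (.leaf (nat_lit 0x2108041b61)) (.leaf (nat_lit 0x2103041b71))) (.node 1 (.leaf (nat_lit 0x2108041b71)) (.leaf (nat_lit 0x2107041b81)))) (.node 2 (.node 1 (.leaf (nat_lit 0x2107041b91)) (.leaf (nat_lit 0x2108041b91))) (.node 1 (.leaf (nat_lit 0x2107041ba1)) (.leaf (nat_lit 0x2103041bb1)))))) (.node 8 (.node 4 (.node 2 (.node 1 (.leaf (nat_lit 0x2103041bc1)) (.leaf (nat_lit 0x2103041bd1))) (.node 1 (.leaf (nat_lit 0x2107041be1)) (.leaf (nat_lit 0x2103041bf1)))) (.node 2 (.node 1 (.leaf (nat_lit 0x2104041c01)) (.leaf (nat_lit 0x2108041c51))) (.node 1 (.leaf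 (nat_lit 0x2107041c61)) (.leaf (nat_lit 0x2107041c71))))) (.node 4 (.node 2 (.node 1 (.leaf (nat_lit 0x2108041cf1)) (.leaf (nat_lit 0x2107041d01))) (.node 1 (.leaf (nat_lit 0x2107041d21)) (.leaf (nat_lit 0x2103041d41)))) (.node 2 (.node 1 (.leaf (nat_lit 0x2307045511)) (.leaf (nat_lit 0x2307042361))) (.node 1 (.leaf (nat_lit 0x2102041d71)) (.leaf (nat_lit 0x2104041d71))))))) (.node 16 (.node 8 (.node 4 (.node 2 (.node 1 (.leaf (nat_lit 0x2108041d71)) (.leaf (nat_lit 0x21010432a1))) (.node 1 (.leaf (nat_lit 0x2303041da1)) (.leaf (nat_lit 0x2108041db1)))) (.node 2 (.node 1 (.leaf (nat_lit 0x2107041dc1)) (.leaf (nat_lit 0x2107041dd1))) (.node 1 (.leaf (nat_lit 0x2302045431)) (.leaf (nat_lit 0x2302041ef1))))) (.node 4 (.node 2 (.node 1 (.leaf (nat_lit 0x2305050271)) (.leaf (nat_lit 0x2308041e01))) (.node 1 (.leaf (nat_lit 0x2105041e21)) (.leaf (nat_lit 0x2108041e21)))) (.node 2 (.node 1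 (.leaf (nat_lit 0x2107041e31)) (.leaf (nat_lit 0x2108041e41))) (.node 1 (.leaf (nat_lit 0x23030425c1)) (.leaf (nat_lit 0x2108041e61)))))) (.node 8 (.node 4 (.node 2 (.node 1 (.leaf (nat_lit 0x2107041e71)) (.leaf (nat_lit 0x2103041e91))) (.node 1 (.leaf (nat_lit 0x2107041ea1)) (.leaf (nat_lit 0x2107041ec1)))) (.node 2 (.node 1 (.leaf (nat_lit 0x2103041ed1)) (.leaf (nat_lit 0x2302051031))) (.node 1 (.leaf (nat_lit 0x2308041f01)) (.leaf (nat_lit 0x2102041f11))))) (.node 4 (.node 2 (.node 1 (.leaf (nat_lit 0x2104041f11)) (.leaf (nat_lit 0x2108041f11))) (.node 1 (.leaf (nat_lit 0x23020453a1)) (.leaf (nat_lit 0x23070427f1)))) (.node 2 (.node 1 (.leaf (nat_lit 0x2305051301)) (.leaf (nat_lit 0x2308041f41))) (.node 1 (.leaf (nat_lit 0x2105041f61)) (.leaf (nat_lit 0x2108041f61))))))))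

noncomputable def oT148 : Tree :=
  .node 64 (.node 32 (.node 16 (.node 8 (.node 4 (.node 2 (.node 1 (.leaf (nat_lit 0x2107041f71)) (.leaf (nat_lit 0x2102043b61))) (.node 1 (.leaf (nat_lit 0x2108041f81)) (.leaf (nat_lit 0x23030428e1)))) (.node 2 (.node 1 (.leaf (nat_lit 0x2108041fa1)) (.leaf (nat_lit 0x2107041fb1))) (.node 1 (.leaf (nat_lit 0x2103041fd1)) (.leaf (nat_lit 0x2103042261))))) (.node 4 (.node 2 (.node 1 (.leaf (nat_lit 0x2304041fe1)) (.leaf (nat_lit 0x2308041fe1))) (.node 1 (.leaf (nat_lit 0x2105045411)) (.leaf (nat_lit 0x2108042001)))) (.node 2 (.node 1 (.leaf (nat_lit 0x21040420a1)) (.leaf (nat_lit 0x2308042011))) (.node 1 (.leaf (nat_lit 0x2307042021)) (.leaf (nat_lit 0x2104042031)))))) (.node 8 (.node 4 (.node 2 (.node 1 (.leaf (nat_lit 0x2108042031)) (.leaf (nat_lit 0x2103042041))) (.node 1 (.leaf (nat_lit 0x2105042041)) (.leaf (nat_lit 0x2108042041)))) (.node 2 (.node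 1 (.leaf (nat_lit 0x2107042051)) (.leaf (nat_lit 0x2106042061))) (.node 1 (.leaf (nat_lit 0x2108042061)) (.leaf (nat_lit 0x2107042071))))) (.node 4 (.node 2 (.node 1 (.leaf (nat_lit 0x2107042091)) (.leaf (nat_lit 0x21080420a1))) (.node 1 (.leaf (nat_lit 0x21070420b1)) (.leaf (nat_lit 0x21070420d1)))) (.node 2 (.node 1 (.leaf (nat_lit 0x21080420e1)) (.leaf (nat_lit 0x21070420f1))) (.node 1 (.leaf (nat_lit 0x21030421d1)) (.leaf (nat_lit 0x2108042111))))))) (.node 16 (.node 8 (.node 4 (.node 2 (.node 1 (.leaf (nat_lit 0x2107042121)) (.leaf (nat_lit 0x2103042131))) (.node 1 (.leaf (nat_lit 0x2108042161)) (.leaf (nat_lit 0x2107042171)))) (.node 2 (.node 1 (.leaf (nat_lit 0x2103042181)) (.leaf (nat_lit 0x2102042191))) (.node 1 (.leaf (nat_lit 0x21080421a1)) (.leaf (nat_lit 0x21070421b1))))) (.node 4 (.node 2 (.node 1 (.leaf (nat_lit 0x21030421c1)) (.leaf (nat_lit 0x21080421d1))) (.node 1 (.leaf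 (nat_lit 0x21070421e1)) (.leaf (nat_lit 0x21030421f1)))) (.node 2 (.node 1 (.leaf (nat_lit 0x2102042201)) (.leaf (nat_lit 0x2107042211))) (.node 1 (.leaf (nat_lit 0x2103042221)) (.leaf (nat_lit 0x2108042261)))))) (.node 8 (.node 4 (.node 2 (.node 1 (.leaf (nat_lit 0x21080422b1)) (.leaf (nat_lit 0x21020451f1))) (.node 1 (.leaf (nat_lit 0x21080422d1)) (.leaf (nat_lit 0x21040422e1)))) (.node 2 (.node 1 (.leaf (nat_lit 0x21080422e1)) (.leaf (nat_lit 0x2108042301))) (.node 1 (.leaf (nat_lit 0x2107042321)) (.leaf (nat_lit 0x2307045721))))) (.node 4 (.node 2 (.node 1 (.leaf (nat_lit 0x2308042341)) (.leaf (nat_lit 0x21070451f1))) (.node 1 (.leaf (nat_lit 0x2305051471)) (.leaf (nat_lit 0x2308042351)))) (.node 2 (.node 1 (.leaf (nat_lit 0x2104042371)) (.leaf (nat_lit 0x2108042371))) (.node 1 (.leaf (nat_lit 0x2108042381)) (.leaf (nat_lit 0x2107042391)))))))) (.node 32 (.node 16 (.node 8 (.node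 4 (.node 2 (.node 1 (.leaf (nat_lit 0x21080423a1)) (.leaf (nat_lit 0x23070423b1))) (.node 1 (.leaf (nat_lit 0x21070423c1)) (.leaf (nat_lit 0x21030423e1)))) (.node 2 (.node 1 (.leaf (nat_lit 0x2102044531)) (.leaf (nat_lit 0x21080423f1))) (.node 1 (.leaf (nat_lit 0x2102042401)) (.leaf (nat_lit 0x2104042401))))) (.node 4 (.node 2 (.node 1 (.leaf (nat_lit 0x2108042401)) (.leaf (nat_lit 0x2102042ee1))) (.node 1 (.leaf (nat_lit 0x2108042421)) (.leaf (nat_lit 0x2102045e01)))) (.node 2 (.node 1 (.leaf (nat_lit 0x2108042431)) (.leaf (nat_lit 0x2105042451))) (.node 1 (.leaf (nat_lit 0x2108042451)) (.leaf (nat_lit 0x2107042461)))))) (.node 8 (.node 4 (.node 2 (.node 1 (.leaf (nat_lit 0x2105042471)) (.leaf (nat_lit 0x2108042471))) (.node 1 (.leaf (nat_lit 0x2107042481)) (.leaf (nat_lit 0x2108042491)))) (.node 2 (.node 1 (.leaf (nat_lit 0x21070424a1)) (.leaf (nat_lit 0x21030424c1))) (.node 1 (.leaf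 (nat_lit 0x2107042ee1)) (.leaf (nat_lit 0x2307051741))))) (.node 4 (.node 2 (.node 1 (.leaf (nat_lit 0x23080424d1)) (.leaf (nat_lit 0x2107045e01))) (.node 1 (.leaf (nat_lit 0x21080424f1)) (.leaf (nat_lit 0x2303050731)))) (.node 2 (.node 1 (.leaf (nat_lit 0x2308042501)) (.leaf (nat_lit 0x2307042511))) (.node 1 (.leaf (nat_lit 0x2104042521)) (.leaf (nat_lit 0x2108042521))))))) (.node 16 (.node 8 (.node 4 (.node 2 (.node 1 (.leaf (nat_lit 0x2103042531)) (.leaf (nat_lit 0x2105042531))) (.node 1 (.leaf (nat_lit 0x2108042531)) (.leaf (nat_lit 0x2107042541)))) (.node 2 (.node 1 (.leaf (nat_lit 0x2108042551)) (.leaf (nat_lit 0x2107042561))) (.node 1 (.leaf (nat_lit 0x2107046361)) (.leaf (nat_lit 0x2108042581))))) (.node 4 (.node 2 (.node 1 (.leaf (nat_lit 0x2107042591)) (.leaf (nat_lit 0x2303042661))) (.node 1 (.leaf (nat_lit 0x23080425a1)) (.leaf (nat_lit 0x23070425b1)))) (.node 2 (.node 1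 (.leaf (nat_lit 0x21070425d1)) (.leaf (nat_lit 0x21080425e1))) (.node 1 (.leaf (nat_lit 0x21070425f1)) (.leaf (nat_lit 0x2107042611)))))) (.node 8 (.node 4 (.node 2 (.node 1 (.leaf (nat_lit 0x2103042621)) (.leaf (nat_lit 0x2103042641))) (.node 1 (.leaf (nat_lit 0x2102042651)) (.leaf (nat_lit 0x2308042661)))) (.node 2 (.node 1 (.leaf (nat_lit 0x2307042671)) (.leaf (nat_lit 0x2303042681))) (.node 1 (.leaf (nat_lit 0x2103042691)) (.leaf (nat_lit 0x21020426a1))))) (.node 4 (.node 2 (.node 1 (.leaf (nat_lit 0x21070430a1)) (.leaf (nat_lit 0x21080426c1))) (.node 1 (.leaf (nat_lit 0x23080426d1)) (.leaf (nat_lit 0x21070462f1)))) (.node 2 (.node 1 (.leaf (nat_lit 0x21080426f1)) (.leaf (nat_lit 0x2104042721))) (.node 1 (.leaf (nat_lit 0x2108042721)) (.leaf (nat_lit 0x2103042731))))))))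

noncomputable def oT149 : Tree :=
  .node 64 (.node 32 (.node 16 (.node 8 (.node 4 (.node 2 (.node 1 (.leaf (nat_lit 0x2108042731)) (.leaf (nat_lit 0x2107042751))) (.node 1 (.leaf (nat_lit 0x2108042751)) (.leaf (nat_lit 0x230204f841)))) (.node 2 (.node 1 (.leaf (nat_lit 0x2308042781)) (.leaf (nat_lit 0x21030430e1))) (.node 1 (.leaf (nat_lit 0x2302051b21)) (.leaf (nat_lit 0x2308042791))))) (.node 4 (.node 2 (.node 1 (.leaf (nat_lit 0x21010427b1)) (.leaf (nat_lit 0x21040427b1))) (.node 1 (.leaf (nat_lit 0x21080427b1)) (.leaf (nat_lit 0x21050427c1)))) (.node 2 (.node 1 (.leaf (nat_lit 0x21080427c1)) (.leaf (nat_lit 0x21070427d1))) (.node 1 (.leaf (nat_lit 0x2103042ec1)) (.leaf (nat_lit 0x2302051c11)))))) (.node 8 (.node 4 (.node 2 (.node 1 (.leaf (nat_lit 0x23080427e1)) (.leaf (nat_lit 0x2103043151))) (.node 1 (.leaf (nat_lit 0x2103045de1)) (.leaf (nat_lit 0x2108042801)))) (.node 2 (.node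 1 (.leaf (nat_lit 0x2307042a41)) (.leaf (nat_lit 0x2308042811))) (.node 1 (.leaf (nat_lit 0x2307042821)) (.leaf (nat_lit 0x2104042831))))) (.node 4 (.node 2 (.node 1 (.leaf (nat_lit 0x2108042831)) (.leaf (nat_lit 0x2103042841))) (.node 1 (.leaf (nat_lit 0x2105042841)) (.leaf (nat_lit 0x2108042841)))) (.node 2 (.node 1 (.leaf (nat_lit 0x2107042851)) (.leaf (nat_lit 0x2106042861))) (.node 1 (.leaf (nat_lit 0x2108042861)) (.leaf (nat_lit 0x2107042871))))))) (.node 16 (.node 8 (.node 4 (.node 2 (.node 1 (.leaf (nat_lit 0x2108042891)) (.leaf (nat_lit 0x21050428a1))) (.node 1 (.leaf (nat_lit 0x21080428a1)) (.leaf (nat_lit 0x21070428b1)))) (.node 2 (.node 1 (.leaf (nat_lit 0x2307042b71)) (.leaf (nat_lit 0x23080428c1))) (.node 1 (.leaf (nat_lit 0x23070428d1)) (.leaf (nat_lit 0x21070428f1))))) (.node 4 (.node 2 (.node 1 (.leaf (nat_lit 0x2106042901)) (.leaf (nat_lit 0x2108042901))) (.node 1 (.leaf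 (nat_lit 0x2107042911)) (.leaf (nat_lit 0x2302051e31)))) (.node 2 (.node 1 (.leaf (nat_lit 0x2108042931)) (.leaf (nat_lit 0x2107042941))) (.node 1 (.leaf (nat_lit 0x2103042951)) (.leaf (nat_lit 0x2101044291)))))) (.node 8 (.node 4 (.node 2 (.node 1 (.leaf (nat_lit 0x2108042971)) (.leaf (nat_lit 0x2107042981))) (.node 1 (.leaf (nat_lit 0x2103042991)) (.leaf (nat_lit 0x230104f3c1)))) (.node 2 (.node 1 (.leaf (nat_lit 0x21070429b1)) (.leaf (nat_lit 0x21030429c1))) (.node 1 (.leaf (nat_lit 0x21020429d1)) (.leaf (nat_lit 0x230204ec81))))) (.node 4 (.node 2 (.node 1 (.leaf (nat_lit 0x2307051c11)) (.leaf (nat_lit 0x23080429e1))) (.node 1 (.leaf (nat_lit 0x25050429f1)) (.leaf (nat_lit 0x25080429f1)))) (.node 2 (.node 1 (.leaf (nat_lit 0x2507042a01)) (.leaf (nat_lit 0x21070459c1))) (.node 1 (.leaf (nat_lit 0x230204f441)) (.leaf (nat_lit 0x2308042a11)))))))) (.node 32 (.node 16 (.node 8 (.node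 4 (.node 2 (.node 1 (.leaf (nat_lit 0x2302050c81)) (.leaf (nat_lit 0x2302042a41))) (.node 1 (.leaf (nat_lit 0x2308042a21)) (.leaf (nat_lit 0x2307042a31)))) (.node 2 (.node 1 (.leaf (nat_lit 0x2303050771)) (.leaf (nat_lit 0x2308042a41))) (.node 1 (.leaf (nat_lit 0x2507042a51)) (.leaf (nat_lit 0x2104042a71))))) (.node 4 (.node 2 (.node 1 (.leaf (nat_lit 0x2108042a71)) (.leaf (nat_lit 0x2103042a81))) (.node 1 (.leaf (nat_lit 0x2105042a81)) (.leaf (nat_lit 0x2108042a81)))) (.node 2 (.node 1 (.leaf (nat_lit 0x2107042a91)) (.leaf (nat_lit 0x2105042aa1))) (.node 1 (.leaf (nat_lit 0x2107042aa1)) (.leaf (nat_lit 0x2108042aa1)))))) (.node 8 (.node 4 (.node 2 (.node 1 (.leaf (nat_lit 0x2106042ab1)) (.leaf (nat_lit 0x2108042ab1))) (.node 1 (.leaf (nat_lit 0x2107042ac1)) (.leaf (nat_lit 0x2103042ad1)))) (.node 2 (.node 1 (.leaf (nat_lit 0x2304042c21)) (.leaf (nat_lit 0x2108042ae1))) (.node 1 (.leaf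 (nat_lit 0x2107042af1)) (.leaf (nat_lit 0x2103042b01))))) (.node 4 (.node 2 (.node 1 (.leaf (nat_lit 0x2108042b11)) (.leaf (nat_lit 0x21020459c1))) (.node 1 (.leaf (nat_lit 0x2108042b21)) (.leaf (nat_lit 0x2307042b31)))) (.node 2 (.node 1 (.leaf (nat_lit 0x2302042b71)) (.leaf (nat_lit 0x2308042b41))) (.node 1 (.leaf (nat_lit 0x2307042b51)) (.leaf (nat_lit 0x2303042b61))))))) (.node 16 (.node 8 (.node 4 (.node 2 (.node 1 (.leaf (nat_lit 0x230004eb41)) (.leaf (nat_lit 0x2308042b71))) (.node 1 (.leaf (nat_lit 0x2307042b81)) (.leaf (nat_lit 0x2303042b91)))) (.node 2 (.node 1 (.leaf (nat_lit 0x2107042ba1)) (.leaf (nat_lit 0x2106042bb1))) (.node 1 (.leaf (nat_lit 0x2108042bb1)) (.leaf (nat_lit 0x2107042bc1))))) (.node 4 (.node 2 (.node 1 (.leaf (nat_lit 0x2103042bd1)) (.leaf (nat_lit 0x2307051e31))) (.node 1 (.leaf (nat_lit 0x2108042be1)) (.leaf (nat_lit 0x2107042bf1)))) (.node 2 (.node 1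 (.leaf (nat_lit 0x2103042c01)) (.leaf (nat_lit 0x2104042c11))) (.node 1 (.leaf (nat_lit 0x2308042c21)) (.leaf (nat_lit 0x2107042c31)))))) (.node 8 (.node 4 (.node 2 (.node 1 (.leaf (nat_lit 0x2103042c41)) (.leaf (nat_lit 0x2102042c51))) (.node 1 (.leaf (nat_lit 0x2102045b81)) (.leaf (nat_lit 0x2108042c71)))) (.node 2 (.node 1 (.leaf (nat_lit 0x2107042c81)) (.leaf (nat_lit 0x2103042c91))) (.node 1 (.leaf (nat_lit 0x23040460d1)) (.leaf (nat_lit 0x2107042cc1))))) (.node 4 (.node 2 (.node 1 (.leaf (nat_lit 0x2103042cd1)) (.leaf (nat_lit 0x2102042ce1))) (.node 1 (.leaf (nat_lit 0x2104042ce1)) (.leaf (nat_lit 0x2304046111)))) (.node 2 (.node 1 (.leaf (nat_lit 0x2103042d11)) (.leaf (nat_lit 0x2102042d21))) (.node 1 (.leaf (nat_lit 0x2101042d31)) (.leaf (nat_lit 0x2308042d41))))))))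

noncomputable def oT150 : Tree :=
  .node 64 (.node 32 (.node 16 (.node 8 (.node 4 (.node 2 (.node 1 (.leaf (nat_lit 0x2307042d51)) (.leaf (nat_lit 0x2303042d61))) (.node 1 (.leaf (nat_lit 0x21040469d1)) (.leaf (nat_lit 0x2105042dc1)))) (.node 2 (.node 1 (.leaf (nat_lit 0x2103042d91)) (.leaf (nat_lit 0x2102042da1))) (.node 1 (.leaf (nat_lit 0x2104042da1)) (.leaf (nat_lit 0x2101042db1))))) (.node 4 (.node 2 (.node 1 (.leaf (nat_lit 0x21040464e1)) (.leaf (nat_lit 0x2102042dd1))) (.node 1 (.leaf (nat_lit 0x2100042df1)) (.leaf (nat_lit 0x2308042e01)))) (.node 2 (.node 1 (.leaf (nat_lit 0x230204f061)) (.leaf (nat_lit 0x2308042e11))) (.node 1 (.leaf (nat_lit 0x2108042e61)) (.leaf (nat_lit 0x2108042e51)))))) (.node 8 (.node 4 (.node 2 (.node 1 (.leaf (nat_lit 0x2102045751)) (.leaf (nat_lit 0x21030431f1))) (.node 1 (.leaf (nat_lit 0x2308042e81)) (.leaf (nat_lit 0x2308043201)))) (.node 2 (.node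 1 (.leaf (nat_lit 0x2108042ec1)) (.leaf (nat_lit 0x2107042ed1))) (.node 1 (.leaf (nat_lit 0x2108042ee1)) (.leaf (nat_lit 0x2103042f01))))) (.node 4 (.node 2 (.node 1 (.leaf (nat_lit 0x2108042f11)) (.leaf (nat_lit 0x2107042f21))) (.node 1 (.leaf (nat_lit 0x2103042f31)) (.leaf (nat_lit 0x2104042f41)))) (.node 2 (.node 1 (.leaf (nat_lit 0x2102042f51)) (.leaf (nat_lit 0x2107042f61))) (.node 1 (.leaf (nat_lit 0x2303042f71)) (.leaf (nat_lit 0x21080432a1))))))) (.node 16 (.node 8 (.node 4 (.node 2 (.node 1 (.leaf (nat_lit 0x2105042fb1)) (.leaf (nat_lit 0x2108043031))) (.node 1 (.leaf (nat_lit 0x2107043051)) (.leaf (nat_lit 0x2108043081)))) (.node 2 (.node 1 (.leaf (nat_lit 0x2107043091)) (.leaf (nat_lit 0x21080430c1))) (.node 1 (.leaf (nat_lit 0x2104043e61)) (.leaf (nat_lit 0x21080430e1))))) (.node 4 (.node 2 (.node 1 (.leaf (nat_lit 0x21070430f1)) (.leaf (nat_lit 0x2100043101))) (.node 1 (.leaf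 (nat_lit 0x2104043101)) (.leaf (nat_lit 0x2108043101)))) (.node 2 (.node 1 (.leaf (nat_lit 0x2103043111)) (.leaf (nat_lit 0x2108043111))) (.node 1 (.leaf (nat_lit 0x2107043121)) (.leaf (nat_lit 0x2107043131)))))) (.node 8 (.node 4 (.node 2 (.node 1 (.leaf (nat_lit 0x2108043151)) (.leaf (nat_lit 0x2108043171))) (.node 1 (.leaf (nat_lit 0x2103043181)) (.leaf (nat_lit 0x2108043181)))) (.node 2 (.node 1 (.leaf (nat_lit 0x21070431a1)) (.leaf (nat_lit 0x21080431a1))) (.node 1 (.leaf (nat_lit 0x21080431e1)) (.leaf (nat_lit 0x21080431f1))))) (.node 4 (.node 2 (.node 1 (.leaf (nat_lit 0x2307045871)) (.leaf (nat_lit 0x2104043221))) (.node 1 (.leaf (nat_lit 0x2107043231)) (.leaf (nat_lit 0x2103043241)))) (.node 2 (.node 1 (.leaf (nat_lit 0x2102043251)) (.leaf (nat_lit 0x2104043251))) (.node 1 (.leaf (nat_lit 0x2105043261)) (.leaf (nat_lit 0x16070432c2)))))))) (.node 32 (.node 16 (.node 8 (.node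 4 (.node 2 (.node 1 (.leaf (nat_lit 0x16070432e2)) (.leaf (nat_lit 0x16070432f2))) (.node 1 (.leaf (nat_lit 0x1607043322)) (.leaf (nat_lit 0x1607043332)))) (.node 2 (.node 1 (.leaf (nat_lit 0x1608043352)) (.leaf (nat_lit 0x1607043362))) (.node 1 (.leaf (nat_lit 0x1608043372)) (.leaf (nat_lit 0x1607043382))))) (.node 4 (.node 2 (.node 1 (.leaf (nat_lit 0x16070433a2)) (.leaf (nat_lit 0x21040433c1))) (.node 1 (.leaf (nat_lit 0x21080433c1)) (.leaf (nat_lit 0x21070433e1)))) (.node 2 (.node 1 (.leaf (nat_lit 0x21070433f1)) (.leaf (nat_lit 0x2108043411))) (.node 1 (.leaf (nat_lit 0x2107043421)) (.leaf (nat_lit 0x2103043441)))))) (.node 8 (.node 4 (.node 2 (.node 1 (.leaf (nat_lit 0x2104043461)) (.leaf (nat_lit 0x2108043461))) (.node 1 (.leaf (nat_lit 0x2107043481)) (.leaf (nat_lit 0x21050434a1)))) (.node 2 (.node 1 (.leaf (nat_lit 0x21080434a1)) (.leaf (nat_lit 0x21070434b1))) (.node 1 (.leaf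 (nat_lit 0x21080434c1)) (.leaf (nat_lit 0x21070434d1))))) (.node 4 (.node 2 (.node 1 (.leaf (nat_lit 0x2108043531)) (.leaf (nat_lit 0x2107043541))) (.node 1 (.leaf (nat_lit 0x2108043561)) (.leaf (nat_lit 0x2107043571)))) (.node 2 (.node 1 (.leaf (nat_lit 0x21060435c1)) (.leaf (nat_lit 0x21030435a1))) (.node 1 (.leaf (nat_lit 0x2105044e51)) (.leaf (nat_lit 0x21080435b1))))))) (.node 16 (.node 8 (.node 4 (.node 2 (.node 1 (.leaf (nat_lit 0x21080435c1)) (.leaf (nat_lit 0x21070435d1))) (.node 1 (.leaf (nat_lit 0x21040435e1)) (.leaf (nat_lit 0x21080435e1)))) (.node 2 (.node 1 (.leaf (nat_lit 0x21030435f1)) (.leaf (nat_lit 0x21050435f1))) (.node 1 (.leaf (nat_lit 0x21080435f1)) (.leaf (nat_lit 0x2107043601))))) (.node 4 (.node 2 (.node 1 (.leaf (nat_lit 0x2106043611)) (.leaf (nat_lit 0x2108043611))) (.node 1 (.leaf (nat_lit 0x2107043621)) (.leaf (nat_lit 0x2108043641)))) (.node 2 (.node 1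 (.leaf (nat_lit 0x2107043651)) (.leaf (nat_lit 0x2105043671))) (.node 1 (.leaf (nat_lit 0x2108043671)) (.leaf (nat_lit 0x2107043681)))))) (.node 8 (.node 4 (.node 2 (.node 1 (.leaf (nat_lit 0x2106043691)) (.leaf (nat_lit 0x2108043691))) (.node 1 (.leaf (nat_lit 0x21070436a1)) (.leaf (nat_lit 0x21030436b1)))) (.node 2 (.node 1 (.leaf (nat_lit 0x21080436c1)) (.leaf (nat_lit 0x21070436d1))) (.node 1 (.leaf (nat_lit 0x21070436f1)) (.leaf (nat_lit 0x2108043711))))) (.node 4 (.node 2 (.node 1 (.leaf (nat_lit 0x2107043721)) (.leaf (nat_lit 0x2103043731))) (.node 1 (.leaf (nat_lit 0x2103043791)) (.leaf (nat_lit 0x2107043761)))) (.node 2 (.node 1 (.leaf (nat_lit 0x21080437c1)) (.leaf (nat_lit 0x2107043841))) (.node 1 (.leaf (nat_lit 0x2103043851)) (.leaf (nat_lit 0x21020438a1))))))))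

noncomputable def oT151 : Tree :=
  .node 64 (.node 32 (.node 16 (.node 8 (.node 4 (.node 2 (.node 1 (.leaf (nat_lit 0x21040438a1)) (.leaf (nat_lit 0x21080438a1))) (.node 1 (.leaf (nat_lit 0x21040438c1)) (.leaf (nat_lit 0x21080438c1)))) (.node 2 (.node 1 (.leaf (nat_lit 0x21080438e1)) (.leaf (nat_lit 0x21070438f1))) (.node 1 (.leaf (nat_lit 0x2107043901)) (.leaf (nat_lit 0x2308043921))))) (.node 4 (.node 2 (.node 1 (.leaf (nat_lit 0x2307043931)) (.leaf (nat_lit 0x2100043941))) (.node 1 (.leaf (nat_lit 0x2104043941)) (.leaf (nat_lit 0x2108043941)))) (.node 2 (.node 1 (.leaf (nat_lit 0x2108043951)) (.leaf (nat_lit 0x2107043961))) (.node 1 (.leaf (nat_lit 0x2107043971)) (.leaf (nat_lit 0x2104045921)))))) (.node 8 (.node 4 (.node 2 (.node 1 (.leaf (nat_lit 0x2308043991)) (.leaf (nat_lit 0x23070439a1))) (.node 1 (.leaf (nat_lit 0x21080439c1)) (.leaf (nat_lit 0x21070439d1)))) (.node 2 (.node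 1 (.leaf (nat_lit 0x21030439e1)) (.leaf (nat_lit 0x21070439f1))) (.node 1 (.leaf (nat_lit 0x2103043a01)) (.leaf (nat_lit 0x2108043a21))))) (.node 4 (.node 2 (.node 1 (.leaf (nat_lit 0x2107043a31)) (.leaf (nat_lit 0x2103043a41))) (.node 1 (.leaf (nat_lit 0x2104046611)) (.leaf (nat_lit 0x2102043b21)))) (.node 2 (.node 1 (.leaf (nat_lit 0x2303043a71)) (.leaf (nat_lit 0x2107043a81))) (.node 1 (.leaf (nat_lit 0x2103043a91)) (.leaf (nat_lit 0x2104043aa1))))))) (.node 16 (.node 8 (.node 4 (.node 2 (.node 1 (.leaf (nat_lit 0x2107043ae1)) (.leaf (nat_lit 0x2103043af1))) (.node 1 (.leaf (nat_lit 0x2103046551)) (.leaf (nat_lit 0x2104043b61)))) (.node 2 (.node 1 (.leaf (nat_lit 0x2108043b61)) (.leaf (nat_lit 0x2108043b81))) (.node 1 (.leaf (nat_lit 0x2107043b91)) (.leaf (nat_lit 0x2107043ba1))))) (.node 4 (.node 2 (.node 1 (.leaf (nat_lit 0x2104043bc1)) (.leaf (nat_lit 0x2108043bc1))) (.node 1 (.leaf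 (nat_lit 0x2108043bd1)) (.leaf (nat_lit 0x2107043be1)))) (.node 2 (.node 1 (.leaf (nat_lit 0x2108043bf1)) (.leaf (nat_lit 0x2107043c01))) (.node 1 (.leaf (nat_lit 0x2107043c11)) (.leaf (nat_lit 0x2103043c31)))))) (.node 8 (.node 4 (.node 2 (.node 1 (.leaf (nat_lit 0x2302043c41)) (.leaf (nat_lit 0x2304043c41))) (.node 1 (.leaf (nat_lit 0x2308043c41)) (.leaf (nat_lit 0x2303043e11)))) (.node 2 (.node 1 (.leaf (nat_lit 0x2304043c61)) (.leaf (nat_lit 0x2308043c61))) (.node 1 (.leaf (nat_lit 0x2104043d21)) (.leaf (nat_lit 0x2308043c71))))) (.node 4 (.node 2 (.node 1 (.leaf (nat_lit 0x2307043c81)) (.leaf (nat_lit 0x2104043c91))) (.node 1 (.leaf (nat_lit 0x2108043c91)) (.leaf (nat_lit 0x2103043ca1)))) (.node 2 (.node 1 (.leaf (nat_lit 0x2105043ca1)) (.leaf (nat_lit 0x2108043ca1))) (.node 1 (.leaf (nat_lit 0x2107043cb1)) (.leaf (nat_lit 0x2108043cc1)))))))) (.node 32 (.node 16 (.node 8 (.node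 4 (.node 2 (.node 1 (.leaf (nat_lit 0x2107043cd1)) (.leaf (nat_lit 0x2300051eb1))) (.node 1 (.leaf (nat_lit 0x2102043d21)) (.leaf (nat_lit 0x2108043d01)))) (.node 2 (.node 1 (.leaf (nat_lit 0x23000442e1)) (.leaf (nat_lit 0x2108043d21))) (.node 1 (.leaf (nat_lit 0x2107043d31)) (.leaf (nat_lit 0x2107043d51))))) (.node 4 (.node 2 (.node 1 (.leaf (nat_lit 0x2108043d61)) (.leaf (nat_lit 0x2107043d71))) (.node 1 (.leaf (nat_lit 0x2103043d81)) (.leaf (nat_lit 0x2107043d91)))) (.node 2 (.node 1 (.leaf (nat_lit 0x2103043db1)) (.leaf (nat_lit 0x2103043dc1))) (.node 1 (.leaf (nat_lit 0x2104043dd1)) (.leaf (nat_lit 0x2104046231)))))) (.node 8 (.node 4 (.node 2 (.node 1 (.leaf (nat_lit 0x23000444b1)) (.leaf (nat_lit 0x2103043ec1))) (.node 1 (.leaf (nat_lit 0x2308043e11)) (.leaf (nat_lit 0x23000444e1)))) (.node 2 (.node 1 (.leaf (nat_lit 0x2308043e21)) (.leaf (nat_lit 0x2302043e51))) (.node 1 (.leaf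 (nat_lit 0x21030467a1)) (.leaf (nat_lit 0x2108043e61))))) (.node 4 (.node 2 (.node 1 (.leaf (nat_lit 0x2103043e71)) (.leaf (nat_lit 0x2108043e71))) (.node 1 (.leaf (nat_lit 0x2107043e81)) (.leaf (nat_lit 0x2108043e91)))) (.node 2 (.node 1 (.leaf (nat_lit 0x2107043ea1)) (.leaf (nat_lit 0x2103043eb1))) (.node 1 (.leaf (nat_lit 0x21010445a1)) (.leaf (nat_lit 0x2300052ea1))))))) (.node 16 (.node 8 (.node 4 (.node 2 (.node 1 (.leaf (nat_lit 0x23000445c1)) (.leaf (nat_lit 0x2107043f01))) (.node 1 (.leaf (nat_lit 0x2103043f11)) (.leaf (nat_lit 0x2104043f21)))) (.node 2 (.node 1 (.leaf (nat_lit 0x2104043f41)) (.leaf (nat_lit 0x2101043f61))) (.node 1 (.leaf (nat_lit 0x2104043f61)) (.leaf (nat_lit 0x2108043f61))))) (.node 4 (.node 2 (.node 1 (.leaf (nat_lit 0x2108043f71)) (.leaf (nat_lit 0x2107043f81))) (.node 1 (.leaf (nat_lit 0x2106043fb1)) (.leaf (nat_lit 0x2106043fc1)))) (.node 2 (.node 1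 (.leaf (nat_lit 0x2108043f91)) (.leaf (nat_lit 0x2102045a91))) (.node 1 (.leaf (nat_lit 0x2105045a21)) (.leaf (nat_lit 0x2108043fb1)))))) (.node 8 (.node 4 (.node 2 (.node 1 (.leaf (nat_lit 0x2108043fc1)) (.leaf (nat_lit 0x2107043fd1))) (.node 1 (.leaf (nat_lit 0x2104043fe1)) (.leaf (nat_lit 0x2108043fe1)))) (.node 2 (.node 1 (.leaf (nat_lit 0x2103043ff1)) (.leaf (nat_lit 0x2105043ff1))) (.node 1 (.leaf (nat_lit 0x2108043ff1)) (.leaf (nat_lit 0x2107044001))))) (.node 4 (.node 2 (.node 1 (.leaf (nat_lit 0x2106044011)) (.leaf (nat_lit 0x2108044011))) (.node 1 (.leaf (nat_lit 0x2107044021)) (.leaf (nat_lit 0x2102045ba1)))) (.node 2 (.node 1 (.leaf (nat_lit 0x2107044051)) (.leaf (nat_lit 0x2105044071))) (.node 1 (.leaf (nat_lit 0x2108044071)) (.leaf (nat_lit 0x2107044081))))))))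

noncomputable def oT152 : Tree :=
  .node 64 (.node 32 (.node 16 (.node 8 (.node 4 (.node 2 (.node 1 (.leaf (nat_lit 0x2108044091)) (.leaf (nat_lit 0x21070440a1))) (.node 1 (.leaf (nat_lit 0x21030440b1)) (.leaf (nat_lit 0x21080440c1)))) (.node 2 (.node 1 (.leaf (nat_lit 0x21070440d1)) (.leaf (nat_lit 0x21070440f1))) (.node 1 (.leaf (nat_lit 0x2103044101)) (.leaf (nat_lit 0x2303045781))))) (.node 4 (.node 2 (.node 1 (.leaf (nat_lit 0x2107044141)) (.leaf (nat_lit 0x2304044161))) (.node 1 (.leaf (nat_lit 0x23010525a1)) (.leaf (nat_lit 0x2306050a21)))) (.node 2 (.node 1 (.leaf (nat_lit 0x2304044181)) (.leaf (nat_lit 0x2303052961))) (.node 1 (.leaf (nat_lit 0x2104044191)) (.leaf (nat_lit 0x2102045d61)))))) (.node 8 (.node 4 (.node 2 (.node 1 (.leaf (nat_lit 0x23040444e1)) (.leaf (nat_lit 0x21040442c1))) (.node 1 (.leaf (nat_lit 0x23080441a1)) (.leaf (nat_lit 0x23010531c1)))) (.node 2 (.node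 1 (.leaf (nat_lit 0x21080441c1)) (.leaf (nat_lit 0x23070441d1))) (.node 1 (.leaf (nat_lit 0x21040441f1)) (.leaf (nat_lit 0x21080441f1))))) (.node 4 (.node 2 (.node 1 (.leaf (nat_lit 0x2103044201)) (.leaf (nat_lit 0x2105044201))) (.node 1 (.leaf (nat_lit 0x2108044201)) (.leaf (nat_lit 0x2107044211)))) (.node 2 (.node 1 (.leaf (nat_lit 0x2105044221)) (.leaf (nat_lit 0x2107044221))) (.node 1 (.leaf (nat_lit 0x2108044221)) (.leaf (nat_lit 0x2106044231))))))) (.node 16 (.node 8 (.node 4 (.node 2 (.node 1 (.leaf (nat_lit 0x2108044231)) (.leaf (nat_lit 0x2107044241))) (.node 1 (.leaf (nat_lit 0x2103044251)) (.leaf (nat_lit 0x2503050a51)))) (.node 2 (.node 1 (.leaf (nat_lit 0x2108044261)) (.leaf (nat_lit 0x2107044271))) (.node 1 (.leaf (nat_lit 0x2103044281)) (.leaf (nat_lit 0x2104044291))))) (.node 4 (.node 2 (.node 1 (.leaf (nat_lit 0x2102045f01)) (.leaf (nat_lit 0x21010442c1))) (.node 1 (.leaf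 (nat_lit 0x21040442b1)) (.leaf (nat_lit 0x2102045f31)))) (.node 2 (.node 1 (.leaf (nat_lit 0x21080442c1)) (.leaf (nat_lit 0x21070442d1))) (.node 1 (.leaf (nat_lit 0x2301053421)) (.leaf (nat_lit 0x21070442f1)))))) (.node 8 (.node 4 (.node 2 (.node 1 (.leaf (nat_lit 0x2105044311)) (.leaf (nat_lit 0x2108044311))) (.node 1 (.leaf (nat_lit 0x2107044321)) (.leaf (nat_lit 0x2106044331)))) (.node 2 (.node 1 (.leaf (nat_lit 0x2108044331)) (.leaf (nat_lit 0x2107044341))) (.node 1 (.leaf (nat_lit 0x2103044351)) (.leaf (nat_lit 0x230704f841))))) (.node 4 (.node 2 (.node 1 (.leaf (nat_lit 0x2108044361)) (.leaf (nat_lit 0x2107044371))) (.node 1 (.leaf (nat_lit 0x2103044381)) (.leaf (nat_lit 0x2104044391)))) (.node 2 (.node 1 (.leaf (nat_lit 0x23030444a1)) (.leaf (nat_lit 0x21070443b1))) (.node 1 (.leaf (nat_lit 0x21070443d1)) (.leaf (nat_lit 0x2104045b81)))))))) (.node 32 (.node 16 (.node 8 (.node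 4 (.node 2 (.node 1 (.leaf (nat_lit 0x21080443f1)) (.leaf (nat_lit 0x2107044401))) (.node 1 (.leaf (nat_lit 0x2103044411)) (.leaf (nat_lit 0x2302044481)))) (.node 2 (.node 1 (.leaf (nat_lit 0x2107044441)) (.leaf (nat_lit 0x2103044451))) (.node 1 (.leaf (nat_lit 0x230304ee51)) (.leaf (nat_lit 0x21020444c1))))) (.node 4 (.node 2 (.node 1 (.leaf (nat_lit 0x2102044601)) (.leaf (nat_lit 0x2301050571))) (.node 1 (.leaf (nat_lit 0x23080444e1)) (.leaf (nat_lit 0x2302044511)))) (.node 2 (.node 1 (.leaf (nat_lit 0x230204f8d1)) (.leaf (nat_lit 0x2107044521))) (.node 1 (.leaf (nat_lit 0x2107044531)) (.leaf (nat_lit 0x2108044531)))))) (.node 8 (.node 4 (.node 2 (.node 1 (.leaf (nat_lit 0x2107044541)) (.leaf (nat_lit 0x2103044551))) (.node 1 (.leaf (nat_lit 0x2108044561)) (.leaf (nat_lit 0x2107044571)))) (.node 2 (.node 1 (.leaf (nat_lit 0x2103044581)) (.leaf (nat_lit 0x2104044591))) (.node 1 (.leaf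 (nat_lit 0x2102044651)) (.leaf (nat_lit 0x21020464e1))))) (.node 4 (.node 2 (.node 1 (.leaf (nat_lit 0x23040445c1)) (.leaf (nat_lit 0x21050445f1))) (.node 1 (.leaf (nat_lit 0x1607044662)) (.leaf (nat_lit 0x1607044672)))) (.node 2 (.node 1 (.leaf (nat_lit 0x1607044682)) (.leaf (nat_lit 0x16070446a2))) (.node 1 (.leaf (nat_lit 0x16030446b2)) (.leaf (nat_lit 0x16070446c2))))))) (.node 16 (.node 8 (.node 4 (.node 2 (.node 1 (.leaf (nat_lit 0x16070446f2)) (.leaf (nat_lit 0x1603044702))) (.node 1 (.leaf (nat_lit 0x1604044722)) (.leaf (nat_lit 0x1607044732)))) (.node 2 (.node 1 (.leaf (nat_lit 0x1607044752)) (.leaf (nat_lit 0x1603044772))) (.node 1 (.leaf (nat_lit 0x1604044792)) (.leaf (nat_lit 0x16070447a2))))) (.node 4 (.node 2 (.node 1 (.leaf (nat_lit 0x16030447b2)) (.leaf (nat_lit 0x16070447c2))) (.node 1 (.leaf (nat_lit 0x16070447d2)) (.leaf (nat_lit 0x16070447f2)))) (.node 2 (.node 1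 (.leaf (nat_lit 0x1603044802)) (.leaf (nat_lit 0x1607044812))) (.node 1 (.leaf (nat_lit 0x1607044822)) (.leaf (nat_lit 0x1603044832)))))) (.node 8 (.node 4 (.node 2 (.node 1 (.leaf (nat_lit 0x1607044842)) (.leaf (nat_lit 0x1603044852))) (.node 1 (.leaf (nat_lit 0x1604044862)) (.leaf (nat_lit 0x1603044892)))) (.node 2 (.node 1 (.leaf (nat_lit 0x16030448b2)) (.leaf (nat_lit 0x16030448d2))) (.node 1 (.leaf (nat_lit 0x16040448e2)) (.leaf (nat_lit 0x16050448f2))))) (.node 4 (.node 2 (.node 1 (.leaf (nat_lit 0x2104044911)) (.leaf (nat_lit 0x2108044911))) (.node 1 (.leaf (nat_lit 0x2107044931)) (.leaf (nat_lit 0x2105044a71)))) (.node 2 (.node 1 (.leaf (nat_lit 0x2108044951)) (.leaf (nat_lit 0x2104044971))) (.node 1 (.leaf (nat_lit 0x2108044971)) (.leaf (nat_lit 0x2108044981))))))))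

noncomputable def oT153 : Tree :=
  .node 64 (.node 32 (.node 16 (.node 8 (.node 4 (.node 2 (.node 1 (.leaf (nat_lit 0x2107044991)) (.leaf (nat_lit 0x21070449a1))) (.node 1 (.leaf (nat_lit 0x21070449b1)) (.leaf (nat_lit 0x21030449d1)))) (.node 2 (.node 1 (.leaf (nat_lit 0x21080449e1)) (.leaf (nat_lit 0x21070449f1))) (.node 1 (.leaf (nat_lit 0x2107044a11)) (.leaf (nat_lit 0x2103044a21))))) (.node 4 (.node 2 (.node 1 (.leaf (nat_lit 0x2103044a41)) (.leaf (nat_lit 0x2104044a51))) (.node 1 (.leaf (nat_lit 0x2104044a61)) (.leaf (nat_lit 0x2108044a61)))) (.node 2 (.node 1 (.leaf (nat_lit 0x2108044a71)) (.leaf (nat_lit 0x2107044a81))) (.node 1 (.leaf (nat_lit 0x2107044a91)) (.leaf (nat_lit 0x2107044ab1)))))) (.node 8 (.node 4 (.node 2 (.node 1 (.leaf (nat_lit 0x2103044ac1)) (.leaf (nat_lit 0x2308044ae1))) (.node 1 (.leaf (nat_lit 0x2307044af1)) (.leaf (nat_lit 0x2103044b01)))) (.node 2 (.node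 1 (.leaf (nat_lit 0x2105044b01)) (.leaf (nat_lit 0x2108044b01))) (.node 1 (.leaf (nat_lit 0x2107044b11)) (.leaf (nat_lit 0x2108044b21))))) (.node 4 (.node 2 (.node 1 (.leaf (nat_lit 0x2107044b31)) (.leaf (nat_lit 0x2108044b61))) (.node 1 (.leaf (nat_lit 0x2107044b71)) (.leaf (nat_lit 0x2103044b81)))) (.node 2 (.node 1 (.leaf (nat_lit 0x2107044b91)) (.leaf (nat_lit 0x2107044bb1))) (.node 1 (.leaf (nat_lit 0x2107044bc1)) (.leaf (nat_lit 0x2103044bd1))))))) (.node 16 (.node 8 (.node 4 (.node 2 (.node 1 (.leaf (nat_lit 0x2103044be1)) (.leaf (nat_lit 0x2104044bf1))) (.node 1 (.leaf (nat_lit 0x2107044c01)) (.leaf (nat_lit 0x2108044c01)))) (.node 2 (.node 1 (.leaf (nat_lit 0x2107044c11)) (.leaf (nat_lit 0x2103044c21))) (.node 1 (.leaf (nat_lit 0x2104044c41)) (.leaf (nat_lit 0x2105044c71))))) (.node 4 (.node 2 (.node 1 (.leaf (nat_lit 0x2104044c81)) (.leaf (nat_lit 0x2108044c81))) (.node 1 (.leaf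 (nat_lit 0x2108044c91)) (.leaf (nat_lit 0x2107044ca1)))) (.node 2 (.node 1 (.leaf (nat_lit 0x2107044cb1)) (.leaf (nat_lit 0x2107044cd1))) (.node 1 (.leaf (nat_lit 0x2103044ce1)) (.leaf (nat_lit 0x2306044d11)))))) (.node 8 (.node 4 (.node 2 (.node 1 (.leaf (nat_lit 0x2308044cf1)) (.leaf (nat_lit 0x2308044d11))) (.node 1 (.leaf (nat_lit 0x2307044d21)) (.leaf (nat_lit 0x2108044d31)))) (.node 2 (.node 1 (.leaf (nat_lit 0x2107044d41)) (.leaf (nat_lit 0x2107044d51))) (.node 1 (.leaf (nat_lit 0x2103044d81)) (.leaf (nat_lit 0x2107044d91))))) (.node 4 (.node 2 (.node 1 (.leaf (nat_lit 0x2103044da1)) (.leaf (nat_lit 0x2104044db1))) (.node 1 (.leaf (nat_lit 0x2103045331)) (.leaf (nat_lit 0x2103044de1)))) (.node 2 (.node 1 (.leaf (nat_lit 0x2104044e01)) (.leaf (nat_lit 0x2104044e41))) (.node 1 (.leaf (nat_lit 0x2108044e41)) (.leaf (nat_lit 0x2103044e51)))))))) (.node 32 (.node 16 (.node 8 (.node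 4 (.node 2 (.node 1 (.leaf (nat_lit 0x2108044e51)) (.leaf (nat_lit 0x2107044e61))) (.node 1 (.leaf (nat_lit 0x2107044e71)) (.leaf (nat_lit 0x2107044e91)))) (.node 2 (.node 1 (.leaf (nat_lit 0x2103044ea1)) (.leaf (nat_lit 0x2107044eb1))) (.node 1 (.leaf (nat_lit 0x2103044ec1)) (.leaf (nat_lit 0x2104044ee1))))) (.node 4 (.node 2 (.node 1 (.leaf (nat_lit 0x2306044f31)) (.leaf (nat_lit 0x2308044ef1))) (.node 1 (.leaf (nat_lit 0x230604e691)) (.leaf (nat_lit 0x2308044f01)))) (.node 2 (.node 1 (.leaf (nat_lit 0x2307044f11)) (.leaf (nat_lit 0x230504e5d1))) (.node 1 (.leaf (nat_lit 0x2308044f21)) (.leaf (nat_lit 0x2308044f31)))))) (.node 8 (.node 4 (.node 2 (.node 1 (.leaf (nat_lit 0x2307044f41)) (.leaf (nat_lit 0x2307044f51))) (.node 1 (.leaf (nat_lit 0x2104044f71)) (.leaf (nat_lit 0x2108044f71)))) (.node 2 (.node 1 (.leaf (nat_lit 0x2103044f81)) (.leaf (nat_lit 0x2105044f81))) (.node 1 (.leaf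 (nat_lit 0x2108044f81)) (.leaf (nat_lit 0x2107044f91))))) (.node 4 (.node 2 (.node 1 (.leaf (nat_lit 0x2107044fa1)) (.leaf (nat_lit 0x2108044fa1))) (.node 1 (.leaf (nat_lit 0x2106044fb1)) (.leaf (nat_lit 0x2108044fb1)))) (.node 2 (.node 1 (.leaf (nat_lit 0x2107044fc1)) (.leaf (nat_lit 0x2103044fd1))) (.node 1 (.leaf (nat_lit 0x23040450b1)) (.leaf (nat_lit 0x2108044fe1))))))) (.node 16 (.node 8 (.node 4 (.node 2 (.node 1 (.leaf (nat_lit 0x2107044ff1)) (.leaf (nat_lit 0x2103045001))) (.node 1 (.leaf (nat_lit 0x2307045011)) (.leaf (nat_lit 0x2303045021)))) (.node 2 (.node 1 (.leaf (nat_lit 0x2107045031)) (.leaf (nat_lit 0x2108045041))) (.node 1 (.leaf (nat_lit 0x2107045051)) (.leaf (nat_lit 0x2103045061))))) (.node 4 (.node 2 (.node 1 (.leaf (nat_lit 0x2108045071)) (.leaf (nat_lit 0x2107045081))) (.node 1 (.leaf (nat_lit 0x2103045091)) (.leaf (nat_lit 0x21040450a1)))) (.node 2 (.node 1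 (.leaf (nat_lit 0x2103045191)) (.leaf (nat_lit 0x21070450c1))) (.node 1 (.leaf (nat_lit 0x21070450e1)) (.leaf (nat_lit 0x21030450f1)))))) (.node 8 (.node 4 (.node 2 (.node 1 (.leaf (nat_lit 0x2107045101)) (.leaf (nat_lit 0x2103045111))) (.node 1 (.leaf (nat_lit 0x2102045121)) (.leaf (nat_lit 0x2104045121)))) (.node 2 (.node 1 (.leaf (nat_lit 0x2107045131)) (.leaf (nat_lit 0x2104045151))) (.node 1 (.leaf (nat_lit 0x2105045161)) (.leaf (nat_lit 0x21020451b1))))) (.node 4 (.node 2 (.node 1 (.leaf (nat_lit 0x23070451c1)) (.leaf (nat_lit 0x23030451d1))) (.node 1 (.leaf (nat_lit 0x21070451e1)) (.leaf (nat_lit 0x21080451f1)))) (.node 2 (.node 1 (.leaf (nat_lit 0x2107045201)) (.leaf (nat_lit 0x2103045211))) (.node 1 (.leaf (nat_lit 0x2108045221)) (.leaf (nat_lit 0x2107045231))))))))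

noncomputable def oT154 : Tree :=
  .node 64 (.node 32 (.node 16 (.node 8 (.node 4 (.node 2 (.node 1 (.leaf (nat_lit 0x2103045241)) (.leaf (nat_lit 0x2104045251))) (.node 1 (.leaf (nat_lit 0x2303045261)) (.leaf (nat_lit 0x2103045281)))) (.node 2 (.node 1 (.leaf (nat_lit 0x2102045291)) (.leaf (nat_lit 0x2104045291))) (.node 1 (.leaf (nat_lit 0x21050452a1)) (.leaf (nat_lit 0x21060452e1))))) (.node 4 (.node 2 (.node 1 (.leaf (nat_lit 0x23070452f1)) (.leaf (nat_lit 0x2107045321))) (.node 1 (.leaf (nat_lit 0x23040453a1)) (.leaf (nat_lit 0x23080453a1)))) (.node 2 (.node 1 (.leaf (nat_lit 0x23080453c1)) (.leaf (nat_lit 0x23070453d1))) (.node 1 (.leaf (nat_lit 0x21070453e1)) (.leaf (nat_lit 0x2108045411)))))) (.node 8 (.node 4 (.node 2 (.node 1 (.leaf (nat_lit 0x2107045421)) (.leaf (nat_lit 0x2304045431))) (.node 1 (.leaf (nat_lit 0x2308045431)) (.leaf (nat_lit 0x2308045451)))) (.node 2 (.node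 1 (.leaf (nat_lit 0x2307045461)) (.leaf (nat_lit 0x2108045471))) (.node 1 (.leaf (nat_lit 0x2107045481)) (.leaf (nat_lit 0x21070454a1))))) (.node 4 (.node 2 (.node 1 (.leaf (nat_lit 0x21070454c1)) (.leaf (nat_lit 0x23020454f1))) (.node 1 (.leaf (nat_lit 0x2303045701)) (.leaf (nat_lit 0x2307051671)))) (.node 2 (.node 1 (.leaf (nat_lit 0x23080454f1)) (.leaf (nat_lit 0x2307045501))) (.node 1 (.leaf (nat_lit 0x230204f4d1)) (.leaf (nat_lit 0x2308045511))))))) (.node 16 (.node 8 (.node 4 (.node 2 (.node 1 (.leaf (nat_lit 0x2302050d01)) (.leaf (nat_lit 0x2307050271))) (.node 1 (.leaf (nat_lit 0x2304045531)) (.leaf (nat_lit 0x2303051781)))) (.node 2 (.node 1 (.leaf (nat_lit 0x2107045591)) (.leaf (nat_lit 0x2308045541))) (.node 1 (.leaf (nat_lit 0x2507045551)) (.leaf (nat_lit 0x2103045571))))) (.node 4 (.node 2 (.node 1 (.leaf (nat_lit 0x2105045571)) (.leaf (nat_lit 0x2108045571))) (.node 1 (.leaf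 (nat_lit 0x2107045581)) (.leaf (nat_lit 0x2105045591)))) (.node 2 (.node 1 (.leaf (nat_lit 0x2108045591)) (.leaf (nat_lit 0x21080455a1))) (.node 1 (.leaf (nat_lit 0x21070455b1)) (.leaf (nat_lit 0x21070455d1)))))) (.node 8 (.node 4 (.node 2 (.node 1 (.leaf (nat_lit 0x21030455e1)) (.leaf (nat_lit 0x230704f061))) (.node 1 (.leaf (nat_lit 0x2304045601)) (.leaf (nat_lit 0x2303051601)))) (.node 2 (.node 1 (.leaf (nat_lit 0x2308045611)) (.leaf (nat_lit 0x2304045631))) (.node 1 (.leaf (nat_lit 0x2108045641)) (.leaf (nat_lit 0x2307045651))))) (.node 4 (.node 2 (.node 1 (.leaf (nat_lit 0x2108045671)) (.leaf (nat_lit 0x2107045681))) (.node 1 (.leaf (nat_lit 0x21070456a1)) (.leaf (nat_lit 0x21030456b1)))) (.node 2 (.node 1 (.leaf (nat_lit 0x21030456d1)) (.leaf (nat_lit 0x2308045721))) (.node 1 (.leaf (nat_lit 0x2108045751)) (.leaf (nat_lit 0x2107045771)))))))) (.node 32 (.node 16 (.node 8 (.node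 4 (.node 2 (.node 1 (.leaf (nat_lit 0x21040457b1)) (.leaf (nat_lit 0x21080457b1))) (.node 1 (.leaf (nat_lit 0x21080457c1)) (.leaf (nat_lit 0x21070457d1)))) (.node 2 (.node 1 (.leaf (nat_lit 0x23080457e1)) (.leaf (nat_lit 0x23070457f1))) (.node 1 (.leaf (nat_lit 0x2107045801)) (.leaf (nat_lit 0x2306045871))))) (.node 4 (.node 2 (.node 1 (.leaf (nat_lit 0x2303045981)) (.leaf (nat_lit 0x2306052831))) (.node 1 (.leaf (nat_lit 0x2308045841)) (.leaf (nat_lit 0x2307045851)))) (.node 2 (.node 1 (.leaf (nat_lit 0x230504f4d1)) (.leaf (nat_lit 0x2308045861))) (.node 1 (.leaf (nat_lit 0x2308045871)) (.leaf (nat_lit 0x2303051ca1)))))) (.node 8 (.node 4 (.node 2 (.node 1 (.leaf (nat_lit 0x2507045891)) (.leaf (nat_lit 0x21040458b1))) (.node 1 (.leaf (nat_lit 0x21080458b1)) (.leaf (nat_lit 0x21030458c1)))) (.node 2 (.node 1 (.leaf (nat_lit 0x21080458c1)) (.leaf (nat_lit 0x21070458d1))) (.node 1 (.leaf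 (nat_lit 0x21070458e1)) (.leaf (nat_lit 0x21080458e1))))) (.node 4 (.node 2 (.node 1 (.leaf (nat_lit 0x21070458f1)) (.leaf (nat_lit 0x2103045911))) (.node 1 (.leaf (nat_lit 0x2103045a01)) (.leaf (nat_lit 0x2303051db1)))) (.node 2 (.node 1 (.leaf (nat_lit 0x2107045951)) (.leaf (nat_lit 0x21080459c1))) (.node 1 (.leaf (nat_lit 0x21080459e1)) (.leaf (nat_lit 0x21070459f1))))))) (.node 16 (.node 8 (.node 4 (.node 2 (.node 1 (.leaf (nat_lit 0x2100045a11)) (.leaf (nat_lit 0x2104045a11))) (.node 1 (.leaf (nat_lit 0x2108045a11)) (.leaf (nat_lit 0x2103045a21)))) (.node 2 (.node 1 (.leaf (nat_lit 0x2108045a21)) (.leaf (nat_lit 0x2107045a31))) (.node 1 (.leaf (nat_lit 0x2107045a41)) (.leaf (nat_lit 0x2304045a61))))) (.node 4 (.node 2 (.node 1 (.leaf (nat_lit 0x23030462a1)) (.leaf (nat_lit 0x230604f191))) (.node 1 (.leaf (nat_lit 0x2308045a71)) (.leaf (nat_lit 0x2307045a81)))) (.node 2 (.node 1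 (.leaf (nat_lit 0x2104045a91)) (.leaf (nat_lit 0x21030462b1))) (.node 1 (.leaf (nat_lit 0x23070518d1)) (.leaf (nat_lit 0x2308045aa1)))))) (.node 8 (.node 4 (.node 2 (.node 1 (.leaf (nat_lit 0x2303051891)) (.leaf (nat_lit 0x2307045ac1))) (.node 1 (.leaf (nat_lit 0x2104045ae1)) (.leaf (nat_lit 0x2108045ae1)))) (.node 2 (.node 1 (.leaf (nat_lit 0x2103045af1)) (.leaf (nat_lit 0x2105045af1))) (.node 1 (.leaf (nat_lit 0x2108045af1)) (.leaf (nat_lit 0x2107045b01))))) (.node 4 (.node 2 (.node 1 (.leaf (nat_lit 0x2105045b11)) (.leaf (nat_lit 0x2107045b11))) (.node 1 (.leaf (nat_lit 0x2108045b11)) (.leaf (nat_lit 0x2106045b21)))) (.node 2 (.node 1 (.leaf (nat_lit 0x2108045b21)) (.leaf (nat_lit 0x2107045b31))) (.node 1 (.leaf (nat_lit 0x2507045eb1)) (.leaf (nat_lit 0x2108045b51))))))))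

noncomputable def oT155 : Tree :=
  .node 64 (.node 32 (.node 16 (.node 8 (.node 4 (.node 2 (.node 1 (.leaf (nat_lit 0x2107045b61)) (.leaf (nat_lit 0x2103045b71))) (.node 1 (.leaf (nat_lit 0x2103046331)) (.leaf (nat_lit 0x2104045ba1)))) (.node 2 (.node 1 (.leaf (nat_lit 0x2103046921)) (.leaf (nat_lit 0x2107045bb1))) (.node 1 (.leaf (nat_lit 0x2107045be1)) (.leaf (nat_lit 0x2108045bf1))))) (.node 4 (.node 2 (.node 1 (.leaf (nat_lit 0x2107045c01)) (.leaf (nat_lit 0x230004e911))) (.node 1 (.leaf (nat_lit 0x2108045c21)) (.leaf (nat_lit 0x2107045c31)))) (.node 2 (.node 1 (.leaf (nat_lit 0x2103045c41)) (.leaf (nat_lit 0x2508045c51))) (.node 1 (.leaf (nat_lit 0x2107045c61)) (.leaf (nat_lit 0x2103045c91)))))) (.node 8 (.node 4 (.node 2 (.node 1 (.leaf (nat_lit 0x2304051eb1)) (.leaf (nat_lit 0x2107045cb1))) (.node 1 (.leaf (nat_lit 0x2103045cc1)) (.leaf (nat_lit 0x230304ef61)))) (.node 2 (.node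 1 (.leaf (nat_lit 0x2303051141)) (.leaf (nat_lit 0x2304045d11))) (.node 1 (.leaf (nat_lit 0x2303052561)) (.leaf (nat_lit 0x2305045db1))))) (.node 4 (.node 2 (.node 1 (.leaf (nat_lit 0x2508045d21)) (.leaf (nat_lit 0x2504045d41))) (.node 1 (.leaf (nat_lit 0x2105045d51)) (.leaf (nat_lit 0x2104045d61)))) (.node 2 (.node 1 (.leaf (nat_lit 0x2103046161)) (.leaf (nat_lit 0x2104046131))) (.node 1 (.leaf (nat_lit 0x2308045d81)) (.leaf (nat_lit 0x2304045da1))))))) (.node 16 (.node 8 (.node 4 (.node 2 (.node 1 (.leaf (nat_lit 0x2107046141)) (.leaf (nat_lit 0x230304e671))) (.node 1 (.leaf (nat_lit 0x2308045db1)) (.leaf (nat_lit 0x2307045dc1)))) (.node 2 (.node 1 (.leaf (nat_lit 0x2503045dd1)) (.leaf (nat_lit 0x2105045de1))) (.node 1 (.leaf (nat_lit 0x2108045de1)) (.leaf (nat_lit 0x2107045df1))))) (.node 4 (.node 2 (.node 1 (.leaf (nat_lit 0x2105045e01)) (.leaf (nat_lit 0x2108045e01))) (.node 1 (.leaf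 (nat_lit 0x2106045e11)) (.leaf (nat_lit 0x2108045e11)))) (.node 2 (.node 1 (.leaf (nat_lit 0x2107045e21)) (.leaf (nat_lit 0x2103045e31))) (.node 1 (.leaf (nat_lit 0x2106045e41)) (.leaf (nat_lit 0x2107045e41)))))) (.node 8 (.node 4 (.node 2 (.node 1 (.leaf (nat_lit 0x2108045e41)) (.leaf (nat_lit 0x2108045e51))) (.node 1 (.leaf (nat_lit 0x2107045e61)) (.leaf (nat_lit 0x2304046011)))) (.node 2 (.node 1 (.leaf (nat_lit 0x2108045e71)) (.leaf (nat_lit 0x2107045e81))) (.node 1 (.leaf (nat_lit 0x2103045e91)) (.leaf (nat_lit 0x2104045ea1))))) (.node 4 (.node 2 (.node 1 (.leaf (nat_lit 0x2304046061)) (.leaf (nat_lit 0x2107045ec1))) (.node 1 (.leaf (nat_lit 0x2103045ed1)) (.leaf (nat_lit 0x2102045ee1)))) (.node 2 (.node 1 (.leaf (nat_lit 0x2105045ef1)) (.leaf (nat_lit 0x2104045f01))) (.node 1 (.leaf (nat_lit 0x2103046691)) (.leaf (nat_lit 0x2105045f21)))))))) (.node 32 (.node 16 (.node 8 (.node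 4 (.node 2 (.node 1 (.leaf (nat_lit 0x2104045f31)) (.leaf (nat_lit 0x2307045f41))) (.node 1 (.leaf (nat_lit 0x23040548c1)) (.leaf (nat_lit 0x2107046181)))) (.node 2 (.node 1 (.leaf (nat_lit 0x2303046121)) (.leaf (nat_lit 0x2307045f81))) (.node 1 (.leaf (nat_lit 0x2108045fa1)) (.leaf (nat_lit 0x2107045fb1))))) (.node 4 (.node 2 (.node 1 (.leaf (nat_lit 0x2108045fd1)) (.leaf (nat_lit 0x2107045fe1))) (.node 1 (.leaf (nat_lit 0x2103045ff1)) (.leaf (nat_lit 0x2308046011)))) (.node 2 (.node 1 (.leaf (nat_lit 0x2107046021)) (.leaf (nat_lit 0x2103046031))) (.node 1 (.leaf (nat_lit 0x2104046041)) (.leaf (nat_lit 0x2105046051)))))) (.node 8 (.node 4 (.node 2 (.node 1 (.leaf (nat_lit 0x230304eff1)) (.leaf (nat_lit 0x2108046091))) (.node 1 (.leaf (nat_lit 0x21070460a1)) (.leaf (nat_lit 0x21030460b1)))) (.node 2 (.node 1 (.leaf (nat_lit 0x21020460c1)) (.leaf (nat_lit 0x2302046111))) (.node 1 (.leaf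 (nat_lit 0x21030460e1)) (.leaf (nat_lit 0x2107046151))))) (.node 4 (.node 2 (.node 1 (.leaf (nat_lit 0x2105046171)) (.leaf (nat_lit 0x2108046361))) (.node 1 (.leaf (nat_lit 0x21070461b1)) (.leaf (nat_lit 0x21060466d1)))) (.node 2 (.node 1 (.leaf (nat_lit 0x21080461e1)) (.leaf (nat_lit 0x23030461f1))) (.node 1 (.leaf (nat_lit 0x23080461f1)) (.leaf (nat_lit 0x2307046201))))))) (.node 16 (.node 8 (.node 4 (.node 2 (.node 1 (.leaf (nat_lit 0x2307046211)) (.leaf (nat_lit 0x2108046231))) (.node 1 (.leaf (nat_lit 0x2103046241)) (.leaf (nat_lit 0x2108046241)))) (.node 2 (.node 1 (.leaf (nat_lit 0x2107046251)) (.leaf (nat_lit 0x2107046261))) (.node 1 (.leaf (nat_lit 0x2108046261)) (.leaf (nat_lit 0x2107046271))))) (.node 4 (.node 2 (.node 1 (.leaf (nat_lit 0x2103046281)) (.leaf (nat_lit 0x23080462c1))) (.node 1 (.leaf (nat_lit 0x21020462f1)) (.leaf (nat_lit 0x21080462f1)))) (.node 2 (.node 1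 (.leaf (nat_lit 0x2108046311)) (.leaf (nat_lit 0x2107046321))) (.node 1 (.leaf (nat_lit 0x2106046361)) (.leaf (nat_lit 0x2105046431)))))) (.node 8 (.node 4 (.node 2 (.node 1 (.leaf (nat_lit 0x21070464a1)) (.leaf (nat_lit 0x21030464b1))) (.node 1 (.leaf (nat_lit 0x21070464c1)) (.leaf (nat_lit 0x21030464d1)))) (.node 2 (.node 1 (.leaf (nat_lit 0x2105046511)) (.leaf (nat_lit 0x2106046521))) (.node 1 (.leaf (nat_lit 0x2102046561)) (.leaf (nat_lit 0x2104046561))))) (.node 4 (.node 2 (.node 1 (.leaf (nat_lit 0x2104046571)) (.leaf (nat_lit 0x21070465e1))) (.node 1 (.leaf (nat_lit 0x21030465f1)) (.leaf (nat_lit 0x2104046601)))) (.node 2 (.node 1 (.leaf (nat_lit 0x21070466b1)) (.leaf (nat_lit 0x2105046661))) (.node 1 (.leaf (nat_lit 0x2107046671)) (.leaf (nat_lit 0x2107046681))))))))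

noncomputable def oT156 : Tree :=
  .node 64 (.node 32 (.node 16 (.node 8 (.node 4 (.node 2 (.node 1 (.leaf (nat_lit 0x21050466a1)) (.leaf (nat_lit 0x21080466d1))) (.node 1 (.leaf (nat_lit 0x21080466e1)) (.leaf (nat_lit 0x21070466f1)))) (.node 2 (.node 1 (.leaf (nat_lit 0x2103046701)) (.leaf (nat_lit 0x2107046711))) (.node 1 (.leaf (nat_lit 0x2108046711)) (.leaf (nat_lit 0x2108046721))))) (.node 4 (.node 2 (.node 1 (.leaf (nat_lit 0x2107046731)) (.leaf (nat_lit 0x2107046741))) (.node 1 (.leaf (nat_lit 0x2103046751)) (.leaf (nat_lit 0x2107046761)))) (.node 2 (.node 1 (.leaf (nat_lit 0x2103046771)) (.leaf (nat_lit 0x2102046781))) (.node 1 (.leaf (nat_lit 0x2104046781)) (.leaf (nat_lit 0x2105046791)))))) (.node 8 (.node 4 (.node 2 (.node 1 (.leaf (nat_lit 0x21020467b1)) (.leaf (nat_lit 0x21010467c1))) (.node 1 (.leaf (nat_lit 0x23030467f1)) (.leaf (nat_lit 0x2107046811)))) (.node 2 (.node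 1 (.leaf (nat_lit 0x2107046831)) (.leaf (nat_lit 0x2103046841))) (.node 1 (.leaf (nat_lit 0x2102046851)) (.leaf (nat_lit 0x2103046871))))) (.node 4 (.node 2 (.node 1 (.leaf (nat_lit 0x2104046881)) (.leaf (nat_lit 0x2105046891))) (.node 1 (.leaf (nat_lit 0x21070468b1)) (.leaf (nat_lit 0x21030468e1)))) (.node 2 (.node 1 (.leaf (nat_lit 0x2107046941)) (.leaf (nat_lit 0x2107046961))) (.node 1 (.leaf (nat_lit 0x2103046971)) (.leaf (nat_lit 0x21030469a1))))))) (.node 16 (.node 8 (.node 4 (.node 2 (.node 1 (.leaf (nat_lit 0x21030469c1)) (.leaf (nat_lit 0x2207046a71))) (.node 1 (.leaf (nat_lit 0x2208046aa1)) (.leaf (nat_lit 0x2207046ab1)))) (.node 2 (.node 1 (.leaf (nat_lit 0x2204046af1)) (.leaf (nat_lit 0x2204046b01))) (.node 1 (.leaf (nat_lit 0x2207046b41)) (.leaf (nat_lit 0x2207046b61))))) (.node 4 (.node 2 (.node 1 (.leaf (nat_lit 0x2203046b71)) (.leaf (nat_lit 0x2202046ba1))) (.node 1 (.leaf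 (nat_lit 0x1708046bc2)) (.leaf (nat_lit 0x1707046bd2)))) (.node 2 (.node 1 (.leaf (nat_lit 0x1708046be2)) (.leaf (nat_lit 0x1707046bf2))) (.node 1 (.leaf (nat_lit 0x1708046c02)) (.leaf (nat_lit 0x1707046c12)))))) (.node 8 (.node 4 (.node 2 (.node 1 (.leaf (nat_lit 0x1707046c22)) (.leaf (nat_lit 0x1703046c52))) (.node 1 (.leaf (nat_lit 0x1707046c62)) (.leaf (nat_lit 0x1707046ca2)))) (.node 2 (.node 1 (.leaf (nat_lit 0x1707046cb2)) (.leaf (nat_lit 0x1708046cf2))) (.node 1 (.leaf (nat_lit 0x1707046d02)) (.leaf (nat_lit 0x1703046d12))))) (.node 4 (.node 2 (.node 1 (.leaf (nat_lit 0x1703046d32)) (.leaf (nat_lit 0x1702046d42))) (.node 1 (.leaf (nat_lit 0x2204046d51)) (.leaf (nat_lit 0x2208046d51)))) (.node 2 (.node 1 (.leaf (nat_lit 0x2205046d71)) (.leaf (nat_lit 0x2208046d71))) (.node 1 (.leaf (nat_lit 0x2207046d81)) (.leaf (nat_lit 0x2207046db1)))))))) (.node 32 (.node 16 (.node 8 (.node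 4 (.node 2 (.node 1 (.leaf (nat_lit 0x220604b5e1)) (.leaf (nat_lit 0x2203046de1))) (.node 1 (.leaf (nat_lit 0x2204046df1)) (.leaf (nat_lit 0x2208046df1)))) (.node 2 (.node 1 (.leaf (nat_lit 0x2205046e01)) (.leaf (nat_lit 0x2208046e01))) (.node 1 (.leaf (nat_lit 0x2207046e11)) (.leaf (nat_lit 0x2201048c21))))) (.node 4 (.node 2 (.node 1 (.leaf (nat_lit 0x2208046e21)) (.leaf (nat_lit 0x22030471e1))) (.node 1 (.leaf (nat_lit 0x2200046e41)) (.leaf (nat_lit 0x2204046e41)))) (.node 2 (.node 1 (.leaf (nat_lit 0x2208046e41)) (.leaf (nat_lit 0x2205046e51))) (.node 1 (.leaf (nat_lit 0x2208046e51)) (.leaf (nat_lit 0x2207046e61)))))) (.node 8 (.node 4 (.node 2 (.node 1 (.leaf (nat_lit 0x2208046e71)) (.leaf (nat_lit 0x2207046e81))) (.node 1 (.leaf (nat_lit 0x2208046ea1)) (.leaf (nat_lit 0x2208046eb1)))) (.node 2 (.node 1 (.leaf (nat_lit 0x2207046ec1)) (.leaf (nat_lit 0x2207046ed1))) (.node 1 (.leaf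 (nat_lit 0x2203046ef1)) (.leaf (nat_lit 0x2208046f01))))) (.node 4 (.node 2 (.node 1 (.leaf (nat_lit 0x2207046f21)) (.leaf (nat_lit 0x2203046f31))) (.node 1 (.leaf (nat_lit 0x2202046f41)) (.leaf (nat_lit 0x2208046f61)))) (.node 2 (.node 1 (.leaf (nat_lit 0x2207046f81)) (.leaf (nat_lit 0x2204046fc1))) (.node 1 (.leaf (nat_lit 0x2208046fc1)) (.leaf (nat_lit 0x2207046fe1))))))) (.node 16 (.node 8 (.node 4 (.node 2 (.node 1 (.leaf (nat_lit 0x2207046ff1)) (.leaf (nat_lit 0x2203047011))) (.node 1 (.leaf (nat_lit 0x2208047021)) (.leaf (nat_lit 0x2207047031)))) (.node 2 (.node 1 (.leaf (nat_lit 0x2208047051)) (.leaf (nat_lit 0x2207047061))) (.node 1 (.leaf (nat_lit 0x2203047071)) (.leaf (nat_lit 0x22040470c1))))) (.node 4 (.node 2 (.node 1 (.leaf (nat_lit 0x22080470c1)) (.leaf (nat_lit 0x22050470e1))) (.node 1 (.leaf (nat_lit 0x22080470e1)) (.leaf (nat_lit 0x22070470f1)))) (.node 2 (.node 1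 (.leaf (nat_lit 0x2207047101)) (.leaf (nat_lit 0x2206047111))) (.node 1 (.leaf (nat_lit 0x2208047111)) (.leaf (nat_lit 0x2207047121)))))) (.node 8 (.node 4 (.node 2 (.node 1 (.leaf (nat_lit 0x2208047141)) (.leaf (nat_lit 0x2207047151))) (.node 1 (.leaf (nat_lit 0x2203047161)) (.leaf (nat_lit 0x2208047171)))) (.node 2 (.node 1 (.leaf (nat_lit 0x2207047181)) (.leaf (nat_lit 0x2208047191))) (.node 1 (.leaf (nat_lit 0x22070471a1)) (.leaf (nat_lit 0x22060471b1))))) (.node 4 (.node 2 (.node 1 (.leaf (nat_lit 0x22080471b1)) (.leaf (nat_lit 0x22070471c1))) (.node 1 (.leaf (nat_lit 0x2200048ec1)) (.leaf (nat_lit 0x2208047201)))) (.node 2 (.node 1 (.leaf (nat_lit 0x2207047211)) (.leaf (nat_lit 0x2203047221))) (.node 1 (.leaf (nat_lit 0x2208047241)) (.leaf (nat_lit 0x2207047251))))))))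

noncomputable def oT157 : Tree :=
  .node 64 (.node 32 (.node 16 (.node 8 (.node 4 (.node 2 (.node 1 (.leaf (nat_lit 0x2208047271)) (.leaf (nat_lit 0x2207047281))) (.node 1 (.leaf (nat_lit 0x2203047291)) (.leaf (nat_lit 0x22020472a1)))) (.node 2 (.node 1 (.leaf (nat_lit 0x22080472b1)) (.leaf (nat_lit 0x22070472c1))) (.node 1 (.leaf (nat_lit 0x22030472d1)) (.leaf (nat_lit 0x22020472e1))))) (.node 4 (.node 2 (.node 1 (.leaf (nat_lit 0x2203047301)) (.leaf (nat_lit 0x2201047321))) (.node 1 (.leaf (nat_lit 0x2207047a11)) (.leaf (nat_lit 0x2408047331)))) (.node 2 (.node 1 (.leaf (nat_lit 0x2202047341)) (.leaf (nat_lit 0x2204047341))) (.node 1 (.leaf (nat_lit 0x2208047341)) (.leaf (nat_lit 0x2401049fa1)))))) (.node 8 (.node 4 (.node 2 (.node 1 (.leaf (nat_lit 0x2407047c41)) (.leaf (nat_lit 0x220104bc21))) (.node 1 (.leaf (nat_lit 0x24050551a1)) (.leaf (nat_lit 0x2408047371)))) (.node 2 (.node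 1 (.leaf (nat_lit 0x2204047391)) (.leaf (nat_lit 0x2208047391))) (.node 1 (.leaf (nat_lit 0x22050473a1)) (.leaf (nat_lit 0x22080473a1))))) (.node 4 (.node 2 (.node 1 (.leaf (nat_lit 0x22070473b1)) (.leaf (nat_lit 0x22080473c1))) (.node 1 (.leaf (nat_lit 0x220104a011)) (.leaf (nat_lit 0x22080473d1)))) (.node 2 (.node 1 (.leaf (nat_lit 0x2403047d21)) (.leaf (nat_lit 0x22070473f1))) (.node 1 (.leaf (nat_lit 0x2208047401)) (.leaf (nat_lit 0x2207047411))))))) (.node 16 (.node 8 (.node 4 (.node 2 (.node 1 (.leaf (nat_lit 0x2203047431)) (.leaf (nat_lit 0x2203047441))) (.node 1 (.leaf (nat_lit 0x220504cbf1)) (.leaf (nat_lit 0x2403047461)))) (.node 2 (.node 1 (.leaf (nat_lit 0x2204047471)) (.leaf (nat_lit 0x2208047471))) (.node 1 (.leaf (nat_lit 0x2204047521)) (.leaf (nat_lit 0x2404047491))))) (.node 4 (.node 2 (.node 1 (.leaf (nat_lit 0x2403047e81)) (.leaf (nat_lit 0x22040474a1))) (.node 1 (.leaf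 (nat_lit 0x22080474a1)) (.leaf (nat_lit 0x22030474b1)))) (.node 2 (.node 1 (.leaf (nat_lit 0x22050474b1)) (.leaf (nat_lit 0x22080474b1))) (.node 1 (.leaf (nat_lit 0x22070474c1)) (.leaf (nat_lit 0x22080474d1)))))) (.node 8 (.node 4 (.node 2 (.node 1 (.leaf (nat_lit 0x22070474e1)) (.leaf (nat_lit 0x220104b7f1))) (.node 1 (.leaf (nat_lit 0x2208047501)) (.leaf (nat_lit 0x2207047511)))) (.node 2 (.node 1 (.leaf (nat_lit 0x2201049f71)) (.leaf (nat_lit 0x2208047521))) (.node 1 (.leaf (nat_lit 0x2207047531)) (.leaf (nat_lit 0x2207047551))))) (.node 4 (.node 2 (.node 1 (.leaf (nat_lit 0x2208047561)) (.leaf (nat_lit 0x2207047571))) (.node 1 (.leaf (nat_lit 0x2203047581)) (.leaf (nat_lit 0x2207047591)))) (.node 2 (.node 1 (.leaf (nat_lit 0x22030475a1)) (.leaf (nat_lit 0x22030475b1))) (.node 1 (.leaf (nat_lit 0x22030475c1)) (.leaf (nat_lit 0x22040475d1)))))))) (.node 32 (.node 16 (.node 8 (.node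 4 (.node 2 (.node 1 (.leaf (nat_lit 0x22020475e1)) (.leaf (nat_lit 0x22080475f1))) (.node 1 (.leaf (nat_lit 0x2207047601)) (.leaf (nat_lit 0x2204048131)))) (.node 2 (.node 1 (.leaf (nat_lit 0x2203047621)) (.leaf (nat_lit 0x2202047631))) (.node 1 (.leaf (nat_lit 0x2201047641)) (.leaf (nat_lit 0x2202047661))))) (.node 4 (.node 2 (.node 1 (.leaf (nat_lit 0x2203047671)) (.leaf (nat_lit 0x2208047671))) (.node 1 (.leaf (nat_lit 0x2207047681)) (.leaf (nat_lit 0x2207047691)))) (.node 2 (.node 1 (.leaf (nat_lit 0x2208047691)) (.leaf (nat_lit 0x22070476a1))) (.node 1 (.leaf (nat_lit 0x22030476b1)) (.leaf (nat_lit 0x22020482a1)))))) (.node 8 (.node 4 (.node 2 (.node 1 (.leaf (nat_lit 0x22030476e1)) (.leaf (nat_lit 0x22040476f1))) (.node 1 (.leaf (nat_lit 0x2207047741)) (.leaf (nat_lit 0x2203047751)))) (.node 2 (.node 1 (.leaf (nat_lit 0x220204a1e1)) (.leaf (nat_lit 0x22080477b1))) (.node 1 (.leaf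 (nat_lit 0x22040477c1)) (.leaf (nat_lit 0x22080477c1))))) (.node 4 (.node 2 (.node 1 (.leaf (nat_lit 0x22080477e1)) (.leaf (nat_lit 0x2207047801))) (.node 1 (.leaf (nat_lit 0x2206047831)) (.leaf (nat_lit 0x2208047821)))) (.node 2 (.node 1 (.leaf (nat_lit 0x220704a1e1)) (.leaf (nat_lit 0x220504cd41))) (.node 1 (.leaf (nat_lit 0x2208047831)) (.leaf (nat_lit 0x2204047851))))))) (.node 16 (.node 8 (.node 4 (.node 2 (.node 1 (.leaf (nat_lit 0x2208047851)) (.leaf (nat_lit 0x2205047861))) (.node 1 (.leaf (nat_lit 0x2208047861)) (.leaf (nat_lit 0x2207047871)))) (.node 2 (.node 1 (.leaf (nat_lit 0x2208047881)) (.leaf (nat_lit 0x2207047891))) (.node 1 (.leaf (nat_lit 0x22070478a1)) (.leaf (nat_lit 0x22080478b1))))) (.node 4 (.node 2 (.node 1 (.leaf (nat_lit 0x22070478c1)) (.leaf (nat_lit 0x22030478e1))) (.node 1 (.leaf (nat_lit 0x22030478f1)) (.leaf (nat_lit 0x2207047901)))) (.node 2 (.node 1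 (.leaf (nat_lit 0x2203047911)) (.leaf (nat_lit 0x2204047931))) (.node 1 (.leaf (nat_lit 0x2208047931)) (.leaf (nat_lit 0x2207047a31)))))) (.node 8 (.node 4 (.node 2 (.node 1 (.leaf (nat_lit 0x2208047951)) (.leaf (nat_lit 0x2204047971))) (.node 1 (.leaf (nat_lit 0x2208047971)) (.leaf (nat_lit 0x2205047981)))) (.node 2 (.node 1 (.leaf (nat_lit 0x2208047981)) (.leaf (nat_lit 0x2207047991))) (.node 1 (.leaf (nat_lit 0x22070479a1)) (.leaf (nat_lit 0x22070479b1))))) (.node 4 (.node 2 (.node 1 (.leaf (nat_lit 0x22080479c1)) (.leaf (nat_lit 0x22070479d1))) (.node 1 (.leaf (nat_lit 0x22030479f1)) (.leaf (nat_lit 0x2203047a01)))) (.node 2 (.node 1 (.leaf (nat_lit 0x2206047a31)) (.leaf (nat_lit 0x2208047a11))) (.node 1 (.leaf (nat_lit 0x2208047a31)) (.leaf (nat_lit 0x2207047a41))))))))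

noncomputable def oT158 : Tree :=
  .node 64 (.node 32 (.node 16 (.node 8 (.node 4 (.node 2 (.node 1 (.leaf (nat_lit 0x2208047a51)) (.leaf (nat_lit 0x2207047a61))) (.node 1 (.leaf (nat_lit 0x2206047a71)) (.leaf (nat_lit 0x2208047a71)))) (.node 2 (.node 1 (.leaf (nat_lit 0x2207047a81)) (.leaf (nat_lit 0x2203047ab1))) (.node 1 (.leaf (nat_lit 0x2203047b41)) (.leaf (nat_lit 0x2208047ac1))))) (.node 4 (.node 2 (.node 1 (.leaf (nat_lit 0x2207047ad1)) (.leaf (nat_lit 0x2203047ae1))) (.node 1 (.leaf (nat_lit 0x2208047b01)) (.leaf (nat_lit 0x2207047b11)))) (.node 2 (.node 1 (.leaf (nat_lit 0x2203047b21)) (.leaf (nat_lit 0x2208047b41))) (.node 1 (.leaf (nat_lit 0x2207047b51)) (.leaf (nat_lit 0x2203047b61)))))) (.node 8 (.node 4 (.node 2 (.node 1 (.leaf (nat_lit 0x2204047bb1)) (.leaf (nat_lit 0x2203047b91))) (.node 1 (.leaf (nat_lit 0x2203047bc1)) (.leaf (nat_lit 0x240004c491)))) (.node 2 (.node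 1 (.leaf (nat_lit 0x240704da11)) (.leaf (nat_lit 0x2408047be1))) (.node 1 (.leaf (nat_lit 0x2201047c01)) (.leaf (nat_lit 0x2204047c01))))) (.node 4 (.node 2 (.node 1 (.leaf (nat_lit 0x2208047c01)) (.leaf (nat_lit 0x2205047c11))) (.node 1 (.leaf (nat_lit 0x2208047c11)) (.leaf (nat_lit 0x2207047c21)))) (.node 2 (.node 1 (.leaf (nat_lit 0x2407047e11)) (.leaf (nat_lit 0x2408047c31))) (.node 1 (.leaf (nat_lit 0x2207047e31)) (.leaf (nat_lit 0x2207047e41))))))) (.node 16 (.node 8 (.node 4 (.node 2 (.node 1 (.leaf (nat_lit 0x2208047c51)) (.leaf (nat_lit 0x2207047e61))) (.node 1 (.leaf (nat_lit 0x2408047c61)) (.leaf (nat_lit 0x2407047c71)))) (.node 2 (.node 1 (.leaf (nat_lit 0x2204047c81)) (.leaf (nat_lit 0x2208047c81))) (.node 1 (.leaf (nat_lit 0x2203047c91)) (.leaf (nat_lit 0x2205047c91))))) (.node 4 (.node 2 (.node 1 (.leaf (nat_lit 0x2208047c91)) (.leaf (nat_lit 0x2207047ca1))) (.node 1 (.leaf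 (nat_lit 0x2206047cb1)) (.leaf (nat_lit 0x2208047cb1)))) (.node 2 (.node 1 (.leaf (nat_lit 0x2207047cc1)) (.leaf (nat_lit 0x2208047ce1))) (.node 1 (.leaf (nat_lit 0x2207047cf1)) (.leaf (nat_lit 0x2207047f61)))))) (.node 8 (.node 4 (.node 2 (.node 1 (.leaf (nat_lit 0x2208047d01)) (.leaf (nat_lit 0x2207047d11))) (.node 1 (.leaf (nat_lit 0x2207047d31)) (.leaf (nat_lit 0x2208047d41)))) (.node 2 (.node 1 (.leaf (nat_lit 0x2207047d51)) (.leaf (nat_lit 0x2203047d61))) (.node 1 (.leaf (nat_lit 0x220204b321)) (.leaf (nat_lit 0x2208047d71))))) (.node 4 (.node 2 (.node 1 (.leaf (nat_lit 0x2207047d81)) (.leaf (nat_lit 0x2203047d91))) (.node 1 (.leaf (nat_lit 0x2203047da1)) (.leaf (nat_lit 0x2204047dc1)))) (.node 2 (.node 1 (.leaf (nat_lit 0x220204d5a1)) (.leaf (nat_lit 0x2207047de1))) (.node 1 (.leaf (nat_lit 0x2203047df1)) (.leaf (nat_lit 0x2202047e01)))))))) (.node 32 (.node 16 (.node 8 (.node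 4 (.node 2 (.node 1 (.leaf (nat_lit 0x2405047e11)) (.leaf (nat_lit 0x2408047e11))) (.node 1 (.leaf (nat_lit 0x2407047e21)) (.leaf (nat_lit 0x22030481c1)))) (.node 2 (.node 1 (.leaf (nat_lit 0x220304b8a1)) (.leaf (nat_lit 0x2208047e31))) (.node 1 (.leaf (nat_lit 0x2208047e41)) (.leaf (nat_lit 0x2207047e51))))) (.node 4 (.node 2 (.node 1 (.leaf (nat_lit 0x2203049411)) (.leaf (nat_lit 0x2208047e61))) (.node 1 (.leaf (nat_lit 0x2407047e71)) (.leaf (nat_lit 0x2204047e91)))) (.node 2 (.node 1 (.leaf (nat_lit 0x2208047e91)) (.leaf (nat_lit 0x2203047ea1))) (.node 1 (.leaf (nat_lit 0x2205047ea1)) (.leaf (nat_lit 0x2208047ea1)))))) (.node 8 (.node 4 (.node 2 (.node 1 (.leaf (nat_lit 0x2207047eb1)) (.leaf (nat_lit 0x2207047ec1))) (.node 1 (.leaf (nat_lit 0x2208047ec1)) (.leaf (nat_lit 0x2206047ed1)))) (.node 2 (.node 1 (.leaf (nat_lit 0x2208047ed1)) (.leaf (nat_lit 0x2207047ee1))) (.node 1 (.leaf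 (nat_lit 0x2203047ef1)) (.leaf (nat_lit 0x2403054fe1))))) (.node 4 (.node 2 (.node 1 (.leaf (nat_lit 0x2208047f01)) (.leaf (nat_lit 0x2207047f11))) (.node 1 (.leaf (nat_lit 0x2203047f21)) (.leaf (nat_lit 0x2208047f31)))) (.node 2 (.node 1 (.leaf (nat_lit 0x2207047f41)) (.leaf (nat_lit 0x2203047f51))) (.node 1 (.leaf (nat_lit 0x2203048101)) (.leaf (nat_lit 0x2208047f61))))))) (.node 16 (.node 8 (.node 4 (.node 2 (.node 1 (.leaf (nat_lit 0x2207047f71)) (.leaf (nat_lit 0x2203047f81))) (.node 1 (.leaf (nat_lit 0x2207047f91)) (.leaf (nat_lit 0x2208047fa1)))) (.node 2 (.node 1 (.leaf (nat_lit 0x2207047fb1)) (.leaf (nat_lit 0x2203047fc1))) (.node 1 (.leaf (nat_lit 0x220704b321)) (.leaf (nat_lit 0x2208047fd1))))) (.node 4 (.node 2 (.node 1 (.leaf (nat_lit 0x2207047fe1)) (.leaf (nat_lit 0x2204048001))) (.node 1 (.leaf (nat_lit 0x2408048011)) (.leaf (nat_lit 0x2207048021)))) (.node 2 (.node 1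 (.leaf (nat_lit 0x2203048031)) (.leaf (nat_lit 0x2202048041))) (.node 1 (.leaf (nat_lit 0x2203048051)) (.leaf (nat_lit 0x2204048071)))))) (.node 8 (.node 4 (.node 2 (.node 1 (.leaf (nat_lit 0x220304b1d1)) (.leaf (nat_lit 0x2207048091))) (.node 1 (.leaf (nat_lit 0x22050480b1)) (.leaf (nat_lit 0x240404c461)))) (.node 2 (.node 1 (.leaf (nat_lit 0x22030480d1)) (.leaf (nat_lit 0x22010480f1))) (.node 1 (.leaf (nat_lit 0x2208048101)) (.leaf (nat_lit 0x2207048111))))) (.node 4 (.node 2 (.node 1 (.leaf (nat_lit 0x2203048121)) (.leaf (nat_lit 0x2202048131))) (.node 1 (.leaf (nat_lit 0x2205048181)) (.leaf (nat_lit 0x2203048151)))) (.node 2 (.node 1 (.leaf (nat_lit 0x2202048161)) (.leaf (nat_lit 0x2204048161))) (.node 1 (.leaf (nat_lit 0x2201048171)) (.leaf (nat_lit 0x220404df11))))))))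

noncomputable def oT159 : Tree :=
  .node 64 (.node 32 (.node 16 (.node 8 (.node 4 (.node 2 (.node 1 (.leaf (nat_lit 0x2202048191)) (.leaf (nat_lit 0x22080481c1))) (.node 1 (.leaf (nat_lit 0x22070481d1)) (.leaf (nat_lit 0x22030481e1)))) (.node 2 (.node 1 (.leaf (nat_lit 0x22030481f1)) (.leaf (nat_lit 0x22080481f1))) (.node 1 (.leaf (nat_lit 0x2207048201)) (.leaf (nat_lit 0x2207048211))))) (.node 4 (.node 2 (.node 1 (.leaf (nat_lit 0x2208048211)) (.leaf (nat_lit 0x2207048221))) (.node 1 (.leaf (nat_lit 0x2203048231)) (.leaf (nat_lit 0x2208048241)))) (.node 2 (.node 1 (.leaf (nat_lit 0x2207048251)) (.leaf (nat_lit 0x2203048261))) (.node 1 (.leaf (nat_lit 0x2204048271)) (.leaf (nat_lit 0x2207048281)))))) (.node 8 (.node 4 (.node 2 (.node 1 (.leaf (nat_lit 0x2203048291)) (.leaf (nat_lit 0x22040482a1))) (.node 1 (.leaf (nat_lit 0x22040482c1)) (.leaf (nat_lit 0x22050482d1)))) (.node 2 (.node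 1 (.leaf (nat_lit 0x22060482f1)) (.leaf (nat_lit 0x2207048301))) (.node 1 (.leaf (nat_lit 0x2207049141)) (.leaf (nat_lit 0x2207048331))))) (.node 4 (.node 2 (.node 1 (.leaf (nat_lit 0x1708048412)) (.leaf (nat_lit 0x1707048432))) (.node 1 (.leaf (nat_lit 0x1708048442)) (.leaf (nat_lit 0x1708048462)))) (.node 2 (.node 1 (.leaf (nat_lit 0x1708048472)) (.leaf (nat_lit 0x1707048482))) (.node 1 (.leaf (nat_lit 0x17080484a2)) (.leaf (nat_lit 0x17070484d2))))))) (.node 16 (.node 8 (.node 4 (.node 2 (.node 1 (.leaf (nat_lit 0x17070484e2)) (.leaf (nat_lit 0x17070484f2))) (.node 1 (.leaf (nat_lit 0x1703048512)) (.leaf (nat_lit 0x1703048522)))) (.node 2 (.node 1 (.leaf (nat_lit 0x1707048532)) (.leaf (nat_lit 0x1708048542))) (.node 1 (.leaf (nat_lit 0x1707048552)) (.leaf (nat_lit 0x1708048562))))) (.node 4 (.node 2 (.node 1 (.leaf (nat_lit 0x1707048572)) (.leaf (nat_lit 0x1707048592))) (.node 1 (.leaf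 (nat_lit 0x22070485a1)) (.leaf (nat_lit 0x17070485c2)))) (.node 2 (.node 1 (.leaf (nat_lit 0x17030485d2)) (.leaf (nat_lit 0x17070485e2))) (.node 1 (.leaf (nat_lit 0x17030485f2)) (.leaf (nat_lit 0x1703048602)))))) (.node 8 (.node 4 (.node 2 (.node 1 (.leaf (nat_lit 0x1702048612)) (.leaf (nat_lit 0x1703048622))) (.node 1 (.leaf (nat_lit 0x1704048632)) (.leaf (nat_lit 0x1707048652)))) (.node 2 (.node 1 (.leaf (nat_lit 0x1707048662)) (.leaf (nat_lit 0x1708048672))) (.node 1 (.leaf (nat_lit 0x1707048682)) (.leaf (nat_lit 0x22080486a1))))) (.node 4 (.node 2 (.node 1 (.leaf (nat_lit 0x17080486c2)) (.leaf (nat_lit 0x17070486d2))) (.node 1 (.leaf (nat_lit 0x17080486e2)) (.leaf (nat_lit 0x17080486f2)))) (.node 2 (.node 1 (.leaf (nat_lit 0x1707048702)) (.leaf (nat_lit 0x1707048712))) (.node 1 (.leaf (nat_lit 0x1707048732)) (.leaf (nat_lit 0x2203048fd1)))))))) (.node 32 (.node 16 (.node 8 (.node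 4 (.node 2 (.node 1 (.leaf (nat_lit 0x1707048752)) (.leaf (nat_lit 0x1708048762))) (.node 1 (.leaf (nat_lit 0x1707048772)) (.leaf (nat_lit 0x1707048792)))) (.node 2 (.node 1 (.leaf (nat_lit 0x17070487a2)) (.leaf (nat_lit 0x17030487b2))) (.node 1 (.leaf (nat_lit 0x17030487c2)) (.leaf (nat_lit 0x17070487d2))))) (.node 4 (.node 2 (.node 1 (.leaf (nat_lit 0x17020487f2)) (.leaf (nat_lit 0x1703048822))) (.node 1 (.leaf (nat_lit 0x1704048832)) (.leaf (nat_lit 0x1707048842)))) (.node 2 (.node 1 (.leaf (nat_lit 0x2207048851)) (.leaf (nat_lit 0x1707048862))) (.node 1 (.leaf (nat_lit 0x1707048872)) (.leaf (nat_lit 0x1707048892)))))) (.node 8 (.node 4 (.node 2 (.node 1 (.leaf (nat_lit 0x17070488a2)) (.leaf (nat_lit 0x17030488b2))) (.node 1 (.leaf (nat_lit 0x17070488c2)) (.leaf (nat_lit 0x17030488d2)))) (.node 2 (.node 1 (.leaf (nat_lit 0x17070488e2)) (.leaf (nat_lit 0x1707048912))) (.node 1 (.leaf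 (nat_lit 0x1703048922)) (.leaf (nat_lit 0x1703048932))))) (.node 4 (.node 2 (.node 1 (.leaf (nat_lit 0x1707048942)) (.leaf (nat_lit 0x1707048952))) (.node 1 (.leaf (nat_lit 0x1703048962)) (.leaf (nat_lit 0x1707048972)))) (.node 2 (.node 1 (.leaf (nat_lit 0x1703048982)) (.leaf (nat_lit 0x1704048992))) (.node 1 (.leaf (nat_lit 0x17070489a2)) (.leaf (nat_lit 0x17030489b2))))))) (.node 16 (.node 8 (.node 4 (.node 2 (.node 1 (.leaf (nat_lit 0x17020489c2)) (.leaf (nat_lit 0x17020489e2))) (.node 1 (.leaf (nat_lit 0x17010489f2)) (.leaf (nat_lit 0x2207048a61)))) (.node 2 (.node 1 (.leaf (nat_lit 0x2205048b01)) (.leaf (nat_lit 0x22070491d1))) (.node 1 (.leaf (nat_lit 0x2204048ae1)) (.leaf (nat_lit 0x2208048ae1))))) (.node 4 (.node 2 (.node 1 (.leaf (nat_lit 0x2208048b01)) (.leaf (nat_lit 0x2207048b21))) (.node 1 (.leaf (nat_lit 0x2205048b71)) (.leaf (nat_lit 0x2208048b41)))) (.node 2 (.node 1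 (.leaf (nat_lit 0x2202048b51)) (.leaf (nat_lit 0x2204048b51))) (.node 1 (.leaf (nat_lit 0x2208048b51)) (.leaf (nat_lit 0x2208048b71)))))) (.node 8 (.node 4 (.node 2 (.node 1 (.leaf (nat_lit 0x2208048b91)) (.leaf (nat_lit 0x2205048ba1))) (.node 1 (.leaf (nat_lit 0x2208048ba1)) (.leaf (nat_lit 0x2207048bb1)))) (.node 2 (.node 1 (.leaf (nat_lit 0x2207048bc1)) (.leaf (nat_lit 0x2207048bd1))) (.node 1 (.leaf (nat_lit 0x2206048c01)) (.leaf (nat_lit 0x24070493c1))))) (.node 4 (.node 2 (.node 1 (.leaf (nat_lit 0x2205048ed1)) (.leaf (nat_lit 0x2208048c01))) (.node 1 (.leaf (nat_lit 0x2204048c21)) (.leaf (nat_lit 0x2208048c21)))) (.node 2 (.node 1 (.leaf (nat_lit 0x2205048c31)) (.leaf (nat_lit 0x2208048c31))) (.node 1 (.leaf (nat_lit 0x2207048c41)) (.leaf (nat_lit 0x2207048c51))))))))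

noncomputable def oT160 : Tree :=
  .node 64 (.node 32 (.node 16 (.node 8 (.node 4 (.node 2 (.node 1 (.leaf (nat_lit 0x2207048c61)) (.leaf (nat_lit 0x2208048c71))) (.node 1 (.leaf (nat_lit 0x2207048c81)) (.leaf (nat_lit 0x2207048ca1)))) (.node 2 (.node 1 (.leaf (nat_lit 0x2203048cb1)) (.leaf (nat_lit 0x2203048cc1))) (.node 1 (.leaf (nat_lit 0x2207048cd1)) (.leaf (nat_lit 0x2203048ce1))))) (.node 4 (.node 2 (.node 1 (.leaf (nat_lit 0x2207048d11)) (.leaf (nat_lit 0x2203048d31))) (.node 1 (.leaf (nat_lit 0x2202048d51)) (.leaf (nat_lit 0x2204048d51)))) (.node 2 (.node 1 (.leaf (nat_lit 0x2208048d51)) (.leaf (nat_lit 0x220604cd51))) (.node 1 (.leaf (nat_lit 0x2208048d71)) (.leaf (nat_lit 0x2201048d91)))))) (.node 8 (.node 4 (.node 2 (.node 1 (.leaf (nat_lit 0x2204048d91)) (.leaf (nat_lit 0x2208048d91))) (.node 1 (.leaf (nat_lit 0x2205048da1)) (.leaf (nat_lit 0x2208048da1)))) (.node 2 (.node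 1 (.leaf (nat_lit 0x2207048db1)) (.leaf (nat_lit 0x2207048dc1))) (.node 1 (.leaf (nat_lit 0x2208048dd1)) (.leaf (nat_lit 0x2207048de1))))) (.node 4 (.node 2 (.node 1 (.leaf (nat_lit 0x2206048df1)) (.leaf (nat_lit 0x2208048df1))) (.node 1 (.leaf (nat_lit 0x2207048e01)) (.leaf (nat_lit 0x2207048e21)))) (.node 2 (.node 1 (.leaf (nat_lit 0x2207048e31)) (.leaf (nat_lit 0x2203048e41))) (.node 1 (.leaf (nat_lit 0x2208048e51)) (.leaf (nat_lit 0x2207048e61))))))) (.node 16 (.node 8 (.node 4 (.node 2 (.node 1 (.leaf (nat_lit 0x2203048e71)) (.leaf (nat_lit 0x220504cbd1))) (.node 1 (.leaf (nat_lit 0x2208048e81)) (.leaf (nat_lit 0x2408048ea1)))) (.node 2 (.node 1 (.leaf (nat_lit 0x2407048eb1)) (.leaf (nat_lit 0x2204048ec1))) (.node 1 (.leaf (nat_lit 0x2208048ec1)) (.leaf (nat_lit 0x2203048ed1))))) (.node 4 (.node 2 (.node 1 (.leaf (nat_lit 0x2208048ed1)) (.leaf (nat_lit 0x2207048ee1))) (.node 1 (.leaf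 (nat_lit 0x2206048ef1)) (.leaf (nat_lit 0x2208048ef1)))) (.node 2 (.node 1 (.leaf (nat_lit 0x2207048f01)) (.leaf (nat_lit 0x2207048f31))) (.node 1 (.leaf (nat_lit 0x2203048f41)) (.leaf (nat_lit 0x2208048f51)))))) (.node 8 (.node 4 (.node 2 (.node 1 (.leaf (nat_lit 0x2207048f61)) (.leaf (nat_lit 0x2203048f71))) (.node 1 (.leaf (nat_lit 0x2207048f81)) (.leaf (nat_lit 0x2207048f91)))) (.node 2 (.node 1 (.leaf (nat_lit 0x2203048fa1)) (.leaf (nat_lit 0x2208048fb1))) (.node 1 (.leaf (nat_lit 0x2207048fc1)) (.leaf (nat_lit 0x2204048fe1))))) (.node 4 (.node 2 (.node 1 (.leaf (nat_lit 0x2207048ff1)) (.leaf (nat_lit 0x2203049001))) (.node 1 (.leaf (nat_lit 0x2202049011)) (.leaf (nat_lit 0x2207049021)))) (.node 2 (.node 1 (.leaf (nat_lit 0x2203049031)) (.leaf (nat_lit 0x2202049041))) (.node 1 (.leaf (nat_lit 0x2203049051)) (.leaf (nat_lit 0x22070490a1)))))))) (.node 32 (.node 16 (.node 8 (.node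 4 (.node 2 (.node 1 (.leaf (nat_lit 0x22080490b1)) (.leaf (nat_lit 0x22070490c1))) (.node 1 (.leaf (nat_lit 0x22030490d1)) (.leaf (nat_lit 0x22030490f1)))) (.node 2 (.node 1 (.leaf (nat_lit 0x2204049101)) (.leaf (nat_lit 0x2207049131))) (.node 1 (.leaf (nat_lit 0x2204049171)) (.leaf (nat_lit 0x2208049171))))) (.node 4 (.node 2 (.node 1 (.leaf (nat_lit 0x22070491a1)) (.leaf (nat_lit 0x220504cd21))) (.node 1 (.leaf (nat_lit 0x22080491c1)) (.leaf (nat_lit 0x22010491e1)))) (.node 2 (.node 1 (.leaf (nat_lit 0x22040491e1)) (.leaf (nat_lit 0x22080491e1))) (.node 1 (.leaf (nat_lit 0x22080491f1)) (.leaf (nat_lit 0x2207049201)))))) (.node 8 (.node 4 (.node 2 (.node 1 (.leaf (nat_lit 0x2207049211)) (.leaf (nat_lit 0x2208049221))) (.node 1 (.leaf (nat_lit 0x2207049231)) (.leaf (nat_lit 0x2207049251)))) (.node 2 (.node 1 (.leaf (nat_lit 0x2203049261)) (.leaf (nat_lit 0x220704a441))) (.node 1 (.leaf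 (nat_lit 0x2408049271)) (.leaf (nat_lit 0x2202049281))))) (.node 4 (.node 2 (.node 1 (.leaf (nat_lit 0x2204049281)) (.leaf (nat_lit 0x2208049281))) (.node 1 (.leaf (nat_lit 0x22050492f1)) (.leaf (nat_lit 0x2406056481)))) (.node 2 (.node 1 (.leaf (nat_lit 0x24080492a1)) (.leaf (nat_lit 0x22010492c1))) (.node 1 (.leaf (nat_lit 0x22040492c1)) (.leaf (nat_lit 0x22080492c1))))))) (.node 16 (.node 8 (.node 4 (.node 2 (.node 1 (.leaf (nat_lit 0x22050492d1)) (.leaf (nat_lit 0x22080492d1))) (.node 1 (.leaf (nat_lit 0x22070492e1)) (.leaf (nat_lit 0x22080492f1)))) (.node 2 (.node 1 (.leaf (nat_lit 0x2403056541)) (.leaf (nat_lit 0x2208049311))) (.node 1 (.leaf (nat_lit 0x2205049321)) (.leaf (nat_lit 0x2208049321))))) (.node 4 (.node 2 (.node 1 (.leaf (nat_lit 0x2207049331)) (.leaf (nat_lit 0x2208049341))) (.node 1 (.leaf (nat_lit 0x2207049351)) (.leaf (nat_lit 0x2207049371)))) (.node 2 (.node 1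 (.leaf (nat_lit 0x2207049381)) (.leaf (nat_lit 0x2203049391))) (.node 1 (.leaf (nat_lit 0x22030493a1)) (.leaf (nat_lit 0x24040493b1)))))) (.node 8 (.node 4 (.node 2 (.node 1 (.leaf (nat_lit 0x24080493b1)) (.leaf (nat_lit 0x22040493d1))) (.node 1 (.leaf (nat_lit 0x22080493d1)) (.leaf (nat_lit 0x2204049471)))) (.node 2 (.node 1 (.leaf (nat_lit 0x24080493e1)) (.leaf (nat_lit 0x24030565d1))) (.node 1 (.leaf (nat_lit 0x2200049401)) (.leaf (nat_lit 0x2204049401))))) (.node 4 (.node 2 (.node 1 (.leaf (nat_lit 0x2208049401)) (.leaf (nat_lit 0x2205049411))) (.node 1 (.leaf (nat_lit 0x2208049411)) (.leaf (nat_lit 0x2207049421)))) (.node 2 (.node 1 (.leaf (nat_lit 0x2208049431)) (.leaf (nat_lit 0x2207049441))) (.node 1 (.leaf (nat_lit 0x2207049461)) (.leaf (nat_lit 0x2208049471))))))))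

noncomputable def oT161 : Tree :=
  .node 64 (.node 32 (.node 16 (.node 8 (.node 4 (.node 2 (.node 1 (.leaf (nat_lit 0x2207049481)) (.leaf (nat_lit 0x22080494a1))) (.node 1 (.leaf (nat_lit 0x22070494b1)) (.leaf (nat_lit 0x22080494c1)))) (.node 2 (.node 1 (.leaf (nat_lit 0x22070494d1)) (.leaf (nat_lit 0x22030494e1))) (.node 1 (.leaf (nat_lit 0x22070494f1)) (.leaf (nat_lit 0x2203049501))))) (.node 4 (.node 2 (.node 1 (.leaf (nat_lit 0x2207049511)) (.leaf (nat_lit 0x2207049521))) (.node 1 (.leaf (nat_lit 0x2203049531)) (.leaf (nat_lit 0x2203049541)))) (.node 2 (.node 1 (.leaf (nat_lit 0x2204049551)) (.leaf (nat_lit 0x2202049561))) (.node 1 (.leaf (nat_lit 0x2208049571)) (.leaf (nat_lit 0x2207049581)))))) (.node 8 (.node 4 (.node 2 (.node 1 (.leaf (nat_lit 0x22030495a1)) (.leaf (nat_lit 0x22020495b1))) (.node 1 (.leaf (nat_lit 0x22080495d1)) (.leaf (nat_lit 0x22070495e1)))) (.node 2 (.node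 1 (.leaf (nat_lit 0x22070495f1)) (.leaf (nat_lit 0x2207049611))) (.node 1 (.leaf (nat_lit 0x2203049621)) (.leaf (nat_lit 0x2207049661))))) (.node 4 (.node 2 (.node 1 (.leaf (nat_lit 0x2203049671)) (.leaf (nat_lit 0x2204049681))) (.node 1 (.leaf (nat_lit 0x22020496a1)) (.leaf (nat_lit 0x22040496a1)))) (.node 2 (.node 1 (.leaf (nat_lit 0x220704a851)) (.leaf (nat_lit 0x2403049741))) (.node 1 (.leaf (nat_lit 0x24080496c1)) (.leaf (nat_lit 0x22010496e1))))))) (.node 16 (.node 8 (.node 4 (.node 2 (.node 1 (.leaf (nat_lit 0x22040496e1)) (.leaf (nat_lit 0x22080496e1))) (.node 1 (.leaf (nat_lit 0x22050496f1)) (.leaf (nat_lit 0x22080496f1)))) (.node 2 (.node 1 (.leaf (nat_lit 0x2207049701)) (.leaf (nat_lit 0x2404049711))) (.node 1 (.leaf (nat_lit 0x2203049721)) (.leaf (nat_lit 0x2204049731))))) (.node 4 (.node 2 (.node 1 (.leaf (nat_lit 0x2208049731)) (.leaf (nat_lit 0x22040497d1))) (.node 1 (.leaf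 (nat_lit 0x2408049741)) (.leaf (nat_lit 0x2407049751)))) (.node 2 (.node 1 (.leaf (nat_lit 0x2204049761)) (.leaf (nat_lit 0x2208049761))) (.node 1 (.leaf (nat_lit 0x2203049771)) (.leaf (nat_lit 0x2205049771)))))) (.node 8 (.node 4 (.node 2 (.node 1 (.leaf (nat_lit 0x2208049771)) (.leaf (nat_lit 0x2207049781))) (.node 1 (.leaf (nat_lit 0x2206049791)) (.leaf (nat_lit 0x2208049791)))) (.node 2 (.node 1 (.leaf (nat_lit 0x22070497a1)) (.leaf (nat_lit 0x22070497c1))) (.node 1 (.leaf (nat_lit 0x22080497d1)) (.leaf (nat_lit 0x22070497e1))))) (.node 4 (.node 2 (.node 1 (.leaf (nat_lit 0x2207049801)) (.leaf (nat_lit 0x2208049811))) (.node 1 (.leaf (nat_lit 0x2207049821)) (.leaf (nat_lit 0x2203049831)))) (.node 2 (.node 1 (.leaf (nat_lit 0x2208049841)) (.leaf (nat_lit 0x2207049851))) (.node 1 (.leaf (nat_lit 0x2203049861)) (.leaf (nat_lit 0x2203049871)))))))) (.node 32 (.node 16 (.node 8 (.node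 4 (.node 2 (.node 1 (.leaf (nat_lit 0x2203049881)) (.leaf (nat_lit 0x2204049891))) (.node 1 (.leaf (nat_lit 0x22070498a1)) (.leaf (nat_lit 0x22030498b1)))) (.node 2 (.node 1 (.leaf (nat_lit 0x22020498c1)) (.leaf (nat_lit 0x24050498d1))) (.node 1 (.leaf (nat_lit 0x24080498d1)) (.leaf (nat_lit 0x24070498e1))))) (.node 4 (.node 2 (.node 1 (.leaf (nat_lit 0x22030498f1)) (.leaf (nat_lit 0x22050498f1))) (.node 1 (.leaf (nat_lit 0x22080498f1)) (.leaf (nat_lit 0x2207049901)))) (.node 2 (.node 1 (.leaf (nat_lit 0x2208049911)) (.leaf (nat_lit 0x2407049921))) (.node 1 (.leaf (nat_lit 0x2204049941)) (.leaf (nat_lit 0x2208049941)))))) (.node 8 (.node 4 (.node 2 (.node 1 (.leaf (nat_lit 0x2203049951)) (.leaf (nat_lit 0x2205049951))) (.node 1 (.leaf (nat_lit 0x2208049951)) (.leaf (nat_lit 0x2207049961)))) (.node 2 (.node 1 (.leaf (nat_lit 0x2205049971)) (.leaf (nat_lit 0x2207049971))) (.node 1 (.leaf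 (nat_lit 0x2208049971)) (.leaf (nat_lit 0x2206049981))))) (.node 4 (.node 2 (.node 1 (.leaf (nat_lit 0x2208049981)) (.leaf (nat_lit 0x2207049991))) (.node 1 (.leaf (nat_lit 0x22030499a1)) (.leaf (nat_lit 0x240504cde1)))) (.node 2 (.node 1 (.leaf (nat_lit 0x22080499b1)) (.leaf (nat_lit 0x22070499c1))) (.node 1 (.leaf (nat_lit 0x22030499d1)) (.leaf (nat_lit 0x22080499e1))))))) (.node 16 (.node 8 (.node 4 (.node 2 (.node 1 (.leaf (nat_lit 0x22070499f1)) (.leaf (nat_lit 0x2203049a01))) (.node 1 (.leaf (nat_lit 0x2207049a11)) (.leaf (nat_lit 0x2203049a21)))) (.node 2 (.node 1 (.leaf (nat_lit 0x2207049a31)) (.leaf (nat_lit 0x2208049a41))) (.node 1 (.leaf (nat_lit 0x2207049a51)) (.leaf (nat_lit 0x2203049a61))))) (.node 4 (.node 2 (.node 1 (.leaf (nat_lit 0x2208049a71)) (.leaf (nat_lit 0x2207049a81))) (.node 1 (.leaf (nat_lit 0x2203049a91)) (.leaf (nat_lit 0x2204049aa1)))) (.node 2 (.node 1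 (.leaf (nat_lit 0x2205049b61)) (.leaf (nat_lit 0x2207049ac1))) (.node 1 (.leaf (nat_lit 0x2203049ad1)) (.leaf (nat_lit 0x2202049ae1)))))) (.node 8 (.node 4 (.node 2 (.node 1 (.leaf (nat_lit 0x2203049b01)) (.leaf (nat_lit 0x2204049b11))) (.node 1 (.leaf (nat_lit 0x2207049b21)) (.leaf (nat_lit 0x2203049b31)))) (.node 2 (.node 1 (.leaf (nat_lit 0x2202049b41)) (.leaf (nat_lit 0x2204049b41))) (.node 1 (.leaf (nat_lit 0x2205049b51)) (.leaf (nat_lit 0x220404cea1))))) (.node 4 (.node 2 (.node 1 (.leaf (nat_lit 0x2203049b71)) (.leaf (nat_lit 0x2203049ba1))) (.node 1 (.leaf (nat_lit 0x2203049bd1)) (.leaf (nat_lit 0x2202049be1)))) (.node 2 (.node 1 (.leaf (nat_lit 0x2204049be1)) (.leaf (nat_lit 0x2201049bf1))) (.node 1 (.leaf (nat_lit 0x2202049c01)) (.leaf (nat_lit 0x2207049c31))))))))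

noncomputable def oT162 : Tree :=
  .node 64 (.node 32 (.node 16 (.node 8 (.node 4 (.node 2 (.node 1 (.leaf (nat_lit 0x2208049c31)) (.leaf (nat_lit 0x2207049c41))) (.node 1 (.leaf (nat_lit 0x2203049c51)) (.leaf (nat_lit 0x2203049c71)))) (.node 2 (.node 1 (.leaf (nat_lit 0x2208049c71)) (.leaf (nat_lit 0x2207049c81))) (.node 1 (.leaf (nat_lit 0x2207049c91)) (.leaf (nat_lit 0x2208049c91))))) (.node 4 (.node 2 (.node 1 (.leaf (nat_lit 0x2207049ca1)) (.leaf (nat_lit 0x2203049cb1))) (.node 1 (.leaf (nat_lit 0x2208049cc1)) (.leaf (nat_lit 0x2207049cd1)))) (.node 2 (.node 1 (.leaf (nat_lit 0x2203049ce1)) (.leaf (nat_lit 0x2204049cf1))) (.node 1 (.leaf (nat_lit 0x2202049d01)) (.leaf (nat_lit 0x2205049d41)))))) (.node 8 (.node 4 (.node 2 (.node 1 (.leaf (nat_lit 0x2207049d51)) (.leaf (nat_lit 0x2207049d81))) (.node 1 (.leaf (nat_lit 0x240704d1e1)) (.leaf (nat_lit 0x2408049dc1)))) (.node 2 (.node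 1 (.leaf (nat_lit 0x2204049de1)) (.leaf (nat_lit 0x2208049de1))) (.node 1 (.leaf (nat_lit 0x2208049df1)) (.leaf (nat_lit 0x2207049e01))))) (.node 4 (.node 2 (.node 1 (.leaf (nat_lit 0x2208049e11)) (.leaf (nat_lit 0x240304a411))) (.node 1 (.leaf (nat_lit 0x2207049e31)) (.leaf (nat_lit 0x2203049e51)))) (.node 2 (.node 1 (.leaf (nat_lit 0x2404049e61)) (.leaf (nat_lit 0x2408049e61))) (.node 1 (.leaf (nat_lit 0x2408049e81)) (.leaf (nat_lit 0x2407049e91))))))) (.node 16 (.node 8 (.node 4 (.node 2 (.node 1 (.leaf (nat_lit 0x2208049ea1)) (.leaf (nat_lit 0x2207049eb1))) (.node 1 (.leaf (nat_lit 0x2207049ed1)) (.leaf (nat_lit 0x2207049ef1)))) (.node 2 (.node 1 (.leaf (nat_lit 0x2203049f01)) (.leaf (nat_lit 0x2203049f21))) (.node 1 (.leaf (nat_lit 0x2203049f31)) (.leaf (nat_lit 0x24020571b1))))) (.node 4 (.node 2 (.node 1 (.leaf (nat_lit 0x2408049f51)) (.leaf (nat_lit 0x2204049f71))) (.node 1 (.leaf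 (nat_lit 0x2208049f71)) (.leaf (nat_lit 0x2205049f81)))) (.node 2 (.node 1 (.leaf (nat_lit 0x2208049f81)) (.leaf (nat_lit 0x2207049f91))) (.node 1 (.leaf (nat_lit 0x2404049fa1)) (.leaf (nat_lit 0x2408049fa1)))))) (.node 8 (.node 4 (.node 2 (.node 1 (.leaf (nat_lit 0x220404a011)) (.leaf (nat_lit 0x2408049fc1))) (.node 1 (.leaf (nat_lit 0x2407049fd1)) (.leaf (nat_lit 0x2208049fe1)))) (.node 2 (.node 1 (.leaf (nat_lit 0x2207049ff1)) (.leaf (nat_lit 0x220804a011))) (.node 1 (.leaf (nat_lit 0x220704a021)) (.leaf (nat_lit 0x220704a041))))) (.node 4 (.node 2 (.node 1 (.leaf (nat_lit 0x220304a051)) (.leaf (nat_lit 0x220404a071))) (.node 1 (.leaf (nat_lit 0x220804a071)) (.leaf (nat_lit 0x220304cbd1)))) (.node 2 (.node 1 (.leaf (nat_lit 0x240804a081)) (.leaf (nat_lit 0x240704a091))) (.node 1 (.leaf (nat_lit 0x220804a0a1)) (.leaf (nat_lit 0x220704a0b1)))))))) (.node 32 (.node 16 (.node 8 (.node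 4 (.node 2 (.node 1 (.leaf (nat_lit 0x220804a0c1)) (.leaf (nat_lit 0x240704a0d1))) (.node 1 (.leaf (nat_lit 0x220804a0f1)) (.leaf (nat_lit 0x220704a101)))) (.node 2 (.node 1 (.leaf (nat_lit 0x220804a111)) (.leaf (nat_lit 0x220804a121))) (.node 1 (.leaf (nat_lit 0x220704a131)) (.leaf (nat_lit 0x220304cd21))))) (.node 4 (.node 2 (.node 1 (.leaf (nat_lit 0x220804a151)) (.leaf (nat_lit 0x220704a161))) (.node 1 (.leaf (nat_lit 0x220304a171)) (.leaf (nat_lit 0x220704a191)))) (.node 2 (.node 1 (.leaf (nat_lit 0x220304a1a1)) (.leaf (nat_lit 0x220704a1c1))) (.node 1 (.leaf (nat_lit 0x220804a1e1)) (.leaf (nat_lit 0x220704a1f1)))))) (.node 8 (.node 4 (.node 2 (.node 1 (.leaf (nat_lit 0x220304a201)) (.leaf (nat_lit 0x220204a211))) (.node 1 (.leaf (nat_lit 0x220704a221)) (.leaf (nat_lit 0x220304a231)))) (.node 2 (.node 1 (.leaf (nat_lit 0x220704a261)) (.leaf (nat_lit 0x220304a271))) (.node 1 (.leaf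 (nat_lit 0x220704a291)) (.leaf (nat_lit 0x220304a2a1))))) (.node 4 (.node 2 (.node 1 (.leaf (nat_lit 0x220204a2b1)) (.leaf (nat_lit 0x220404a2b1))) (.node 1 (.leaf (nat_lit 0x220304a2d1)) (.leaf (nat_lit 0x220704a301)))) (.node 2 (.node 1 (.leaf (nat_lit 0x220204cd41)) (.leaf (nat_lit 0x220804a311))) (.node 1 (.leaf (nat_lit 0x220804a331)) (.leaf (nat_lit 0x220704a341))))))) (.node 16 (.node 8 (.node 4 (.node 2 (.node 1 (.leaf (nat_lit 0x220704a351)) (.leaf (nat_lit 0x2405056701))) (.node 1 (.leaf (nat_lit 0x240804a371)) (.leaf (nat_lit 0x220704cd41)))) (.node 2 (.node 1 (.leaf (nat_lit 0x220804a391)) (.leaf (nat_lit 0x240804a3a1))) (.node 1 (.leaf (nat_lit 0x240704a3b1)) (.leaf (nat_lit 0x220304a3c1))))) (.node 4 (.node 2 (.node 1 (.leaf (nat_lit 0x220804a3c1)) (.leaf (nat_lit 0x220704a3d1))) (.node 1 (.leaf (nat_lit 0x220704a3e1)) (.leaf (nat_lit 0x220704a401)))) (.node 2 (.node 1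 (.leaf (nat_lit 0x220304a421)) (.leaf (nat_lit 0x220204c181))) (.node 1 (.leaf (nat_lit 0x220804a441)) (.leaf (nat_lit 0x220404a461)))))) (.node 8 (.node 4 (.node 2 (.node 1 (.leaf (nat_lit 0x220804a461)) (.leaf (nat_lit 0x220504a471))) (.node 1 (.leaf (nat_lit 0x220804a471)) (.leaf (nat_lit 0x220704a481)))) (.node 2 (.node 1 (.leaf (nat_lit 0x220204ac91)) (.leaf (nat_lit 0x220804a491))) (.node 1 (.leaf (nat_lit 0x220504a4b1)) (.leaf (nat_lit 0x220804a4b1))))) (.node 4 (.node 2 (.node 1 (.leaf (nat_lit 0x220704a4c1)) (.leaf (nat_lit 0x220804a4d1))) (.node 1 (.leaf (nat_lit 0x220704a4e1)) (.leaf (nat_lit 0x220604a501)))) (.node 2 (.node 1 (.leaf (nat_lit 0x220804a501)) (.leaf (nat_lit 0x220704a511))) (.node 1 (.leaf (nat_lit 0x220704a531)) (.leaf (nat_lit 0x220304a541))))))))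

noncomputable def oT163 : Tree :=
  .node 64 (.node 32 (.node 16 (.node 8 (.node 4 (.node 2 (.node 1 (.leaf (nat_lit 0x220204a551)) (.leaf (nat_lit 0x220704ac91))) (.node 1 (.leaf (nat_lit 0x220804a561)) (.leaf (nat_lit 0x24030566e1)))) (.node 2 (.node 1 (.leaf (nat_lit 0x240804a571)) (.leaf (nat_lit 0x240704a581))) (.node 1 (.leaf (nat_lit 0x220704d741)) (.leaf (nat_lit 0x220704da81))))) (.node 4 (.node 2 (.node 1 (.leaf (nat_lit 0x220804a591)) (.leaf (nat_lit 0x220704a5a1))) (.node 1 (.leaf (nat_lit 0x2403056c71)) (.leaf (nat_lit 0x240804a5b1)))) (.node 2 (.node 1 (.leaf (nat_lit 0x240704a5c1)) (.leaf (nat_lit 0x220304a5e1))) (.node 1 (.leaf (nat_lit 0x220804a5e1)) (.leaf (nat_lit 0x220704a5f1)))))) (.node 8 (.node 4 (.node 2 (.node 1 (.leaf (nat_lit 0x220504a601)) (.leaf (nat_lit 0x220704a601))) (.node 1 (.leaf (nat_lit 0x220804a601)) (.leaf (nat_lit 0x220804a611)))) (.node 2 (.node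 1 (.leaf (nat_lit 0x220704a621)) (.leaf (nat_lit 0x220704a641))) (.node 1 (.leaf (nat_lit 0x220304a651)) (.leaf (nat_lit 0x220704dee1))))) (.node 4 (.node 2 (.node 1 (.leaf (nat_lit 0x220804a661)) (.leaf (nat_lit 0x220704a671))) (.node 1 (.leaf (nat_lit 0x240804a691)) (.leaf (nat_lit 0x240704a6a1)))) (.node 2 (.node 1 (.leaf (nat_lit 0x240304a6b1)) (.leaf (nat_lit 0x220704a6d1))) (.node 1 (.leaf (nat_lit 0x220304a6e1)) (.leaf (nat_lit 0x220304a6f1))))))) (.node 16 (.node 8 (.node 4 (.node 2 (.node 1 (.leaf (nat_lit 0x220204a701)) (.leaf (nat_lit 0x220204a711))) (.node 1 (.leaf (nat_lit 0x240704a731)) (.leaf (nat_lit 0x240304a741)))) (.node 2 (.node 1 (.leaf (nat_lit 0x220404e1f1)) (.leaf (nat_lit 0x220204a761))) (.node 1 (.leaf (nat_lit 0x220404a761)) (.leaf (nat_lit 0x220804a781))))) (.node 4 (.node 2 (.node 1 (.leaf (nat_lit 0x220804a7b1)) (.leaf (nat_lit 0x220304a7d1))) (.node 1 (.leaf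 (nat_lit 0x220804a7d1)) (.leaf (nat_lit 0x220204a7f1)))) (.node 2 (.node 1 (.leaf (nat_lit 0x220804a7f1)) (.leaf (nat_lit 0x220804a811))) (.node 1 (.leaf (nat_lit 0x220704a821)) (.leaf (nat_lit 0x2402055d71)))))) (.node 8 (.node 4 (.node 2 (.node 1 (.leaf (nat_lit 0x240804a831)) (.leaf (nat_lit 0x220304b261))) (.node 1 (.leaf (nat_lit 0x220304c161)) (.leaf (nat_lit 0x220804a851)))) (.node 2 (.node 1 (.leaf (nat_lit 0x240504a861)) (.leaf (nat_lit 0x240804a861))) (.node 1 (.leaf (nat_lit 0x240704a871)) (.leaf (nat_lit 0x220004a881))))) (.node 4 (.node 2 (.node 1 (.leaf (nat_lit 0x220404a881)) (.leaf (nat_lit 0x220804a881))) (.node 1 (.leaf (nat_lit 0x220304a891)) (.leaf (nat_lit 0x220504a891)))) (.node 2 (.node 1 (.leaf (nat_lit 0x220804a891)) (.leaf (nat_lit 0x220704a8a1))) (.node 1 (.leaf (nat_lit 0x220604a8b1)) (.leaf (nat_lit 0x220804a8b1)))))))) (.node 32 (.node 16 (.node 8 (.node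 4 (.node 2 (.node 1 (.leaf (nat_lit 0x220704a8c1)) (.leaf (nat_lit 0x220304ac71))) (.node 1 (.leaf (nat_lit 0x220804a8e1)) (.leaf (nat_lit 0x2402055af1)))) (.node 2 (.node 1 (.leaf (nat_lit 0x240804a8f1)) (.leaf (nat_lit 0x240704a901))) (.node 1 (.leaf (nat_lit 0x220304d511)) (.leaf (nat_lit 0x220804a911))))) (.node 4 (.node 2 (.node 1 (.leaf (nat_lit 0x220504a921)) (.leaf (nat_lit 0x220804a921))) (.node 1 (.leaf (nat_lit 0x220704a931)) (.leaf (nat_lit 0x240704ac41)))) (.node 2 (.node 1 (.leaf (nat_lit 0x240804a941)) (.leaf (nat_lit 0x240704a951))) (.node 1 (.leaf (nat_lit 0x220304a971)) (.leaf (nat_lit 0x220804a971)))))) (.node 8 (.node 4 (.node 2 (.node 1 (.leaf (nat_lit 0x220704a981)) (.leaf (nat_lit 0x220504a991))) (.node 1 (.leaf (nat_lit 0x220704a991)) (.leaf (nat_lit 0x220804a991)))) (.node 2 (.node 1 (.leaf (nat_lit 0x220604a9a1)) (.leaf (nat_lit 0x220804a9a1))) (.node 1 (.leaf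 (nat_lit 0x220704a9b1)) (.leaf (nat_lit 0x2402057e91))))) (.node 4 (.node 2 (.node 1 (.leaf (nat_lit 0x220804a9d1)) (.leaf (nat_lit 0x220704a9e1))) (.node 1 (.leaf (nat_lit 0x220304a9f1)) (.leaf (nat_lit 0x220704aa01)))) (.node 2 (.node 1 (.leaf (nat_lit 0x220604aa11)) (.leaf (nat_lit 0x220804aa11))) (.node 1 (.leaf (nat_lit 0x220704aa21)) (.leaf (nat_lit 0x220204de21))))))) (.node 16 (.node 8 (.node 4 (.node 2 (.node 1 (.leaf (nat_lit 0x240804aa41)) (.leaf (nat_lit 0x240704aa51))) (.node 1 (.leaf (nat_lit 0x240304aa61)) (.leaf (nat_lit 0x220304b2a1)))) (.node 2 (.node 1 (.leaf (nat_lit 0x220804aa81)) (.leaf (nat_lit 0x220704aa91))) (.node 1 (.leaf (nat_lit 0x220304aaa1)) (.leaf (nat_lit 0x240804aab1))))) (.node 4 (.node 2 (.node 1 (.leaf (nat_lit 0x220704aac1)) (.leaf (nat_lit 0x220304aad1))) (.node 1 (.leaf (nat_lit 0x220204aae1)) (.leaf (nat_lit 0x220104c281)))) (.node 2 (.node 1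 (.leaf (nat_lit 0x220704ab01)) (.leaf (nat_lit 0x240404d931))) (.node 1 (.leaf (nat_lit 0x220304ab41)) (.leaf (nat_lit 0x220204ab51)))))) (.node 8 (.node 4 (.node 2 (.node 1 (.leaf (nat_lit 0x220104ab61)) (.leaf (nat_lit 0x2402055331))) (.node 1 (.leaf (nat_lit 0x240804ab71)) (.leaf (nat_lit 0x240704d4c1)))) (.node 2 (.node 1 (.leaf (nat_lit 0x2407055af1)) (.leaf (nat_lit 0x240804ab81))) (.node 1 (.leaf (nat_lit 0x240704ab91)) (.leaf (nat_lit 0x240504ac41))))) (.node 4 (.node 2 (.node 1 (.leaf (nat_lit 0x260804aba1)) (.leaf (nat_lit 0x260704abb1))) (.node 1 (.leaf (nat_lit 0x220704d531)) (.leaf (nat_lit 0x220804abd1)))) (.node 2 (.node 1 (.leaf (nat_lit 0x220204d271)) (.leaf (nat_lit 0x220204d531))) (.node 1 (.leaf (nat_lit 0x240804abe1)) (.leaf (nat_lit 0x240704abf1))))))))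

noncomputable def oT164 : Tree :=
  .node 64 (.node 32 (.node 16 (.node 8 (.node 4 (.node 2 (.node 1 (.leaf (nat_lit 0x2407058361)) (.leaf (nat_lit 0x220304d721))) (.node 1 (.leaf (nat_lit 0x240804ac01)) (.leaf (nat_lit 0x240204ac41)))) (.node 2 (.node 1 (.leaf (nat_lit 0x240804ac11)) (.leaf (nat_lit 0x240704ac21))) (.node 1 (.leaf (nat_lit 0x240704b131)) (.leaf (nat_lit 0x2405056b31))))) (.node 4 (.node 2 (.node 1 (.leaf (nat_lit 0x240804ac41)) (.leaf (nat_lit 0x240704ac51))) (.node 1 (.leaf (nat_lit 0x260304ac61)) (.leaf (nat_lit 0x220804ac71)))) (.node 2 (.node 1 (.leaf (nat_lit 0x220704ac81)) (.leaf (nat_lit 0x220504ac91))) (.node 1 (.leaf (nat_lit 0x220804ac91)) (.leaf (nat_lit 0x220604aca1)))))) (.node 8 (.node 4 (.node 2 (.node 1 (.leaf (nat_lit 0x220804aca1)) (.leaf (nat_lit 0x220704acb1))) (.node 1 (.leaf (nat_lit 0x220304acc1)) (.leaf (nat_lit 0x220604acd1)))) (.node 2 (.node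 1 (.leaf (nat_lit 0x220704acd1)) (.leaf (nat_lit 0x220804acd1))) (.node 1 (.leaf (nat_lit 0x220804ace1)) (.leaf (nat_lit 0x220704acf1))))) (.node 4 (.node 2 (.node 1 (.leaf (nat_lit 0x2407057e91)) (.leaf (nat_lit 0x220804ad01))) (.node 1 (.leaf (nat_lit 0x220704ad11)) (.leaf (nat_lit 0x220304ad21)))) (.node 2 (.node 1 (.leaf (nat_lit 0x220404ad31)) (.leaf (nat_lit 0x240804ad41))) (.node 1 (.leaf (nat_lit 0x220704ad51)) (.leaf (nat_lit 0x220304ad61))))))) (.node 16 (.node 8 (.node 4 (.node 2 (.node 1 (.leaf (nat_lit 0x220204ad71)) (.leaf (nat_lit 0x220704ad81))) (.node 1 (.leaf (nat_lit 0x220804ad91)) (.leaf (nat_lit 0x220704ada1)))) (.node 2 (.node 1 (.leaf (nat_lit 0x240304adb1)) (.leaf (nat_lit 0x220704de21))) (.node 1 (.leaf (nat_lit 0x240804adc1)) (.leaf (nat_lit 0x240704add1))))) (.node 4 (.node 2 (.node 1 (.leaf (nat_lit 0x240304ade1)) (.leaf (nat_lit 0x220704b1f1))) (.node 1 (.leaf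 (nat_lit 0x240804ae01)) (.leaf (nat_lit 0x240704ae11)))) (.node 2 (.node 1 (.leaf (nat_lit 0x240304ae21)) (.leaf (nat_lit 0x220404e1e1))) (.node 1 (.leaf (nat_lit 0x220704b2c1)) (.leaf (nat_lit 0x220804ae51)))))) (.node 8 (.node 4 (.node 2 (.node 1 (.leaf (nat_lit 0x220704ae61)) (.leaf (nat_lit 0x220304ae71))) (.node 1 (.leaf (nat_lit 0x240804ae91)) (.leaf (nat_lit 0x220704aea1)))) (.node 2 (.node 1 (.leaf (nat_lit 0x220304aeb1)) (.leaf (nat_lit 0x220204aec1))) (.node 1 (.leaf (nat_lit 0x220404aec1)) (.leaf (nat_lit 0x220504aed1))))) (.node 4 (.node 2 (.node 1 (.leaf (nat_lit 0x240704aee1)) (.leaf (nat_lit 0x220304aef1))) (.node 1 (.leaf (nat_lit 0x220204af01)) (.leaf (nat_lit 0x220404af01)))) (.node 2 (.node 1 (.leaf (nat_lit 0x220104af11)) (.leaf (nat_lit 0x220204d821))) (.node 1 (.leaf (nat_lit 0x220704af31)) (.leaf (nat_lit 0x240404dd51)))))))) (.node 32 (.node 16 (.node 8 (.node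 4 (.node 2 (.node 1 (.leaf (nat_lit 0x220304af71)) (.leaf (nat_lit 0x220404af81))) (.node 1 (.leaf (nat_lit 0x220404df31)) (.leaf (nat_lit 0x220204afc1)))) (.node 2 (.node 1 (.leaf (nat_lit 0x220004afe1)) (.leaf (nat_lit 0x220604b031))) (.node 1 (.leaf (nat_lit 0x240304b001)) (.leaf (nat_lit 0x220504b021))))) (.node 4 (.node 2 (.node 1 (.leaf (nat_lit 0x240404b011)) (.leaf (nat_lit 0x220404e201))) (.node 1 (.leaf (nat_lit 0x220504b081)) (.leaf (nat_lit 0x220204b041)))) (.node 2 (.node 1 (.leaf (nat_lit 0x220404b041)) (.leaf (nat_lit 0x220104b051))) (.node 1 (.leaf (nat_lit 0x220404b051)) (.leaf (nat_lit 0x220004b071)))))) (.node 8 (.node 4 (.node 2 (.node 1 (.leaf (nat_lit 0x220404c571)) (.leaf (nat_lit 0x240804b0c1))) (.node 1 (.leaf (nat_lit 0x220804b101)) (.leaf (nat_lit 0x220804b111)))) (.node 2 (.node 1 (.leaf (nat_lit 0x240704b121)) (.leaf (nat_lit 0x240804b381))) (.node 1 (.leaf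 (nat_lit 0x220704b161)) (.leaf (nat_lit 0x220404b171))))) (.node 4 (.node 2 (.node 1 (.leaf (nat_lit 0x220704b181)) (.leaf (nat_lit 0x220304b191))) (.node 1 (.leaf (nat_lit 0x220204b1a1)) (.leaf (nat_lit 0x220404b1a1)))) (.node 2 (.node 1 (.leaf (nat_lit 0x220504b1b1)) (.leaf (nat_lit 0x220704b231))) (.node 1 (.leaf (nat_lit 0x220804b261)) (.leaf (nat_lit 0x220704b271))))))) (.node 16 (.node 8 (.node 4 (.node 2 (.node 1 (.leaf (nat_lit 0x220804b291)) (.leaf (nat_lit 0x220804b2a1))) (.node 1 (.leaf (nat_lit 0x220704b2b1)) (.leaf (nat_lit 0x220804b2c1)))) (.node 2 (.node 1 (.leaf (nat_lit 0x220704b2d1)) (.leaf (nat_lit 0x220304b2e1))) (.node 1 (.leaf (nat_lit 0x220804b321)) (.leaf (nat_lit 0x220804b341))))) (.node 4 (.node 2 (.node 1 (.leaf (nat_lit 0x220704b351)) (.leaf (nat_lit 0x220304b3a1))) (.node 1 (.leaf (nat_lit 0x220204b3b1)) (.leaf (nat_lit 0x220404b3b1)))) (.node 2 (.node 1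 (.leaf (nat_lit 0x220404b3c1)) (.leaf (nat_lit 0x220504b3d1))) (.node 1 (.leaf (nat_lit 0x170704b442)) (.leaf (nat_lit 0x170704b462)))))) (.node 8 (.node 4 (.node 2 (.node 1 (.leaf (nat_lit 0x170304b472)) (.leaf (nat_lit 0x220804b491))) (.node 1 (.leaf (nat_lit 0x220704b4a1)) (.leaf (nat_lit 0x220704b4d1)))) (.node 2 (.node 1 (.leaf (nat_lit 0x220804b501)) (.leaf (nat_lit 0x220704b511))) (.node 1 (.leaf (nat_lit 0x220804b531)) (.leaf (nat_lit 0x220704b541))))) (.node 4 (.node 2 (.node 1 (.leaf (nat_lit 0x220704b561)) (.leaf (nat_lit 0x220704b581))) (.node 1 (.leaf (nat_lit 0x220704b5a1)) (.leaf (nat_lit 0x220404b5d1)))) (.node 2 (.node 1 (.leaf (nat_lit 0x220304b671)) (.leaf (nat_lit 0x220804b5e1))) (.node 1 (.leaf (nat_lit 0x220704b5f1)) (.leaf (nat_lit 0x220704b601))))))))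

noncomputable def oT165 : Tree :=
  .node 64 (.node 32 (.node 16 (.node 8 (.node 4 (.node 2 (.node 1 (.leaf (nat_lit 0x220504b621)) (.leaf (nat_lit 0x220804b621))) (.node 1 (.leaf (nat_lit 0x220704b631)) (.leaf (nat_lit 0x220504b641)))) (.node 2 (.node 1 (.leaf (nat_lit 0x220804b641)) (.leaf (nat_lit 0x220604b651))) (.node 1 (.leaf (nat_lit 0x220804b651)) (.leaf (nat_lit 0x220704b661))))) (.node 4 (.node 2 (.node 1 (.leaf (nat_lit 0x220804b681)) (.leaf (nat_lit 0x220704b691))) (.node 1 (.leaf (nat_lit 0x220304b6a1)) (.leaf (nat_lit 0x220704b6b1)))) (.node 2 (.node 1 (.leaf (nat_lit 0x220804b6d1)) (.leaf (nat_lit 0x220704b6e1))) (.node 1 (.leaf (nat_lit 0x220804b701)) (.leaf (nat_lit 0x220704b711)))))) (.node 8 (.node 4 (.node 2 (.node 1 (.leaf (nat_lit 0x220304b721)) (.leaf (nat_lit 0x220704b741))) (.node 1 (.leaf (nat_lit 0x220304b761)) (.leaf (nat_lit 0x220704b771)))) (.node 2 (.node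 1 (.leaf (nat_lit 0x220304b781)) (.leaf (nat_lit 0x220304ce61))) (.node 1 (.leaf (nat_lit 0x220704b7c1)) (.leaf (nat_lit 0x220404b7f1))))) (.node 4 (.node 2 (.node 1 (.leaf (nat_lit 0x220804b7f1)) (.leaf (nat_lit 0x220804b801))) (.node 1 (.leaf (nat_lit 0x220704b811)) (.leaf (nat_lit 0x220804b821)))) (.node 2 (.node 1 (.leaf (nat_lit 0x220704b831)) (.leaf (nat_lit 0x220704b841))) (.node 1 (.leaf (nat_lit 0x240704b871)) (.leaf (nat_lit 0x220404b891))))))) (.node 16 (.node 8 (.node 4 (.node 2 (.node 1 (.leaf (nat_lit 0x220804b891)) (.leaf (nat_lit 0x220804b8a1))) (.node 1 (.leaf (nat_lit 0x220704b8b1)) (.leaf (nat_lit 0x220704b8c1)))) (.node 2 (.node 1 (.leaf (nat_lit 0x220304b8d1)) (.leaf (nat_lit 0x220304b8e1))) (.node 1 (.leaf (nat_lit 0x220404d5a1)) (.leaf (nat_lit 0x240704b901))))) (.node 4 (.node 2 (.node 1 (.leaf (nat_lit 0x240304b911)) (.leaf (nat_lit 0x220704b921))) (.node 1 (.leaf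 (nat_lit 0x220304b931)) (.leaf (nat_lit 0x220704b971)))) (.node 2 (.node 1 (.leaf (nat_lit 0x220304b981)) (.leaf (nat_lit 0x220404b991))) (.node 1 (.leaf (nat_lit 0x220204ba21)) (.leaf (nat_lit 0x220204df11)))))) (.node 8 (.node 4 (.node 2 (.node 1 (.leaf (nat_lit 0x220304dfc1)) (.leaf (nat_lit 0x220504b9f1))) (.node 1 (.leaf (nat_lit 0x220804ba31)) (.leaf (nat_lit 0x220704ba41)))) (.node 2 (.node 1 (.leaf (nat_lit 0x220704ba51)) (.leaf (nat_lit 0x220304ba81))) (.node 1 (.leaf (nat_lit 0x220804ba81)) (.leaf (nat_lit 0x220704ba91))))) (.node 4 (.node 2 (.node 1 (.leaf (nat_lit 0x220704baa1)) (.leaf (nat_lit 0x220704bac1))) (.node 1 (.leaf (nat_lit 0x220304bae1)) (.leaf (nat_lit 0x220304bcf1)))) (.node 2 (.node 1 (.leaf (nat_lit 0x240404bb01)) (.leaf (nat_lit 0x240804bb01))) (.node 1 (.leaf (nat_lit 0x240504bb11)) (.leaf (nat_lit 0x240804bb11)))))))) (.node 32 (.node 16 (.node 8 (.node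 4 (.node 2 (.node 1 (.leaf (nat_lit 0x240704bb21)) (.leaf (nat_lit 0x2403057e71))) (.node 1 (.leaf (nat_lit 0x240804bb31)) (.leaf (nat_lit 0x240404bd31)))) (.node 2 (.node 1 (.leaf (nat_lit 0x220404bc21)) (.leaf (nat_lit 0x240804bb41))) (.node 1 (.leaf (nat_lit 0x240704bb51)) (.leaf (nat_lit 0x220804bb61))))) (.node 4 (.node 2 (.node 1 (.leaf (nat_lit 0x240704bb71)) (.leaf (nat_lit 0x220304bb91))) (.node 1 (.leaf (nat_lit 0x220804bb91)) (.leaf (nat_lit 0x220704bba1)))) (.node 2 (.node 1 (.leaf (nat_lit 0x220504bbb1)) (.leaf (nat_lit 0x220804bbb1))) (.node 1 (.leaf (nat_lit 0x220804bbc1)) (.leaf (nat_lit 0x220704bbd1)))))) (.node 8 (.node 4 (.node 2 (.node 1 (.leaf (nat_lit 0x220304bbe1)) (.leaf (nat_lit 0x220704bbf1))) (.node 1 (.leaf (nat_lit 0x220304bc01)) (.leaf (nat_lit 0x2400058211)))) (.node 2 (.node 1 (.leaf (nat_lit 0x220804bc21)) (.leaf (nat_lit 0x220704bc31))) (.node 1 (.leaf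 (nat_lit 0x240004c2e1)) (.leaf (nat_lit 0x220704bc51))))) (.node 4 (.node 2 (.node 1 (.leaf (nat_lit 0x220304bc71)) (.leaf (nat_lit 0x220704bc81))) (.node 1 (.leaf (nat_lit 0x220304bc91)) (.leaf (nat_lit 0x220404bca1)))) (.node 2 (.node 1 (.leaf (nat_lit 0x220404bcc1)) (.leaf (nat_lit 0x220804bcf1))) (.node 1 (.leaf (nat_lit 0x220204bd11)) (.leaf (nat_lit 0x240104bd51))))))) (.node 16 (.node 8 (.node 4 (.node 2 (.node 1 (.leaf (nat_lit 0x240804bd31)) (.leaf (nat_lit 0x220204bd61))) (.node 1 (.leaf (nat_lit 0x240204e121)) (.leaf (nat_lit 0x220704bd71)))) (.node 2 (.node 1 (.leaf (nat_lit 0x220804bd81)) (.leaf (nat_lit 0x220704bd91))) (.node 1 (.leaf (nat_lit 0x220304bda1)) (.leaf (nat_lit 0x220704bdb1))))) (.node 4 (.node 2 (.node 1 (.leaf (nat_lit 0x220304bdc1)) (.leaf (nat_lit 0x220404bdd1))) (.node 1 (.leaf (nat_lit 0x220104c561)) (.leaf (nat_lit 0x2400056031)))) (.node 2 (.node 1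 (.leaf (nat_lit 0x220204e041)) (.leaf (nat_lit 0x220404be21))) (.node 1 (.leaf (nat_lit 0x220504be31)) (.leaf (nat_lit 0x220004be51)))))) (.node 8 (.node 4 (.node 2 (.node 1 (.leaf (nat_lit 0x220404be51)) (.leaf (nat_lit 0x220804be51))) (.node 1 (.leaf (nat_lit 0x220304be61)) (.leaf (nat_lit 0x220804be61)))) (.node 2 (.node 1 (.leaf (nat_lit 0x220704be71)) (.leaf (nat_lit 0x220704be81))) (.node 1 (.leaf (nat_lit 0x220604bee1)) (.leaf (nat_lit 0x220804bea1))))) (.node 4 (.node 2 (.node 1 (.leaf (nat_lit 0x220804beb1)) (.leaf (nat_lit 0x220704bec1))) (.node 1 (.leaf (nat_lit 0x220504d611)) (.leaf (nat_lit 0x220204d6d1)))) (.node 2 (.node 1 (.leaf (nat_lit 0x220504d631)) (.leaf (nat_lit 0x220804bee1))) (.node 1 (.leaf (nat_lit 0x220704bef1)) (.leaf (nat_lit 0x220704bf01))))))))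

noncomputable def oT166 : Tree :=
  .node 64 (.node 32 (.node 16 (.node 8 (.node 4 (.node 2 (.node 1 (.leaf (nat_lit 0x220304bf21)) (.leaf (nat_lit 0x220504bf21))) (.node 1 (.leaf (nat_lit 0x220804bf21)) (.leaf (nat_lit 0x220704bf31)))) (.node 2 (.node 1 (.leaf (nat_lit 0x220504bf41)) (.leaf (nat_lit 0x220704bf41))) (.node 1 (.leaf (nat_lit 0x220804bf41)) (.leaf (nat_lit 0x220804bf51))))) (.node 4 (.node 2 (.node 1 (.leaf (nat_lit 0x220704bf61)) (.leaf (nat_lit 0x220304bf71))) (.node 1 (.leaf (nat_lit 0x220804bf81)) (.leaf (nat_lit 0x220704bf91)))) (.node 2 (.node 1 (.leaf (nat_lit 0x220304bfa1)) (.leaf (nat_lit 0x220204d841))) (.node 1 (.leaf (nat_lit 0x220304bfc1)) (.leaf (nat_lit 0x220804bfd1)))))) (.node 8 (.node 4 (.node 2 (.node 1 (.leaf (nat_lit 0x220704bfe1)) (.leaf (nat_lit 0x220304bff1))) (.node 1 (.leaf (nat_lit 0x220704c001)) (.leaf (nat_lit 0x220704c031)))) (.node 2 (.node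 1 (.leaf (nat_lit 0x2403055621)) (.leaf (nat_lit 0x2406056ee1))) (.node 1 (.leaf (nat_lit 0x240404c0a1)) (.leaf (nat_lit 0x2401058891))))) (.node 4 (.node 2 (.node 1 (.leaf (nat_lit 0x240804c0b1)) (.leaf (nat_lit 0x240404c0d1))) (.node 1 (.leaf (nat_lit 0x220404c291)) (.leaf (nat_lit 0x220404c0f1)))) (.node 2 (.node 1 (.leaf (nat_lit 0x220204d9c1)) (.leaf (nat_lit 0x220304c111))) (.node 1 (.leaf (nat_lit 0x240404c491)) (.leaf (nat_lit 0x240804c101))))))) (.node 16 (.node 8 (.node 4 (.node 2 (.node 1 (.leaf (nat_lit 0x220804c111)) (.leaf (nat_lit 0x240704c121))) (.node 1 (.leaf (nat_lit 0x2402056141)) (.leaf (nat_lit 0x220704c141)))) (.node 2 (.node 1 (.leaf (nat_lit 0x240304c151)) (.leaf (nat_lit 0x220504c161))) (.node 1 (.leaf (nat_lit 0x220804c161)) (.leaf (nat_lit 0x220704c171))))) (.node 4 (.node 2 (.node 1 (.leaf (nat_lit 0x220504c181)) (.leaf (nat_lit 0x220704c181))) (.node 1 (.leaf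 (nat_lit 0x220804c181)) (.leaf (nat_lit 0x220604c191)))) (.node 2 (.node 1 (.leaf (nat_lit 0x220804c191)) (.leaf (nat_lit 0x220704c1a1))) (.node 1 (.leaf (nat_lit 0x220304c1b1)) (.leaf (nat_lit 0x220604c1c1)))))) (.node 8 (.node 4 (.node 2 (.node 1 (.leaf (nat_lit 0x220704c1c1)) (.leaf (nat_lit 0x220804c1c1))) (.node 1 (.leaf (nat_lit 0x220804c1d1)) (.leaf (nat_lit 0x220704c1e1)))) (.node 2 (.node 1 (.leaf (nat_lit 0x2407055d71)) (.leaf (nat_lit 0x220804c1f1))) (.node 1 (.leaf (nat_lit 0x220704c201)) (.leaf (nat_lit 0x220304c211))))) (.node 4 (.node 2 (.node 1 (.leaf (nat_lit 0x220404c221)) (.leaf (nat_lit 0x240404c3c1))) (.node 1 (.leaf (nat_lit 0x220704c241)) (.leaf (nat_lit 0x220304c251)))) (.node 2 (.node 1 (.leaf (nat_lit 0x220204c261)) (.leaf (nat_lit 0x220004c291))) (.node 1 (.leaf (nat_lit 0x220404c281)) (.leaf (nat_lit 0x220204dbe1)))))))) (.node 32 (.node 16 (.node 8 (.node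 4 (.node 2 (.node 1 (.leaf (nat_lit 0x220804c291)) (.leaf (nat_lit 0x220404c2b1))) (.node 1 (.leaf (nat_lit 0x220204df31)) (.leaf (nat_lit 0x220704c2c1)))) (.node 2 (.node 1 (.leaf (nat_lit 0x220304c2d1)) (.leaf (nat_lit 0x240404c2e1))) (.node 1 (.leaf (nat_lit 0x220804c301)) (.leaf (nat_lit 0x220704c311))))) (.node 4 (.node 2 (.node 1 (.leaf (nat_lit 0x220804c331)) (.leaf (nat_lit 0x220704c341))) (.node 1 (.leaf (nat_lit 0x220304c351)) (.leaf (nat_lit 0x240804c371)))) (.node 2 (.node 1 (.leaf (nat_lit 0x220704c381)) (.leaf (nat_lit 0x220304c391))) (.node 1 (.leaf (nat_lit 0x220504c3b1)) (.leaf (nat_lit 0x2403055691)))))) (.node 8 (.node 4 (.node 2 (.node 1 (.leaf (nat_lit 0x220304c3e1)) (.leaf (nat_lit 0x220404d821))) (.node 1 (.leaf (nat_lit 0x220704c401)) (.leaf (nat_lit 0x240204c461)))) (.node 2 (.node 1 (.leaf (nat_lit 0x220304c441)) (.leaf (nat_lit 0x220204c541))) (.node 1 (.leaf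 (nat_lit 0x220204d001)) (.leaf (nat_lit 0x240804c491))))) (.node 4 (.node 2 (.node 1 (.leaf (nat_lit 0x240704c4a1)) (.leaf (nat_lit 0x24020555a1))) (.node 1 (.leaf (nat_lit 0x240404c4c1)) (.leaf (nat_lit 0x220804c4e1)))) (.node 2 (.node 1 (.leaf (nat_lit 0x220704c4f1)) (.leaf (nat_lit 0x220304c501))) (.node 1 (.leaf (nat_lit 0x220404c511)) (.leaf (nat_lit 0x220704c521))))))) (.node 16 (.node 8 (.node 4 (.node 2 (.node 1 (.leaf (nat_lit 0x220304c531)) (.leaf (nat_lit 0x220404c541))) (.node 1 (.leaf (nat_lit 0x220504c551)) (.leaf (nat_lit 0x240504c581)))) (.node 2 (.node 1 (.leaf (nat_lit 0x170304c5c2)) (.leaf (nat_lit 0x170304c5d2))) (.node 1 (.leaf (nat_lit 0x170404c5e2)) (.leaf (nat_lit 0x170304c5f2))))) (.node 4 (.node 2 (.node 1 (.leaf (nat_lit 0x170304c602)) (.leaf (nat_lit 0x170404c612))) (.node 1 (.leaf (nat_lit 0x170504c622)) (.leaf (nat_lit 0x170304c632)))) (.node 2 (.node 1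 (.leaf (nat_lit 0x170404c652)) (.leaf (nat_lit 0x170304c672))) (.node 1 (.leaf (nat_lit 0x170404c682)) (.leaf (nat_lit 0x170304c692)))))) (.node 8 (.node 4 (.node 2 (.node 1 (.leaf (nat_lit 0x170304c6a2)) (.leaf (nat_lit 0x170304c6b2))) (.node 1 (.leaf (nat_lit 0x170304c6d2)) (.leaf (nat_lit 0x170404c6f2)))) (.node 2 (.node 1 (.leaf (nat_lit 0x170504c722)) (.leaf (nat_lit 0x220804c781))) (.node 1 (.leaf (nat_lit 0x220704c791)) (.leaf (nat_lit 0x220804c7b1))))) (.node 4 (.node 2 (.node 1 (.leaf (nat_lit 0x220704c7c1)) (.leaf (nat_lit 0x220804c7d1))) (.node 1 (.leaf (nat_lit 0x220704c7e1)) (.leaf (nat_lit 0x220704c7f1)))) (.node 2 (.node 1 (.leaf (nat_lit 0x220304c821)) (.leaf (nat_lit 0x220404c831))) (.node 1 (.leaf (nat_lit 0x220704c841)) (.leaf (nat_lit 0x220304c851))))))))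

noncomputable def oT167 : Tree :=
  .node 64 (.node 32 (.node 16 (.node 8 (.node 4 (.node 2 (.node 1 (.leaf (nat_lit 0x220304c861)) (.leaf (nat_lit 0x220404c871))) (.node 1 (.leaf (nat_lit 0x220304c8a1)) (.leaf (nat_lit 0x220804c8a1)))) (.node 2 (.node 1 (.leaf (nat_lit 0x220704c8b1)) (.leaf (nat_lit 0x220704c8c1))) (.node 1 (.leaf (nat_lit 0x220304c8e1)) (.leaf (nat_lit 0x220304c8f1))))) (.node 4 (.node 2 (.node 1 (.leaf (nat_lit 0x220404c901)) (.leaf (nat_lit 0x240704c911))) (.node 1 (.leaf (nat_lit 0x220504c931)) (.leaf (nat_lit 0x220704c931)))) (.node 2 (.node 1 (.leaf (nat_lit 0x220804c931)) (.leaf (nat_lit 0x220804c941))) (.node 1 (.leaf (nat_lit 0x220704c951)) (.leaf (nat_lit 0x220304c961)))))) (.node 8 (.node 4 (.node 2 (.node 1 (.leaf (nat_lit 0x220704c971)) (.leaf (nat_lit 0x220304c981))) (.node 1 (.leaf (nat_lit 0x220704c991)) (.leaf (nat_lit 0x220304c9a1)))) (.node 2 (.node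 1 (.leaf (nat_lit 0x220404c9b1)) (.leaf (nat_lit 0x220304c9e1))) (.node 1 (.leaf (nat_lit 0x220404ca01)) (.leaf (nat_lit 0x220504ca11))))) (.node 4 (.node 2 (.node 1 (.leaf (nat_lit 0x220804ca21)) (.leaf (nat_lit 0x220704ca31))) (.node 1 (.leaf (nat_lit 0x220304ca41)) (.leaf (nat_lit 0x220404ca51)))) (.node 2 (.node 1 (.leaf (nat_lit 0x220504ca61)) (.leaf (nat_lit 0x220604ca71))) (.node 1 (.leaf (nat_lit 0x220304ca81)) (.leaf (nat_lit 0x220804ca81))))))) (.node 16 (.node 8 (.node 4 (.node 2 (.node 1 (.leaf (nat_lit 0x220704ca91)) (.leaf (nat_lit 0x220704caa1))) (.node 1 (.leaf (nat_lit 0x220304cac1)) (.leaf (nat_lit 0x220304cad1)))) (.node 2 (.node 1 (.leaf (nat_lit 0x240804caf1)) (.leaf (nat_lit 0x240704cb01))) (.node 1 (.leaf (nat_lit 0x240704cb11)) (.leaf (nat_lit 0x220704cb31))))) (.node 4 (.node 2 (.node 1 (.leaf (nat_lit 0x220304cb41)) (.leaf (nat_lit 0x220304cb51))) (.node 1 (.leaf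 (nat_lit 0x220404cb61)) (.leaf (nat_lit 0x220404cbb1)))) (.node 2 (.node 1 (.leaf (nat_lit 0x220504cbc1)) (.leaf (nat_lit 0x220804cbd1))) (.node 1 (.leaf (nat_lit 0x220704cbe1)) (.leaf (nat_lit 0x220704cbf1)))))) (.node 8 (.node 4 (.node 2 (.node 1 (.leaf (nat_lit 0x220804cbf1)) (.leaf (nat_lit 0x220704cc01))) (.node 1 (.leaf (nat_lit 0x220304cc11)) (.leaf (nat_lit 0x220304cc21)))) (.node 2 (.node 1 (.leaf (nat_lit 0x220304cc31)) (.leaf (nat_lit 0x220404cc41))) (.node 1 (.leaf (nat_lit 0x220404cc61)) (.leaf (nat_lit 0x240804cc81))))) (.node 4 (.node 2 (.node 1 (.leaf (nat_lit 0x240704cc91)) (.leaf (nat_lit 0x240804cca1))) (.node 1 (.leaf (nat_lit 0x240704ccb1)) (.leaf (nat_lit 0x240804ccd1)))) (.node 2 (.node 1 (.leaf (nat_lit 0x240704cce1)) (.leaf (nat_lit 0x240704ccf1))) (.node 1 (.leaf (nat_lit 0x240304cd01)) (.leaf (nat_lit 0x240304cd11)))))))) (.node 32 (.node 16 (.node 8 (.node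 4 (.node 2 (.node 1 (.leaf (nat_lit 0x220804cd21)) (.leaf (nat_lit 0x220704cd31))) (.node 1 (.leaf (nat_lit 0x220804cd41)) (.leaf (nat_lit 0x220804cd51)))) (.node 2 (.node 1 (.leaf (nat_lit 0x220704cd61)) (.leaf (nat_lit 0x220304cd71))) (.node 1 (.leaf (nat_lit 0x220804cd81)) (.leaf (nat_lit 0x220704cd91))))) (.node 4 (.node 2 (.node 1 (.leaf (nat_lit 0x220804cda1)) (.leaf (nat_lit 0x220704cdb1))) (.node 1 (.leaf (nat_lit 0x220304cdc1)) (.leaf (nat_lit 0x220404cdd1)))) (.node 2 (.node 1 (.leaf (nat_lit 0x220404cec1)) (.leaf (nat_lit 0x220704cdf1))) (.node 1 (.leaf (nat_lit 0x220304ce01)) (.leaf (nat_lit 0x220204ce11)))))) (.node 8 (.node 4 (.node 2 (.node 1 (.leaf (nat_lit 0x240304ce21)) (.leaf (nat_lit 0x220304ce41))) (.node 1 (.leaf (nat_lit 0x220704ce51)) (.leaf (nat_lit 0x220204ce71)))) (.node 2 (.node 1 (.leaf (nat_lit 0x220404ce71)) (.leaf (nat_lit 0x220704ce81))) (.node 1 (.leaf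 (nat_lit 0x220304ce91)) (.leaf (nat_lit 0x220504ceb1))))) (.node 4 (.node 2 (.node 1 (.leaf (nat_lit 0x220604cf61)) (.leaf (nat_lit 0x220204cfd1))) (.node 1 (.leaf (nat_lit 0x240304cf81)) (.leaf (nat_lit 0x240404cf91)))) (.node 2 (.node 1 (.leaf (nat_lit 0x220304cfa1)) (.leaf (nat_lit 0x220704cfb1))) (.node 1 (.leaf (nat_lit 0x220304cfc1)) (.leaf (nat_lit 0x220404cfd1))))))) (.node 16 (.node 8 (.node 4 (.node 2 (.node 1 (.leaf (nat_lit 0x220704cfe1)) (.leaf (nat_lit 0x220304cff1))) (.node 1 (.leaf (nat_lit 0x220404d001)) (.leaf (nat_lit 0x220504d011)))) (.node 2 (.node 1 (.leaf (nat_lit 0x220504d051)) (.leaf (nat_lit 0x220604d061))) (.node 1 (.leaf (nat_lit 0x24070556a1)) (.leaf (nat_lit 0x240804d0a1))))) (.node 4 (.node 2 (.node 1 (.leaf (nat_lit 0x240704d0b1)) (.leaf (nat_lit 0x240704d0c1))) (.node 1 (.leaf (nat_lit 0x220304d0e1)) (.leaf (nat_lit 0x220704d0f1)))) (.node 2 (.node 1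 (.leaf (nat_lit 0x240804d111)) (.leaf (nat_lit 0x240704d121))) (.node 1 (.leaf (nat_lit 0x240704d131)) (.leaf (nat_lit 0x220704d151)))))) (.node 8 (.node 4 (.node 2 (.node 1 (.leaf (nat_lit 0x220304d161)) (.leaf (nat_lit 0x2407056a01))) (.node 1 (.leaf (nat_lit 0x240404d1a1)) (.leaf (nat_lit 0x2403057a71)))) (.node 2 (.node 1 (.leaf (nat_lit 0x220704d2b1)) (.leaf (nat_lit 0x240804d1b1))) (.node 1 (.leaf (nat_lit 0x240704d1c1)) (.leaf (nat_lit 0x240504d1e1))))) (.node 4 (.node 2 (.node 1 (.leaf (nat_lit 0x240804d1e1)) (.leaf (nat_lit 0x240704d1f1))) (.node 1 (.leaf (nat_lit 0x2407056701)) (.leaf (nat_lit 0x240804d201)))) (.node 2 (.node 1 (.leaf (nat_lit 0x240804d211)) (.leaf (nat_lit 0x240404d231))) (.node 1 (.leaf (nat_lit 0x220804d241)) (.leaf (nat_lit 0x240704d251))))))))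

noncomputable def oT168 : Tree :=
  .node 64 (.node 32 (.node 16 (.node 8 (.node 4 (.node 2 (.node 1 (.leaf (nat_lit 0x260304d261)) (.leaf (nat_lit 0x220504d271))) (.node 1 (.leaf (nat_lit 0x220804d271)) (.leaf (nat_lit 0x220804d281)))) (.node 2 (.node 1 (.leaf (nat_lit 0x220704d291)) (.leaf (nat_lit 0x220804d2b1))) (.node 1 (.leaf (nat_lit 0x220704d2c1)) (.leaf (nat_lit 0x220704d2d1))))) (.node 4 (.node 2 (.node 1 (.leaf (nat_lit 0x220304d2e1)) (.leaf (nat_lit 0x220304d2f1))) (.node 1 (.leaf (nat_lit 0x220204d301)) (.leaf (nat_lit 0x240804d311)))) (.node 2 (.node 1 (.leaf (nat_lit 0x240404d331)) (.leaf (nat_lit 0x240704d341))) (.node 1 (.leaf (nat_lit 0x2404057af1)) (.leaf (nat_lit 0x220704d361)))))) (.node 8 (.node 4 (.node 2 (.node 1 (.leaf (nat_lit 0x220704d381)) (.leaf (nat_lit 0x220304d391))) (.node 1 (.leaf (nat_lit 0x220304d3a1)) (.leaf (nat_lit 0x240704d3d1)))) (.node 2 (.node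 1 (.leaf (nat_lit 0x220704d3e1)) (.leaf (nat_lit 0x220804d401))) (.node 1 (.leaf (nat_lit 0x220704d411)) (.leaf (nat_lit 0x220704d421))))) (.node 4 (.node 2 (.node 1 (.leaf (nat_lit 0x240704d441)) (.leaf (nat_lit 0x220304d461))) (.node 1 (.leaf (nat_lit 0x240804d471)) (.leaf (nat_lit 0x2403057f81)))) (.node 2 (.node 1 (.leaf (nat_lit 0x240804d491)) (.leaf (nat_lit 0x240704d4a1))) (.node 1 (.leaf (nat_lit 0x240804d4c1)) (.leaf (nat_lit 0x240704d4d1))))))) (.node 16 (.node 8 (.node 4 (.node 2 (.node 1 (.leaf (nat_lit 0x240704d4e1)) (.leaf (nat_lit 0x260304d501))) (.node 1 (.leaf (nat_lit 0x220804d511)) (.leaf (nat_lit 0x220704d521)))) (.node 2 (.node 1 (.leaf (nat_lit 0x220804d531)) (.leaf (nat_lit 0x220704d541))) (.node 1 (.leaf (nat_lit 0x220804d561)) (.leaf (nat_lit 0x220704d571))))) (.node 4 (.node 2 (.node 1 (.leaf (nat_lit 0x220304d581)) (.leaf (nat_lit 0x220204d591))) (.node 1 (.leaf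 (nat_lit 0x220304dfe1)) (.leaf (nat_lit 0x220704d5d1)))) (.node 2 (.node 1 (.leaf (nat_lit 0x220704d5e1)) (.leaf (nat_lit 0x220404d601))) (.node 1 (.leaf (nat_lit 0x220804d601)) (.leaf (nat_lit 0x220304d611)))))) (.node 8 (.node 4 (.node 2 (.node 1 (.leaf (nat_lit 0x220804d611)) (.leaf (nat_lit 0x220704d621))) (.node 1 (.leaf (nat_lit 0x220704d631)) (.leaf (nat_lit 0x220804d631)))) (.node 2 (.node 1 (.leaf (nat_lit 0x220704d641)) (.leaf (nat_lit 0x220304d651))) (.node 1 (.leaf (nat_lit 0x220304d661)) (.leaf (nat_lit 0x24060559f1))))) (.node 4 (.node 2 (.node 1 (.leaf (nat_lit 0x240404d681)) (.leaf (nat_lit 0x2403057b41))) (.node 1 (.leaf (nat_lit 0x240804d691)) (.leaf (nat_lit 0x240704d6a1)))) (.node 2 (.node 1 (.leaf (nat_lit 0x220404d6d1)) (.leaf (nat_lit 0x220304dd71))) (.node 1 (.leaf (nat_lit 0x240804d6e1)) (.leaf (nat_lit 0x240704d6f1)))))))) (.node 32 (.node 16 (.node 8 (.node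 4 (.node 2 (.node 1 (.leaf (nat_lit 0x240304d711)) (.leaf (nat_lit 0x220804d721))) (.node 1 (.leaf (nat_lit 0x220704d731)) (.leaf (nat_lit 0x220204d741)))) (.node 2 (.node 1 (.leaf (nat_lit 0x220504d741)) (.leaf (nat_lit 0x220804d741))) (.node 1 (.leaf (nat_lit 0x220804d751)) (.leaf (nat_lit 0x220704d761))))) (.node 4 (.node 2 (.node 1 (.leaf (nat_lit 0x220604d781)) (.leaf (nat_lit 0x220704d781))) (.node 1 (.leaf (nat_lit 0x220804d781)) (.leaf (nat_lit 0x220804d791)))) (.node 2 (.node 1 (.leaf (nat_lit 0x220704d7a1)) (.leaf (nat_lit 0x2405057e91))) (.node 1 (.leaf (nat_lit 0x220804d7b1)) (.leaf (nat_lit 0x220704d7c1)))))) (.node 8 (.node 4 (.node 2 (.node 1 (.leaf (nat_lit 0x220304d7d1)) (.leaf (nat_lit 0x260804d7e1))) (.node 1 (.leaf (nat_lit 0x220704d7f1)) (.leaf (nat_lit 0x220304d801)))) (.node 2 (.node 1 (.leaf (nat_lit 0x220204d811)) (.leaf (nat_lit 0x220304dff1))) (.node 1 (.leaf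 (nat_lit 0x220404d841)) (.leaf (nat_lit 0x220304d851))))) (.node 4 (.node 2 (.node 1 (.leaf (nat_lit 0x220704d871)) (.leaf (nat_lit 0x220304d881))) (.node 1 (.leaf (nat_lit 0x240804d891)) (.leaf (nat_lit 0x220704d8a1)))) (.node 2 (.node 1 (.leaf (nat_lit 0x220304d8b1)) (.leaf (nat_lit 0x2403055781))) (.node 1 (.leaf (nat_lit 0x220204d8f1)) (.leaf (nat_lit 0x240204d931))))))) (.node 16 (.node 8 (.node 4 (.node 2 (.node 1 (.leaf (nat_lit 0x220304d911)) (.leaf (nat_lit 0x240804d941))) (.node 1 (.leaf (nat_lit 0x240404d961)) (.leaf (nat_lit 0x240804d971)))) (.node 2 (.node 1 (.leaf (nat_lit 0x260704d981)) (.leaf (nat_lit 0x260304d991))) (.node 1 (.leaf (nat_lit 0x220504d9b1)) (.leaf (nat_lit 0x220404d9c1))))) (.node 4 (.node 2 (.node 1 (.leaf (nat_lit 0x220404dad1)) (.leaf (nat_lit 0x240704d9e1))) (.node 1 (.leaf (nat_lit 0x240405a321)) (.leaf (nat_lit 0x220704da91)))) (.node 2 (.node 1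 (.leaf (nat_lit 0x240804da11)) (.leaf (nat_lit 0x240704da21))) (.node 1 (.leaf (nat_lit 0x240304da31)) (.leaf (nat_lit 0x260204da41)))))) (.node 8 (.node 4 (.node 2 (.node 1 (.leaf (nat_lit 0x220804da51)) (.leaf (nat_lit 0x220704da61))) (.node 1 (.leaf (nat_lit 0x220604da81)) (.leaf (nat_lit 0x220804da81)))) (.node 2 (.node 1 (.leaf (nat_lit 0x220804daa1)) (.leaf (nat_lit 0x220704dab1))) (.node 1 (.leaf (nat_lit 0x220304dac1)) (.leaf (nat_lit 0x220704dae1))))) (.node 4 (.node 2 (.node 1 (.leaf (nat_lit 0x220804dae1)) (.leaf (nat_lit 0x220804daf1))) (.node 1 (.leaf (nat_lit 0x220704db01)) (.leaf (nat_lit 0x220704db11)))) (.node 2 (.node 1 (.leaf (nat_lit 0x220304db21)) (.leaf (nat_lit 0x240804db31))) (.node 1 (.leaf (nat_lit 0x220704db41)) (.leaf (nat_lit 0x220304db51))))))))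

noncomputable def oT169 : Tree :=
  .node 64 (.node 32 (.node 16 (.node 8 (.node 4 (.node 2 (.node 1 (.leaf (nat_lit 0x220204db61)) (.leaf (nat_lit 0x220404db61))) (.node 1 (.leaf (nat_lit 0x220504db71)) (.leaf (nat_lit 0x240404dd01)))) (.node 2 (.node 1 (.leaf (nat_lit 0x220304db91)) (.leaf (nat_lit 0x220204dba1))) (.node 1 (.leaf (nat_lit 0x220104dbb1)) (.leaf (nat_lit 0x220504dbd1))))) (.node 4 (.node 2 (.node 1 (.leaf (nat_lit 0x220404dbe1)) (.leaf (nat_lit 0x220504dc01))) (.node 1 (.leaf (nat_lit 0x220404e0a1)) (.leaf (nat_lit 0x240304dc11)))) (.node 2 (.node 1 (.leaf (nat_lit 0x220304dc31)) (.leaf (nat_lit 0x220704dd91))) (.node 1 (.leaf (nat_lit 0x2403055831)) (.leaf (nat_lit 0x220704dc61)))))) (.node 8 (.node 4 (.node 2 (.node 1 (.leaf (nat_lit 0x220704dc81)) (.leaf (nat_lit 0x220304dc91))) (.node 1 (.leaf (nat_lit 0x220204dca1)) (.leaf (nat_lit 0x240704dcb1)))) (.node 2 (.node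 1 (.leaf (nat_lit 0x220304dcc1)) (.leaf (nat_lit 0x220404dcd1))) (.node 1 (.leaf (nat_lit 0x220504dce1)) (.leaf (nat_lit 0x220704dd11))))) (.node 4 (.node 2 (.node 1 (.leaf (nat_lit 0x220304dd21)) (.leaf (nat_lit 0x220204e0a1))) (.node 1 (.leaf (nat_lit 0x220804dee1)) (.leaf (nat_lit 0x220304dda1)))) (.node 2 (.node 1 (.leaf (nat_lit 0x220804ddb1)) (.leaf (nat_lit 0x220704ddc1))) (.node 1 (.leaf (nat_lit 0x240804ddd1)) (.leaf (nat_lit 0x240704dde1))))))) (.node 16 (.node 8 (.node 4 (.node 2 (.node 1 (.leaf (nat_lit 0x220704de11)) (.leaf (nat_lit 0x220804de21))) (.node 1 (.leaf (nat_lit 0x220704de31)) (.leaf (nat_lit 0x220304de41)))) (.node 2 (.node 1 (.leaf (nat_lit 0x220804de51)) (.leaf (nat_lit 0x220704de61))) (.node 1 (.leaf (nat_lit 0x220304de71)) (.leaf (nat_lit 0x220404de81))))) (.node 4 (.node 2 (.node 1 (.leaf (nat_lit 0x240704de91)) (.leaf (nat_lit 0x220804dea1))) (.node 1 (.leaf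 (nat_lit 0x220704deb1)) (.leaf (nat_lit 0x220704dec1)))) (.node 2 (.node 1 (.leaf (nat_lit 0x220304df01)) (.leaf (nat_lit 0x220304df21))) (.node 1 (.leaf (nat_lit 0x220504dfb1)) (.leaf (nat_lit 0x220704e011)))))) (.node 8 (.node 4 (.node 2 (.node 1 (.leaf (nat_lit 0x220704e021)) (.leaf (nat_lit 0x220304e031))) (.node 1 (.leaf (nat_lit 0x220804e051)) (.leaf (nat_lit 0x220704e061)))) (.node 2 (.node 1 (.leaf (nat_lit 0x220704e071)) (.leaf (nat_lit 0x220304e081))) (.node 1 (.leaf (nat_lit 0x220304e091)) (.leaf (nat_lit 0x220304e0b1))))) (.node 4 (.node 2 (.node 1 (.leaf (nat_lit 0x220204e0c1)) (.leaf (nat_lit 0x220404e0c1))) (.node 1 (.leaf (nat_lit 0x220104e0d1)) (.leaf (nat_lit 0x220404e0d1)))) (.node 2 (.node 1 (.leaf (nat_lit 0x220504e0e1)) (.leaf (nat_lit 0x240404e121))) (.node 1 (.leaf (nat_lit 0x220304e141)) (.leaf (nat_lit 0x220204e151)))))))) (.node 32 (.node 16 (.node 8 (.node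 4 (.node 2 (.node 1 (.leaf (nat_lit 0x220404e151)) (.leaf (nat_lit 0x220404e171))) (.node 1 (.leaf (nat_lit 0x220504e181)) (.leaf (nat_lit 0x220304e1c1)))) (.node 2 (.node 1 (.leaf (nat_lit 0x220304e1d1)) (.leaf (nat_lit 0x220204e201))) (.node 1 (.leaf (nat_lit 0x230704e221)) (.leaf (nat_lit 0x180704e2a2))))) (.node 4 (.node 2 (.node 1 (.leaf (nat_lit 0x180704e2c2)) (.leaf (nat_lit 0x180704e2e2))) (.node 1 (.leaf (nat_lit 0x180304e302)) (.leaf (nat_lit 0x180204e312)))) (.node 2 (.node 1 (.leaf (nat_lit 0x180304e342)) (.leaf (nat_lit 0x180704e352))) (.node 1 (.leaf (nat_lit 0x180304e362)) (.leaf (nat_lit 0x180204e372)))))) (.node 8 (.node 4 (.node 2 (.node 1 (.leaf (nat_lit 0x180104e392)) (.leaf (nat_lit 0x230504e3a1))) (.node 1 (.leaf (nat_lit 0x230804e3a1)) (.leaf (nat_lit 0x230704e3b1)))) (.node 2 (.node 1 (.leaf (nat_lit 0x230804e3c1)) (.leaf (nat_lit 0x230704e3d1))) (.node 1 (.leaf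 (nat_lit 0x230304e3f1)) (.leaf (nat_lit 0x230404e471))))) (.node 4 (.node 2 (.node 1 (.leaf (nat_lit 0x230404e411)) (.leaf (nat_lit 0x230304e741))) (.node 1 (.leaf (nat_lit 0x230504e421)) (.leaf (nat_lit 0x230804e421)))) (.node 2 (.node 1 (.leaf (nat_lit 0x230704e431)) (.leaf (nat_lit 0x230804e441))) (.node 1 (.leaf (nat_lit 0x230704e451)) (.leaf (nat_lit 0x230804e471))))))) (.node 16 (.node 8 (.node 4 (.node 2 (.node 1 (.leaf (nat_lit 0x230704e481)) (.leaf (nat_lit 0x230804e4a1))) (.node 1 (.leaf (nat_lit 0x230504e4b1)) (.leaf (nat_lit 0x230804e4b1)))) (.node 2 (.node 1 (.leaf (nat_lit 0x230704e4c1)) (.leaf (nat_lit 0x230804e4d1))) (.node 1 (.leaf (nat_lit 0x230704e4e1)) (.leaf (nat_lit 0x230704e501))))) (.node 4 (.node 2 (.node 1 (.leaf (nat_lit 0x230304e511)) (.leaf (nat_lit 0x230704e521))) (.node 1 (.leaf (nat_lit 0x230704e531)) (.leaf (nat_lit 0x230204e561)))) (.node 2 (.node 1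 (.leaf (nat_lit 0x230304e581)) (.leaf (nat_lit 0x230204e591))) (.node 1 (.leaf (nat_lit 0x230804e5d1)) (.leaf (nat_lit 0x230704e5e1)))))) (.node 8 (.node 4 (.node 2 (.node 1 (.leaf (nat_lit 0x230304e601)) (.leaf (nat_lit 0x230704e621))) (.node 1 (.leaf (nat_lit 0x230704e641)) (.leaf (nat_lit 0x230804e671)))) (.node 2 (.node 1 (.leaf (nat_lit 0x230704e681)) (.leaf (nat_lit 0x230804e691))) (.node 1 (.leaf (nat_lit 0x230704e6a1)) (.leaf (nat_lit 0x230804e6d1))))) (.node 4 (.node 2 (.node 1 (.leaf (nat_lit 0x230704e6e1)) (.leaf (nat_lit 0x230304e6f1))) (.node 1 (.leaf (nat_lit 0x230704e701)) (.leaf (nat_lit 0x230304e711)))) (.node 2 (.node 1 (.leaf (nat_lit 0x230704e731)) (.leaf (nat_lit 0x230704e751))) (.node 1 (.leaf (nat_lit 0x230404e7a1)) (.leaf (nat_lit 0x230804e771))))))))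

noncomputable def oT170 : Tree :=
  .node 64 (.node 32 (.node 16 (.node 8 (.node 4 (.node 2 (.node 1 (.leaf (nat_lit 0x230704e781)) (.leaf (nat_lit 0x230304e791))) (.node 1 (.leaf (nat_lit 0x230804e7a1)) (.leaf (nat_lit 0x230704e7b1)))) (.node 2 (.node 1 (.leaf (nat_lit 0x230304e7c1)) (.leaf (nat_lit 0x230204e7d1))) (.node 1 (.leaf (nat_lit 0x230704e7e1)) (.leaf (nat_lit 0x230704e801))))) (.node 4 (.node 2 (.node 1 (.leaf (nat_lit 0x230304e811)) (.leaf (nat_lit 0x230104e831))) (.node 1 (.leaf (nat_lit 0x230304e851)) (.leaf (nat_lit 0x230204e861)))) (.node 2 (.node 1 (.leaf (nat_lit 0x230404e861)) (.leaf (nat_lit 0x230104e871))) (.node 1 (.leaf (nat_lit 0x230704efc1)) (.leaf (nat_lit 0x230804e8a1)))))) (.node 8 (.node 4 (.node 2 (.node 1 (.leaf (nat_lit 0x230104e8c1)) (.leaf (nat_lit 0x230404e8c1))) (.node 1 (.leaf (nat_lit 0x230804e8c1)) (.leaf (nat_lit 0x230504e8d1)))) (.node 2 (.node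 1 (.leaf (nat_lit 0x230804e8d1)) (.leaf (nat_lit 0x230704e8e1))) (.node 1 (.leaf (nat_lit 0x230704ea21)) (.leaf (nat_lit 0x250804e8f1))))) (.node 4 (.node 2 (.node 1 (.leaf (nat_lit 0x230404e911)) (.leaf (nat_lit 0x230804e911))) (.node 1 (.leaf (nat_lit 0x230404e9a1)) (.leaf (nat_lit 0x250804e921)))) (.node 2 (.node 1 (.leaf (nat_lit 0x250304f231)) (.leaf (nat_lit 0x230304e941))) (.node 1 (.leaf (nat_lit 0x230804e941)) (.leaf (nat_lit 0x230704e951))))))) (.node 16 (.node 8 (.node 4 (.node 2 (.node 1 (.leaf (nat_lit 0x230804e961)) (.leaf (nat_lit 0x230704e971))) (.node 1 (.leaf (nat_lit 0x230704e991)) (.leaf (nat_lit 0x23010500a1)))) (.node 2 (.node 1 (.leaf (nat_lit 0x230804e9a1)) (.leaf (nat_lit 0x230704e9b1))) (.node 1 (.leaf (nat_lit 0x230304e9d1)) (.leaf (nat_lit 0x230704e9e1))))) (.node 4 (.node 2 (.node 1 (.leaf (nat_lit 0x230304e9f1)) (.leaf (nat_lit 0x230404ea01))) (.node 1 (.leaf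 (nat_lit 0x230204ea11)) (.leaf (nat_lit 0x230804ea21)))) (.node 2 (.node 1 (.leaf (nat_lit 0x250304f421)) (.leaf (nat_lit 0x230404eb11))) (.node 1 (.leaf (nat_lit 0x230804ea41)) (.leaf (nat_lit 0x230704ea51)))))) (.node 8 (.node 4 (.node 2 (.node 1 (.leaf (nat_lit 0x2305050ae1)) (.leaf (nat_lit 0x230804ea61))) (.node 1 (.leaf (nat_lit 0x250404ea81)) (.leaf (nat_lit 0x230304ea91)))) (.node 2 (.node 1 (.leaf (nat_lit 0x230804ea91)) (.leaf (nat_lit 0x230704eaa1))) (.node 1 (.leaf (nat_lit 0x230504eab1)) (.leaf (nat_lit 0x230704eab1))))) (.node 4 (.node 2 (.node 1 (.leaf (nat_lit 0x230804eab1)) (.leaf (nat_lit 0x230804eac1))) (.node 1 (.leaf (nat_lit 0x230704ead1)) (.leaf (nat_lit 0x230304eae1)))) (.node 2 (.node 1 (.leaf (nat_lit 0x230704eaf1)) (.leaf (nat_lit 0x230304eb01))) (.node 1 (.leaf (nat_lit 0x230804eb11)) (.leaf (nat_lit 0x230704eb21)))))))) (.node 32 (.node 16 (.node 8 (.node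 4 (.node 2 (.node 1 (.leaf (nat_lit 0x230204f5d1)) (.leaf (nat_lit 0x230804eb41))) (.node 1 (.leaf (nat_lit 0x230704eb51)) (.leaf (nat_lit 0x230404f611)))) (.node 2 (.node 1 (.leaf (nat_lit 0x230304eb71)) (.leaf (nat_lit 0x230704eb81))) (.node 1 (.leaf (nat_lit 0x230304eb91)) (.leaf (nat_lit 0x230404eba1))))) (.node 4 (.node 2 (.node 1 (.leaf (nat_lit 0x230304ebb1)) (.leaf (nat_lit 0x230204ebc1))) (.node 1 (.leaf (nat_lit 0x230204ebe1)) (.leaf (nat_lit 0x230404ebe1)))) (.node 2 (.node 1 (.leaf (nat_lit 0x230504ebf1)) (.leaf (nat_lit 0x230704ec11))) (.node 1 (.leaf (nat_lit 0x230304ec21)) (.leaf (nat_lit 0x230404f791)))))) (.node 8 (.node 4 (.node 2 (.node 1 (.leaf (nat_lit 0x230204ec41)) (.leaf (nat_lit 0x230404ec41))) (.node 1 (.leaf (nat_lit 0x230104ec51)) (.leaf (nat_lit 0x230204f831)))) (.node 2 (.node 1 (.leaf (nat_lit 0x230704ec81)) (.leaf (nat_lit 0x230804ec81))) (.node 1 (.leaf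 (nat_lit 0x230704ec91)) (.leaf (nat_lit 0x230304eca1))))) (.node 4 (.node 2 (.node 1 (.leaf (nat_lit 0x230804ecb1)) (.leaf (nat_lit 0x230704ecc1))) (.node 1 (.leaf (nat_lit 0x230304ecd1)) (.leaf (nat_lit 0x230404ece1)))) (.node 2 (.node 1 (.leaf (nat_lit 0x230404ecf1)) (.leaf (nat_lit 0x230504ed11))) (.node 1 (.leaf (nat_lit 0x2302051471)) (.leaf (nat_lit 0x230804ed41))))))) (.node 16 (.node 8 (.node 4 (.node 2 (.node 1 (.leaf (nat_lit 0x230804ed61)) (.leaf (nat_lit 0x230704ed71))) (.node 1 (.leaf (nat_lit 0x230704ed81)) (.leaf (nat_lit 0x2307051031)))) (.node 2 (.node 1 (.leaf (nat_lit 0x230604edd1)) (.leaf (nat_lit 0x230804eda1))) (.node 1 (.leaf (nat_lit 0x2307051471)) (.leaf (nat_lit 0x230804edc1))))) (.node 4 (.node 2 (.node 1 (.leaf (nat_lit 0x230804edd1)) (.leaf (nat_lit 0x230704ede1))) (.node 1 (.leaf (nat_lit 0x230304edf1)) (.leaf (nat_lit 0x230804edf1)))) (.node 2 (.node 1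 (.leaf (nat_lit 0x230704ee01)) (.leaf (nat_lit 0x230804ee11))) (.node 1 (.leaf (nat_lit 0x230704ee21)) (.leaf (nat_lit 0x230704ee41)))))) (.node 8 (.node 4 (.node 2 (.node 1 (.leaf (nat_lit 0x230304ee61)) (.leaf (nat_lit 0x230704ee71))) (.node 1 (.leaf (nat_lit 0x230304ee81)) (.leaf (nat_lit 0x230304eeb1)))) (.node 2 (.node 1 (.leaf (nat_lit 0x230504eed1)) (.leaf (nat_lit 0x230804eed1))) (.node 1 (.leaf (nat_lit 0x230704eee1)) (.leaf (nat_lit 0x230804eef1))))) (.node 4 (.node 2 (.node 1 (.leaf (nat_lit 0x230704ef01)) (.leaf (nat_lit 0x230304ef11))) (.node 1 (.leaf (nat_lit 0x230804ef11)) (.leaf (nat_lit 0x230704ef21)))) (.node 2 (.node 1 (.leaf (nat_lit 0x230804ef31)) (.leaf (nat_lit 0x230704ef41))) (.node 1 (.leaf (nat_lit 0x230304ef71)) (.leaf (nat_lit 0x230704ef81))))))))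

noncomputable def oT171 : Tree :=
  .node 64 (.node 32 (.node 16 (.node 8 (.node 4 (.node 2 (.node 1 (.leaf (nat_lit 0x230304ef91)) (.leaf (nat_lit 0x2306050d41))) (.node 1 (.leaf (nat_lit 0x230804efc1)) (.leaf (nat_lit 0x230704efd1)))) (.node 2 (.node 1 (.leaf (nat_lit 0x230704efe1)) (.leaf (nat_lit 0x230704f001))) (.node 1 (.leaf (nat_lit 0x230304f011)) (.leaf (nat_lit 0x2303050251))))) (.node 4 (.node 2 (.node 1 (.leaf (nat_lit 0x230804f021)) (.leaf (nat_lit 0x230704f031))) (.node 1 (.leaf (nat_lit 0x230304f041)) (.leaf (nat_lit 0x230804f061)))) (.node 2 (.node 1 (.leaf (nat_lit 0x230704f071)) (.leaf (nat_lit 0x230304f081))) (.node 1 (.leaf (nat_lit 0x230704f0a1)) (.leaf (nat_lit 0x230304f0b1)))))) (.node 8 (.node 4 (.node 2 (.node 1 (.leaf (nat_lit 0x230704f0d1)) (.leaf (nat_lit 0x230304f0e1))) (.node 1 (.leaf (nat_lit 0x230404f0f1)) (.leaf (nat_lit 0x23040515a1)))) (.node 2 (.node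 1 (.leaf (nat_lit 0x230404f121)) (.leaf (nat_lit 0x23000509f1))) (.node 1 (.leaf (nat_lit 0x250404f131)) (.leaf (nat_lit 0x250804f131))))) (.node 4 (.node 2 (.node 1 (.leaf (nat_lit 0x23070539e1)) (.leaf (nat_lit 0x250804f141))) (.node 1 (.leaf (nat_lit 0x250704f151)) (.leaf (nat_lit 0x230004f161)))) (.node 2 (.node 1 (.leaf (nat_lit 0x230404f161)) (.leaf (nat_lit 0x230804f161))) (.node 1 (.leaf (nat_lit 0x230304f171)) (.leaf (nat_lit 0x230504f171))))))) (.node 16 (.node 8 (.node 4 (.node 2 (.node 1 (.leaf (nat_lit 0x230804f171)) (.leaf (nat_lit 0x230704f181))) (.node 1 (.leaf (nat_lit 0x230804f191)) (.leaf (nat_lit 0x230704f1a1)))) (.node 2 (.node 1 (.leaf (nat_lit 0x250704f401)) (.leaf (nat_lit 0x250804f1c1))) (.node 1 (.leaf (nat_lit 0x250704f1d1)) (.leaf (nat_lit 0x230704f441))))) (.node 4 (.node 2 (.node 1 (.leaf (nat_lit 0x230804f1e1)) (.leaf (nat_lit 0x23050526b1))) (.node 1 (.leaf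 (nat_lit 0x230804f1f1)) (.leaf (nat_lit 0x230704f201)))) (.node 2 (.node 1 (.leaf (nat_lit 0x230704f481)) (.leaf (nat_lit 0x230804f211))) (.node 1 (.leaf (nat_lit 0x250704f221)) (.leaf (nat_lit 0x230304f241)))))) (.node 8 (.node 4 (.node 2 (.node 1 (.leaf (nat_lit 0x230804f241)) (.leaf (nat_lit 0x230704f251))) (.node 1 (.leaf (nat_lit 0x230504f261)) (.leaf (nat_lit 0x230704f261)))) (.node 2 (.node 1 (.leaf (nat_lit 0x230804f261)) (.leaf (nat_lit 0x230804f271))) (.node 1 (.leaf (nat_lit 0x230704f281)) (.leaf (nat_lit 0x230304f291))))) (.node 4 (.node 2 (.node 1 (.leaf (nat_lit 0x2302051ce1)) (.leaf (nat_lit 0x230804f2a1))) (.node 1 (.leaf (nat_lit 0x230704f2b1)) (.leaf (nat_lit 0x230304f2c1)))) (.node 2 (.node 1 (.leaf (nat_lit 0x230704f2d1)) (.leaf (nat_lit 0x230304f2e1))) (.node 1 (.leaf (nat_lit 0x230804f2f1)) (.leaf (nat_lit 0x230704f301)))))))) (.node 32 (.node 16 (.node 8 (.node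 4 (.node 2 (.node 1 (.leaf (nat_lit 0x230304f311)) (.leaf (nat_lit 0x230304f321))) (.node 1 (.leaf (nat_lit 0x230704f331)) (.leaf (nat_lit 0x230404f351)))) (.node 2 (.node 1 (.leaf (nat_lit 0x230804f361)) (.leaf (nat_lit 0x230704f371))) (.node 1 (.leaf (nat_lit 0x230304f381)) (.leaf (nat_lit 0x230204f391))))) (.node 4 (.node 2 (.node 1 (.leaf (nat_lit 0x23020542a1)) (.leaf (nat_lit 0x230304f3d1))) (.node 1 (.leaf (nat_lit 0x230504f481)) (.leaf (nat_lit 0x250804f401)))) (.node 2 (.node 1 (.leaf (nat_lit 0x250704f411)) (.leaf (nat_lit 0x23030529f1))) (.node 1 (.leaf (nat_lit 0x230804f431)) (.leaf (nat_lit 0x230804f441)))))) (.node 8 (.node 4 (.node 2 (.node 1 (.leaf (nat_lit 0x230704f451)) (.leaf (nat_lit 0x230704f461))) (.node 1 (.leaf (nat_lit 0x230304f471)) (.leaf (nat_lit 0x2303050711)))) (.node 2 (.node 1 (.leaf (nat_lit 0x230804f481)) (.leaf (nat_lit 0x230704f491))) (.node 1 (.leaf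 (nat_lit 0x250304f4a1)) (.leaf (nat_lit 0x230304f4b1))))) (.node 4 (.node 2 (.node 1 (.leaf (nat_lit 0x230804f4b1)) (.leaf (nat_lit 0x230704f4c1))) (.node 1 (.leaf (nat_lit 0x230704f4d1)) (.leaf (nat_lit 0x230804f4d1)))) (.node 2 (.node 1 (.leaf (nat_lit 0x230804f4e1)) (.leaf (nat_lit 0x230704f4f1))) (.node 1 (.leaf (nat_lit 0x230304f501)) (.leaf (nat_lit 0x230804f511))))))) (.node 16 (.node 8 (.node 4 (.node 2 (.node 1 (.leaf (nat_lit 0x230704f521)) (.leaf (nat_lit 0x2307051ce1))) (.node 1 (.leaf (nat_lit 0x230804f531)) (.leaf (nat_lit 0x230704f541)))) (.node 2 (.node 1 (.leaf (nat_lit 0x230304f551)) (.leaf (nat_lit 0x230404f561))) (.node 1 (.leaf (nat_lit 0x250804f571)) (.leaf (nat_lit 0x230704f581))))) (.node 4 (.node 2 (.node 1 (.leaf (nat_lit 0x230304f591)) (.leaf (nat_lit 0x230204f5a1))) (.node 1 (.leaf (nat_lit 0x230704f5b1)) (.leaf (nat_lit 0x230304f5c1)))) (.node 2 (.node 1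 (.leaf (nat_lit 0x230404f5d1)) (.leaf (nat_lit 0x230804f5e1))) (.node 1 (.leaf (nat_lit 0x230704f5f1)) (.leaf (nat_lit 0x230304f601)))))) (.node 8 (.node 4 (.node 2 (.node 1 (.leaf (nat_lit 0x230204f611)) (.leaf (nat_lit 0x230304f621))) (.node 1 (.leaf (nat_lit 0x230704f631)) (.leaf (nat_lit 0x230404f651)))) (.node 2 (.node 1 (.leaf (nat_lit 0x230804f661)) (.leaf (nat_lit 0x230704f671))) (.node 1 (.leaf (nat_lit 0x230504f691)) (.leaf (nat_lit 0x250704f6a1))))) (.node 4 (.node 2 (.node 1 (.leaf (nat_lit 0x230304f6b1)) (.leaf (nat_lit 0x230204f6c1))) (.node 1 (.leaf (nat_lit 0x230404f6c1)) (.leaf (nat_lit 0x230104f6d1)))) (.node 2 (.node 1 (.leaf (nat_lit 0x2303052211)) (.leaf (nat_lit 0x230604f721))) (.node 1 (.leaf (nat_lit 0x2304054ac1)) (.leaf (nat_lit 0x230704f761))))))))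

noncomputable def oT172 : Tree :=
  .node 64 (.node 32 (.node 16 (.node 8 (.node 4 (.node 2 (.node 1 (.leaf (nat_lit 0x230304f771)) (.leaf (nat_lit 0x2303052641))) (.node 1 (.leaf (nat_lit 0x230404f781)) (.leaf (nat_lit 0x230104f791)))) (.node 2 (.node 1 (.leaf (nat_lit 0x230504f7f1)) (.leaf (nat_lit 0x230204f7b1))) (.node 1 (.leaf (nat_lit 0x230404f7b1)) (.leaf (nat_lit 0x230104f7c1))))) (.node 4 (.node 2 (.node 1 (.leaf (nat_lit 0x230404f7c1)) (.leaf (nat_lit 0x2304052af1))) (.node 1 (.leaf (nat_lit 0x230704f811)) (.leaf (nat_lit 0x230304f821)))) (.node 2 (.node 1 (.leaf (nat_lit 0x230404f831)) (.leaf (nat_lit 0x230804f841))) (.node 1 (.leaf (nat_lit 0x230704f851)) (.leaf (nat_lit 0x230804f871)))))) (.node 8 (.node 4 (.node 2 (.node 1 (.leaf (nat_lit 0x230704f881)) (.leaf (nat_lit 0x230304f891))) (.node 1 (.leaf (nat_lit 0x230404f8a1)) (.leaf (nat_lit 0x230704f8b1)))) (.node 2 (.node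 1 (.leaf (nat_lit 0x230304f8c1)) (.leaf (nat_lit 0x230404f8d1))) (.node 1 (.leaf (nat_lit 0x230504f8e1)) (.leaf (nat_lit 0x23020515a1))))) (.node 4 (.node 2 (.node 1 (.leaf (nat_lit 0x230504f911)) (.leaf (nat_lit 0x230504f921))) (.node 1 (.leaf (nat_lit 0x230604f931)) (.leaf (nat_lit 0x180704f982)))) (.node 2 (.node 1 (.leaf (nat_lit 0x180704f9a2)) (.leaf (nat_lit 0x180704f9b2))) (.node 1 (.leaf (nat_lit 0x180704f9c2)) (.leaf (nat_lit 0x180704f9e2))))))) (.node 16 (.node 8 (.node 4 (.node 2 (.node 1 (.leaf (nat_lit 0x180304fa02)) (.leaf (nat_lit 0x180304fa12))) (.node 1 (.leaf (nat_lit 0x180704fa52)) (.leaf (nat_lit 0x180304fa62)))) (.node 2 (.node 1 (.leaf (nat_lit 0x180704fa72)) (.leaf (nat_lit 0x180304fa82))) (.node 1 (.leaf (nat_lit 0x180304fab2)) (.leaf (nat_lit 0x180404fac2))))) (.node 4 (.node 2 (.node 1 (.leaf (nat_lit 0x180304fad2)) (.leaf (nat_lit 0x180204fae2))) (.node 1 (.leaf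 (nat_lit 0x180704fb52)) (.leaf (nat_lit 0x180304fb62)))) (.node 2 (.node 1 (.leaf (nat_lit 0x23030501c1)) (.leaf (nat_lit 0x180704fb82))) (.node 1 (.leaf (nat_lit 0x180704fba2)) (.leaf (nat_lit 0x180704fbb2)))))) (.node 8 (.node 4 (.node 2 (.node 1 (.leaf (nat_lit 0x180304fbc2)) (.leaf (nat_lit 0x180304fbd2))) (.node 1 (.leaf (nat_lit 0x180704fc12)) (.leaf (nat_lit 0x180304fc32)))) (.node 2 (.node 1 (.leaf (nat_lit 0x180304fc42)) (.leaf (nat_lit 0x180404fc52))) (.node 1 (.leaf (nat_lit 0x180204fc62)) (.leaf (nat_lit 0x180204fc92))))) (.node 4 (.node 2 (.node 1 (.leaf (nat_lit 0x180404fc92)) (.leaf (nat_lit 0x180304fcd2))) (.node 1 (.leaf (nat_lit 0x180304fce2)) (.leaf (nat_lit 0x180304fcf2)))) (.node 2 (.node 1 (.leaf (nat_lit 0x180304fd02)) (.leaf (nat_lit 0x180404fd12))) (.node 1 (.leaf (nat_lit 0x180304fd22)) (.leaf (nat_lit 0x180204fd32)))))))) (.node 32 (.node 16 (.node 8 (.node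 4 (.node 2 (.node 1 (.leaf (nat_lit 0x180304fd42)) (.leaf (nat_lit 0x180304fd52))) (.node 1 (.leaf (nat_lit 0x180304fd92)) (.leaf (nat_lit 0x180404fda2)))) (.node 2 (.node 1 (.leaf (nat_lit 0x180304fdb2)) (.leaf (nat_lit 0x180204fdc2))) (.node 1 (.leaf (nat_lit 0x180404fdc2)) (.leaf (nat_lit 0x180504fdd2))))) (.node 4 (.node 2 (.node 1 (.leaf (nat_lit 0x2305050251)) (.leaf (nat_lit 0x230804fe41))) (.node 1 (.leaf (nat_lit 0x230804fe61)) (.leaf (nat_lit 0x230704fe71)))) (.node 2 (.node 1 (.leaf (nat_lit 0x230704fe81)) (.leaf (nat_lit 0x2305050101))) (.node 1 (.leaf (nat_lit 0x230804fea1)) (.leaf (nat_lit 0x230404fec1)))))) (.node 8 (.node 4 (.node 2 (.node 1 (.leaf (nat_lit 0x230804fec1)) (.leaf (nat_lit 0x230504fed1))) (.node 1 (.leaf (nat_lit 0x230804fed1)) (.leaf (nat_lit 0x230704fee1)))) (.node 2 (.node 1 (.leaf (nat_lit 0x230704fef1)) (.leaf (nat_lit 0x230704ff01))) (.node 1 (.leaf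 (nat_lit 0x230804ff11)) (.leaf (nat_lit 0x230704ff21))))) (.node 4 (.node 2 (.node 1 (.leaf (nat_lit 0x230304ff41)) (.leaf (nat_lit 0x230304ff51))) (.node 1 (.leaf (nat_lit 0x230604ff81)) (.leaf (nat_lit 0x230804ff61)))) (.node 2 (.node 1 (.leaf (nat_lit 0x230804ff81)) (.leaf (nat_lit 0x230704ff91))) (.node 1 (.leaf (nat_lit 0x230804ffa1)) (.leaf (nat_lit 0x230704ffb1))))))) (.node 16 (.node 8 (.node 4 (.node 2 (.node 1 (.leaf (nat_lit 0x230804ffc1)) (.leaf (nat_lit 0x230704ffd1))) (.node 1 (.leaf (nat_lit 0x2303050001)) (.leaf (nat_lit 0x2307050011)))) (.node 2 (.node 1 (.leaf (nat_lit 0x2303050021)) (.leaf (nat_lit 0x2303050061))) (.node 1 (.leaf (nat_lit 0x2303050081)) (.leaf (nat_lit 0x23040500a1))))) (.node 4 (.node 2 (.node 1 (.leaf (nat_lit 0x23080500a1)) (.leaf (nat_lit 0x23050500b1))) (.node 1 (.leaf (nat_lit 0x23080500b1)) (.leaf (nat_lit 0x23070500c1)))) (.node 2 (.node 1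 (.leaf (nat_lit 0x23080500d1)) (.leaf (nat_lit 0x23070500e1))) (.node 1 (.leaf (nat_lit 0x23040500f1)) (.leaf (nat_lit 0x23080500f1)))))) (.node 8 (.node 4 (.node 2 (.node 1 (.leaf (nat_lit 0x2303050101)) (.leaf (nat_lit 0x2308050101))) (.node 1 (.leaf (nat_lit 0x2307050111)) (.leaf (nat_lit 0x2306050121)))) (.node 2 (.node 1 (.leaf (nat_lit 0x2308050121)) (.leaf (nat_lit 0x2307050131))) (.node 1 (.leaf (nat_lit 0x2307050161)) (.leaf (nat_lit 0x2303050171))))) (.node 4 (.node 2 (.node 1 (.leaf (nat_lit 0x2308050181)) (.leaf (nat_lit 0x2307050191))) (.node 1 (.leaf (nat_lit 0x23030501a1)) (.leaf (nat_lit 0x23030501b1)))) (.node 2 (.node 1 (.leaf (nat_lit 0x23040501d1)) (.leaf (nat_lit 0x23070501e1))) (.node 1 (.leaf (nat_lit 0x23030501f1)) (.leaf (nat_lit 0x2302050201))))))))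

noncomputable def oT173 : Tree :=
  .node 64 (.node 32 (.node 16 (.node 8 (.node 4 (.node 2 (.node 1 (.leaf (nat_lit 0x2308050211)) (.leaf (nat_lit 0x2307050221))) (.node 1 (.leaf (nat_lit 0x2507050231)) (.leaf (nat_lit 0x2308050251)))) (.node 2 (.node 1 (.leaf (nat_lit 0x2307050261)) (.leaf (nat_lit 0x2308050271))) (.node 1 (.leaf (nat_lit 0x2307050281)) (.leaf (nat_lit 0x2303050291))))) (.node 4 (.node 2 (.node 1 (.leaf (nat_lit 0x23080502a1)) (.leaf (nat_lit 0x23070502b1))) (.node 1 (.leaf (nat_lit 0x23030502c1)) (.leaf (nat_lit 0x23030502d1)))) (.node 2 (.node 1 (.leaf (nat_lit 0x23040502e1)) (.leaf (nat_lit 0x23070502f1))) (.node 1 (.leaf (nat_lit 0x2303050301)) (.leaf (nat_lit 0x2302050311)))))) (.node 8 (.node 4 (.node 2 (.node 1 (.leaf (nat_lit 0x2307050351)) (.leaf (nat_lit 0x2303050381))) (.node 1 (.leaf (nat_lit 0x23030503b1)) (.leaf (nat_lit 0x23020503c1)))) (.node 2 (.node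 1 (.leaf (nat_lit 0x23040503c1)) (.leaf (nat_lit 0x23030503f1))) (.node 1 (.leaf (nat_lit 0x2307050401)) (.leaf (nat_lit 0x2303050411))))) (.node 4 (.node 2 (.node 1 (.leaf (nat_lit 0x2304050421)) (.leaf (nat_lit 0x2305050441))) (.node 1 (.leaf (nat_lit 0x2308050461)) (.leaf (nat_lit 0x2307050471)))) (.node 2 (.node 1 (.leaf (nat_lit 0x2308050491)) (.leaf (nat_lit 0x23070504a1))) (.node 1 (.leaf (nat_lit 0x23040504b1)) (.leaf (nat_lit 0x23080504b1))))))) (.node 16 (.node 8 (.node 4 (.node 2 (.node 1 (.leaf (nat_lit 0x23030504c1)) (.leaf (nat_lit 0x23080504c1))) (.node 1 (.leaf (nat_lit 0x23070504d1)) (.leaf (nat_lit 0x23070504e1)))) (.node 2 (.node 1 (.leaf (nat_lit 0x2307050511)) (.leaf (nat_lit 0x2303050521))) (.node 1 (.leaf (nat_lit 0x23070516d1)) (.leaf (nat_lit 0x2308050551))))) (.node 4 (.node 2 (.node 1 (.leaf (nat_lit 0x2304050571)) (.leaf (nat_lit 0x2308050571))) (.node 1 (.leaf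 (nat_lit 0x2305050581)) (.leaf (nat_lit 0x2308050581)))) (.node 2 (.node 1 (.leaf (nat_lit 0x2307050591)) (.leaf (nat_lit 0x2305050771))) (.node 1 (.leaf (nat_lit 0x23080505a1)) (.leaf (nat_lit 0x25080505b1)))))) (.node 8 (.node 4 (.node 2 (.node 1 (.leaf (nat_lit 0x250305bae1)) (.leaf (nat_lit 0x23040505d1))) (.node 1 (.leaf (nat_lit 0x23080505d1)) (.leaf (nat_lit 0x23030505e1)))) (.node 2 (.node 1 (.leaf (nat_lit 0x23050505e1)) (.leaf (nat_lit 0x23080505e1))) (.node 1 (.leaf (nat_lit 0x23070505f1)) (.leaf (nat_lit 0x2308050601))))) (.node 4 (.node 2 (.node 1 (.leaf (nat_lit 0x2307050611)) (.leaf (nat_lit 0x2307050631))) (.node 1 (.leaf (nat_lit 0x2307050651)) (.leaf (nat_lit 0x2308050661)))) (.node 2 (.node 1 (.leaf (nat_lit 0x2307050671)) (.leaf (nat_lit 0x2303050681))) (.node 1 (.leaf (nat_lit 0x2307050691)) (.leaf (nat_lit 0x23030506a1)))))))) (.node 32 (.node 16 (.node 8 (.node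 4 (.node 2 (.node 1 (.leaf (nat_lit 0x23030506b1)) (.leaf (nat_lit 0x23040506d1))) (.node 1 (.leaf (nat_lit 0x23020506e1)) (.leaf (nat_lit 0x25080506f1)))) (.node 2 (.node 1 (.leaf (nat_lit 0x2507050701)) (.leaf (nat_lit 0x2308050711))) (.node 1 (.leaf (nat_lit 0x2307050721)) (.leaf (nat_lit 0x2304050761))))) (.node 4 (.node 2 (.node 1 (.leaf (nat_lit 0x2308050731)) (.leaf (nat_lit 0x2504050751))) (.node 1 (.leaf (nat_lit 0x2308050761)) (.leaf (nat_lit 0x2308050771)))) (.node 2 (.node 1 (.leaf (nat_lit 0x2307050781)) (.leaf (nat_lit 0x2308050791))) (.node 1 (.leaf (nat_lit 0x23070507a1)) (.leaf (nat_lit 0x23030507b1)))))) (.node 8 (.node 4 (.node 2 (.node 1 (.leaf (nat_lit 0x23070507c1)) (.leaf (nat_lit 0x23030507d1))) (.node 1 (.leaf (nat_lit 0x23070507f1)) (.leaf (nat_lit 0x2307050811)))) (.node 2 (.node 1 (.leaf (nat_lit 0x2303050821)) (.leaf (nat_lit 0x2307050831))) (.node 1 (.leaf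 (nat_lit 0x2303050841)) (.leaf (nat_lit 0x2304050851))))) (.node 4 (.node 2 (.node 1 (.leaf (nat_lit 0x2303050861)) (.leaf (nat_lit 0x2302050871))) (.node 1 (.leaf (nat_lit 0x23020508a1)) (.leaf (nat_lit 0x23040508a1)))) (.node 2 (.node 1 (.leaf (nat_lit 0x23020508b1)) (.leaf (nat_lit 0x23040508b1))) (.node 1 (.leaf (nat_lit 0x23070508e1)) (.leaf (nat_lit 0x2302050901))))))) (.node 16 (.node 8 (.node 4 (.node 2 (.node 1 (.leaf (nat_lit 0x2304050901)) (.leaf (nat_lit 0x2303050951))) (.node 1 (.leaf (nat_lit 0x2304050961)) (.leaf (nat_lit 0x2302050981)))) (.node 2 (.node 1 (.leaf (nat_lit 0x2304050981)) (.leaf (nat_lit 0x2305050991))) (.node 1 (.leaf (nat_lit 0x2307051b21)) (.leaf (nat_lit 0x23080509c1))))) (.node 4 (.node 2 (.node 1 (.leaf (nat_lit 0x2303050a91)) (.leaf (nat_lit 0x25080509d1))) (.node 1 (.leaf (nat_lit 0x25070509e1)) (.leaf (nat_lit 0x23040509f1)))) (.node 2 (.node 1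 (.leaf (nat_lit 0x23080509f1)) (.leaf (nat_lit 0x2303050a01))) (.node 1 (.leaf (nat_lit 0x2305050a01)) (.leaf (nat_lit 0x2308050a01)))))) (.node 8 (.node 4 (.node 2 (.node 1 (.leaf (nat_lit 0x2307050a11)) (.leaf (nat_lit 0x2308050a21))) (.node 1 (.leaf (nat_lit 0x2307050a31)) (.leaf (nat_lit 0x2304050a61)))) (.node 2 (.node 1 (.leaf (nat_lit 0x2303053d21)) (.leaf (nat_lit 0x2303050a71))) (.node 1 (.leaf (nat_lit 0x2308050a71)) (.leaf (nat_lit 0x2307050a81))))) (.node 4 (.node 2 (.node 1 (.leaf (nat_lit 0x2308050a91)) (.leaf (nat_lit 0x2507050aa1))) (.node 1 (.leaf (nat_lit 0x2303050ac1)) (.leaf (nat_lit 0x2308050ac1)))) (.node 2 (.node 1 (.leaf (nat_lit 0x2307050ad1)) (.leaf (nat_lit 0x2307050ae1))) (.node 1 (.leaf (nat_lit 0x2308050ae1)) (.leaf (nat_lit 0x2308050af1))))))))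

noncomputable def oT174 : Tree :=
  .node 64 (.node 32 (.node 16 (.node 8 (.node 4 (.node 2 (.node 1 (.leaf (nat_lit 0x2307050b01)) (.leaf (nat_lit 0x2303050b11))) (.node 1 (.leaf (nat_lit 0x2308050b21)) (.leaf (nat_lit 0x2307050b31)))) (.node 2 (.node 1 (.leaf (nat_lit 0x2303050b41)) (.leaf (nat_lit 0x2303050b51))) (.node 1 (.leaf (nat_lit 0x2307050b61)) (.leaf (nat_lit 0x2303050b71))))) (.node 4 (.node 2 (.node 1 (.leaf (nat_lit 0x2303050b81)) (.leaf (nat_lit 0x2307050b91))) (.node 1 (.leaf (nat_lit 0x2303050ba1)) (.leaf (nat_lit 0x2304050bb1)))) (.node 2 (.node 1 (.leaf (nat_lit 0x2307050bc1)) (.leaf (nat_lit 0x2303050bd1))) (.node 1 (.leaf (nat_lit 0x2302050be1)) (.leaf (nat_lit 0x2304050bf1)))))) (.node 8 (.node 4 (.node 2 (.node 1 (.leaf (nat_lit 0x2303050c21)) (.leaf (nat_lit 0x2508050c51))) (.node 1 (.leaf (nat_lit 0x2507050c61)) (.leaf (nat_lit 0x2305050c81)))) (.node 2 (.node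 1 (.leaf (nat_lit 0x2307050c81)) (.leaf (nat_lit 0x2308050c81))) (.node 1 (.leaf (nat_lit 0x2308050c91)) (.leaf (nat_lit 0x2307050ca1))))) (.node 4 (.node 2 (.node 1 (.leaf (nat_lit 0x2303050cb1)) (.leaf (nat_lit 0x2307050cc1))) (.node 1 (.leaf (nat_lit 0x2503050cd1)) (.leaf (nat_lit 0x2303050ce1)))) (.node 2 (.node 1 (.leaf (nat_lit 0x2308050ce1)) (.leaf (nat_lit 0x2307050cf1))) (.node 1 (.leaf (nat_lit 0x2305050d01)) (.leaf (nat_lit 0x2307050d01))))))) (.node 16 (.node 8 (.node 4 (.node 2 (.node 1 (.leaf (nat_lit 0x2308050d01)) (.leaf (nat_lit 0x2308050d11))) (.node 1 (.leaf (nat_lit 0x2307050d21)) (.leaf (nat_lit 0x2303050d31)))) (.node 2 (.node 1 (.leaf (nat_lit 0x2307050d41)) (.leaf (nat_lit 0x2308050d41))) (.node 1 (.leaf (nat_lit 0x2308050d51)) (.leaf (nat_lit 0x2307050d61))))) (.node 4 (.node 2 (.node 1 (.leaf (nat_lit 0x2308050d71)) (.leaf (nat_lit 0x2307050d81))) (.node 1 (.leaf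 (nat_lit 0x2303050d91)) (.leaf (nat_lit 0x2304050da1)))) (.node 2 (.node 1 (.leaf (nat_lit 0x2305053cc1)) (.leaf (nat_lit 0x2307050dc1))) (.node 1 (.leaf (nat_lit 0x2303050dd1)) (.leaf (nat_lit 0x2302050de1)))))) (.node 8 (.node 4 (.node 2 (.node 1 (.leaf (nat_lit 0x2307050df1)) (.leaf (nat_lit 0x2303050e01))) (.node 1 (.leaf (nat_lit 0x2303050e21)) (.leaf (nat_lit 0x2307050e51)))) (.node 2 (.node 1 (.leaf (nat_lit 0x2303050e61)) (.leaf (nat_lit 0x2304050e71))) (.node 1 (.leaf (nat_lit 0x2307050e81)) (.leaf (nat_lit 0x2303050e91))))) (.node 4 (.node 2 (.node 1 (.leaf (nat_lit 0x2302050ea1)) (.leaf (nat_lit 0x2304050ea1))) (.node 1 (.leaf (nat_lit 0x2305050eb1)) (.leaf (nat_lit 0x2305050f71)))) (.node 2 (.node 1 (.leaf (nat_lit 0x2303050ed1)) (.leaf (nat_lit 0x2302050ee1))) (.node 1 (.leaf (nat_lit 0x2304050ee1)) (.leaf (nat_lit 0x2301050ef1)))))))) (.node 32 (.node 16 (.node 8 (.node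 4 (.node 2 (.node 1 (.leaf (nat_lit 0x2304050f01)) (.leaf (nat_lit 0x2303050f21))) (.node 1 (.leaf (nat_lit 0x2304050f91)) (.leaf (nat_lit 0x2302050fa1)))) (.node 2 (.node 1 (.leaf (nat_lit 0x2304050fa1)) (.leaf (nat_lit 0x2301050fb1))) (.node 1 (.leaf (nat_lit 0x2304050fb1)) (.leaf (nat_lit 0x2308050ff1))))) (.node 4 (.node 2 (.node 1 (.leaf (nat_lit 0x2307051001)) (.leaf (nat_lit 0x2303051011))) (.node 1 (.leaf (nat_lit 0x2304051021)) (.leaf (nat_lit 0x2308051031)))) (.node 2 (.node 1 (.leaf (nat_lit 0x2307051041)) (.leaf (nat_lit 0x2308051061))) (.node 1 (.leaf (nat_lit 0x2307051071)) (.leaf (nat_lit 0x2303051081)))))) (.node 8 (.node 4 (.node 2 (.node 1 (.leaf (nat_lit 0x2304051091)) (.leaf (nat_lit 0x23070510a1))) (.node 1 (.leaf (nat_lit 0x23030510b1)) (.leaf (nat_lit 0x23020510c1)))) (.node 2 (.node 1 (.leaf (nat_lit 0x23040510c1)) (.leaf (nat_lit 0x23050510d1))) (.node 1 (.leaf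 (nat_lit 0x2508051121)) (.leaf (nat_lit 0x2507051131))))) (.node 4 (.node 2 (.node 1 (.leaf (nat_lit 0x2308051141)) (.leaf (nat_lit 0x2307051151))) (.node 1 (.leaf (nat_lit 0x2307051161)) (.leaf (nat_lit 0x2307051181)))) (.node 2 (.node 1 (.leaf (nat_lit 0x23030511a1)) (.leaf (nat_lit 0x25080511c1))) (.node 1 (.leaf (nat_lit 0x25070511d1)) (.leaf (nat_lit 0x25070511e1))))))) (.node 16 (.node 8 (.node 4 (.node 2 (.node 1 (.leaf (nat_lit 0x2307051201)) (.leaf (nat_lit 0x2303051211))) (.node 1 (.leaf (nat_lit 0x2303051221)) (.leaf (nat_lit 0x2303051231)))) (.node 2 (.node 1 (.leaf (nat_lit 0x2304051261)) (.leaf (nat_lit 0x2303051301))) (.node 1 (.leaf (nat_lit 0x2508051271)) (.leaf (nat_lit 0x2507051281))))) (.node 4 (.node 2 (.node 1 (.leaf (nat_lit 0x2308051291)) (.leaf (nat_lit 0x23070512a1))) (.node 1 (.leaf (nat_lit 0x23080512b1)) (.leaf (nat_lit 0x23070512c1)))) (.node 2 (.node 1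 (.leaf (nat_lit 0x23070513b1)) (.leaf (nat_lit 0x25080512e1))) (.node 1 (.leaf (nat_lit 0x25070512f1)) (.leaf (nat_lit 0x2308051301)))))) (.node 8 (.node 4 (.node 2 (.node 1 (.leaf (nat_lit 0x2507051311)) (.leaf (nat_lit 0x2307051331))) (.node 1 (.leaf (nat_lit 0x2303051341)) (.leaf (nat_lit 0x2307051351)))) (.node 2 (.node 1 (.leaf (nat_lit 0x2303051361)) (.leaf (nat_lit 0x2303051371))) (.node 1 (.leaf (nat_lit 0x2308051391)) (.leaf (nat_lit 0x23070513a1))))) (.node 4 (.node 2 (.node 1 (.leaf (nat_lit 0x23080513b1)) (.leaf (nat_lit 0x25070513c1))) (.node 1 (.leaf (nat_lit 0x23070513e1)) (.leaf (nat_lit 0x2307051401)))) (.node 2 (.node 1 (.leaf (nat_lit 0x2503051411)) (.leaf (nat_lit 0x2307051421))) (.node 1 (.leaf (nat_lit 0x2307051441)) (.leaf (nat_lit 0x2307051451))))))))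

noncomputable def oT175 : Tree :=
  .node 64 (.node 32 (.node 16 (.node 8 (.node 4 (.node 2 (.node 1 (.leaf (nat_lit 0x2303051461)) (.leaf (nat_lit 0x2308051471))) (.node 1 (.leaf (nat_lit 0x2307051481)) (.leaf (nat_lit 0x2303051491)))) (.node 2 (.node 1 (.leaf (nat_lit 0x23020514a1)) (.leaf (nat_lit 0x23030514b1))) (.node 1 (.leaf (nat_lit 0x23070514e1)) (.leaf (nat_lit 0x23030514f1))))) (.node 4 (.node 2 (.node 1 (.leaf (nat_lit 0x2302051501)) (.leaf (nat_lit 0x2304051501))) (.node 1 (.leaf (nat_lit 0x2303051521)) (.leaf (nat_lit 0x2303051541)))) (.node 2 (.node 1 (.leaf (nat_lit 0x2304051551)) (.leaf (nat_lit 0x2303051561))) (.node 1 (.leaf (nat_lit 0x2304051571)) (.leaf (nat_lit 0x2304051581)))))) (.node 8 (.node 4 (.node 2 (.node 1 (.leaf (nat_lit 0x23080515c1)) (.leaf (nat_lit 0x23070515d1))) (.node 1 (.leaf (nat_lit 0x23070515e1)) (.leaf (nat_lit 0x2508051611)))) (.node 2 (.node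 1 (.leaf (nat_lit 0x2507051621)) (.leaf (nat_lit 0x2308051631))) (.node 1 (.leaf (nat_lit 0x2307051641)) (.leaf (nat_lit 0x2507051651))))) (.node 4 (.node 2 (.node 1 (.leaf (nat_lit 0x2308051671)) (.leaf (nat_lit 0x2307051681))) (.node 1 (.leaf (nat_lit 0x2303051691)) (.leaf (nat_lit 0x23030516a1)))) (.node 2 (.node 1 (.leaf (nat_lit 0x23030516b1)) (.leaf (nat_lit 0x23050516d1))) (.node 1 (.leaf (nat_lit 0x23080516d1)) (.leaf (nat_lit 0x23070516e1))))))) (.node 16 (.node 8 (.node 4 (.node 2 (.node 1 (.leaf (nat_lit 0x23050516f1)) (.leaf (nat_lit 0x23080516f1))) (.node 1 (.leaf (nat_lit 0x2307051701)) (.leaf (nat_lit 0x2308051711)))) (.node 2 (.node 1 (.leaf (nat_lit 0x2307051721)) (.leaf (nat_lit 0x2305051741))) (.node 1 (.leaf (nat_lit 0x2308051741)) (.leaf (nat_lit 0x2307051751))))) (.node 4 (.node 2 (.node 1 (.leaf (nat_lit 0x2306051761)) (.leaf (nat_lit 0x2308051761))) (.node 1 (.leaf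 (nat_lit 0x2307051771)) (.leaf (nat_lit 0x2307051791)))) (.node 2 (.node 1 (.leaf (nat_lit 0x23030517a1)) (.leaf (nat_lit 0x23080517b1))) (.node 1 (.leaf (nat_lit 0x23070517c1)) (.leaf (nat_lit 0x23030517d1)))))) (.node 8 (.node 4 (.node 2 (.node 1 (.leaf (nat_lit 0x23030517e1)) (.leaf (nat_lit 0x23020517f1))) (.node 1 (.leaf (nat_lit 0x23070520d1)) (.leaf (nat_lit 0x2308051811)))) (.node 2 (.node 1 (.leaf (nat_lit 0x2307051821)) (.leaf (nat_lit 0x2508051831))) (.node 1 (.leaf (nat_lit 0x2507051841)) (.leaf (nat_lit 0x2307054441))))) (.node 4 (.node 2 (.node 1 (.leaf (nat_lit 0x2308051861)) (.leaf (nat_lit 0x2307054721))) (.node 1 (.leaf (nat_lit 0x2308051871)) (.leaf (nat_lit 0x2307051881)))) (.node 2 (.node 1 (.leaf (nat_lit 0x25080518a1)) (.leaf (nat_lit 0x25070518b1))) (.node 1 (.leaf (nat_lit 0x25030518c1)) (.leaf (nat_lit 0x23020518d1)))))))) (.node 32 (.node 16 (.node 8 (.node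 4 (.node 2 (.node 1 (.leaf (nat_lit 0x23080518d1)) (.leaf (nat_lit 0x23070518e1))) (.node 1 (.leaf (nat_lit 0x2307051901)) (.leaf (nat_lit 0x2308051901)))) (.node 2 (.node 1 (.leaf (nat_lit 0x2308051911)) (.leaf (nat_lit 0x2307051921))) (.node 1 (.leaf (nat_lit 0x2307051931)) (.leaf (nat_lit 0x2303051941))))) (.node 4 (.node 2 (.node 1 (.leaf (nat_lit 0x2303051951)) (.leaf (nat_lit 0x2302051961))) (.node 1 (.leaf (nat_lit 0x2308051971)) (.leaf (nat_lit 0x2307051981)))) (.node 2 (.node 1 (.leaf (nat_lit 0x2303051991)) (.leaf (nat_lit 0x25070519a1))) (.node 1 (.leaf (nat_lit 0x25030519b1)) (.leaf (nat_lit 0x2304054c31)))))) (.node 8 (.node 4 (.node 2 (.node 1 (.leaf (nat_lit 0x23030519d1)) (.leaf (nat_lit 0x23020519e1))) (.node 1 (.leaf (nat_lit 0x23020519f1)) (.leaf (nat_lit 0x23040519f1)))) (.node 2 (.node 1 (.leaf (nat_lit 0x2503051a21)) (.leaf (nat_lit 0x2305051a41))) (.node 1 (.leaf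 (nat_lit 0x250505be71)) (.leaf (nat_lit 0x2304051a51))))) (.node 4 (.node 2 (.node 1 (.leaf (nat_lit 0x2307051a81)) (.leaf (nat_lit 0x2308051a91))) (.node 1 (.leaf (nat_lit 0x2308051ab1)) (.leaf (nat_lit 0x2307051ac1)))) (.node 2 (.node 1 (.leaf (nat_lit 0x2307051ad1)) (.leaf (nat_lit 0x2508051af1))) (.node 1 (.leaf (nat_lit 0x2507051b01)) (.leaf (nat_lit 0x2306051d11))))))) (.node 16 (.node 8 (.node 4 (.node 2 (.node 1 (.leaf (nat_lit 0x2308051b11)) (.leaf (nat_lit 0x2305051b21))) (.node 1 (.leaf (nat_lit 0x2308051b21)) (.leaf (nat_lit 0x2307051b31)))) (.node 2 (.node 1 (.leaf (nat_lit 0x2305054431)) (.leaf (nat_lit 0x2508051b41))) (.node 1 (.leaf (nat_lit 0x2507051b51)) (.leaf (nat_lit 0x2304051b71))))) (.node 4 (.node 2 (.node 1 (.leaf (nat_lit 0x2308051b71)) (.leaf (nat_lit 0x2303051b81))) (.node 1 (.leaf (nat_lit 0x2305051b81)) (.leaf (nat_lit 0x2308051b81)))) (.node 2 (.node 1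 (.leaf (nat_lit 0x2307051b91)) (.leaf (nat_lit 0x2305051ba1))) (.node 1 (.leaf (nat_lit 0x2307051ba1)) (.leaf (nat_lit 0x2308051ba1)))))) (.node 8 (.node 4 (.node 2 (.node 1 (.leaf (nat_lit 0x2306051bb1)) (.leaf (nat_lit 0x2308051bb1))) (.node 1 (.leaf (nat_lit 0x2307051bc1)) (.leaf (nat_lit 0x2303051bd1)))) (.node 2 (.node 1 (.leaf (nat_lit 0x2308051be1)) (.leaf (nat_lit 0x2307051bf1))) (.node 1 (.leaf (nat_lit 0x2303051c01)) (.leaf (nat_lit 0x2308051c11))))) (.node 4 (.node 2 (.node 1 (.leaf (nat_lit 0x2307051c21)) (.leaf (nat_lit 0x2302053001))) (.node 1 (.leaf (nat_lit 0x2508051c31)) (.leaf (nat_lit 0x2507051c41)))) (.node 2 (.node 1 (.leaf (nat_lit 0x2308051c61)) (.leaf (nat_lit 0x2307051c71))) (.node 1 (.leaf (nat_lit 0x2305053001)) (.leaf (nat_lit 0x2308051c81))))))))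

noncomputable def oT176 : Tree :=
  .node 64 (.node 32 (.node 16 (.node 8 (.node 4 (.node 2 (.node 1 (.leaf (nat_lit 0x2307051c91)) (.leaf (nat_lit 0x23020542f1))) (.node 1 (.leaf (nat_lit 0x2508051cb1)) (.leaf (nat_lit 0x2507051cc1)))) (.node 2 (.node 1 (.leaf (nat_lit 0x2503051cd1)) (.leaf (nat_lit 0x2308051ce1))) (.node 1 (.leaf (nat_lit 0x2307051cf1)) (.leaf (nat_lit 0x2307051d11))))) (.node 4 (.node 2 (.node 1 (.leaf (nat_lit 0x2308051d11)) (.leaf (nat_lit 0x2308051d21))) (.node 1 (.leaf (nat_lit 0x2307051d31)) (.leaf (nat_lit 0x2308051d41)))) (.node 2 (.node 1 (.leaf (nat_lit 0x2307051d51)) (.leaf (nat_lit 0x2303051d61))) (.node 1 (.leaf (nat_lit 0x2508051d71)) (.leaf (nat_lit 0x2307051d81)))))) (.node 8 (.node 4 (.node 2 (.node 1 (.leaf (nat_lit 0x2303051d91)) (.leaf (nat_lit 0x2302051da1))) (.node 1 (.leaf (nat_lit 0x2308051dc1)) (.leaf (nat_lit 0x2307051dd1)))) (.node 2 (.node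 1 (.leaf (nat_lit 0x2303051de1)) (.leaf (nat_lit 0x2308051df1))) (.node 1 (.leaf (nat_lit 0x2507051e01)) (.leaf (nat_lit 0x2503051e11))))) (.node 4 (.node 2 (.node 1 (.leaf (nat_lit 0x2304053441)) (.leaf (nat_lit 0x2308051e31))) (.node 1 (.leaf (nat_lit 0x2307051e41)) (.leaf (nat_lit 0x2303051e51)))) (.node 2 (.node 1 (.leaf (nat_lit 0x2507051e71)) (.leaf (nat_lit 0x2303051e81))) (.node 1 (.leaf (nat_lit 0x2302051e91)) (.leaf (nat_lit 0x2304051e91))))))) (.node 16 (.node 8 (.node 4 (.node 2 (.node 1 (.leaf (nat_lit 0x2301051ea1)) (.leaf (nat_lit 0x23010533f1))) (.node 1 (.leaf (nat_lit 0x2304054ad1)) (.leaf (nat_lit 0x2302051ee1)))) (.node 2 (.node 1 (.leaf (nat_lit 0x2508051f11)) (.leaf (nat_lit 0x2507051f21))) (.node 1 (.leaf (nat_lit 0x2508051f31)) (.leaf (nat_lit 0x2307053001))))) (.node 4 (.node 2 (.node 1 (.leaf (nat_lit 0x2508051f41)) (.leaf (nat_lit 0x2507051f51))) (.node 1 (.leaf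 (nat_lit 0x2307052521)) (.leaf (nat_lit 0x2508051f71)))) (.node 2 (.node 1 (.leaf (nat_lit 0x2707051f81)) (.leaf (nat_lit 0x2703051f91))) (.node 1 (.leaf (nat_lit 0x2308051fa1)) (.leaf (nat_lit 0x2307051fb1)))))) (.node 8 (.node 4 (.node 2 (.node 1 (.leaf (nat_lit 0x23070532f1)) (.leaf (nat_lit 0x2308051fc1))) (.node 1 (.leaf (nat_lit 0x2308051fd1)) (.leaf (nat_lit 0x2507051fe1)))) (.node 2 (.node 1 (.leaf (nat_lit 0x2507052511)) (.leaf (nat_lit 0x2307053281))) (.node 1 (.leaf (nat_lit 0x2306053281)) (.leaf (nat_lit 0x2508052001))))) (.node 4 (.node 2 (.node 1 (.leaf (nat_lit 0x2308052011)) (.leaf (nat_lit 0x2507052021))) (.node 1 (.leaf (nat_lit 0x23070542f1)) (.leaf (nat_lit 0x2508052031)))) (.node 2 (.node 1 (.leaf (nat_lit 0x2507052041)) (.leaf (nat_lit 0x2503052051))) (.node 1 (.leaf (nat_lit 0x2507052551)) (.leaf (nat_lit 0x2508052071)))))))) (.node 32 (.node 16 (.node 8 (.node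 4 (.node 2 (.node 1 (.leaf (nat_lit 0x2507052081)) (.leaf (nat_lit 0x2503052091))) (.node 1 (.leaf (nat_lit 0x27020520a1)) (.leaf (nat_lit 0x23070520b1)))) (.node 2 (.node 1 (.leaf (nat_lit 0x23060520d1)) (.leaf (nat_lit 0x23080520d1))) (.node 1 (.leaf (nat_lit 0x23070520e1)) (.leaf (nat_lit 0x23080520f1))))) (.node 4 (.node 2 (.node 1 (.leaf (nat_lit 0x2307052101)) (.leaf (nat_lit 0x2303052111))) (.node 1 (.leaf (nat_lit 0x2304052121)) (.leaf (nat_lit 0x2505052bc1)))) (.node 2 (.node 1 (.leaf (nat_lit 0x2307052131)) (.leaf (nat_lit 0x2308052131))) (.node 1 (.leaf (nat_lit 0x2308052141)) (.leaf (nat_lit 0x2307052151)))))) (.node 8 (.node 4 (.node 2 (.node 1 (.leaf (nat_lit 0x2307052161)) (.leaf (nat_lit 0x2303052171))) (.node 1 (.leaf (nat_lit 0x2508052181)) (.leaf (nat_lit 0x2307052191)))) (.node 2 (.node 1 (.leaf (nat_lit 0x23030521a1)) (.leaf (nat_lit 0x23020521b1))) (.node 1 (.leaf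 (nat_lit 0x23040521b1)) (.leaf (nat_lit 0x23050521c1))))) (.node 4 (.node 2 (.node 1 (.leaf (nat_lit 0x25070521d1)) (.leaf (nat_lit 0x23030521e1))) (.node 1 (.leaf (nat_lit 0x23020521f1)) (.leaf (nat_lit 0x23040521f1)))) (.node 2 (.node 1 (.leaf (nat_lit 0x2301052201)) (.leaf (nat_lit 0x2307052221))) (.node 1 (.leaf (nat_lit 0x2303052231)) (.leaf (nat_lit 0x2308052251))))))) (.node 16 (.node 8 (.node 4 (.node 2 (.node 1 (.leaf (nat_lit 0x2507052261)) (.leaf (nat_lit 0x2503052271))) (.node 1 (.leaf (nat_lit 0x23040530e1)) (.leaf (nat_lit 0x2303052291)))) (.node 2 (.node 1 (.leaf (nat_lit 0x25070522a1)) (.leaf (nat_lit 0x25030522b1))) (.node 1 (.leaf (nat_lit 0x23050522d1)) (.leaf (nat_lit 0x25040522c1))))) (.node 4 (.node 2 (.node 1 (.leaf (nat_lit 0x2304054c41)) (.leaf (nat_lit 0x23080522e1))) (.node 1 (.leaf (nat_lit 0x23070522f1)) (.leaf (nat_lit 0x2303052301)))) (.node 2 (.node 1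 (.leaf (nat_lit 0x2507052321)) (.leaf (nat_lit 0x2303052331))) (.node 1 (.leaf (nat_lit 0x2302052341)) (.leaf (nat_lit 0x2304052341)))))) (.node 8 (.node 4 (.node 2 (.node 1 (.leaf (nat_lit 0x2305052361)) (.leaf (nat_lit 0x2305052421))) (.node 1 (.leaf (nat_lit 0x2302052391)) (.leaf (nat_lit 0x2304052391)))) (.node 2 (.node 1 (.leaf (nat_lit 0x23010523a1)) (.leaf (nat_lit 0x23040523a1))) (.node 1 (.leaf (nat_lit 0x23000523c1)) (.leaf (nat_lit 0x2302054551))))) (.node 4 (.node 2 (.node 1 (.leaf (nat_lit 0x250105b4c1)) (.leaf (nat_lit 0x2304052401))) (.node 1 (.leaf (nat_lit 0x2304053421)) (.leaf (nat_lit 0x23060524a1)))) (.node 2 (.node 1 (.leaf (nat_lit 0x2306052471)) (.leaf (nat_lit 0x2504052461))) (.node 1 (.leaf (nat_lit 0x2305052491)) (.leaf (nat_lit 0x2305054a71))))))))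

noncomputable def oT177 : Tree :=
  .node 64 (.node 32 (.node 16 (.node 8 (.node 4 (.node 2 (.node 1 (.leaf (nat_lit 0x2304054ba1)) (.leaf (nat_lit 0x2305052501))) (.node 1 (.leaf (nat_lit 0x2305053e21)) (.leaf (nat_lit 0x23040524b1)))) (.node 2 (.node 1 (.leaf (nat_lit 0x23000524d1)) (.leaf (nat_lit 0x23040524d1))) (.node 1 (.leaf (nat_lit 0x23030524e1)) (.leaf (nat_lit 0x2307052531))))) (.node 4 (.node 2 (.node 1 (.leaf (nat_lit 0x2303052581)) (.leaf (nat_lit 0x2302052591))) (.node 1 (.leaf (nat_lit 0x2304052591)) (.leaf (nat_lit 0x23040525a1)))) (.node 2 (.node 1 (.leaf (nat_lit 0x23050525b1)) (.leaf (nat_lit 0x23030525d1))) (.node 1 (.leaf (nat_lit 0x23070525e1)) (.leaf (nat_lit 0x23030525f1)))))) (.node 8 (.node 4 (.node 2 (.node 1 (.leaf (nat_lit 0x2307052601)) (.leaf (nat_lit 0x2307052611))) (.node 1 (.leaf (nat_lit 0x2303052621)) (.leaf (nat_lit 0x2307052631)))) (.node 2 (.node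 1 (.leaf (nat_lit 0x2304052651)) (.leaf (nat_lit 0x2307052661))) (.node 1 (.leaf (nat_lit 0x2307052671)) (.leaf (nat_lit 0x2302052691))))) (.node 4 (.node 2 (.node 1 (.leaf (nat_lit 0x2304052691)) (.leaf (nat_lit 0x23040526a1))) (.node 1 (.leaf (nat_lit 0x23050526c1)) (.leaf (nat_lit 0x18030526e2)))) (.node 2 (.node 1 (.leaf (nat_lit 0x18030526f2)) (.leaf (nat_lit 0x2307052711))) (.node 1 (.leaf (nat_lit 0x2303052731)) (.leaf (nat_lit 0x2307052741))))))) (.node 16 (.node 8 (.node 4 (.node 2 (.node 1 (.leaf (nat_lit 0x2307052761)) (.leaf (nat_lit 0x2303052771))) (.node 1 (.leaf (nat_lit 0x2303052791)) (.leaf (nat_lit 0x23040527c1)))) (.node 2 (.node 1 (.leaf (nat_lit 0x23070527d1)) (.leaf (nat_lit 0x23030527f1))) (.node 1 (.leaf (nat_lit 0x2308052801)) (.leaf (nat_lit 0x2307052811))))) (.node 4 (.node 2 (.node 1 (.leaf (nat_lit 0x2308052831)) (.leaf (nat_lit 0x2307052841))) (.node 1 (.leaf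 (nat_lit 0x2308052851)) (.leaf (nat_lit 0x2307052861)))) (.node 2 (.node 1 (.leaf (nat_lit 0x2303052871)) (.leaf (nat_lit 0x2307052881))) (.node 1 (.leaf (nat_lit 0x2303052891)) (.leaf (nat_lit 0x23020528a1)))))) (.node 8 (.node 4 (.node 2 (.node 1 (.leaf (nat_lit 0x23070528c1)) (.leaf (nat_lit 0x23030528d1))) (.node 1 (.leaf (nat_lit 0x23070528e1)) (.leaf (nat_lit 0x23030528f1)))) (.node 2 (.node 1 (.leaf (nat_lit 0x2303052931)) (.leaf (nat_lit 0x2308052971))) (.node 1 (.leaf (nat_lit 0x2307052981)) (.leaf (nat_lit 0x2307052991))))) (.node 4 (.node 2 (.node 1 (.leaf (nat_lit 0x23070529b1)) (.leaf (nat_lit 0x23030529d1))) (.node 1 (.leaf (nat_lit 0x25030529e1)) (.leaf (nat_lit 0x23080529f1)))) (.node 2 (.node 1 (.leaf (nat_lit 0x2307052a01)) (.leaf (nat_lit 0x2307052a11))) (.node 1 (.leaf (nat_lit 0x2303052a21)) (.leaf (nat_lit 0x2303052a31)))))))) (.node 32 (.node 16 (.node 8 (.node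 4 (.node 2 (.node 1 (.leaf (nat_lit 0x2304052a41)) (.leaf (nat_lit 0x2302052a51))) (.node 1 (.leaf (nat_lit 0x23040542a1)) (.leaf (nat_lit 0x2302054ac1)))) (.node 2 (.node 1 (.leaf (nat_lit 0x2304052ac1)) (.leaf (nat_lit 0x2305052ad1))) (.node 1 (.leaf (nat_lit 0x2303054af1)) (.leaf (nat_lit 0x2307052b21))))) (.node 4 (.node 2 (.node 1 (.leaf (nat_lit 0x2303052b41)) (.leaf (nat_lit 0x2308052b51))) (.node 1 (.leaf (nat_lit 0x2307052b61)) (.leaf (nat_lit 0x2303052b71)))) (.node 2 (.node 1 (.leaf (nat_lit 0x2303052b81)) (.leaf (nat_lit 0x2303052b91))) (.node 1 (.leaf (nat_lit 0x23030542d1)) (.leaf (nat_lit 0x2308052bb1)))))) (.node 8 (.node 4 (.node 2 (.node 1 (.leaf (nat_lit 0x2508052bc1)) (.leaf (nat_lit 0x2507052bd1))) (.node 1 (.leaf (nat_lit 0x2508052be1)) (.leaf (nat_lit 0x2507052bf1)))) (.node 2 (.node 1 (.leaf (nat_lit 0x2508052c11)) (.leaf (nat_lit 0x2507052c21))) (.node 1 (.leaf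 (nat_lit 0x2303052c41)) (.leaf (nat_lit 0x2508052c31))))) (.node 4 (.node 2 (.node 1 (.leaf (nat_lit 0x2308052c41)) (.leaf (nat_lit 0x2507052c51))) (.node 1 (.leaf (nat_lit 0x25020548b1)) (.leaf (nat_lit 0x2307052c71)))) (.node 2 (.node 1 (.leaf (nat_lit 0x2503052c81)) (.leaf (nat_lit 0x2308052c91))) (.node 1 (.leaf (nat_lit 0x2307052ca1)) (.leaf (nat_lit 0x2303052cb1))))))) (.node 16 (.node 8 (.node 4 (.node 2 (.node 1 (.leaf (nat_lit 0x2308052cc1)) (.leaf (nat_lit 0x2307052cd1))) (.node 1 (.leaf (nat_lit 0x2307052ce1)) (.leaf (nat_lit 0x2303052cf1)))) (.node 2 (.node 1 (.leaf (nat_lit 0x2304052d01)) (.leaf (nat_lit 0x2303052d11))) (.node 1 (.leaf (nat_lit 0x2302052d21)) (.leaf (nat_lit 0x250005b7d1))))) (.node 4 (.node 2 (.node 1 (.leaf (nat_lit 0x2307052d41)) (.leaf (nat_lit 0x2303052d51))) (.node 1 (.leaf (nat_lit 0x23020548c1)) (.leaf (nat_lit 0x2304052d81)))) (.node 2 (.node 1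 (.leaf (nat_lit 0x2303052d91)) (.leaf (nat_lit 0x2305052db1))) (.node 1 (.leaf (nat_lit 0x2301052de1)) (.leaf (nat_lit 0x2302052e81)))))) (.node 8 (.node 4 (.node 2 (.node 1 (.leaf (nat_lit 0x2501052e21)) (.leaf (nat_lit 0x2507052e01))) (.node 1 (.leaf (nat_lit 0x2302054b71)) (.leaf (nat_lit 0x2504052e21)))) (.node 2 (.node 1 (.leaf (nat_lit 0x2307052e41)) (.leaf (nat_lit 0x2303052e51))) (.node 1 (.leaf (nat_lit 0x2304052e61)) (.leaf (nat_lit 0x2303052e71))))) (.node 4 (.node 2 (.node 1 (.leaf (nat_lit 0x2304052e81)) (.leaf (nat_lit 0x2305052e91))) (.node 1 (.leaf (nat_lit 0x2301052ec1)) (.leaf (nat_lit 0x2302054b11)))) (.node 2 (.node 1 (.leaf (nat_lit 0x2305052ed1)) (.leaf (nat_lit 0x2308052ef1))) (.node 1 (.leaf (nat_lit 0x2308052f01)) (.leaf (nat_lit 0x2307052f11))))))))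

noncomputable def oT178 : Tree :=
  .node 64 (.node 32 (.node 16 (.node 8 (.node 4 (.node 2 (.node 1 (.leaf (nat_lit 0x2308052f21)) (.leaf (nat_lit 0x2307052f31))) (.node 1 (.leaf (nat_lit 0x2303052f41)) (.leaf (nat_lit 0x2303052f51)))) (.node 2 (.node 1 (.leaf (nat_lit 0x2306052fc1)) (.leaf (nat_lit 0x2308052f61))) (.node 1 (.leaf (nat_lit 0x2307052f71)) (.leaf (nat_lit 0x2307052f81))))) (.node 4 (.node 2 (.node 1 (.leaf (nat_lit 0x23050542f1)) (.leaf (nat_lit 0x2308052fa1))) (.node 1 (.leaf (nat_lit 0x23020543d1)) (.leaf (nat_lit 0x2307052fc1)))) (.node 2 (.node 1 (.leaf (nat_lit 0x2308052fc1)) (.leaf (nat_lit 0x2307052fd1))) (.node 1 (.leaf (nat_lit 0x2303052fe1)) (.leaf (nat_lit 0x2303052ff1)))))) (.node 8 (.node 4 (.node 2 (.node 1 (.leaf (nat_lit 0x2308053001)) (.leaf (nat_lit 0x2308053011))) (.node 1 (.leaf (nat_lit 0x2307053021)) (.leaf (nat_lit 0x2303053031)))) (.node 2 (.node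 1 (.leaf (nat_lit 0x2308053041)) (.leaf (nat_lit 0x2308053051))) (.node 1 (.leaf (nat_lit 0x2307053061)) (.leaf (nat_lit 0x2307053071))))) (.node 4 (.node 2 (.node 1 (.leaf (nat_lit 0x2303053081)) (.leaf (nat_lit 0x2304053091))) (.node 1 (.leaf (nat_lit 0x23070530a1)) (.leaf (nat_lit 0x23030530b1)))) (.node 2 (.node 1 (.leaf (nat_lit 0x23020530c1)) (.leaf (nat_lit 0x2302054ad1))) (.node 1 (.leaf (nat_lit 0x23070530f1)) (.leaf (nat_lit 0x2508053151))))))) (.node 16 (.node 8 (.node 4 (.node 2 (.node 1 (.leaf (nat_lit 0x2504053171)) (.leaf (nat_lit 0x2302053601))) (.node 1 (.leaf (nat_lit 0x2507053181)) (.leaf (nat_lit 0x250405db31)))) (.node 2 (.node 1 (.leaf (nat_lit 0x23080531a1)) (.leaf (nat_lit 0x23040531c1))) (.node 1 (.leaf (nat_lit 0x2302053e11)) (.leaf (nat_lit 0x23070531d1))))) (.node 4 (.node 2 (.node 1 (.leaf (nat_lit 0x23080531d1)) (.leaf (nat_lit 0x25080531e1))) (.node 1 (.leaf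 (nat_lit 0x25070531f1)) (.leaf (nat_lit 0x2307053201)))) (.node 2 (.node 1 (.leaf (nat_lit 0x2503053211)) (.leaf (nat_lit 0x2504053221))) (.node 1 (.leaf (nat_lit 0x2303053231)) (.leaf (nat_lit 0x2502053241)))))) (.node 8 (.node 4 (.node 2 (.node 1 (.leaf (nat_lit 0x2308053251)) (.leaf (nat_lit 0x2307053261))) (.node 1 (.leaf (nat_lit 0x2308053281)) (.leaf (nat_lit 0x2308053291)))) (.node 2 (.node 1 (.leaf (nat_lit 0x23070532a1)) (.leaf (nat_lit 0x23080532b1))) (.node 1 (.leaf (nat_lit 0x23070532c1)) (.leaf (nat_lit 0x23030532d1))))) (.node 4 (.node 2 (.node 1 (.leaf (nat_lit 0x23040532e1)) (.leaf (nat_lit 0x23080532f1))) (.node 1 (.leaf (nat_lit 0x2308053301)) (.leaf (nat_lit 0x2307053311)))) (.node 2 (.node 1 (.leaf (nat_lit 0x2307053321)) (.leaf (nat_lit 0x2303053331))) (.node 1 (.leaf (nat_lit 0x2508053341)) (.leaf (nat_lit 0x2307053351)))))))) (.node 32 (.node 16 (.node 8 (.node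 4 (.node 2 (.node 1 (.leaf (nat_lit 0x2303053361)) (.leaf (nat_lit 0x2302053371))) (.node 1 (.leaf (nat_lit 0x2304053371)) (.leaf (nat_lit 0x2305053381)))) (.node 2 (.node 1 (.leaf (nat_lit 0x25040534f1)) (.leaf (nat_lit 0x23030533a1))) (.node 1 (.leaf (nat_lit 0x23020533b1)) (.leaf (nat_lit 0x23010533c1))))) (.node 4 (.node 2 (.node 1 (.leaf (nat_lit 0x23080533d1)) (.leaf (nat_lit 0x23040533f1))) (.node 1 (.leaf (nat_lit 0x2307053401)) (.leaf (nat_lit 0x2303053411)))) (.node 2 (.node 1 (.leaf (nat_lit 0x2303053431)) (.leaf (nat_lit 0x2505053451))) (.node 1 (.leaf (nat_lit 0x2307053461)) (.leaf (nat_lit 0x2303053471)))))) (.node 8 (.node 4 (.node 2 (.node 1 (.leaf (nat_lit 0x2307053481)) (.leaf (nat_lit 0x2303053491))) (.node 1 (.leaf (nat_lit 0x25070534b1)) (.leaf (nat_lit 0x23030534c1)))) (.node 2 (.node 1 (.leaf (nat_lit 0x23040534d1)) (.leaf (nat_lit 0x2304054551))) (.node 1 (.leaf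 (nat_lit 0x250205b021)) (.leaf (nat_lit 0x2304053551))))) (.node 4 (.node 2 (.node 1 (.leaf (nat_lit 0x2304053561)) (.leaf (nat_lit 0x2507053571))) (.node 1 (.leaf (nat_lit 0x250205aee1)) (.leaf (nat_lit 0x2504053591)))) (.node 2 (.node 1 (.leaf (nat_lit 0x25050535a1)) (.leaf (nat_lit 0x23070535b1))) (.node 1 (.leaf (nat_lit 0x23030535c1)) (.leaf (nat_lit 0x23040535d1))))))) (.node 16 (.node 8 (.node 4 (.node 2 (.node 1 (.leaf (nat_lit 0x23030535f1)) (.leaf (nat_lit 0x2304053601))) (.node 1 (.leaf (nat_lit 0x2305053611)) (.leaf (nat_lit 0x2506053631)))) (.node 2 (.node 1 (.leaf (nat_lit 0x1804053642)) (.leaf (nat_lit 0x1804053672))) (.node 1 (.leaf (nat_lit 0x1804053682)) (.leaf (nat_lit 0x1805053692))))) (.node 4 (.node 2 (.node 1 (.leaf (nat_lit 0x2307053751)) (.leaf (nat_lit 0x2307053771))) (.node 1 (.leaf (nat_lit 0x2307053791)) (.leaf (nat_lit 0x23030537a1)))) (.node 2 (.node 1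 (.leaf (nat_lit 0x23030537b1)) (.leaf (nat_lit 0x23040537c1))) (.node 1 (.leaf (nat_lit 0x23030537e1)) (.leaf (nat_lit 0x23040537f1)))))) (.node 8 (.node 4 (.node 2 (.node 1 (.leaf (nat_lit 0x2305053811)) (.leaf (nat_lit 0x2307053821))) (.node 1 (.leaf (nat_lit 0x2308053821)) (.leaf (nat_lit 0x2307053831)))) (.node 2 (.node 1 (.leaf (nat_lit 0x2303053841)) (.leaf (nat_lit 0x2303053851))) (.node 1 (.leaf (nat_lit 0x2304053861)) (.leaf (nat_lit 0x2503053891))))) (.node 4 (.node 2 (.node 1 (.leaf (nat_lit 0x23070538a1)) (.leaf (nat_lit 0x23080538a1))) (.node 1 (.leaf (nat_lit 0x23080538b1)) (.leaf (nat_lit 0x23070538c1)))) (.node 2 (.node 1 (.leaf (nat_lit 0x23070538d1)) (.leaf (nat_lit 0x23030538e1))) (.node 1 (.leaf (nat_lit 0x23040538f1)) (.leaf (nat_lit 0x2303053901))))))))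

noncomputable def oT179 : Tree :=
  .node 64 (.node 32 (.node 16 (.node 8 (.node 4 (.node 2 (.node 1 (.leaf (nat_lit 0x2302053911)) (.leaf (nat_lit 0x2303053921))) (.node 1 (.leaf (nat_lit 0x2304053931)) (.leaf (nat_lit 0x2305053941)))) (.node 2 (.node 1 (.leaf (nat_lit 0x2306053971)) (.leaf (nat_lit 0x2307053981))) (.node 1 (.leaf (nat_lit 0x2303053991)) (.leaf (nat_lit 0x23040539a1))))) (.node 4 (.node 2 (.node 1 (.leaf (nat_lit 0x23050539b1)) (.leaf (nat_lit 0x23060539c1))) (.node 1 (.leaf (nat_lit 0x23080539e1)) (.leaf (nat_lit 0x23070539f1)))) (.node 2 (.node 1 (.leaf (nat_lit 0x2303053a01)) (.leaf (nat_lit 0x2303053a11))) (.node 1 (.leaf (nat_lit 0x2507053a41)) (.leaf (nat_lit 0x2503053a61)))))) (.node 8 (.node 4 (.node 2 (.node 1 (.leaf (nat_lit 0x2303053a71)) (.leaf (nat_lit 0x2304053a81))) (.node 1 (.leaf (nat_lit 0x2302053a91)) (.leaf (nat_lit 0x2305053aa1)))) (.node 2 (.node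 1 (.leaf (nat_lit 0x2305053ab1)) (.leaf (nat_lit 0x2307053ad1))) (.node 1 (.leaf (nat_lit 0x2303053ae1)) (.leaf (nat_lit 0x2308053af1))))) (.node 4 (.node 2 (.node 1 (.leaf (nat_lit 0x2307053b01)) (.leaf (nat_lit 0x2303053b11))) (.node 1 (.leaf (nat_lit 0x2304053b21)) (.leaf (nat_lit 0x2302053b31)))) (.node 2 (.node 1 (.leaf (nat_lit 0x2304053b41)) (.leaf (nat_lit 0x2305053b51))) (.node 1 (.leaf (nat_lit 0x2507053b71)) (.leaf (nat_lit 0x2302053c51))))))) (.node 16 (.node 8 (.node 4 (.node 2 (.node 1 (.leaf (nat_lit 0x2507053b91)) (.leaf (nat_lit 0x2503053ba1))) (.node 1 (.leaf (nat_lit 0x2507053bb1)) (.leaf (nat_lit 0x2503053bc1)))) (.node 2 (.node 1 (.leaf (nat_lit 0x2503053bd1)) (.leaf (nat_lit 0x2504053be1))) (.node 1 (.leaf (nat_lit 0x2502053bf1)) (.leaf (nat_lit 0x2307053c01))))) (.node 4 (.node 2 (.node 1 (.leaf (nat_lit 0x2303053c11)) (.leaf (nat_lit 0x2307053c21))) (.node 1 (.leaf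 (nat_lit 0x2307053c31)) (.leaf (nat_lit 0x2303053c41)))) (.node 2 (.node 1 (.leaf (nat_lit 0x2304053c51)) (.leaf (nat_lit 0x2307053c61))) (.node 1 (.leaf (nat_lit 0x2303053c71)) (.leaf (nat_lit 0x2307053c81)))))) (.node 8 (.node 4 (.node 2 (.node 1 (.leaf (nat_lit 0x2303053c91)) (.leaf (nat_lit 0x2302053ca1))) (.node 1 (.leaf (nat_lit 0x2304053ca1)) (.leaf (nat_lit 0x2305053cb1)))) (.node 2 (.node 1 (.leaf (nat_lit 0x2304053d61)) (.leaf (nat_lit 0x2303053cd1))) (.node 1 (.leaf (nat_lit 0x2302053ce1)) (.leaf (nat_lit 0x2301053cf1))))) (.node 4 (.node 2 (.node 1 (.leaf (nat_lit 0x2305053d41)) (.leaf (nat_lit 0x2306053d71))) (.node 1 (.leaf (nat_lit 0x2304053d91)) (.leaf (nat_lit 0x2504053da1)))) (.node 2 (.node 1 (.leaf (nat_lit 0x2304053dc1)) (.leaf (nat_lit 0x2303053dd1))) (.node 1 (.leaf (nat_lit 0x2304053de1)) (.leaf (nat_lit 0x2305053df1)))))))) (.node 32 (.node 16 (.node 8 (.node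 4 (.node 2 (.node 1 (.leaf (nat_lit 0x2303053e01)) (.leaf (nat_lit 0x2304053e11))) (.node 1 (.leaf (nat_lit 0x2306053e31)) (.leaf (nat_lit 0x2508053e61)))) (.node 2 (.node 1 (.leaf (nat_lit 0x2507053e71)) (.leaf (nat_lit 0x2503053e91))) (.node 1 (.leaf (nat_lit 0x2302053ea1)) (.leaf (nat_lit 0x2303053eb1))))) (.node 4 (.node 2 (.node 1 (.leaf (nat_lit 0x2507053ec1)) (.leaf (nat_lit 0x2503053ee1))) (.node 1 (.leaf (nat_lit 0x2303053ef1)) (.leaf (nat_lit 0x2302053f01)))) (.node 2 (.node 1 (.leaf (nat_lit 0x2508053f11)) (.leaf (nat_lit 0x2504053f31))) (.node 1 (.leaf (nat_lit 0x2308053f41)) (.leaf (nat_lit 0x2507053f51)))))) (.node 8 (.node 4 (.node 2 (.node 1 (.leaf (nat_lit 0x2503053f61)) (.leaf (nat_lit 0x2508053f71))) (.node 1 (.leaf (nat_lit 0x2507053f81)) (.leaf (nat_lit 0x2508053fa1)))) (.node 2 (.node 1 (.leaf (nat_lit 0x2507053fb1)) (.leaf (nat_lit 0x2507053fc1))) (.node 1 (.leaf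 (nat_lit 0x250405ccc1)) (.leaf (nat_lit 0x2307053fe1))))) (.node 4 (.node 2 (.node 1 (.leaf (nat_lit 0x2503053ff1)) (.leaf (nat_lit 0x2702054001))) (.node 1 (.leaf (nat_lit 0x2308054011)) (.leaf (nat_lit 0x2307054021)))) (.node 2 (.node 1 (.leaf (nat_lit 0x2307054031)) (.leaf (nat_lit 0x2303054041))) (.node 1 (.leaf (nat_lit 0x2307054051)) (.leaf (nat_lit 0x2303054061))))))) (.node 16 (.node 8 (.node 4 (.node 2 (.node 1 (.leaf (nat_lit 0x2303054071)) (.leaf (nat_lit 0x2302054081))) (.node 1 (.leaf (nat_lit 0x2302054091)) (.leaf (nat_lit 0x23010540a1)))) (.node 2 (.node 1 (.leaf (nat_lit 0x25070540b1)) (.leaf (nat_lit 0x250405b021))) (.node 1 (.leaf (nat_lit 0x25030540d1)) (.leaf (nat_lit 0x2303054101))))) (.node 4 (.node 2 (.node 1 (.leaf (nat_lit 0x2304054121)) (.leaf (nat_lit 0x2307054151))) (.node 1 (.leaf (nat_lit 0x2303054161)) (.leaf (nat_lit 0x2303054171)))) (.node 2 (.node 1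 (.leaf (nat_lit 0x2503054181)) (.leaf (nat_lit 0x2302054191))) (.node 1 (.leaf (nat_lit 0x25070541a1)) (.leaf (nat_lit 0x25070541c1)))))) (.node 8 (.node 4 (.node 2 (.node 1 (.leaf (nat_lit 0x25030541d1)) (.leaf (nat_lit 0x25070541e1))) (.node 1 (.leaf (nat_lit 0x2503054201)) (.leaf (nat_lit 0x2702054211)))) (.node 2 (.node 1 (.leaf (nat_lit 0x2307054221)) (.leaf (nat_lit 0x2307054241))) (.node 1 (.leaf (nat_lit 0x2303054251)) (.leaf (nat_lit 0x2307054261))))) (.node 4 (.node 2 (.node 1 (.leaf (nat_lit 0x2303054271)) (.leaf (nat_lit 0x2302054281))) (.node 1 (.leaf (nat_lit 0x2301054291)) (.leaf (nat_lit 0x23080542d1)))) (.node 2 (.node 1 (.leaf (nat_lit 0x23070542e1)) (.leaf (nat_lit 0x23080542f1))) (.node 1 (.leaf (nat_lit 0x2307054301)) (.leaf (nat_lit 0x2303054311))))))))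

noncomputable def oT180 : Tree :=
  .node 64 (.node 32 (.node 16 (.node 8 (.node 4 (.node 2 (.node 1 (.leaf (nat_lit 0x2308054321)) (.leaf (nat_lit 0x2307054331))) (.node 1 (.leaf (nat_lit 0x2303054341)) (.leaf (nat_lit 0x2304054351)))) (.node 2 (.node 1 (.leaf (nat_lit 0x2302054361)) (.leaf (nat_lit 0x2508054371))) (.node 1 (.leaf (nat_lit 0x2504054391)) (.leaf (nat_lit 0x25070543a1))))) (.node 4 (.node 2 (.node 1 (.leaf (nat_lit 0x25030543b1)) (.leaf (nat_lit 0x23040543d1))) (.node 1 (.leaf (nat_lit 0x25070543e1)) (.leaf (nat_lit 0x25030543f1)))) (.node 2 (.node 1 (.leaf (nat_lit 0x2502054401)) (.leaf (nat_lit 0x2307054411))) (.node 1 (.leaf (nat_lit 0x2308054431)) (.leaf (nat_lit 0x2308054441)))))) (.node 8 (.node 4 (.node 2 (.node 1 (.leaf (nat_lit 0x2307054451)) (.leaf (nat_lit 0x2307054461))) (.node 1 (.leaf (nat_lit 0x2303054471)) (.leaf (nat_lit 0x2307054481)))) (.node 2 (.node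 1 (.leaf (nat_lit 0x2308054481)) (.leaf (nat_lit 0x2308054491))) (.node 1 (.leaf (nat_lit 0x23070544a1)) (.leaf (nat_lit 0x23070544b1))))) (.node 4 (.node 2 (.node 1 (.leaf (nat_lit 0x23030544c1)) (.leaf (nat_lit 0x25080544d1))) (.node 1 (.leaf (nat_lit 0x23070544e1)) (.leaf (nat_lit 0x23030544f1)))) (.node 2 (.node 1 (.leaf (nat_lit 0x2302054501)) (.leaf (nat_lit 0x25040545d1))) (.node 1 (.leaf (nat_lit 0x2303054521)) (.leaf (nat_lit 0x2302054531))))))) (.node 16 (.node 8 (.node 4 (.node 2 (.node 1 (.leaf (nat_lit 0x2301054541)) (.leaf (nat_lit 0x2304054b61))) (.node 1 (.leaf (nat_lit 0x2303054581)) (.leaf (nat_lit 0x2302054591)))) (.node 2 (.node 1 (.leaf (nat_lit 0x25070545a1)) (.leaf (nat_lit 0x23030545b1))) (.node 1 (.leaf (nat_lit 0x23040545c1)) (.leaf (nat_lit 0x2302054b61))))) (.node 4 (.node 2 (.node 1 (.leaf (nat_lit 0x2507054611)) (.leaf (nat_lit 0x250405d5c1))) (.node 1 (.leaf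 (nat_lit 0x2507054631)) (.leaf (nat_lit 0x2703054641)))) (.node 2 (.node 1 (.leaf (nat_lit 0x270305f121)) (.leaf (nat_lit 0x2305054671))) (.node 1 (.leaf (nat_lit 0x23040547c1)) (.leaf (nat_lit 0x2304054761)))))) (.node 8 (.node 4 (.node 2 (.node 1 (.leaf (nat_lit 0x2503054691)) (.leaf (nat_lit 0x250405f1d1))) (.node 1 (.leaf (nat_lit 0x23030546b1)) (.leaf (nat_lit 0x2307054731)))) (.node 2 (.node 1 (.leaf (nat_lit 0x25070546c1)) (.leaf (nat_lit 0x25030546d1))) (.node 1 (.leaf (nat_lit 0x25020546e1)) (.leaf (nat_lit 0x27010546f1))))) (.node 4 (.node 2 (.node 1 (.leaf (nat_lit 0x2307054701)) (.leaf (nat_lit 0x2303054711))) (.node 1 (.leaf (nat_lit 0x2308054721)) (.leaf (nat_lit 0x2307054741)))) (.node 2 (.node 1 (.leaf (nat_lit 0x2303054751)) (.leaf (nat_lit 0x2302054761))) (.node 1 (.leaf (nat_lit 0x2308054771)) (.leaf (nat_lit 0x2307054781)))))))) (.node 32 (.node 16 (.node 8 (.node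 4 (.node 2 (.node 1 (.leaf (nat_lit 0x2307054791)) (.leaf (nat_lit 0x23030547a1))) (.node 1 (.leaf (nat_lit 0x23030547b1)) (.leaf (nat_lit 0x23020547c1)))) (.node 2 (.node 1 (.leaf (nat_lit 0x25070547d1)) (.leaf (nat_lit 0x23030547e1))) (.node 1 (.leaf (nat_lit 0x23020547f1)) (.leaf (nat_lit 0x23040547f1))))) (.node 4 (.node 2 (.node 1 (.leaf (nat_lit 0x2301054801)) (.leaf (nat_lit 0x2304054801))) (.node 1 (.leaf (nat_lit 0x2305054811)) (.leaf (nat_lit 0x250405b101)))) (.node 2 (.node 1 (.leaf (nat_lit 0x2302054841)) (.leaf (nat_lit 0x2301054851))) (.node 1 (.leaf (nat_lit 0x2300054861)) (.leaf (nat_lit 0x2305054881)))))) (.node 8 (.node 4 (.node 2 (.node 1 (.leaf (nat_lit 0x23050548a1)) (.leaf (nat_lit 0x2304054991))) (.node 1 (.leaf (nat_lit 0x25040548b1)) (.leaf (nat_lit 0x23030548d1)))) (.node 2 (.node 1 (.leaf (nat_lit 0x23070549a1)) (.leaf (nat_lit 0x2303054901))) (.node 1 (.leaf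 (nat_lit 0x2302054911)) (.leaf (nat_lit 0x2304054911))))) (.node 4 (.node 2 (.node 1 (.leaf (nat_lit 0x2302054b51)) (.leaf (nat_lit 0x2304054941))) (.node 1 (.leaf (nat_lit 0x2305054951)) (.leaf (nat_lit 0x2301054991)))) (.node 2 (.node 1 (.leaf (nat_lit 0x23040549b1)) (.leaf (nat_lit 0x23070549c1))) (.node 1 (.leaf (nat_lit 0x25070549e1)) (.leaf (nat_lit 0x25030549f1))))))) (.node 16 (.node 8 (.node 4 (.node 2 (.node 1 (.leaf (nat_lit 0x2303054a01)) (.leaf (nat_lit 0x2307054a11))) (.node 1 (.leaf (nat_lit 0x2303054a21)) (.leaf (nat_lit 0x2302054a31)))) (.node 2 (.node 1 (.leaf (nat_lit 0x2304054a31)) (.leaf (nat_lit 0x2307054a41))) (.node 1 (.leaf (nat_lit 0x2303054a51)) (.leaf (nat_lit 0x2304054a61))))) (.node 4 (.node 2 (.node 1 (.leaf (nat_lit 0x2307054a91)) (.leaf (nat_lit 0x2303054b01))) (.node 1 (.leaf (nat_lit 0x2304054b11)) (.leaf (nat_lit 0x2307054b21)))) (.node 2 (.node 1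 (.leaf (nat_lit 0x2303054b31)) (.leaf (nat_lit 0x2303054b41))) (.node 1 (.leaf (nat_lit 0x2304054b51)) (.leaf (nat_lit 0x2304054b71)))))) (.node 8 (.node 4 (.node 2 (.node 1 (.leaf (nat_lit 0x2304054b81)) (.leaf (nat_lit 0x2305054b91))) (.node 1 (.leaf (nat_lit 0x2305054bb1)) (.leaf (nat_lit 0x2304054be1)))) (.node 2 (.node 1 (.leaf (nat_lit 0x2304054bf1)) (.leaf (nat_lit 0x2302054c41))) (.node 1 (.leaf (nat_lit 0x1903054c72)) (.leaf (nat_lit 0x1902054ca2))))) (.node 4 (.node 2 (.node 1 (.leaf (nat_lit 0x1901054cf2)) (.leaf (nat_lit 0x2408054d11))) (.node 1 (.leaf (nat_lit 0x2407054d21)) (.leaf (nat_lit 0x2407054d41)))) (.node 2 (.node 1 (.leaf (nat_lit 0x2403054d51)) (.leaf (nat_lit 0x2408054d71))) (.node 1 (.leaf (nat_lit 0x2404054d91)) (.leaf (nat_lit 0x2408054da1))))))))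

noncomputable def oT181 : Tree :=
  .node 64 (.node 32 (.node 16 (.node 8 (.node 4 (.node 2 (.node 1 (.leaf (nat_lit 0x2407054db1)) (.leaf (nat_lit 0x2407054dd1))) (.node 1 (.leaf (nat_lit 0x2403054de1)) (.leaf (nat_lit 0x2407054df1)))) (.node 2 (.node 1 (.leaf (nat_lit 0x2407054e11)) (.leaf (nat_lit 0x2408054e21))) (.node 1 (.leaf (nat_lit 0x2407054e31)) (.leaf (nat_lit 0x2407054e51))))) (.node 4 (.node 2 (.node 1 (.leaf (nat_lit 0x2403054e71)) (.leaf (nat_lit 0x2402054e81))) (.node 1 (.leaf (nat_lit 0x2402054ec1)) (.leaf (nat_lit 0x2404054ec1)))) (.node 2 (.node 1 (.leaf (nat_lit 0x2407054ee1)) (.leaf (nat_lit 0x2403054f11))) (.node 1 (.leaf (nat_lit 0x2407054f31)) (.leaf (nat_lit 0x2407054f51)))))) (.node 8 (.node 4 (.node 2 (.node 1 (.leaf (nat_lit 0x2403054f61)) (.leaf (nat_lit 0x2407054f71))) (.node 1 (.leaf (nat_lit 0x2403054f81)) (.leaf (nat_lit 0x2403054fa1)))) (.node 2 (.node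 1 (.leaf (nat_lit 0x2403054fc1)) (.leaf (nat_lit 0x2403054fd1))) (.node 1 (.leaf (nat_lit 0x2408054fe1)) (.leaf (nat_lit 0x2407054ff1))))) (.node 4 (.node 2 (.node 1 (.leaf (nat_lit 0x2403055001)) (.leaf (nat_lit 0x2402055011))) (.node 1 (.leaf (nat_lit 0x2407055021)) (.leaf (nat_lit 0x2403055031)))) (.node 2 (.node 1 (.leaf (nat_lit 0x2402055041)) (.leaf (nat_lit 0x2404055041))) (.node 1 (.leaf (nat_lit 0x2401055051)) (.leaf (nat_lit 0x24040550a1))))))) (.node 16 (.node 8 (.node 4 (.node 2 (.node 1 (.leaf (nat_lit 0x24010550b1)) (.leaf (nat_lit 0x24040550b1))) (.node 1 (.leaf (nat_lit 0x2407055811)) (.leaf (nat_lit 0x24080550e1)))) (.node 2 (.node 1 (.leaf (nat_lit 0x24070550f1)) (.leaf (nat_lit 0x2404055101))) (.node 1 (.leaf (nat_lit 0x2408055101)) (.leaf (nat_lit 0x2403055111))))) (.node 4 (.node 2 (.node 1 (.leaf (nat_lit 0x2405055111)) (.leaf (nat_lit 0x2408055111))) (.node 1 (.leaf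 (nat_lit 0x2407055121)) (.leaf (nat_lit 0x2408055131)))) (.node 2 (.node 1 (.leaf (nat_lit 0x2407055141)) (.leaf (nat_lit 0x2408055161))) (.node 1 (.leaf (nat_lit 0x2603055a61)) (.leaf (nat_lit 0x2405057e71)))))) (.node 8 (.node 4 (.node 2 (.node 1 (.leaf (nat_lit 0x2408055181)) (.leaf (nat_lit 0x2407055191))) (.node 1 (.leaf (nat_lit 0x2404055231)) (.leaf (nat_lit 0x24080551a1)))) (.node 2 (.node 1 (.leaf (nat_lit 0x26040551c1)) (.leaf (nat_lit 0x24070551d1))) (.node 1 (.leaf (nat_lit 0x24080551d1)) (.leaf (nat_lit 0x24070551e1))))) (.node 4 (.node 2 (.node 1 (.leaf (nat_lit 0x24030551f1)) (.leaf (nat_lit 0x2407055201))) (.node 1 (.leaf (nat_lit 0x2403055211)) (.leaf (nat_lit 0x2402055bd1)))) (.node 2 (.node 1 (.leaf (nat_lit 0x2408055231)) (.leaf (nat_lit 0x2407055241))) (.node 1 (.leaf (nat_lit 0x2404055c01)) (.leaf (nat_lit 0x2404055261)))))))) (.node 32 (.node 16 (.node 8 (.node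 4 (.node 2 (.node 1 (.leaf (nat_lit 0x2403055271)) (.leaf (nat_lit 0x2402055281))) (.node 1 (.leaf (nat_lit 0x24070552b1)) (.leaf (nat_lit 0x24080552d1)))) (.node 2 (.node 1 (.leaf (nat_lit 0x24070552e1)) (.leaf (nat_lit 0x2402055d21))) (.node 1 (.leaf (nat_lit 0x2408055301)) (.leaf (nat_lit 0x2407055311))))) (.node 4 (.node 2 (.node 1 (.leaf (nat_lit 0x2604055d61)) (.leaf (nat_lit 0x2407055331))) (.node 1 (.leaf (nat_lit 0x2408055331)) (.leaf (nat_lit 0x2407055341)))) (.node 2 (.node 1 (.leaf (nat_lit 0x2403055351)) (.leaf (nat_lit 0x2407055361))) (.node 1 (.leaf (nat_lit 0x2408055361)) (.leaf (nat_lit 0x2408055371)))))) (.node 8 (.node 4 (.node 2 (.node 1 (.leaf (nat_lit 0x2407055381)) (.leaf (nat_lit 0x2407055391))) (.node 1 (.leaf (nat_lit 0x24030553a1)) (.leaf (nat_lit 0x24040553b1)))) (.node 2 (.node 1 (.leaf (nat_lit 0x24030553c1)) (.leaf (nat_lit 0x24020553d1))) (.node 1 (.leaf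 (nat_lit 0x24070553e1)) (.leaf (nat_lit 0x24030553f1))))) (.node 4 (.node 2 (.node 1 (.leaf (nat_lit 0x2404055401)) (.leaf (nat_lit 0x2407055411))) (.node 1 (.leaf (nat_lit 0x2403055421)) (.leaf (nat_lit 0x2404055f01)))) (.node 2 (.node 1 (.leaf (nat_lit 0x2403055451)) (.leaf (nat_lit 0x2402055461))) (.node 1 (.leaf (nat_lit 0x2404055461)) (.leaf (nat_lit 0x2405055471))))))) (.node 16 (.node 8 (.node 4 (.node 2 (.node 1 (.leaf (nat_lit 0x2402055481)) (.leaf (nat_lit 0x2404055481))) (.node 1 (.leaf (nat_lit 0x2401055491)) (.leaf (nat_lit 0x24030554d1)))) (.node 2 (.node 1 (.leaf (nat_lit 0x24020554e1)) (.leaf (nat_lit 0x2405056021))) (.node 1 (.leaf (nat_lit 0x2401055501)) (.leaf (nat_lit 0x2404055501))))) (.node 4 (.node 2 (.node 1 (.leaf (nat_lit 0x2404055531)) (.leaf (nat_lit 0x2408055541))) (.node 1 (.leaf (nat_lit 0x2407055551)) (.leaf (nat_lit 0x2403055561)))) (.node 2 (.node 1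 (.leaf (nat_lit 0x2404055571)) (.leaf (nat_lit 0x2407055581))) (.node 1 (.leaf (nat_lit 0x2403055591)) (.leaf (nat_lit 0x24040555a1)))))) (.node 8 (.node 4 (.node 2 (.node 1 (.leaf (nat_lit 0x24050555b1)) (.leaf (nat_lit 0x24050555c1))) (.node 1 (.leaf (nat_lit 0x24080555e1)) (.leaf (nat_lit 0x24070555f1)))) (.node 2 (.node 1 (.leaf (nat_lit 0x2407055601)) (.leaf (nat_lit 0x24070571b1))) (.node 1 (.leaf (nat_lit 0x2408055631)) (.leaf (nat_lit 0x24030564f1))))) (.node 4 (.node 2 (.node 1 (.leaf (nat_lit 0x2408055641)) (.leaf (nat_lit 0x2407055651))) (.node 1 (.leaf (nat_lit 0x2408055661)) (.leaf (nat_lit 0x2407055671)))) (.node 2 (.node 1 (.leaf (nat_lit 0x2407055681)) (.leaf (nat_lit 0x24080556a1))) (.node 1 (.leaf (nat_lit 0x24070556b1)) (.leaf (nat_lit 0x24030556c1))))))))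

noncomputable def oT182 : Tree :=
  .node 64 (.node 32 (.node 16 (.node 8 (.node 4 (.node 2 (.node 1 (.leaf (nat_lit 0x24070556d1)) (.leaf (nat_lit 0x24030556e1))) (.node 1 (.leaf (nat_lit 0x24030556f1)) (.leaf (nat_lit 0x2403055711)))) (.node 2 (.node 1 (.leaf (nat_lit 0x2404055731)) (.leaf (nat_lit 0x2408055741))) (.node 1 (.leaf (nat_lit 0x2407055751)) (.leaf (nat_lit 0x2407055771))))) (.node 4 (.node 2 (.node 1 (.leaf (nat_lit 0x2408055791)) (.leaf (nat_lit 0x24070557a1))) (.node 1 (.leaf (nat_lit 0x24030557b1)) (.leaf (nat_lit 0x24070557c1)))) (.node 2 (.node 1 (.leaf (nat_lit 0x24030557d1)) (.leaf (nat_lit 0x24030557f1))) (.node 1 (.leaf (nat_lit 0x2408055811)) (.leaf (nat_lit 0x2407055821)))))) (.node 8 (.node 4 (.node 2 (.node 1 (.leaf (nat_lit 0x2403055841)) (.leaf (nat_lit 0x2403055851))) (.node 1 (.leaf (nat_lit 0x2404055861)) (.leaf (nat_lit 0x2408055871)))) (.node 2 (.node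 1 (.leaf (nat_lit 0x2407055881)) (.leaf (nat_lit 0x2403055891))) (.node 1 (.leaf (nat_lit 0x24020558a1)) (.leaf (nat_lit 0x24070558b1))))) (.node 4 (.node 2 (.node 1 (.leaf (nat_lit 0x24030558c1)) (.leaf (nat_lit 0x24040558d1))) (.node 1 (.leaf (nat_lit 0x24040578a1)) (.leaf (nat_lit 0x2403055901)))) (.node 2 (.node 1 (.leaf (nat_lit 0x2404055911)) (.leaf (nat_lit 0x2404055951))) (.node 1 (.leaf (nat_lit 0x2408055951)) (.leaf (nat_lit 0x2406057ea1))))))) (.node 16 (.node 8 (.node 4 (.node 2 (.node 1 (.leaf (nat_lit 0x2403058991)) (.leaf (nat_lit 0x2608055961))) (.node 1 (.leaf (nat_lit 0x2607055971)) (.leaf (nat_lit 0x2407056b31)))) (.node 2 (.node 1 (.leaf (nat_lit 0x2408055981)) (.leaf (nat_lit 0x2607055991))) (.node 1 (.leaf (nat_lit 0x24040559b1)) (.leaf (nat_lit 0x24080559b1))))) (.node 4 (.node 2 (.node 1 (.leaf (nat_lit 0x24080559c1)) (.leaf (nat_lit 0x24070559d1))) (.node 1 (.leaf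 (nat_lit 0x24080559e1)) (.leaf (nat_lit 0x24080559f1)))) (.node 2 (.node 1 (.leaf (nat_lit 0x2407055a01)) (.leaf (nat_lit 0x2403055a11))) (.node 1 (.leaf (nat_lit 0x2407055a21)) (.leaf (nat_lit 0x2403055a31)))))) (.node 8 (.node 4 (.node 2 (.node 1 (.leaf (nat_lit 0x2407055ca1)) (.leaf (nat_lit 0x2608055a41))) (.node 1 (.leaf (nat_lit 0x2607055a51)) (.leaf (nat_lit 0x2408055a71)))) (.node 2 (.node 1 (.leaf (nat_lit 0x2407055a81)) (.leaf (nat_lit 0x2405058981))) (.node 1 (.leaf (nat_lit 0x2407055aa1)) (.leaf (nat_lit 0x2403055ab1))))) (.node 4 (.node 2 (.node 1 (.leaf (nat_lit 0x2408055ac1)) (.leaf (nat_lit 0x2407055ad1))) (.node 1 (.leaf (nat_lit 0x2603055ae1)) (.leaf (nat_lit 0x2408055af1)))) (.node 2 (.node 1 (.leaf (nat_lit 0x2407055b01)) (.leaf (nat_lit 0x2403055b11))) (.node 1 (.leaf (nat_lit 0x2408055b21)) (.leaf (nat_lit 0x2408055b31)))))))) (.node 32 (.node 16 (.node 8 (.node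 4 (.node 2 (.node 1 (.leaf (nat_lit 0x2407055b41)) (.leaf (nat_lit 0x2407055b51))) (.node 1 (.leaf (nat_lit 0x2403055b61)) (.leaf (nat_lit 0x2404055b71)))) (.node 2 (.node 1 (.leaf (nat_lit 0x2408055b81)) (.leaf (nat_lit 0x2407055b91))) (.node 1 (.leaf (nat_lit 0x2403055ba1)) (.leaf (nat_lit 0x2402055bb1))))) (.node 4 (.node 2 (.node 1 (.leaf (nat_lit 0x2403055bc1)) (.leaf (nat_lit 0x2404055bd1))) (.node 1 (.leaf (nat_lit 0x2407055be1)) (.leaf (nat_lit 0x2403055bf1)))) (.node 2 (.node 1 (.leaf (nat_lit 0x2402055c01)) (.leaf (nat_lit 0x2405055c31))) (.node 1 (.leaf (nat_lit 0x2407055c41)) (.leaf (nat_lit 0x2403055c51)))))) (.node 8 (.node 4 (.node 2 (.node 1 (.leaf (nat_lit 0x2402055c61)) (.leaf (nat_lit 0x2404055c61))) (.node 1 (.leaf (nat_lit 0x24040579c1)) (.leaf (nat_lit 0x2403056b11)))) (.node 2 (.node 1 (.leaf (nat_lit 0x2408055ca1)) (.leaf (nat_lit 0x2607055cb1))) (.node 1 (.leaf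 (nat_lit 0x2603055cc1)) (.leaf (nat_lit 0x2408055cd1))))) (.node 4 (.node 2 (.node 1 (.leaf (nat_lit 0x2407055ce1)) (.leaf (nat_lit 0x2407055cf1))) (.node 1 (.leaf (nat_lit 0x2403055d01)) (.leaf (nat_lit 0x2403055d11)))) (.node 2 (.node 1 (.leaf (nat_lit 0x2404055d21)) (.leaf (nat_lit 0x2408055d31))) (.node 1 (.leaf (nat_lit 0x2407055d41)) (.leaf (nat_lit 0x2403055d51))))))) (.node 16 (.node 8 (.node 4 (.node 2 (.node 1 (.leaf (nat_lit 0x2602055d61)) (.leaf (nat_lit 0x2408055d71))) (.node 1 (.leaf (nat_lit 0x2407055d81)) (.leaf (nat_lit 0x2403055d91)))) (.node 2 (.node 1 (.leaf (nat_lit 0x2408055da1)) (.leaf (nat_lit 0x2407055db1))) (.node 1 (.leaf (nat_lit 0x2407055dc1)) (.leaf (nat_lit 0x2403055dd1))))) (.node 4 (.node 2 (.node 1 (.leaf (nat_lit 0x2404055de1)) (.leaf (nat_lit 0x2407055df1))) (.node 1 (.leaf (nat_lit 0x2403055e01)) (.leaf (nat_lit 0x2408055e11)))) (.node 2 (.node 1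 (.leaf (nat_lit 0x2407055e21)) (.leaf (nat_lit 0x2403055e31))) (.node 1 (.leaf (nat_lit 0x2402055e41)) (.leaf (nat_lit 0x2404055e41)))))) (.node 8 (.node 4 (.node 2 (.node 1 (.leaf (nat_lit 0x2405055e51)) (.leaf (nat_lit 0x2607055e61))) (.node 1 (.leaf (nat_lit 0x2403055e71)) (.leaf (nat_lit 0x2402055e81)))) (.node 2 (.node 1 (.leaf (nat_lit 0x2404055e81)) (.leaf (nat_lit 0x2401055e91))) (.node 1 (.leaf (nat_lit 0x2404058c31)) (.leaf (nat_lit 0x24020578a1))))) (.node 4 (.node 2 (.node 1 (.leaf (nat_lit 0x2405055ec1)) (.leaf (nat_lit 0x2407055ed1))) (.node 1 (.leaf (nat_lit 0x2403055ee1)) (.leaf (nat_lit 0x2403058931)))) (.node 2 (.node 1 (.leaf (nat_lit 0x2404055ef1)) (.leaf (nat_lit 0x2401055f01))) (.node 1 (.leaf (nat_lit 0x2405055f31)) (.leaf (nat_lit 0x2407055f41))))))))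

noncomputable def oT183 : Tree :=
  .node 64 (.node 32 (.node 16 (.node 8 (.node 4 (.node 2 (.node 1 (.leaf (nat_lit 0x2406055f61)) (.leaf (nat_lit 0x2405055fe1))) (.node 1 (.leaf (nat_lit 0x2404055f81)) (.leaf (nat_lit 0x2401055f91)))) (.node 2 (.node 1 (.leaf (nat_lit 0x2404055f91)) (.leaf (nat_lit 0x2403055ff1))) (.node 1 (.leaf (nat_lit 0x2404056001)) (.leaf (nat_lit 0x2403058911))))) (.node 4 (.node 2 (.node 1 (.leaf (nat_lit 0x2404056011)) (.leaf (nat_lit 0x24030560a1))) (.node 1 (.leaf (nat_lit 0x2405059be1)) (.leaf (nat_lit 0x2404056051)))) (.node 2 (.node 1 (.leaf (nat_lit 0x2404056071)) (.leaf (nat_lit 0x2403056081))) (.node 1 (.leaf (nat_lit 0x24040560b1)) (.leaf (nat_lit 0x24050560c1)))))) (.node 8 (.node 4 (.node 2 (.node 1 (.leaf (nat_lit 0x24070560d1)) (.leaf (nat_lit 0x24030560e1))) (.node 1 (.leaf (nat_lit 0x24070560f1)) (.leaf (nat_lit 0x2403056101)))) (.node 2 (.node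 1 (.leaf (nat_lit 0x2404056111)) (.leaf (nat_lit 0x2405056121))) (.node 1 (.leaf (nat_lit 0x2403056131)) (.leaf (nat_lit 0x2404056141))))) (.node 4 (.node 2 (.node 1 (.leaf (nat_lit 0x2405056151)) (.leaf (nat_lit 0x2406056161))) (.node 1 (.leaf (nat_lit 0x24030588e1)) (.leaf (nat_lit 0x19030561d2)))) (.node 2 (.node 1 (.leaf (nat_lit 0x19030561e2)) (.leaf (nat_lit 0x1903056222))) (.node 1 (.leaf (nat_lit 0x1904056232)) (.leaf (nat_lit 0x1903056242))))))) (.node 16 (.node 8 (.node 4 (.node 2 (.node 1 (.leaf (nat_lit 0x1902056252)) (.leaf (nat_lit 0x19030562e2))) (.node 1 (.leaf (nat_lit 0x1904056302)) (.leaf (nat_lit 0x1902056312)))) (.node 2 (.node 1 (.leaf (nat_lit 0x1902056332)) (.leaf (nat_lit 0x1904056332))) (.node 1 (.leaf (nat_lit 0x1902056342)) (.leaf (nat_lit 0x1904056342))))) (.node 4 (.node 2 (.node 1 (.leaf (nat_lit 0x19040563b2)) (.leaf (nat_lit 0x1904056422))) (.node 1 (.leaf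 (nat_lit 0x2408056481)) (.leaf (nat_lit 0x2407056491)))) (.node 2 (.node 1 (.leaf (nat_lit 0x24070564a1)) (.leaf (nat_lit 0x24080564d1))) (.node 1 (.leaf (nat_lit 0x24070564e1)) (.leaf (nat_lit 0x24080564f1)))))) (.node 8 (.node 4 (.node 2 (.node 1 (.leaf (nat_lit 0x2407056501)) (.leaf (nat_lit 0x2408056511))) (.node 1 (.leaf (nat_lit 0x2407056521)) (.leaf (nat_lit 0x2403056551)))) (.node 2 (.node 1 (.leaf (nat_lit 0x2407056561)) (.leaf (nat_lit 0x2403056571))) (.node 1 (.leaf (nat_lit 0x24080565a1)) (.leaf (nat_lit 0x24070565b1))))) (.node 4 (.node 2 (.node 1 (.leaf (nat_lit 0x24070565c1)) (.leaf (nat_lit 0x24070565e1))) (.node 1 (.leaf (nat_lit 0x24030565f1)) (.leaf (nat_lit 0x2407056601)))) (.node 2 (.node 1 (.leaf (nat_lit 0x2403056611)) (.leaf (nat_lit 0x2403056631))) (.node 1 (.leaf (nat_lit 0x2404056651)) (.leaf (nat_lit 0x2404056661)))))))) (.node 32 (.node 16 (.node 8 (.node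 4 (.node 2 (.node 1 (.leaf (nat_lit 0x2403056671)) (.leaf (nat_lit 0x2405056671))) (.node 1 (.leaf (nat_lit 0x2408056671)) (.leaf (nat_lit 0x2407056681)))) (.node 2 (.node 1 (.leaf (nat_lit 0x2408056691)) (.leaf (nat_lit 0x24070566a1))) (.node 1 (.leaf (nat_lit 0x24070566c1)) (.leaf (nat_lit 0x24080566e1))))) (.node 4 (.node 2 (.node 1 (.leaf (nat_lit 0x24070566f1)) (.leaf (nat_lit 0x2408056701))) (.node 1 (.leaf (nat_lit 0x2407056711)) (.leaf (nat_lit 0x2403056721)))) (.node 2 (.node 1 (.leaf (nat_lit 0x2408056731)) (.leaf (nat_lit 0x2407056741))) (.node 1 (.leaf (nat_lit 0x2403056751)) (.leaf (nat_lit 0x2403056761)))))) (.node 8 (.node 4 (.node 2 (.node 1 (.leaf (nat_lit 0x2404056771)) (.leaf (nat_lit 0x2407056781))) (.node 1 (.leaf (nat_lit 0x2403056791)) (.leaf (nat_lit 0x24020567a1)))) (.node 2 (.node 1 (.leaf (nat_lit 0x24030567d1)) (.leaf (nat_lit 0x2407056801))) (.node 1 (.leaf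 (nat_lit 0x2603056821)) (.leaf (nat_lit 0x2407056831))))) (.node 4 (.node 2 (.node 1 (.leaf (nat_lit 0x2403056841)) (.leaf (nat_lit 0x2407056851))) (.node 1 (.leaf (nat_lit 0x2403056861)) (.leaf (nat_lit 0x2404056871)))) (.node 2 (.node 1 (.leaf (nat_lit 0x2407056881)) (.leaf (nat_lit 0x2403056891))) (.node 1 (.leaf (nat_lit 0x24020568a1)) (.leaf (nat_lit 0x24050568c1))))))) (.node 16 (.node 8 (.node 4 (.node 2 (.node 1 (.leaf (nat_lit 0x24030568d1)) (.leaf (nat_lit 0x24020568e1))) (.node 1 (.leaf (nat_lit 0x24040568e1)) (.leaf (nat_lit 0x2404056921)))) (.node 2 (.node 1 (.leaf (nat_lit 0x2404056931)) (.leaf (nat_lit 0x2404056951))) (.node 1 (.leaf (nat_lit 0x2403056961)) (.leaf (nat_lit 0x2404056971))))) (.node 4 (.node 2 (.node 1 (.leaf (nat_lit 0x2405056981)) (.leaf (nat_lit 0x24070569a1))) (.node 1 (.leaf (nat_lit 0x24070569c1)) (.leaf (nat_lit 0x24030569e1)))) (.node 2 (.node 1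 (.leaf (nat_lit 0x24080569e1)) (.leaf (nat_lit 0x24070569f1))) (.node 1 (.leaf (nat_lit 0x2408056a01)) (.leaf (nat_lit 0x2407056a11)))))) (.node 8 (.node 4 (.node 2 (.node 1 (.leaf (nat_lit 0x2403056a21)) (.leaf (nat_lit 0x2403056a31))) (.node 1 (.leaf (nat_lit 0x2408056a61)) (.leaf (nat_lit 0x2407056a71)))) (.node 2 (.node 1 (.leaf (nat_lit 0x2403056a81)) (.leaf (nat_lit 0x2405056a81))) (.node 1 (.leaf (nat_lit 0x2408056a81)) (.leaf (nat_lit 0x2407056a91))))) (.node 4 (.node 2 (.node 1 (.leaf (nat_lit 0x2408056aa1)) (.leaf (nat_lit 0x2407056ab1))) (.node 1 (.leaf (nat_lit 0x2408056ad1)) (.leaf (nat_lit 0x2407056ae1)))) (.node 2 (.node 1 (.leaf (nat_lit 0x2604056b01)) (.leaf (nat_lit 0x2408056b11))) (.node 1 (.leaf (nat_lit 0x2407056b21)) (.leaf (nat_lit 0x2408056b31))))))))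

noncomputable def oT184 : Tree :=
  .node 64 (.node 32 (.node 16 (.node 8 (.node 4 (.node 2 (.node 1 (.leaf (nat_lit 0x2408056b41)) (.leaf (nat_lit 0x2407056b51))) (.node 1 (.leaf (nat_lit 0x2403056b61)) (.leaf (nat_lit 0x2407056b71)))) (.node 2 (.node 1 (.leaf (nat_lit 0x2403056b81)) (.leaf (nat_lit 0x2403056ba1))) (.node 1 (.leaf (nat_lit 0x2407056bb1)) (.leaf (nat_lit 0x2404056bd1))))) (.node 4 (.node 2 (.node 1 (.leaf (nat_lit 0x2403056be1)) (.leaf (nat_lit 0x2402056bf1))) (.node 1 (.leaf (nat_lit 0x2607056c31)) (.leaf (nat_lit 0x2407056c51)))) (.node 2 (.node 1 (.leaf (nat_lit 0x2408056c71)) (.leaf (nat_lit 0x2407056c81))) (.node 1 (.leaf (nat_lit 0x26040605f1)) (.leaf (nat_lit 0x2407056ca1)))))) (.node 8 (.node 4 (.node 2 (.node 1 (.leaf (nat_lit 0x2407056cb1)) (.leaf (nat_lit 0x2403056cc1))) (.node 1 (.leaf (nat_lit 0x2407056cd1)) (.leaf (nat_lit 0x2403056ce1)))) (.node 2 (.node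 1 (.leaf (nat_lit 0x2404056cf1)) (.leaf (nat_lit 0x2403056d01))) (.node 1 (.leaf (nat_lit 0x2402056d11)) (.leaf (nat_lit 0x2402056d41))))) (.node 4 (.node 2 (.node 1 (.leaf (nat_lit 0x2404056d41)) (.leaf (nat_lit 0x2403056d51))) (.node 1 (.leaf (nat_lit 0x2402056d61)) (.leaf (nat_lit 0x2404056d61)))) (.node 2 (.node 1 (.leaf (nat_lit 0x2405056d71)) (.leaf (nat_lit 0x2402056d81))) (.node 1 (.leaf (nat_lit 0x2404056d81)) (.leaf (nat_lit 0x2404056df1))))))) (.node 16 (.node 8 (.node 4 (.node 2 (.node 1 (.leaf (nat_lit 0x2402056e11)) (.leaf (nat_lit 0x2404056e11))) (.node 1 (.leaf (nat_lit 0x2405056e21)) (.leaf (nat_lit 0x2405056e41)))) (.node 2 (.node 1 (.leaf (nat_lit 0x2407058441)) (.leaf (nat_lit 0x2407057e11))) (.node 1 (.leaf (nat_lit 0x2408056e61)) (.leaf (nat_lit 0x2407056e71))))) (.node 4 (.node 2 (.node 1 (.leaf (nat_lit 0x2408056e81)) (.leaf (nat_lit 0x2607056e91))) (.node 1 (.leaf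 (nat_lit 0x2408056eb1)) (.leaf (nat_lit 0x2407056ec1)))) (.node 2 (.node 1 (.leaf (nat_lit 0x2407056ed1)) (.leaf (nat_lit 0x2408056ed1))) (.node 1 (.leaf (nat_lit 0x2408056ee1)) (.leaf (nat_lit 0x2407056ef1)))))) (.node 8 (.node 4 (.node 2 (.node 1 (.leaf (nat_lit 0x2403056f01)) (.leaf (nat_lit 0x2407056f11))) (.node 1 (.leaf (nat_lit 0x2403056f21)) (.leaf (nat_lit 0x2404056f41)))) (.node 2 (.node 1 (.leaf (nat_lit 0x2406057a51)) (.leaf (nat_lit 0x2408056f51))) (.node 1 (.leaf (nat_lit 0x2407056f61)) (.leaf (nat_lit 0x2403056f71))))) (.node 4 (.node 2 (.node 1 (.leaf (nat_lit 0x2407056f81)) (.leaf (nat_lit 0x2603056f91))) (.node 1 (.leaf (nat_lit 0x2408056fa1)) (.leaf (nat_lit 0x2407056fb1)))) (.node 2 (.node 1 (.leaf (nat_lit 0x2403056fc1)) (.leaf (nat_lit 0x2408056fd1))) (.node 1 (.leaf (nat_lit 0x2407056fe1)) (.leaf (nat_lit 0x2407056ff1)))))))) (.node 32 (.node 16 (.node 8 (.node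 4 (.node 2 (.node 1 (.leaf (nat_lit 0x2403057001)) (.leaf (nat_lit 0x2404057011))) (.node 1 (.leaf (nat_lit 0x2407057021)) (.leaf (nat_lit 0x2403057031)))) (.node 2 (.node 1 (.leaf (nat_lit 0x2402057041)) (.leaf (nat_lit 0x2403057061))) (.node 1 (.leaf (nat_lit 0x2404057081)) (.leaf (nat_lit 0x2403057091))))) (.node 4 (.node 2 (.node 1 (.leaf (nat_lit 0x24050570b1)) (.leaf (nat_lit 0x24030570c1))) (.node 1 (.leaf (nat_lit 0x24020570d1)) (.leaf (nat_lit 0x24040570d1)))) (.node 2 (.node 1 (.leaf (nat_lit 0x2607057111)) (.leaf (nat_lit 0x2603057121))) (.node 1 (.leaf (nat_lit 0x24060579d1)) (.leaf (nat_lit 0x2408057131)))))) (.node 8 (.node 4 (.node 2 (.node 1 (.leaf (nat_lit 0x2408057141)) (.leaf (nat_lit 0x2407057151))) (.node 1 (.leaf (nat_lit 0x2407057161)) (.leaf (nat_lit 0x2403057171)))) (.node 2 (.node 1 (.leaf (nat_lit 0x2404057181)) (.leaf (nat_lit 0x2403057191))) (.node 1 (.leaf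 (nat_lit 0x26020571a1)) (.leaf (nat_lit 0x24080571b1))))) (.node 4 (.node 2 (.node 1 (.leaf (nat_lit 0x24070571c1)) (.leaf (nat_lit 0x24080571e1))) (.node 1 (.leaf (nat_lit 0x24080571f1)) (.leaf (nat_lit 0x2407057201)))) (.node 2 (.node 1 (.leaf (nat_lit 0x2407057211)) (.leaf (nat_lit 0x2403057221))) (.node 1 (.leaf (nat_lit 0x2404057231)) (.leaf (nat_lit 0x2408057241))))))) (.node 16 (.node 8 (.node 4 (.node 2 (.node 1 (.leaf (nat_lit 0x2407057251)) (.leaf (nat_lit 0x2407057261))) (.node 1 (.leaf (nat_lit 0x2403057271)) (.leaf (nat_lit 0x2407057281)))) (.node 2 (.node 1 (.leaf (nat_lit 0x2403057291)) (.leaf (nat_lit 0x24020572a1))) (.node 1 (.leaf (nat_lit 0x24040572a1)) (.leaf (nat_lit 0x24050572b1))))) (.node 4 (.node 2 (.node 1 (.leaf (nat_lit 0x2405059b41)) (.leaf (nat_lit 0x24030572d1))) (.node 1 (.leaf (nat_lit 0x24020572e1)) (.leaf (nat_lit 0x24040572e1)))) (.node 2 (.node 1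 (.leaf (nat_lit 0x24010572f1)) (.leaf (nat_lit 0x2403057301))) (.node 1 (.leaf (nat_lit 0x2404057321)) (.leaf (nat_lit 0x2403057331)))))) (.node 8 (.node 4 (.node 2 (.node 1 (.leaf (nat_lit 0x2404057341)) (.leaf (nat_lit 0x2405057351))) (.node 1 (.leaf (nat_lit 0x2403057361)) (.leaf (nat_lit 0x2402057371)))) (.node 2 (.node 1 (.leaf (nat_lit 0x2404057371)) (.leaf (nat_lit 0x2405057391))) (.node 1 (.leaf (nat_lit 0x24060573a1)) (.leaf (nat_lit 0x24040573c1))))) (.node 4 (.node 2 (.node 1 (.leaf (nat_lit 0x24040573d1)) (.leaf (nat_lit 0x2404057431))) (.node 1 (.leaf (nat_lit 0x2404057451)) (.leaf (nat_lit 0x2403057461)))) (.node 2 (.node 1 (.leaf (nat_lit 0x2407057471)) (.leaf (nat_lit 0x2403057481))) (.node 1 (.leaf (nat_lit 0x2404057491)) (.leaf (nat_lit 0x24070574b1))))))))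

noncomputable def oT185 : Tree :=
  .node 64 (.node 32 (.node 16 (.node 8 (.node 4 (.node 2 (.node 1 (.leaf (nat_lit 0x24030574c1)) (.leaf (nat_lit 0x24070574d1))) (.node 1 (.leaf (nat_lit 0x24030574e1)) (.leaf (nat_lit 0x24040574f1)))) (.node 2 (.node 1 (.leaf (nat_lit 0x2403057511)) (.leaf (nat_lit 0x2402057521))) (.node 1 (.leaf (nat_lit 0x2404057521)) (.leaf (nat_lit 0x2404057531))))) (.node 4 (.node 2 (.node 1 (.leaf (nat_lit 0x2405057541)) (.leaf (nat_lit 0x2607057561))) (.node 1 (.leaf (nat_lit 0x2407057581)) (.leaf (nat_lit 0x2403057591)))) (.node 2 (.node 1 (.leaf (nat_lit 0x24030575a1)) (.leaf (nat_lit 0x24020579c1))) (.node 1 (.leaf (nat_lit 0x26070575d1)) (.leaf (nat_lit 0x26030575f1)))))) (.node 8 (.node 4 (.node 2 (.node 1 (.leaf (nat_lit 0x2403057601)) (.leaf (nat_lit 0x2402057611))) (.node 1 (.leaf (nat_lit 0x2404057631)) (.leaf (nat_lit 0x2408057651)))) (.node 2 (.node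 1 (.leaf (nat_lit 0x2607057661)) (.leaf (nat_lit 0x2407057681))) (.node 1 (.leaf (nat_lit 0x2403057691)) (.leaf (nat_lit 0x24070576a1))))) (.node 4 (.node 2 (.node 1 (.leaf (nat_lit 0x24030576b1)) (.leaf (nat_lit 0x24080576c1))) (.node 1 (.leaf (nat_lit 0x26070576d1)) (.leaf (nat_lit 0x24070576f1)))) (.node 2 (.node 1 (.leaf (nat_lit 0x2603057701)) (.leaf (nat_lit 0x2403057711))) (.node 1 (.leaf (nat_lit 0x2402057721)) (.leaf (nat_lit 0x2403057731))))))) (.node 16 (.node 8 (.node 4 (.node 2 (.node 1 (.leaf (nat_lit 0x2404057751)) (.leaf (nat_lit 0x2407057761))) (.node 1 (.leaf (nat_lit 0x2407057781)) (.leaf (nat_lit 0x2603057791)))) (.node 2 (.node 1 (.leaf (nat_lit 0x24030577a1)) (.leaf (nat_lit 0x24030577b1))) (.node 1 (.leaf (nat_lit 0x26020577c1)) (.leaf (nat_lit 0x24030577d1))))) (.node 4 (.node 2 (.node 1 (.leaf (nat_lit 0x24030577e1)) (.leaf (nat_lit 0x24030577f1))) (.node 1 (.leaf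 (nat_lit 0x2402057801)) (.leaf (nat_lit 0x2407057811)))) (.node 2 (.node 1 (.leaf (nat_lit 0x2403057821)) (.leaf (nat_lit 0x2402057831))) (.node 1 (.leaf (nat_lit 0x2404057831)) (.leaf (nat_lit 0x2401057841)))))) (.node 8 (.node 4 (.node 2 (.node 1 (.leaf (nat_lit 0x2404057851)) (.leaf (nat_lit 0x2403057861))) (.node 1 (.leaf (nat_lit 0x2404057871)) (.leaf (nat_lit 0x2404057881)))) (.node 2 (.node 1 (.leaf (nat_lit 0x24040578b1)) (.leaf (nat_lit 0x24040578d1))) (.node 1 (.leaf (nat_lit 0x24030578f1)) (.leaf (nat_lit 0x2407057901))))) (.node 4 (.node 2 (.node 1 (.leaf (nat_lit 0x2403057921)) (.leaf (nat_lit 0x2607057931))) (.node 1 (.leaf (nat_lit 0x2407057951)) (.leaf (nat_lit 0x2403057961)))) (.node 2 (.node 1 (.leaf (nat_lit 0x2603057971)) (.leaf (nat_lit 0x2407057981))) (.node 1 (.leaf (nat_lit 0x2403057991)) (.leaf (nat_lit 0x24040579a1)))))))) (.node 32 (.node 16 (.node 8 (.node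 4 (.node 2 (.node 1 (.leaf (nat_lit 0x24020579b1)) (.leaf (nat_lit 0x24080579d1))) (.node 1 (.leaf (nat_lit 0x24070579e1)) (.leaf (nat_lit 0x2408057a01)))) (.node 2 (.node 1 (.leaf (nat_lit 0x2407057a11)) (.leaf (nat_lit 0x2403057a21))) (.node 1 (.leaf (nat_lit 0x2407057a31)) (.leaf (nat_lit 0x2403057a41))))) (.node 4 (.node 2 (.node 1 (.leaf (nat_lit 0x2408057a51)) (.leaf (nat_lit 0x2407057a61))) (.node 1 (.leaf (nat_lit 0x2408057a81)) (.leaf (nat_lit 0x2407057a91)))) (.node 2 (.node 1 (.leaf (nat_lit 0x2403057aa1)) (.leaf (nat_lit 0x2403057ab1))) (.node 1 (.leaf (nat_lit 0x2402057ac1)) (.leaf (nat_lit 0x2407057ad1)))))) (.node 8 (.node 4 (.node 2 (.node 1 (.leaf (nat_lit 0x2403057ae1)) (.leaf (nat_lit 0x2402057af1))) (.node 1 (.leaf (nat_lit 0x2402057b01)) (.leaf (nat_lit 0x2404057b01)))) (.node 2 (.node 1 (.leaf (nat_lit 0x2408057b21)) (.leaf (nat_lit 0x2407057b31))) (.node 1 (.leaf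 (nat_lit 0x2607057b51)) (.leaf (nat_lit 0x2603057b61))))) (.node 4 (.node 2 (.node 1 (.leaf (nat_lit 0x2408057b71)) (.leaf (nat_lit 0x2407057b81))) (.node 1 (.leaf (nat_lit 0x2408057b91)) (.leaf (nat_lit 0x2407057ba1)))) (.node 2 (.node 1 (.leaf (nat_lit 0x2403057bb1)) (.leaf (nat_lit 0x2607057bc1))) (.node 1 (.leaf (nat_lit 0x2603057bd1)) (.leaf (nat_lit 0x2602057be1))))))) (.node 16 (.node 8 (.node 4 (.node 2 (.node 1 (.leaf (nat_lit 0x2408057bf1)) (.leaf (nat_lit 0x2407057c01))) (.node 1 (.leaf (nat_lit 0x2403057c11)) (.leaf (nat_lit 0x2408057c21)))) (.node 2 (.node 1 (.leaf (nat_lit 0x2407057c31)) (.leaf (nat_lit 0x2407057c41))) (.node 1 (.leaf (nat_lit 0x2403057c51)) (.leaf (nat_lit 0x2403057c61))))) (.node 4 (.node 2 (.node 1 (.leaf (nat_lit 0x2402057c71)) (.leaf (nat_lit 0x2402057c81))) (.node 1 (.leaf (nat_lit 0x2404057c81)) (.leaf (nat_lit 0x2401057c91)))) (.node 2 (.node 1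 (.leaf (nat_lit 0x2407057ca1)) (.leaf (nat_lit 0x2403057cb1))) (.node 1 (.leaf (nat_lit 0x2402057cc1)) (.leaf (nat_lit 0x2603057cd1)))))) (.node 8 (.node 4 (.node 2 (.node 1 (.leaf (nat_lit 0x2405057cf1)) (.leaf (nat_lit 0x2605060861))) (.node 1 (.leaf (nat_lit 0x2402057d01)) (.leaf (nat_lit 0x2404057d01)))) (.node 2 (.node 1 (.leaf (nat_lit 0x2404057d21)) (.leaf (nat_lit 0x2406057d51))) (.node 1 (.leaf (nat_lit 0x260305f701)) (.leaf (nat_lit 0x240505a5c1))))) (.node 4 (.node 2 (.node 1 (.leaf (nat_lit 0x2403057d71)) (.leaf (nat_lit 0x2407057d91))) (.node 1 (.leaf (nat_lit 0x2407057da1)) (.leaf (nat_lit 0x2607057dd1)))) (.node 2 (.node 1 (.leaf (nat_lit 0x2408057df1)) (.leaf (nat_lit 0x2407057e01))) (.node 1 (.leaf (nat_lit 0x2408057e11)) (.leaf (nat_lit 0x2407057e21))))))))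

noncomputable def oT186 : Tree :=
  .node 64 (.node 32 (.node 16 (.node 8 (.node 4 (.node 2 (.node 1 (.leaf (nat_lit 0x2403057e31)) (.leaf (nat_lit 0x2408057e41))) (.node 1 (.leaf (nat_lit 0x2607057e51)) (.leaf (nat_lit 0x2603057e61)))) (.node 2 (.node 1 (.leaf (nat_lit 0x2408057e71)) (.leaf (nat_lit 0x2407057e81))) (.node 1 (.leaf (nat_lit 0x2408057e91)) (.leaf (nat_lit 0x2408057ea1))))) (.node 4 (.node 2 (.node 1 (.leaf (nat_lit 0x2407057eb1)) (.leaf (nat_lit 0x2403057ec1))) (.node 1 (.leaf (nat_lit 0x2408057ed1)) (.leaf (nat_lit 0x2408057ee1)))) (.node 2 (.node 1 (.leaf (nat_lit 0x2407057ef1)) (.leaf (nat_lit 0x2408057f01))) (.node 1 (.leaf (nat_lit 0x2407057f11)) (.leaf (nat_lit 0x2403057f21)))))) (.node 8 (.node 4 (.node 2 (.node 1 (.leaf (nat_lit 0x2404057f31)) (.leaf (nat_lit 0x2407057f41))) (.node 1 (.leaf (nat_lit 0x2403057f51)) (.leaf (nat_lit 0x2402057f61)))) (.node 2 (.node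 1 (.leaf (nat_lit 0x2407057f71)) (.leaf (nat_lit 0x2408057f91))) (.node 1 (.leaf (nat_lit 0x2607057fa1)) (.leaf (nat_lit 0x2603057fb1))))) (.node 4 (.node 2 (.node 1 (.leaf (nat_lit 0x2407057fc1)) (.leaf (nat_lit 0x2408057fe1))) (.node 1 (.leaf (nat_lit 0x2407057ff1)) (.leaf (nat_lit 0x2403058001)))) (.node 2 (.node 1 (.leaf (nat_lit 0x2408058011)) (.leaf (nat_lit 0x2607058021))) (.node 1 (.leaf (nat_lit 0x2603058031)) (.leaf (nat_lit 0x2602058041))))))) (.node 16 (.node 8 (.node 4 (.node 2 (.node 1 (.leaf (nat_lit 0x2407058051)) (.leaf (nat_lit 0x2403058061))) (.node 1 (.leaf (nat_lit 0x2408058071)) (.leaf (nat_lit 0x2407058081)))) (.node 2 (.node 1 (.leaf (nat_lit 0x2407058091)) (.leaf (nat_lit 0x24030580a1))) (.node 1 (.leaf (nat_lit 0x24070580b1)) (.leaf (nat_lit 0x24030580c1))))) (.node 4 (.node 2 (.node 1 (.leaf (nat_lit 0x24020580d1)) (.leaf (nat_lit 0x26070580e1))) (.node 1 (.leaf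 (nat_lit 0x24030580f1)) (.leaf (nat_lit 0x2402058101)))) (.node 2 (.node 1 (.leaf (nat_lit 0x2404058101)) (.leaf (nat_lit 0x2401058111))) (.node 1 (.leaf (nat_lit 0x2407058121)) (.leaf (nat_lit 0x2403058131)))))) (.node 8 (.node 4 (.node 2 (.node 1 (.leaf (nat_lit 0x2407058151)) (.leaf (nat_lit 0x2603058161))) (.node 1 (.leaf (nat_lit 0x2405058181)) (.leaf (nat_lit 0x2605061331)))) (.node 2 (.node 1 (.leaf (nat_lit 0x24030587a1)) (.leaf (nat_lit 0x2407058191))) (.node 1 (.leaf (nat_lit 0x24040581b1)) (.leaf (nat_lit 0x2405058221))))) (.node 4 (.node 2 (.node 1 (.leaf (nat_lit 0x24020581d1)) (.leaf (nat_lit 0x24040581d1))) (.node 1 (.leaf (nat_lit 0x24010581e1)) (.leaf (nat_lit 0x24040581e1)))) (.node 2 (.node 1 (.leaf (nat_lit 0x24040591d1)) (.leaf (nat_lit 0x2607058241))) (.node 1 (.leaf (nat_lit 0x2607058261)) (.leaf (nat_lit 0x2408058271)))))))) (.node 32 (.node 16 (.node 8 (.node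 4 (.node 2 (.node 1 (.leaf (nat_lit 0x2607058281)) (.leaf (nat_lit 0x2603058291))) (.node 1 (.leaf (nat_lit 0x2407058311)) (.leaf (nat_lit 0x26070582b1)))) (.node 2 (.node 1 (.leaf (nat_lit 0x28030582c1)) (.leaf (nat_lit 0x28020582d1))) (.node 1 (.leaf (nat_lit 0x24070582e1)) (.leaf (nat_lit 0x2408058301))))) (.node 4 (.node 2 (.node 1 (.leaf (nat_lit 0x2407058321)) (.leaf (nat_lit 0x2603058331))) (.node 1 (.leaf (nat_lit 0x2408058351)) (.leaf (nat_lit 0x2408058361)))) (.node 2 (.node 1 (.leaf (nat_lit 0x2607058371)) (.leaf (nat_lit 0x2407058381))) (.node 1 (.leaf (nat_lit 0x2603058391)) (.leaf (nat_lit 0x24080583a1)))))) (.node 8 (.node 4 (.node 2 (.node 1 (.leaf (nat_lit 0x26070583b1)) (.leaf (nat_lit 0x26030583c1))) (.node 1 (.leaf (nat_lit 0x26020583d1)) (.leaf (nat_lit 0x26030583e1)))) (.node 2 (.node 1 (.leaf (nat_lit 0x26070583f1)) (.leaf (nat_lit 0x2603058401))) (.node 1 (.leaf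 (nat_lit 0x2602058411)) (.leaf (nat_lit 0x2604058411))))) (.node 4 (.node 2 (.node 1 (.leaf (nat_lit 0x2801058421)) (.leaf (nat_lit 0x2403058431))) (.node 1 (.leaf (nat_lit 0x2408058441)) (.leaf (nat_lit 0x2407058451)))) (.node 2 (.node 1 (.leaf (nat_lit 0x2403058461)) (.leaf (nat_lit 0x2407058471))) (.node 1 (.leaf (nat_lit 0x2403058481)) (.leaf (nat_lit 0x2402058491))))))) (.node 16 (.node 8 (.node 4 (.node 2 (.node 1 (.leaf (nat_lit 0x2404058491)) (.leaf (nat_lit 0x26080584b1))) (.node 1 (.leaf (nat_lit 0x24080584c1)) (.leaf (nat_lit 0x24070584d1)))) (.node 2 (.node 1 (.leaf (nat_lit 0x24070584e1)) (.leaf (nat_lit 0x24030584f1))) (.node 1 (.leaf (nat_lit 0x2403058501)) (.leaf (nat_lit 0x2402058511))))) (.node 4 (.node 2 (.node 1 (.leaf (nat_lit 0x2404058511)) (.leaf (nat_lit 0x2607058521))) (.node 1 (.leaf (nat_lit 0x2403058531)) (.leaf (nat_lit 0x2402058541)))) (.node 2 (.node 1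 (.leaf (nat_lit 0x2404058541)) (.leaf (nat_lit 0x2401058551))) (.node 1 (.leaf (nat_lit 0x2404058551)) (.leaf (nat_lit 0x2405058561)))))) (.node 8 (.node 4 (.node 2 (.node 1 (.leaf (nat_lit 0x260505a4b1)) (.leaf (nat_lit 0x2402058591))) (.node 1 (.leaf (nat_lit 0x2404058591)) (.leaf (nat_lit 0x24010585a1)))) (.node 2 (.node 1 (.leaf (nat_lit 0x24040585a1)) (.leaf (nat_lit 0x24000585c1))) (.node 1 (.leaf (nat_lit 0x24030585d1)) (.leaf (nat_lit 0x24070585f1))))) (.node 4 (.node 2 (.node 1 (.leaf (nat_lit 0x2603058601)) (.leaf (nat_lit 0x2405058621))) (.node 1 (.leaf (nat_lit 0x2605060531)) (.leaf (nat_lit 0x2406058711)))) (.node 2 (.node 1 (.leaf (nat_lit 0x2406058661)) (.leaf (nat_lit 0x2604058651))) (.node 1 (.leaf (nat_lit 0x2405058681)) (.leaf (nat_lit 0x240505a031))))))))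

noncomputable def oT187 : Tree :=
  .node 64 (.node 32 (.node 16 (.node 8 (.node 4 (.node 2 (.node 1 (.leaf (nat_lit 0x240405a5b1)) (.leaf (nat_lit 0x2407058691))) (.node 1 (.leaf (nat_lit 0x24040586b1)) (.leaf (nat_lit 0x26030586c1)))) (.node 2 (.node 1 (.leaf (nat_lit 0x24040586d1)) (.leaf (nat_lit 0x24040586e1))) (.node 1 (.leaf (nat_lit 0x24050586f1)) (.leaf (nat_lit 0x24050587a1))))) (.node 4 (.node 2 (.node 1 (.leaf (nat_lit 0x2405059c11)) (.leaf (nat_lit 0x2404058721))) (.node 1 (.leaf (nat_lit 0x2400058741)) (.leaf (nat_lit 0x2404058741)))) (.node 2 (.node 1 (.leaf (nat_lit 0x2403058751)) (.leaf (nat_lit 0x240305a511))) (.node 1 (.leaf (nat_lit 0x2405058791)) (.leaf (nat_lit 0x2406058811)))))) (.node 8 (.node 4 (.node 2 (.node 1 (.leaf (nat_lit 0x2406058821)) (.leaf (nat_lit 0x240205a621))) (.node 1 (.leaf (nat_lit 0x24060587f1)) (.leaf (nat_lit 0x26050587d1)))) (.node 2 (.node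 1 (.leaf (nat_lit 0x2405058801)) (.leaf (nat_lit 0x240505a641))) (.node 1 (.leaf (nat_lit 0x240505a671)) (.leaf (nat_lit 0x2405059581))))) (.node 4 (.node 2 (.node 1 (.leaf (nat_lit 0x2403058831)) (.leaf (nat_lit 0x2404058841))) (.node 1 (.leaf (nat_lit 0x2403058851)) (.leaf (nat_lit 0x2407058861)))) (.node 2 (.node 1 (.leaf (nat_lit 0x2402058881)) (.leaf (nat_lit 0x2404058881))) (.node 1 (.leaf (nat_lit 0x2404058891)) (.leaf (nat_lit 0x24050588a1))))))) (.node 16 (.node 8 (.node 4 (.node 2 (.node 1 (.leaf (nat_lit 0x24050588b1)) (.leaf (nat_lit 0x24040588d1))) (.node 1 (.leaf (nat_lit 0x2403058901)) (.leaf (nat_lit 0x2402058921)))) (.node 2 (.node 1 (.leaf (nat_lit 0x2404058921)) (.leaf (nat_lit 0x2405058941))) (.node 1 (.leaf (nat_lit 0x2404058971)) (.leaf (nat_lit 0x24030589d1))))) (.node 4 (.node 2 (.node 1 (.leaf (nat_lit 0x24020589e1)) (.leaf (nat_lit 0x24030589f1))) (.node 1 (.leaf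 (nat_lit 0x2403058a01)) (.leaf (nat_lit 0x2402058a11)))) (.node 2 (.node 1 (.leaf (nat_lit 0x2402058a21)) (.leaf (nat_lit 0x2404058ac1))) (.node 1 (.leaf (nat_lit 0x2403058a41)) (.leaf (nat_lit 0x2402058a51)))))) (.node 8 (.node 4 (.node 2 (.node 1 (.leaf (nat_lit 0x2407058a61)) (.leaf (nat_lit 0x2403058a71))) (.node 1 (.leaf (nat_lit 0x2407058a81)) (.leaf (nat_lit 0x2403058a91)))) (.node 2 (.node 1 (.leaf (nat_lit 0x2407058aa1)) (.leaf (nat_lit 0x2403058ab1))) (.node 1 (.leaf (nat_lit 0x2402058ac1)) (.leaf (nat_lit 0x2403058ad1))))) (.node 4 (.node 2 (.node 1 (.leaf (nat_lit 0x2402058ae1)) (.leaf (nat_lit 0x2401058af1))) (.node 1 (.leaf (nat_lit 0x2403058b01)) (.leaf (nat_lit 0x2403058b21)))) (.node 2 (.node 1 (.leaf (nat_lit 0x2404058b31)) (.leaf (nat_lit 0x2407058b51))) (.node 1 (.leaf (nat_lit 0x2403058b61)) (.leaf (nat_lit 0x2403058b71)))))))) (.node 32 (.node 16 (.node 8 (.node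 4 (.node 2 (.node 1 (.leaf (nat_lit 0x2403058b81)) (.leaf (nat_lit 0x2402058b91))) (.node 1 (.leaf (nat_lit 0x2602058ba1)) (.leaf (nat_lit 0x2407058bb1)))) (.node 2 (.node 1 (.leaf (nat_lit 0x2403058bd1)) (.leaf (nat_lit 0x2404058be1))) (.node 1 (.leaf (nat_lit 0x2402058bf1)) (.leaf (nat_lit 0x2404058bf1))))) (.node 4 (.node 2 (.node 1 (.leaf (nat_lit 0x2401058c11)) (.leaf (nat_lit 0x240305a5d1))) (.node 1 (.leaf (nat_lit 0x2403058c71)) (.leaf (nat_lit 0x2402058c81)))) (.node 2 (.node 1 (.leaf (nat_lit 0x2407058c91)) (.leaf (nat_lit 0x2403058ca1))) (.node 1 (.leaf (nat_lit 0x2404058cb1)) (.leaf (nat_lit 0x2402058cc1)))))) (.node 8 (.node 4 (.node 2 (.node 1 (.leaf (nat_lit 0x2408058ce1)) (.leaf (nat_lit 0x2407058cf1))) (.node 1 (.leaf (nat_lit 0x2607058d01)) (.leaf (nat_lit 0x2402058f71)))) (.node 2 (.node 1 (.leaf (nat_lit 0x2607058d21)) (.leaf (nat_lit 0x2603058d31))) (.node 1 (.leaf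 (nat_lit 0x2607058d41)) (.leaf (nat_lit 0x2601058da1))))) (.node 4 (.node 2 (.node 1 (.leaf (nat_lit 0x2408058d61)) (.leaf (nat_lit 0x2607058d71))) (.node 1 (.leaf (nat_lit 0x2407058d81)) (.leaf (nat_lit 0x2603058d91)))) (.node 2 (.node 1 (.leaf (nat_lit 0x2604058da1)) (.leaf (nat_lit 0x2403058db1))) (.node 1 (.leaf (nat_lit 0x2602058dc1)) (.leaf (nat_lit 0x2407058dd1))))))) (.node 16 (.node 8 (.node 4 (.node 2 (.node 1 (.leaf (nat_lit 0x2403058de1)) (.leaf (nat_lit 0x2404058df1))) (.node 1 (.leaf (nat_lit 0x2407058e01)) (.leaf (nat_lit 0x2403058e11)))) (.node 2 (.node 1 (.leaf (nat_lit 0x2403058e21)) (.leaf (nat_lit 0x2402058e31))) (.node 1 (.leaf (nat_lit 0x2404058e31)) (.leaf (nat_lit 0x2405058e41))))) (.node 4 (.node 2 (.node 1 (.leaf (nat_lit 0x2402058e51)) (.leaf (nat_lit 0x2401058e61))) (.node 1 (.leaf (nat_lit 0x2401058ea1)) (.leaf (nat_lit 0x2403058e81)))) (.node 2 (.node 1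 (.leaf (nat_lit 0x240205a531)) (.leaf (nat_lit 0x2405058eb1))) (.node 1 (.leaf (nat_lit 0x2404058ec1)) (.leaf (nat_lit 0x2401058ef1)))))) (.node 8 (.node 4 (.node 2 (.node 1 (.leaf (nat_lit 0x2404058ef1)) (.leaf (nat_lit 0x2604058f01))) (.node 1 (.leaf (nat_lit 0x240205a6c1)) (.leaf (nat_lit 0x2404058f21)))) (.node 2 (.node 1 (.leaf (nat_lit 0x2404058fb1)) (.leaf (nat_lit 0x2403058f41))) (.node 1 (.leaf (nat_lit 0x2402058f51)) (.leaf (nat_lit 0x2404058f51))))) (.node 4 (.node 2 (.node 1 (.leaf (nat_lit 0x2405058f61)) (.leaf (nat_lit 0x2404058f71))) (.node 1 (.leaf (nat_lit 0x2405058f81)) (.leaf (nat_lit 0x240205a601)))) (.node 2 (.node 1 (.leaf (nat_lit 0x240205a691)) (.leaf (nat_lit 0x2407058fd1))) (.node 1 (.leaf (nat_lit 0x2407058fe1)) (.leaf (nat_lit 0x2403058ff1))))))))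

noncomputable def oT188 : Tree :=
  .node 64 (.node 32 (.node 16 (.node 8 (.node 4 (.node 2 (.node 1 (.leaf (nat_lit 0x2407059001)) (.leaf (nat_lit 0x2403059011))) (.node 1 (.leaf (nat_lit 0x2404059021)) (.leaf (nat_lit 0x2402059031)))) (.node 2 (.node 1 (.leaf (nat_lit 0x2408059041)) (.leaf (nat_lit 0x2407059051))) (.node 1 (.leaf (nat_lit 0x2402059601)) (.leaf (nat_lit 0x2403059071))))) (.node 4 (.node 2 (.node 1 (.leaf (nat_lit 0x2408059081)) (.leaf (nat_lit 0x2407059091))) (.node 1 (.leaf (nat_lit 0x2402059c01)) (.leaf (nat_lit 0x24080590b1)))) (.node 2 (.node 1 (.leaf (nat_lit 0x24070590c1)) (.leaf (nat_lit 0x24030590d1))) (.node 1 (.leaf (nat_lit 0x24040590e1)) (.leaf (nat_lit 0x24020590f1)))))) (.node 8 (.node 4 (.node 2 (.node 1 (.leaf (nat_lit 0x2407059101)) (.leaf (nat_lit 0x2407059111))) (.node 1 (.leaf (nat_lit 0x2403059121)) (.leaf (nat_lit 0x2404059131)))) (.node 2 (.node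 1 (.leaf (nat_lit 0x2407059141)) (.leaf (nat_lit 0x2407059151))) (.node 1 (.leaf (nat_lit 0x2403059161)) (.leaf (nat_lit 0x2403059171))))) (.node 4 (.node 2 (.node 1 (.leaf (nat_lit 0x2402059181)) (.leaf (nat_lit 0x2404059181))) (.node 1 (.leaf (nat_lit 0x24030591a1)) (.leaf (nat_lit 0x24020591b1)))) (.node 2 (.node 1 (.leaf (nat_lit 0x24010591c1)) (.leaf (nat_lit 0x26070591f1))) (.node 1 (.leaf (nat_lit 0x2603059201)) (.leaf (nat_lit 0x2404059211))))))) (.node 16 (.node 8 (.node 4 (.node 2 (.node 1 (.leaf (nat_lit 0x2603059221)) (.leaf (nat_lit 0x2604062481))) (.node 1 (.leaf (nat_lit 0x2407059241)) (.leaf (nat_lit 0x2403059251)))) (.node 2 (.node 1 (.leaf (nat_lit 0x2404059261)) (.leaf (nat_lit 0x2408059271))) (.node 1 (.leaf (nat_lit 0x2407059281)) (.leaf (nat_lit 0x2607059291))))) (.node 4 (.node 2 (.node 1 (.leaf (nat_lit 0x26030592a1)) (.leaf (nat_lit 0x24030592b1))) (.node 1 (.leaf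 (nat_lit 0x26020592c1)) (.leaf (nat_lit 0x26030592d1)))) (.node 2 (.node 1 (.leaf (nat_lit 0x26050592d1)) (.leaf (nat_lit 0x24020592e1))) (.node 1 (.leaf (nat_lit 0x26010592f1)) (.leaf (nat_lit 0x2407059301)))))) (.node 8 (.node 4 (.node 2 (.node 1 (.leaf (nat_lit 0x2403059311)) (.leaf (nat_lit 0x2407059321))) (.node 1 (.leaf (nat_lit 0x2407059331)) (.leaf (nat_lit 0x2403059341)))) (.node 2 (.node 1 (.leaf (nat_lit 0x2407059351)) (.leaf (nat_lit 0x2403059361))) (.node 1 (.leaf (nat_lit 0x2402059371)) (.leaf (nat_lit 0x2404059371))))) (.node 4 (.node 2 (.node 1 (.leaf (nat_lit 0x2407059391)) (.leaf (nat_lit 0x24070593a1))) (.node 1 (.leaf (nat_lit 0x24030593b1)) (.leaf (nat_lit 0x24030593c1)))) (.node 2 (.node 1 (.leaf (nat_lit 0x24020593d1)) (.leaf (nat_lit 0x24040593d1))) (.node 1 (.leaf (nat_lit 0x26070593e1)) (.leaf (nat_lit 0x24030593f1)))))))) (.node 32 (.node 16 (.node 8 (.node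 4 (.node 2 (.node 1 (.leaf (nat_lit 0x2402059401)) (.leaf (nat_lit 0x2404059401))) (.node 1 (.leaf (nat_lit 0x2401059411)) (.leaf (nat_lit 0x2404059411)))) (.node 2 (.node 1 (.leaf (nat_lit 0x2405059421)) (.leaf (nat_lit 0x260405fc71))) (.node 1 (.leaf (nat_lit 0x2402059451)) (.leaf (nat_lit 0x2401059461))))) (.node 4 (.node 2 (.node 1 (.leaf (nat_lit 0x2400059471)) (.leaf (nat_lit 0x2407059481))) (.node 1 (.leaf (nat_lit 0x2403059491)) (.leaf (nat_lit 0x24030594a1)))) (.node 2 (.node 1 (.leaf (nat_lit 0x24040594c1)) (.leaf (nat_lit 0x26060594d1))) (.node 1 (.leaf (nat_lit 0x24030594e1)) (.leaf (nat_lit 0x2404059511)))))) (.node 8 (.node 4 (.node 2 (.node 1 (.leaf (nat_lit 0x2603059521)) (.leaf (nat_lit 0x2404059531))) (.node 1 (.leaf (nat_lit 0x2405059571)) (.leaf (nat_lit 0x260205fbb1)))) (.node 2 (.node 1 (.leaf (nat_lit 0x26040595a1)) (.leaf (nat_lit 0x26050595b1))) (.node 1 (.leaf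 (nat_lit 0x26060595c1)) (.leaf (nat_lit 0x24030595d1))))) (.node 4 (.node 2 (.node 1 (.leaf (nat_lit 0x24040595e1)) (.leaf (nat_lit 0x2404059601))) (.node 1 (.leaf (nat_lit 0x2405059611)) (.leaf (nat_lit 0x2403059681)))) (.node 2 (.node 1 (.leaf (nat_lit 0x2403059691)) (.leaf (nat_lit 0x24030596a1))) (.node 1 (.leaf (nat_lit 0x24040596b1)) (.leaf (nat_lit 0x24020596c1))))))) (.node 16 (.node 8 (.node 4 (.node 2 (.node 1 (.leaf (nat_lit 0x24050596d1)) (.leaf (nat_lit 0x24040596e1))) (.node 1 (.leaf (nat_lit 0x24050596f1)) (.leaf (nat_lit 0x2408059711)))) (.node 2 (.node 1 (.leaf (nat_lit 0x2407059721)) (.leaf (nat_lit 0x2403059731))) (.node 1 (.leaf (nat_lit 0x2404059741)) (.leaf (nat_lit 0x2402059751))))) (.node 4 (.node 2 (.node 1 (.leaf (nat_lit 0x2405059761)) (.leaf (nat_lit 0x2602059771))) (.node 1 (.leaf (nat_lit 0x2408059781)) (.leaf (nat_lit 0x2407059791)))) (.node 2 (.node 1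 (.leaf (nat_lit 0x24070597a1)) (.leaf (nat_lit 0x24030597b1))) (.node 1 (.leaf (nat_lit 0x24030597c1)) (.leaf (nat_lit 0x24020597d1)))))) (.node 8 (.node 4 (.node 2 (.node 1 (.leaf (nat_lit 0x24040597d1)) (.leaf (nat_lit 0x24050597e1))) (.node 1 (.leaf (nat_lit 0x24020597f1)) (.leaf (nat_lit 0x2401059801)))) (.node 2 (.node 1 (.leaf (nat_lit 0x2404059811)) (.leaf (nat_lit 0x2405059821))) (.node 1 (.leaf (nat_lit 0x2406059831)) (.leaf (nat_lit 0x2403059851))))) (.node 4 (.node 2 (.node 1 (.leaf (nat_lit 0x2404059861)) (.leaf (nat_lit 0x2405059871))) (.node 1 (.leaf (nat_lit 0x2406059881)) (.leaf (nat_lit 0x24070598a1)))) (.node 2 (.node 1 (.leaf (nat_lit 0x24030598b1)) (.leaf (nat_lit 0x24040598c1))) (.node 1 (.leaf (nat_lit 0x24020598d1)) (.leaf (nat_lit 0x26030598e1))))))))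

noncomputable def oT189 : Tree :=
  .node 64 (.node 32 (.node 16 (.node 8 (.node 4 (.node 2 (.node 1 (.leaf (nat_lit 0x26020598f1)) (.leaf (nat_lit 0x2402059901))) (.node 1 (.leaf (nat_lit 0x2404059901)) (.leaf (nat_lit 0x2405059911)))) (.node 2 (.node 1 (.leaf (nat_lit 0x2401059921)) (.leaf (nat_lit 0x2403059951))) (.node 1 (.leaf (nat_lit 0x2404059961)) (.leaf (nat_lit 0x2407059971))))) (.node 4 (.node 2 (.node 1 (.leaf (nat_lit 0x2403059981)) (.leaf (nat_lit 0x2402059991))) (.node 1 (.leaf (nat_lit 0x2404059991)) (.leaf (nat_lit 0x24050599a1)))) (.node 2 (.node 1 (.leaf (nat_lit 0x24010599b1)) (.leaf (nat_lit 0x24050599c1))) (.node 1 (.leaf (nat_lit 0x26030599e1)) (.leaf (nat_lit 0x24040599f1)))))) (.node 8 (.node 4 (.node 2 (.node 1 (.leaf (nat_lit 0x2603059a01)) (.leaf (nat_lit 0x2602059a11))) (.node 1 (.leaf (nat_lit 0x2603059a21)) (.leaf (nat_lit 0x2604059a31)))) (.node 2 (.node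 1 (.leaf (nat_lit 0x2602059a41)) (.leaf (nat_lit 0x2604059a41))) (.node 1 (.leaf (nat_lit 0x2601059a61)) (.leaf (nat_lit 0x2403059a71))))) (.node 4 (.node 2 (.node 1 (.leaf (nat_lit 0x2404059a81)) (.leaf (nat_lit 0x2403059a91))) (.node 1 (.leaf (nat_lit 0x2403059aa1)) (.leaf (nat_lit 0x2402059ab1)))) (.node 2 (.node 1 (.leaf (nat_lit 0x2404059ab1)) (.leaf (nat_lit 0x2405059ac1))) (.node 1 (.leaf (nat_lit 0x2403059ad1)) (.leaf (nat_lit 0x2402059ae1))))))) (.node 16 (.node 8 (.node 4 (.node 2 (.node 1 (.leaf (nat_lit 0x2404059ae1)) (.leaf (nat_lit 0x2403059af1))) (.node 1 (.leaf (nat_lit 0x2402059b01)) (.leaf (nat_lit 0x2404059b01)))) (.node 2 (.node 1 (.leaf (nat_lit 0x2401059b11)) (.leaf (nat_lit 0x2404059b11))) (.node 1 (.leaf (nat_lit 0x2405059b21)) (.leaf (nat_lit 0x2406059b31))))) (.node 4 (.node 2 (.node 1 (.leaf (nat_lit 0x2402059b51)) (.leaf (nat_lit 0x2401059b61))) (.node 1 (.leaf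 (nat_lit 0x2400059b71)) (.leaf (nat_lit 0x2404059bd1)))) (.node 2 (.node 1 (.leaf (nat_lit 0x2404059c01)) (.leaf (nat_lit 0x2607059c31))) (.node 1 (.leaf (nat_lit 0x2603059c41)) (.leaf (nat_lit 0x2602059c51)))))) (.node 8 (.node 4 (.node 2 (.node 1 (.leaf (nat_lit 0x2401059c61)) (.leaf (nat_lit 0x2402059c71))) (.node 1 (.leaf (nat_lit 0x2603059c81)) (.leaf (nat_lit 0x2602059c91)))) (.node 2 (.node 1 (.leaf (nat_lit 0x2402059ca1)) (.leaf (nat_lit 0x2401059cb1))) (.node 1 (.leaf (nat_lit 0x2607059cc1)) (.leaf (nat_lit 0x26040615b1))))) (.node 4 (.node 2 (.node 1 (.leaf (nat_lit 0x2407059ce1)) (.leaf (nat_lit 0x2603059cf1))) (.node 1 (.leaf (nat_lit 0x2602059d01)) (.leaf (nat_lit 0x2607059d11)))) (.node 2 (.node 1 (.leaf (nat_lit 0x2603059d21)) (.leaf (nat_lit 0x2607059d31))) (.node 1 (.leaf (nat_lit 0x2603059d41)) (.leaf (nat_lit 0x2603059d51)))))))) (.node 32 (.node 16 (.node 8 (.node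 4 (.node 2 (.node 1 (.leaf (nat_lit 0x26040615e1)) (.leaf (nat_lit 0x2403059d71))) (.node 1 (.leaf (nat_lit 0x2602059d81)) (.leaf (nat_lit 0x2801059d91)))) (.node 2 (.node 1 (.leaf (nat_lit 0x2407059da1)) (.leaf (nat_lit 0x2403059db1))) (.node 1 (.leaf (nat_lit 0x2403059dc1)) (.leaf (nat_lit 0x2402059dd1))))) (.node 4 (.node 2 (.node 1 (.leaf (nat_lit 0x2403059de1)) (.leaf (nat_lit 0x2402059df1))) (.node 1 (.leaf (nat_lit 0x2402059e01)) (.leaf (nat_lit 0x2404059e01)))) (.node 2 (.node 1 (.leaf (nat_lit 0x2401059e11)) (.leaf (nat_lit 0x2401059e21))) (.node 1 (.leaf (nat_lit 0x2400059e31)) (.leaf (nat_lit 0x2603059e41)))))) (.node 8 (.node 4 (.node 2 (.node 1 (.leaf (nat_lit 0x2604059e61)) (.leaf (nat_lit 0x2404059e71))) (.node 1 (.leaf (nat_lit 0x2403059e91)) (.leaf (nat_lit 0x2404059ea1)))) (.node 2 (.node 1 (.leaf (nat_lit 0x2402059eb1)) (.leaf (nat_lit 0x2602059ec1))) (.node 1 (.leaf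 (nat_lit 0x2401059ed1)) (.leaf (nat_lit 0x2603059ee1))))) (.node 4 (.node 2 (.node 1 (.leaf (nat_lit 0x2603059ef1)) (.leaf (nat_lit 0x2602059f01))) (.node 1 (.leaf (nat_lit 0x2603059f11)) (.leaf (nat_lit 0x2602059f21)))) (.node 2 (.node 1 (.leaf (nat_lit 0x2801059f31)) (.leaf (nat_lit 0x2403059f41))) (.node 1 (.leaf (nat_lit 0x2403059f51)) (.leaf (nat_lit 0x2402059f61))))))) (.node 16 (.node 8 (.node 4 (.node 2 (.node 1 (.leaf (nat_lit 0x2403059f71)) (.leaf (nat_lit 0x2402059f81))) (.node 1 (.leaf (nat_lit 0x2401059f91)) (.leaf (nat_lit 0x2400059fa1)))) (.node 2 (.node 1 (.leaf (nat_lit 0x2407059fb1)) (.leaf (nat_lit 0x2403059fc1))) (.node 1 (.leaf (nat_lit 0x2407059fd1)) (.leaf (nat_lit 0x2403059fe1))))) (.node 4 (.node 2 (.node 1 (.leaf (nat_lit 0x2402059ff1)) (.leaf (nat_lit 0x2404059ff1))) (.node 1 (.leaf (nat_lit 0x240705a001)) (.leaf (nat_lit 0x240305a011)))) (.node 2 (.node 1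 (.leaf (nat_lit 0x240205a021)) (.leaf (nat_lit 0x240405a021))) (.node 1 (.leaf (nat_lit 0x240105a041)) (.leaf (nat_lit 0x260705a051)))))) (.node 8 (.node 4 (.node 2 (.node 1 (.leaf (nat_lit 0x2604061671)) (.leaf (nat_lit 0x260305a071))) (.node 1 (.leaf (nat_lit 0x260205a081)) (.leaf (nat_lit 0x240405a421)))) (.node 2 (.node 1 (.leaf (nat_lit 0x260305a0a1)) (.leaf (nat_lit 0x260205a0b1))) (.node 1 (.leaf (nat_lit 0x260105a0c1)) (.leaf (nat_lit 0x240305a0d1))))) (.node 4 (.node 2 (.node 1 (.leaf (nat_lit 0x240705a0e1)) (.leaf (nat_lit 0x240705a0f1))) (.node 1 (.leaf (nat_lit 0x240305a101)) (.leaf (nat_lit 0x240305a111)))) (.node 2 (.node 1 (.leaf (nat_lit 0x240205a121)) (.leaf (nat_lit 0x240805a131))) (.node 1 (.leaf (nat_lit 0x240705a141)) (.leaf (nat_lit 0x240705a151))))))))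

noncomputable def oT190 : Tree :=
  .node 64 (.node 32 (.node 16 (.node 8 (.node 4 (.node 2 (.node 1 (.leaf (nat_lit 0x240305a161)) (.leaf (nat_lit 0x240305a171))) (.node 1 (.leaf (nat_lit 0x240205a181)) (.leaf (nat_lit 0x260705a191)))) (.node 2 (.node 1 (.leaf (nat_lit 0x240305a1a1)) (.leaf (nat_lit 0x240205a1b1))) (.node 1 (.leaf (nat_lit 0x240405a1b1)) (.leaf (nat_lit 0x240105a1c1))))) (.node 4 (.node 2 (.node 1 (.leaf (nat_lit 0x260405fd01)) (.leaf (nat_lit 0x240205a1e1))) (.node 1 (.leaf (nat_lit 0x240105a1f1)) (.leaf (nat_lit 0x240005a201)))) (.node 2 (.node 1 (.leaf (nat_lit 0x240405a271)) (.leaf (nat_lit 0x240205a221))) (.node 1 (.leaf (nat_lit 0x240405a221)) (.leaf (nat_lit 0x240205a6d1)))))) (.node 8 (.node 4 (.node 2 (.node 1 (.leaf (nat_lit 0x240405a251)) (.leaf (nat_lit 0x260305a281))) (.node 1 (.leaf (nat_lit 0x2604061f01)) (.leaf (nat_lit 0x260305a2a1)))) (.node 2 (.node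 1 (.leaf (nat_lit 0x280205a2b1)) (.leaf (nat_lit 0x280405a2b1))) (.node 1 (.leaf (nat_lit 0x2803063a81)) (.leaf (nat_lit 0x240505a2e1))))) (.node 4 (.node 2 (.node 1 (.leaf (nat_lit 0x240405a431)) (.leaf (nat_lit 0x240405a3d1))) (.node 1 (.leaf (nat_lit 0x260205a301)) (.leaf (nat_lit 0x260405a301)))) (.node 2 (.node 1 (.leaf (nat_lit 0x2604063b61)) (.leaf (nat_lit 0x240205a321))) (.node 1 (.leaf (nat_lit 0x240305a331)) (.leaf (nat_lit 0x240705a3a1))))))) (.node 16 (.node 8 (.node 4 (.node 2 (.node 1 (.leaf (nat_lit 0x260305a341)) (.leaf (nat_lit 0x260205a351))) (.node 1 (.leaf (nat_lit 0x260105a361)) (.leaf (nat_lit 0x280005a371)))) (.node 2 (.node 1 (.leaf (nat_lit 0x240305a381)) (.leaf (nat_lit 0x240205a391))) (.node 1 (.leaf (nat_lit 0x240305a3b1)) (.leaf (nat_lit 0x240205a3c1))))) (.node 4 (.node 2 (.node 1 (.leaf (nat_lit 0x240405a3c1)) (.leaf (nat_lit 0x240105a3d1))) (.node 1 (.leaf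 (nat_lit 0x240705a3e1)) (.leaf (nat_lit 0x240305a3f1)))) (.node 2 (.node 1 (.leaf (nat_lit 0x240305a401)) (.leaf (nat_lit 0x240205a411))) (.node 1 (.leaf (nat_lit 0x240405a411)) (.leaf (nat_lit 0x240205a421)))))) (.node 8 (.node 4 (.node 2 (.node 1 (.leaf (nat_lit 0x240105a431)) (.leaf (nat_lit 0x260305a441))) (.node 1 (.leaf (nat_lit 0x240205a451)) (.leaf (nat_lit 0x240405a451)))) (.node 2 (.node 1 (.leaf (nat_lit 0x240105a461)) (.leaf (nat_lit 0x240405a461))) (.node 1 (.leaf (nat_lit 0x240505a471)) (.leaf (nat_lit 0x240005a481))))) (.node 4 (.node 2 (.node 1 (.leaf (nat_lit 0x240405a481)) (.leaf (nat_lit 0x240505a491))) (.node 1 (.leaf (nat_lit 0x260405fd91)) (.leaf (nat_lit 0x240105a4c1)))) (.node 2 (.node 1 (.leaf (nat_lit 0x240005a4d1)) (.leaf (nat_lit 0x240505a511))) (.node 1 (.leaf (nat_lit 0x240505a6e1)) (.leaf (nat_lit 0x240405a531)))))))) (.node 32 (.node 16 (.node 8 (.node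 4 (.node 2 (.node 1 (.leaf (nat_lit 0x240305a541)) (.leaf (nat_lit 0x240405a551))) (.node 1 (.leaf (nat_lit 0x240405a561)) (.leaf (nat_lit 0x240405a581)))) (.node 2 (.node 1 (.leaf (nat_lit 0x260305a5e1)) (.leaf (nat_lit 0x240405a601))) (.node 1 (.leaf (nat_lit 0x240305a611)) (.leaf (nat_lit 0x240405a621))))) (.node 4 (.node 2 (.node 1 (.leaf (nat_lit 0x240405a631)) (.leaf (nat_lit 0x240305a651))) (.node 1 (.leaf (nat_lit 0x240405a661)) (.leaf (nat_lit 0x240305a681)))) (.node 2 (.node 1 (.leaf (nat_lit 0x240405a691)) (.leaf (nat_lit 0x240305a6b1))) (.node 1 (.leaf (nat_lit 0x240405a6c1)) (.leaf (nat_lit 0x240405a6d1)))))) (.node 8 (.node 4 (.node 2 (.node 1 (.leaf (nat_lit 0x240505a6f1)) (.leaf (nat_lit 0x240505a701))) (.node 1 (.leaf (nat_lit 0x250705a791)) (.leaf (nat_lit 0x250305a7a1)))) (.node 2 (.node 1 (.leaf (nat_lit 0x250305a7b1)) (.leaf (nat_lit 0x250705a7d1))) (.node 1 (.leaf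 (nat_lit 0x250405a941)) (.leaf (nat_lit 0x250705a7f1))))) (.node 4 (.node 2 (.node 1 (.leaf (nat_lit 0x250305a801)) (.leaf (nat_lit 0x250305a811))) (.node 1 (.leaf (nat_lit 0x250205a821)) (.leaf (nat_lit 0x250705a851)))) (.node 2 (.node 1 (.leaf (nat_lit 0x250205a881)) (.leaf (nat_lit 0x250405a881))) (.node 1 (.leaf (nat_lit 0x250405a8a1)) (.leaf (nat_lit 0x250305a8c1))))))) (.node 16 (.node 8 (.node 4 (.node 2 (.node 1 (.leaf (nat_lit 0x250205a8d1)) (.leaf (nat_lit 0x250305a8e1))) (.node 1 (.leaf (nat_lit 0x250305a8f1)) (.leaf (nat_lit 0x250205a901)))) (.node 2 (.node 1 (.leaf (nat_lit 0x250305a911)) (.leaf (nat_lit 0x250405a921))) (.node 1 (.leaf (nat_lit 0x250205a941)) (.leaf (nat_lit 0x250205a951))))) (.node 4 (.node 2 (.node 1 (.leaf (nat_lit 0x250705a961)) (.leaf (nat_lit 0x250305a971))) (.node 1 (.leaf (nat_lit 0x250205a981)) (.leaf (nat_lit 0x250405a981)))) (.node 2 (.node 1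 (.leaf (nat_lit 0x250105a991)) (.leaf (nat_lit 0x250405a9b1))) (.node 1 (.leaf (nat_lit 0x250105a9c1)) (.leaf (nat_lit 0x250405a9c1)))))) (.node 8 (.node 4 (.node 2 (.node 1 (.leaf (nat_lit 0x250405aa01)) (.leaf (nat_lit 0x250305aa11))) (.node 1 (.leaf (nat_lit 0x250805aa21)) (.leaf (nat_lit 0x250705aa31)))) (.node 2 (.node 1 (.leaf (nat_lit 0x250805aa51)) (.leaf (nat_lit 0x250705aa61))) (.node 1 (.leaf (nat_lit 0x250805aa71)) (.leaf (nat_lit 0x250805aa81))))) (.node 4 (.node 2 (.node 1 (.leaf (nat_lit 0x250705aa91)) (.leaf (nat_lit 0x250305aaa1))) (.node 1 (.leaf (nat_lit 0x250705aab1)) (.leaf (nat_lit 0x250305aac1)))) (.node 2 (.node 1 (.leaf (nat_lit 0x250705aad1)) (.leaf (nat_lit 0x250805aaf1))) (.node 1 (.leaf (nat_lit 0x250705ab01)) (.leaf (nat_lit 0x250205b371))))))))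

noncomputable def oT191 : Tree :=
  .node 64 (.node 32 (.node 16 (.node 8 (.node 4 (.node 2 (.node 1 (.leaf (nat_lit 0x250805ab21)) (.leaf (nat_lit 0x250705ab31))) (.node 1 (.leaf (nat_lit 0x270405b3a1)) (.leaf (nat_lit 0x250805ab51)))) (.node 2 (.node 1 (.leaf (nat_lit 0x250705ab61)) (.leaf (nat_lit 0x250305ab71))) (.node 1 (.leaf (nat_lit 0x250405ab81)) (.leaf (nat_lit 0x250305ab91))))) (.node 4 (.node 2 (.node 1 (.leaf (nat_lit 0x250205aba1)) (.leaf (nat_lit 0x250405abb1))) (.node 1 (.leaf (nat_lit 0x250705abc1)) (.leaf (nat_lit 0x250305abd1)))) (.node 2 (.node 1 (.leaf (nat_lit 0x250405b4c1)) (.leaf (nat_lit 0x250505abf1))) (.node 1 (.leaf (nat_lit 0x250205ac01)) (.leaf (nat_lit 0x250405ac01)))))) (.node 8 (.node 4 (.node 2 (.node 1 (.leaf (nat_lit 0x250305ac21)) (.leaf (nat_lit 0x250705ac31))) (.node 1 (.leaf (nat_lit 0x250305ac41)) (.leaf (nat_lit 0x250405ac51)))) (.node 2 (.node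 1 (.leaf (nat_lit 0x250705ac61)) (.leaf (nat_lit 0x250305ac71))) (.node 1 (.leaf (nat_lit 0x270405b601)) (.leaf (nat_lit 0x250805ac91))))) (.node 4 (.node 2 (.node 1 (.leaf (nat_lit 0x250705aca1)) (.leaf (nat_lit 0x250305acb1))) (.node 1 (.leaf (nat_lit 0x250405acc1)) (.leaf (nat_lit 0x250805acd1)))) (.node 2 (.node 1 (.leaf (nat_lit 0x250705ace1)) (.leaf (nat_lit 0x250705acf1))) (.node 1 (.leaf (nat_lit 0x250305ad01)) (.leaf (nat_lit 0x250305ad11))))))) (.node 16 (.node 8 (.node 4 (.node 2 (.node 1 (.leaf (nat_lit 0x250205ad21)) (.leaf (nat_lit 0x250405ad21))) (.node 1 (.leaf (nat_lit 0x250505ad31)) (.leaf (nat_lit 0x250205ad41)))) (.node 2 (.node 1 (.leaf (nat_lit 0x250405ad41)) (.leaf (nat_lit 0x250105ad51))) (.node 1 (.leaf (nat_lit 0x250305ad61)) (.leaf (nat_lit 0x250305adb1))))) (.node 4 (.node 2 (.node 1 (.leaf (nat_lit 0x250305ad81)) (.leaf (nat_lit 0x250505ad81))) (.node 1 (.leaf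 (nat_lit 0x250305ad91)) (.leaf (nat_lit 0x250205ada1)))) (.node 2 (.node 1 (.leaf (nat_lit 0x250505b7c1)) (.leaf (nat_lit 0x250205adc1))) (.node 1 (.leaf (nat_lit 0x250405adc1)) (.leaf (nat_lit 0x250505ade1)))))) (.node 8 (.node 4 (.node 2 (.node 1 (.leaf (nat_lit 0x250605adf1)) (.leaf (nat_lit 0x250405ae01))) (.node 1 (.leaf (nat_lit 0x250205ae31)) (.leaf (nat_lit 0x250405ae31)))) (.node 2 (.node 1 (.leaf (nat_lit 0x250505b881)) (.leaf (nat_lit 0x250405ae61))) (.node 1 (.leaf (nat_lit 0x250305ae71)) (.leaf (nat_lit 0x250505ae81))))) (.node 4 (.node 2 (.node 1 (.leaf (nat_lit 0x250705ae91)) (.leaf (nat_lit 0x250305aea1))) (.node 1 (.leaf (nat_lit 0x250405aeb1)) (.leaf (nat_lit 0x250305aed1)))) (.node 2 (.node 1 (.leaf (nat_lit 0x250405aee1)) (.leaf (nat_lit 0x250505aef1))) (.node 1 (.leaf (nat_lit 0x250205b9a1)) (.leaf (nat_lit 0x250705af21)))))))) (.node 32 (.node 16 (.node 8 (.node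 4 (.node 2 (.node 1 (.leaf (nat_lit 0x250305af41)) (.leaf (nat_lit 0x250805af51))) (.node 1 (.leaf (nat_lit 0x250705af61)) (.leaf (nat_lit 0x250805af71)))) (.node 2 (.node 1 (.leaf (nat_lit 0x250705af81)) (.leaf (nat_lit 0x250705afa1))) (.node 1 (.leaf (nat_lit 0x250305afb1)) (.leaf (nat_lit 0x250305afc1))))) (.node 4 (.node 2 (.node 1 (.leaf (nat_lit 0x250705afd1)) (.leaf (nat_lit 0x250305afe1))) (.node 1 (.leaf (nat_lit 0x250405aff1)) (.leaf (nat_lit 0x250305b001)))) (.node 2 (.node 1 (.leaf (nat_lit 0x250205b011)) (.leaf (nat_lit 0x250405b031))) (.node 1 (.leaf (nat_lit 0x250705b051)) (.leaf (nat_lit 0x250305b061)))))) (.node 8 (.node 4 (.node 2 (.node 1 (.leaf (nat_lit 0x250305b071)) (.leaf (nat_lit 0x250705b081))) (.node 1 (.leaf (nat_lit 0x250305b091)) (.leaf (nat_lit 0x250405b0a1)))) (.node 2 (.node 1 (.leaf (nat_lit 0x250305b0b1)) (.leaf (nat_lit 0x250205b0c1))) (.node 1 (.leaf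 (nat_lit 0x250405b0d1)) (.leaf (nat_lit 0x250705b0e1))))) (.node 4 (.node 2 (.node 1 (.leaf (nat_lit 0x250305b0f1)) (.leaf (nat_lit 0x250205b101))) (.node 1 (.leaf (nat_lit 0x250205b111)) (.leaf (nat_lit 0x250405b111)))) (.node 2 (.node 1 (.leaf (nat_lit 0x250705b131)) (.leaf (nat_lit 0x250305b141))) (.node 1 (.leaf (nat_lit 0x250205b151)) (.leaf (nat_lit 0x250405b151))))))) (.node 16 (.node 8 (.node 4 (.node 2 (.node 1 (.leaf (nat_lit 0x250105b161)) (.leaf (nat_lit 0x250305b171))) (.node 1 (.leaf (nat_lit 0x250405b181)) (.leaf (nat_lit 0x250405b1b1)))) (.node 2 (.node 1 (.leaf (nat_lit 0x250805b1d1)) (.leaf (nat_lit 0x250705b1e1))) (.node 1 (.leaf (nat_lit 0x250805b1f1)) (.leaf (nat_lit 0x250305da61))))) (.node 4 (.node 2 (.node 1 (.leaf (nat_lit 0x270705b211)) (.leaf (nat_lit 0x250205f4d1))) (.node 1 (.leaf (nat_lit 0x250805b231)) (.leaf (nat_lit 0x250705b241)))) (.node 2 (.node 1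 (.leaf (nat_lit 0x270305b251)) (.leaf (nat_lit 0x250805b261))) (.node 1 (.leaf (nat_lit 0x250705b271)) (.leaf (nat_lit 0x250705b281)))))) (.node 8 (.node 4 (.node 2 (.node 1 (.leaf (nat_lit 0x250305b291)) (.leaf (nat_lit 0x250705b2a1))) (.node 1 (.leaf (nat_lit 0x250705b2b1)) (.leaf (nat_lit 0x250305b2c1)))) (.node 2 (.node 1 (.leaf (nat_lit 0x250405b2d1)) (.leaf (nat_lit 0x250305b2e1))) (.node 1 (.leaf (nat_lit 0x250205b2f1)) (.leaf (nat_lit 0x250805b301))))) (.node 4 (.node 2 (.node 1 (.leaf (nat_lit 0x270705b311)) (.leaf (nat_lit 0x270305b321))) (.node 1 (.leaf (nat_lit 0x250705b331)) (.leaf (nat_lit 0x250305b341)))) (.node 2 (.node 1 (.leaf (nat_lit 0x250505d9d1)) (.leaf (nat_lit 0x250305b361))) (.node 1 (.leaf (nat_lit 0x250405b371)) (.leaf (nat_lit 0x250705b381))))))))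

noncomputable def oT192 : Tree :=
  .node 64 (.node 32 (.node 16 (.node 8 (.node 4 (.node 2 (.node 1 (.leaf (nat_lit 0x250305b391)) (.leaf (nat_lit 0x270205b3a1))) (.node 1 (.leaf (nat_lit 0x250705b3b1)) (.leaf (nat_lit 0x250305b3c1)))) (.node 2 (.node 1 (.leaf (nat_lit 0x250405b3d1)) (.leaf (nat_lit 0x250705b3e1))) (.node 1 (.leaf (nat_lit 0x250705b3f1)) (.leaf (nat_lit 0x250305b401))))) (.node 4 (.node 2 (.node 1 (.leaf (nat_lit 0x250305b411)) (.leaf (nat_lit 0x250205b421))) (.node 1 (.leaf (nat_lit 0x250405b421)) (.leaf (nat_lit 0x250505b431)))) (.node 2 (.node 1 (.leaf (nat_lit 0x250705b441)) (.leaf (nat_lit 0x250305b451))) (.node 1 (.leaf (nat_lit 0x250205b461)) (.leaf (nat_lit 0x250405b461)))))) (.node 8 (.node 4 (.node 2 (.node 1 (.leaf (nat_lit 0x250105b471)) (.leaf (nat_lit 0x250305dfd1))) (.node 1 (.leaf (nat_lit 0x250305b4a1)) (.leaf (nat_lit 0x250305d811)))) (.node 2 (.node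 1 (.leaf (nat_lit 0x250405b4b1)) (.leaf (nat_lit 0x250305b4e1))) (.node 1 (.leaf (nat_lit 0x250405b4f1)) (.leaf (nat_lit 0x250405b501))))) (.node 4 (.node 2 (.node 1 (.leaf (nat_lit 0x250805b531)) (.leaf (nat_lit 0x250705b541))) (.node 1 (.leaf (nat_lit 0x270305b551)) (.leaf (nat_lit 0x270205b561)))) (.node 2 (.node 1 (.leaf (nat_lit 0x250705b571)) (.leaf (nat_lit 0x250305b581))) (.node 1 (.leaf (nat_lit 0x250305b591)) (.leaf (nat_lit 0x250405b5a1))))))) (.node 16 (.node 8 (.node 4 (.node 2 (.node 1 (.leaf (nat_lit 0x250205b5b1)) (.leaf (nat_lit 0x250405b5b1))) (.node 1 (.leaf (nat_lit 0x250505b5c1)) (.leaf (nat_lit 0x250705b5d1)))) (.node 2 (.node 1 (.leaf (nat_lit 0x250305b5e1)) (.leaf (nat_lit 0x250205b5f1))) (.node 1 (.leaf (nat_lit 0x250405b5f1)) (.leaf (nat_lit 0x270105b601))))) (.node 4 (.node 2 (.node 1 (.leaf (nat_lit 0x250705b611)) (.leaf (nat_lit 0x250305b621))) (.node 1 (.leaf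 (nat_lit 0x250405b631)) (.leaf (nat_lit 0x250705b641)))) (.node 2 (.node 1 (.leaf (nat_lit 0x250305b651)) (.leaf (nat_lit 0x250305b661))) (.node 1 (.leaf (nat_lit 0x250205b671)) (.leaf (nat_lit 0x250405b671)))))) (.node 8 (.node 4 (.node 2 (.node 1 (.leaf (nat_lit 0x250505b681)) (.leaf (nat_lit 0x250305b691))) (.node 1 (.leaf (nat_lit 0x250205b6a1)) (.leaf (nat_lit 0x250405b6a1)))) (.node 2 (.node 1 (.leaf (nat_lit 0x250705b6b1)) (.leaf (nat_lit 0x250305b6c1))) (.node 1 (.leaf (nat_lit 0x250205b6d1)) (.leaf (nat_lit 0x250105b6e1))))) (.node 4 (.node 2 (.node 1 (.leaf (nat_lit 0x250405b6e1)) (.leaf (nat_lit 0x250505b6f1))) (.node 1 (.leaf (nat_lit 0x250605b701)) (.leaf (nat_lit 0x270305b711)))) (.node 2 (.node 1 (.leaf (nat_lit 0x250205b721)) (.leaf (nat_lit 0x250405b721))) (.node 1 (.leaf (nat_lit 0x250105b731)) (.leaf (nat_lit 0x250405b731)))))))) (.node 32 (.node 16 (.node 8 (.node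 4 (.node 2 (.node 1 (.leaf (nat_lit 0x250005b751)) (.leaf (nat_lit 0x250305b901))) (.node 1 (.leaf (nat_lit 0x250305cfd1)) (.leaf (nat_lit 0x250305b791)))) (.node 2 (.node 1 (.leaf (nat_lit 0x250405b7a1)) (.leaf (nat_lit 0x250305d351))) (.node 1 (.leaf (nat_lit 0x250405b7b1)) (.leaf (nat_lit 0x250505eab1))))) (.node 4 (.node 2 (.node 1 (.leaf (nat_lit 0x250405b831)) (.leaf (nat_lit 0x250305b841))) (.node 1 (.leaf (nat_lit 0x250305be41)) (.leaf (nat_lit 0x250505b861)))) (.node 2 (.node 1 (.leaf (nat_lit 0x250405b871)) (.leaf (nat_lit 0x250505b941))) (.node 1 (.leaf (nat_lit 0x250305b8b1)) (.leaf (nat_lit 0x250305b8c1)))))) (.node 8 (.node 4 (.node 2 (.node 1 (.leaf (nat_lit 0x250705b8d1)) (.leaf (nat_lit 0x250305b921))) (.node 1 (.leaf (nat_lit 0x250405b931)) (.leaf (nat_lit 0x250405b961)))) (.node 2 (.node 1 (.leaf (nat_lit 0x250505b971)) (.leaf (nat_lit 0x250605b981))) (.node 1 (.leaf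 (nat_lit 0x250705baa1)) (.leaf (nat_lit 0x250305bac1))))) (.node 4 (.node 2 (.node 1 (.leaf (nat_lit 0x250705bad1)) (.leaf (nat_lit 0x250705baf1))) (.node 1 (.leaf (nat_lit 0x250305bb01)) (.leaf (nat_lit 0x250705bb11)))) (.node 2 (.node 1 (.leaf (nat_lit 0x250305bb21)) (.leaf (nat_lit 0x250305bb41))) (.node 1 (.leaf (nat_lit 0x250705bb61)) (.leaf (nat_lit 0x250305bb81))))))) (.node 16 (.node 8 (.node 4 (.node 2 (.node 1 (.leaf (nat_lit 0x250305bb91)) (.leaf (nat_lit 0x250405bba1))) (.node 1 (.leaf (nat_lit 0x250305bbb1)) (.leaf (nat_lit 0x250205bbc1)))) (.node 2 (.node 1 (.leaf (nat_lit 0x250405bbd1)) (.leaf (nat_lit 0x250805bc01))) (.node 1 (.leaf (nat_lit 0x250805bc11)) (.leaf (nat_lit 0x250705bc21))))) (.node 4 (.node 2 (.node 1 (.leaf (nat_lit 0x250305bc31)) (.leaf (nat_lit 0x250705bc41))) (.node 1 (.leaf (nat_lit 0x250305bc51)) (.leaf (nat_lit 0x250305bc61)))) (.node 2 (.node 1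 (.leaf (nat_lit 0x250705bc71)) (.leaf (nat_lit 0x250305bc81))) (.node 1 (.leaf (nat_lit 0x250705bc91)) (.leaf (nat_lit 0x250305bca1)))))) (.node 8 (.node 4 (.node 2 (.node 1 (.leaf (nat_lit 0x250405bcb1)) (.leaf (nat_lit 0x250705bcc1))) (.node 1 (.leaf (nat_lit 0x250305bcd1)) (.leaf (nat_lit 0x250205bce1)))) (.node 2 (.node 1 (.leaf (nat_lit 0x250505bd01)) (.leaf (nat_lit 0x250305bd11))) (.node 1 (.leaf (nat_lit 0x250205bd21)) (.leaf (nat_lit 0x250405bd21))))) (.node 4 (.node 2 (.node 1 (.leaf (nat_lit 0x250305bd51)) (.leaf (nat_lit 0x270205bd61))) (.node 1 (.leaf (nat_lit 0x250305bd71)) (.leaf (nat_lit 0x250405bd81)))) (.node 2 (.node 1 (.leaf (nat_lit 0x250305bd91)) (.leaf (nat_lit 0x250205bda1))) (.node 1 (.leaf (nat_lit 0x250405bda1)) (.leaf (nat_lit 0x250505bdb1))))))))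

noncomputable def oT193 : Tree :=
  .node 64 (.node 32 (.node 16 (.node 8 (.node 4 (.node 2 (.node 1 (.leaf (nat_lit 0x250305bdc1)) (.leaf (nat_lit 0x250205bdd1))) (.node 1 (.leaf (nat_lit 0x250405bdd1)) (.leaf (nat_lit 0x250105bde1)))) (.node 2 (.node 1 (.leaf (nat_lit 0x250405be01)) (.leaf (nat_lit 0x250405be11))) (.node 1 (.leaf (nat_lit 0x250405be61)) (.leaf (nat_lit 0x250305be91))))) (.node 4 (.node 2 (.node 1 (.leaf (nat_lit 0x250305bea1)) (.leaf (nat_lit 0x250805beb1))) (.node 1 (.leaf (nat_lit 0x250705bec1)) (.leaf (nat_lit 0x250705bee1)))) (.node 2 (.node 1 (.leaf (nat_lit 0x250305bef1)) (.leaf (nat_lit 0x250405bf01))) (.node 1 (.leaf (nat_lit 0x250205bf11)) (.leaf (nat_lit 0x250705bf21)))))) (.node 8 (.node 4 (.node 2 (.node 1 (.leaf (nat_lit 0x250805bf41)) (.leaf (nat_lit 0x250805bf51))) (.node 1 (.leaf (nat_lit 0x250705bf61)) (.leaf (nat_lit 0x250305bf71)))) (.node 2 (.node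 1 (.leaf (nat_lit 0x250705bf81)) (.leaf (nat_lit 0x250305bf91))) (.node 1 (.leaf (nat_lit 0x250705bfa1)) (.leaf (nat_lit 0x2704064e11))))) (.node 4 (.node 2 (.node 1 (.leaf (nat_lit 0x250705bfd1)) (.leaf (nat_lit 0x250305bfe1))) (.node 1 (.leaf (nat_lit 0x250705bff1)) (.leaf (nat_lit 0x250705c001)))) (.node 2 (.node 1 (.leaf (nat_lit 0x250305c011)) (.leaf (nat_lit 0x250405c021))) (.node 1 (.leaf (nat_lit 0x250305c031)) (.leaf (nat_lit 0x250205c041))))))) (.node 16 (.node 8 (.node 4 (.node 2 (.node 1 (.leaf (nat_lit 0x250505c071)) (.leaf (nat_lit 0x250205c081))) (.node 1 (.leaf (nat_lit 0x250405c081)) (.leaf (nat_lit 0x270305c0a1)))) (.node 2 (.node 1 (.leaf (nat_lit 0x250305c0b1)) (.leaf (nat_lit 0x250705c0c1))) (.node 1 (.leaf (nat_lit 0x250305c0d1)) (.leaf (nat_lit 0x2704064e81))))) (.node 4 (.node 2 (.node 1 (.leaf (nat_lit 0x250305c101)) (.leaf (nat_lit 0x250205c111))) (.node 1 (.leaf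 (nat_lit 0x250405c111)) (.leaf (nat_lit 0x250305c121)))) (.node 2 (.node 1 (.leaf (nat_lit 0x250205c131)) (.leaf (nat_lit 0x250405c131))) (.node 1 (.leaf (nat_lit 0x250505c141)) (.leaf (nat_lit 0x250205c151)))))) (.node 8 (.node 4 (.node 2 (.node 1 (.leaf (nat_lit 0x250405c151)) (.leaf (nat_lit 0x250105c161))) (.node 1 (.leaf (nat_lit 0x250505c181)) (.leaf (nat_lit 0x250205c191)))) (.node 2 (.node 1 (.leaf (nat_lit 0x250405c191)) (.leaf (nat_lit 0x250505c1b1))) (.node 1 (.leaf (nat_lit 0x250405c1d1)) (.leaf (nat_lit 0x250305c1f1))))) (.node 4 (.node 2 (.node 1 (.leaf (nat_lit 0x250405c201)) (.leaf (nat_lit 0x250505c211))) (.node 1 (.leaf (nat_lit 0x250805c241)) (.leaf (nat_lit 0x250805c251)))) (.node 2 (.node 1 (.leaf (nat_lit 0x250705c261)) (.leaf (nat_lit 0x250305c271))) (.node 1 (.leaf (nat_lit 0x250705c281)) (.leaf (nat_lit 0x270305c291)))))))) (.node 32 (.node 16 (.node 8 (.node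 4 (.node 2 (.node 1 (.leaf (nat_lit 0x250705c2a1)) (.leaf (nat_lit 0x250305c2b1))) (.node 1 (.leaf (nat_lit 0x250805c2c1)) (.leaf (nat_lit 0x250705c2d1)))) (.node 2 (.node 1 (.leaf (nat_lit 0x250705c2e1)) (.leaf (nat_lit 0x250305c2f1))) (.node 1 (.leaf (nat_lit 0x250405c301)) (.leaf (nat_lit 0x250305c311))))) (.node 4 (.node 2 (.node 1 (.leaf (nat_lit 0x250205c321)) (.leaf (nat_lit 0x250405e9a1))) (.node 1 (.leaf (nat_lit 0x250805c341)) (.leaf (nat_lit 0x250705c351)))) (.node 2 (.node 1 (.leaf (nat_lit 0x250305c361)) (.leaf (nat_lit 0x250405c371))) (.node 1 (.leaf (nat_lit 0x250305c381)) (.leaf (nat_lit 0x270205c391)))))) (.node 8 (.node 4 (.node 2 (.node 1 (.leaf (nat_lit 0x250705c3a1)) (.leaf (nat_lit 0x250305c3b1))) (.node 1 (.leaf (nat_lit 0x250405c3c1)) (.leaf (nat_lit 0x250705c3d1)))) (.node 2 (.node 1 (.leaf (nat_lit 0x250305c3e1)) (.leaf (nat_lit 0x250305c3f1))) (.node 1 (.leaf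 (nat_lit 0x250205c401)) (.leaf (nat_lit 0x250405c401))))) (.node 4 (.node 2 (.node 1 (.leaf (nat_lit 0x250505c411)) (.leaf (nat_lit 0x250305c421))) (.node 1 (.leaf (nat_lit 0x250205c431)) (.leaf (nat_lit 0x250405c431)))) (.node 2 (.node 1 (.leaf (nat_lit 0x250105c441)) (.leaf (nat_lit 0x250405c451))) (.node 1 (.leaf (nat_lit 0x250505c461)) (.leaf (nat_lit 0x250405c471))))))) (.node 16 (.node 8 (.node 4 (.node 2 (.node 1 (.leaf (nat_lit 0x250405c491)) (.leaf (nat_lit 0x250405c4a1))) (.node 1 (.leaf (nat_lit 0x270305c4c1)) (.leaf (nat_lit 0x270205c4d1)))) (.node 2 (.node 1 (.leaf (nat_lit 0x250805c4e1)) (.leaf (nat_lit 0x250705c4f1))) (.node 1 (.leaf (nat_lit 0x250705c501)) (.leaf (nat_lit 0x250305c511))))) (.node 4 (.node 2 (.node 1 (.leaf (nat_lit 0x250305c521)) (.leaf (nat_lit 0x250205c531))) (.node 1 (.leaf (nat_lit 0x250405c531)) (.leaf (nat_lit 0x250205c551)))) (.node 2 (.node 1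 (.leaf (nat_lit 0x250405c551)) (.leaf (nat_lit 0x270105c561))) (.node 1 (.leaf (nat_lit 0x250705c571)) (.leaf (nat_lit 0x250305c581)))))) (.node 8 (.node 4 (.node 2 (.node 1 (.leaf (nat_lit 0x250705c591)) (.leaf (nat_lit 0x250705c5a1))) (.node 1 (.leaf (nat_lit 0x250305c5b1)) (.leaf (nat_lit 0x250305c5c1)))) (.node 2 (.node 1 (.leaf (nat_lit 0x250205c5d1)) (.leaf (nat_lit 0x250405c5d1))) (.node 1 (.leaf (nat_lit 0x250505c5e1)) (.leaf (nat_lit 0x250705c5f1))))) (.node 4 (.node 2 (.node 1 (.leaf (nat_lit 0x250305c601)) (.leaf (nat_lit 0x250305c611))) (.node 1 (.leaf (nat_lit 0x250205c621)) (.leaf (nat_lit 0x250405c621)))) (.node 2 (.node 1 (.leaf (nat_lit 0x250305c631)) (.leaf (nat_lit 0x250205c641))) (.node 1 (.leaf (nat_lit 0x250405c641)) (.leaf (nat_lit 0x250105c651))))))))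

noncomputable def oT194 : Tree :=
  .node 64 (.node 32 (.node 16 (.node 8 (.node 4 (.node 2 (.node 1 (.leaf (nat_lit 0x250405c651)) (.leaf (nat_lit 0x250505c661))) (.node 1 (.leaf (nat_lit 0x250605c671)) (.leaf (nat_lit 0x250505ea31)))) (.node 2 (.node 1 (.leaf (nat_lit 0x250205c691)) (.leaf (nat_lit 0x250405c691))) (.node 1 (.leaf (nat_lit 0x250105c6a1)) (.leaf (nat_lit 0x250405c6a1))))) (.node 4 (.node 2 (.node 1 (.leaf (nat_lit 0x250005c6c1)) (.leaf (nat_lit 0x250405c6d1))) (.node 1 (.leaf (nat_lit 0x250405c6f1)) (.leaf (nat_lit 0x250505c701)))) (.node 2 (.node 1 (.leaf (nat_lit 0x250405c721)) (.leaf (nat_lit 0x250405c731))) (.node 1 (.leaf (nat_lit 0x250505c741)) (.leaf (nat_lit 0x250305c781)))))) (.node 8 (.node 4 (.node 2 (.node 1 (.leaf (nat_lit 0x250305c791)) (.leaf (nat_lit 0x250305c7a1))) (.node 1 (.leaf (nat_lit 0x250705c7b1)) (.leaf (nat_lit 0x250305c7c1)))) (.node 2 (.node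 1 (.leaf (nat_lit 0x250405c7d1)) (.leaf (nat_lit 0x250305c7f1))) (.node 1 (.leaf (nat_lit 0x250305c811)) (.leaf (nat_lit 0x250405c821))))) (.node 4 (.node 2 (.node 1 (.leaf (nat_lit 0x250205c841)) (.leaf (nat_lit 0x250405c841))) (.node 1 (.leaf (nat_lit 0x250405c851)) (.leaf (nat_lit 0x250505c861)))) (.node 2 (.node 1 (.leaf (nat_lit 0x250505c871)) (.leaf (nat_lit 0x270305c891))) (.node 1 (.leaf (nat_lit 0x250305c8a1)) (.leaf (nat_lit 0x250405c8b1))))))) (.node 16 (.node 8 (.node 4 (.node 2 (.node 1 (.leaf (nat_lit 0x250205c8c1)) (.leaf (nat_lit 0x270305c8e1))) (.node 1 (.leaf (nat_lit 0x270205c8f1)) (.leaf (nat_lit 0x250205c901)))) (.node 2 (.node 1 (.leaf (nat_lit 0x250405c901)) (.leaf (nat_lit 0x250105c911))) (.node 1 (.leaf (nat_lit 0x250705c931)) (.leaf (nat_lit 0x270305c941))))) (.node 4 (.node 2 (.node 1 (.leaf (nat_lit 0x250305c951)) (.leaf (nat_lit 0x250405c961))) (.node 1 (.leaf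 (nat_lit 0x250305c971)) (.leaf (nat_lit 0x250205c981)))) (.node 2 (.node 1 (.leaf (nat_lit 0x250705c991)) (.leaf (nat_lit 0x270305c9a1))) (.node 1 (.leaf (nat_lit 0x250305c9b1)) (.leaf (nat_lit 0x270205c9c1)))))) (.node 8 (.node 4 (.node 2 (.node 1 (.leaf (nat_lit 0x250205c9d1)) (.leaf (nat_lit 0x250405c9d1))) (.node 1 (.leaf (nat_lit 0x250105c9e1)) (.leaf (nat_lit 0x250405c9f1)))) (.node 2 (.node 1 (.leaf (nat_lit 0x250305ca11)) (.leaf (nat_lit 0x250305ca21))) (.node 1 (.leaf (nat_lit 0x270205ca31)) (.leaf (nat_lit 0x250205ca41))))) (.node 4 (.node 2 (.node 1 (.leaf (nat_lit 0x250205ca51)) (.leaf (nat_lit 0x250405ca51))) (.node 1 (.leaf (nat_lit 0x270105ca61)) (.leaf (nat_lit 0x250205ca71)))) (.node 2 (.node 1 (.leaf (nat_lit 0x250205ca81)) (.leaf (nat_lit 0x250205ca91))) (.node 1 (.leaf (nat_lit 0x250105caa1)) (.leaf (nat_lit 0x250305cab1)))))))) (.node 32 (.node 16 (.node 8 (.node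 4 (.node 2 (.node 1 (.leaf (nat_lit 0x250205cac1)) (.leaf (nat_lit 0x250405cac1))) (.node 1 (.leaf (nat_lit 0x250105cad1)) (.leaf (nat_lit 0x250405cad1)))) (.node 2 (.node 1 (.leaf (nat_lit 0x250005caf1)) (.leaf (nat_lit 0x250405cb11))) (.node 1 (.leaf (nat_lit 0x250305cb31)) (.leaf (nat_lit 0x250505cb41))))) (.node 4 (.node 2 (.node 1 (.leaf (nat_lit 0x250705cb61)) (.leaf (nat_lit 0x250305cb71))) (.node 1 (.leaf (nat_lit 0x250205cb81)) (.leaf (nat_lit 0x270305cb91)))) (.node 2 (.node 1 (.leaf (nat_lit 0x250305cba1)) (.leaf (nat_lit 0x250405cbb1))) (.node 1 (.leaf (nat_lit 0x270205cbc1)) (.leaf (nat_lit 0x250305cbd1)))))) (.node 8 (.node 4 (.node 2 (.node 1 (.leaf (nat_lit 0x250205cbe1)) (.leaf (nat_lit 0x250405cbe1))) (.node 1 (.leaf (nat_lit 0x250105cc01)) (.leaf (nat_lit 0x250705cc11)))) (.node 2 (.node 1 (.leaf (nat_lit 0x250305cc21)) (.leaf (nat_lit 0x250705cc31))) (.node 1 (.leaf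 (nat_lit 0x250305cc41)) (.leaf (nat_lit 0x250405cc51))))) (.node 4 (.node 2 (.node 1 (.leaf (nat_lit 0x250305cc61)) (.leaf (nat_lit 0x250205cc71))) (.node 1 (.leaf (nat_lit 0x250705cc81)) (.leaf (nat_lit 0x250305cc91)))) (.node 2 (.node 1 (.leaf (nat_lit 0x250705cca1)) (.leaf (nat_lit 0x250305ccb1))) (.node 1 (.leaf (nat_lit 0x250205ccc1)) (.leaf (nat_lit 0x250205ccd1))))))) (.node 16 (.node 8 (.node 4 (.node 2 (.node 1 (.leaf (nat_lit 0x250405ccd1)) (.leaf (nat_lit 0x250105cce1))) (.node 1 (.leaf (nat_lit 0x250305ccf1)) (.leaf (nat_lit 0x250205cd01)))) (.node 2 (.node 1 (.leaf (nat_lit 0x250405cd01)) (.leaf (nat_lit 0x250405cd21))) (.node 1 (.leaf (nat_lit 0x250705cd41)) (.leaf (nat_lit 0x250305cd51))))) (.node 4 (.node 2 (.node 1 (.leaf (nat_lit 0x270305cd61)) (.leaf (nat_lit 0x270205cd71))) (.node 1 (.leaf (nat_lit 0x250705cd81)) (.leaf (nat_lit 0x250305cd91)))) (.node 2 (.node 1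 (.leaf (nat_lit 0x250705cda1)) (.leaf (nat_lit 0x250305cdb1))) (.node 1 (.leaf (nat_lit 0x250205cdc1)) (.leaf (nat_lit 0x270305cdd1)))))) (.node 8 (.node 4 (.node 2 (.node 1 (.leaf (nat_lit 0x270205cde1)) (.leaf (nat_lit 0x2705065061))) (.node 1 (.leaf (nat_lit 0x270105cdf1)) (.leaf (nat_lit 0x250705ce01)))) (.node 2 (.node 1 (.leaf (nat_lit 0x250305ce11)) (.leaf (nat_lit 0x250205ce21))) (.node 1 (.leaf (nat_lit 0x250705ce31)) (.leaf (nat_lit 0x250305ce41))))) (.node 4 (.node 2 (.node 1 (.leaf (nat_lit 0x250305ce51)) (.leaf (nat_lit 0x250205ce61))) (.node 1 (.leaf (nat_lit 0x250205ce71)) (.leaf (nat_lit 0x250405ce71)))) (.node 2 (.node 1 (.leaf (nat_lit 0x250105ce81)) (.leaf (nat_lit 0x250105ce91))) (.node 1 (.leaf (nat_lit 0x250405ce91)) (.leaf (nat_lit 0x250005ceb1))))))))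

noncomputable def oT195 : Tree :=
  .node 64 (.node 32 (.node 16 (.node 8 (.node 4 (.node 2 (.node 1 (.leaf (nat_lit 0x250305cec1)) (.leaf (nat_lit 0x250205ced1))) (.node 1 (.leaf (nat_lit 0x250505e021)) (.leaf (nat_lit 0x250605cf01)))) (.node 2 (.node 1 (.leaf (nat_lit 0x270705cf61)) (.leaf (nat_lit 0x250505ed31))) (.node 1 (.leaf (nat_lit 0x250405cf21)) (.leaf (nat_lit 0x250305cf41))))) (.node 4 (.node 2 (.node 1 (.leaf (nat_lit 0x250605cf71)) (.leaf (nat_lit 0x250605e791))) (.node 1 (.leaf (nat_lit 0x250705cf81)) (.leaf (nat_lit 0x250305cfa1)))) (.node 2 (.node 1 (.leaf (nat_lit 0x270305cfb1)) (.leaf (nat_lit 0x250705cfc1))) (.node 1 (.leaf (nat_lit 0x250705cfe1)) (.leaf (nat_lit 0x250305cff1)))))) (.node 8 (.node 4 (.node 2 (.node 1 (.leaf (nat_lit 0x250705d011)) (.leaf (nat_lit 0x270305d021))) (.node 1 (.leaf (nat_lit 0x270205d031)) (.leaf (nat_lit 0x250705d041)))) (.node 2 (.node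 1 (.leaf (nat_lit 0x250305d051)) (.leaf (nat_lit 0x250705d061))) (.node 1 (.leaf (nat_lit 0x250705d071)) (.leaf (nat_lit 0x250305d081))))) (.node 4 (.node 2 (.node 1 (.leaf (nat_lit 0x250205d091)) (.leaf (nat_lit 0x250405d091))) (.node 1 (.leaf (nat_lit 0x250705d0a1)) (.leaf (nat_lit 0x250705d0b1)))) (.node 2 (.node 1 (.leaf (nat_lit 0x250305d0c1)) (.leaf (nat_lit 0x250705d0d1))) (.node 1 (.leaf (nat_lit 0x250305d0e1)) (.leaf (nat_lit 0x250205d0f1))))))) (.node 16 (.node 8 (.node 4 (.node 2 (.node 1 (.leaf (nat_lit 0x250405d0f1)) (.leaf (nat_lit 0x250505d101))) (.node 1 (.leaf (nat_lit 0x250305d111)) (.leaf (nat_lit 0x250205d121)))) (.node 2 (.node 1 (.leaf (nat_lit 0x250405d121)) (.leaf (nat_lit 0x250105d131))) (.node 1 (.leaf (nat_lit 0x250305d141)) (.leaf (nat_lit 0x250705d151))))) (.node 4 (.node 2 (.node 1 (.leaf (nat_lit 0x270305d161)) (.leaf (nat_lit 0x270205d171))) (.node 1 (.leaf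 (nat_lit 0x250305d181)) (.leaf (nat_lit 0x250705d191)))) (.node 2 (.node 1 (.leaf (nat_lit 0x250305d1a1)) (.leaf (nat_lit 0x250205d1b1))) (.node 1 (.leaf (nat_lit 0x250705d1c1)) (.leaf (nat_lit 0x270305d1d1)))))) (.node 8 (.node 4 (.node 2 (.node 1 (.leaf (nat_lit 0x270205d1e1)) (.leaf (nat_lit 0x2705065be1))) (.node 1 (.leaf (nat_lit 0x270105d1f1)) (.leaf (nat_lit 0x250305d201)))) (.node 2 (.node 1 (.leaf (nat_lit 0x250205d211)) (.leaf (nat_lit 0x250705d221))) (.node 1 (.leaf (nat_lit 0x250305d231)) (.leaf (nat_lit 0x250305d241))))) (.node 4 (.node 2 (.node 1 (.leaf (nat_lit 0x250205d251)) (.leaf (nat_lit 0x250305d261))) (.node 1 (.leaf (nat_lit 0x250205d271)) (.leaf (nat_lit 0x250405d271)))) (.node 2 (.node 1 (.leaf (nat_lit 0x250105d281)) (.leaf (nat_lit 0x270305d291))) (.node 1 (.leaf (nat_lit 0x250205d2a1)) (.leaf (nat_lit 0x250405d2a1)))))))) (.node 32 (.node 16 (.node 8 (.node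 4 (.node 2 (.node 1 (.leaf (nat_lit 0x250105d2b1)) (.leaf (nat_lit 0x250405d2b1))) (.node 1 (.leaf (nat_lit 0x250005d2d1)) (.leaf (nat_lit 0x250305d2e1)))) (.node 2 (.node 1 (.leaf (nat_lit 0x250305d301)) (.leaf (nat_lit 0x250605d321))) (.node 1 (.leaf (nat_lit 0x270405d311)) (.leaf (nat_lit 0x250505d341))))) (.node 4 (.node 2 (.node 1 (.leaf (nat_lit 0x250505e4c1)) (.leaf (nat_lit 0x250505d3c1))) (.node 1 (.leaf (nat_lit 0x250505eac1)) (.leaf (nat_lit 0x250405d381)))) (.node 2 (.node 1 (.leaf (nat_lit 0x250405d3a1)) (.leaf (nat_lit 0x250305d3b1))) (.node 1 (.leaf (nat_lit 0x270305d3d1)) (.leaf (nat_lit 0x270305d3e1)))))) (.node 8 (.node 4 (.node 2 (.node 1 (.leaf (nat_lit 0x250705d3f1)) (.leaf (nat_lit 0x270305d401))) (.node 1 (.leaf (nat_lit 0x270205d411)) (.leaf (nat_lit 0x250305d421)))) (.node 2 (.node 1 (.leaf (nat_lit 0x250705d471)) (.leaf (nat_lit 0x270305d431))) (.node 1 (.leaf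 (nat_lit 0x290205d441)) (.leaf (nat_lit 0x2705065c51))))) (.node 4 (.node 2 (.node 1 (.leaf (nat_lit 0x290105d451)) (.leaf (nat_lit 0x250305d461))) (.node 1 (.leaf (nat_lit 0x250305d481)) (.leaf (nat_lit 0x270205d491)))) (.node 2 (.node 1 (.leaf (nat_lit 0x250705d4a1)) (.leaf (nat_lit 0x250705d4b1))) (.node 1 (.leaf (nat_lit 0x270305d4c1)) (.leaf (nat_lit 0x250305d4d1))))))) (.node 16 (.node 8 (.node 4 (.node 2 (.node 1 (.leaf (nat_lit 0x270205d4e1)) (.leaf (nat_lit 0x250705d4f1))) (.node 1 (.leaf (nat_lit 0x270305d501)) (.leaf (nat_lit 0x270205d511)))) (.node 2 (.node 1 (.leaf (nat_lit 0x2705064c41)) (.leaf (nat_lit 0x270105d521))) (.node 1 (.leaf (nat_lit 0x270205d531)) (.leaf (nat_lit 0x270305d541))))) (.node 4 (.node 2 (.node 1 (.leaf (nat_lit 0x270205d551)) (.leaf (nat_lit 0x270405d551))) (.node 1 (.leaf (nat_lit 0x270105d561)) (.leaf (nat_lit 0x270405d561)))) (.node 2 (.node 1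 (.leaf (nat_lit 0x290005d581)) (.leaf (nat_lit 0x250205d591))) (.node 1 (.leaf (nat_lit 0x250705d5a1)) (.leaf (nat_lit 0x250305d5b1)))))) (.node 8 (.node 4 (.node 2 (.node 1 (.leaf (nat_lit 0x250205d5c1)) (.leaf (nat_lit 0x250305d5d1))) (.node 1 (.leaf (nat_lit 0x250205d5e1)) (.leaf (nat_lit 0x250405d5e1)))) (.node 2 (.node 1 (.leaf (nat_lit 0x250105d5f1)) (.leaf (nat_lit 0x250405d5f1))) (.node 1 (.leaf (nat_lit 0x270705d611)) (.leaf (nat_lit 0x250705d621))))) (.node 4 (.node 2 (.node 1 (.leaf (nat_lit 0x250305d631)) (.leaf (nat_lit 0x250305d641))) (.node 1 (.leaf (nat_lit 0x250205d651)) (.leaf (nat_lit 0x250405d651)))) (.node 2 (.node 1 (.leaf (nat_lit 0x250205d661)) (.leaf (nat_lit 0x250405d661))) (.node 1 (.leaf (nat_lit 0x250105d671)) (.leaf (nat_lit 0x250405d671))))))))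

noncomputable def oT196 : Tree :=
  .node 64 (.node 32 (.node 16 (.node 8 (.node 4 (.node 2 (.node 1 (.leaf (nat_lit 0x250505d681)) (.leaf (nat_lit 0x270305d691))) (.node 1 (.leaf (nat_lit 0x250205d6a1)) (.leaf (nat_lit 0x250405d6a1)))) (.node 2 (.node 1 (.leaf (nat_lit 0x250105d6b1)) (.leaf (nat_lit 0x250405d6b1))) (.node 1 (.leaf (nat_lit 0x250505d6c1)) (.leaf (nat_lit 0x250005d6d1))))) (.node 4 (.node 2 (.node 1 (.leaf (nat_lit 0x250405d6d1)) (.leaf (nat_lit 0x250505d6e1))) (.node 1 (.leaf (nat_lit 0x270505f3a1)) (.leaf (nat_lit 0x250505ea01)))) (.node 2 (.node 1 (.leaf (nat_lit 0x250105d711)) (.leaf (nat_lit 0x250405d711))) (.node 1 (.leaf (nat_lit 0x250005d731)) (.leaf (nat_lit 0x250405d731)))))) (.node 8 (.node 4 (.node 2 (.node 1 (.leaf (nat_lit 0x250305d741)) (.leaf (nat_lit 0x250405d761))) (.node 1 (.leaf (nat_lit 0x250305d771)) (.leaf (nat_lit 0x250605d791)))) (.node 2 (.node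 1 (.leaf (nat_lit 0x270605d7a1)) (.leaf (nat_lit 0x250505e0e1))) (.node 1 (.leaf (nat_lit 0x250605d871)) (.leaf (nat_lit 0x250605d881))))) (.node 4 (.node 2 (.node 1 (.leaf (nat_lit 0x250205f461)) (.leaf (nat_lit 0x250605d7f1))) (.node 1 (.leaf (nat_lit 0x270505d7d1)) (.leaf (nat_lit 0x250505d801)))) (.node 2 (.node 1 (.leaf (nat_lit 0x250505ee91)) (.leaf (nat_lit 0x250505eed1))) (.node 1 (.leaf (nat_lit 0x270405d831)) (.leaf (nat_lit 0x250505d841))))))) (.node 16 (.node 8 (.node 4 (.node 2 (.node 1 (.leaf (nat_lit 0x250305d851)) (.leaf (nat_lit 0x250505e241))) (.node 1 (.leaf (nat_lit 0x250305d891)) (.leaf (nat_lit 0x250405d8a1)))) (.node 2 (.node 1 (.leaf (nat_lit 0x250305d8b1)) (.leaf (nat_lit 0x250705d8c1))) (.node 1 (.leaf (nat_lit 0x250205e4b1)) (.leaf (nat_lit 0x250605d971))))) (.node 4 (.node 2 (.node 1 (.leaf (nat_lit 0x250105df61)) (.leaf (nat_lit 0x250405d911))) (.node 1 (.leaf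 (nat_lit 0x250605d961)) (.leaf (nat_lit 0x250605da51)))) (.node 2 (.node 1 (.leaf (nat_lit 0x250505f451)) (.leaf (nat_lit 0x250505f471))) (.node 1 (.leaf (nat_lit 0x250505f4a1)) (.leaf (nat_lit 0x250505da11)))))) (.node 8 (.node 4 (.node 2 (.node 1 (.leaf (nat_lit 0x250705d981)) (.leaf (nat_lit 0x250305d991))) (.node 1 (.leaf (nat_lit 0x250205d9a1)) (.leaf (nat_lit 0x250705d9a1)))) (.node 2 (.node 1 (.leaf (nat_lit 0x250805d9b1)) (.leaf (nat_lit 0x250405d9c1))) (.node 1 (.leaf (nat_lit 0x250305d9e1)) (.leaf (nat_lit 0x250505d9e1))))) (.node 4 (.node 2 (.node 1 (.leaf (nat_lit 0x250205da21)) (.leaf (nat_lit 0x250405da21))) (.node 1 (.leaf (nat_lit 0x250405da31)) (.leaf (nat_lit 0x250505da41)))) (.node 2 (.node 1 (.leaf (nat_lit 0x250205da71)) (.leaf (nat_lit 0x250105da81))) (.node 1 (.leaf (nat_lit 0x250205da91)) (.leaf (nat_lit 0x250205daa1)))))))) (.node 32 (.node 16 (.node 8 (.node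 4 (.node 2 (.node 1 (.leaf (nat_lit 0x250105dab1)) (.leaf (nat_lit 0x250105dac1))) (.node 1 (.leaf (nat_lit 0x250405db61)) (.leaf (nat_lit 0x250205dae1)))) (.node 2 (.node 1 (.leaf (nat_lit 0x250105daf1)) (.leaf (nat_lit 0x250305db01))) (.node 1 (.leaf (nat_lit 0x250205db11)) (.leaf (nat_lit 0x250305db21))))) (.node 4 (.node 2 (.node 1 (.leaf (nat_lit 0x250205db31)) (.leaf (nat_lit 0x250305db41))) (.node 1 (.leaf (nat_lit 0x250205db51)) (.leaf (nat_lit 0x250405db51)))) (.node 2 (.node 1 (.leaf (nat_lit 0x250105db61)) (.leaf (nat_lit 0x250205db71))) (.node 1 (.leaf (nat_lit 0x250105db81)) (.leaf (nat_lit 0x250005db91)))))) (.node 8 (.node 4 (.node 2 (.node 1 (.leaf (nat_lit 0x250405dba1)) (.leaf (nat_lit 0x250405dbb1))) (.node 1 (.leaf (nat_lit 0x250305dbd1)) (.leaf (nat_lit 0x250405dbe1)))) (.node 2 (.node 1 (.leaf (nat_lit 0x250205dbf1)) (.leaf (nat_lit 0x250205dc01))) (.node 1 (.leaf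 (nat_lit 0x250105dc11)) (.leaf (nat_lit 0x270105dc21))))) (.node 4 (.node 2 (.node 1 (.leaf (nat_lit 0x250305dc31)) (.leaf (nat_lit 0x250205dc41))) (.node 1 (.leaf (nat_lit 0x250405dc41)) (.leaf (nat_lit 0x250105dc61)))) (.node 2 (.node 1 (.leaf (nat_lit 0x250405dc61)) (.leaf (nat_lit 0x250005dc81))) (.node 1 (.leaf (nat_lit 0x250205dca1)) (.leaf (nat_lit 0x250105dcb1))))))) (.node 16 (.node 8 (.node 4 (.node 2 (.node 1 (.leaf (nat_lit 0x250305dcc1)) (.leaf (nat_lit 0x250205dcd1))) (.node 1 (.leaf (nat_lit 0x250405dcd1)) (.leaf (nat_lit 0x250105dcf1)))) (.node 2 (.node 1 (.leaf (nat_lit 0x250705dd01)) (.leaf (nat_lit 0x250105dd31))) (.node 1 (.leaf (nat_lit 0x270305dd21)) (.leaf (nat_lit 0x250405dd31))))) (.node 4 (.node 2 (.node 1 (.leaf (nat_lit 0x270305dd41)) (.leaf (nat_lit 0x270205dd51))) (.node 1 (.leaf (nat_lit 0x270305dd61)) (.leaf (nat_lit 0x270405dd71)))) (.node 2 (.node 1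 (.leaf (nat_lit 0x250705dd81)) (.leaf (nat_lit 0x270305dd91))) (.node 1 (.leaf (nat_lit 0x250305dda1)) (.leaf (nat_lit 0x270205ddb1)))))) (.node 8 (.node 4 (.node 2 (.node 1 (.leaf (nat_lit 0x270305ddc1)) (.leaf (nat_lit 0x250405dec1))) (.node 1 (.leaf (nat_lit 0x250205ddd1)) (.leaf (nat_lit 0x270105dde1)))) (.node 2 (.node 1 (.leaf (nat_lit 0x250305ddf1)) (.leaf (nat_lit 0x250205de01))) (.node 1 (.leaf (nat_lit 0x250405de01)) (.leaf (nat_lit 0x250505de11))))) (.node 4 (.node 2 (.node 1 (.leaf (nat_lit 0x250305de21)) (.leaf (nat_lit 0x250205de31))) (.node 1 (.leaf (nat_lit 0x250405de31)) (.leaf (nat_lit 0x250205de41)))) (.node 2 (.node 1 (.leaf (nat_lit 0x250405de41)) (.leaf (nat_lit 0x250105de51))) (.node 1 (.leaf (nat_lit 0x250405de51)) (.leaf (nat_lit 0x250505de61))))))))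

noncomputable def oT197 : Tree :=
  .node 64 (.node 32 (.node 16 (.node 8 (.node 4 (.node 2 (.node 1 (.leaf (nat_lit 0x250105de81)) (.leaf (nat_lit 0x250005de91))) (.node 1 (.leaf (nat_lit 0x250205ee51)) (.leaf (nat_lit 0x250405deb1)))) (.node 2 (.node 1 (.leaf (nat_lit 0x250205f401)) (.leaf (nat_lit 0x250405def1))) (.node 1 (.leaf (nat_lit 0x250505df01)) (.leaf (nat_lit 0x250405dfb1))))) (.node 4 (.node 2 (.node 1 (.leaf (nat_lit 0x250405df21)) (.leaf (nat_lit 0x250305df41))) (.node 1 (.leaf (nat_lit 0x250405dfc1)) (.leaf (nat_lit 0x250205df51)))) (.node 2 (.node 1 (.leaf (nat_lit 0x250405df51)) (.leaf (nat_lit 0x250405df61))) (.node 1 (.leaf (nat_lit 0x250505df71)) (.leaf (nat_lit 0x250505df91)))))) (.node 8 (.node 4 (.node 2 (.node 1 (.leaf (nat_lit 0x250305dfe1)) (.leaf (nat_lit 0x250205dff1))) (.node 1 (.leaf (nat_lit 0x250405dff1)) (.leaf (nat_lit 0x250305e001)))) (.node 2 (.node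 1 (.leaf (nat_lit 0x250205e011)) (.leaf (nat_lit 0x250405e011))) (.node 1 (.leaf (nat_lit 0x250105e031)) (.leaf (nat_lit 0x250705e041))))) (.node 4 (.node 2 (.node 1 (.leaf (nat_lit 0x250305e051)) (.leaf (nat_lit 0x250405e061))) (.node 1 (.leaf (nat_lit 0x250205e071)) (.leaf (nat_lit 0x250705e081)))) (.node 2 (.node 1 (.leaf (nat_lit 0x250305e091)) (.leaf (nat_lit 0x250405e0a1))) (.node 1 (.leaf (nat_lit 0x250705e0b1)) (.leaf (nat_lit 0x250305e0c1))))))) (.node 16 (.node 8 (.node 4 (.node 2 (.node 1 (.leaf (nat_lit 0x250205e0d1)) (.leaf (nat_lit 0x250405e0d1))) (.node 1 (.leaf (nat_lit 0x250105e0f1)) (.leaf (nat_lit 0x250305e101)))) (.node 2 (.node 1 (.leaf (nat_lit 0x250305e111)) (.leaf (nat_lit 0x250205e121))) (.node 1 (.leaf (nat_lit 0x250405e121)) (.leaf (nat_lit 0x250305e141))))) (.node 4 (.node 2 (.node 1 (.leaf (nat_lit 0x250305e151)) (.leaf (nat_lit 0x250205e161))) (.node 1 (.leaf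 (nat_lit 0x250405e161)) (.leaf (nat_lit 0x250205e171)))) (.node 2 (.node 1 (.leaf (nat_lit 0x250105e181)) (.leaf (nat_lit 0x250405e181))) (.node 1 (.leaf (nat_lit 0x250205e1a1)) (.leaf (nat_lit 0x250105e1b1)))))) (.node 8 (.node 4 (.node 2 (.node 1 (.leaf (nat_lit 0x250005e1c1)) (.leaf (nat_lit 0x270305e1d1))) (.node 1 (.leaf (nat_lit 0x270205e1e1)) (.leaf (nat_lit 0x250305e1f1)))) (.node 2 (.node 1 (.leaf (nat_lit 0x250505e1f1)) (.leaf (nat_lit 0x270205e201))) (.node 1 (.leaf (nat_lit 0x270405e201)) (.leaf (nat_lit 0x2704066ee1))))) (.node 4 (.node 2 (.node 1 (.leaf (nat_lit 0x250305e221)) (.leaf (nat_lit 0x250305f181))) (.node 1 (.leaf (nat_lit 0x250305e241)) (.leaf (nat_lit 0x250705e251)))) (.node 2 (.node 1 (.leaf (nat_lit 0x250305e261)) (.leaf (nat_lit 0x270305e271))) (.node 1 (.leaf (nat_lit 0x270205e281)) (.leaf (nat_lit 0x270305e541)))))))) (.node 32 (.node 16 (.node 8 (.node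 4 (.node 2 (.node 1 (.leaf (nat_lit 0x250205e291)) (.leaf (nat_lit 0x250405e291))) (.node 1 (.leaf (nat_lit 0x270105e2a1)) (.leaf (nat_lit 0x2703064c61)))) (.node 2 (.node 1 (.leaf (nat_lit 0x270505e2b1)) (.leaf (nat_lit 0x270605e2c1))) (.node 1 (.leaf (nat_lit 0x250105e2d1)) (.leaf (nat_lit 0x270005e2e1))))) (.node 4 (.node 2 (.node 1 (.leaf (nat_lit 0x250305e2f1)) (.leaf (nat_lit 0x250205e301))) (.node 1 (.leaf (nat_lit 0x250305e311)) (.leaf (nat_lit 0x250305e321)))) (.node 2 (.node 1 (.leaf (nat_lit 0x250205e331)) (.leaf (nat_lit 0x250405e331))) (.node 1 (.leaf (nat_lit 0x250305e341)) (.leaf (nat_lit 0x250205e351)))))) (.node 8 (.node 4 (.node 2 (.node 1 (.leaf (nat_lit 0x250405e351)) (.leaf (nat_lit 0x250105e361))) (.node 1 (.leaf (nat_lit 0x250405e361)) (.leaf (nat_lit 0x250305e381)))) (.node 2 (.node 1 (.leaf (nat_lit 0x250305e391)) (.leaf (nat_lit 0x250205e3a1))) (.node 1 (.leaf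 (nat_lit 0x250405e3a1)) (.leaf (nat_lit 0x250205e3b1))))) (.node 4 (.node 2 (.node 1 (.leaf (nat_lit 0x250405e3b1)) (.leaf (nat_lit 0x250105e3c1))) (.node 1 (.leaf (nat_lit 0x250405e3c1)) (.leaf (nat_lit 0x250505e3d1)))) (.node 2 (.node 1 (.leaf (nat_lit 0x270305e3e1)) (.leaf (nat_lit 0x250205e3f1))) (.node 1 (.leaf (nat_lit 0x250405e3f1)) (.leaf (nat_lit 0x250105e401))))))) (.node 16 (.node 8 (.node 4 (.node 2 (.node 1 (.leaf (nat_lit 0x250405e401)) (.leaf (nat_lit 0x250005e421))) (.node 1 (.leaf (nat_lit 0x250405e421)) (.leaf (nat_lit 0x250505e431)))) (.node 2 (.node 1 (.leaf (nat_lit 0x2704064511)) (.leaf (nat_lit 0x250105e461))) (.node 1 (.leaf (nat_lit 0x250005e471)) (.leaf (nat_lit 0x250305e491))))) (.node 4 (.node 2 (.node 1 (.leaf (nat_lit 0x250405e4b1)) (.leaf (nat_lit 0x250405e4e1))) (.node 1 (.leaf (nat_lit 0x2708064ae1)) (.leaf (nat_lit 0x270405e531)))) (.node 2 (.node 1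 (.leaf (nat_lit 0x270505e541)) (.leaf (nat_lit 0x2702064421))) (.node 1 (.leaf (nat_lit 0x250405e571)) (.leaf (nat_lit 0x250505e591)))))) (.node 8 (.node 4 (.node 2 (.node 1 (.leaf (nat_lit 0x250205e5b1)) (.leaf (nat_lit 0x250205e5c1))) (.node 1 (.leaf (nat_lit 0x250205e5d1)) (.leaf (nat_lit 0x250405e5d1)))) (.node 2 (.node 1 (.leaf (nat_lit 0x250505e5e1)) (.leaf (nat_lit 0x250105e5f1))) (.node 1 (.leaf (nat_lit 0x250705e631)) (.leaf (nat_lit 0x250305e641))))) (.node 4 (.node 2 (.node 1 (.leaf (nat_lit 0x250205e651)) (.leaf (nat_lit 0x250405e651))) (.node 1 (.leaf (nat_lit 0x250505e661)) (.leaf (nat_lit 0x250105e671)))) (.node 2 (.node 1 (.leaf (nat_lit 0x270105e691)) (.leaf (nat_lit 0x250705e6a1))) (.node 1 (.leaf (nat_lit 0x250305e6b1)) (.leaf (nat_lit 0x250305e6c1))))))))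

noncomputable def oT198 : Tree :=
  .node 64 (.node 32 (.node 16 (.node 8 (.node 4 (.node 2 (.node 1 (.leaf (nat_lit 0x250205e6d1)) (.leaf (nat_lit 0x250405e6d1))) (.node 1 (.leaf (nat_lit 0x250205e6e1)) (.leaf (nat_lit 0x250405e6e1)))) (.node 2 (.node 1 (.leaf (nat_lit 0x250105e6f1)) (.leaf (nat_lit 0x250405e6f1))) (.node 1 (.leaf (nat_lit 0x250505e701)) (.leaf (nat_lit 0x250605e711))))) (.node 4 (.node 2 (.node 1 (.leaf (nat_lit 0x250105e721)) (.leaf (nat_lit 0x250005e731))) (.node 1 (.leaf (nat_lit 0x250505e741)) (.leaf (nat_lit 0x250405e771)))) (.node 2 (.node 1 (.leaf (nat_lit 0x250505e781)) (.leaf (nat_lit 0x250305e7b1))) (.node 1 (.leaf (nat_lit 0x250205e7c1)) (.leaf (nat_lit 0x250405e7c1)))))) (.node 8 (.node 4 (.node 2 (.node 1 (.leaf (nat_lit 0x250105e7e1)) (.leaf (nat_lit 0x270205e7f1))) (.node 1 (.leaf (nat_lit 0x270105e801)) (.leaf (nat_lit 0x250105e811)))) (.node 2 (.node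 1 (.leaf (nat_lit 0x250405e811)) (.leaf (nat_lit 0x250505e821))) (.node 1 (.leaf (nat_lit 0x250005e841)) (.leaf (nat_lit 0x250205e851))))) (.node 4 (.node 2 (.node 1 (.leaf (nat_lit 0x250405e851)) (.leaf (nat_lit 0x250505e861))) (.node 1 (.leaf (nat_lit 0x250305e871)) (.leaf (nat_lit 0x250205e881)))) (.node 2 (.node 1 (.leaf (nat_lit 0x250405e881)) (.leaf (nat_lit 0x250105e891))) (.node 1 (.leaf (nat_lit 0x250405e891)) (.leaf (nat_lit 0x250505e8a1))))))) (.node 16 (.node 8 (.node 4 (.node 2 (.node 1 (.leaf (nat_lit 0x250005e8c1)) (.leaf (nat_lit 0x270205e8e1))) (.node 1 (.leaf (nat_lit 0x250305e8f1)) (.leaf (nat_lit 0x270205e901)))) (.node 2 (.node 1 (.leaf (nat_lit 0x270405e901)) (.leaf (nat_lit 0x270105e911))) (.node 1 (.leaf (nat_lit 0x270205e921)) (.leaf (nat_lit 0x270405e921))))) (.node 4 (.node 2 (.node 1 (.leaf (nat_lit 0x270105e941)) (.leaf (nat_lit 0x270405e941))) (.node 1 (.leaf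 (nat_lit 0x270005e961)) (.leaf (nat_lit 0x250205e971)))) (.node 2 (.node 1 (.leaf (nat_lit 0x250405e971)) (.leaf (nat_lit 0x250205e991))) (.node 1 (.leaf (nat_lit 0x250405e991)) (.leaf (nat_lit 0x250205e9a1)))))) (.node 8 (.node 4 (.node 2 (.node 1 (.leaf (nat_lit 0x250105e9b1)) (.leaf (nat_lit 0x250405e9b1))) (.node 1 (.leaf (nat_lit 0x250505e9c1)) (.leaf (nat_lit 0x250205e9e1)))) (.node 2 (.node 1 (.leaf (nat_lit 0x250405e9e1)) (.leaf (nat_lit 0x250105e9f1))) (.node 1 (.leaf (nat_lit 0x250405e9f1)) (.leaf (nat_lit 0x250205ea11))))) (.node 4 (.node 2 (.node 1 (.leaf (nat_lit 0x250105ea21)) (.leaf (nat_lit 0x250405ea21))) (.node 1 (.leaf (nat_lit 0x250005ea41)) (.leaf (nat_lit 0x250405ea41)))) (.node 2 (.node 1 (.leaf (nat_lit 0x250505ea51)) (.leaf (nat_lit 0x250605ea61))) (.node 1 (.leaf (nat_lit 0x250105ea81)) (.leaf (nat_lit 0x250005ea91)))))))) (.node 32 (.node 16 (.node 8 (.node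 4 (.node 2 (.node 1 (.leaf (nat_lit 0x270305ead1)) (.leaf (nat_lit 0x270205eae1))) (.node 1 (.leaf (nat_lit 0x270105eaf1)) (.leaf (nat_lit 0x250005eb01)))) (.node 2 (.node 1 (.leaf (nat_lit 0x250105eb11)) (.leaf (nat_lit 0x270205eb21))) (.node 1 (.leaf (nat_lit 0x270105eb31)) (.leaf (nat_lit 0x250105eb41))))) (.node 4 (.node 2 (.node 1 (.leaf (nat_lit 0x250005eb51)) (.leaf (nat_lit 0x270305eb61))) (.node 1 (.leaf (nat_lit 0x2704065ed1)) (.leaf (nat_lit 0x250305eb81)))) (.node 2 (.node 1 (.leaf (nat_lit 0x270205eb91)) (.leaf (nat_lit 0x270405eb91))) (.node 1 (.leaf (nat_lit 0x270105eba1)) (.leaf (nat_lit 0x270305ebb1)))))) (.node 8 (.node 4 (.node 2 (.node 1 (.leaf (nat_lit 0x270205ebc1)) (.leaf (nat_lit 0x270305ebd1))) (.node 1 (.leaf (nat_lit 0x270205ebe1)) (.leaf (nat_lit 0x270205ebf1)))) (.node 2 (.node 1 (.leaf (nat_lit 0x270405ebf1)) (.leaf (nat_lit 0x2704065f11))) (.node 1 (.leaf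 (nat_lit 0x250205ec11)) (.leaf (nat_lit 0x270105ec21))))) (.node 4 (.node 2 (.node 1 (.leaf (nat_lit 0x290005ec31)) (.leaf (nat_lit 0x250305ec41))) (.node 1 (.leaf (nat_lit 0x250205ec51)) (.leaf (nat_lit 0x250205ec61)))) (.node 2 (.node 1 (.leaf (nat_lit 0x250405ec61)) (.leaf (nat_lit 0x250105ec71))) (.node 1 (.leaf (nat_lit 0x250205ec81)) (.leaf (nat_lit 0x250405ec81))))))) (.node 16 (.node 8 (.node 4 (.node 2 (.node 1 (.leaf (nat_lit 0x250105ec91)) (.leaf (nat_lit 0x250105eca1))) (.node 1 (.leaf (nat_lit 0x250405eca1)) (.leaf (nat_lit 0x250005ecc1)))) (.node 2 (.node 1 (.leaf (nat_lit 0x250005ecd1)) (.leaf (nat_lit 0x270405ecf1))) (.node 1 (.leaf (nat_lit 0x250205ed21)) (.leaf (nat_lit 0x250405ed21))))) (.node 4 (.node 2 (.node 1 (.leaf (nat_lit 0x250105ed41)) (.leaf (nat_lit 0x270105ed51))) (.node 1 (.leaf (nat_lit 0x250005ed61)) (.leaf (nat_lit 0x270205ed71)))) (.node 2 (.node 1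 (.leaf (nat_lit 0x270205ed81)) (.leaf (nat_lit 0x270405ed81))) (.node 1 (.leaf (nat_lit 0x270105ed91)) (.leaf (nat_lit 0x270205eda1)))))) (.node 8 (.node 4 (.node 2 (.node 1 (.leaf (nat_lit 0x270105edb1)) (.leaf (nat_lit 0x290005edc1))) (.node 1 (.leaf (nat_lit 0x250205edd1)) (.leaf (nat_lit 0x250205ede1)))) (.node 2 (.node 1 (.leaf (nat_lit 0x250105edf1)) (.leaf (nat_lit 0x250205ee01))) (.node 1 (.leaf (nat_lit 0x250105ee11)) (.leaf (nat_lit 0x250005ee21))))) (.node 4 (.node 2 (.node 1 (.leaf (nat_lit 0x250305ee41)) (.leaf (nat_lit 0x250405ee51))) (.node 1 (.leaf (nat_lit 0x250305ee61)) (.leaf (nat_lit 0x250205ee71)))) (.node 2 (.node 1 (.leaf (nat_lit 0x250405ee71)) (.leaf (nat_lit 0x250405ee81))) (.node 1 (.leaf (nat_lit 0x250305eea1)) (.leaf (nat_lit 0x250205eeb1))))))))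

noncomputable def oT199 : Tree :=
  .node 64 (.node 32 (.node 16 (.node 8 (.node 4 (.node 2 (.node 1 (.leaf (nat_lit 0x250405eeb1)) (.leaf (nat_lit 0x250105eec1))) (.node 1 (.leaf (nat_lit 0x250405eec1)) (.leaf (nat_lit 0x250005eee1)))) (.node 2 (.node 1 (.leaf (nat_lit 0x270305eef1)) (.leaf (nat_lit 0x2704065fa1))) (.node 1 (.leaf (nat_lit 0x270205ef11)) (.leaf (nat_lit 0x270405ef11))))) (.node 4 (.node 2 (.node 1 (.leaf (nat_lit 0x270105ef21)) (.leaf (nat_lit 0x250405f2f1))) (.node 1 (.leaf (nat_lit 0x270205ef41)) (.leaf (nat_lit 0x270105ef51)))) (.node 2 (.node 1 (.leaf (nat_lit 0x270005ef61)) (.leaf (nat_lit 0x250205ef71))) (.node 1 (.leaf (nat_lit 0x250305ef81)) (.leaf (nat_lit 0x250305ef91)))))) (.node 8 (.node 4 (.node 2 (.node 1 (.leaf (nat_lit 0x250205efa1)) (.leaf (nat_lit 0x250205efb1))) (.node 1 (.leaf (nat_lit 0x250405efb1)) (.leaf (nat_lit 0x250105efc1)))) (.node 2 (.node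 1 (.leaf (nat_lit 0x250705efd1)) (.leaf (nat_lit 0x250305efe1))) (.node 1 (.leaf (nat_lit 0x250305eff1)) (.leaf (nat_lit 0x250205f001))))) (.node 4 (.node 2 (.node 1 (.leaf (nat_lit 0x250405f001)) (.leaf (nat_lit 0x250205f011))) (.node 1 (.leaf (nat_lit 0x250105f021)) (.leaf (nat_lit 0x270305f031)))) (.node 2 (.node 1 (.leaf (nat_lit 0x250205f041)) (.leaf (nat_lit 0x250405f041))) (.node 1 (.leaf (nat_lit 0x250105f051)) (.leaf (nat_lit 0x250405f051))))))) (.node 16 (.node 8 (.node 4 (.node 2 (.node 1 (.leaf (nat_lit 0x250005f071)) (.leaf (nat_lit 0x27040645a1))) (.node 1 (.leaf (nat_lit 0x250105f091)) (.leaf (nat_lit 0x250005f0a1)))) (.node 2 (.node 1 (.leaf (nat_lit 0x250405f0d1)) (.leaf (nat_lit 0x250405f0f1))) (.node 1 (.leaf (nat_lit 0x270205f111)) (.leaf (nat_lit 0x270405f111))))) (.node 4 (.node 2 (.node 1 (.leaf (nat_lit 0x2704066961)) (.leaf (nat_lit 0x270205f131))) (.node 1 (.leaf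 (nat_lit 0x270405f131)) (.leaf (nat_lit 0x290105f141)))) (.node 2 (.node 1 (.leaf (nat_lit 0x290405f141)) (.leaf (nat_lit 0x29030684f1))) (.node 1 (.leaf (nat_lit 0x250505f181)) (.leaf (nat_lit 0x250505f2e1)))))) (.node 8 (.node 4 (.node 2 (.node 1 (.leaf (nat_lit 0x250405f301)) (.leaf (nat_lit 0x250405f291))) (.node 1 (.leaf (nat_lit 0x270105f1a1)) (.leaf (nat_lit 0x270405f1a1)))) (.node 2 (.node 1 (.leaf (nat_lit 0x250405f1e1)) (.leaf (nat_lit 0x27040685d1))) (.node 1 (.leaf (nat_lit 0x250105f1d1)) (.leaf (nat_lit 0x250205f1e1))))) (.node 4 (.node 2 (.node 1 (.leaf (nat_lit 0x250305f1f1)) (.leaf (nat_lit 0x270205f201))) (.node 1 (.leaf (nat_lit 0x270105f211)) (.leaf (nat_lit 0x270005f221)))) (.node 2 (.node 1 (.leaf (nat_lit 0x250205f241)) (.leaf (nat_lit 0x250105f251))) (.node 1 (.leaf (nat_lit 0x250205f261)) (.leaf (nat_lit 0x250405f261)))))))) (.node 32 (.node 16 (.node 8 (.node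 4 (.node 2 (.node 1 (.leaf (nat_lit 0x250105f271)) (.leaf (nat_lit 0x250405f271))) (.node 1 (.leaf (nat_lit 0x250005f291)) (.leaf (nat_lit 0x250305f2a1)))) (.node 2 (.node 1 (.leaf (nat_lit 0x250205f2b1)) (.leaf (nat_lit 0x250405f2b1))) (.node 1 (.leaf (nat_lit 0x250205f2c1)) (.leaf (nat_lit 0x250405f2c1))))) (.node 4 (.node 2 (.node 1 (.leaf (nat_lit 0x250105f2d1)) (.leaf (nat_lit 0x250405f2d1))) (.node 1 (.leaf (nat_lit 0x250105f2f1)) (.leaf (nat_lit 0x250005f301)))) (.node 2 (.node 1 (.leaf (nat_lit 0x270305f3a1)) (.leaf (nat_lit 0x250305f431))) (.node 1 (.leaf (nat_lit 0x250105f321)) (.leaf (nat_lit 0x250405f321)))))) (.node 8 (.node 4 (.node 2 (.node 1 (.leaf (nat_lit 0x250505f331)) (.leaf (nat_lit 0x250005f341))) (.node 1 (.leaf (nat_lit 0x250405f341)) (.leaf (nat_lit 0x250505f351)))) (.node 2 (.node 1 (.leaf (nat_lit 0x250405f371)) (.leaf (nat_lit 0x250505f381))) (.node 1 (.leaf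 (nat_lit 0x2704064631)) (.leaf (nat_lit 0x250005f3b1))))) (.node 4 (.node 2 (.node 1 (.leaf (nat_lit 0x250505f431)) (.leaf (nat_lit 0x250405f401))) (.node 1 (.leaf (nat_lit 0x250405f461)) (.leaf (nat_lit 0x250405f491)))) (.node 2 (.node 1 (.leaf (nat_lit 0x250405f4b1)) (.leaf (nat_lit 0x250405f4d1))) (.node 1 (.leaf (nat_lit 0x250505f4e1)) (.leaf (nat_lit 0x260305f521))))))) (.node 16 (.node 8 (.node 4 (.node 2 (.node 1 (.leaf (nat_lit 0x260205f531)) (.leaf (nat_lit 0x260405f541))) (.node 1 (.leaf (nat_lit 0x260305f551)) (.leaf (nat_lit 0x260405f661)))) (.node 2 (.node 1 (.leaf (nat_lit 0x260305f571)) (.leaf (nat_lit 0x260205f581))) (.node 1 (.leaf (nat_lit 0x260205f591)) (.leaf (nat_lit 0x260405f591))))) (.node 4 (.node 2 (.node 1 (.leaf (nat_lit 0x260105f5a1)) (.leaf (nat_lit 0x260405f5c1))) (.node 1 (.leaf (nat_lit 0x260305f5e1)) (.leaf (nat_lit 0x260205f5f1)))) (.node 2 (.node 1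 (.leaf (nat_lit 0x260105f601)) (.leaf (nat_lit 0x260205f611))) (.node 1 (.leaf (nat_lit 0x260205f621)) (.leaf (nat_lit 0x260405f621)))))) (.node 8 (.node 4 (.node 2 (.node 1 (.leaf (nat_lit 0x260105f631)) (.leaf (nat_lit 0x260405f641))) (.node 1 (.leaf (nat_lit 0x260105f661)) (.leaf (nat_lit 0x260105f671)))) (.node 2 (.node 1 (.leaf (nat_lit 0x260305f681)) (.leaf (nat_lit 0x260205f691))) (.node 1 (.leaf (nat_lit 0x260405f691)) (.leaf (nat_lit 0x260105f6a1))))) (.node 4 (.node 2 (.node 1 (.leaf (nat_lit 0x260405f6a1)) (.leaf (nat_lit 0x260005f6c1))) (.node 1 (.leaf (nat_lit 0x260405f6e1)) (.leaf (nat_lit 0x260305f6f1)))) (.node 2 (.node 1 (.leaf (nat_lit 0x260705f711)) (.leaf (nat_lit 0x260705f721))) (.node 1 (.leaf (nat_lit 0x260305f731)) (.leaf (nat_lit 0x260705f741))))))))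

noncomputable def oT200 : Tree :=
  .node 64 (.node 32 (.node 16 (.node 8 (.node 4 (.node 2 (.node 1 (.leaf (nat_lit 0x260305f751)) (.leaf (nat_lit 0x260705f761))) (.node 1 (.leaf (nat_lit 0x260705f771)) (.leaf (nat_lit 0x260305f781)))) (.node 2 (.node 1 (.leaf (nat_lit 0x260405f791)) (.leaf (nat_lit 0x260305f7a1))) (.node 1 (.leaf (nat_lit 0x260205f7b1)) (.leaf (nat_lit 0x260305f7c1))))) (.node 4 (.node 2 (.node 1 (.leaf (nat_lit 0x260705f7d1)) (.leaf (nat_lit 0x260305f7e1))) (.node 1 (.leaf (nat_lit 0x260405f7f1)) (.leaf (nat_lit 0x260705f801)))) (.node 2 (.node 1 (.leaf (nat_lit 0x260305f811)) (.leaf (nat_lit 0x2804060011))) (.node 1 (.leaf (nat_lit 0x260705f831)) (.leaf (nat_lit 0x260305f841)))))) (.node 8 (.node 4 (.node 2 (.node 1 (.leaf (nat_lit 0x260205f851)) (.leaf (nat_lit 0x260405f851))) (.node 1 (.leaf (nat_lit 0x260505f861)) (.leaf (nat_lit 0x260205f871)))) (.node 2 (.node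 1 (.leaf (nat_lit 0x260405f871)) (.leaf (nat_lit 0x260105f881))) (.node 1 (.leaf (nat_lit 0x2602060111)) (.leaf (nat_lit 0x260305f8a1))))) (.node 4 (.node 2 (.node 1 (.leaf (nat_lit 0x260205f8b1)) (.leaf (nat_lit 0x260405f8b1))) (.node 1 (.leaf (nat_lit 0x260405f8e1)) (.leaf (nat_lit 0x260205f901)))) (.node 2 (.node 1 (.leaf (nat_lit 0x260305f911)) (.leaf (nat_lit 0x260205f921))) (.node 1 (.leaf (nat_lit 0x260305f931)) (.leaf (nat_lit 0x260505f931))))))) (.node 16 (.node 8 (.node 4 (.node 2 (.node 1 (.leaf (nat_lit 0x260305f941)) (.leaf (nat_lit 0x260205f951))) (.node 1 (.leaf (nat_lit 0x2605060261)) (.leaf (nat_lit 0x2804060271)))) (.node 2 (.node 1 (.leaf (nat_lit 0x260705f971)) (.leaf (nat_lit 0x260305f981))) (.node 1 (.leaf (nat_lit 0x260205f991)) (.leaf (nat_lit 0x260405f991))))) (.node 4 (.node 2 (.node 1 (.leaf (nat_lit 0x260705f9b1)) (.leaf (nat_lit 0x260305f9c1))) (.node 1 (.leaf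 (nat_lit 0x260305f9d1)) (.leaf (nat_lit 0x260205f9e1)))) (.node 2 (.node 1 (.leaf (nat_lit 0x260405f9e1)) (.leaf (nat_lit 0x260205f9f1))) (.node 1 (.leaf (nat_lit 0x260405f9f1)) (.leaf (nat_lit 0x260105fa01)))))) (.node 8 (.node 4 (.node 2 (.node 1 (.leaf (nat_lit 0x260405fa01)) (.leaf (nat_lit 0x260505fa11))) (.node 1 (.leaf (nat_lit 0x260605fa21)) (.leaf (nat_lit 0x260105fa31)))) (.node 2 (.node 1 (.leaf (nat_lit 0x260405fa31)) (.leaf (nat_lit 0x260005fa51))) (.node 1 (.leaf (nat_lit 0x260205fa61)) (.leaf (nat_lit 0x260405fa61))))) (.node 4 (.node 2 (.node 1 (.leaf (nat_lit 0x2602062e71)) (.leaf (nat_lit 0x2602060421))) (.node 1 (.leaf (nat_lit 0x260205faa1)) (.leaf (nat_lit 0x260405faa1)))) (.node 2 (.node 1 (.leaf (nat_lit 0x2605060461)) (.leaf (nat_lit 0x260405fad1))) (.node 1 (.leaf (nat_lit 0x260505fae1)) (.leaf (nat_lit 0x260305fb11)))))))) (.node 32 (.node 16 (.node 8 (.node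 4 (.node 2 (.node 1 (.leaf (nat_lit 0x260405fb21)) (.leaf (nat_lit 0x2603060b81))) (.node 1 (.leaf (nat_lit 0x260305fb51)) (.leaf (nat_lit 0x260705fb61)))) (.node 2 (.node 1 (.leaf (nat_lit 0x26020604f1)) (.leaf (nat_lit 0x260305fb81))) (.node 1 (.leaf (nat_lit 0x260405fb91)) (.leaf (nat_lit 0x260405fbb1))))) (.node 4 (.node 2 (.node 1 (.leaf (nat_lit 0x260505fbc1)) (.leaf (nat_lit 0x260305fbf1))) (.node 1 (.leaf (nat_lit 0x260205fc01)) (.leaf (nat_lit 0x260705fc11)))) (.node 2 (.node 1 (.leaf (nat_lit 0x260305fc21)) (.leaf (nat_lit 0x260705fc31))) (.node 1 (.leaf (nat_lit 0x260305fc41)) (.leaf (nat_lit 0x260305fc51)))))) (.node 8 (.node 4 (.node 2 (.node 1 (.leaf (nat_lit 0x260405fc61)) (.leaf (nat_lit 0x260205fc71))) (.node 1 (.leaf (nat_lit 0x260305fc81)) (.leaf (nat_lit 0x260205fc91)))) (.node 2 (.node 1 (.leaf (nat_lit 0x260405fc91)) (.leaf (nat_lit 0x260205fcb1))) (.node 1 (.leaf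 (nat_lit 0x260405fcb1)) (.leaf (nat_lit 0x260105fcc1))))) (.node 4 (.node 2 (.node 1 (.leaf (nat_lit 0x260305fce1)) (.leaf (nat_lit 0x260205fcf1))) (.node 1 (.leaf (nat_lit 0x260205fd01)) (.leaf (nat_lit 0x260305fd11)))) (.node 2 (.node 1 (.leaf (nat_lit 0x260205fd21)) (.leaf (nat_lit 0x260405fd21))) (.node 1 (.leaf (nat_lit 0x260205fd41)) (.leaf (nat_lit 0x260405fd41))))))) (.node 16 (.node 8 (.node 4 (.node 2 (.node 1 (.leaf (nat_lit 0x260105fd51)) (.leaf (nat_lit 0x260305fd71))) (.node 1 (.leaf (nat_lit 0x260205fd81)) (.leaf (nat_lit 0x260105fd91)))) (.node 2 (.node 1 (.leaf (nat_lit 0x260105fda1)) (.leaf (nat_lit 0x260405fda1))) (.node 1 (.leaf (nat_lit 0x260305fdc1)) (.leaf (nat_lit 0x260205fdd1))))) (.node 4 (.node 2 (.node 1 (.leaf (nat_lit 0x260405fdd1)) (.leaf (nat_lit 0x260105fde1))) (.node 1 (.leaf (nat_lit 0x260405fde1)) (.leaf (nat_lit 0x260005fe01)))) (.node 2 (.node 1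 (.leaf (nat_lit 0x260405fe11)) (.leaf (nat_lit 0x260705fe41))) (.node 1 (.leaf (nat_lit 0x260305fe51)) (.leaf (nat_lit 0x260705fe61)))))) (.node 8 (.node 4 (.node 2 (.node 1 (.leaf (nat_lit 0x260705fe71)) (.leaf (nat_lit 0x280305fe81))) (.node 1 (.leaf (nat_lit 0x260405fe91)) (.leaf (nat_lit 0x260705fea1)))) (.node 2 (.node 1 (.leaf (nat_lit 0x260305feb1)) (.leaf (nat_lit 0x280205fec1))) (.node 1 (.leaf (nat_lit 0x260705fed1)) (.leaf (nat_lit 0x260305fee1))))) (.node 4 (.node 2 (.node 1 (.leaf (nat_lit 0x260305fef1)) (.leaf (nat_lit 0x260205ff01))) (.node 1 (.leaf (nat_lit 0x260405ff01)) (.leaf (nat_lit 0x260305ff11)))) (.node 2 (.node 1 (.leaf (nat_lit 0x260305ff21)) (.leaf (nat_lit 0x260205ff31))) (.node 1 (.leaf (nat_lit 0x260405ff31)) (.leaf (nat_lit 0x260505ff41))))))))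

noncomputable def oT201 : Tree :=
  .node 64 (.node 32 (.node 16 (.node 8 (.node 4 (.node 2 (.node 1 (.leaf (nat_lit 0x260205ff51)) (.leaf (nat_lit 0x260405ff51))) (.node 1 (.leaf (nat_lit 0x260105ff61)) (.leaf (nat_lit 0x260705ff71)))) (.node 2 (.node 1 (.leaf (nat_lit 0x280305ff81)) (.leaf (nat_lit 0x280205ff91))) (.node 1 (.leaf (nat_lit 0x260305ffa1)) (.leaf (nat_lit 0x260405ffb1))))) (.node 4 (.node 2 (.node 1 (.leaf (nat_lit 0x2605061fd1)) (.leaf (nat_lit 0x260205ffd1))) (.node 1 (.leaf (nat_lit 0x260405ffd1)) (.leaf (nat_lit 0x260505ffe1)))) (.node 2 (.node 1 (.leaf (nat_lit 0x260305fff1)) (.leaf (nat_lit 0x2602060001))) (.node 1 (.leaf (nat_lit 0x2604060001)) (.leaf (nat_lit 0x2801060011)))))) (.node 8 (.node 4 (.node 2 (.node 1 (.leaf (nat_lit 0x2603060021)) (.leaf (nat_lit 0x2602060031))) (.node 1 (.leaf (nat_lit 0x2604060031)) (.leaf (nat_lit 0x2603060051)))) (.node 2 (.node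 1 (.leaf (nat_lit 0x2603060061)) (.leaf (nat_lit 0x2602060071))) (.node 1 (.leaf (nat_lit 0x2604060071)) (.leaf (nat_lit 0x2602060081))))) (.node 4 (.node 2 (.node 1 (.leaf (nat_lit 0x2601060091)) (.leaf (nat_lit 0x2604060091))) (.node 1 (.leaf (nat_lit 0x26050600a1)) (.leaf (nat_lit 0x26030600c1)))) (.node 2 (.node 1 (.leaf (nat_lit 0x26020600d1)) (.leaf (nat_lit 0x26040600d1))) (.node 1 (.leaf (nat_lit 0x26010600e1)) (.leaf (nat_lit 0x26040600e1))))))) (.node 16 (.node 8 (.node 4 (.node 2 (.node 1 (.leaf (nat_lit 0x2600060101)) (.leaf (nat_lit 0x2604060121))) (.node 1 (.leaf (nat_lit 0x2604060131)) (.leaf (nat_lit 0x2604060151)))) (.node 2 (.node 1 (.leaf (nat_lit 0x2603060171)) (.leaf (nat_lit 0x2607060181))) (.node 1 (.leaf (nat_lit 0x2603060191)) (.leaf (nat_lit 0x28020601a1))))) (.node 4 (.node 2 (.node 1 (.leaf (nat_lit 0x26050631c1)) (.leaf (nat_lit 0x28010601b1))) (.node 1 (.leaf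 (nat_lit 0x26030601c1)) (.leaf (nat_lit 0x2605060521)))) (.node 2 (.node 1 (.leaf (nat_lit 0x26020601e1)) (.leaf (nat_lit 0x26040601e1))) (.node 1 (.leaf (nat_lit 0x26070604e1)) (.leaf (nat_lit 0x2601060201)))))) (.node 8 (.node 4 (.node 2 (.node 1 (.leaf (nat_lit 0x2604060201)) (.leaf (nat_lit 0x2604061b61))) (.node 1 (.leaf (nat_lit 0x26070604f1)) (.leaf (nat_lit 0x2603060231)))) (.node 2 (.node 1 (.leaf (nat_lit 0x2602060241)) (.leaf (nat_lit 0x2604060241))) (.node 1 (.leaf (nat_lit 0x2601060251)) (.leaf (nat_lit 0x2604060251))))) (.node 4 (.node 2 (.node 1 (.leaf (nat_lit 0x2800060271)) (.leaf (nat_lit 0x2603060281))) (.node 1 (.leaf (nat_lit 0x2602060291)) (.leaf (nat_lit 0x2604060291)))) (.node 2 (.node 1 (.leaf (nat_lit 0x26030602b1)) (.leaf (nat_lit 0x26020602c1))) (.node 1 (.leaf (nat_lit 0x26040602c1)) (.leaf (nat_lit 0x26020602d1)))))))) (.node 32 (.node 16 (.node 8 (.node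 4 (.node 2 (.node 1 (.leaf (nat_lit 0x26010602e1)) (.leaf (nat_lit 0x26040602e1))) (.node 1 (.leaf (nat_lit 0x26050602f1)) (.leaf (nat_lit 0x2602060311)))) (.node 2 (.node 1 (.leaf (nat_lit 0x2604060311)) (.leaf (nat_lit 0x2601060321))) (.node 1 (.leaf (nat_lit 0x2604060321)) (.leaf (nat_lit 0x2605060331))))) (.node 4 (.node 2 (.node 1 (.leaf (nat_lit 0x2603060341)) (.leaf (nat_lit 0x2602060351))) (.node 1 (.leaf (nat_lit 0x2601060361)) (.leaf (nat_lit 0x2600060371)))) (.node 2 (.node 1 (.leaf (nat_lit 0x2604060371)) (.leaf (nat_lit 0x2605060381))) (.node 1 (.leaf (nat_lit 0x2606060391)) (.leaf (nat_lit 0x28020603b1)))))) (.node 8 (.node 4 (.node 2 (.node 1 (.leaf (nat_lit 0x26050632e1)) (.leaf (nat_lit 0x26010603c1))) (.node 1 (.leaf (nat_lit 0x26040603c1)) (.leaf (nat_lit 0x26000603e1)))) (.node 2 (.node 1 (.leaf (nat_lit 0x26040603e1)) (.leaf (nat_lit 0x26030603f1))) (.node 1 (.leaf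 (nat_lit 0x26070604a1)) (.leaf (nat_lit 0x2605060441))))) (.node 4 (.node 2 (.node 1 (.leaf (nat_lit 0x2604060451)) (.leaf (nat_lit 0x26040619c1))) (.node 1 (.leaf (nat_lit 0x2603060481)) (.leaf (nat_lit 0x2607060491)))) (.node 2 (.node 1 (.leaf (nat_lit 0x2608060501)) (.leaf (nat_lit 0x2604060511))) (.node 1 (.leaf (nat_lit 0x2606060541)) (.leaf (nat_lit 0x2603060561))))))) (.node 16 (.node 8 (.node 4 (.node 2 (.node 1 (.leaf (nat_lit 0x2602060571)) (.leaf (nat_lit 0x2603060581))) (.node 1 (.leaf (nat_lit 0x2603060591)) (.leaf (nat_lit 0x26040605a1)))) (.node 2 (.node 1 (.leaf (nat_lit 0x26030605b1)) (.leaf (nat_lit 0x26020605c1))) (.node 1 (.leaf (nat_lit 0x26040605d1)) (.leaf (nat_lit 0x26030605e1))))) (.node 4 (.node 2 (.node 1 (.leaf (nat_lit 0x26020605f1)) (.leaf (nat_lit 0x2602060601))) (.node 1 (.leaf (nat_lit 0x2604060601)) (.leaf (nat_lit 0x2602060621)))) (.node 2 (.node 1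 (.leaf (nat_lit 0x2604060621)) (.leaf (nat_lit 0x2601060631))) (.node 1 (.leaf (nat_lit 0x2607060651)) (.leaf (nat_lit 0x2607060661)))))) (.node 8 (.node 4 (.node 2 (.node 1 (.leaf (nat_lit 0x2603060671)) (.leaf (nat_lit 0x2604060681))) (.node 1 (.leaf (nat_lit 0x2603060691)) (.leaf (nat_lit 0x26020606a1)))) (.node 2 (.node 1 (.leaf (nat_lit 0x26020606b1)) (.leaf (nat_lit 0x26030606c1))) (.node 1 (.leaf (nat_lit 0x26040606d1)) (.leaf (nat_lit 0x26030606e1))))) (.node 4 (.node 2 (.node 1 (.leaf (nat_lit 0x26020606f1)) (.leaf (nat_lit 0x26040606f1))) (.node 1 (.leaf (nat_lit 0x2605060701)) (.leaf (nat_lit 0x2603060711)))) (.node 2 (.node 1 (.leaf (nat_lit 0x2602060721)) (.leaf (nat_lit 0x2604060721))) (.node 1 (.leaf (nat_lit 0x2601060731)) (.leaf (nat_lit 0x2604060751))))))))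

noncomputable def oT202 : Tree :=
  .node 64 (.node 32 (.node 16 (.node 8 (.node 4 (.node 2 (.node 1 (.leaf (nat_lit 0x2604060761)) (.leaf (nat_lit 0x2602060781))) (.node 1 (.leaf (nat_lit 0x2801060791)) (.leaf (nat_lit 0x26020607a1)))) (.node 2 (.node 1 (.leaf (nat_lit 0x26040607a1)) (.leaf (nat_lit 0x26020607c1))) (.node 1 (.leaf (nat_lit 0x26040607c1)) (.leaf (nat_lit 0x26010607d1))))) (.node 4 (.node 2 (.node 1 (.leaf (nat_lit 0x26040607d1)) (.leaf (nat_lit 0x26050607e1))) (.node 1 (.leaf (nat_lit 0x2602060801)) (.leaf (nat_lit 0x2604060801)))) (.node 2 (.node 1 (.leaf (nat_lit 0x2601060811)) (.leaf (nat_lit 0x2604060811))) (.node 1 (.leaf (nat_lit 0x2600060831)) (.leaf (nat_lit 0x2603060851)))))) (.node 8 (.node 4 (.node 2 (.node 1 (.leaf (nat_lit 0x2602060871)) (.leaf (nat_lit 0x2602060881))) (.node 1 (.leaf (nat_lit 0x2607060891)) (.leaf (nat_lit 0x26030608a1)))) (.node 2 (.node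 1 (.leaf (nat_lit 0x26030608b1)) (.leaf (nat_lit 0x26020608c1))) (.node 1 (.leaf (nat_lit 0x26040608c1)) (.leaf (nat_lit 0x26010608e1))))) (.node 4 (.node 2 (.node 1 (.leaf (nat_lit 0x26030608f1)) (.leaf (nat_lit 0x2607060901))) (.node 1 (.leaf (nat_lit 0x2607060911)) (.leaf (nat_lit 0x2603060921)))) (.node 2 (.node 1 (.leaf (nat_lit 0x2604060931)) (.leaf (nat_lit 0x2603060941))) (.node 1 (.leaf (nat_lit 0x2602060951)) (.leaf (nat_lit 0x2603060961))))))) (.node 16 (.node 8 (.node 4 (.node 2 (.node 1 (.leaf (nat_lit 0x2804069911)) (.leaf (nat_lit 0x2603060981))) (.node 1 (.leaf (nat_lit 0x2604060991)) (.leaf (nat_lit 0x26030609a1)))) (.node 2 (.node 1 (.leaf (nat_lit 0x26030609b1)) (.leaf (nat_lit 0x26020609c1))) (.node 1 (.leaf (nat_lit 0x26040609c1)) (.leaf (nat_lit 0x26050609d1))))) (.node 4 (.node 2 (.node 1 (.leaf (nat_lit 0x26020609e1)) (.leaf (nat_lit 0x26040609e1))) (.node 1 (.leaf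 (nat_lit 0x26010609f1)) (.leaf (nat_lit 0x2604060a11)))) (.node 2 (.node 1 (.leaf (nat_lit 0x2802060a31)) (.leaf (nat_lit 0x2602060a41))) (.node 1 (.leaf (nat_lit 0x2603060a51)) (.leaf (nat_lit 0x2602060a61)))))) (.node 8 (.node 4 (.node 2 (.node 1 (.leaf (nat_lit 0x2804069981)) (.leaf (nat_lit 0x2602060a81))) (.node 1 (.leaf (nat_lit 0x2604060a81)) (.leaf (nat_lit 0x2604060a91)))) (.node 2 (.node 1 (.leaf (nat_lit 0x2605060aa1)) (.leaf (nat_lit 0x2602060ab1))) (.node 1 (.leaf (nat_lit 0x2604060ab1)) (.leaf (nat_lit 0x2601060ac1))))) (.node 4 (.node 2 (.node 1 (.leaf (nat_lit 0x2604060ac1)) (.leaf (nat_lit 0x2605060ad1))) (.node 1 (.leaf (nat_lit 0x2601060af1)) (.leaf (nat_lit 0x2604060af1)))) (.node 2 (.node 1 (.leaf (nat_lit 0x2600060b11)) (.leaf (nat_lit 0x2604060b31))) (.node 1 (.leaf (nat_lit 0x2605060b41)) (.leaf (nat_lit 0x2603060b61)))))))) (.node 32 (.node 16 (.node 8 (.node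 4 (.node 2 (.node 1 (.leaf (nat_lit 0x2607060b71)) (.leaf (nat_lit 0x2607060ba1))) (.node 1 (.leaf (nat_lit 0x2607060bb1)) (.leaf (nat_lit 0x2603060bc1)))) (.node 2 (.node 1 (.leaf (nat_lit 0x2603060be1)) (.leaf (nat_lit 0x2802060bf1))) (.node 1 (.leaf (nat_lit 0x2603060c01)) (.leaf (nat_lit 0x2602060c11))))) (.node 4 (.node 2 (.node 1 (.leaf (nat_lit 0x2604060c11)) (.leaf (nat_lit 0x2607060c21))) (.node 1 (.leaf (nat_lit 0x2603060c31)) (.leaf (nat_lit 0x2603060c41)))) (.node 2 (.node 1 (.leaf (nat_lit 0x2602060c51)) (.leaf (nat_lit 0x2604060c51))) (.node 1 (.leaf (nat_lit 0x2605060c61)) (.leaf (nat_lit 0x2602060c71)))))) (.node 8 (.node 4 (.node 2 (.node 1 (.leaf (nat_lit 0x2604060c71)) (.leaf (nat_lit 0x2601060c81))) (.node 1 (.leaf (nat_lit 0x26040632f1)) (.leaf (nat_lit 0x2607060ca1)))) (.node 2 (.node 1 (.leaf (nat_lit 0x2603060cb1)) (.leaf (nat_lit 0x2602060cc1))) (.node 1 (.leaf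 (nat_lit 0x2604060cc1)) (.leaf (nat_lit 0x2602060ce1))))) (.node 4 (.node 2 (.node 1 (.leaf (nat_lit 0x2604060ce1)) (.leaf (nat_lit 0x2801060cf1))) (.node 1 (.leaf (nat_lit 0x2603060d01)) (.leaf (nat_lit 0x2602060d11)))) (.node 2 (.node 1 (.leaf (nat_lit 0x2604060d11)) (.leaf (nat_lit 0x2605060d21))) (.node 1 (.leaf (nat_lit 0x2603060d31)) (.leaf (nat_lit 0x2602060d41))))))) (.node 16 (.node 8 (.node 4 (.node 2 (.node 1 (.leaf (nat_lit 0x2604060d41)) (.leaf (nat_lit 0x2602060d51))) (.node 1 (.leaf (nat_lit 0x2604060d51)) (.leaf (nat_lit 0x2601060d61)))) (.node 2 (.node 1 (.leaf (nat_lit 0x2604060d61)) (.leaf (nat_lit 0x2605060d71))) (.node 1 (.leaf (nat_lit 0x2602060d91)) (.leaf (nat_lit 0x2604060d91))))) (.node 4 (.node 2 (.node 1 (.leaf (nat_lit 0x2601060da1)) (.leaf (nat_lit 0x2604060da1))) (.node 1 (.leaf (nat_lit 0x2600060dc1)) (.leaf (nat_lit 0x2603060e11)))) (.node 2 (.node 1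 (.leaf (nat_lit 0x2802060e21)) (.leaf (nat_lit 0x2605063181))) (.node 1 (.leaf (nat_lit 0x2801060e31)) (.leaf (nat_lit 0x2607060e41)))))) (.node 8 (.node 4 (.node 2 (.node 1 (.leaf (nat_lit 0x2603060e51)) (.leaf (nat_lit 0x2603060e61))) (.node 1 (.leaf (nat_lit 0x2602060e71)) (.leaf (nat_lit 0x2604060e71)))) (.node 2 (.node 1 (.leaf (nat_lit 0x2602060e81)) (.leaf (nat_lit 0x2604060e81))) (.node 1 (.leaf (nat_lit 0x2601060e91)) (.leaf (nat_lit 0x2604060e91))))) (.node 4 (.node 2 (.node 1 (.leaf (nat_lit 0x2601060eb1)) (.leaf (nat_lit 0x2604060eb1))) (.node 1 (.leaf (nat_lit 0x2800060ed1)) (.leaf (nat_lit 0x2603060ee1)))) (.node 2 (.node 1 (.leaf (nat_lit 0x2602060ef1)) (.leaf (nat_lit 0x2603060f01))) (.node 1 (.leaf (nat_lit 0x2603060f11)) (.leaf (nat_lit 0x2602060f21))))))))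

noncomputable def oT203 : Tree :=
  .node 64 (.node 32 (.node 16 (.node 8 (.node 4 (.node 2 (.node 1 (.leaf (nat_lit 0x2604060f21)) (.leaf (nat_lit 0x2602060f31))) (.node 1 (.leaf (nat_lit 0x2604060f31)) (.leaf (nat_lit 0x2601060f41)))) (.node 2 (.node 1 (.leaf (nat_lit 0x2604060f41)) (.leaf (nat_lit 0x2605060f51))) (.node 1 (.leaf (nat_lit 0x2603060f71)) (.leaf (nat_lit 0x2602060f81))))) (.node 4 (.node 2 (.node 1 (.leaf (nat_lit 0x2604060f81)) (.leaf (nat_lit 0x2602060f91))) (.node 1 (.leaf (nat_lit 0x2604060f91)) (.leaf (nat_lit 0x2601060fa1)))) (.node 2 (.node 1 (.leaf (nat_lit 0x2604060fa1)) (.leaf (nat_lit 0x2605060fb1))) (.node 1 (.leaf (nat_lit 0x2602060fc1)) (.leaf (nat_lit 0x2604060fc1)))))) (.node 8 (.node 4 (.node 2 (.node 1 (.leaf (nat_lit 0x2601060fd1)) (.leaf (nat_lit 0x2604060fd1))) (.node 1 (.leaf (nat_lit 0x2605060fe1)) (.leaf (nat_lit 0x2600060ff1)))) (.node 2 (.node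 1 (.leaf (nat_lit 0x2604060ff1)) (.leaf (nat_lit 0x2605061001))) (.node 1 (.leaf (nat_lit 0x2606061011)) (.leaf (nat_lit 0x2605063391))))) (.node 4 (.node 2 (.node 1 (.leaf (nat_lit 0x2601061041)) (.leaf (nat_lit 0x2604061041))) (.node 1 (.leaf (nat_lit 0x2600061061)) (.leaf (nat_lit 0x2604061061)))) (.node 2 (.node 1 (.leaf (nat_lit 0x2603061071)) (.leaf (nat_lit 0x26050610a1))) (.node 1 (.leaf (nat_lit 0x26030610d1)) (.leaf (nat_lit 0x26070610f1))))))) (.node 16 (.node 8 (.node 4 (.node 2 (.node 1 (.leaf (nat_lit 0x2607061101)) (.leaf (nat_lit 0x2602061111))) (.node 1 (.leaf (nat_lit 0x2607061111)) (.leaf (nat_lit 0x2608061121)))) (.node 2 (.node 1 (.leaf (nat_lit 0x2604061131)) (.leaf (nat_lit 0x2604061161))) (.node 1 (.leaf (nat_lit 0x2604061181)) (.leaf (nat_lit 0x2605061191))))) (.node 4 (.node 2 (.node 1 (.leaf (nat_lit 0x26030611a1)) (.leaf (nat_lit 0x26050611a1))) (.node 1 (.leaf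 (nat_lit 0x28020611d1)) (.leaf (nat_lit 0x26020611e1)))) (.node 2 (.node 1 (.leaf (nat_lit 0x26040611e1)) (.leaf (nat_lit 0x2601061201))) (.node 1 (.leaf (nat_lit 0x2802061211)) (.leaf (nat_lit 0x2801061221)))))) (.node 8 (.node 4 (.node 2 (.node 1 (.leaf (nat_lit 0x2601061231)) (.leaf (nat_lit 0x2604061231))) (.node 1 (.leaf (nat_lit 0x2600061251)) (.leaf (nat_lit 0x2603061261)))) (.node 2 (.node 1 (.leaf (nat_lit 0x2802061271)) (.leaf (nat_lit 0x2602061281))) (.node 1 (.leaf (nat_lit 0x2604061281)) (.leaf (nat_lit 0x2605061291))))) (.node 4 (.node 2 (.node 1 (.leaf (nat_lit 0x26020612a1)) (.leaf (nat_lit 0x26040612a1))) (.node 1 (.leaf (nat_lit 0x26010612b1)) (.leaf (nat_lit 0x26030612c1)))) (.node 2 (.node 1 (.leaf (nat_lit 0x28020612d1)) (.leaf (nat_lit 0x26020612e1))) (.node 1 (.leaf (nat_lit 0x26040612e1)) (.leaf (nat_lit 0x28010612f1)))))))) (.node 32 (.node 16 (.node 8 (.node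 4 (.node 2 (.node 1 (.leaf (nat_lit 0x2601061301)) (.leaf (nat_lit 0x2604061301))) (.node 1 (.leaf (nat_lit 0x2600061321)) (.leaf (nat_lit 0x2602061341)))) (.node 2 (.node 1 (.leaf (nat_lit 0x2602061351)) (.leaf (nat_lit 0x2604061351))) (.node 1 (.leaf (nat_lit 0x2801061361)) (.leaf (nat_lit 0x2601061371))))) (.node 4 (.node 2 (.node 1 (.leaf (nat_lit 0x2601061381)) (.leaf (nat_lit 0x2604061381))) (.node 1 (.leaf (nat_lit 0x28000613a1)) (.leaf (nat_lit 0x26010613b1)))) (.node 2 (.node 1 (.leaf (nat_lit 0x26010613c1)) (.leaf (nat_lit 0x26010613d1))) (.node 1 (.leaf (nat_lit 0x26000613e1)) (.leaf (nat_lit 0x26020613f1)))))) (.node 8 (.node 4 (.node 2 (.node 1 (.leaf (nat_lit 0x26040613f1)) (.leaf (nat_lit 0x2601061401))) (.node 1 (.leaf (nat_lit 0x2604061401)) (.leaf (nat_lit 0x2600061421)))) (.node 2 (.node 1 (.leaf (nat_lit 0x2604061421)) (.leaf (nat_lit 0x2603061431))) (.node 1 (.leaf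 (nat_lit 0x2607061461)) (.leaf (nat_lit 0x2608061481))))) (.node 4 (.node 2 (.node 1 (.leaf (nat_lit 0x2602061491)) (.leaf (nat_lit 0x26010614a1))) (.node 1 (.leaf (nat_lit 0x28020614b1)) (.leaf (nat_lit 0x26020614c1)))) (.node 2 (.node 1 (.leaf (nat_lit 0x26040614c1)) (.leaf (nat_lit 0x28010614e1))) (.node 1 (.leaf (nat_lit 0x26020614f1)) (.leaf (nat_lit 0x26040614f1))))))) (.node 16 (.node 8 (.node 4 (.node 2 (.node 1 (.leaf (nat_lit 0x2601061501)) (.leaf (nat_lit 0x2604061501))) (.node 1 (.leaf (nat_lit 0x2600061521)) (.leaf (nat_lit 0x2603061531)))) (.node 2 (.node 1 (.leaf (nat_lit 0x2602061541)) (.leaf (nat_lit 0x2603061551))) (.node 1 (.leaf (nat_lit 0x2602061561)) (.leaf (nat_lit 0x2604061561))))) (.node 4 (.node 2 (.node 1 (.leaf (nat_lit 0x2605061571)) (.leaf (nat_lit 0x2602061581))) (.node 1 (.leaf (nat_lit 0x2604061581)) (.leaf (nat_lit 0x2601061591)))) (.node 2 (.node 1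 (.leaf (nat_lit 0x26030615a1)) (.leaf (nat_lit 0x26020615b1))) (.node 1 (.leaf (nat_lit 0x26030615c1)) (.leaf (nat_lit 0x26020615d1)))))) (.node 8 (.node 4 (.node 2 (.node 1 (.leaf (nat_lit 0x26040615d1)) (.leaf (nat_lit 0x26010615e1))) (.node 1 (.leaf (nat_lit 0x26010615f1)) (.leaf (nat_lit 0x26040615f1)))) (.node 2 (.node 1 (.leaf (nat_lit 0x2600061611)) (.leaf (nat_lit 0x2602061621))) (.node 1 (.leaf (nat_lit 0x2604061621)) (.leaf (nat_lit 0x2605062831))))) (.node 4 (.node 2 (.node 1 (.leaf (nat_lit 0x2603061651)) (.leaf (nat_lit 0x2603061661))) (.node 1 (.leaf (nat_lit 0x2602061671)) (.leaf (nat_lit 0x2802061681)))) (.node 2 (.node 1 (.leaf (nat_lit 0x2804061681)) (.leaf (nat_lit 0x2801061691))) (.node 1 (.leaf (nat_lit 0x26030616a1)) (.leaf (nat_lit 0x26020616b1))))))))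

noncomputable def oT204 : Tree :=
  .node 64 (.node 32 (.node 16 (.node 8 (.node 4 (.node 2 (.node 1 (.leaf (nat_lit 0x26030616c1)) (.leaf (nat_lit 0x26020616d1))) (.node 1 (.leaf (nat_lit 0x2605062951)) (.leaf (nat_lit 0x26010616e1)))) (.node 2 (.node 1 (.leaf (nat_lit 0x28020616f1)) (.leaf (nat_lit 0x2807068971))) (.node 1 (.leaf (nat_lit 0x2801061701)) (.leaf (nat_lit 0x2805069b91))))) (.node 4 (.node 2 (.node 1 (.leaf (nat_lit 0x2800061721)) (.leaf (nat_lit 0x2603061731))) (.node 1 (.leaf (nat_lit 0x2602061741)) (.leaf (nat_lit 0x2601061751)))) (.node 2 (.node 1 (.leaf (nat_lit 0x2603061761)) (.leaf (nat_lit 0x2602061771))) (.node 1 (.leaf (nat_lit 0x2604061771)) (.leaf (nat_lit 0x2602061781)))))) (.node 8 (.node 4 (.node 2 (.node 1 (.leaf (nat_lit 0x2601061791)) (.leaf (nat_lit 0x26010617a1))) (.node 1 (.leaf (nat_lit 0x26040617a1)) (.leaf (nat_lit 0x26000617c1)))) (.node 2 (.node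 1 (.leaf (nat_lit 0x26000617d1)) (.leaf (nat_lit 0x26040617d1))) (.node 1 (.leaf (nat_lit 0x26030617e1)) (.leaf (nat_lit 0x2602061801))))) (.node 4 (.node 2 (.node 1 (.leaf (nat_lit 0x2606061821)) (.leaf (nat_lit 0x2605062531))) (.node 1 (.leaf (nat_lit 0x2606061851)) (.leaf (nat_lit 0x26060630c1)))) (.node 2 (.node 1 (.leaf (nat_lit 0x2605063671)) (.leaf (nat_lit 0x2603061861))) (.node 1 (.leaf (nat_lit 0x2607061871)) (.leaf (nat_lit 0x26060622f1))))))) (.node 16 (.node 8 (.node 4 (.node 2 (.node 1 (.leaf (nat_lit 0x26080618a1)) (.leaf (nat_lit 0x28020618c1))) (.node 1 (.leaf (nat_lit 0x26030618d1)) (.leaf (nat_lit 0x26030618e1)))) (.node 2 (.node 1 (.leaf (nat_lit 0x26020618f1)) (.leaf (nat_lit 0x2603061901))) (.node 1 (.leaf (nat_lit 0x2802061911)) (.leaf (nat_lit 0x2804061911))))) (.node 4 (.node 2 (.node 1 (.leaf (nat_lit 0x2801061921)) (.leaf (nat_lit 0x2603061931))) (.node 1 (.leaf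 (nat_lit 0x2602061941)) (.leaf (nat_lit 0x2604061941)))) (.node 2 (.node 1 (.leaf (nat_lit 0x2603061951)) (.leaf (nat_lit 0x2603061961))) (.node 1 (.leaf (nat_lit 0x2602061971)) (.leaf (nat_lit 0x2604061971)))))) (.node 8 (.node 4 (.node 2 (.node 1 (.leaf (nat_lit 0x2604061981)) (.leaf (nat_lit 0x2605061991))) (.node 1 (.leaf (nat_lit 0x26030619a1)) (.leaf (nat_lit 0x26030619b1)))) (.node 2 (.node 1 (.leaf (nat_lit 0x26020619c1)) (.leaf (nat_lit 0x26030619d1))) (.node 1 (.leaf (nat_lit 0x26020619e1)) (.leaf (nat_lit 0x26040619e1))))) (.node 4 (.node 2 (.node 1 (.leaf (nat_lit 0x26010619f1)) (.leaf (nat_lit 0x26040619f1))) (.node 1 (.leaf (nat_lit 0x2605061a01)) (.leaf (nat_lit 0x2606061a11)))) (.node 2 (.node 1 (.leaf (nat_lit 0x2602061a21)) (.leaf (nat_lit 0x2604061a21))) (.node 1 (.leaf (nat_lit 0x2601061a31)) (.leaf (nat_lit 0x2604061a31)))))))) (.node 32 (.node 16 (.node 8 (.node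 4 (.node 2 (.node 1 (.leaf (nat_lit 0x2600061a51)) (.leaf (nat_lit 0x2602061a61))) (.node 1 (.leaf (nat_lit 0x2603061a71)) (.leaf (nat_lit 0x2802061a81)))) (.node 2 (.node 1 (.leaf (nat_lit 0x2804061a81)) (.leaf (nat_lit 0x2801061a91))) (.node 1 (.leaf (nat_lit 0x2602061aa1)) (.leaf (nat_lit 0x2603061ab1))))) (.node 4 (.node 2 (.node 1 (.leaf (nat_lit 0x2602061ac1)) (.leaf (nat_lit 0x2601061ad1))) (.node 1 (.leaf (nat_lit 0x2603061ae1)) (.leaf (nat_lit 0x2802061af1)))) (.node 2 (.node 1 (.leaf (nat_lit 0x2804061af1)) (.leaf (nat_lit 0x2801061b01))) (.node 1 (.leaf (nat_lit 0x280506a831)) (.leaf (nat_lit 0x2800061b21)))))) (.node 8 (.node 4 (.node 2 (.node 1 (.leaf (nat_lit 0x2602061b31)) (.leaf (nat_lit 0x2601061b41))) (.node 1 (.leaf (nat_lit 0x2603061b51)) (.leaf (nat_lit 0x2602061b61)))) (.node 2 (.node 1 (.leaf (nat_lit 0x2602061b71)) (.leaf (nat_lit 0x2601061b81))) (.node 1 (.leaf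 (nat_lit 0x2602061b91)) (.leaf (nat_lit 0x2601061ba1))))) (.node 4 (.node 2 (.node 1 (.leaf (nat_lit 0x2604061ba1)) (.leaf (nat_lit 0x2600061bc1))) (.node 1 (.leaf (nat_lit 0x2802061bd1)) (.leaf (nat_lit 0x2605063341)))) (.node 2 (.node 1 (.leaf (nat_lit 0x2601061be1)) (.leaf (nat_lit 0x2604061be1))) (.node 1 (.leaf (nat_lit 0x2600061c01)) (.leaf (nat_lit 0x2604061c01))))))) (.node 16 (.node 8 (.node 4 (.node 2 (.node 1 (.leaf (nat_lit 0x2603061c11)) (.leaf (nat_lit 0x2602061c41))) (.node 1 (.leaf (nat_lit 0x2606061ca1)) (.leaf (nat_lit 0x2602062121)))) (.node 2 (.node 1 (.leaf (nat_lit 0x2606061c81)) (.leaf (nat_lit 0x2806069a21))) (.node 1 (.leaf (nat_lit 0x2605062e81)) (.leaf (nat_lit 0x2605062c11))))) (.node 4 (.node 2 (.node 1 (.leaf (nat_lit 0x26050629d1)) (.leaf (nat_lit 0x2603061cb1))) (.node 1 (.leaf (nat_lit 0x2603061cc1)) (.leaf (nat_lit 0x2607061cd1)))) (.node 2 (.node 1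 (.leaf (nat_lit 0x2802061ce1)) (.leaf (nat_lit 0x2802061cf1))) (.node 1 (.leaf (nat_lit 0x2603061d01)) (.leaf (nat_lit 0x2802061d11)))))) (.node 8 (.node 4 (.node 2 (.node 1 (.leaf (nat_lit 0x2804061d11)) (.leaf (nat_lit 0x2801061d21))) (.node 1 (.leaf (nat_lit 0x2602061d31)) (.leaf (nat_lit 0x2603061d41)))) (.node 2 (.node 1 (.leaf (nat_lit 0x2802061d51)) (.leaf (nat_lit 0x2807069b31))) (.node 1 (.leaf (nat_lit 0x2a01061d61)) (.leaf (nat_lit 0x280506a891))))) (.node 4 (.node 2 (.node 1 (.leaf (nat_lit 0x2a00061d81)) (.leaf (nat_lit 0x2602061d91))) (.node 1 (.leaf (nat_lit 0x2602061da1)) (.leaf (nat_lit 0x2604061da1)))) (.node 2 (.node 1 (.leaf (nat_lit 0x2801061db1)) (.leaf (nat_lit 0x2603061dc1))) (.node 1 (.leaf (nat_lit 0x2603061dd1)) (.leaf (nat_lit 0x2802061de1))))))))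

noncomputable def oT205 : Tree :=
  .node 64 (.node 32 (.node 16 (.node 8 (.node 4 (.node 2 (.node 1 (.leaf (nat_lit 0x2805069451)) (.leaf (nat_lit 0x2602061df1))) (.node 1 (.leaf (nat_lit 0x2801061e01)) (.leaf (nat_lit 0x2603061e11)))) (.node 2 (.node 1 (.leaf (nat_lit 0x2802061e21)) (.leaf (nat_lit 0x2806061e41))) (.node 1 (.leaf (nat_lit 0x2801061e31)) (.leaf (nat_lit 0x28050697a1))))) (.node 4 (.node 2 (.node 1 (.leaf (nat_lit 0x2800061e51)) (.leaf (nat_lit 0x2801061e61))) (.node 1 (.leaf (nat_lit 0x2802061e71)) (.leaf (nat_lit 0x26060620b1)))) (.node 2 (.node 1 (.leaf (nat_lit 0x2801061e81)) (.leaf (nat_lit 0x2804061e81))) (.node 1 (.leaf (nat_lit 0x2805061e91)) (.leaf (nat_lit 0x2800061ea1)))))) (.node 8 (.node 4 (.node 2 (.node 1 (.leaf (nat_lit 0x2804061ea1)) (.leaf (nat_lit 0x2605063821))) (.node 1 (.leaf (nat_lit 0x2601061ed1)) (.leaf (nat_lit 0x2603061ee1)))) (.node 2 (.node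 1 (.leaf (nat_lit 0x2602061ef1)) (.leaf (nat_lit 0x2604061ef1))) (.node 1 (.leaf (nat_lit 0x2601061f01)) (.leaf (nat_lit 0x2602061f11))))) (.node 4 (.node 2 (.node 1 (.leaf (nat_lit 0x2601061f21)) (.leaf (nat_lit 0x2604061f21))) (.node 1 (.leaf (nat_lit 0x2600061f41)) (.leaf (nat_lit 0x2604061f41)))) (.node 2 (.node 1 (.leaf (nat_lit 0x2803061f61)) (.leaf (nat_lit 0x2603061f71))) (.node 1 (.leaf (nat_lit 0x2602061f81)) (.leaf (nat_lit 0x2604061f81))))))) (.node 16 (.node 8 (.node 4 (.node 2 (.node 1 (.leaf (nat_lit 0x2602061f91)) (.leaf (nat_lit 0x2604061f91))) (.node 1 (.leaf (nat_lit 0x2601061fa1)) (.leaf (nat_lit 0x2604061fa1)))) (.node 2 (.node 1 (.leaf (nat_lit 0x2605061fb1)) (.leaf (nat_lit 0x2601061fc1))) (.node 1 (.leaf (nat_lit 0x2604061fc1)) (.leaf (nat_lit 0x2600061fe1))))) (.node 4 (.node 2 (.node 1 (.leaf (nat_lit 0x2604061fe1)) (.leaf (nat_lit 0x2603061ff1))) (.node 1 (.leaf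 (nat_lit 0x2605061ff1)) (.leaf (nat_lit 0x2802062011)))) (.node 2 (.node 1 (.leaf (nat_lit 0x2804062011)) (.leaf (nat_lit 0x2601062021))) (.node 1 (.leaf (nat_lit 0x2604062021)) (.leaf (nat_lit 0x2605062031)))))) (.node 8 (.node 4 (.node 2 (.node 1 (.leaf (nat_lit 0x2600062041)) (.leaf (nat_lit 0x2604062041))) (.node 1 (.leaf (nat_lit 0x2603062051)) (.leaf (nat_lit 0x2605062051)))) (.node 2 (.node 1 (.leaf (nat_lit 0x2604062071)) (.leaf (nat_lit 0x2605062081))) (.node 1 (.leaf (nat_lit 0x2805063d61)) (.leaf (nat_lit 0x2605063361))))) (.node 4 (.node 2 (.node 1 (.leaf (nat_lit 0x26000620c1)) (.leaf (nat_lit 0x26040620c1))) (.node 1 (.leaf (nat_lit 0x26030620d1)) (.leaf (nat_lit 0x26040620e1)))) (.node 2 (.node 1 (.leaf (nat_lit 0x26030620f1)) (.leaf (nat_lit 0x2607062101))) (.node 1 (.leaf (nat_lit 0x2604062121)) (.leaf (nat_lit 0x2606062151)))))))) (.node 32 (.node 16 (.node 8 (.node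 4 (.node 2 (.node 1 (.leaf (nat_lit 0x2608062331)) (.leaf (nat_lit 0x2605062a11))) (.node 1 (.leaf (nat_lit 0x2606062211)) (.leaf (nat_lit 0x26010628b1)))) (.node 2 (.node 1 (.leaf (nat_lit 0x26060621c1)) (.leaf (nat_lit 0x26060621d1))) (.node 1 (.leaf (nat_lit 0x2605063791)) (.leaf (nat_lit 0x26050637c1))))) (.node 4 (.node 2 (.node 1 (.leaf (nat_lit 0x2605063801)) (.leaf (nat_lit 0x2604062261))) (.node 1 (.leaf (nat_lit 0x2607062201)) (.leaf (nat_lit 0x2605062ba1)))) (.node 2 (.node 1 (.leaf (nat_lit 0x2607062221)) (.leaf (nat_lit 0x2603062231))) (.node 1 (.leaf (nat_lit 0x2602062241)) (.leaf (nat_lit 0x2607062241)))))) (.node 8 (.node 4 (.node 2 (.node 1 (.leaf (nat_lit 0x2608062251)) (.leaf (nat_lit 0x2604062281))) (.node 1 (.leaf (nat_lit 0x26050623a1)) (.leaf (nat_lit 0x26030623a1)))) (.node 2 (.node 1 (.leaf (nat_lit 0x26060622e1)) (.leaf (nat_lit 0x2605062851))) (.node 1 (.leaf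 (nat_lit 0x2605063da1)) (.leaf (nat_lit 0x2605063db1))))) (.node 4 (.node 2 (.node 1 (.leaf (nat_lit 0x2608062301)) (.leaf (nat_lit 0x2602062311))) (.node 1 (.leaf (nat_lit 0x2607062311)) (.leaf (nat_lit 0x2607062321)))) (.node 2 (.node 1 (.leaf (nat_lit 0x2603062351)) (.leaf (nat_lit 0x2605062361))) (.node 1 (.leaf (nat_lit 0x2604062381)) (.leaf (nat_lit 0x2605062391))))))) (.node 16 (.node 8 (.node 4 (.node 2 (.node 1 (.leaf (nat_lit 0x26010623c1)) (.leaf (nat_lit 0x26000623d1))) (.node 1 (.leaf (nat_lit 0x26010623e1)) (.leaf (nat_lit 0x26010623f1)))) (.node 2 (.node 1 (.leaf (nat_lit 0x2600062401)) (.leaf (nat_lit 0x2600062411))) (.node 1 (.leaf (nat_lit 0x26040624c1)) (.leaf (nat_lit 0x2601062431))))) (.node 4 (.node 2 (.node 1 (.leaf (nat_lit 0x2600062441)) (.leaf (nat_lit 0x2602062451))) (.node 1 (.leaf (nat_lit 0x2604062451)) (.leaf (nat_lit 0x2601062461)))) (.node 2 (.node 1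 (.leaf (nat_lit 0x2602062471)) (.leaf (nat_lit 0x2604062471))) (.node 1 (.leaf (nat_lit 0x2601062481)) (.leaf (nat_lit 0x2602062491)))))) (.node 8 (.node 4 (.node 2 (.node 1 (.leaf (nat_lit 0x2604062491)) (.leaf (nat_lit 0x26010624a1))) (.node 1 (.leaf (nat_lit 0x26040624a1)) (.leaf (nat_lit 0x26000624c1)))) (.node 2 (.node 1 (.leaf (nat_lit 0x26010624d1)) (.leaf (nat_lit 0x26000624e1))) (.node 1 (.leaf (nat_lit 0x2602062521)) (.leaf (nat_lit 0x2604062521))))) (.node 4 (.node 2 (.node 1 (.leaf (nat_lit 0x2601062541)) (.leaf (nat_lit 0x2601062551))) (.node 1 (.leaf (nat_lit 0x2600062561)) (.leaf (nat_lit 0x2800062571)))) (.node 2 (.node 1 (.leaf (nat_lit 0x2602062581)) (.leaf (nat_lit 0x2601062591))) (.node 1 (.leaf (nat_lit 0x2604062591)) (.leaf (nat_lit 0x26000625b1))))))))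

noncomputable def oT206 : Tree :=
  .node 64 (.node 32 (.node 16 (.node 8 (.node 4 (.node 2 (.node 1 (.leaf (nat_lit 0x26040625b1)) (.leaf (nat_lit 0x26010625e1))) (.node 1 (.leaf (nat_lit 0x26000625f1)) (.leaf (nat_lit 0x2602062601)))) (.node 2 (.node 1 (.leaf (nat_lit 0x2604062601)) (.leaf (nat_lit 0x2601062611))) (.node 1 (.leaf (nat_lit 0x2604062611)) (.leaf (nat_lit 0x2600062631))))) (.node 4 (.node 2 (.node 1 (.leaf (nat_lit 0x2603062641)) (.leaf (nat_lit 0x2604062651))) (.node 1 (.leaf (nat_lit 0x2802062661)) (.leaf (nat_lit 0x2603062671)))) (.node 2 (.node 1 (.leaf (nat_lit 0x2605062671)) (.leaf (nat_lit 0x2802062681))) (.node 1 (.leaf (nat_lit 0x2804062681)) (.leaf (nat_lit 0x2801062691)))))) (.node 8 (.node 4 (.node 2 (.node 1 (.leaf (nat_lit 0x28020626a1)) (.leaf (nat_lit 0x28030626b1))) (.node 1 (.leaf (nat_lit 0x2604062821)) (.leaf (nat_lit 0x26030626c1)))) (.node 2 (.node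 1 (.leaf (nat_lit 0x28020626d1)) (.leaf (nat_lit 0x2603062881))) (.node 1 (.leaf (nat_lit 0x26020626e1)) (.leaf (nat_lit 0x26040626e1))))) (.node 4 (.node 2 (.node 1 (.leaf (nat_lit 0x28010626f1)) (.leaf (nat_lit 0x2803063b31))) (.node 1 (.leaf (nat_lit 0x2603062711)) (.leaf (nat_lit 0x2604062841)))) (.node 2 (.node 1 (.leaf (nat_lit 0x2601062721)) (.leaf (nat_lit 0x2800062731))) (.node 1 (.leaf (nat_lit 0x2602062741)) (.leaf (nat_lit 0x2604062741))))))) (.node 16 (.node 8 (.node 4 (.node 2 (.node 1 (.leaf (nat_lit 0x2601062751)) (.leaf (nat_lit 0x2604062751))) (.node 1 (.leaf (nat_lit 0x2605062761)) (.leaf (nat_lit 0x2602062781)))) (.node 2 (.node 1 (.leaf (nat_lit 0x2604062781)) (.leaf (nat_lit 0x2601062791))) (.node 1 (.leaf (nat_lit 0x2604062791)) (.leaf (nat_lit 0x26050627a1))))) (.node 4 (.node 2 (.node 1 (.leaf (nat_lit 0x26010627b1)) (.leaf (nat_lit 0x26040627b1))) (.node 1 (.leaf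 (nat_lit 0x26000627d1)) (.leaf (nat_lit 0x26040627d1)))) (.node 2 (.node 1 (.leaf (nat_lit 0x26050627e1)) (.leaf (nat_lit 0x2600062801))) (.node 1 (.leaf (nat_lit 0x2607062891)) (.leaf (nat_lit 0x26050628d1)))))) (.node 8 (.node 4 (.node 2 (.node 1 (.leaf (nat_lit 0x26040628b1)) (.leaf (nat_lit 0x26050628c1))) (.node 1 (.leaf (nat_lit 0x2602062901)) (.leaf (nat_lit 0x2604062901)))) (.node 2 (.node 1 (.leaf (nat_lit 0x2604062911)) (.leaf (nat_lit 0x2602062931))) (.node 1 (.leaf (nat_lit 0x2604062931)) (.leaf (nat_lit 0x2601062941))))) (.node 4 (.node 2 (.node 1 (.leaf (nat_lit 0x2604062941)) (.leaf (nat_lit 0x2600062961))) (.node 1 (.leaf (nat_lit 0x2603062971)) (.leaf (nat_lit 0x2602062981)))) (.node 2 (.node 1 (.leaf (nat_lit 0x2603062991)) (.leaf (nat_lit 0x2605062991))) (.node 1 (.leaf (nat_lit 0x26010629a1)) (.leaf (nat_lit 0x26030629b1)))))))) (.node 32 (.node 16 (.node 8 (.node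 4 (.node 2 (.node 1 (.leaf (nat_lit 0x26020629c1)) (.leaf (nat_lit 0x26030629d1))) (.node 1 (.leaf (nat_lit 0x26030629e1)) (.leaf (nat_lit 0x26020629f1)))) (.node 2 (.node 1 (.leaf (nat_lit 0x26040629f1)) (.leaf (nat_lit 0x2601062a01))) (.node 1 (.leaf (nat_lit 0x2604062a01)) (.leaf (nat_lit 0x2600062a21))))) (.node 4 (.node 2 (.node 1 (.leaf (nat_lit 0x2602062a31)) (.leaf (nat_lit 0x2604062a31))) (.node 1 (.leaf (nat_lit 0x2602062a41)) (.leaf (nat_lit 0x2601062a51)))) (.node 2 (.node 1 (.leaf (nat_lit 0x2604062a51)) (.leaf (nat_lit 0x2602062a71))) (.node 1 (.leaf (nat_lit 0x2602062a81)) (.leaf (nat_lit 0x2604062a81)))))) (.node 8 (.node 4 (.node 2 (.node 1 (.leaf (nat_lit 0x2601062a91)) (.leaf (nat_lit 0x2604062a91))) (.node 1 (.leaf (nat_lit 0x2601062ab1)) (.leaf (nat_lit 0x2600062ac1)))) (.node 2 (.node 1 (.leaf (nat_lit 0x2604062ac1)) (.leaf (nat_lit 0x2601062ae1))) (.node 1 (.leaf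 (nat_lit 0x2600062af1)) (.leaf (nat_lit 0x2802062b11))))) (.node 4 (.node 2 (.node 1 (.leaf (nat_lit 0x2804062b11)) (.leaf (nat_lit 0x280206b821))) (.node 1 (.leaf (nat_lit 0x2603062da1)) (.leaf (nat_lit 0x2605062b31)))) (.node 2 (.node 1 (.leaf (nat_lit 0x2801062b51)) (.leaf (nat_lit 0x2804062b51))) (.node 1 (.leaf (nat_lit 0x280406bbc1)) (.leaf (nat_lit 0x2602062b81))))))) (.node 16 (.node 8 (.node 4 (.node 2 (.node 1 (.leaf (nat_lit 0x2604062b81)) (.leaf (nat_lit 0x2603063b01))) (.node 1 (.leaf (nat_lit 0x2603063361)) (.leaf (nat_lit 0x2603062bb1)))) (.node 2 (.node 1 (.leaf (nat_lit 0x2602062bc1)) (.leaf (nat_lit 0x2604062bc1))) (.node 1 (.leaf (nat_lit 0x2802062bd1)) (.leaf (nat_lit 0x2803062eb1))))) (.node 4 (.node 2 (.node 1 (.leaf (nat_lit 0x2801062be1)) (.leaf (nat_lit 0x2803068d51))) (.node 1 (.leaf (nat_lit 0x2805062bf1)) (.leaf (nat_lit 0x2601062c01)))) (.node 2 (.node 1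 (.leaf (nat_lit 0x2604062c01)) (.leaf (nat_lit 0x2800062c21))) (.node 1 (.leaf (nat_lit 0x28030697c1)) (.leaf (nat_lit 0x2805062c31)))))) (.node 8 (.node 4 (.node 2 (.node 1 (.leaf (nat_lit 0x2806062c41)) (.leaf (nat_lit 0x2600062c61))) (.node 1 (.leaf (nat_lit 0x2602062c81)) (.leaf (nat_lit 0x2604062c81)))) (.node 2 (.node 1 (.leaf (nat_lit 0x2601062c91)) (.leaf (nat_lit 0x2602062ca1))) (.node 1 (.leaf (nat_lit 0x2604062ca1)) (.leaf (nat_lit 0x2602062cb1))))) (.node 4 (.node 2 (.node 1 (.leaf (nat_lit 0x2604062cb1)) (.leaf (nat_lit 0x2601062cc1))) (.node 1 (.leaf (nat_lit 0x2604062cc1)) (.leaf (nat_lit 0x2602062ce1)))) (.node 2 (.node 1 (.leaf (nat_lit 0x2601062cf1)) (.leaf (nat_lit 0x2604062cf1))) (.node 1 (.leaf (nat_lit 0x2600062d11)) (.leaf (nat_lit 0x2604062d11))))))))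

noncomputable def oT207 : Tree :=
  .node 64 (.node 32 (.node 16 (.node 8 (.node 4 (.node 2 (.node 1 (.leaf (nat_lit 0x2602062d31)) (.leaf (nat_lit 0x2604062d31))) (.node 1 (.leaf (nat_lit 0x2602062d41)) (.leaf (nat_lit 0x2604062d41)))) (.node 2 (.node 1 (.leaf (nat_lit 0x2601062d51)) (.leaf (nat_lit 0x2604062d51))) (.node 1 (.leaf (nat_lit 0x2601062d71)) (.leaf (nat_lit 0x2604062d71))))) (.node 4 (.node 2 (.node 1 (.leaf (nat_lit 0x2605062d81)) (.leaf (nat_lit 0x2600062d91))) (.node 1 (.leaf (nat_lit 0x2604062d91)) (.leaf (nat_lit 0x2605062da1)))) (.node 2 (.node 1 (.leaf (nat_lit 0x2802062dc1)) (.leaf (nat_lit 0x2804062dc1))) (.node 1 (.leaf (nat_lit 0x2601062dd1)) (.leaf (nat_lit 0x2604062dd1)))))) (.node 8 (.node 4 (.node 2 (.node 1 (.leaf (nat_lit 0x2600062df1)) (.leaf (nat_lit 0x2604062df1))) (.node 1 (.leaf (nat_lit 0x2604062e11)) (.leaf (nat_lit 0x2605062e21)))) (.node 2 (.node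 1 (.leaf (nat_lit 0x2804068f41)) (.leaf (nat_lit 0x2600062e51))) (.node 1 (.leaf (nat_lit 0x2604062e71)) (.leaf (nat_lit 0x2805062eb1))))) (.node 4 (.node 2 (.node 1 (.leaf (nat_lit 0x2807062ed1)) (.leaf (nat_lit 0x2601062f01))) (.node 1 (.leaf (nat_lit 0x2601062f11)) (.leaf (nat_lit 0x2601062f21)))) (.node 2 (.node 1 (.leaf (nat_lit 0x2604062f21)) (.leaf (nat_lit 0x2605062f31))) (.node 1 (.leaf (nat_lit 0x2600062f51)) (.leaf (nat_lit 0x2603062f61))))))) (.node 16 (.node 8 (.node 4 (.node 2 (.node 1 (.leaf (nat_lit 0x2602062f71)) (.leaf (nat_lit 0x2604062f71))) (.node 1 (.leaf (nat_lit 0x2601062f81)) (.leaf (nat_lit 0x2604062f81)))) (.node 2 (.node 1 (.leaf (nat_lit 0x2605062f91)) (.leaf (nat_lit 0x2600062fb1))) (.node 1 (.leaf (nat_lit 0x2800062fc1)) (.leaf (nat_lit 0x2603062fd1))))) (.node 4 (.node 2 (.node 1 (.leaf (nat_lit 0x2602062fe1)) (.leaf (nat_lit 0x2604062fe1))) (.node 1 (.leaf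 (nat_lit 0x2602062ff1)) (.leaf (nat_lit 0x2604062ff1)))) (.node 2 (.node 1 (.leaf (nat_lit 0x2601063001)) (.leaf (nat_lit 0x2604063001))) (.node 1 (.leaf (nat_lit 0x2605063011)) (.leaf (nat_lit 0x2601063021)))))) (.node 8 (.node 4 (.node 2 (.node 1 (.leaf (nat_lit 0x2604063021)) (.leaf (nat_lit 0x2605063031))) (.node 1 (.leaf (nat_lit 0x2600063041)) (.leaf (nat_lit 0x2604063041)))) (.node 2 (.node 1 (.leaf (nat_lit 0x2605063051)) (.leaf (nat_lit 0x2606063061))) (.node 1 (.leaf (nat_lit 0x2600063081)) (.leaf (nat_lit 0x26050630b1))))) (.node 4 (.node 2 (.node 1 (.leaf (nat_lit 0x26020630d1)) (.leaf (nat_lit 0x26040630d1))) (.node 1 (.leaf (nat_lit 0x26010630e1)) (.leaf (nat_lit 0x26040630e1)))) (.node 2 (.node 1 (.leaf (nat_lit 0x2600063101)) (.leaf (nat_lit 0x2801063111))) (.node 1 (.leaf (nat_lit 0x2800063121)) (.leaf (nat_lit 0x2600063131)))))))) (.node 32 (.node 16 (.node 8 (.node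 4 (.node 2 (.node 1 (.leaf (nat_lit 0x2604063131)) (.leaf (nat_lit 0x2605063141))) (.node 1 (.leaf (nat_lit 0x2601063171)) (.leaf (nat_lit 0x2604063171)))) (.node 2 (.node 1 (.leaf (nat_lit 0x26020631a1)) (.leaf (nat_lit 0x26040631a1))) (.node 1 (.leaf (nat_lit 0x26010631b1)) (.leaf (nat_lit 0x26040631b1))))) (.node 4 (.node 2 (.node 1 (.leaf (nat_lit 0x26000631d1)) (.leaf (nat_lit 0x26040631d1))) (.node 1 (.leaf (nat_lit 0x26050631e1)) (.leaf (nat_lit 0x2801063211)))) (.node 2 (.node 1 (.leaf (nat_lit 0x2603063311)) (.leaf (nat_lit 0x2801063231))) (.node 1 (.leaf (nat_lit 0x2804063231)) (.leaf (nat_lit 0x2800063251)))))) (.node 8 (.node 4 (.node 2 (.node 1 (.leaf (nat_lit 0x2801063261)) (.leaf (nat_lit 0x2804063261))) (.node 1 (.leaf (nat_lit 0x2800063281)) (.leaf (nat_lit 0x2804063281)))) (.node 2 (.node 1 (.leaf (nat_lit 0x26010632b1)) (.leaf (nat_lit 0x26040632b1))) (.node 1 (.leaf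 (nat_lit 0x26010632d1)) (.leaf (nat_lit 0x26040632d1))))) (.node 4 (.node 2 (.node 1 (.leaf (nat_lit 0x26010632f1)) (.leaf (nat_lit 0x2600063301))) (.node 1 (.leaf (nat_lit 0x2604063301)) (.leaf (nat_lit 0x2605063311)))) (.node 2 (.node 1 (.leaf (nat_lit 0x2601063331)) (.leaf (nat_lit 0x2604063331))) (.node 1 (.leaf (nat_lit 0x2600063351)) (.leaf (nat_lit 0x2604063351))))))) (.node 16 (.node 8 (.node 4 (.node 2 (.node 1 (.leaf (nat_lit 0x2601063371)) (.leaf (nat_lit 0x2600063381))) (.node 1 (.leaf (nat_lit 0x2604063381)) (.leaf (nat_lit 0x26040633a1)))) (.node 2 (.node 1 (.leaf (nat_lit 0x26050633b1)) (.leaf (nat_lit 0x26060633c1))) (.node 1 (.leaf (nat_lit 0x26000633e1)) (.leaf (nat_lit 0x2802063401))))) (.node 4 (.node 2 (.node 1 (.leaf (nat_lit 0x2804063401)) (.leaf (nat_lit 0x2801063411))) (.node 1 (.leaf (nat_lit 0x2800063421)) (.leaf (nat_lit 0x2600063441)))) (.node 2 (.node 1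 (.leaf (nat_lit 0x2801063451)) (.leaf (nat_lit 0x2800063461))) (.node 1 (.leaf (nat_lit 0x2600063471)) (.leaf (nat_lit 0x2802063491)))))) (.node 8 (.node 4 (.node 2 (.node 1 (.leaf (nat_lit 0x2804063491)) (.leaf (nat_lit 0x280406ab11))) (.node 1 (.leaf (nat_lit 0x26020634b1)) (.leaf (nat_lit 0x26040634b1)))) (.node 2 (.node 1 (.leaf (nat_lit 0x28010634c1)) (.leaf (nat_lit 0x28040634c1))) (.node 1 (.leaf (nat_lit 0x28000634e1)) (.leaf (nat_lit 0x28020634f1))))) (.node 4 (.node 2 (.node 1 (.leaf (nat_lit 0x28040634f1)) (.leaf (nat_lit 0x2801063501))) (.node 1 (.leaf (nat_lit 0x2802063511)) (.leaf (nat_lit 0x2804063511)))) (.node 2 (.node 1 (.leaf (nat_lit 0x2801063521)) (.leaf (nat_lit 0x2801063531))) (.node 1 (.leaf (nat_lit 0x2804063531)) (.leaf (nat_lit 0x280406ab61))))))))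

noncomputable def oT208 : Tree :=
  .node 64 (.node 32 (.node 16 (.node 8 (.node 4 (.node 2 (.node 1 (.leaf (nat_lit 0x2601063561)) (.leaf (nat_lit 0x2800063571))) (.node 1 (.leaf (nat_lit 0x2602063591)) (.leaf (nat_lit 0x2604063591)))) (.node 2 (.node 1 (.leaf (nat_lit 0x26010635a1)) (.leaf (nat_lit 0x26010635b1))) (.node 1 (.leaf (nat_lit 0x26040635b1)) (.leaf (nat_lit 0x26000635d1))))) (.node 4 (.node 2 (.node 1 (.leaf (nat_lit 0x26010635e1)) (.leaf (nat_lit 0x26040635e1))) (.node 1 (.leaf (nat_lit 0x2600063601)) (.leaf (nat_lit 0x2600063611)))) (.node 2 (.node 1 (.leaf (nat_lit 0x2604063611)) (.leaf (nat_lit 0x2601063661))) (.node 1 (.leaf (nat_lit 0x2604063661)) (.leaf (nat_lit 0x2600063681)))))) (.node 8 (.node 4 (.node 2 (.node 1 (.leaf (nat_lit 0x2800063691)) (.leaf (nat_lit 0x28010636b1))) (.node 1 (.leaf (nat_lit 0x28010636c1)) (.leaf (nat_lit 0x28040636c1)))) (.node 2 (.node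 1 (.leaf (nat_lit 0x28000636e1)) (.leaf (nat_lit 0x28010636f1))) (.node 1 (.leaf (nat_lit 0x2800063701)) (.leaf (nat_lit 0x2601063721))))) (.node 4 (.node 2 (.node 1 (.leaf (nat_lit 0x2601063731)) (.leaf (nat_lit 0x2600063741))) (.node 1 (.leaf (nat_lit 0x2601063751)) (.leaf (nat_lit 0x2600063761)))) (.node 2 (.node 1 (.leaf (nat_lit 0x2602063781)) (.leaf (nat_lit 0x2604063781))) (.node 1 (.leaf (nat_lit 0x26020637a1)) (.leaf (nat_lit 0x26040637a1))))))) (.node 16 (.node 8 (.node 4 (.node 2 (.node 1 (.leaf (nat_lit 0x26010637b1)) (.leaf (nat_lit 0x26040637b1))) (.node 1 (.leaf (nat_lit 0x26030637d1)) (.leaf (nat_lit 0x26020637e1)))) (.node 2 (.node 1 (.leaf (nat_lit 0x26040637e1)) (.leaf (nat_lit 0x26010637f1))) (.node 1 (.leaf (nat_lit 0x26040637f1)) (.leaf (nat_lit 0x2600063811))))) (.node 4 (.node 2 (.node 1 (.leaf (nat_lit 0x2604063811)) (.leaf (nat_lit 0x2802063841))) (.node 1 (.leaf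 (nat_lit 0x2804063841)) (.leaf (nat_lit 0x280406ac01)))) (.node 2 (.node 1 (.leaf (nat_lit 0x2801063861)) (.leaf (nat_lit 0x2804063861))) (.node 1 (.leaf (nat_lit 0x2800063881)) (.leaf (nat_lit 0x2604063ca1)))))) (.node 8 (.node 4 (.node 2 (.node 1 (.leaf (nat_lit 0x28010638a1)) (.leaf (nat_lit 0x28000638b1))) (.node 1 (.leaf (nat_lit 0x26010638d1)) (.leaf (nat_lit 0x26020638e1)))) (.node 2 (.node 1 (.leaf (nat_lit 0x26040638e1)) (.leaf (nat_lit 0x26020638f1))) (.node 1 (.leaf (nat_lit 0x26040638f1)) (.leaf (nat_lit 0x2601063901))))) (.node 4 (.node 2 (.node 1 (.leaf (nat_lit 0x2601063911)) (.leaf (nat_lit 0x2604063911))) (.node 1 (.leaf (nat_lit 0x2600063931)) (.leaf (nat_lit 0x2603063941)))) (.node 2 (.node 1 (.leaf (nat_lit 0x2602063951)) (.leaf (nat_lit 0x2604063951))) (.node 1 (.leaf (nat_lit 0x2602063961)) (.leaf (nat_lit 0x2604063961)))))))) (.node 32 (.node 16 (.node 8 (.node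 4 (.node 2 (.node 1 (.leaf (nat_lit 0x2601063971)) (.leaf (nat_lit 0x2604063971))) (.node 1 (.leaf (nat_lit 0x2601063991)) (.leaf (nat_lit 0x26000639a1)))) (.node 2 (.node 1 (.leaf (nat_lit 0x28020639b1)) (.leaf (nat_lit 0x2603063a51))) (.node 1 (.leaf (nat_lit 0x26010639c1)) (.leaf (nat_lit 0x26040639c1))))) (.node 4 (.node 2 (.node 1 (.leaf (nat_lit 0x26050639d1)) (.leaf (nat_lit 0x26000639e1))) (.node 1 (.leaf (nat_lit 0x26040639e1)) (.leaf (nat_lit 0x2804068ff1)))) (.node 2 (.node 1 (.leaf (nat_lit 0x2600063a21)) (.leaf (nat_lit 0x2801063a61))) (.node 1 (.leaf (nat_lit 0x2804063a61)) (.leaf (nat_lit 0x280406b6c1)))))) (.node 8 (.node 4 (.node 2 (.node 1 (.leaf (nat_lit 0x2801063a91)) (.leaf (nat_lit 0x2804063a91))) (.node 1 (.leaf (nat_lit 0x2a00063ab1)) (.leaf (nat_lit 0x2a04063ab1)))) (.node 2 (.node 1 (.leaf (nat_lit 0x2a03063ac1)) (.leaf (nat_lit 0x2605063b01))) (.node 1 (.leaf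 (nat_lit 0x2605063c91)) (.leaf (nat_lit 0x2604063cb1))))) (.node 4 (.node 2 (.node 1 (.leaf (nat_lit 0x2604063c21)) (.leaf (nat_lit 0x2800063b21))) (.node 1 (.leaf (nat_lit 0x2804063b21)) (.leaf (nat_lit 0x2604063b71)))) (.node 2 (.node 1 (.leaf (nat_lit 0x2604063b81)) (.leaf (nat_lit 0x2600063b61))) (.node 1 (.leaf (nat_lit 0x2601063b71)) (.leaf (nat_lit 0x2602063b81))))))) (.node 16 (.node 8 (.node 4 (.node 2 (.node 1 (.leaf (nat_lit 0x2801063b91)) (.leaf (nat_lit 0x2800063ba1))) (.node 1 (.leaf (nat_lit 0x2601063bc1)) (.leaf (nat_lit 0x2600063bd1)))) (.node 2 (.node 1 (.leaf (nat_lit 0x2601063be1)) (.leaf (nat_lit 0x2604063be1))) (.node 1 (.leaf (nat_lit 0x2600063c01)) (.leaf (nat_lit 0x2604063c01))))) (.node 4 (.node 2 (.node 1 (.leaf (nat_lit 0x2603063c11)) (.leaf (nat_lit 0x2602063c31))) (.node 1 (.leaf (nat_lit 0x2604063c31)) (.leaf (nat_lit 0x2601063c41)))) (.node 2 (.node 1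 (.leaf (nat_lit 0x2604063c41)) (.leaf (nat_lit 0x2605063c51))) (.node 1 (.leaf (nat_lit 0x2601063c61)) (.leaf (nat_lit 0x2604063c61)))))) (.node 8 (.node 4 (.node 2 (.node 1 (.leaf (nat_lit 0x2600063c81)) (.leaf (nat_lit 0x2604063c81))) (.node 1 (.leaf (nat_lit 0x2603063c91)) (.leaf (nat_lit 0x2600063ca1)))) (.node 2 (.node 1 (.leaf (nat_lit 0x2803063d61)) (.leaf (nat_lit 0x2605063cd1))) (.node 1 (.leaf (nat_lit 0x2600063ce1)) (.leaf (nat_lit 0x2604063ce1))))) (.node 4 (.node 2 (.node 1 (.leaf (nat_lit 0x2604063d11)) (.leaf (nat_lit 0x2605063d21))) (.node 1 (.leaf (nat_lit 0x2605063d41)) (.leaf (nat_lit 0x28040690a1)))) (.node 2 (.node 1 (.leaf (nat_lit 0x2605063dd1)) (.leaf (nat_lit 0x2702063df1))) (.node 1 (.leaf (nat_lit 0x2704063df1)) (.leaf (nat_lit 0x2701063e01))))))))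

noncomputable def oT209 : Tree :=
  .node 64 (.node 32 (.node 16 (.node 8 (.node 4 (.node 2 (.node 1 (.leaf (nat_lit 0x2702063e21)) (.leaf (nat_lit 0x2704063f21))) (.node 1 (.leaf (nat_lit 0x2702063e41)) (.leaf (nat_lit 0x2701063e51)))) (.node 2 (.node 1 (.leaf (nat_lit 0x2701063e61)) (.leaf (nat_lit 0x2704063e61))) (.node 1 (.leaf (nat_lit 0x2700063e81)) (.leaf (nat_lit 0x2703063e91))))) (.node 4 (.node 2 (.node 1 (.leaf (nat_lit 0x2707063ea1)) (.leaf (nat_lit 0x2701063eb1))) (.node 1 (.leaf (nat_lit 0x2700063ec1)) (.leaf (nat_lit 0x2701063ed1)))) (.node 2 (.node 1 (.leaf (nat_lit 0x2701063ee1)) (.leaf (nat_lit 0x2704063ee1))) (.node 1 (.leaf (nat_lit 0x2700063f01)) (.leaf (nat_lit 0x2700063f21)))))) (.node 8 (.node 4 (.node 2 (.node 1 (.leaf (nat_lit 0x2700063f31)) (.leaf (nat_lit 0x2702063f41))) (.node 1 (.leaf (nat_lit 0x2701063f51)) (.leaf (nat_lit 0x2704063f51)))) (.node 2 (.node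 1 (.leaf (nat_lit 0x2700063f71)) (.leaf (nat_lit 0x2704063f71))) (.node 1 (.leaf (nat_lit 0x2703063f81)) (.leaf (nat_lit 0x2703063fa1))))) (.node 4 (.node 2 (.node 1 (.leaf (nat_lit 0x2707063fb1)) (.leaf (nat_lit 0x2708063fc1))) (.node 1 (.leaf (nat_lit 0x2703063fd1)) (.leaf (nat_lit 0x2702063fe1)))) (.node 2 (.node 1 (.leaf (nat_lit 0x2703063ff1)) (.leaf (nat_lit 0x2702064001))) (.node 1 (.leaf (nat_lit 0x2704064001)) (.leaf (nat_lit 0x2703064011))))))) (.node 16 (.node 8 (.node 4 (.node 2 (.node 1 (.leaf (nat_lit 0x2703064021)) (.leaf (nat_lit 0x2702064031))) (.node 1 (.leaf (nat_lit 0x2704064031)) (.leaf (nat_lit 0x2705064041)))) (.node 2 (.node 1 (.leaf (nat_lit 0x2702064051)) (.leaf (nat_lit 0x2704064051))) (.node 1 (.leaf (nat_lit 0x2701064061)) (.leaf (nat_lit 0x2702064071))))) (.node 4 (.node 2 (.node 1 (.leaf (nat_lit 0x2703064081)) (.leaf (nat_lit 0x2702064091))) (.node 1 (.leaf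 (nat_lit 0x27030640a1)) (.leaf (nat_lit 0x27050640a1)))) (.node 2 (.node 1 (.leaf (nat_lit 0x27030640b1)) (.leaf (nat_lit 0x27020640c1))) (.node 1 (.leaf (nat_lit 0x27040640c1)) (.leaf (nat_lit 0x29040648f1)))))) (.node 8 (.node 4 (.node 2 (.node 1 (.leaf (nat_lit 0x27030640e1)) (.leaf (nat_lit 0x27020640f1))) (.node 1 (.leaf (nat_lit 0x27040640f1)) (.leaf (nat_lit 0x2701064101)))) (.node 2 (.node 1 (.leaf (nat_lit 0x2704064101)) (.leaf (nat_lit 0x2705064111))) (.node 1 (.leaf (nat_lit 0x2701064131)) (.leaf (nat_lit 0x2704064131))))) (.node 4 (.node 2 (.node 1 (.leaf (nat_lit 0x2700064151)) (.leaf (nat_lit 0x2702064771))) (.node 1 (.leaf (nat_lit 0x2702064171)) (.leaf (nat_lit 0x2704064171)))) (.node 2 (.node 1 (.leaf (nat_lit 0x2705064a21)) (.leaf (nat_lit 0x27030641a1))) (.node 1 (.leaf (nat_lit 0x27010641b1)) (.leaf (nat_lit 0x27020641c1)))))))) (.node 32 (.node 16 (.node 8 (.node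 4 (.node 2 (.node 1 (.leaf (nat_lit 0x27040641c1)) (.leaf (nat_lit 0x27010641d1))) (.node 1 (.leaf (nat_lit 0x2703064b01)) (.leaf (nat_lit 0x27050641e1)))) (.node 2 (.node 1 (.leaf (nat_lit 0x2707064441)) (.leaf (nat_lit 0x2702064201))) (.node 1 (.leaf (nat_lit 0x2704064201)) (.leaf (nat_lit 0x2701064211))))) (.node 4 (.node 2 (.node 1 (.leaf (nat_lit 0x2705064b71)) (.leaf (nat_lit 0x2904064b81))) (.node 1 (.leaf (nat_lit 0x2703064241)) (.leaf (nat_lit 0x2702064251)))) (.node 2 (.node 1 (.leaf (nat_lit 0x2704064251)) (.leaf (nat_lit 0x2701064261))) (.node 1 (.leaf (nat_lit 0x2704064261)) (.leaf (nat_lit 0x2703064281)))))) (.node 8 (.node 4 (.node 2 (.node 1 (.leaf (nat_lit 0x2702064291)) (.leaf (nat_lit 0x2704064291))) (.node 1 (.leaf (nat_lit 0x27020642a1)) (.leaf (nat_lit 0x27040642a1)))) (.node 2 (.node 1 (.leaf (nat_lit 0x27010642b1)) (.leaf (nat_lit 0x27040642b1))) (.node 1 (.leaf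 (nat_lit 0x27050642c1)) (.leaf (nat_lit 0x27010642d1))))) (.node 4 (.node 2 (.node 1 (.leaf (nat_lit 0x27040642d1)) (.leaf (nat_lit 0x27050642e1))) (.node 1 (.leaf (nat_lit 0x27000642f1)) (.leaf (nat_lit 0x27040642f1)))) (.node 2 (.node 1 (.leaf (nat_lit 0x2705064301)) (.leaf (nat_lit 0x2706064311))) (.node 1 (.leaf (nat_lit 0x2700064331)) (.leaf (nat_lit 0x2704064331))))))) (.node 16 (.node 8 (.node 4 (.node 2 (.node 1 (.leaf (nat_lit 0x2703064341)) (.leaf (nat_lit 0x2704064361))) (.node 1 (.leaf (nat_lit 0x2705064371)) (.leaf (nat_lit 0x27020646e1)))) (.node 2 (.node 1 (.leaf (nat_lit 0x27040643a1)) (.leaf (nat_lit 0x2707064411))) (.node 1 (.leaf (nat_lit 0x2705064d91)) (.leaf (nat_lit 0x27030643d1))))) (.node 4 (.node 2 (.node 1 (.leaf (nat_lit 0x27070643f1)) (.leaf (nat_lit 0x2707064421))) (.node 1 (.leaf (nat_lit 0x2708064431)) (.leaf (nat_lit 0x2704064451)))) (.node 2 (.node 1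 (.leaf (nat_lit 0x2705064471)) (.leaf (nat_lit 0x2702064491))) (.node 1 (.leaf (nat_lit 0x27010644a1)) (.leaf (nat_lit 0x27030644b1)))))) (.node 8 (.node 4 (.node 2 (.node 1 (.leaf (nat_lit 0x27030644d1)) (.leaf (nat_lit 0x27020644e1))) (.node 1 (.leaf (nat_lit 0x27020644f1)) (.leaf (nat_lit 0x27040644f1)))) (.node 2 (.node 1 (.leaf (nat_lit 0x2701064511)) (.leaf (nat_lit 0x2702064521))) (.node 1 (.leaf (nat_lit 0x2704064521)) (.leaf (nat_lit 0x2701064531))))) (.node 4 (.node 2 (.node 1 (.leaf (nat_lit 0x2704064531)) (.leaf (nat_lit 0x2701064551))) (.node 1 (.leaf (nat_lit 0x2704064551)) (.leaf (nat_lit 0x2700064571)))) (.node 2 (.node 1 (.leaf (nat_lit 0x2702064581)) (.leaf (nat_lit 0x2704064581))) (.node 1 (.leaf (nat_lit 0x2701064591)) (.leaf (nat_lit 0x27010645a1))))))))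

noncomputable def oT210 : Tree :=
  .node 64 (.node 32 (.node 16 (.node 8 (.node 4 (.node 2 (.node 1 (.leaf (nat_lit 0x27020645b1)) (.leaf (nat_lit 0x27040645b1))) (.node 1 (.leaf (nat_lit 0x27010645c1)) (.leaf (nat_lit 0x27040645c1)))) (.node 2 (.node 1 (.leaf (nat_lit 0x27010645e1)) (.leaf (nat_lit 0x27040645e1))) (.node 1 (.leaf (nat_lit 0x2700064601)) (.leaf (nat_lit 0x2702064611))))) (.node 4 (.node 2 (.node 1 (.leaf (nat_lit 0x2704064611)) (.leaf (nat_lit 0x2701064621))) (.node 1 (.leaf (nat_lit 0x2700064631)) (.leaf (nat_lit 0x2700064641)))) (.node 2 (.node 1 (.leaf (nat_lit 0x2704064641)) (.leaf (nat_lit 0x2702064661))) (.node 1 (.leaf (nat_lit 0x2704064661)) (.leaf (nat_lit 0x2701064671)))))) (.node 8 (.node 4 (.node 2 (.node 1 (.leaf (nat_lit 0x2704064671)) (.leaf (nat_lit 0x2700064691))) (.node 1 (.leaf (nat_lit 0x2704064691)) (.leaf (nat_lit 0x27030646d1)))) (.node 2 (.node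 1 (.leaf (nat_lit 0x27040646e1)) (.leaf (nat_lit 0x27030646f1))) (.node 1 (.leaf (nat_lit 0x2707066dc1)) (.leaf (nat_lit 0x2902064711))))) (.node 4 (.node 2 (.node 1 (.leaf (nat_lit 0x2703064721)) (.leaf (nat_lit 0x27080672e1))) (.node 1 (.leaf (nat_lit 0x2703064731)) (.leaf (nat_lit 0x2702064741)))) (.node 2 (.node 1 (.leaf (nat_lit 0x2704064741)) (.leaf (nat_lit 0x2901064751))) (.node 1 (.leaf (nat_lit 0x2703064761)) (.leaf (nat_lit 0x2704064771))))))) (.node 16 (.node 8 (.node 4 (.node 2 (.node 1 (.leaf (nat_lit 0x2702064781)) (.leaf (nat_lit 0x2704064781))) (.node 1 (.leaf (nat_lit 0x2704064791)) (.leaf (nat_lit 0x27050647a1)))) (.node 2 (.node 1 (.leaf (nat_lit 0x27020647b1)) (.leaf (nat_lit 0x27040647b1))) (.node 1 (.leaf (nat_lit 0x27020647c1)) (.leaf (nat_lit 0x27040647c1))))) (.node 4 (.node 2 (.node 1 (.leaf (nat_lit 0x27010647d1)) (.leaf (nat_lit 0x27040647d1))) (.node 1 (.leaf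 (nat_lit 0x27050647e1)) (.leaf (nat_lit 0x27060647f1)))) (.node 2 (.node 1 (.leaf (nat_lit 0x2701064801)) (.leaf (nat_lit 0x2704064801))) (.node 1 (.leaf (nat_lit 0x2700064821)) (.leaf (nat_lit 0x2703064831)))))) (.node 8 (.node 4 (.node 2 (.node 1 (.leaf (nat_lit 0x2902064841)) (.leaf (nat_lit 0x2705067c51))) (.node 1 (.leaf (nat_lit 0x2901064851)) (.leaf (nat_lit 0x2702064861)))) (.node 2 (.node 1 (.leaf (nat_lit 0x2704064861)) (.leaf (nat_lit 0x2705066a61))) (.node 1 (.leaf (nat_lit 0x2705066a11)) (.leaf (nat_lit 0x2701064891))))) (.node 4 (.node 2 (.node 1 (.leaf (nat_lit 0x2704064891)) (.leaf (nat_lit 0x2704066521))) (.node 1 (.leaf (nat_lit 0x27020648c1)) (.leaf (nat_lit 0x27040648c1)))) (.node 2 (.node 1 (.leaf (nat_lit 0x27010648d1)) (.leaf (nat_lit 0x27040648d1))) (.node 1 (.leaf (nat_lit 0x29000648f1)) (.leaf (nat_lit 0x2702064901)))))))) (.node 32 (.node 16 (.node 8 (.node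 4 (.node 2 (.node 1 (.leaf (nat_lit 0x2704064901)) (.leaf (nat_lit 0x2701064911))) (.node 1 (.leaf (nat_lit 0x2704064911)) (.leaf (nat_lit 0x2702064931)))) (.node 2 (.node 1 (.leaf (nat_lit 0x2702064941)) (.leaf (nat_lit 0x2704064941))) (.node 1 (.leaf (nat_lit 0x2701064951)) (.leaf (nat_lit 0x2704064951))))) (.node 4 (.node 2 (.node 1 (.leaf (nat_lit 0x2705064961)) (.leaf (nat_lit 0x2701064971))) (.node 1 (.leaf (nat_lit 0x2700064981)) (.leaf (nat_lit 0x2704064981)))) (.node 2 (.node 1 (.leaf (nat_lit 0x2705064991)) (.leaf (nat_lit 0x27020649b1))) (.node 1 (.leaf (nat_lit 0x27040649b1)) (.leaf (nat_lit 0x27010649c1)))))) (.node 8 (.node 4 (.node 2 (.node 1 (.leaf (nat_lit 0x27040649c1)) (.leaf (nat_lit 0x27000649e1))) (.node 1 (.leaf (nat_lit 0x27040649e1)) (.leaf (nat_lit 0x27030649f1)))) (.node 2 (.node 1 (.leaf (nat_lit 0x2705064a11)) (.leaf (nat_lit 0x2704066331))) (.node 1 (.leaf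 (nat_lit 0x2707064a41)) (.leaf (nat_lit 0x2703064a51))))) (.node 4 (.node 2 (.node 1 (.leaf (nat_lit 0x2702064a61)) (.leaf (nat_lit 0x2704064a61))) (.node 1 (.leaf (nat_lit 0x2901064a71)) (.leaf (nat_lit 0x2705067c71)))) (.node 2 (.node 1 (.leaf (nat_lit 0x2900064a91)) (.leaf (nat_lit 0x2702064aa1))) (.node 1 (.leaf (nat_lit 0x2705064be1)) (.leaf (nat_lit 0x2701064ac1))))))) (.node 16 (.node 8 (.node 4 (.node 2 (.node 1 (.leaf (nat_lit 0x2704064ac1)) (.leaf (nat_lit 0x2704064b91))) (.node 1 (.leaf (nat_lit 0x2700064af1)) (.leaf (nat_lit 0x2704064af1)))) (.node 2 (.node 1 (.leaf (nat_lit 0x2704066531)) (.leaf (nat_lit 0x2707064da1))) (.node 1 (.leaf (nat_lit 0x2702064b31)) (.leaf (nat_lit 0x27070650f1))))) (.node 4 (.node 2 (.node 1 (.leaf (nat_lit 0x2701064b41)) (.leaf (nat_lit 0x2704064b41))) (.node 1 (.leaf (nat_lit 0x2705064b51)) (.leaf (nat_lit 0x2700064b61)))) (.node 2 (.node 1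 (.leaf (nat_lit 0x2704064b61)) (.leaf (nat_lit 0x2704066341))) (.node 1 (.leaf (nat_lit 0x2702064b91)) (.leaf (nat_lit 0x2701064ba1)))))) (.node 8 (.node 4 (.node 2 (.node 1 (.leaf (nat_lit 0x2704064ba1)) (.leaf (nat_lit 0x2702064bc1))) (.node 1 (.leaf (nat_lit 0x2704064bc1)) (.leaf (nat_lit 0x2701064bd1)))) (.node 2 (.node 1 (.leaf (nat_lit 0x2704064bd1)) (.leaf (nat_lit 0x2701064bf1))) (.node 1 (.leaf (nat_lit 0x2700064c01)) (.leaf (nat_lit 0x2704064c01))))) (.node 4 (.node 2 (.node 1 (.leaf (nat_lit 0x2705064c11)) (.leaf (nat_lit 0x2701064c31))) (.node 1 (.leaf (nat_lit 0x2704064c31)) (.leaf (nat_lit 0x2700064c51)))) (.node 2 (.node 1 (.leaf (nat_lit 0x2704064c51)) (.leaf (nat_lit 0x2705064c61))) (.node 1 (.leaf (nat_lit 0x2706064c71)) (.leaf (nat_lit 0x2702064c81))))))))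

noncomputable def oT211 : Tree :=
  .node 64 (.node 32 (.node 16 (.node 8 (.node 4 (.node 2 (.node 1 (.leaf (nat_lit 0x2701064c91)) (.leaf (nat_lit 0x2700064ca1))) (.node 1 (.leaf (nat_lit 0x2704064cb1)) (.leaf (nat_lit 0x2705064cc1)))) (.node 2 (.node 1 (.leaf (nat_lit 0x2706064cd1)) (.leaf (nat_lit 0x2901064cf1))) (.node 1 (.leaf (nat_lit 0x2705067d71)) (.leaf (nat_lit 0x2700064d11))))) (.node 4 (.node 2 (.node 1 (.leaf (nat_lit 0x2704064d11)) (.leaf (nat_lit 0x2704064d31))) (.node 1 (.leaf (nat_lit 0x2703064d41)) (.leaf (nat_lit 0x2707064d51)))) (.node 2 (.node 1 (.leaf (nat_lit 0x27040662c1)) (.leaf (nat_lit 0x2702064da1))) (.node 1 (.leaf (nat_lit 0x2708064db1)) (.leaf (nat_lit 0x2702064df1)))))) (.node 8 (.node 4 (.node 2 (.node 1 (.leaf (nat_lit 0x2701064e01)) (.leaf (nat_lit 0x2702064e11))) (.node 1 (.leaf (nat_lit 0x2702064e21)) (.leaf (nat_lit 0x2704064e21)))) (.node 2 (.node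 1 (.leaf (nat_lit 0x2702064e41)) (.leaf (nat_lit 0x2704064e41))) (.node 1 (.leaf (nat_lit 0x2701064e51)) (.leaf (nat_lit 0x2702064e71))))) (.node 4 (.node 2 (.node 1 (.leaf (nat_lit 0x2701064e81)) (.leaf (nat_lit 0x2701064e91))) (.node 1 (.leaf (nat_lit 0x2704064e91)) (.leaf (nat_lit 0x2701064eb1)))) (.node 2 (.node 1 (.leaf (nat_lit 0x2704064eb1)) (.leaf (nat_lit 0x2700064ed1))) (.node 1 (.leaf (nat_lit 0x2703064ee1)) (.leaf (nat_lit 0x2703064ef1))))))) (.node 16 (.node 8 (.node 4 (.node 2 (.node 1 (.leaf (nat_lit 0x2702064f01)) (.leaf (nat_lit 0x2704064f01))) (.node 1 (.leaf (nat_lit 0x2705064f11)) (.leaf (nat_lit 0x2702064f21)))) (.node 2 (.node 1 (.leaf (nat_lit 0x2704064f21)) (.leaf (nat_lit 0x2701064f31))) (.node 1 (.leaf (nat_lit 0x2701064f41)) (.leaf (nat_lit 0x2702064f51))))) (.node 4 (.node 2 (.node 1 (.leaf (nat_lit 0x2704064f51)) (.leaf (nat_lit 0x2702064f71))) (.node 1 (.leaf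 (nat_lit 0x2704064f71)) (.leaf (nat_lit 0x2701064f81)))) (.node 2 (.node 1 (.leaf (nat_lit 0x2704064f81)) (.leaf (nat_lit 0x2705064f91))) (.node 1 (.leaf (nat_lit 0x2702064fb1)) (.leaf (nat_lit 0x2704064fb1)))))) (.node 8 (.node 4 (.node 2 (.node 1 (.leaf (nat_lit 0x2701064fc1)) (.leaf (nat_lit 0x2704064fc1))) (.node 1 (.leaf (nat_lit 0x2700064fe1)) (.leaf (nat_lit 0x2703065001)))) (.node 2 (.node 1 (.leaf (nat_lit 0x2701065011)) (.leaf (nat_lit 0x2900065021))) (.node 1 (.leaf (nat_lit 0x2701065031)) (.leaf (nat_lit 0x2704065031))))) (.node 4 (.node 2 (.node 1 (.leaf (nat_lit 0x2701065051)) (.leaf (nat_lit 0x2704065051))) (.node 1 (.leaf (nat_lit 0x2700065071)) (.leaf (nat_lit 0x2704065071)))) (.node 2 (.node 1 (.leaf (nat_lit 0x2705065081)) (.leaf (nat_lit 0x27010650a1))) (.node 1 (.leaf (nat_lit 0x27040650a1)) (.leaf (nat_lit 0x27000650c1)))))))) (.node 32 (.node 16 (.node 8 (.node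 4 (.node 2 (.node 1 (.leaf (nat_lit 0x27040650c1)) (.leaf (nat_lit 0x27030650d1))) (.node 1 (.leaf (nat_lit 0x2701065101)) (.leaf (nat_lit 0x2701065111)))) (.node 2 (.node 1 (.leaf (nat_lit 0x2703065121)) (.leaf (nat_lit 0x2702065131))) (.node 1 (.leaf (nat_lit 0x2702065141)) (.leaf (nat_lit 0x2704065141))))) (.node 4 (.node 2 (.node 1 (.leaf (nat_lit 0x2701065151)) (.leaf (nat_lit 0x2704065151))) (.node 1 (.leaf (nat_lit 0x2700065171)) (.leaf (nat_lit 0x2702065181)))) (.node 2 (.node 1 (.leaf (nat_lit 0x2703065191)) (.leaf (nat_lit 0x27030651a1))) (.node 1 (.leaf (nat_lit 0x27020651b1)) (.leaf (nat_lit 0x27040651b1)))))) (.node 8 (.node 4 (.node 2 (.node 1 (.leaf (nat_lit 0x27050651c1)) (.leaf (nat_lit 0x27020651d1))) (.node 1 (.leaf (nat_lit 0x27040651d1)) (.leaf (nat_lit 0x27010651e1)))) (.node 2 (.node 1 (.leaf (nat_lit 0x27020651f1)) (.leaf (nat_lit 0x290406e2e1))) (.node 1 (.leaf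 (nat_lit 0x2702065211)) (.leaf (nat_lit 0x2704065211))))) (.node 4 (.node 2 (.node 1 (.leaf (nat_lit 0x2702065231)) (.leaf (nat_lit 0x2704065231))) (.node 1 (.leaf (nat_lit 0x2702065241)) (.leaf (nat_lit 0x2701065251)))) (.node 2 (.node 1 (.leaf (nat_lit 0x2704065251)) (.leaf (nat_lit 0x2705065261))) (.node 1 (.leaf (nat_lit 0x2701065281)) (.leaf (nat_lit 0x2704065281))))))) (.node 16 (.node 8 (.node 4 (.node 2 (.node 1 (.leaf (nat_lit 0x27000652a1)) (.leaf (nat_lit 0x27030652b1))) (.node 1 (.leaf (nat_lit 0x29010652c1)) (.leaf (nat_lit 0x27010652d1)))) (.node 2 (.node 1 (.leaf (nat_lit 0x27020652e1)) (.leaf (nat_lit 0x27010652f1))) (.node 1 (.leaf (nat_lit 0x290406e351)) (.leaf (nat_lit 0x2701065311))))) (.node 4 (.node 2 (.node 1 (.leaf (nat_lit 0x2704065311)) (.leaf (nat_lit 0x2705065321))) (.node 1 (.leaf (nat_lit 0x2703065331)) (.leaf (nat_lit 0x2701065351)))) (.node 2 (.node 1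 (.leaf (nat_lit 0x2704065351)) (.leaf (nat_lit 0x2705065361))) (.node 1 (.leaf (nat_lit 0x2700065371)) (.leaf (nat_lit 0x2704065371)))))) (.node 8 (.node 4 (.node 2 (.node 1 (.leaf (nat_lit 0x2705065381)) (.leaf (nat_lit 0x27000653a1))) (.node 1 (.leaf (nat_lit 0x27040653a1)) (.leaf (nat_lit 0x27030653b1)))) (.node 2 (.node 1 (.leaf (nat_lit 0x27030653d1)) (.leaf (nat_lit 0x27070653f1))) (.node 1 (.leaf (nat_lit 0x2708065401)) (.leaf (nat_lit 0x2703065411))))) (.node 4 (.node 2 (.node 1 (.leaf (nat_lit 0x2703065421)) (.leaf (nat_lit 0x2702065431))) (.node 1 (.leaf (nat_lit 0x2702065441)) (.leaf (nat_lit 0x2704065441)))) (.node 2 (.node 1 (.leaf (nat_lit 0x2901065451)) (.leaf (nat_lit 0x2702065461))) (.node 1 (.leaf (nat_lit 0x2704065461)) (.leaf (nat_lit 0x2704065471))))))))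

noncomputable def oT212 : Tree :=
  .node 64 (.node 32 (.node 16 (.node 8 (.node 4 (.node 2 (.node 1 (.leaf (nat_lit 0x2705065481)) (.leaf (nat_lit 0x2703065491))) (.node 1 (.leaf (nat_lit 0x27020654a1)) (.leaf (nat_lit 0x27040654a1)))) (.node 2 (.node 1 (.leaf (nat_lit 0x27020654b1)) (.leaf (nat_lit 0x27040654b1))) (.node 1 (.leaf (nat_lit 0x27010654c1)) (.leaf (nat_lit 0x27040654c1))))) (.node 4 (.node 2 (.node 1 (.leaf (nat_lit 0x27050654d1)) (.leaf (nat_lit 0x27060654e1))) (.node 1 (.leaf (nat_lit 0x27010654f1)) (.leaf (nat_lit 0x27040654f1)))) (.node 2 (.node 1 (.leaf (nat_lit 0x2700065511)) (.leaf (nat_lit 0x2704067d81))) (.node 1 (.leaf (nat_lit 0x2703065531)) (.leaf (nat_lit 0x2702065541)))))) (.node 8 (.node 4 (.node 2 (.node 1 (.leaf (nat_lit 0x2704065541)) (.leaf (nat_lit 0x2701065551))) (.node 1 (.leaf (nat_lit 0x2704065551)) (.leaf (nat_lit 0x2701065571)))) (.node 2 (.node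 1 (.leaf (nat_lit 0x2704065571)) (.leaf (nat_lit 0x2900065591))) (.node 1 (.leaf (nat_lit 0x27020655a1)) (.leaf (nat_lit 0x27040655a1))))) (.node 4 (.node 2 (.node 1 (.leaf (nat_lit 0x27010655b1)) (.leaf (nat_lit 0x27040655b1))) (.node 1 (.leaf (nat_lit 0x27050655c1)) (.leaf (nat_lit 0x27020655e1)))) (.node 2 (.node 1 (.leaf (nat_lit 0x27040655e1)) (.leaf (nat_lit 0x27010655f1))) (.node 1 (.leaf (nat_lit 0x27040655f1)) (.leaf (nat_lit 0x2705065601))))))) (.node 16 (.node 8 (.node 4 (.node 2 (.node 1 (.leaf (nat_lit 0x2701065611)) (.leaf (nat_lit 0x2704065611))) (.node 1 (.leaf (nat_lit 0x2700065631)) (.leaf (nat_lit 0x2704065631)))) (.node 2 (.node 1 (.leaf (nat_lit 0x2705065641)) (.leaf (nat_lit 0x2701065661))) (.node 1 (.leaf (nat_lit 0x2704065661)) (.leaf (nat_lit 0x2700065681))))) (.node 4 (.node 2 (.node 1 (.leaf (nat_lit 0x2704065681)) (.leaf (nat_lit 0x2703065691))) (.node 1 (.leaf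 (nat_lit 0x27070656b1)) (.leaf (nat_lit 0x29010656c1)))) (.node 2 (.node 1 (.leaf (nat_lit 0x2705067c31)) (.leaf (nat_lit 0x29000656e1))) (.node 1 (.leaf (nat_lit 0x27030656f1)) (.leaf (nat_lit 0x2702065701)))))) (.node 8 (.node 4 (.node 2 (.node 1 (.leaf (nat_lit 0x2704065701)) (.leaf (nat_lit 0x2702065711))) (.node 1 (.leaf (nat_lit 0x2704065711)) (.leaf (nat_lit 0x2701065721)))) (.node 2 (.node 1 (.leaf (nat_lit 0x2704065721)) (.leaf (nat_lit 0x2701065741))) (.node 1 (.leaf (nat_lit 0x2704065741)) (.leaf (nat_lit 0x2700065761))))) (.node 4 (.node 2 (.node 1 (.leaf (nat_lit 0x2704065761)) (.leaf (nat_lit 0x2700065781))) (.node 1 (.leaf (nat_lit 0x2704065781)) (.leaf (nat_lit 0x27020657b1)))) (.node 2 (.node 1 (.leaf (nat_lit 0x27010657c1)) (.leaf (nat_lit 0x27020657d1))) (.node 1 (.leaf (nat_lit 0x27040657d1)) (.leaf (nat_lit 0x27020657e1)))))))) (.node 32 (.node 16 (.node 8 (.node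 4 (.node 2 (.node 1 (.leaf (nat_lit 0x27040657e1)) (.leaf (nat_lit 0x27010657f1))) (.node 1 (.leaf (nat_lit 0x27040657f1)) (.leaf (nat_lit 0x2705065801)))) (.node 2 (.node 1 (.leaf (nat_lit 0x2701065811)) (.leaf (nat_lit 0x2704065811))) (.node 1 (.leaf (nat_lit 0x2705065821)) (.leaf (nat_lit 0x2700065831))))) (.node 4 (.node 2 (.node 1 (.leaf (nat_lit 0x2704065831)) (.leaf (nat_lit 0x2705065841))) (.node 1 (.leaf (nat_lit 0x2702065861)) (.leaf (nat_lit 0x2704065861)))) (.node 2 (.node 1 (.leaf (nat_lit 0x2701065871)) (.leaf (nat_lit 0x2704065871))) (.node 1 (.leaf (nat_lit 0x2705065881)) (.leaf (nat_lit 0x2701065891)))))) (.node 8 (.node 4 (.node 2 (.node 1 (.leaf (nat_lit 0x2704065891)) (.leaf (nat_lit 0x27050658a1))) (.node 1 (.leaf (nat_lit 0x27000658b1)) (.leaf (nat_lit 0x27040658b1)))) (.node 2 (.node 1 (.leaf (nat_lit 0x27030658c1)) (.leaf (nat_lit 0x27050658c1))) (.node 1 (.leaf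 (nat_lit 0x27060658d1)) (.leaf (nat_lit 0x27010658e1))))) (.node 4 (.node 2 (.node 1 (.leaf (nat_lit 0x27040658e1)) (.leaf (nat_lit 0x2700065901))) (.node 1 (.leaf (nat_lit 0x2704065901)) (.leaf (nat_lit 0x2703065911)))) (.node 2 (.node 1 (.leaf (nat_lit 0x2705065911)) (.leaf (nat_lit 0x2704065931))) (.node 1 (.leaf (nat_lit 0x2705065941)) (.leaf (nat_lit 0x2706065951))))))) (.node 16 (.node 8 (.node 4 (.node 2 (.node 1 (.leaf (nat_lit 0x2705067e21)) (.leaf (nat_lit 0x2700065981))) (.node 1 (.leaf (nat_lit 0x2704065981)) (.leaf (nat_lit 0x27040659a1)))) (.node 2 (.node 1 (.leaf (nat_lit 0x27030659b1)) (.leaf (nat_lit 0x27070659c1))) (.node 1 (.leaf (nat_lit 0x27070659e1)) (.leaf (nat_lit 0x27080659f1))))) (.node 4 (.node 2 (.node 1 (.leaf (nat_lit 0x2708065a01)) (.leaf (nat_lit 0x2707065a11))) (.node 1 (.leaf (nat_lit 0x2708065a21)) (.leaf (nat_lit 0x2703065a61)))) (.node 2 (.node 1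 (.leaf (nat_lit 0x2705065a61)) (.leaf (nat_lit 0x2705065a81))) (.node 1 (.leaf (nat_lit 0x2901065aa1)) (.leaf (nat_lit 0x2701065ab1)))))) (.node 8 (.node 4 (.node 2 (.node 1 (.leaf (nat_lit 0x2704065ab1)) (.leaf (nat_lit 0x2700065ad1))) (.node 1 (.leaf (nat_lit 0x2901065ae1)) (.leaf (nat_lit 0x2900065af1)))) (.node 2 (.node 1 (.leaf (nat_lit 0x2700065b01)) (.leaf (nat_lit 0x2704065b01))) (.node 1 (.leaf (nat_lit 0x2702065b31)) (.leaf (nat_lit 0x2704065b31))))) (.node 4 (.node 2 (.node 1 (.leaf (nat_lit 0x2901065b41)) (.leaf (nat_lit 0x2701065b51))) (.node 1 (.leaf (nat_lit 0x2704065b51)) (.leaf (nat_lit 0x2705065b61)))) (.node 2 (.node 1 (.leaf (nat_lit 0x2701065b81)) (.leaf (nat_lit 0x2704065b81))) (.node 1 (.leaf (nat_lit 0x2700065ba1)) (.leaf (nat_lit 0x2702065bb1))))))))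

noncomputable def oT213 : Tree :=
  .node 64 (.node 32 (.node 16 (.node 8 (.node 4 (.node 2 (.node 1 (.leaf (nat_lit 0x2704065bb1)) (.leaf (nat_lit 0x2901065bc1))) (.node 1 (.leaf (nat_lit 0x2701065bd1)) (.leaf (nat_lit 0x2704065bd1)))) (.node 2 (.node 1 (.leaf (nat_lit 0x2900065bf1)) (.leaf (nat_lit 0x2700065c01))) (.node 1 (.leaf (nat_lit 0x2704065c01)) (.leaf (nat_lit 0x2701065c31))))) (.node 4 (.node 2 (.node 1 (.leaf (nat_lit 0x2701065c41)) (.leaf (nat_lit 0x2704065c41))) (.node 1 (.leaf (nat_lit 0x2900065c61)) (.leaf (nat_lit 0x2700065c71)))) (.node 2 (.node 1 (.leaf (nat_lit 0x2700065c81)) (.leaf (nat_lit 0x2704065c81))) (.node 1 (.leaf (nat_lit 0x2700065cb1)) (.leaf (nat_lit 0x2700065cc1)))))) (.node 8 (.node 4 (.node 2 (.node 1 (.leaf (nat_lit 0x2700065cd1)) (.leaf (nat_lit 0x2701065cf1))) (.node 1 (.leaf (nat_lit 0x2704065cf1)) (.leaf (nat_lit 0x2700065d11)))) (.node 2 (.node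 1 (.leaf (nat_lit 0x2704065d11)) (.leaf (nat_lit 0x2704065d31))) (.node 1 (.leaf (nat_lit 0x2703065d41)) (.leaf (nat_lit 0x2707065d51))))) (.node 4 (.node 2 (.node 1 (.leaf (nat_lit 0x2708065d61)) (.leaf (nat_lit 0x2701065d81))) (.node 1 (.leaf (nat_lit 0x2700065d91)) (.leaf (nat_lit 0x2901065da1)))) (.node 2 (.node 1 (.leaf (nat_lit 0x2701065db1)) (.leaf (nat_lit 0x2704065db1))) (.node 1 (.leaf (nat_lit 0x2900065dd1)) (.leaf (nat_lit 0x2701065de1))))))) (.node 16 (.node 8 (.node 4 (.node 2 (.node 1 (.leaf (nat_lit 0x2704065de1)) (.leaf (nat_lit 0x2700065e01))) (.node 1 (.leaf (nat_lit 0x2704065e01)) (.leaf (nat_lit 0x2702065e31)))) (.node 2 (.node 1 (.leaf (nat_lit 0x2704065e31)) (.leaf (nat_lit 0x2701065e41))) (.node 1 (.leaf (nat_lit 0x2702065e51)) (.leaf (nat_lit 0x2704065e51))))) (.node 4 (.node 2 (.node 1 (.leaf (nat_lit 0x2701065e61)) (.leaf (nat_lit 0x2704065e61))) (.node 1 (.leaf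 (nat_lit 0x2705065e71)) (.leaf (nat_lit 0x2706065e81)))) (.node 2 (.node 1 (.leaf (nat_lit 0x2701065e91)) (.leaf (nat_lit 0x2704065e91))) (.node 1 (.leaf (nat_lit 0x2700065eb1)) (.leaf (nat_lit 0x2702065ec1)))))) (.node 8 (.node 4 (.node 2 (.node 1 (.leaf (nat_lit 0x2704065ec1)) (.leaf (nat_lit 0x2701065ed1))) (.node 1 (.leaf (nat_lit 0x2702065ee1)) (.leaf (nat_lit 0x2704065ee1)))) (.node 2 (.node 1 (.leaf (nat_lit 0x2701065ef1)) (.leaf (nat_lit 0x2704065ef1))) (.node 1 (.leaf (nat_lit 0x2700065f11)) (.leaf (nat_lit 0x2700065f21))))) (.node 4 (.node 2 (.node 1 (.leaf (nat_lit 0x2704065f21)) (.leaf (nat_lit 0x2703065f31))) (.node 1 (.leaf (nat_lit 0x2706065f71)) (.leaf (nat_lit 0x2706067b71)))) (.node 2 (.node 1 (.leaf (nat_lit 0x2705067171)) (.leaf (nat_lit 0x2707065f81))) (.node 1 (.leaf (nat_lit 0x2702065f91)) (.leaf (nat_lit 0x2704065f91)))))))) (.node 32 (.node 16 (.node 8 (.node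 4 (.node 2 (.node 1 (.leaf (nat_lit 0x2701065fa1)) (.leaf (nat_lit 0x2901065fb1))) (.node 1 (.leaf (nat_lit 0x2904065fb1)) (.leaf (nat_lit 0x2900065fd1)))) (.node 2 (.node 1 (.leaf (nat_lit 0x2702065fe1)) (.leaf (nat_lit 0x2705067361))) (.node 1 (.leaf (nat_lit 0x2701065ff1)) (.leaf (nat_lit 0x2702066001))))) (.node 4 (.node 2 (.node 1 (.leaf (nat_lit 0x2706066021)) (.leaf (nat_lit 0x2701066011))) (.node 1 (.leaf (nat_lit 0x2705067381)) (.leaf (nat_lit 0x2700066031)))) (.node 2 (.node 1 (.leaf (nat_lit 0x2901066041)) (.leaf (nat_lit 0x290706d2d1))) (.node 1 (.leaf (nat_lit 0x2706067ae1)) (.leaf (nat_lit 0x2900066061)))))) (.node 8 (.node 4 (.node 2 (.node 1 (.leaf (nat_lit 0x290506e561)) (.leaf (nat_lit 0x27050680e1))) (.node 1 (.leaf (nat_lit 0x2702066091)) (.leaf (nat_lit 0x27010660a1)))) (.node 2 (.node 1 (.leaf (nat_lit 0x27000660b1)) (.leaf (nat_lit 0x27020660c1))) (.node 1 (.leaf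 (nat_lit 0x27040660c1)) (.leaf (nat_lit 0x27010660d1))))) (.node 4 (.node 2 (.node 1 (.leaf (nat_lit 0x27040660d1)) (.leaf (nat_lit 0x27010660f1))) (.node 1 (.leaf (nat_lit 0x2700066101)) (.leaf (nat_lit 0x2700066111)))) (.node 2 (.node 1 (.leaf (nat_lit 0x2704066111)) (.leaf (nat_lit 0x2703066121))) (.node 1 (.leaf (nat_lit 0x2704066141)) (.leaf (nat_lit 0x2703066151))))))) (.node 16 (.node 8 (.node 4 (.node 2 (.node 1 (.leaf (nat_lit 0x2707066161)) (.leaf (nat_lit 0x2706066191))) (.node 1 (.leaf (nat_lit 0x2705066f71)) (.leaf (nat_lit 0x27060661c1)))) (.node 2 (.node 1 (.leaf (nat_lit 0x27070661d1)) (.leaf (nat_lit 0x27080661e1))) (.node 1 (.leaf (nat_lit 0x2901066211)) (.leaf (nat_lit 0x2702066221))))) (.node 4 (.node 2 (.node 1 (.leaf (nat_lit 0x2702066231)) (.leaf (nat_lit 0x2704066231))) (.node 1 (.leaf (nat_lit 0x2701066241)) (.leaf (nat_lit 0x2702066251)))) (.node 2 (.node 1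 (.leaf (nat_lit 0x2704066251)) (.leaf (nat_lit 0x2901066261))) (.node 1 (.leaf (nat_lit 0x2904066261)) (.leaf (nat_lit 0x2900066281)))))) (.node 8 (.node 4 (.node 2 (.node 1 (.leaf (nat_lit 0x2702066291)) (.leaf (nat_lit 0x2704066291))) (.node 1 (.leaf (nat_lit 0x27040662a1)) (.leaf (nat_lit 0x27050662b1)))) (.node 2 (.node 1 (.leaf (nat_lit 0x27020662c1)) (.leaf (nat_lit 0x27020662d1))) (.node 1 (.leaf (nat_lit 0x27040662d1)) (.leaf (nat_lit 0x27010662e1))))) (.node 4 (.node 2 (.node 1 (.leaf (nat_lit 0x27040662e1)) (.leaf (nat_lit 0x27050662f1))) (.node 1 (.leaf (nat_lit 0x2703066301)) (.leaf (nat_lit 0x2705066301)))) (.node 2 (.node 1 (.leaf (nat_lit 0x2706066311)) (.leaf (nat_lit 0x2702066321))) (.node 1 (.leaf (nat_lit 0x2704066321)) (.leaf (nat_lit 0x2702066331))))))))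

noncomputable def oT214 : Tree :=
  .node 64 (.node 32 (.node 16 (.node 8 (.node 4 (.node 2 (.node 1 (.leaf (nat_lit 0x2701066341)) (.leaf (nat_lit 0x2702066351))) (.node 1 (.leaf (nat_lit 0x2704066351)) (.leaf (nat_lit 0x2701066361)))) (.node 2 (.node 1 (.leaf (nat_lit 0x2704066361)) (.leaf (nat_lit 0x2705066371))) (.node 1 (.leaf (nat_lit 0x2700066381)) (.leaf (nat_lit 0x2704066381))))) (.node 4 (.node 2 (.node 1 (.leaf (nat_lit 0x2705066391)) (.leaf (nat_lit 0x27060663a1))) (.node 1 (.leaf (nat_lit 0x27010663c1)) (.leaf (nat_lit 0x27040663c1)))) (.node 2 (.node 1 (.leaf (nat_lit 0x27000663e1)) (.leaf (nat_lit 0x27040663e1))) (.node 1 (.leaf (nat_lit 0x27030663f1)) (.leaf (nat_lit 0x2701066411)))))) (.node 8 (.node 4 (.node 2 (.node 1 (.leaf (nat_lit 0x2702066421)) (.leaf (nat_lit 0x2704066421))) (.node 1 (.leaf (nat_lit 0x2901066431)) (.leaf (nat_lit 0x2904066431)))) (.node 2 (.node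 1 (.leaf (nat_lit 0x2900066451)) (.leaf (nat_lit 0x2701066461))) (.node 1 (.leaf (nat_lit 0x2702066471)) (.leaf (nat_lit 0x2701066481))))) (.node 4 (.node 2 (.node 1 (.leaf (nat_lit 0x2700066491)) (.leaf (nat_lit 0x27020664a1))) (.node 1 (.leaf (nat_lit 0x27060665b1)) (.leaf (nat_lit 0x29010664b1)))) (.node 2 (.node 1 (.leaf (nat_lit 0x29040664b1)) (.leaf (nat_lit 0x290606e401))) (.node 1 (.leaf (nat_lit 0x29000664d1)) (.leaf (nat_lit 0x290506f211))))))) (.node 16 (.node 8 (.node 4 (.node 2 (.node 1 (.leaf (nat_lit 0x27050676c1)) (.leaf (nat_lit 0x2701066501))) (.node 1 (.leaf (nat_lit 0x2700066511)) (.leaf (nat_lit 0x2702066521)))) (.node 2 (.node 1 (.leaf (nat_lit 0x2701066531)) (.leaf (nat_lit 0x2701066541))) (.node 1 (.leaf (nat_lit 0x2700066551)) (.leaf (nat_lit 0x2701066561))))) (.node 4 (.node 2 (.node 1 (.leaf (nat_lit 0x2700066571)) (.leaf (nat_lit 0x2704066571))) (.node 1 (.leaf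 (nat_lit 0x29010665a1)) (.leaf (nat_lit 0x2705067dd1)))) (.node 2 (.node 1 (.leaf (nat_lit 0x27000665c1)) (.leaf (nat_lit 0x27040665c1))) (.node 1 (.leaf (nat_lit 0x27030665d1)) (.leaf (nat_lit 0x27040665e1)))))) (.node 8 (.node 4 (.node 2 (.node 1 (.leaf (nat_lit 0x27030665f1)) (.leaf (nat_lit 0x2707066601))) (.node 1 (.leaf (nat_lit 0x2706066681)) (.leaf (nat_lit 0x2706066661)))) (.node 2 (.node 1 (.leaf (nat_lit 0x2706066671)) (.leaf (nat_lit 0x2705067601))) (.node 1 (.leaf (nat_lit 0x2705067651)) (.leaf (nat_lit 0x2705067411))))) (.node 4 (.node 2 (.node 1 (.leaf (nat_lit 0x2707066691)) (.leaf (nat_lit 0x27020666a1))) (.node 1 (.leaf (nat_lit 0x27070666a1)) (.leaf (nat_lit 0x27080666b1)))) (.node 2 (.node 1 (.leaf (nat_lit 0x29010666c1)) (.leaf (nat_lit 0x29010666d1))) (.node 1 (.leaf (nat_lit 0x27020666e1)) (.leaf (nat_lit 0x27040666e1)))))))) (.node 32 (.node 16 (.node 8 (.node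 4 (.node 2 (.node 1 (.leaf (nat_lit 0x29010666f1)) (.leaf (nat_lit 0x29040666f1))) (.node 1 (.leaf (nat_lit 0x2704066731)) (.leaf (nat_lit 0x2900066711)))) (.node 2 (.node 1 (.leaf (nat_lit 0x2701066721)) (.leaf (nat_lit 0x2702066731))) (.node 1 (.leaf (nat_lit 0x2901066741)) (.leaf (nat_lit 0x290706e511))))) (.node 4 (.node 2 (.node 1 (.leaf (nat_lit 0x2b00066761)) (.leaf (nat_lit 0x290506f251))) (.node 1 (.leaf (nat_lit 0x290506f261)) (.leaf (nat_lit 0x2701066791)))) (.node 2 (.node 1 (.leaf (nat_lit 0x27010667a1)) (.leaf (nat_lit 0x27040667a1))) (.node 1 (.leaf (nat_lit 0x29000667c1)) (.leaf (nat_lit 0x27020667d1)))))) (.node 8 (.node 4 (.node 2 (.node 1 (.leaf (nat_lit 0x27040667d1)) (.leaf (nat_lit 0x27020667e1))) (.node 1 (.leaf (nat_lit 0x29010667f1)) (.leaf (nat_lit 0x290506de91)))) (.node 2 (.node 1 (.leaf (nat_lit 0x2701066811)) (.leaf (nat_lit 0x2900066821))) (.node 1 (.leaf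 (nat_lit 0x2702066831)) (.leaf (nat_lit 0x2704066831))))) (.node 4 (.node 2 (.node 1 (.leaf (nat_lit 0x2901066841)) (.leaf (nat_lit 0x2906066871))) (.node 1 (.leaf (nat_lit 0x2708066cf1)) (.leaf (nat_lit 0x2900066861)))) (.node 2 (.node 1 (.leaf (nat_lit 0x290506e1c1)) (.leaf (nat_lit 0x2705067461))) (.node 1 (.leaf (nat_lit 0x2900066891)) (.leaf (nat_lit 0x29010668a1))))))) (.node 16 (.node 8 (.node 4 (.node 2 (.node 1 (.leaf (nat_lit 0x2706066b71)) (.leaf (nat_lit 0x29000668c1))) (.node 1 (.leaf (nat_lit 0x29040668c1)) (.leaf (nat_lit 0x2706066911)))) (.node 2 (.node 1 (.leaf (nat_lit 0x29050668d1)) (.leaf (nat_lit 0x29040668f1))) (.node 1 (.leaf (nat_lit 0x2705068281)) (.leaf (nat_lit 0x2705068261))))) (.node 4 (.node 2 (.node 1 (.leaf (nat_lit 0x2700066921)) (.leaf (nat_lit 0x2702066931))) (.node 1 (.leaf (nat_lit 0x2701066941)) (.leaf (nat_lit 0x2704066941)))) (.node 2 (.node 1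 (.leaf (nat_lit 0x2700066961)) (.leaf (nat_lit 0x2701066971))) (.node 1 (.leaf (nat_lit 0x2700066981)) (.leaf (nat_lit 0x2704066981)))))) (.node 8 (.node 4 (.node 2 (.node 1 (.leaf (nat_lit 0x27040669a1)) (.leaf (nat_lit 0x29020669c1))) (.node 1 (.leaf (nat_lit 0x29040669c1)) (.leaf (nat_lit 0x27020669d1)))) (.node 2 (.node 1 (.leaf (nat_lit 0x27040669d1)) (.leaf (nat_lit 0x27010669e1))) (.node 1 (.leaf (nat_lit 0x27040669e1)) (.leaf (nat_lit 0x27050669f1))))) (.node 4 (.node 2 (.node 1 (.leaf (nat_lit 0x2701066a01)) (.leaf (nat_lit 0x2704066a01))) (.node 1 (.leaf (nat_lit 0x2700066a21)) (.leaf (nat_lit 0x2704066a21)))) (.node 2 (.node 1 (.leaf (nat_lit 0x2703066a31)) (.leaf (nat_lit 0x2705066a31))) (.node 1 (.leaf (nat_lit 0x2700066a51)) (.leaf (nat_lit 0x2704066a51))))))))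

noncomputable def oT215 : Tree :=
  .node 64 (.node 32 (.node 16 (.node 8 (.node 4 (.node 2 (.node 1 (.leaf (nat_lit 0x2703066a61)) (.leaf (nat_lit 0x2704066a71))) (.node 1 (.leaf (nat_lit 0x2703066a81)) (.leaf (nat_lit 0x2705066a81)))) (.node 2 (.node 1 (.leaf (nat_lit 0x2705066a91)) (.leaf (nat_lit 0x2901066ab1))) (.node 1 (.leaf (nat_lit 0x2904066ab1)) (.leaf (nat_lit 0x2703066c91))))) (.node 4 (.node 2 (.node 1 (.leaf (nat_lit 0x2700066ad1)) (.leaf (nat_lit 0x2704066ad1))) (.node 1 (.leaf (nat_lit 0x2705066ae1)) (.leaf (nat_lit 0x2704066b01)))) (.node 2 (.node 1 (.leaf (nat_lit 0x2703066b11)) (.leaf (nat_lit 0x2705066b11))) (.node 1 (.leaf (nat_lit 0x2707066b21)) (.leaf (nat_lit 0x2705066b41)))))) (.node 8 (.node 4 (.node 2 (.node 1 (.leaf (nat_lit 0x29050687b1)) (.leaf (nat_lit 0x2705067df1))) (.node 1 (.leaf (nat_lit 0x2705067621)) (.leaf (nat_lit 0x2704066b81)))) (.node 2 (.node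 1 (.leaf (nat_lit 0x2703066b91)) (.leaf (nat_lit 0x2707066ba1))) (.node 1 (.leaf (nat_lit 0x2703066bb1)) (.leaf (nat_lit 0x2702066bc1))))) (.node 4 (.node 2 (.node 1 (.leaf (nat_lit 0x2707066bc1)) (.leaf (nat_lit 0x2708066bd1))) (.node 1 (.leaf (nat_lit 0x2705066be1)) (.leaf (nat_lit 0x2706066c11)))) (.node 2 (.node 1 (.leaf (nat_lit 0x2708066db1)) (.leaf (nat_lit 0x2705067441))) (.node 1 (.leaf (nat_lit 0x2706066cb1)) (.leaf (nat_lit 0x2704066c31))))))) (.node 16 (.node 8 (.node 4 (.node 2 (.node 1 (.leaf (nat_lit 0x2706066c71)) (.leaf (nat_lit 0x2706066c81))) (.node 1 (.leaf (nat_lit 0x27050681d1)) (.leaf (nat_lit 0x2705068211)))) (.node 2 (.node 1 (.leaf (nat_lit 0x27050681f1)) (.leaf (nat_lit 0x2705068241))) (.node 1 (.leaf (nat_lit 0x2708066ca1)) (.leaf (nat_lit 0x2708066cc1))))) (.node 4 (.node 2 (.node 1 (.leaf (nat_lit 0x2702066cd1)) (.leaf (nat_lit 0x2707066cd1))) (.node 1 (.leaf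 (nat_lit 0x2707066ce1)) (.leaf (nat_lit 0x2701066d91)))) (.node 2 (.node 1 (.leaf (nat_lit 0x2703066de1)) (.leaf (nat_lit 0x2706066d71))) (.node 1 (.leaf (nat_lit 0x2705067091)) (.leaf (nat_lit 0x2707066d91)))))) (.node 8 (.node 4 (.node 2 (.node 1 (.leaf (nat_lit 0x2703066db1)) (.leaf (nat_lit 0x2704066dd1))) (.node 1 (.leaf (nat_lit 0x2700066e01)) (.leaf (nat_lit 0x2700066e21)))) (.node 2 (.node 1 (.leaf (nat_lit 0x2700066e31)) (.leaf (nat_lit 0x2704066f31))) (.node 1 (.leaf (nat_lit 0x2700066e71)) (.leaf (nat_lit 0x2701066e91))))) (.node 4 (.node 2 (.node 1 (.leaf (nat_lit 0x2704066e91)) (.leaf (nat_lit 0x2700066eb1))) (.node 1 (.leaf (nat_lit 0x2701066ec1)) (.leaf (nat_lit 0x2704066ec1)))) (.node 2 (.node 1 (.leaf (nat_lit 0x2700066ee1)) (.leaf (nat_lit 0x2701066ef1))) (.node 1 (.leaf (nat_lit 0x2704066ef1)) (.leaf (nat_lit 0x2700066f11)))))))) (.node 32 (.node 16 (.node 8 (.node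 4 (.node 2 (.node 1 (.leaf (nat_lit 0x2704066f11)) (.leaf (nat_lit 0x2700066f41))) (.node 1 (.leaf (nat_lit 0x2701066f61)) (.leaf (nat_lit 0x2704066f61)))) (.node 2 (.node 1 (.leaf (nat_lit 0x2700066f81)) (.leaf (nat_lit 0x2700066f91))) (.node 1 (.leaf (nat_lit 0x2701066fc1)) (.leaf (nat_lit 0x2700066fd1))))) (.node 4 (.node 2 (.node 1 (.leaf (nat_lit 0x2704066fd1)) (.leaf (nat_lit 0x2704066ff1))) (.node 1 (.leaf (nat_lit 0x2700067011)) (.leaf (nat_lit 0x2701067031)))) (.node 2 (.node 1 (.leaf (nat_lit 0x2704067031)) (.leaf (nat_lit 0x2700067051))) (.node 1 (.leaf (nat_lit 0x2704067051)) (.leaf (nat_lit 0x2702067081)))))) (.node 8 (.node 4 (.node 2 (.node 1 (.leaf (nat_lit 0x2703067091)) (.leaf (nat_lit 0x29010670a1))) (.node 1 (.leaf (nat_lit 0x2703067261)) (.leaf (nat_lit 0x27050670b1)))) (.node 2 (.node 1 (.leaf (nat_lit 0x29010670d1)) (.leaf (nat_lit 0x29040670d1))) (.node 1 (.leaf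 (nat_lit 0x29000670f1)) (.leaf (nat_lit 0x2901067101))))) (.node 4 (.node 2 (.node 1 (.leaf (nat_lit 0x2902067111)) (.leaf (nat_lit 0x2703067121))) (.node 1 (.leaf (nat_lit 0x2702067131)) (.leaf (nat_lit 0x2704067131)))) (.node 2 (.node 1 (.leaf (nat_lit 0x2901067141)) (.leaf (nat_lit 0x27030686c1))) (.node 1 (.leaf (nat_lit 0x27070671a1)) (.leaf (nat_lit 0x2701067161))))))) (.node 16 (.node 8 (.node 4 (.node 2 (.node 1 (.leaf (nat_lit 0x2704067161)) (.leaf (nat_lit 0x2900067181))) (.node 1 (.leaf (nat_lit 0x29030685a1)) (.leaf (nat_lit 0x27030685b1)))) (.node 2 (.node 1 (.leaf (nat_lit 0x27030671b1)) (.leaf (nat_lit 0x27000671c1))) (.node 1 (.leaf (nat_lit 0x27010671e1)) (.leaf (nat_lit 0x27040671e1))))) (.node 4 (.node 2 (.node 1 (.leaf (nat_lit 0x27050671f1)) (.leaf (nat_lit 0x2700067201))) (.node 1 (.leaf (nat_lit 0x2704067201)) (.leaf (nat_lit 0x2705067211)))) (.node 2 (.node 1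 (.leaf (nat_lit 0x2701067231)) (.leaf (nat_lit 0x2704067231))) (.node 1 (.leaf (nat_lit 0x2700067251)) (.leaf (nat_lit 0x2704067251)))))) (.node 8 (.node 4 (.node 2 (.node 1 (.leaf (nat_lit 0x2705067261)) (.leaf (nat_lit 0x2700067281))) (.node 1 (.leaf (nat_lit 0x2704067281)) (.leaf (nat_lit 0x27040672a1)))) (.node 2 (.node 1 (.leaf (nat_lit 0x27050672b1)) (.leaf (nat_lit 0x2705067301))) (.node 1 (.leaf (nat_lit 0x2703067301)) (.leaf (nat_lit 0x2701067321))))) (.node 4 (.node 2 (.node 1 (.leaf (nat_lit 0x2704067321)) (.leaf (nat_lit 0x2703067341))) (.node 1 (.leaf (nat_lit 0x2701067351)) (.leaf (nat_lit 0x2704067351)))) (.node 2 (.node 1 (.leaf (nat_lit 0x2700067371)) (.leaf (nat_lit 0x2704067371))) (.node 1 (.leaf (nat_lit 0x27020673a1)) (.leaf (nat_lit 0x27070673c1))))))))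

noncomputable def oT216 : Tree :=
  .node 64 (.node 32 (.node 16 (.node 8 (.node 4 (.node 2 (.node 1 (.leaf (nat_lit 0x27010673b1)) (.leaf (nat_lit 0x2703067871))) (.node 1 (.leaf (nat_lit 0x27050673c1)) (.leaf (nat_lit 0x27000673e1)))) (.node 2 (.node 1 (.leaf (nat_lit 0x27020673f1)) (.leaf (nat_lit 0x2707067411))) (.node 1 (.leaf (nat_lit 0x2701067401)) (.leaf (nat_lit 0x2703067dd1))))) (.node 4 (.node 2 (.node 1 (.leaf (nat_lit 0x2702067421)) (.leaf (nat_lit 0x2704067421))) (.node 1 (.leaf (nat_lit 0x2701067431)) (.leaf (nat_lit 0x2704067431)))) (.node 2 (.node 1 (.leaf (nat_lit 0x2700067451)) (.leaf (nat_lit 0x2704067451))) (.node 1 (.leaf (nat_lit 0x2701067481)) (.leaf (nat_lit 0x2704067481)))))) (.node 8 (.node 4 (.node 2 (.node 1 (.leaf (nat_lit 0x27010674a1)) (.leaf (nat_lit 0x27000674b1))) (.node 1 (.leaf (nat_lit 0x27040674b1)) (.leaf (nat_lit 0x27010674d1)))) (.node 2 (.node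 1 (.leaf (nat_lit 0x27010674e1)) (.leaf (nat_lit 0x27040674e1))) (.node 1 (.leaf (nat_lit 0x2700067501)) (.leaf (nat_lit 0x2704067501))))) (.node 4 (.node 2 (.node 1 (.leaf (nat_lit 0x2703067511)) (.leaf (nat_lit 0x2700067521))) (.node 1 (.leaf (nat_lit 0x2704067531)) (.leaf (nat_lit 0x2700067551)))) (.node 2 (.node 1 (.leaf (nat_lit 0x2901067571)) (.leaf (nat_lit 0x2904067571))) (.node 1 (.leaf (nat_lit 0x27040675b1)) (.leaf (nat_lit 0x2902070171))))))) (.node 16 (.node 8 (.node 4 (.node 2 (.node 1 (.leaf (nat_lit 0x27030678a1)) (.leaf (nat_lit 0x27050675a1))) (.node 1 (.leaf (nat_lit 0x29000675c1)) (.leaf (nat_lit 0x29040675c1)))) (.node 2 (.node 1 (.leaf (nat_lit 0x29030675d1)) (.leaf (nat_lit 0x27010675f1))) (.node 1 (.leaf (nat_lit 0x27040675f1)) (.leaf (nat_lit 0x2703068571))))) (.node 4 (.node 2 (.node 1 (.leaf (nat_lit 0x2703067df1)) (.leaf (nat_lit 0x2702067631))) (.node 1 (.leaf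 (nat_lit 0x2704067631)) (.leaf (nat_lit 0x2701067641)))) (.node 2 (.node 1 (.leaf (nat_lit 0x2704067641)) (.leaf (nat_lit 0x2901067661))) (.node 1 (.leaf (nat_lit 0x290306d761)) (.leaf (nat_lit 0x2905067671)))))) (.node 8 (.node 4 (.node 2 (.node 1 (.leaf (nat_lit 0x2900067681)) (.leaf (nat_lit 0x290306d791))) (.node 1 (.leaf (nat_lit 0x2905067691)) (.leaf (nat_lit 0x2903067981)))) (.node 2 (.node 1 (.leaf (nat_lit 0x27000676b1)) (.leaf (nat_lit 0x27040676b1))) (.node 1 (.leaf (nat_lit 0x290306e1d1)) (.leaf (nat_lit 0x29050676e1))))) (.node 4 (.node 2 (.node 1 (.leaf (nat_lit 0x29060676f1)) (.leaf (nat_lit 0x2701067721))) (.node 1 (.leaf (nat_lit 0x2704067721)) (.leaf (nat_lit 0x2700067741)))) (.node 2 (.node 1 (.leaf (nat_lit 0x2701067751)) (.leaf (nat_lit 0x2704067751))) (.node 1 (.leaf (nat_lit 0x2701067771)) (.leaf (nat_lit 0x2704067771)))))))) (.node 32 (.node 16 (.node 8 (.node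 4 (.node 2 (.node 1 (.leaf (nat_lit 0x2700067791)) (.leaf (nat_lit 0x2704067791))) (.node 1 (.leaf (nat_lit 0x27010677b1)) (.leaf (nat_lit 0x27000677c1)))) (.node 2 (.node 1 (.leaf (nat_lit 0x27040677c1)) (.leaf (nat_lit 0x27040677e1))) (.node 1 (.leaf (nat_lit 0x2701067801)) (.leaf (nat_lit 0x2704067801))))) (.node 4 (.node 2 (.node 1 (.leaf (nat_lit 0x2701067821)) (.leaf (nat_lit 0x2704067821))) (.node 1 (.leaf (nat_lit 0x2700067841)) (.leaf (nat_lit 0x2704067841)))) (.node 2 (.node 1 (.leaf (nat_lit 0x2703067851)) (.leaf (nat_lit 0x2700067861))) (.node 1 (.leaf (nat_lit 0x2704067861)) (.leaf (nat_lit 0x2705067871)))))) (.node 8 (.node 4 (.node 2 (.node 1 (.leaf (nat_lit 0x2704067891)) (.leaf (nat_lit 0x27050678a1))) (.node 1 (.leaf (nat_lit 0x29010678c1)) (.leaf (nat_lit 0x29040678c1)))) (.node 2 (.node 1 (.leaf (nat_lit 0x27000678e1)) (.leaf (nat_lit 0x27040678e1))) (.node 1 (.leaf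 (nat_lit 0x2704067901)) (.leaf (nat_lit 0x2705067921))))) (.node 4 (.node 2 (.node 1 (.leaf (nat_lit 0x290406d941)) (.leaf (nat_lit 0x2908067981))) (.node 1 (.leaf (nat_lit 0x2700067991)) (.leaf (nat_lit 0x27000679a1)))) (.node 2 (.node 1 (.leaf (nat_lit 0x27000679b1)) (.leaf (nat_lit 0x27040679b1))) (.node 1 (.leaf (nat_lit 0x27050679c1)) (.leaf (nat_lit 0x27020679f1))))))) (.node 16 (.node 8 (.node 4 (.node 2 (.node 1 (.leaf (nat_lit 0x27040679f1)) (.leaf (nat_lit 0x2701067a01))) (.node 1 (.leaf (nat_lit 0x2704067a01)) (.leaf (nat_lit 0x2705067a11)))) (.node 2 (.node 1 (.leaf (nat_lit 0x2700067a21)) (.leaf (nat_lit 0x2704067a21))) (.node 1 (.leaf (nat_lit 0x2705067a31)) (.leaf (nat_lit 0x2702067a71))))) (.node 4 (.node 2 (.node 1 (.leaf (nat_lit 0x2704067a71)) (.leaf (nat_lit 0x2701067a81))) (.node 1 (.leaf (nat_lit 0x2704067a81)) (.leaf (nat_lit 0x2705067a91)))) (.node 2 (.node 1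 (.leaf (nat_lit 0x2701067aa1)) (.leaf (nat_lit 0x2704067aa1))) (.node 1 (.leaf (nat_lit 0x2705067ab1)) (.leaf (nat_lit 0x2700067ac1)))))) (.node 8 (.node 4 (.node 2 (.node 1 (.leaf (nat_lit 0x2704067ac1)) (.leaf (nat_lit 0x2705067ad1))) (.node 1 (.leaf (nat_lit 0x2700067af1)) (.leaf (nat_lit 0x2704067af1)))) (.node 2 (.node 1 (.leaf (nat_lit 0x2705067b01)) (.leaf (nat_lit 0x2704067b21))) (.node 1 (.leaf (nat_lit 0x2705067b31)) (.leaf (nat_lit 0x2706067b41))))) (.node 4 (.node 2 (.node 1 (.leaf (nat_lit 0x2701067b81)) (.leaf (nat_lit 0x2704067b81))) (.node 1 (.leaf (nat_lit 0x2700067ba1)) (.leaf (nat_lit 0x2704067ba1)))) (.node 2 (.node 1 (.leaf (nat_lit 0x2900067bd1)) (.leaf (nat_lit 0x2704067bf1))) (.node 1 (.leaf (nat_lit 0x2705067c01)) (.leaf (nat_lit 0x2700067c21))))))))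

noncomputable def oT217 : Tree :=
  .node 64 (.node 32 (.node 16 (.node 8 (.node 4 (.node 2 (.node 1 (.leaf (nat_lit 0x2704067c21)) (.leaf (nat_lit 0x2701067c41))) (.node 1 (.leaf (nat_lit 0x2704067c41)) (.leaf (nat_lit 0x2700067c61)))) (.node 2 (.node 1 (.leaf (nat_lit 0x2704067c61)) (.leaf (nat_lit 0x2703067c71))) (.node 1 (.leaf (nat_lit 0x2704067c81)) (.leaf (nat_lit 0x2705067c91))))) (.node 4 (.node 2 (.node 1 (.leaf (nat_lit 0x2900067cb1)) (.leaf (nat_lit 0x2703067da1))) (.node 1 (.leaf (nat_lit 0x2900067cd1)) (.leaf (nat_lit 0x2904067cd1)))) (.node 2 (.node 1 (.leaf (nat_lit 0x2900067d01)) (.leaf (nat_lit 0x2904067d01))) (.node 1 (.leaf (nat_lit 0x2904067d21)) (.leaf (nat_lit 0x2700067d41)))))) (.node 8 (.node 4 (.node 2 (.node 1 (.leaf (nat_lit 0x2704067d41)) (.leaf (nat_lit 0x2700067d61))) (.node 1 (.leaf (nat_lit 0x2704067d61)) (.leaf (nat_lit 0x2700067d81)))) (.node 2 (.node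 1 (.leaf (nat_lit 0x2704067d91)) (.leaf (nat_lit 0x2705067da1))) (.node 1 (.leaf (nat_lit 0x2700067dc1)) (.leaf (nat_lit 0x2704067dc1))))) (.node 4 (.node 2 (.node 1 (.leaf (nat_lit 0x2704067de1)) (.leaf (nat_lit 0x2700067e01))) (.node 1 (.leaf (nat_lit 0x2704067e11)) (.leaf (nat_lit 0x2705067e31)))) (.node 2 (.node 1 (.leaf (nat_lit 0x2706067e41)) (.leaf (nat_lit 0x2901067e71))) (.node 1 (.leaf (nat_lit 0x2904067e71)) (.leaf (nat_lit 0x2900067e91))))))) (.node 16 (.node 8 (.node 4 (.node 2 (.node 1 (.leaf (nat_lit 0x2900067ec1)) (.leaf (nat_lit 0x2901067ef1))) (.node 1 (.leaf (nat_lit 0x2904067ef1)) (.leaf (nat_lit 0x290406f451)))) (.node 2 (.node 1 (.leaf (nat_lit 0x2701067f21)) (.leaf (nat_lit 0x2704067f21))) (.node 1 (.leaf (nat_lit 0x2900067f41)) (.leaf (nat_lit 0x2904067f41))))) (.node 4 (.node 2 (.node 1 (.leaf (nat_lit 0x2903067f51)) (.leaf (nat_lit 0x2901067f71))) (.node 1 (.leaf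 (nat_lit 0x2904067f71)) (.leaf (nat_lit 0x2900067f91)))) (.node 2 (.node 1 (.leaf (nat_lit 0x2901067fa1)) (.leaf (nat_lit 0x2904067fa1))) (.node 1 (.leaf (nat_lit 0x2900067fc1)) (.leaf (nat_lit 0x2900067fd1)))))) (.node 8 (.node 4 (.node 2 (.node 1 (.leaf (nat_lit 0x2904067fd1)) (.leaf (nat_lit 0x2700068001))) (.node 1 (.leaf (nat_lit 0x2701068021)) (.leaf (nat_lit 0x2704068021)))) (.node 2 (.node 1 (.leaf (nat_lit 0x2700068041)) (.leaf (nat_lit 0x2700068051))) (.node 1 (.leaf (nat_lit 0x2704068051)) (.leaf (nat_lit 0x2700068081))))) (.node 4 (.node 2 (.node 1 (.leaf (nat_lit 0x2704068081)) (.leaf (nat_lit 0x2703068091))) (.node 1 (.leaf (nat_lit 0x27040680b1)) (.leaf (nat_lit 0x27000680d1)))) (.node 2 (.node 1 (.leaf (nat_lit 0x27040680d1)) (.leaf (nat_lit 0x2900068111))) (.node 1 (.leaf (nat_lit 0x2900068121)) (.leaf (nat_lit 0x2904068121)))))))) (.node 32 (.node 16 (.node 8 (.node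 4 (.node 2 (.node 1 (.leaf (nat_lit 0x2903068131)) (.leaf (nat_lit 0x2900068151))) (.node 1 (.leaf (nat_lit 0x2700068171)) (.leaf (nat_lit 0x2700068181)))) (.node 2 (.node 1 (.leaf (nat_lit 0x27000681a1)) (.leaf (nat_lit 0x27010681c1))) (.node 1 (.leaf (nat_lit 0x27040681c1)) (.leaf (nat_lit 0x27010681e1))))) (.node 4 (.node 2 (.node 1 (.leaf (nat_lit 0x27040681e1)) (.leaf (nat_lit 0x2700068201))) (.node 1 (.leaf (nat_lit 0x2704068201)) (.leaf (nat_lit 0x2703068211)))) (.node 2 (.node 1 (.leaf (nat_lit 0x2701068231)) (.leaf (nat_lit 0x2704068231))) (.node 1 (.leaf (nat_lit 0x2700068251)) (.leaf (nat_lit 0x2704068251)))))) (.node 8 (.node 4 (.node 2 (.node 1 (.leaf (nat_lit 0x2704068271)) (.leaf (nat_lit 0x2901068291))) (.node 1 (.leaf (nat_lit 0x2904068291)) (.leaf (nat_lit 0x290406f531)))) (.node 2 (.node 1 (.leaf (nat_lit 0x29000682c1)) (.leaf (nat_lit 0x29040682c1))) (.node 1 (.leaf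 (nat_lit 0x29030682d1)) (.leaf (nat_lit 0x2704068731))))) (.node 4 (.node 2 (.node 1 (.leaf (nat_lit 0x2900068301)) (.leaf (nat_lit 0x2700068321))) (.node 1 (.leaf (nat_lit 0x2701068331)) (.leaf (nat_lit 0x2704068331)))) (.node 2 (.node 1 (.leaf (nat_lit 0x2701068351)) (.leaf (nat_lit 0x2704068351))) (.node 1 (.leaf (nat_lit 0x2700068371)) (.leaf (nat_lit 0x2700068381))))))) (.node 16 (.node 8 (.node 4 (.node 2 (.node 1 (.leaf (nat_lit 0x2704068381)) (.leaf (nat_lit 0x2703068391))) (.node 1 (.leaf (nat_lit 0x27020683b1)) (.leaf (nat_lit 0x27040683b1)))) (.node 2 (.node 1 (.leaf (nat_lit 0x27010683c1)) (.leaf (nat_lit 0x27040683c1))) (.node 1 (.leaf (nat_lit 0x27050683d1)) (.leaf (nat_lit 0x27010683e1))))) (.node 4 (.node 2 (.node 1 (.leaf (nat_lit 0x27040683e1)) (.leaf (nat_lit 0x2700068401))) (.node 1 (.leaf (nat_lit 0x2704068401)) (.leaf (nat_lit 0x2703068411)))) (.node 2 (.node 1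 (.leaf (nat_lit 0x2700068421)) (.leaf (nat_lit 0x2901068441))) (.node 1 (.leaf (nat_lit 0x27030686f1)) (.leaf (nat_lit 0x2700068461)))))) (.node 8 (.node 4 (.node 2 (.node 1 (.leaf (nat_lit 0x2704068461)) (.leaf (nat_lit 0x2704068491))) (.node 1 (.leaf (nat_lit 0x290406d9e1)) (.leaf (nat_lit 0x29000684d1)))) (.node 2 (.node 1 (.leaf (nat_lit 0x29040684d1)) (.leaf (nat_lit 0x29030684e1))) (.node 1 (.leaf (nat_lit 0x2900068501)) (.leaf (nat_lit 0x2904068501))))) (.node 4 (.node 2 (.node 1 (.leaf (nat_lit 0x2903068511)) (.leaf (nat_lit 0x2b04068521))) (.node 1 (.leaf (nat_lit 0x2b03068531)) (.leaf (nat_lit 0x290306e621)))) (.node 2 (.node 1 (.leaf (nat_lit 0x2705068571)) (.leaf (nat_lit 0x2705068711))) (.node 1 (.leaf (nat_lit 0x2705068721)) (.leaf (nat_lit 0x2904068591))))))))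

noncomputable def oT218 : Tree :=
  .node 64 (.node 32 (.node 16 (.node 8 (.node 4 (.node 2 (.node 1 (.leaf (nat_lit 0x27040685e1)) (.leaf (nat_lit 0x27040685f1))) (.node 1 (.leaf (nat_lit 0x27000685e1)) (.leaf (nat_lit 0x27010685f1)))) (.node 2 (.node 1 (.leaf (nat_lit 0x2900068601)) (.leaf (nat_lit 0x2700068621))) (.node 1 (.leaf (nat_lit 0x2700068641)) (.leaf (nat_lit 0x2704068641))))) (.node 4 (.node 2 (.node 1 (.leaf (nat_lit 0x2704068661)) (.leaf (nat_lit 0x2703068671))) (.node 1 (.leaf (nat_lit 0x2707068681)) (.leaf (nat_lit 0x2701068691)))) (.node 2 (.node 1 (.leaf (nat_lit 0x2704068691)) (.leaf (nat_lit 0x27050686a1))) (.node 1 (.leaf (nat_lit 0x27000686b1)) (.leaf (nat_lit 0x27040686b1)))))) (.node 8 (.node 4 (.node 2 (.node 1 (.leaf (nat_lit 0x27000686e1)) (.leaf (nat_lit 0x27040686e1))) (.node 1 (.leaf (nat_lit 0x2704068701)) (.leaf (nat_lit 0x2703068711)))) (.node 2 (.node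 1 (.leaf (nat_lit 0x29030687b1)) (.leaf (nat_lit 0x2704068761))) (.node 1 (.leaf (nat_lit 0x2705068781)) (.leaf (nat_lit 0x28010687d1))))) (.node 4 (.node 2 (.node 1 (.leaf (nat_lit 0x28040687d1)) (.leaf (nat_lit 0x28000687f1))) (.node 1 (.leaf (nat_lit 0x2801068801)) (.leaf (nat_lit 0x28040688f1)))) (.node 2 (.node 1 (.leaf (nat_lit 0x2801068821)) (.leaf (nat_lit 0x2800068831))) (.node 1 (.leaf (nat_lit 0x2800068841)) (.leaf (nat_lit 0x2804068841))))))) (.node 16 (.node 8 (.node 4 (.node 2 (.node 1 (.leaf (nat_lit 0x2803068851)) (.leaf (nat_lit 0x2807068871))) (.node 1 (.leaf (nat_lit 0x2808068881)) (.leaf (nat_lit 0x2800068891)))) (.node 2 (.node 1 (.leaf (nat_lit 0x28000688b1)) (.leaf (nat_lit 0x28000688c1))) (.node 1 (.leaf (nat_lit 0x28040688c1)) (.leaf (nat_lit 0x2801068911))))) (.node 4 (.node 2 (.node 1 (.leaf (nat_lit 0x2800068921)) (.leaf (nat_lit 0x2804068921))) (.node 1 (.leaf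 (nat_lit 0x2804068941)) (.leaf (nat_lit 0x2803068951)))) (.node 2 (.node 1 (.leaf (nat_lit 0x2807068961)) (.leaf (nat_lit 0x2802068971))) (.node 1 (.leaf (nat_lit 0x2808068981)) (.leaf (nat_lit 0x28020689a1)))))) (.node 8 (.node 4 (.node 2 (.node 1 (.leaf (nat_lit 0x28040689a1)) (.leaf (nat_lit 0x28010689b1))) (.node 1 (.leaf (nat_lit 0x28020689c1)) (.leaf (nat_lit 0x28040689c1)))) (.node 2 (.node 1 (.leaf (nat_lit 0x28040689d1)) (.leaf (nat_lit 0x28050689e1))) (.node 1 (.leaf (nat_lit 0x28020689f1)) (.leaf (nat_lit 0x28040689f1))))) (.node 4 (.node 2 (.node 1 (.leaf (nat_lit 0x2802068a01)) (.leaf (nat_lit 0x2804068a01))) (.node 1 (.leaf (nat_lit 0x2801068a11)) (.leaf (nat_lit 0x2804068a11)))) (.node 2 (.node 1 (.leaf (nat_lit 0x2805068a21)) (.leaf (nat_lit 0x2806068a31))) (.node 1 (.leaf (nat_lit 0x2801068a41)) (.leaf (nat_lit 0x2804068a41)))))))) (.node 32 (.node 16 (.node 8 (.node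 4 (.node 2 (.node 1 (.leaf (nat_lit 0x2800068a61)) (.leaf (nat_lit 0x2801068a71))) (.node 1 (.leaf (nat_lit 0x2802068a81)) (.leaf (nat_lit 0x2804068a81)))) (.node 2 (.node 1 (.leaf (nat_lit 0x2801068a91)) (.leaf (nat_lit 0x2803069381))) (.node 1 (.leaf (nat_lit 0x2805068aa1)) (.leaf (nat_lit 0x2804068b91))))) (.node 4 (.node 2 (.node 1 (.leaf (nat_lit 0x2802068ac1)) (.leaf (nat_lit 0x2804068ac1))) (.node 1 (.leaf (nat_lit 0x2801068ad1)) (.leaf (nat_lit 0x2804068ad1)))) (.node 2 (.node 1 (.leaf (nat_lit 0x2a040693e1)) (.leaf (nat_lit 0x2802068b01))) (.node 1 (.leaf (nat_lit 0x2804068b01)) (.leaf (nat_lit 0x2801068b11)))))) (.node 8 (.node 4 (.node 2 (.node 1 (.leaf (nat_lit 0x2804068b11)) (.leaf (nat_lit 0x2805068b21))) (.node 1 (.leaf (nat_lit 0x2800068b31)) (.leaf (nat_lit 0x2804068b31)))) (.node 2 (.node 1 (.leaf (nat_lit 0x2805068b41)) (.leaf (nat_lit 0x2800068b61))) (.node 1 (.leaf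 (nat_lit 0x2804068b61)) (.leaf (nat_lit 0x2803068b71))))) (.node 4 (.node 2 (.node 1 (.leaf (nat_lit 0x2804068ba1)) (.leaf (nat_lit 0x2805068bb1))) (.node 1 (.leaf (nat_lit 0x2805069551)) (.leaf (nat_lit 0x2807068bd1)))) (.node 2 (.node 1 (.leaf (nat_lit 0x2800068be1)) (.leaf (nat_lit 0x2801068bf1))) (.node 1 (.leaf (nat_lit 0x2804068bf1)) (.leaf (nat_lit 0x2805068c01))))))) (.node 16 (.node 8 (.node 4 (.node 2 (.node 1 (.leaf (nat_lit 0x2800068c11)) (.leaf (nat_lit 0x2803069631))) (.node 1 (.leaf (nat_lit 0x2803069641)) (.leaf (nat_lit 0x2803068c41)))) (.node 2 (.node 1 (.leaf (nat_lit 0x2801068c51)) (.leaf (nat_lit 0x2804068c51))) (.node 1 (.leaf (nat_lit 0x2807069ea1)) (.leaf (nat_lit 0x2800068c71))))) (.node 4 (.node 2 (.node 1 (.leaf (nat_lit 0x28050696c1)) (.leaf (nat_lit 0x28050696d1))) (.node 1 (.leaf (nat_lit 0x2802068ca1)) (.leaf (nat_lit 0x2804068ca1)))) (.node 2 (.node 1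 (.leaf (nat_lit 0x2801068cb1)) (.leaf (nat_lit 0x2804068cb1))) (.node 1 (.leaf (nat_lit 0x2800068cd1)) (.leaf (nat_lit 0x2804068cd1)))))) (.node 8 (.node 4 (.node 2 (.node 1 (.leaf (nat_lit 0x2802068cf1)) (.leaf (nat_lit 0x2804068cf1))) (.node 1 (.leaf (nat_lit 0x2801068d01)) (.leaf (nat_lit 0x2804068d01)))) (.node 2 (.node 1 (.leaf (nat_lit 0x2805068d11)) (.leaf (nat_lit 0x2801068d21))) (.node 1 (.leaf (nat_lit 0x2804068d21)) (.leaf (nat_lit 0x2805068d31))))) (.node 4 (.node 2 (.node 1 (.leaf (nat_lit 0x2800068d41)) (.leaf (nat_lit 0x2804068d41))) (.node 1 (.leaf (nat_lit 0x2805068d51)) (.leaf (nat_lit 0x2806068d61)))) (.node 2 (.node 1 (.leaf (nat_lit 0x2800068d71)) (.leaf (nat_lit 0x2804068d71))) (.node 1 (.leaf (nat_lit 0x2803068d81)) (.leaf (nat_lit 0x2805068d81))))))))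

noncomputable def oT219 : Tree :=
  .node 64 (.node 32 (.node 16 (.node 8 (.node 4 (.node 2 (.node 1 (.leaf (nat_lit 0x2804068da1)) (.leaf (nat_lit 0x2805068db1))) (.node 1 (.leaf (nat_lit 0x2806068dc1)) (.leaf (nat_lit 0x2804068de1)))) (.node 2 (.node 1 (.leaf (nat_lit 0x2803068df1)) (.leaf (nat_lit 0x2807068e01))) (.node 1 (.leaf (nat_lit 0x280506afe1)) (.leaf (nat_lit 0x2804068e31))))) (.node 4 (.node 2 (.node 1 (.leaf (nat_lit 0x2803068e41)) (.leaf (nat_lit 0x2807068e71))) (.node 1 (.leaf (nat_lit 0x2808068e81)) (.leaf (nat_lit 0x2808068e91)))) (.node 2 (.node 1 (.leaf (nat_lit 0x2801068ed1)) (.leaf (nat_lit 0x2800068ee1))) (.node 1 (.leaf (nat_lit 0x2802068ef1)) (.leaf (nat_lit 0x2802068f01)))))) (.node 8 (.node 4 (.node 2 (.node 1 (.leaf (nat_lit 0x2804068f01)) (.leaf (nat_lit 0x2801068f11))) (.node 1 (.leaf (nat_lit 0x2801068f21)) (.leaf (nat_lit 0x2804068f21)))) (.node 2 (.node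 1 (.leaf (nat_lit 0x2800068f41)) (.leaf (nat_lit 0x2801068f51))) (.node 1 (.leaf (nat_lit 0x2804068f51)) (.leaf (nat_lit 0x2800068f71))))) (.node 4 (.node 2 (.node 1 (.leaf (nat_lit 0x2804068f71)) (.leaf (nat_lit 0x2800068f91))) (.node 1 (.leaf (nat_lit 0x2804068f91)) (.leaf (nat_lit 0x2801068fc1)))) (.node 2 (.node 1 (.leaf (nat_lit 0x2804068fc1)) (.leaf (nat_lit 0x2800068fe1))) (.node 1 (.leaf (nat_lit 0x2800068ff1)) (.leaf (nat_lit 0x2801069001))))))) (.node 16 (.node 8 (.node 4 (.node 2 (.node 1 (.leaf (nat_lit 0x2804069001)) (.leaf (nat_lit 0x2800069021))) (.node 1 (.leaf (nat_lit 0x2804069021)) (.leaf (nat_lit 0x2800069041)))) (.node 2 (.node 1 (.leaf (nat_lit 0x2804069041)) (.leaf (nat_lit 0x2801069071))) (.node 1 (.leaf (nat_lit 0x2804069071)) (.leaf (nat_lit 0x2800069091))))) (.node 4 (.node 2 (.node 1 (.leaf (nat_lit 0x28040690b1)) (.leaf (nat_lit 0x28010690d1))) (.node 1 (.leaf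 (nat_lit 0x28040690d1)) (.leaf (nat_lit 0x28000690f1)))) (.node 2 (.node 1 (.leaf (nat_lit 0x28040690f1)) (.leaf (nat_lit 0x2804069111))) (.node 1 (.leaf (nat_lit 0x2802069131)) (.leaf (nat_lit 0x2804069131)))))) (.node 8 (.node 4 (.node 2 (.node 1 (.leaf (nat_lit 0x2805069141)) (.leaf (nat_lit 0x2802069151))) (.node 1 (.leaf (nat_lit 0x2804069151)) (.leaf (nat_lit 0x280706b801)))) (.node 2 (.node 1 (.leaf (nat_lit 0x280706a6b1)) (.leaf (nat_lit 0x2a01069171))) (.node 1 (.leaf (nat_lit 0x280306d0c1)) (.leaf (nat_lit 0x280806bde1))))) (.node 4 (.node 2 (.node 1 (.leaf (nat_lit 0x2805069221)) (.leaf (nat_lit 0x28020691a1))) (.node 1 (.leaf (nat_lit 0x28040691a1)) (.leaf (nat_lit 0x28010691b1)))) (.node 2 (.node 1 (.leaf (nat_lit 0x28040691b1)) (.leaf (nat_lit 0x2a000691d1))) (.node 1 (.leaf (nat_lit 0x28020691e1)) (.leaf (nat_lit 0x28040691e1)))))))) (.node 32 (.node 16 (.node 8 (.node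 4 (.node 2 (.node 1 (.leaf (nat_lit 0x2801069201)) (.leaf (nat_lit 0x2804069201))) (.node 1 (.leaf (nat_lit 0x2805069211)) (.leaf (nat_lit 0x2803069221)))) (.node 2 (.node 1 (.leaf (nat_lit 0x2801069241)) (.leaf (nat_lit 0x2804069241))) (.node 1 (.leaf (nat_lit 0x2805069251)) (.leaf (nat_lit 0x2801069261))))) (.node 4 (.node 2 (.node 1 (.leaf (nat_lit 0x2804069261)) (.leaf (nat_lit 0x2805069271))) (.node 1 (.leaf (nat_lit 0x2800069281)) (.leaf (nat_lit 0x2804069281)))) (.node 2 (.node 1 (.leaf (nat_lit 0x2805069291)) (.leaf (nat_lit 0x28060692a1))) (.node 1 (.leaf (nat_lit 0x28000692c1)) (.leaf (nat_lit 0x28040692c1)))))) (.node 8 (.node 4 (.node 2 (.node 1 (.leaf (nat_lit 0x28030692d1)) (.leaf (nat_lit 0x28020692f1))) (.node 1 (.leaf (nat_lit 0x28040692f1)) (.leaf (nat_lit 0x2a01069301)))) (.node 2 (.node 1 (.leaf (nat_lit 0x280506c821)) (.leaf (nat_lit 0x2a00069321))) (.node 1 (.leaf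 (nat_lit 0x2801069331)) (.leaf (nat_lit 0x2804069331))))) (.node 4 (.node 2 (.node 1 (.leaf (nat_lit 0x280506b7f1)) (.leaf (nat_lit 0x280506b791))) (.node 1 (.leaf (nat_lit 0x2800069371)) (.leaf (nat_lit 0x2804069371)))) (.node 2 (.node 1 (.leaf (nat_lit 0x280406b231)) (.leaf (nat_lit 0x28010693a1))) (.node 1 (.leaf (nat_lit 0x28040693a1)) (.leaf (nat_lit 0x28050693b1))))))) (.node 16 (.node 8 (.node 4 (.node 2 (.node 1 (.leaf (nat_lit 0x28000693c1)) (.leaf (nat_lit 0x28040693c1))) (.node 1 (.leaf (nat_lit 0x280406aff1)) (.leaf (nat_lit 0x28010693f1)))) (.node 2 (.node 1 (.leaf (nat_lit 0x28040693f1)) (.leaf (nat_lit 0x2800069411))) (.node 1 (.leaf (nat_lit 0x2804069411)) (.leaf (nat_lit 0x2801069431))))) (.node 4 (.node 2 (.node 1 (.leaf (nat_lit 0x2801069441)) (.leaf (nat_lit 0x2804069441))) (.node 1 (.leaf (nat_lit 0x2800069461)) (.leaf (nat_lit 0x2804069461)))) (.node 2 (.node 1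 (.leaf (nat_lit 0x2803069471)) (.leaf (nat_lit 0x2805069471))) (.node 1 (.leaf (nat_lit 0x2800069491)) (.leaf (nat_lit 0x28040694a1)))))) (.node 8 (.node 4 (.node 2 (.node 1 (.leaf (nat_lit 0x28050694b1)) (.leaf (nat_lit 0x28010694d1))) (.node 1 (.leaf (nat_lit 0x28040694d1)) (.leaf (nat_lit 0x28000694f1)))) (.node 2 (.node 1 (.leaf (nat_lit 0x28040694f1)) (.leaf (nat_lit 0x2804069511))) (.node 1 (.leaf (nat_lit 0x2803069521)) (.leaf (nat_lit 0x2807069531))))) (.node 4 (.node 2 (.node 1 (.leaf (nat_lit 0x280406a011)) (.leaf (nat_lit 0x2808069561))) (.node 1 (.leaf (nat_lit 0x2802069571)) (.leaf (nat_lit 0x2804069571)))) (.node 2 (.node 1 (.leaf (nat_lit 0x2801069581)) (.leaf (nat_lit 0x2804069581))) (.node 1 (.leaf (nat_lit 0x2805069591)) (.leaf (nat_lit 0x2a000695a1))))))))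

noncomputable def oT220 : Tree :=
  .node 64 (.node 32 (.node 16 (.node 8 (.node 4 (.node 2 (.node 1 (.leaf (nat_lit 0x280506c841)) (.leaf (nat_lit 0x280506c851))) (.node 1 (.leaf (nat_lit 0x28010695d1)) (.leaf (nat_lit 0x2805069741)))) (.node 2 (.node 1 (.leaf (nat_lit 0x28000695f1)) (.leaf (nat_lit 0x28040695f1))) (.node 1 (.leaf (nat_lit 0x28040696e1)) (.leaf (nat_lit 0x2804069621))))) (.node 4 (.node 2 (.node 1 (.leaf (nat_lit 0x280406b241)) (.leaf (nat_lit 0x28070698d1))) (.node 1 (.leaf (nat_lit 0x2801069661)) (.leaf (nat_lit 0x2807069c11)))) (.node 2 (.node 1 (.leaf (nat_lit 0x2800069681)) (.leaf (nat_lit 0x2804069681))) (.node 1 (.leaf (nat_lit 0x2805069691)) (.leaf (nat_lit 0x28040696b1)))))) (.node 8 (.node 4 (.node 2 (.node 1 (.leaf (nat_lit 0x280406b001)) (.leaf (nat_lit 0x28010696e1))) (.node 1 (.leaf (nat_lit 0x28000696f1)) (.leaf (nat_lit 0x28040696f1)))) (.node 2 (.node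 1 (.leaf (nat_lit 0x2801069711)) (.leaf (nat_lit 0x2804069711))) (.node 1 (.leaf (nat_lit 0x2800069731)) (.leaf (nat_lit 0x2804069731))))) (.node 4 (.node 2 (.node 1 (.leaf (nat_lit 0x2800069751)) (.leaf (nat_lit 0x2804069761))) (.node 1 (.leaf (nat_lit 0x2805069771)) (.leaf (nat_lit 0x2800069791)))) (.node 2 (.node 1 (.leaf (nat_lit 0x2804069791)) (.leaf (nat_lit 0x28040697b1))) (.node 1 (.leaf (nat_lit 0x28050697c1)) (.leaf (nat_lit 0x28060697d1))))))) (.node 16 (.node 8 (.node 4 (.node 2 (.node 1 (.leaf (nat_lit 0x28010697f1)) (.leaf (nat_lit 0x2800069801))) (.node 1 (.leaf (nat_lit 0x2805069821)) (.leaf (nat_lit 0x2806069831)))) (.node 2 (.node 1 (.leaf (nat_lit 0x2a00069851)) (.leaf (nat_lit 0x280506c921))) (.node 1 (.leaf (nat_lit 0x2804069871)) (.leaf (nat_lit 0x2803069891))))) (.node 4 (.node 2 (.node 1 (.leaf (nat_lit 0x28020698a1)) (.leaf (nat_lit 0x28070698a1))) (.node 1 (.leaf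 (nat_lit 0x28080698b1)) (.leaf (nat_lit 0x280406af41)))) (.node 2 (.node 1 (.leaf (nat_lit 0x28010698f1)) (.leaf (nat_lit 0x2800069901))) (.node 1 (.leaf (nat_lit 0x2801069911)) (.leaf (nat_lit 0x2801069921)))))) (.node 8 (.node 4 (.node 2 (.node 1 (.leaf (nat_lit 0x2804069921)) (.leaf (nat_lit 0x2801069941))) (.node 1 (.leaf (nat_lit 0x2804069941)) (.leaf (nat_lit 0x2800069961)))) (.node 2 (.node 1 (.leaf (nat_lit 0x2801069971)) (.leaf (nat_lit 0x2800069981))) (.node 1 (.leaf (nat_lit 0x2800069991)) (.leaf (nat_lit 0x2804069991))))) (.node 4 (.node 2 (.node 1 (.leaf (nat_lit 0x28000699b1)) (.leaf (nat_lit 0x28040699b1))) (.node 1 (.leaf (nat_lit 0x28020699e1)) (.leaf (nat_lit 0x28040699e1)))) (.node 2 (.node 1 (.leaf (nat_lit 0x28020699f1)) (.leaf (nat_lit 0x28040699f1))) (.node 1 (.leaf (nat_lit 0x2801069a01)) (.leaf (nat_lit 0x2804069a01)))))))) (.node 32 (.node 16 (.node 8 (.node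 4 (.node 2 (.node 1 (.leaf (nat_lit 0x2805069a11)) (.leaf (nat_lit 0x2801069a31))) (.node 1 (.leaf (nat_lit 0x2804069a31)) (.leaf (nat_lit 0x2800069a51)))) (.node 2 (.node 1 (.leaf (nat_lit 0x2800069a61)) (.leaf (nat_lit 0x2801069a71))) (.node 1 (.leaf (nat_lit 0x2804069a71)) (.leaf (nat_lit 0x2801069a91))))) (.node 4 (.node 2 (.node 1 (.leaf (nat_lit 0x2804069a91)) (.leaf (nat_lit 0x2805069aa1))) (.node 1 (.leaf (nat_lit 0x2800069ab1)) (.leaf (nat_lit 0x2804069ab1)))) (.node 2 (.node 1 (.leaf (nat_lit 0x2805069ac1)) (.leaf (nat_lit 0x2801069ae1))) (.node 1 (.leaf (nat_lit 0x2804069ae1)) (.leaf (nat_lit 0x2800069b01)))))) (.node 8 (.node 4 (.node 2 (.node 1 (.leaf (nat_lit 0x2804069b01)) (.leaf (nat_lit 0x2803069b11))) (.node 1 (.leaf (nat_lit 0x2800069b41)) (.leaf (nat_lit 0x2800069b61)))) (.node 2 (.node 1 (.leaf (nat_lit 0x2804069b61)) (.leaf (nat_lit 0x2800069b81))) (.node 1 (.leaf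 (nat_lit 0x2804069b81)) (.leaf (nat_lit 0x2804069ba1))))) (.node 4 (.node 2 (.node 1 (.leaf (nat_lit 0x2805069bb1)) (.leaf (nat_lit 0x2800069bd1))) (.node 1 (.leaf (nat_lit 0x2804069bd1)) (.leaf (nat_lit 0x2804069bf1)))) (.node 2 (.node 1 (.leaf (nat_lit 0x2803069c01)) (.leaf (nat_lit 0x2800069c21))) (.node 1 (.leaf (nat_lit 0x2800069c31)) (.leaf (nat_lit 0x2802069c41))))))) (.node 16 (.node 8 (.node 4 (.node 2 (.node 1 (.leaf (nat_lit 0x2801069c51)) (.leaf (nat_lit 0x2801069c61))) (.node 1 (.leaf (nat_lit 0x2804069c61)) (.leaf (nat_lit 0x2800069c81)))) (.node 2 (.node 1 (.leaf (nat_lit 0x2804069c81)) (.leaf (nat_lit 0x2801069cb1))) (.node 1 (.leaf (nat_lit 0x2802069cc1)) (.leaf (nat_lit 0x2804069cc1))))) (.node 4 (.node 2 (.node 1 (.leaf (nat_lit 0x2802069cd1)) (.leaf (nat_lit 0x2804069cd1))) (.node 1 (.leaf (nat_lit 0x2801069ce1)) (.leaf (nat_lit 0x2804069ce1)))) (.node 2 (.node 1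 (.leaf (nat_lit 0x2805069cf1)) (.leaf (nat_lit 0x2806069d01))) (.node 1 (.leaf (nat_lit 0x2801069d11)) (.leaf (nat_lit 0x2804069d11)))))) (.node 8 (.node 4 (.node 2 (.node 1 (.leaf (nat_lit 0x2800069d31)) (.leaf (nat_lit 0x2801069d41))) (.node 1 (.leaf (nat_lit 0x2a040723e1)) (.leaf (nat_lit 0x2801069d61)))) (.node 2 (.node 1 (.leaf (nat_lit 0x2804069d61)) (.leaf (nat_lit 0x2801069d81))) (.node 1 (.leaf (nat_lit 0x2804069d81)) (.leaf (nat_lit 0x2805069d91))))) (.node 4 (.node 2 (.node 1 (.leaf (nat_lit 0x2801069da1)) (.leaf (nat_lit 0x2800069db1))) (.node 1 (.leaf (nat_lit 0x2804069db1)) (.leaf (nat_lit 0x2805069dc1)))) (.node 2 (.node 1 (.leaf (nat_lit 0x2800069de1)) (.leaf (nat_lit 0x2804069de1))) (.node 1 (.leaf (nat_lit 0x2803069df1)) (.leaf (nat_lit 0x2807069e11))))))))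

noncomputable def oT221 : Tree :=
  .node 64 (.node 32 (.node 16 (.node 8 (.node 4 (.node 2 (.node 1 (.leaf (nat_lit 0x2a00069e21)) (.leaf (nat_lit 0x2800069e31))) (.node 1 (.leaf (nat_lit 0x2801069e41)) (.leaf (nat_lit 0x2800069e51)))) (.node 2 (.node 1 (.leaf (nat_lit 0x2800069e71)) (.leaf (nat_lit 0x2804069e71))) (.node 1 (.leaf (nat_lit 0x2803069e81)) (.leaf (nat_lit 0x2805069e81))))) (.node 4 (.node 2 (.node 1 (.leaf (nat_lit 0x2800069eb1)) (.leaf (nat_lit 0x2804069eb1))) (.node 1 (.leaf (nat_lit 0x2803069ec1)) (.leaf (nat_lit 0x2805069ec1)))) (.node 2 (.node 1 (.leaf (nat_lit 0x2804069ee1)) (.leaf (nat_lit 0x2805069ef1))) (.node 1 (.leaf (nat_lit 0x2804069f11)) (.leaf (nat_lit 0x2803069f21)))))) (.node 8 (.node 4 (.node 2 (.node 1 (.leaf (nat_lit 0x2807069f31)) (.leaf (nat_lit 0x2807069f41))) (.node 1 (.leaf (nat_lit 0x2808069f51)) (.leaf (nat_lit 0x2802069f71)))) (.node 2 (.node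 1 (.leaf (nat_lit 0x2802069f81)) (.leaf (nat_lit 0x280606ac51))) (.node 1 (.leaf (nat_lit 0x2801069f91)) (.leaf (nat_lit 0x2801069fa1))))) (.node 4 (.node 2 (.node 1 (.leaf (nat_lit 0x2804069fa1)) (.leaf (nat_lit 0x2a00069fc1))) (.node 1 (.leaf (nat_lit 0x2801069fd1)) (.leaf (nat_lit 0x2804069fd1)))) (.node 2 (.node 1 (.leaf (nat_lit 0x2805069fe1)) (.leaf (nat_lit 0x2803069ff1))) (.node 1 (.leaf (nat_lit 0x2805069ff1)) (.leaf (nat_lit 0x280606a001))))))) (.node 16 (.node 8 (.node 4 (.node 2 (.node 1 (.leaf (nat_lit 0x280206a011)) (.leaf (nat_lit 0x280106a021))) (.node 1 (.leaf (nat_lit 0x280406a021)) (.leaf (nat_lit 0x280506a031)))) (.node 2 (.node 1 (.leaf (nat_lit 0x280106a041)) (.leaf (nat_lit 0x280406a041))) (.node 1 (.leaf (nat_lit 0x280506a051)) (.leaf (nat_lit 0x280006a061))))) (.node 4 (.node 2 (.node 1 (.leaf (nat_lit 0x280406a061)) (.leaf (nat_lit 0x280506a071))) (.node 1 (.leaf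 (nat_lit 0x280606a081)) (.leaf (nat_lit 0x280806a691)))) (.node 2 (.node 1 (.leaf (nat_lit 0x280006a0a1)) (.leaf (nat_lit 0x280406a0a1))) (.node 1 (.leaf (nat_lit 0x280306a0b1)) (.leaf (nat_lit 0x280406c931)))))) (.node 8 (.node 4 (.node 2 (.node 1 (.leaf (nat_lit 0x280206a0e1)) (.leaf (nat_lit 0x280406a0e1))) (.node 1 (.leaf (nat_lit 0x280106a0f1)) (.leaf (nat_lit 0x280406a0f1)))) (.node 2 (.node 1 (.leaf (nat_lit 0x280006a111)) (.leaf (nat_lit 0x280406a111))) (.node 1 (.leaf (nat_lit 0x280006a131)) (.leaf (nat_lit 0x280406a131))))) (.node 4 (.node 2 (.node 1 (.leaf (nat_lit 0x280106a161)) (.leaf (nat_lit 0x280406a161))) (.node 1 (.leaf (nat_lit 0x280506a171)) (.leaf (nat_lit 0x280006a181)))) (.node 2 (.node 1 (.leaf (nat_lit 0x280406a181)) (.leaf (nat_lit 0x280506a191))) (.node 1 (.leaf (nat_lit 0x280106a1b1)) (.leaf (nat_lit 0x280406a1b1)))))))) (.node 32 (.node 16 (.node 8 (.node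 4 (.node 2 (.node 1 (.leaf (nat_lit 0x280506a1c1)) (.leaf (nat_lit 0x280006a1d1))) (.node 1 (.leaf (nat_lit 0x280406a1d1)) (.leaf (nat_lit 0x280306a1e1)))) (.node 2 (.node 1 (.leaf (nat_lit 0x280506a1e1)) (.leaf (nat_lit 0x280006a201))) (.node 1 (.leaf (nat_lit 0x280406a201)) (.leaf (nat_lit 0x280406a221))))) (.node 4 (.node 2 (.node 1 (.leaf (nat_lit 0x280506a231)) (.leaf (nat_lit 0x280006a251))) (.node 1 (.leaf (nat_lit 0x280406a251)) (.leaf (nat_lit 0x280406a271)))) (.node 2 (.node 1 (.leaf (nat_lit 0x280306a281)) (.leaf (nat_lit 0x280706a291))) (.node 1 (.leaf (nat_lit 0x280806a2a1)) (.leaf (nat_lit 0x2a0006a2b1)))))) (.node 8 (.node 4 (.node 2 (.node 1 (.leaf (nat_lit 0x280506c801)) (.leaf (nat_lit 0x280206a2e1))) (.node 1 (.leaf (nat_lit 0x280406a2e1)) (.leaf (nat_lit 0x280106a2f1)))) (.node 2 (.node 1 (.leaf (nat_lit 0x280406a2f1)) (.leaf (nat_lit 0x280106a311))) (.node 1 (.leaf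 (nat_lit 0x280406a311)) (.leaf (nat_lit 0x280006a331))))) (.node 4 (.node 2 (.node 1 (.leaf (nat_lit 0x280406a331)) (.leaf (nat_lit 0x280006a351))) (.node 1 (.leaf (nat_lit 0x280406a351)) (.leaf (nat_lit 0x280406a371)))) (.node 2 (.node 1 (.leaf (nat_lit 0x280406a391)) (.leaf (nat_lit 0x280106a3b1))) (.node 1 (.leaf (nat_lit 0x280006a3c1)) (.leaf (nat_lit 0x280106a3d1))))))) (.node 16 (.node 8 (.node 4 (.node 2 (.node 1 (.leaf (nat_lit 0x280406a3d1)) (.leaf (nat_lit 0x280506a3e1))) (.node 1 (.leaf (nat_lit 0x280106a3f1)) (.leaf (nat_lit 0x280406a3f1)))) (.node 2 (.node 1 (.leaf (nat_lit 0x280506a401)) (.leaf (nat_lit 0x280006a411))) (.node 1 (.leaf (nat_lit 0x280406a411)) (.leaf (nat_lit 0x280506a421))))) (.node 4 (.node 2 (.node 1 (.leaf (nat_lit 0x280006a441)) (.leaf (nat_lit 0x280406a441))) (.node 1 (.leaf (nat_lit 0x280506a451)) (.leaf (nat_lit 0x280406a471)))) (.node 2 (.node 1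 (.leaf (nat_lit 0x280506a481)) (.leaf (nat_lit 0x280106a4a1))) (.node 1 (.leaf (nat_lit 0x280406a4a1)) (.leaf (nat_lit 0x280506a4b1)))))) (.node 8 (.node 4 (.node 2 (.node 1 (.leaf (nat_lit 0x280006a4c1)) (.leaf (nat_lit 0x280406a4c1))) (.node 1 (.leaf (nat_lit 0x280306a4d1)) (.leaf (nat_lit 0x280506a4d1)))) (.node 2 (.node 1 (.leaf (nat_lit 0x280006a4f1)) (.leaf (nat_lit 0x280406a4f1))) (.node 1 (.leaf (nat_lit 0x280306a501)) (.leaf (nat_lit 0x280506a501))))) (.node 4 (.node 2 (.node 1 (.leaf (nat_lit 0x280606a511)) (.leaf (nat_lit 0x280406a521))) (.node 1 (.leaf (nat_lit 0x280306a531)) (.leaf (nat_lit 0x280506a531)))) (.node 2 (.node 1 (.leaf (nat_lit 0x280506a541)) (.leaf (nat_lit 0x280606a551))) (.node 1 (.leaf (nat_lit 0x280006a571)) (.leaf (nat_lit 0x280406a571))))))))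

noncomputable def oT222 : Tree :=
  .node 64 (.node 32 (.node 16 (.node 8 (.node 4 (.node 2 (.node 1 (.leaf (nat_lit 0x280406a591)) (.leaf (nat_lit 0x280306a5a1))) (.node 1 (.leaf (nat_lit 0x280506a5a1)) (.leaf (nat_lit 0x280706a5b1)))) (.node 2 (.node 1 (.leaf (nat_lit 0x280506a5d1)) (.leaf (nat_lit 0x280606a5e1))) (.node 1 (.leaf (nat_lit 0x280506c9a1)) (.leaf (nat_lit 0x280406a611))))) (.node 4 (.node 2 (.node 1 (.leaf (nat_lit 0x280306a631)) (.leaf (nat_lit 0x280706a641))) (.node 1 (.leaf (nat_lit 0x280806a651)) (.leaf (nat_lit 0x280806a661)))) (.node 2 (.node 1 (.leaf (nat_lit 0x280306a691)) (.leaf (nat_lit 0x280506a6b1))) (.node 1 (.leaf (nat_lit 0x280406a6d1)) (.leaf (nat_lit 0x2a0006a6e1)))))) (.node 8 (.node 4 (.node 2 (.node 1 (.leaf (nat_lit 0x280006a6f1)) (.leaf (nat_lit 0x280406a6f1))) (.node 1 (.leaf (nat_lit 0x2a0006a721)) (.leaf (nat_lit 0x280406a741)))) (.node 2 (.node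 1 (.leaf (nat_lit 0x280106a761)) (.leaf (nat_lit 0x280406a761))) (.node 1 (.leaf (nat_lit 0x2a0006a781)) (.leaf (nat_lit 0x280006a791))))) (.node 4 (.node 2 (.node 1 (.leaf (nat_lit 0x280406a791)) (.leaf (nat_lit 0x280506a7a1))) (.node 1 (.leaf (nat_lit 0x280006a7c1)) (.leaf (nat_lit 0x280406a7c1)))) (.node 2 (.node 1 (.leaf (nat_lit 0x280306a7d1)) (.leaf (nat_lit 0x280106a7f1))) (.node 1 (.leaf (nat_lit 0x280406a7f1)) (.leaf (nat_lit 0x2a0006a811))))))) (.node 16 (.node 8 (.node 4 (.node 2 (.node 1 (.leaf (nat_lit 0x280006a821)) (.leaf (nat_lit 0x280406a821))) (.node 1 (.leaf (nat_lit 0x280406a851)) (.leaf (nat_lit 0x280006a871)))) (.node 2 (.node 1 (.leaf (nat_lit 0x280006a881)) (.leaf (nat_lit 0x280406a881))) (.node 1 (.leaf (nat_lit 0x280306a891)) (.leaf (nat_lit 0x280406a8c1))))) (.node 4 (.node 2 (.node 1 (.leaf (nat_lit 0x280006a911)) (.leaf (nat_lit 0x280406a911))) (.node 1 (.leaf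 (nat_lit 0x280406a931)) (.leaf (nat_lit 0x280306a951)))) (.node 2 (.node 1 (.leaf (nat_lit 0x280706a961)) (.leaf (nat_lit 0x280806a971))) (.node 1 (.leaf (nat_lit 0x280006a991)) (.leaf (nat_lit 0x2a0006a9b1)))))) (.node 8 (.node 4 (.node 2 (.node 1 (.leaf (nat_lit 0x280006a9c1)) (.leaf (nat_lit 0x280406a9c1))) (.node 1 (.leaf (nat_lit 0x280006a9f1)) (.leaf (nat_lit 0x280406a9f1)))) (.node 2 (.node 1 (.leaf (nat_lit 0x280306aa01)) (.leaf (nat_lit 0x280406aa11))) (.node 1 (.leaf (nat_lit 0x280106aa31)) (.leaf (nat_lit 0x280406aa31))))) (.node 4 (.node 2 (.node 1 (.leaf (nat_lit 0x280006aa51)) (.leaf (nat_lit 0x280106aa61))) (.node 1 (.leaf (nat_lit 0x280406aa61)) (.leaf (nat_lit 0x280506aa71)))) (.node 2 (.node 1 (.leaf (nat_lit 0x280006aa81)) (.leaf (nat_lit 0x280406aa81))) (.node 1 (.leaf (nat_lit 0x280506aa91)) (.leaf (nat_lit 0x280606aaa1)))))))) (.node 32 (.node 16 (.node 8 (.node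 4 (.node 2 (.node 1 (.leaf (nat_lit 0x280006aac1)) (.leaf (nat_lit 0x280406aac1))) (.node 1 (.leaf (nat_lit 0x280306aad1)) (.leaf (nat_lit 0x280106aaf1)))) (.node 2 (.node 1 (.leaf (nat_lit 0x280406aaf1)) (.leaf (nat_lit 0x280006ab11))) (.node 1 (.leaf (nat_lit 0x280106ab21)) (.leaf (nat_lit 0x280406ab21))))) (.node 4 (.node 2 (.node 1 (.leaf (nat_lit 0x280606c6e1)) (.leaf (nat_lit 0x280006ab41))) (.node 1 (.leaf (nat_lit 0x280406ab41)) (.leaf (nat_lit 0x280506be01)))) (.node 2 (.node 1 (.leaf (nat_lit 0x280406ab71)) (.leaf (nat_lit 0x280306ab81))) (.node 1 (.leaf (nat_lit 0x280706ab91)) (.leaf (nat_lit 0x280606abc1)))))) (.node 8 (.node 4 (.node 2 (.node 1 (.leaf (nat_lit 0x280506bdb1)) (.leaf (nat_lit 0x280106abe1))) (.node 1 (.leaf (nat_lit 0x280406abe1)) (.leaf (nat_lit 0x280006ac01)))) (.node 2 (.node 1 (.leaf (nat_lit 0x2a0006ac11)) (.leaf (nat_lit 0x2a0406ac11))) (.node 1 (.leaf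 (nat_lit 0x2a0306ac21)) (.leaf (nat_lit 0x280106ac41))))) (.node 4 (.node 2 (.node 1 (.leaf (nat_lit 0x280506bfb1)) (.leaf (nat_lit 0x280006ac61))) (.node 1 (.leaf (nat_lit 0x280106ac71)) (.leaf (nat_lit 0x280606aca1)))) (.node 2 (.node 1 (.leaf (nat_lit 0x280006ac91)) (.leaf (nat_lit 0x280506bfd1))) (.node 1 (.leaf (nat_lit 0x280506bc31)) (.leaf (nat_lit 0x2a0006acc1))))))) (.node 16 (.node 8 (.node 4 (.node 2 (.node 1 (.leaf (nat_lit 0x2a07071501)) (.leaf (nat_lit 0x280606ad11))) (.node 1 (.leaf (nat_lit 0x280606c711)) (.leaf (nat_lit 0x2a050725f1)))) (.node 2 (.node 1 (.leaf (nat_lit 0x280506cbc1)) (.leaf (nat_lit 0x280106ad21))) (.node 1 (.leaf (nat_lit 0x280006ad31)) (.leaf (nat_lit 0x280106ad51))))) (.node 4 (.node 2 (.node 1 (.leaf (nat_lit 0x280406ad51)) (.leaf (nat_lit 0x280006ad71))) (.node 1 (.leaf (nat_lit 0x280406ad71)) (.leaf (nat_lit 0x280306ad81)))) (.node 2 (.node 1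 (.leaf (nat_lit 0x280006ad91)) (.leaf (nat_lit 0x280406adb1))) (.node 1 (.leaf (nat_lit 0x280306adc1)) (.leaf (nat_lit 0x280706add1)))))) (.node 8 (.node 4 (.node 2 (.node 1 (.leaf (nat_lit 0x280306ade1)) (.leaf (nat_lit 0x280706adf1))) (.node 1 (.leaf (nat_lit 0x280806ae01)) (.leaf (nat_lit 0x280606ae21)))) (.node 2 (.node 1 (.leaf (nat_lit 0x2a0006ae61)) (.leaf (nat_lit 0x280106ae71))) (.node 1 (.leaf (nat_lit 0x280106ae81)) (.leaf (nat_lit 0x280406ae81))))) (.node 4 (.node 2 (.node 1 (.leaf (nat_lit 0x280006aea1)) (.leaf (nat_lit 0x280106aeb1))) (.node 1 (.leaf (nat_lit 0x280406aeb1)) (.leaf (nat_lit 0x2a0006aed1)))) (.node 2 (.node 1 (.leaf (nat_lit 0x2a0406aed1)) (.leaf (nat_lit 0x2a0306aee1))) (.node 1 (.leaf (nat_lit 0x280106af01)) (.leaf (nat_lit 0x280406af01))))))))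

noncomputable def oT223 : Tree :=
  .node 64 (.node 32 (.node 16 (.node 8 (.node 4 (.node 2 (.node 1 (.leaf (nat_lit 0x280506af11)) (.leaf (nat_lit 0x280306af21))) (.node 1 (.leaf (nat_lit 0x280506af21)) (.leaf (nat_lit 0x280606af31)))) (.node 2 (.node 1 (.leaf (nat_lit 0x280106af41)) (.leaf (nat_lit 0x280106af51))) (.node 1 (.leaf (nat_lit 0x280406af51)) (.leaf (nat_lit 0x280506af61))))) (.node 4 (.node 2 (.node 1 (.leaf (nat_lit 0x280006af71)) (.leaf (nat_lit 0x280406af71))) (.node 1 (.leaf (nat_lit 0x280306af81)) (.leaf (nat_lit 0x280506af81)))) (.node 2 (.node 1 (.leaf (nat_lit 0x280606af91)) (.leaf (nat_lit 0x280506afa1))) (.node 1 (.leaf (nat_lit 0x280106afd1)) (.leaf (nat_lit 0x280406afd1)))))) (.node 8 (.node 4 (.node 2 (.node 1 (.leaf (nat_lit 0x280106aff1)) (.leaf (nat_lit 0x280006b001))) (.node 1 (.leaf (nat_lit 0x280106b011)) (.leaf (nat_lit 0x280406b011)))) (.node 2 (.node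 1 (.leaf (nat_lit 0x280506b021)) (.leaf (nat_lit 0x280006b031))) (.node 1 (.leaf (nat_lit 0x280406b031)) (.leaf (nat_lit 0x280306b041))))) (.node 4 (.node 2 (.node 1 (.leaf (nat_lit 0x280506b041)) (.leaf (nat_lit 0x280606b051))) (.node 1 (.leaf (nat_lit 0x280406b061)) (.leaf (nat_lit 0x280506b071)))) (.node 2 (.node 1 (.leaf (nat_lit 0x280606b081)) (.leaf (nat_lit 0x280006b0a1))) (.node 1 (.leaf (nat_lit 0x280406b0a1)) (.leaf (nat_lit 0x280306b0b1))))))) (.node 16 (.node 8 (.node 4 (.node 2 (.node 1 (.leaf (nat_lit 0x280406b0c1)) (.leaf (nat_lit 0x280306b0d1))) (.node 1 (.leaf (nat_lit 0x280706b0e1)) (.leaf (nat_lit 0x280006b0f1)))) (.node 2 (.node 1 (.leaf (nat_lit 0x280106b101)) (.leaf (nat_lit 0x280406b101))) (.node 1 (.leaf (nat_lit 0x2a0006b121)) (.leaf (nat_lit 0x2a0406b121))))) (.node 4 (.node 2 (.node 1 (.leaf (nat_lit 0x2a0306b131)) (.leaf (nat_lit 0x280006b151))) (.node 1 (.leaf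 (nat_lit 0x280106b161)) (.leaf (nat_lit 0x280006b171)))) (.node 2 (.node 1 (.leaf (nat_lit 0x280106b191)) (.leaf (nat_lit 0x280606b2b1))) (.node 1 (.leaf (nat_lit 0x2a0006b1b1)) (.leaf (nat_lit 0x2a0406b1b1)))))) (.node 8 (.node 4 (.node 2 (.node 1 (.leaf (nat_lit 0x280606b201)) (.leaf (nat_lit 0x2a060724e1))) (.node 1 (.leaf (nat_lit 0x2a050730b1)) (.leaf (nat_lit 0x280506c351)))) (.node 2 (.node 1 (.leaf (nat_lit 0x280506c2c1)) (.leaf (nat_lit 0x280006b211))) (.node 1 (.leaf (nat_lit 0x280106b231)) (.leaf (nat_lit 0x280006b241))))) (.node 4 (.node 2 (.node 1 (.leaf (nat_lit 0x280006b251)) (.leaf (nat_lit 0x280006b271))) (.node 1 (.leaf (nat_lit 0x280406b281)) (.leaf (nat_lit 0x2a0006b2a1)))) (.node 2 (.node 1 (.leaf (nat_lit 0x280506c971)) (.leaf (nat_lit 0x280506c071))) (.node 1 (.leaf (nat_lit 0x280406b2c1)) (.leaf (nat_lit 0x280306b2d1)))))))) (.node 32 (.node 16 (.node 8 (.node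 4 (.node 2 (.node 1 (.leaf (nat_lit 0x280706b2e1)) (.leaf (nat_lit 0x280306b2f1))) (.node 1 (.leaf (nat_lit 0x280206b301)) (.leaf (nat_lit 0x280706b301)))) (.node 2 (.node 1 (.leaf (nat_lit 0x280806b311)) (.leaf (nat_lit 0x280606b371))) (.node 1 (.leaf (nat_lit 0x280606b351)) (.leaf (nat_lit 0x280606b361))))) (.node 4 (.node 2 (.node 1 (.leaf (nat_lit 0x280506c261)) (.leaf (nat_lit 0x280506c2a1))) (.node 1 (.leaf (nat_lit 0x280706b371)) (.leaf (nat_lit 0x280806b381)))) (.node 2 (.node 1 (.leaf (nat_lit 0x280706b391)) (.leaf (nat_lit 0x280806b3a1))) (.node 1 (.leaf (nat_lit 0x2a0006b3c1)) (.leaf (nat_lit 0x2a0006b3d1)))))) (.node 8 (.node 4 (.node 2 (.node 1 (.leaf (nat_lit 0x280106b3e1)) (.leaf (nat_lit 0x280406b3e1))) (.node 1 (.leaf (nat_lit 0x2a0006b401)) (.leaf (nat_lit 0x2a0406b401)))) (.node 2 (.node 1 (.leaf (nat_lit 0x2a0306b411)) (.leaf (nat_lit 0x280406b451))) (.node 1 (.leaf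 (nat_lit 0x280006b441)) (.leaf (nat_lit 0x280106b451))))) (.node 4 (.node 2 (.node 1 (.leaf (nat_lit 0x2a0006b461)) (.leaf (nat_lit 0x2a070725d1))) (.node 1 (.leaf (nat_lit 0x2a07072511)) (.leaf (nat_lit 0x2a050730c1)))) (.node 2 (.node 1 (.leaf (nat_lit 0x2a050730d1)) (.leaf (nat_lit 0x2a0306c9e1))) (.node 1 (.leaf (nat_lit 0x280006b4b1)) (.leaf (nat_lit 0x280006b4c1))))))) (.node 16 (.node 8 (.node 4 (.node 2 (.node 1 (.leaf (nat_lit 0x280406b4c1)) (.leaf (nat_lit 0x280106b4f1))) (.node 1 (.leaf (nat_lit 0x280406b4f1)) (.leaf (nat_lit 0x280106b511)))) (.node 2 (.node 1 (.leaf (nat_lit 0x2a0006b521)) (.leaf (nat_lit 0x2a050720c1))) (.node 1 (.leaf (nat_lit 0x2a050720d1)) (.leaf (nat_lit 0x280006b541))))) (.node 4 (.node 2 (.node 1 (.leaf (nat_lit 0x280106b561)) (.leaf (nat_lit 0x280406b561))) (.node 1 (.leaf (nat_lit 0x280506b571)) (.leaf (nat_lit 0x2a0006b581)))) (.node 2 (.node 1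 (.leaf (nat_lit 0x2a0606b5c1)) (.leaf (nat_lit 0x280606b5d1))) (.node 1 (.leaf (nat_lit 0x280806baa1)) (.leaf (nat_lit 0x2a05072341)))))) (.node 8 (.node 4 (.node 2 (.node 1 (.leaf (nat_lit 0x280506c0d1)) (.leaf (nat_lit 0x280506c0b1))) (.node 1 (.leaf (nat_lit 0x2a0006b5f1)) (.leaf (nat_lit 0x280606b911)))) (.node 2 (.node 1 (.leaf (nat_lit 0x280606b921)) (.leaf (nat_lit 0x2a0406b611))) (.node 1 (.leaf (nat_lit 0x280606b661)) (.leaf (nat_lit 0x2a0506b621))))) (.node 4 (.node 2 (.node 1 (.leaf (nat_lit 0x280606b671)) (.leaf (nat_lit 0x280506cd01))) (.node 1 (.leaf (nat_lit 0x280506cca1)) (.leaf (nat_lit 0x280506ccf1)))) (.node 2 (.node 1 (.leaf (nat_lit 0x280506ccd1)) (.leaf (nat_lit 0x280106b691))) (.node 1 (.leaf (nat_lit 0x280006b6a1)) (.leaf (nat_lit 0x280406b6a1))))))))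

noncomputable def oT224 : Tree :=
  .node 64 (.node 32 (.node 16 (.node 8 (.node 4 (.node 2 (.node 1 (.leaf (nat_lit 0x280306b6b1)) (.leaf (nat_lit 0x280006b6d1))) (.node 1 (.leaf (nat_lit 0x280406b6e1)) (.leaf (nat_lit 0x2a0106b711)))) (.node 2 (.node 1 (.leaf (nat_lit 0x2a0406b711)) (.leaf (nat_lit 0x280406bd31))) (.node 1 (.leaf (nat_lit 0x280106b731)) (.leaf (nat_lit 0x280406b731))))) (.node 4 (.node 2 (.node 1 (.leaf (nat_lit 0x280506b741)) (.leaf (nat_lit 0x280006b751))) (.node 1 (.leaf (nat_lit 0x280406b751)) (.leaf (nat_lit 0x280306b761)))) (.node 2 (.node 1 (.leaf (nat_lit 0x280506b761)) (.leaf (nat_lit 0x280006b781))) (.node 1 (.leaf (nat_lit 0x280406b781)) (.leaf (nat_lit 0x280306b791)))))) (.node 8 (.node 4 (.node 2 (.node 1 (.leaf (nat_lit 0x280406b7a1)) (.leaf (nat_lit 0x280306b7b1))) (.node 1 (.leaf (nat_lit 0x280506b7b1)) (.leaf (nat_lit 0x280506b7c1)))) (.node 2 (.node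 1 (.leaf (nat_lit 0x280706b7c1)) (.leaf (nat_lit 0x280406b7e1))) (.node 1 (.leaf (nat_lit 0x280306b7f1)) (.leaf (nat_lit 0x280306b811))))) (.node 4 (.node 2 (.node 1 (.leaf (nat_lit 0x280506b811)) (.leaf (nat_lit 0x280506b821))) (.node 1 (.leaf (nat_lit 0x280406b841)) (.leaf (nat_lit 0x2a0006b851)))) (.node 2 (.node 1 (.leaf (nat_lit 0x2a0406b851)) (.leaf (nat_lit 0x280306c261))) (.node 1 (.leaf (nat_lit 0x280406b881)) (.leaf (nat_lit 0x280506b891))))))) (.node 16 (.node 8 (.node 4 (.node 2 (.node 1 (.leaf (nat_lit 0x280306b8b1)) (.leaf (nat_lit 0x280506b8b1))) (.node 1 (.leaf (nat_lit 0x280706b8c1)) (.leaf (nat_lit 0x280806b8e1)))) (.node 2 (.node 1 (.leaf (nat_lit 0x280506c981)) (.leaf (nat_lit 0x280506c281))) (.node 1 (.leaf (nat_lit 0x280306b931)) (.leaf (nat_lit 0x280706b941))))) (.node 4 (.node 2 (.node 1 (.leaf (nat_lit 0x280806b951)) (.leaf (nat_lit 0x280206b961))) (.node 1 (.leaf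 (nat_lit 0x280706b961)) (.leaf (nat_lit 0x280706b971)))) (.node 2 (.node 1 (.leaf (nat_lit 0x280806b981)) (.leaf (nat_lit 0x280806bb01))) (.node 1 (.leaf (nat_lit 0x280606b9d1)) (.leaf (nat_lit 0x280506c091)))))) (.node 8 (.node 4 (.node 2 (.node 1 (.leaf (nat_lit 0x280306b9f1)) (.leaf (nat_lit 0x280306cc81))) (.node 1 (.leaf (nat_lit 0x280606ba51)) (.leaf (nat_lit 0x280506cc61)))) (.node 2 (.node 1 (.leaf (nat_lit 0x280506bd01)) (.leaf (nat_lit 0x280506cc81))) (.node 1 (.leaf (nat_lit 0x280106ba81)) (.leaf (nat_lit 0x280706ba81))))) (.node 4 (.node 2 (.node 1 (.leaf (nat_lit 0x280306baa1)) (.leaf (nat_lit 0x280306baf1))) (.node 1 (.leaf (nat_lit 0x280406bb01)) (.leaf (nat_lit 0x280006bb71)))) (.node 2 (.node 1 (.leaf (nat_lit 0x280406bb71)) (.leaf (nat_lit 0x280006bba1))) (.node 1 (.leaf (nat_lit 0x280406bba1)) (.leaf (nat_lit 0x280306bbb1)))))))) (.node 32 (.node 16 (.node 8 (.node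 4 (.node 2 (.node 1 (.leaf (nat_lit 0x280006bbd1)) (.leaf (nat_lit 0x280406bbd1))) (.node 1 (.leaf (nat_lit 0x280406bbf1)) (.leaf (nat_lit 0x280006bc21)))) (.node 2 (.node 1 (.leaf (nat_lit 0x280406bc21)) (.leaf (nat_lit 0x280006bc61))) (.node 1 (.leaf (nat_lit 0x280406bc71)) (.leaf (nat_lit 0x280006bcb1))))) (.node 4 (.node 2 (.node 1 (.leaf (nat_lit 0x280406bcb1)) (.leaf (nat_lit 0x280306bcc1))) (.node 1 (.leaf (nat_lit 0x280406bcd1)) (.leaf (nat_lit 0x280106bcf1)))) (.node 2 (.node 1 (.leaf (nat_lit 0x280206bd01)) (.leaf (nat_lit 0x2a0006bd11))) (.node 1 (.leaf (nat_lit 0x280306bef1)) (.leaf (nat_lit 0x280506bd21)))))) (.node 8 (.node 4 (.node 2 (.node 1 (.leaf (nat_lit 0x2a0006bd41)) (.leaf (nat_lit 0x2a0406bd41))) (.node 1 (.leaf (nat_lit 0x2a0306bd51)) (.leaf (nat_lit 0x2a0006bd71)))) (.node 2 (.node 1 (.leaf (nat_lit 0x2a0206be21)) (.leaf (nat_lit 0x280306cc61))) (.node 1 (.leaf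 (nat_lit 0x280106bda1)) (.leaf (nat_lit 0x280406bda1))))) (.node 4 (.node 2 (.node 1 (.leaf (nat_lit 0x2a0006bdc1)) (.leaf (nat_lit 0x280306d0f1))) (.node 1 (.leaf (nat_lit 0x280706be31)) (.leaf (nat_lit 0x280506bf61)))) (.node 2 (.node 1 (.leaf (nat_lit 0x280006bdf1)) (.leaf (nat_lit 0x280406bdf1))) (.node 1 (.leaf (nat_lit 0x2a0306cff1)) (.leaf (nat_lit 0x280306d001))))))) (.node 16 (.node 8 (.node 4 (.node 2 (.node 1 (.leaf (nat_lit 0x280306d011)) (.leaf (nat_lit 0x280006be61))) (.node 1 (.leaf (nat_lit 0x280406be61)) (.leaf (nat_lit 0x280306be71)))) (.node 2 (.node 1 (.leaf (nat_lit 0x280506be71)) (.leaf (nat_lit 0x280406be91))) (.node 1 (.leaf (nat_lit 0x280506bea1)) (.leaf (nat_lit 0x280006bec1))))) (.node 4 (.node 2 (.node 1 (.leaf (nat_lit 0x280406bec1)) (.leaf (nat_lit 0x280306bed1))) (.node 1 (.leaf (nat_lit 0x280406bee1)) (.leaf (nat_lit 0x280506bef1)))) (.node 2 (.node 1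 (.leaf (nat_lit 0x280406bf11)) (.leaf (nat_lit 0x280506bf31))) (.node 1 (.leaf (nat_lit 0x280006bf71)) (.leaf (nat_lit 0x280406bf71)))))) (.node 8 (.node 4 (.node 2 (.node 1 (.leaf (nat_lit 0x280306bf81)) (.leaf (nat_lit 0x280006bfa1))) (.node 1 (.leaf (nat_lit 0x280406bfa1)) (.leaf (nat_lit 0x280306bfb1)))) (.node 2 (.node 1 (.leaf (nat_lit 0x280406bfc1)) (.leaf (nat_lit 0x280106bfe1))) (.node 1 (.leaf (nat_lit 0x280706c011)) (.leaf (nat_lit 0x280706c021))))) (.node 4 (.node 2 (.node 1 (.leaf (nat_lit 0x280006c001)) (.leaf (nat_lit 0x280306c4e1))) (.node 1 (.leaf (nat_lit 0x280506c011)) (.leaf (nat_lit 0x280106c041)))) (.node 2 (.node 1 (.leaf (nat_lit 0x280706c071)) (.leaf (nat_lit 0x280006c061))) (.node 1 (.leaf (nat_lit 0x280306c971)) (.leaf (nat_lit 0x280106c081))))))))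

noncomputable def oT225 : Tree :=
  .node 64 (.node 32 (.node 16 (.node 8 (.node 4 (.node 2 (.node 1 (.leaf (nat_lit 0x280406c081)) (.leaf (nat_lit 0x280006c0a1))) (.node 1 (.leaf (nat_lit 0x280406c0a1)) (.leaf (nat_lit 0x280306c0b1)))) (.node 2 (.node 1 (.leaf (nat_lit 0x280406c0c1)) (.leaf (nat_lit 0x280006c0e1))) (.node 1 (.leaf (nat_lit 0x280406c0e1)) (.leaf (nat_lit 0x280306c0f1))))) (.node 4 (.node 2 (.node 1 (.leaf (nat_lit 0x280006c101)) (.leaf (nat_lit 0x280406c111))) (.node 1 (.leaf (nat_lit 0x280006c131)) (.leaf (nat_lit 0x280006c141)))) (.node 2 (.node 1 (.leaf (nat_lit 0x280406c141)) (.leaf (nat_lit 0x280306c151))) (.node 1 (.leaf (nat_lit 0x280406c161)) (.leaf (nat_lit 0x280306c171)))))) (.node 8 (.node 4 (.node 2 (.node 1 (.leaf (nat_lit 0x2a0006c1c1)) (.leaf (nat_lit 0x2a0406c1c1))) (.node 1 (.leaf (nat_lit 0x2a0306c1d1)) (.leaf (nat_lit 0x280406c211)))) (.node 2 (.node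 1 (.leaf (nat_lit 0x280306c501)) (.leaf (nat_lit 0x280506c201))) (.node 1 (.leaf (nat_lit 0x2a0406c221)) (.leaf (nat_lit 0x2a0306c231))))) (.node 4 (.node 2 (.node 1 (.leaf (nat_lit 0x2a0706c241)) (.leaf (nat_lit 0x280006c251))) (.node 1 (.leaf (nat_lit 0x280406c251)) (.leaf (nat_lit 0x280306c981)))) (.node 2 (.node 1 (.leaf (nat_lit 0x280106c291)) (.leaf (nat_lit 0x280406c291))) (.node 1 (.leaf (nat_lit 0x280006c2b1)) (.leaf (nat_lit 0x280406c2b1))))))) (.node 16 (.node 8 (.node 4 (.node 2 (.node 1 (.leaf (nat_lit 0x280306c2c1)) (.leaf (nat_lit 0x2a0006c2d1))) (.node 1 (.leaf (nat_lit 0x2a03071a11)) (.leaf (nat_lit 0x2a0506c2e1)))) (.node 2 (.node 1 (.leaf (nat_lit 0x2a0806c331)) (.leaf (nat_lit 0x2a03071a41))) (.node 1 (.leaf (nat_lit 0x2a0506c311)) (.leaf (nat_lit 0x2a0606c321))))) (.node 4 (.node 2 (.node 1 (.leaf (nat_lit 0x280406c341)) (.leaf (nat_lit 0x2a0506c361))) (.node 1 (.leaf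 (nat_lit 0x2a0606c371)) (.leaf (nat_lit 0x280006c391)))) (.node 2 (.node 1 (.leaf (nat_lit 0x280406c391)) (.leaf (nat_lit 0x280006c3c1))) (.node 1 (.leaf (nat_lit 0x280406c3c1)) (.leaf (nat_lit 0x280306c3d1)))))) (.node 8 (.node 4 (.node 2 (.node 1 (.leaf (nat_lit 0x280006c3e1)) (.leaf (nat_lit 0x280406c3e1))) (.node 1 (.leaf (nat_lit 0x280406c401)) (.leaf (nat_lit 0x280006c421)))) (.node 2 (.node 1 (.leaf (nat_lit 0x280406c431)) (.leaf (nat_lit 0x280006c461))) (.node 1 (.leaf (nat_lit 0x280406c461)) (.leaf (nat_lit 0x280306c471))))) (.node 4 (.node 2 (.node 1 (.leaf (nat_lit 0x280006c481)) (.leaf (nat_lit 0x280406c481))) (.node 1 (.leaf (nat_lit 0x280306c491)) (.leaf (nat_lit 0x280406c4a1)))) (.node 2 (.node 1 (.leaf (nat_lit 0x280306c4b1)) (.leaf (nat_lit 0x280406c4d1))) (.node 1 (.leaf (nat_lit 0x280506c4e1)) (.leaf (nat_lit 0x280506c501)))))))) (.node 32 (.node 16 (.node 8 (.node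 4 (.node 2 (.node 1 (.leaf (nat_lit 0x2a0006c521)) (.leaf (nat_lit 0x2a0406c521))) (.node 1 (.leaf (nat_lit 0x280406c541)) (.leaf (nat_lit 0x280406c5c1)))) (.node 2 (.node 1 (.leaf (nat_lit 0x280506c5d1)) (.leaf (nat_lit 0x280106c5f1))) (.node 1 (.leaf (nat_lit 0x280406c5f1)) (.leaf (nat_lit 0x280506c601))))) (.node 4 (.node 2 (.node 1 (.leaf (nat_lit 0x280006c611)) (.leaf (nat_lit 0x280406c611))) (.node 1 (.leaf (nat_lit 0x280306c621)) (.leaf (nat_lit 0x280506c621)))) (.node 2 (.node 1 (.leaf (nat_lit 0x280406c641)) (.leaf (nat_lit 0x280506c651))) (.node 1 (.leaf (nat_lit 0x280106c671)) (.leaf (nat_lit 0x280406c671)))))) (.node 8 (.node 4 (.node 2 (.node 1 (.leaf (nat_lit 0x280506c681)) (.leaf (nat_lit 0x280006c691))) (.node 1 (.leaf (nat_lit 0x280406c691)) (.leaf (nat_lit 0x280306c6a1)))) (.node 2 (.node 1 (.leaf (nat_lit 0x280506c6a1)) (.leaf (nat_lit 0x280006c6c1))) (.node 1 (.leaf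 (nat_lit 0x280406c6c1)) (.leaf (nat_lit 0x280506c6d1))))) (.node 4 (.node 2 (.node 1 (.leaf (nat_lit 0x280406c6f1)) (.leaf (nat_lit 0x280506c701))) (.node 1 (.leaf (nat_lit 0x280406c721)) (.leaf (nat_lit 0x280506c731)))) (.node 2 (.node 1 (.leaf (nat_lit 0x280506c751)) (.leaf (nat_lit 0x280606c761))) (.node 1 (.leaf (nat_lit 0x280006c781)) (.leaf (nat_lit 0x280406c781))))))) (.node 16 (.node 8 (.node 4 (.node 2 (.node 1 (.leaf (nat_lit 0x280306c791)) (.leaf (nat_lit 0x280406c7a1))) (.node 1 (.leaf (nat_lit 0x280506c7d1)) (.leaf (nat_lit 0x280406c7f1)))) (.node 2 (.node 1 (.leaf (nat_lit 0x280006c811)) (.leaf (nat_lit 0x280406c811))) (.node 1 (.leaf (nat_lit 0x280306c821)) (.leaf (nat_lit 0x280406c831))))) (.node 4 (.node 2 (.node 1 (.leaf (nat_lit 0x280306c841)) (.leaf (nat_lit 0x280506c861))) (.node 1 (.leaf (nat_lit 0x280306c941)) (.leaf (nat_lit 0x2a0406c8a1)))) (.node 2 (.node 1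 (.leaf (nat_lit 0x2a0406c8c1)) (.leaf (nat_lit 0x280406c8f1))) (.node 1 (.leaf (nat_lit 0x280406c911)) (.leaf (nat_lit 0x280506c941)))))) (.node 8 (.node 4 (.node 2 (.node 1 (.leaf (nat_lit 0x280406c961)) (.leaf (nat_lit 0x280606c9b1))) (.node 1 (.leaf (nat_lit 0x2a0006c9d1)) (.leaf (nat_lit 0x2a0406c9d1)))) (.node 2 (.node 1 (.leaf (nat_lit 0x2a0006ca11)) (.leaf (nat_lit 0x2a0406ca11))) (.node 1 (.leaf (nat_lit 0x2a0306ca21)) (.leaf (nat_lit 0x280006ca41))))) (.node 4 (.node 2 (.node 1 (.leaf (nat_lit 0x280406ca41)) (.leaf (nat_lit 0x280306ca51))) (.node 1 (.leaf (nat_lit 0x2a0406ca61)) (.leaf (nat_lit 0x2a0306ca71)))) (.node 2 (.node 1 (.leaf (nat_lit 0x2a0006ca91)) (.leaf (nat_lit 0x2a0406ca91))) (.node 1 (.leaf (nat_lit 0x2a0006cac1)) (.leaf (nat_lit 0x2a0406cac1))))))))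

noncomputable def oT226 : Tree :=
  .node 64 (.node 32 (.node 16 (.node 8 (.node 4 (.node 2 (.node 1 (.leaf (nat_lit 0x2a0306cad1)) (.leaf (nat_lit 0x2a0406caf1))) (.node 1 (.leaf (nat_lit 0x280006cb21)) (.leaf (nat_lit 0x280406cb21)))) (.node 2 (.node 1 (.leaf (nat_lit 0x280306cb31)) (.leaf (nat_lit 0x280406cb51))) (.node 1 (.leaf (nat_lit 0x280406cb71)) (.leaf (nat_lit 0x280306cb81))))) (.node 4 (.node 2 (.node 1 (.leaf (nat_lit 0x280406cbb1)) (.leaf (nat_lit 0x2a0406cbe1))) (.node 1 (.leaf (nat_lit 0x2a0306cbf1)) (.leaf (nat_lit 0x280006cc51)))) (.node 2 (.node 1 (.leaf (nat_lit 0x280406cc51)) (.leaf (nat_lit 0x280006cc71))) (.node 1 (.leaf (nat_lit 0x280406cc71)) (.leaf (nat_lit 0x280406cc91)))))) (.node 8 (.node 4 (.node 2 (.node 1 (.leaf (nat_lit 0x280306cca1)) (.leaf (nat_lit 0x280006ccc1))) (.node 1 (.leaf (nat_lit 0x280406ccc1)) (.leaf (nat_lit 0x280406cce1)))) (.node 2 (.node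 1 (.leaf (nat_lit 0x2a0006cd11)) (.leaf (nat_lit 0x2a0406cd11))) (.node 1 (.leaf (nat_lit 0x2a0306cd21)) (.leaf (nat_lit 0x2a0406cd41))))) (.node 4 (.node 2 (.node 1 (.leaf (nat_lit 0x2a0306cd51)) (.leaf (nat_lit 0x280006cda1))) (.node 1 (.leaf (nat_lit 0x280406cda1)) (.leaf (nat_lit 0x280006cdc1)))) (.node 2 (.node 1 (.leaf (nat_lit 0x280406cdc1)) (.leaf (nat_lit 0x280306cdd1))) (.node 1 (.leaf (nat_lit 0x280406cdf1)) (.leaf (nat_lit 0x280306ce01))))))) (.node 16 (.node 8 (.node 4 (.node 2 (.node 1 (.leaf (nat_lit 0x280706ce11)) (.leaf (nat_lit 0x280106ce21))) (.node 1 (.leaf (nat_lit 0x280406ce21)) (.leaf (nat_lit 0x280506ce31)))) (.node 2 (.node 1 (.leaf (nat_lit 0x280006ce41)) (.leaf (nat_lit 0x280406ce41))) (.node 1 (.leaf (nat_lit 0x280306ce51)) (.leaf (nat_lit 0x280006ce71))))) (.node 4 (.node 2 (.node 1 (.leaf (nat_lit 0x280406ce71)) (.leaf (nat_lit 0x280306ce81))) (.node 1 (.leaf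 (nat_lit 0x280406ce91)) (.leaf (nat_lit 0x280306cea1)))) (.node 2 (.node 1 (.leaf (nat_lit 0x2a0006ced1)) (.leaf (nat_lit 0x280306d111))) (.node 1 (.leaf (nat_lit 0x280406cef1)) (.leaf (nat_lit 0x2a0406cf31)))))) (.node 8 (.node 4 (.node 2 (.node 1 (.leaf (nat_lit 0x2a0306cf41)) (.leaf (nat_lit 0x2a0406cf61))) (.node 1 (.leaf (nat_lit 0x2a0306cf71)) (.leaf (nat_lit 0x2c0306cf91)))) (.node 2 (.node 1 (.leaf (nat_lit 0x2c0206cfa1)) (.leaf (nat_lit 0x2a03072661))) (.node 1 (.leaf (nat_lit 0x280506d121)) (.leaf (nat_lit 0x280506d131))))) (.node 4 (.node 2 (.node 1 (.leaf (nat_lit 0x280406d021)) (.leaf (nat_lit 0x280406d031))) (.node 1 (.leaf (nat_lit 0x280006d031)) (.leaf (nat_lit 0x280406d061)))) (.node 2 (.node 1 (.leaf (nat_lit 0x280306d081)) (.leaf (nat_lit 0x280706d091))) (.node 1 (.leaf (nat_lit 0x280806d0a1)) (.leaf (nat_lit 0x280006d0b1)))))))) (.node 32 (.node 16 (.node 8 (.node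 4 (.node 2 (.node 1 (.leaf (nat_lit 0x280406d0b1)) (.leaf (nat_lit 0x280406d0e1))) (.node 1 (.leaf (nat_lit 0x280406d101)) (.leaf (nat_lit 0x280306d121)))) (.node 2 (.node 1 (.leaf (nat_lit 0x290006d171)) (.leaf (nat_lit 0x290406d171))) (.node 1 (.leaf (nat_lit 0x290006d1a1)) (.leaf (nat_lit 0x290006d1c1))))) (.node 4 (.node 2 (.node 1 (.leaf (nat_lit 0x290406d1e1)) (.leaf (nat_lit 0x290306d1f1))) (.node 1 (.leaf (nat_lit 0x290706d201)) (.leaf (nat_lit 0x290806d211)))) (.node 2 (.node 1 (.leaf (nat_lit 0x290406d251)) (.leaf (nat_lit 0x290006d271))) (.node 1 (.leaf (nat_lit 0x290406d281)) (.leaf (nat_lit 0x290306d2a1)))))) (.node 8 (.node 4 (.node 2 (.node 1 (.leaf (nat_lit 0x290206d2b1)) (.leaf (nat_lit 0x290706d2b1))) (.node 1 (.leaf (nat_lit 0x290806d2c1)) (.leaf (nat_lit 0x290106d2f1)))) (.node 2 (.node 1 (.leaf (nat_lit 0x290406d2f1)) (.leaf (nat_lit 0x290006d311))) (.node 1 (.leaf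 (nat_lit 0x290106d321)) (.leaf (nat_lit 0x290406d321))))) (.node 4 (.node 2 (.node 1 (.leaf (nat_lit 0x290506d331)) (.leaf (nat_lit 0x290306d341))) (.node 1 (.leaf (nat_lit 0x290506d341)) (.leaf (nat_lit 0x290606d351)))) (.node 2 (.node 1 (.leaf (nat_lit 0x290106d361)) (.leaf (nat_lit 0x290406d361))) (.node 1 (.leaf (nat_lit 0x290506d371)) (.leaf (nat_lit 0x290106d381))))))) (.node 16 (.node 8 (.node 4 (.node 2 (.node 1 (.leaf (nat_lit 0x290406d381)) (.leaf (nat_lit 0x290506d391))) (.node 1 (.leaf (nat_lit 0x290006d3a1)) (.leaf (nat_lit 0x290406d3a1)))) (.node 2 (.node 1 (.leaf (nat_lit 0x290506d3b1)) (.leaf (nat_lit 0x290606d3c1))) (.node 1 (.leaf (nat_lit 0x290006d3e1)) (.leaf (nat_lit 0x290406d3e1))))) (.node 4 (.node 2 (.node 1 (.leaf (nat_lit 0x290306d3f1)) (.leaf (nat_lit 0x290006d411))) (.node 1 (.leaf (nat_lit 0x290106d421)) (.leaf (nat_lit 0x290406d421)))) (.node 2 (.node 1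 (.leaf (nat_lit 0x290506d431)) (.leaf (nat_lit 0x290006d441))) (.node 1 (.leaf (nat_lit 0x290306ddb1)) (.leaf (nat_lit 0x290306ddc1)))))) (.node 8 (.node 4 (.node 2 (.node 1 (.leaf (nat_lit 0x290306d471)) (.leaf (nat_lit 0x290106d481))) (.node 1 (.leaf (nat_lit 0x290406d481)) (.leaf (nat_lit 0x290506d491)))) (.node 2 (.node 1 (.leaf (nat_lit 0x290006d4a1)) (.leaf (nat_lit 0x290406d4a1))) (.node 1 (.leaf (nat_lit 0x290506de21)) (.leaf (nat_lit 0x290106d4d1))))) (.node 4 (.node 2 (.node 1 (.leaf (nat_lit 0x290406d4d1)) (.leaf (nat_lit 0x290506d4e1))) (.node 1 (.leaf (nat_lit 0x290006d4f1)) (.leaf (nat_lit 0x290406d4f1)))) (.node 2 (.node 1 (.leaf (nat_lit 0x290306d501)) (.leaf (nat_lit 0x290506d501))) (.node 1 (.leaf (nat_lit 0x290406d521)) (.leaf (nat_lit 0x290506d531))))))))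

noncomputable def oT227 : Tree :=
  .node 64 (.node 32 (.node 16 (.node 8 (.node 4 (.node 2 (.node 1 (.leaf (nat_lit 0x290406d551)) (.leaf (nat_lit 0x290306d561))) (.node 1 (.leaf (nat_lit 0x290706d571)) (.leaf (nat_lit 0x290306d581)))) (.node 2 (.node 1 (.leaf (nat_lit 0x290506df81)) (.leaf (nat_lit 0x290806d5b1))) (.node 1 (.leaf (nat_lit 0x290006d5d1)) (.leaf (nat_lit 0x290406d5d1))))) (.node 4 (.node 2 (.node 1 (.leaf (nat_lit 0x290506f8f1)) (.leaf (nat_lit 0x290306f8f1))) (.node 1 (.leaf (nat_lit 0x290406d631)) (.leaf (nat_lit 0x290306e071)))) (.node 2 (.node 1 (.leaf (nat_lit 0x290306e081)) (.leaf (nat_lit 0x290306e091))) (.node 1 (.leaf (nat_lit 0x290006d641)) (.leaf (nat_lit 0x290406d641)))))) (.node 8 (.node 4 (.node 2 (.node 1 (.leaf (nat_lit 0x290306d651)) (.leaf (nat_lit 0x290706e861))) (.node 1 (.leaf (nat_lit 0x290506e0f1)) (.leaf (nat_lit 0x290506e101)))) (.node 2 (.node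 1 (.leaf (nat_lit 0x290106d6a1)) (.leaf (nat_lit 0x290406d6a1))) (.node 1 (.leaf (nat_lit 0x290006d6c1)) (.leaf (nat_lit 0x290406d6c1))))) (.node 4 (.node 2 (.node 1 (.leaf (nat_lit 0x290406d6e1)) (.leaf (nat_lit 0x290106d701))) (.node 1 (.leaf (nat_lit 0x290406d701)) (.leaf (nat_lit 0x290506d711)))) (.node 2 (.node 1 (.leaf (nat_lit 0x290006d721)) (.leaf (nat_lit 0x290406d721))) (.node 1 (.leaf (nat_lit 0x290306d731)) (.leaf (nat_lit 0x290506d731))))))) (.node 16 (.node 8 (.node 4 (.node 2 (.node 1 (.leaf (nat_lit 0x290006d751)) (.leaf (nat_lit 0x290406d751))) (.node 1 (.leaf (nat_lit 0x290506d761)) (.leaf (nat_lit 0x290606d771)))) (.node 2 (.node 1 (.leaf (nat_lit 0x290406d781)) (.leaf (nat_lit 0x290506d791))) (.node 1 (.leaf (nat_lit 0x290606d7a1)) (.leaf (nat_lit 0x290406d7c1))))) (.node 4 (.node 2 (.node 1 (.leaf (nat_lit 0x290306d7d1)) (.leaf (nat_lit 0x290506d7d1))) (.node 1 (.leaf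 (nat_lit 0x290706d7e1)) (.leaf (nat_lit 0x290506d801)))) (.node 2 (.node 1 (.leaf (nat_lit 0x290606d811)) (.leaf (nat_lit 0x290306d831))) (.node 1 (.leaf (nat_lit 0x290706d841)) (.leaf (nat_lit 0x290806d851)))))) (.node 8 (.node 4 (.node 2 (.node 1 (.leaf (nat_lit 0x290806d891)) (.leaf (nat_lit 0x290006d8c1))) (.node 1 (.leaf (nat_lit 0x290106d8e1)) (.leaf (nat_lit 0x290106d8f1)))) (.node 2 (.node 1 (.leaf (nat_lit 0x290406d8f1)) (.leaf (nat_lit 0x290006d911))) (.node 1 (.leaf (nat_lit 0x290006d921)) (.leaf (nat_lit 0x290406d921))))) (.node 4 (.node 2 (.node 1 (.leaf (nat_lit 0x290006d951)) (.leaf (nat_lit 0x290406d951))) (.node 1 (.leaf (nat_lit 0x290306d961)) (.leaf (nat_lit 0x290406d971)))) (.node 2 (.node 1 (.leaf (nat_lit 0x290406d991)) (.leaf (nat_lit 0x290006d9b1))) (.node 1 (.leaf (nat_lit 0x290406d9b1)) (.leaf (nat_lit 0x290306d9c1)))))))) (.node 32 (.node 16 (.node 8 (.node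 4 (.node 2 (.node 1 (.leaf (nat_lit 0x290006d9f1)) (.leaf (nat_lit 0x290406d9f1))) (.node 1 (.leaf (nat_lit 0x290306da01)) (.leaf (nat_lit 0x290406da11)))) (.node 2 (.node 1 (.leaf (nat_lit 0x290406da31)) (.leaf (nat_lit 0x290006da51))) (.node 1 (.leaf (nat_lit 0x290406da51)) (.leaf (nat_lit 0x290306da61))))) (.node 4 (.node 2 (.node 1 (.leaf (nat_lit 0x290006da91)) (.leaf (nat_lit 0x290406da91))) (.node 1 (.leaf (nat_lit 0x290406dab1)) (.leaf (nat_lit 0x290106dae1)))) (.node 2 (.node 1 (.leaf (nat_lit 0x290406dae1)) (.leaf (nat_lit 0x290506daf1))) (.node 1 (.leaf (nat_lit 0x290106db11)) (.leaf (nat_lit 0x290406db11)))))) (.node 8 (.node 4 (.node 2 (.node 1 (.leaf (nat_lit 0x290406f0d1)) (.leaf (nat_lit 0x2907070161))) (.node 1 (.leaf (nat_lit 0x290706ef61)) (.leaf (nat_lit 0x290706f0d1)))) (.node 2 (.node 1 (.leaf (nat_lit 0x2b0006db51)) (.leaf (nat_lit 0x2903071401))) (.node 1 (.leaf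 (nat_lit 0x29080705a1)) (.leaf (nat_lit 0x290506dc31))))) (.node 4 (.node 2 (.node 1 (.leaf (nat_lit 0x290106db91)) (.leaf (nat_lit 0x290406db91))) (.node 1 (.leaf (nat_lit 0x290506dba1)) (.leaf (nat_lit 0x290006dbb1)))) (.node 2 (.node 1 (.leaf (nat_lit 0x290406dbb1)) (.leaf (nat_lit 0x290306dbc1))) (.node 1 (.leaf (nat_lit 0x290106dbe1)) (.leaf (nat_lit 0x290406dbe1))))))) (.node 16 (.node 8 (.node 4 (.node 2 (.node 1 (.leaf (nat_lit 0x290006dc01)) (.leaf (nat_lit 0x290406dc01))) (.node 1 (.leaf (nat_lit 0x290306dc11)) (.leaf (nat_lit 0x290506dc11)))) (.node 2 (.node 1 (.leaf (nat_lit 0x290706dc31)) (.leaf (nat_lit 0x290006dc41))) (.node 1 (.leaf (nat_lit 0x290406dc41)) (.leaf (nat_lit 0x290306dc51))))) (.node 4 (.node 2 (.node 1 (.leaf (nat_lit 0x290506dc51)) (.leaf (nat_lit 0x290006dc71))) (.node 1 (.leaf (nat_lit 0x290406dc71)) (.leaf (nat_lit 0x290306dc81)))) (.node 2 (.node 1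 (.leaf (nat_lit 0x290506dc81)) (.leaf (nat_lit 0x290406dca1))) (.node 1 (.leaf (nat_lit 0x290506dcb1)) (.leaf (nat_lit 0x290606dcc1)))))) (.node 8 (.node 4 (.node 2 (.node 1 (.leaf (nat_lit 0x290406dce1)) (.leaf (nat_lit 0x290306dcf1))) (.node 1 (.leaf (nat_lit 0x290706dd01)) (.leaf (nat_lit 0x290106dd11)))) (.node 2 (.node 1 (.leaf (nat_lit 0x290406dd11)) (.leaf (nat_lit 0x290506dd21))) (.node 1 (.leaf (nat_lit 0x2b0006dd31)) (.leaf (nat_lit 0x2905070e51))))) (.node 4 (.node 2 (.node 1 (.leaf (nat_lit 0x2905070e61)) (.leaf (nat_lit 0x290006dd61))) (.node 1 (.leaf (nat_lit 0x290406dd61)) (.leaf (nat_lit 0x2905070151)))) (.node 2 (.node 1 (.leaf (nat_lit 0x29050700e1)) (.leaf (nat_lit 0x29050700f1))) (.node 1 (.leaf (nat_lit 0x290406dda1)) (.leaf (nat_lit 0x290406fb61))))))))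

noncomputable def oT228 : Tree :=
  .node 64 (.node 32 (.node 16 (.node 8 (.node 4 (.node 2 (.node 1 (.leaf (nat_lit 0x290006ddd1)) (.leaf (nat_lit 0x290406ddd1))) (.node 1 (.leaf (nat_lit 0x290506dde1)) (.leaf (nat_lit 0x290406de01)))) (.node 2 (.node 1 (.leaf (nat_lit 0x290406f901)) (.leaf (nat_lit 0x290406ea01))) (.node 1 (.leaf (nat_lit 0x290006de31)) (.leaf (nat_lit 0x290406de31))))) (.node 4 (.node 2 (.node 1 (.leaf (nat_lit 0x290306de41)) (.leaf (nat_lit 0x290406de51))) (.node 1 (.leaf (nat_lit 0x290006de71)) (.leaf (nat_lit 0x290006de81)))) (.node 2 (.node 1 (.leaf (nat_lit 0x290406de81)) (.leaf (nat_lit 0x290306de91))) (.node 1 (.leaf (nat_lit 0x290406dea1)) (.leaf (nat_lit 0x290306deb1)))))) (.node 8 (.node 4 (.node 2 (.node 1 (.leaf (nat_lit 0x290506deb1)) (.leaf (nat_lit 0x290506dec1))) (.node 1 (.leaf (nat_lit 0x290506def1)) (.leaf (nat_lit 0x290006df11)))) (.node 2 (.node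 1 (.leaf (nat_lit 0x290406df11)) (.leaf (nat_lit 0x290406df31))) (.node 1 (.leaf (nat_lit 0x290306df51)) (.leaf (nat_lit 0x290706df61))))) (.node 4 (.node 2 (.node 1 (.leaf (nat_lit 0x290806df71)) (.leaf (nat_lit 0x290106dfa1))) (.node 1 (.leaf (nat_lit 0x290406dfa1)) (.leaf (nat_lit 0x290006dfc1)))) (.node 2 (.node 1 (.leaf (nat_lit 0x290406dfc1)) (.leaf (nat_lit 0x290306dfd1))) (.node 1 (.leaf (nat_lit 0x290506dfd1)) (.leaf (nat_lit 0x2905070e71))))))) (.node 16 (.node 8 (.node 4 (.node 2 (.node 1 (.leaf (nat_lit 0x2905070e81)) (.leaf (nat_lit 0x2905070ca1))) (.node 1 (.leaf (nat_lit 0x290006e021)) (.leaf (nat_lit 0x290506e171)))) (.node 2 (.node 1 (.leaf (nat_lit 0x290406e041)) (.leaf (nat_lit 0x290406e111))) (.node 1 (.leaf (nat_lit 0x290406fb71)) (.leaf (nat_lit 0x290706e281))))) (.node 4 (.node 2 (.node 1 (.leaf (nat_lit 0x290006e0a1)) (.leaf (nat_lit 0x290706e5c1))) (.node 1 (.leaf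 (nat_lit 0x290406e0c1)) (.leaf (nat_lit 0x290506e0d1)))) (.node 2 (.node 1 (.leaf (nat_lit 0x290406f911)) (.leaf (nat_lit 0x290406f841))) (.node 1 (.leaf (nat_lit 0x290006e111)) (.leaf (nat_lit 0x290406e121)))))) (.node 8 (.node 4 (.node 2 (.node 1 (.leaf (nat_lit 0x290006e141)) (.leaf (nat_lit 0x290406e141))) (.node 1 (.leaf (nat_lit 0x290406e161)) (.leaf (nat_lit 0x290506e191)))) (.node 2 (.node 1 (.leaf (nat_lit 0x290406e1b1)) (.leaf (nat_lit 0x290506e1d1))) (.node 1 (.leaf (nat_lit 0x290606e1e1)) (.leaf (nat_lit 0x290006e201))))) (.node 4 (.node 2 (.node 1 (.leaf (nat_lit 0x290606e221)) (.leaf (nat_lit 0x2905070ee1))) (.node 1 (.leaf (nat_lit 0x290206e271)) (.leaf (nat_lit 0x290706e271)))) (.node 2 (.node 1 (.leaf (nat_lit 0x290806e291)) (.leaf (nat_lit 0x290006e2c1))) (.node 1 (.leaf (nat_lit 0x290006e2e1)) (.leaf (nat_lit 0x290006e2f1)))))))) (.node 32 (.node 16 (.node 8 (.node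 4 (.node 2 (.node 1 (.leaf (nat_lit 0x290406e2f1)) (.leaf (nat_lit 0x290006e311))) (.node 1 (.leaf (nat_lit 0x290406e311)) (.leaf (nat_lit 0x290006e341)))) (.node 2 (.node 1 (.leaf (nat_lit 0x290406e361)) (.leaf (nat_lit 0x290406e381))) (.node 1 (.leaf (nat_lit 0x290106e3a1)) (.leaf (nat_lit 0x290406e3a1))))) (.node 4 (.node 2 (.node 1 (.leaf (nat_lit 0x290506e3b1)) (.leaf (nat_lit 0x290106e3c1))) (.node 1 (.leaf (nat_lit 0x290406e3c1)) (.leaf (nat_lit 0x290506e3d1)))) (.node 2 (.node 1 (.leaf (nat_lit 0x290006e3e1)) (.leaf (nat_lit 0x290406e3e1))) (.node 1 (.leaf (nat_lit 0x290506e3f1)) (.leaf (nat_lit 0x290006e411)))))) (.node 8 (.node 4 (.node 2 (.node 1 (.leaf (nat_lit 0x290406e411)) (.leaf (nat_lit 0x290306e421))) (.node 1 (.leaf (nat_lit 0x290006e451)) (.leaf (nat_lit 0x290406e451)))) (.node 2 (.node 1 (.leaf (nat_lit 0x290006e471)) (.leaf (nat_lit 0x290406e471))) (.node 1 (.leaf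 (nat_lit 0x290306e481)) (.leaf (nat_lit 0x290506e481))))) (.node 4 (.node 2 (.node 1 (.leaf (nat_lit 0x290406e4a1)) (.leaf (nat_lit 0x290506e4b1))) (.node 1 (.leaf (nat_lit 0x290006e4d1)) (.leaf (nat_lit 0x290406e4d1)))) (.node 2 (.node 1 (.leaf (nat_lit 0x290406e4f1)) (.leaf (nat_lit 0x290306e501))) (.node 1 (.leaf (nat_lit 0x290406e531)) (.leaf (nat_lit 0x290406e551))))))) (.node 16 (.node 8 (.node 4 (.node 2 (.node 1 (.leaf (nat_lit 0x290506e571)) (.leaf (nat_lit 0x290406e591))) (.node 1 (.leaf (nat_lit 0x290306e5b1)) (.leaf (nat_lit 0x290106e5f1)))) (.node 2 (.node 1 (.leaf (nat_lit 0x290006e601)) (.leaf (nat_lit 0x290006e611))) (.node 1 (.leaf (nat_lit 0x290406e611)) (.leaf (nat_lit 0x290406e631))))) (.node 4 (.node 2 (.node 1 (.leaf (nat_lit 0x290006e651)) (.leaf (nat_lit 0x290106e661))) (.node 1 (.leaf (nat_lit 0x290406e661)) (.leaf (nat_lit 0x290506e671)))) (.node 2 (.node 1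 (.leaf (nat_lit 0x290106e681)) (.leaf (nat_lit 0x290406e681))) (.node 1 (.leaf (nat_lit 0x290506e691)) (.leaf (nat_lit 0x290006e6a1)))))) (.node 8 (.node 4 (.node 2 (.node 1 (.leaf (nat_lit 0x290406e6a1)) (.leaf (nat_lit 0x290506e6b1))) (.node 1 (.leaf (nat_lit 0x290606e6c1)) (.leaf (nat_lit 0x290006e6e1)))) (.node 2 (.node 1 (.leaf (nat_lit 0x290406e6e1)) (.leaf (nat_lit 0x290306e6f1))) (.node 1 (.leaf (nat_lit 0x290006e711)) (.leaf (nat_lit 0x290006e731))))) (.node 4 (.node 2 (.node 1 (.leaf (nat_lit 0x290406e731)) (.leaf (nat_lit 0x290006e751))) (.node 1 (.leaf (nat_lit 0x290406e751)) (.leaf (nat_lit 0x290306e761)))) (.node 2 (.node 1 (.leaf (nat_lit 0x290506e761)) (.leaf (nat_lit 0x290006e781))) (.node 1 (.leaf (nat_lit 0x290406e791)) (.leaf (nat_lit 0x290506e7a1))))))))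

noncomputable def oT229 : Tree :=
  .node 64 (.node 32 (.node 16 (.node 8 (.node 4 (.node 2 (.node 1 (.leaf (nat_lit 0x290406e7c1)) (.leaf (nat_lit 0x290306e7d1))) (.node 1 (.leaf (nat_lit 0x290706e7e1)) (.leaf (nat_lit 0x290806e7f1)))) (.node 2 (.node 1 (.leaf (nat_lit 0x290006e821)) (.leaf (nat_lit 0x290406e841))) (.node 1 (.leaf (nat_lit 0x290306e851)) (.leaf (nat_lit 0x290506e851))))) (.node 4 (.node 2 (.node 1 (.leaf (nat_lit 0x290406e881)) (.leaf (nat_lit 0x290306e891))) (.node 1 (.leaf (nat_lit 0x290506e891)) (.leaf (nat_lit 0x290706e8a1)))) (.node 2 (.node 1 (.leaf (nat_lit 0x290506e8c1)) (.leaf (nat_lit 0x290306e8e1))) (.node 1 (.leaf (nat_lit 0x290706e8f1)) (.leaf (nat_lit 0x290806e901)))))) (.node 8 (.node 4 (.node 2 (.node 1 (.leaf (nat_lit 0x290806e911)) (.leaf (nat_lit 0x290106e931))) (.node 1 (.leaf (nat_lit 0x290106e941)) (.leaf (nat_lit 0x290606f581)))) (.node 2 (.node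 1 (.leaf (nat_lit 0x290006e961)) (.leaf (nat_lit 0x290006e971))) (.node 1 (.leaf (nat_lit 0x290406e971)) (.leaf (nat_lit 0x290306e981))))) (.node 4 (.node 2 (.node 1 (.leaf (nat_lit 0x290006e9a1)) (.leaf (nat_lit 0x290406e9a1))) (.node 1 (.leaf (nat_lit 0x290306e9b1)) (.leaf (nat_lit 0x290506e9b1)))) (.node 2 (.node 1 (.leaf (nat_lit 0x290606e9c1)) (.leaf (nat_lit 0x290506e9d1))) (.node 1 (.leaf (nat_lit 0x290706e9d1)) (.leaf (nat_lit 0x290106ea01))))))) (.node 16 (.node 8 (.node 4 (.node 2 (.node 1 (.leaf (nat_lit 0x290006ea11)) (.leaf (nat_lit 0x290406ea11))) (.node 1 (.leaf (nat_lit 0x290306ea21)) (.leaf (nat_lit 0x290506ea21)))) (.node 2 (.node 1 (.leaf (nat_lit 0x290606ea31)) (.leaf (nat_lit 0x290006ea41))) (.node 1 (.leaf (nat_lit 0x290406ea41)) (.leaf (nat_lit 0x290306ea51))))) (.node 4 (.node 2 (.node 1 (.leaf (nat_lit 0x290506ea51)) (.leaf (nat_lit 0x290606ea61))) (.node 1 (.leaf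 (nat_lit 0x290406ea71)) (.leaf (nat_lit 0x290506ea81)))) (.node 2 (.node 1 (.leaf (nat_lit 0x290606ea91)) (.leaf (nat_lit 0x290806f0c1))) (.node 1 (.leaf (nat_lit 0x290406eac1)) (.leaf (nat_lit 0x290306ead1)))))) (.node 8 (.node 4 (.node 2 (.node 1 (.leaf (nat_lit 0x290706eae1)) (.leaf (nat_lit 0x290106eb01))) (.node 1 (.leaf (nat_lit 0x290406eb01)) (.leaf (nat_lit 0x290006eb21)))) (.node 2 (.node 1 (.leaf (nat_lit 0x290406eb21)) (.leaf (nat_lit 0x290306eb31))) (.node 1 (.leaf (nat_lit 0x290406eb41)) (.leaf (nat_lit 0x290406eb61))))) (.node 4 (.node 2 (.node 1 (.leaf (nat_lit 0x290006eb81)) (.leaf (nat_lit 0x290406eb81))) (.node 1 (.leaf (nat_lit 0x290306eb91)) (.leaf (nat_lit 0x290506eb91)))) (.node 2 (.node 1 (.leaf (nat_lit 0x290406ebb1)) (.leaf (nat_lit 0x290506ebc1))) (.node 1 (.leaf (nat_lit 0x290006ebe1)) (.leaf (nat_lit 0x290406ebe1)))))))) (.node 32 (.node 16 (.node 8 (.node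 4 (.node 2 (.node 1 (.leaf (nat_lit 0x290306ebf1)) (.leaf (nat_lit 0x290506ebf1))) (.node 1 (.leaf (nat_lit 0x290406ec11)) (.leaf (nat_lit 0x290306ec21)))) (.node 2 (.node 1 (.leaf (nat_lit 0x290506ec21)) (.leaf (nat_lit 0x290506ec31))) (.node 1 (.leaf (nat_lit 0x290406ec51)) (.leaf (nat_lit 0x290506ec71))))) (.node 4 (.node 2 (.node 1 (.leaf (nat_lit 0x290406ec91)) (.leaf (nat_lit 0x290306ecb1))) (.node 1 (.leaf (nat_lit 0x290706ecc1)) (.leaf (nat_lit 0x290806ecd1)))) (.node 2 (.node 1 (.leaf (nat_lit 0x2905070e31)) (.leaf (nat_lit 0x290106ed11))) (.node 1 (.leaf (nat_lit 0x290406ed11)) (.leaf (nat_lit 0x290006ed31)))))) (.node 8 (.node 4 (.node 2 (.node 1 (.leaf (nat_lit 0x290406ed31)) (.leaf (nat_lit 0x290306ed41))) (.node 1 (.leaf (nat_lit 0x290006ed51)) (.leaf (nat_lit 0x290406ed51)))) (.node 2 (.node 1 (.leaf (nat_lit 0x290406ed71)) (.leaf (nat_lit 0x290406ed91))) (.node 1 (.leaf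 (nat_lit 0x290006edd1)) (.leaf (nat_lit 0x290006edf1))))) (.node 4 (.node 2 (.node 1 (.leaf (nat_lit 0x290406edf1)) (.leaf (nat_lit 0x290306ee01))) (.node 1 (.leaf (nat_lit 0x290506ee01)) (.leaf (nat_lit 0x290006ee21)))) (.node 2 (.node 1 (.leaf (nat_lit 0x290406ee21)) (.leaf (nat_lit 0x290506ee31))) (.node 1 (.leaf (nat_lit 0x290406ee51)) (.leaf (nat_lit 0x290506ee61))))))) (.node 16 (.node 8 (.node 4 (.node 2 (.node 1 (.leaf (nat_lit 0x290406ee81)) (.leaf (nat_lit 0x290506ee91))) (.node 1 (.leaf (nat_lit 0x290506eeb1)) (.leaf (nat_lit 0x290006eed1)))) (.node 2 (.node 1 (.leaf (nat_lit 0x290406eed1)) (.leaf (nat_lit 0x290306eee1))) (.node 1 (.leaf (nat_lit 0x290506eee1)) (.leaf (nat_lit 0x290406ef01))))) (.node 4 (.node 2 (.node 1 (.leaf (nat_lit 0x290306ef11)) (.leaf (nat_lit 0x290506ef11))) (.node 1 (.leaf (nat_lit 0x290506ef21)) (.leaf (nat_lit 0x290706ef21)))) (.node 2 (.node 1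 (.leaf (nat_lit 0x290406ef41)) (.leaf (nat_lit 0x290306ef51))) (.node 1 (.leaf (nat_lit 0x290506ef51)) (.leaf (nat_lit 0x290506ef61)))))) (.node 8 (.node 4 (.node 2 (.node 1 (.leaf (nat_lit 0x290606ef71)) (.leaf (nat_lit 0x290306ef91))) (.node 1 (.leaf (nat_lit 0x290506ef91)) (.leaf (nat_lit 0x290506efa1)))) (.node 2 (.node 1 (.leaf (nat_lit 0x290606efb1)) (.leaf (nat_lit 0x290406efc1))) (.node 1 (.leaf (nat_lit 0x290606efc1)) (.leaf (nat_lit 0x290406efe1))))) (.node 4 (.node 2 (.node 1 (.leaf (nat_lit 0x290306f001)) (.leaf (nat_lit 0x290506f001))) (.node 1 (.leaf (nat_lit 0x290706f011)) (.leaf (nat_lit 0x290806f031)))) (.node 2 (.node 1 (.leaf (nat_lit 0x290606f041)) (.leaf (nat_lit 0x290706f081))) (.node 1 (.leaf (nat_lit 0x290806f091)) (.leaf (nat_lit 0x290406f0c1))))))))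

noncomputable def oT230 : Tree :=
  .node 64 (.node 32 (.node 16 (.node 8 (.node 4 (.node 2 (.node 1 (.leaf (nat_lit 0x290406f101)) (.leaf (nat_lit 0x290006f141))) (.node 1 (.leaf (nat_lit 0x290406f141)) (.leaf (nat_lit 0x290306f151)))) (.node 2 (.node 1 (.leaf (nat_lit 0x290406f171)) (.leaf (nat_lit 0x290506f181))) (.node 1 (.leaf (nat_lit 0x290406f1a1)) (.leaf (nat_lit 0x290306f1b1))))) (.node 4 (.node 2 (.node 1 (.leaf (nat_lit 0x290006f1d1)) (.leaf (nat_lit 0x290406f1d1))) (.node 1 (.leaf (nat_lit 0x290306f1e1)) (.leaf (nat_lit 0x290406f201)))) (.node 2 (.node 1 (.leaf (nat_lit 0x290406f241)) (.leaf (nat_lit 0x290306f251))) (.node 1 (.leaf (nat_lit 0x290406f281)) (.leaf (nat_lit 0x290706f2b1)))))) (.node 8 (.node 4 (.node 2 (.node 1 (.leaf (nat_lit 0x290806f2c1)) (.leaf (nat_lit 0x290406f301))) (.node 1 (.leaf (nat_lit 0x290406f321)) (.leaf (nat_lit 0x290306f331)))) (.node 2 (.node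 1 (.leaf (nat_lit 0x290006f361)) (.leaf (nat_lit 0x290406f361))) (.node 1 (.leaf (nat_lit 0x290306f371)) (.leaf (nat_lit 0x290006f391))))) (.node 4 (.node 2 (.node 1 (.leaf (nat_lit 0x290406f391)) (.leaf (nat_lit 0x290306f3a1))) (.node 1 (.leaf (nat_lit 0x290506f3a1)) (.leaf (nat_lit 0x290606f3b1)))) (.node 2 (.node 1 (.leaf (nat_lit 0x290406f3c1)) (.leaf (nat_lit 0x290506f3d1))) (.node 1 (.leaf (nat_lit 0x290606f3e1)) (.leaf (nat_lit 0x290406f401))))))) (.node 16 (.node 8 (.node 4 (.node 2 (.node 1 (.leaf (nat_lit 0x290306f411)) (.leaf (nat_lit 0x290706f421))) (.node 1 (.leaf (nat_lit 0x290006f431)) (.leaf (nat_lit 0x290406f431)))) (.node 2 (.node 1 (.leaf (nat_lit 0x290306f441)) (.leaf (nat_lit 0x290006f461))) (.node 1 (.leaf (nat_lit 0x290406f461)) (.leaf (nat_lit 0x290606f4b1))))) (.node 4 (.node 2 (.node 1 (.leaf (nat_lit 0x2906070d71)) (.leaf (nat_lit 0x290406f491))) (.node 1 (.leaf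 (nat_lit 0x29050705d1)) (.leaf (nat_lit 0x2905070571)))) (.node 2 (.node 1 (.leaf (nat_lit 0x290306f4c1)) (.leaf (nat_lit 0x290706f4d1))) (.node 1 (.leaf (nat_lit 0x29040705b1)) (.leaf (nat_lit 0x290006f511)))))) (.node 8 (.node 4 (.node 2 (.node 1 (.leaf (nat_lit 0x290406f511)) (.leaf (nat_lit 0x290306f521))) (.node 1 (.leaf (nat_lit 0x2b0406f541)) (.leaf (nat_lit 0x2b0306f551)))) (.node 2 (.node 1 (.leaf (nat_lit 0x290006f571)) (.leaf (nat_lit 0x2905070721))) (.node 1 (.leaf (nat_lit 0x2905070731)) (.leaf (nat_lit 0x290006f5a1))))) (.node 4 (.node 2 (.node 1 (.leaf (nat_lit 0x290606f5d1)) (.leaf (nat_lit 0x290606f5e1))) (.node 1 (.leaf (nat_lit 0x2905070741)) (.leaf (nat_lit 0x2905070441)))) (.node 2 (.node 1 (.leaf (nat_lit 0x2b07074a51)) (.leaf (nat_lit 0x290606f641))) (.node 1 (.leaf (nat_lit 0x2906070d91)) (.leaf (nat_lit 0x2905071081)))))))) (.node 32 (.node 16 (.node 8 (.node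 4 (.node 2 (.node 1 (.leaf (nat_lit 0x290006f651)) (.leaf (nat_lit 0x290006f671))) (.node 1 (.leaf (nat_lit 0x290406f671)) (.leaf (nat_lit 0x290306f681)))) (.node 2 (.node 1 (.leaf (nat_lit 0x290406f691)) (.leaf (nat_lit 0x290306f6a1))) (.node 1 (.leaf (nat_lit 0x290706f6b1)) (.leaf (nat_lit 0x290306f6d1))))) (.node 4 (.node 2 (.node 1 (.leaf (nat_lit 0x290706f6e1)) (.leaf (nat_lit 0x290706f701))) (.node 1 (.leaf (nat_lit 0x290806f711)) (.leaf (nat_lit 0x290006f751)))) (.node 2 (.node 1 (.leaf (nat_lit 0x290006f761)) (.leaf (nat_lit 0x290406f761))) (.node 1 (.leaf (nat_lit 0x290306f771)) (.leaf (nat_lit 0x290006f791)))))) (.node 8 (.node 4 (.node 2 (.node 1 (.leaf (nat_lit 0x290406f791)) (.leaf (nat_lit 0x290306f7a1))) (.node 1 (.leaf (nat_lit 0x2b0406f7b1)) (.leaf (nat_lit 0x2b0306f7c1)))) (.node 2 (.node 1 (.leaf (nat_lit 0x2905070a01)) (.leaf (nat_lit 0x290006f7e1))) (.node 1 (.leaf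 (nat_lit 0x290406f7e1)) (.leaf (nat_lit 0x290306f7f1))))) (.node 4 (.node 2 (.node 1 (.leaf (nat_lit 0x290506f7f1)) (.leaf (nat_lit 0x290606f801))) (.node 1 (.leaf (nat_lit 0x290506f811)) (.leaf (nat_lit 0x290006f841)))) (.node 2 (.node 1 (.leaf (nat_lit 0x290006f851)) (.leaf (nat_lit 0x290406f851))) (.node 1 (.leaf (nat_lit 0x290306f861)) (.leaf (nat_lit 0x290506f861))))))) (.node 16 (.node 8 (.node 4 (.node 2 (.node 1 (.leaf (nat_lit 0x290406f881)) (.leaf (nat_lit 0x290306f891))) (.node 1 (.leaf (nat_lit 0x290506f891)) (.leaf (nat_lit 0x290506f8a1)))) (.node 2 (.node 1 (.leaf (nat_lit 0x290706f8a1)) (.leaf (nat_lit 0x290406f8d1))) (.node 1 (.leaf (nat_lit 0x290006f8e1)) (.leaf (nat_lit 0x290406f8e1))))) (.node 4 (.node 2 (.node 1 (.leaf (nat_lit 0x290006f901)) (.leaf (nat_lit 0x290006f921))) (.node 1 (.leaf (nat_lit 0x290406f921)) (.leaf (nat_lit 0x290306f931)))) (.node 2 (.node 1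 (.leaf (nat_lit 0x290506f931)) (.leaf (nat_lit 0x290606f941))) (.node 1 (.leaf (nat_lit 0x290406f951)) (.leaf (nat_lit 0x290306f961)))))) (.node 8 (.node 4 (.node 2 (.node 1 (.leaf (nat_lit 0x290506f961)) (.leaf (nat_lit 0x290506f971))) (.node 1 (.leaf (nat_lit 0x290706f971)) (.leaf (nat_lit 0x290606f981)))) (.node 2 (.node 1 (.leaf (nat_lit 0x290506f9a1)) (.leaf (nat_lit 0x290606f9b1))) (.node 1 (.leaf (nat_lit 0x290406f9d1)) (.leaf (nat_lit 0x290306f9e1))))) (.node 4 (.node 2 (.node 1 (.leaf (nat_lit 0x290706f9f1)) (.leaf (nat_lit 0x290306fa01))) (.node 1 (.leaf (nat_lit 0x290206fa11)) (.leaf (nat_lit 0x290706fa11)))) (.node 2 (.node 1 (.leaf (nat_lit 0x290806fa21)) (.leaf (nat_lit 0x290006fa41))) (.node 1 (.leaf (nat_lit 0x290406fa41)) (.leaf (nat_lit 0x290306fa51))))))))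

noncomputable def oT231 : Tree :=
  .node 64 (.node 32 (.node 16 (.node 8 (.node 4 (.node 2 (.node 1 (.leaf (nat_lit 0x2b0406fa61)) (.leaf (nat_lit 0x2b0306fa71))) (.node 1 (.leaf (nat_lit 0x290306fd51)) (.leaf (nat_lit 0x290006faa1)))) (.node 2 (.node 1 (.leaf (nat_lit 0x290006fac1)) (.leaf (nat_lit 0x290606fbc1))) (.node 1 (.leaf (nat_lit 0x290606fbd1)) (.leaf (nat_lit 0x2b0406fae1))))) (.node 4 (.node 2 (.node 1 (.leaf (nat_lit 0x290606fb31)) (.leaf (nat_lit 0x2b06075751))) (.node 1 (.leaf (nat_lit 0x290606fb41)) (.leaf (nat_lit 0x2905070a81)))) (.node 2 (.node 1 (.leaf (nat_lit 0x29050709a1)) (.leaf (nat_lit 0x29050709f1))) (.node 1 (.leaf (nat_lit 0x29050709d1)) (.leaf (nat_lit 0x290006fb61)))))) (.node 8 (.node 4 (.node 2 (.node 1 (.leaf (nat_lit 0x2905070f01)) (.leaf (nat_lit 0x29050707e1))) (.node 1 (.leaf (nat_lit 0x290706fbd1)) (.leaf (nat_lit 0x290306fbe1)))) (.node 2 (.node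 1 (.leaf (nat_lit 0x290706fbf1)) (.leaf (nat_lit 0x290806fc01))) (.node 1 (.leaf (nat_lit 0x290206fc11)) (.leaf (nat_lit 0x290706fc11))))) (.node 4 (.node 2 (.node 1 (.leaf (nat_lit 0x290706fc21)) (.leaf (nat_lit 0x290806fc31))) (.node 1 (.leaf (nat_lit 0x290606fc81)) (.leaf (nat_lit 0x290606fc91)))) (.node 2 (.node 1 (.leaf (nat_lit 0x290306fcc1)) (.leaf (nat_lit 0x290806fcc1))) (.node 1 (.leaf (nat_lit 0x290006fd01)) (.leaf (nat_lit 0x290406fd01))))))) (.node 16 (.node 8 (.node 4 (.node 2 (.node 1 (.leaf (nat_lit 0x290306fd11)) (.leaf (nat_lit 0x2b0406fd21))) (.node 1 (.leaf (nat_lit 0x2b0306fd31)) (.leaf (nat_lit 0x290406fd71)))) (.node 2 (.node 1 (.leaf (nat_lit 0x290006fd71)) (.leaf (nat_lit 0x2b070757f1))) (.node 1 (.leaf (nat_lit 0x2b07075771)) (.leaf (nat_lit 0x2b05076001))))) (.node 4 (.node 2 (.node 1 (.leaf (nat_lit 0x2b05076011)) (.leaf (nat_lit 0x2b03070f31))) (.node 1 (.leaf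 (nat_lit 0x290406fdf1)) (.leaf (nat_lit 0x290006fe11)))) (.node 2 (.node 1 (.leaf (nat_lit 0x290406fe11)) (.leaf (nat_lit 0x290306fe21))) (.node 1 (.leaf (nat_lit 0x290006fe31)) (.leaf (nat_lit 0x2b050754b1)))))) (.node 8 (.node 4 (.node 2 (.node 1 (.leaf (nat_lit 0x2b050754c1)) (.leaf (nat_lit 0x2905070831))) (.node 1 (.leaf (nat_lit 0x290006fe81)) (.leaf (nat_lit 0x290406fe81)))) (.node 2 (.node 1 (.leaf (nat_lit 0x290506fe91)) (.leaf (nat_lit 0x2b0606fef1))) (.node 1 (.leaf (nat_lit 0x290606ff01)) (.leaf (nat_lit 0x29080702b1))))) (.node 4 (.node 2 (.node 1 (.leaf (nat_lit 0x2908070381)) (.leaf (nat_lit 0x290606ff11))) (.node 1 (.leaf (nat_lit 0x2905070841)) (.leaf (nat_lit 0x2905070821)))) (.node 2 (.node 1 (.leaf (nat_lit 0x2905070801)) (.leaf (nat_lit 0x2906070241))) (.node 1 (.leaf (nat_lit 0x2906070251)) (.leaf (nat_lit 0x290606ff91)))))))) (.node 32 (.node 16 (.node 8 (.node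 4 (.node 2 (.node 1 (.leaf (nat_lit 0x2b0506ff51)) (.leaf (nat_lit 0x29030710e1))) (.node 1 (.leaf (nat_lit 0x290606ffb1)) (.leaf (nat_lit 0x290606ffc1)))) (.node 2 (.node 1 (.leaf (nat_lit 0x29050710f1)) (.leaf (nat_lit 0x2905071131))) (.node 1 (.leaf (nat_lit 0x29050710e1)) (.leaf (nat_lit 0x2905071121))))) (.node 4 (.node 2 (.node 1 (.leaf (nat_lit 0x290006ffd1)) (.leaf (nat_lit 0x290406ffe1))) (.node 1 (.leaf (nat_lit 0x290306fff1)) (.leaf (nat_lit 0x2b00070031)))) (.node 2 (.node 1 (.leaf (nat_lit 0x2b04070031)) (.leaf (nat_lit 0x2b03070041))) (.node 1 (.leaf (nat_lit 0x29040704f1)) (.leaf (nat_lit 0x2900070061)))))) (.node 8 (.node 4 (.node 2 (.node 1 (.leaf (nat_lit 0x2904070061)) (.leaf (nat_lit 0x2903070071))) (.node 1 (.leaf (nat_lit 0x2905070071)) (.leaf (nat_lit 0x2904070091)))) (.node 2 (.node 1 (.leaf (nat_lit 0x29030700a1)) (.leaf (nat_lit 0x29050700a1))) (.node 1 (.leaf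 (nat_lit 0x29050700b1)) (.leaf (nat_lit 0x29040700d1))))) (.node 4 (.node 2 (.node 1 (.leaf (nat_lit 0x29030700e1)) (.leaf (nat_lit 0x29070700f1))) (.node 1 (.leaf (nat_lit 0x2903070101)) (.leaf (nat_lit 0x2905070101)))) (.node 2 (.node 1 (.leaf (nat_lit 0x2902070111)) (.leaf (nat_lit 0x2905070111))) (.node 1 (.leaf (nat_lit 0x2907070111)) (.leaf (nat_lit 0x2904070131))))))) (.node 16 (.node 8 (.node 4 (.node 2 (.node 1 (.leaf (nat_lit 0x2908070141)) (.leaf (nat_lit 0x2903070151))) (.node 1 (.leaf (nat_lit 0x2905070171)) (.leaf (nat_lit 0x2904070191)))) (.node 2 (.node 1 (.leaf (nat_lit 0x2b040701b1)) (.leaf (nat_lit 0x29030709a1))) (.node 1 (.leaf (nat_lit 0x29050701e1)) (.leaf (nat_lit 0x2907070201))))) (.node 4 (.node 2 (.node 1 (.leaf (nat_lit 0x2908070221)) (.leaf (nat_lit 0x29050709b1))) (.node 1 (.leaf (nat_lit 0x2907070261)) (.leaf (nat_lit 0x2908070271)))) (.node 2 (.node 1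 (.leaf (nat_lit 0x2901070291)) (.leaf (nat_lit 0x2907070291))) (.node 1 (.leaf (nat_lit 0x29080702a1)) (.leaf (nat_lit 0x29030702b1)))))) (.node 8 (.node 4 (.node 2 (.node 1 (.leaf (nat_lit 0x29070702d1)) (.leaf (nat_lit 0x29060702f1))) (.node 1 (.leaf (nat_lit 0x2902070301)) (.leaf (nat_lit 0x29050710c1)))) (.node 2 (.node 1 (.leaf (nat_lit 0x29050704c1)) (.leaf (nat_lit 0x2907070361))) (.node 1 (.leaf (nat_lit 0x2903070371)) (.leaf (nat_lit 0x2904070381))))) (.node 4 (.node 2 (.node 1 (.leaf (nat_lit 0x29040703b1)) (.leaf (nat_lit 0x29040703d1))) (.node 1 (.leaf (nat_lit 0x29030703e1)) (.leaf (nat_lit 0x2904070401)))) (.node 2 (.node 1 (.leaf (nat_lit 0x2904070431)) (.leaf (nat_lit 0x2904070471))) (.node 1 (.leaf (nat_lit 0x2903070481)) (.leaf (nat_lit 0x29000704b1))))))))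

noncomputable def oT232 : Tree :=
  .node 64 (.node 32 (.node 16 (.node 8 (.node 4 (.node 2 (.node 1 (.leaf (nat_lit 0x29020704e1)) (.leaf (nat_lit 0x29030706a1))) (.node 1 (.leaf (nat_lit 0x29050704e1)) (.leaf (nat_lit 0x2b04070501)))) (.node 2 (.node 1 (.leaf (nat_lit 0x2b03070511)) (.leaf (nat_lit 0x2905070d31))) (.node 1 (.leaf (nat_lit 0x2b020705e1)) (.leaf (nat_lit 0x29030710c1))))) (.node 4 (.node 2 (.node 1 (.leaf (nat_lit 0x2900070561)) (.leaf (nat_lit 0x2904070561))) (.node 1 (.leaf (nat_lit 0x2903070571)) (.leaf (nat_lit 0x2903071411)))) (.node 2 (.node 1 (.leaf (nat_lit 0x29070705f1)) (.leaf (nat_lit 0x2905070631))) (.node 1 (.leaf (nat_lit 0x29040705c1)) (.leaf (nat_lit 0x2903071381)))))) (.node 8 (.node 4 (.node 2 (.node 1 (.leaf (nat_lit 0x2903071391)) (.leaf (nat_lit 0x2904070611))) (.node 1 (.leaf (nat_lit 0x2903070621)) (.leaf (nat_lit 0x2905070621)))) (.node 2 (.node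 1 (.leaf (nat_lit 0x2905070651)) (.leaf (nat_lit 0x2904070671))) (.node 1 (.leaf (nat_lit 0x2903070681)) (.leaf (nat_lit 0x29050706a1))))) (.node 4 (.node 2 (.node 1 (.leaf (nat_lit 0x29040706e1)) (.leaf (nat_lit 0x29030706f1))) (.node 1 (.leaf (nat_lit 0x2904070711)) (.leaf (nat_lit 0x2903070721)))) (.node 2 (.node 1 (.leaf (nat_lit 0x2900070751)) (.leaf (nat_lit 0x2907070791))) (.node 1 (.leaf (nat_lit 0x29070708d1)) (.leaf (nat_lit 0x29070707a1))))))) (.node 16 (.node 8 (.node 4 (.node 2 (.node 1 (.leaf (nat_lit 0x2903070bd1)) (.leaf (nat_lit 0x2905070791))) (.node 1 (.leaf (nat_lit 0x29000707b1)) (.leaf (nat_lit 0x29070707e1)))) (.node 2 (.node 1 (.leaf (nat_lit 0x2907070e61)) (.leaf (nat_lit 0x2903070f01))) (.node 1 (.leaf (nat_lit 0x29000707f1)) (.leaf (nat_lit 0x29040707f1))))) (.node 4 (.node 2 (.node 1 (.leaf (nat_lit 0x2903070801)) (.leaf (nat_lit 0x2904070811))) (.node 1 (.leaf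 (nat_lit 0x2903070821)) (.leaf (nat_lit 0x2904070851)))) (.node 2 (.node 1 (.leaf (nat_lit 0x2903070861)) (.leaf (nat_lit 0x29040708b1))) (.node 1 (.leaf (nat_lit 0x29030708c1)) (.leaf (nat_lit 0x29030708e1)))))) (.node 8 (.node 4 (.node 2 (.node 1 (.leaf (nat_lit 0x29020708f1)) (.leaf (nat_lit 0x2b04070901))) (.node 1 (.leaf (nat_lit 0x2b03070911)) (.leaf (nat_lit 0x2904070951)))) (.node 2 (.node 1 (.leaf (nat_lit 0x2905070941)) (.leaf (nat_lit 0x2b03070961))) (.node 1 (.leaf (nat_lit 0x2b02070971)) (.leaf (nat_lit 0x2b07070971))))) (.node 4 (.node 2 (.node 1 (.leaf (nat_lit 0x2b05075721)) (.leaf (nat_lit 0x2904070991))) (.node 1 (.leaf (nat_lit 0x29000709c1)) (.leaf (nat_lit 0x29040709c1)))) (.node 2 (.node 1 (.leaf (nat_lit 0x29030709d1)) (.leaf (nat_lit 0x29040709e1))) (.node 1 (.leaf (nat_lit 0x29030709f1)) (.leaf (nat_lit 0x2b03074f31)))))))) (.node 32 (.node 16 (.node 8 (.node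 4 (.node 2 (.node 1 (.leaf (nat_lit 0x2b05070a21)) (.leaf (nat_lit 0x2b06070a31))) (.node 1 (.leaf (nat_lit 0x2b05070a51)) (.leaf (nat_lit 0x2b06070a61)))) (.node 2 (.node 1 (.leaf (nat_lit 0x2b06070a91)) (.leaf (nat_lit 0x2904070ab1))) (.node 1 (.leaf (nat_lit 0x2904070ad1)) (.leaf (nat_lit 0x2903070ae1))))) (.node 4 (.node 2 (.node 1 (.leaf (nat_lit 0x2904070b01)) (.leaf (nat_lit 0x2904070b51))) (.node 1 (.leaf (nat_lit 0x2903070b61)) (.leaf (nat_lit 0x2904070b81)))) (.node 2 (.node 1 (.leaf (nat_lit 0x2903070b91)) (.leaf (nat_lit 0x2903070bb1))) (.node 1 (.leaf (nat_lit 0x2902070bc1)) (.leaf (nat_lit 0x2905070bd1)))))) (.node 8 (.node 4 (.node 2 (.node 1 (.leaf (nat_lit 0x2b04070c01)) (.leaf (nat_lit 0x2905070c31))) (.node 1 (.leaf (nat_lit 0x2900070c51)) (.leaf (nat_lit 0x2904070c51)))) (.node 2 (.node 1 (.leaf (nat_lit 0x2903070c61)) (.leaf (nat_lit 0x2905070c61))) (.node 1 (.leaf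 (nat_lit 0x2904070c81)) (.leaf (nat_lit 0x2903070c91))))) (.node 4 (.node 2 (.node 1 (.leaf (nat_lit 0x2905070c91)) (.leaf (nat_lit 0x2905070cc1))) (.node 1 (.leaf (nat_lit 0x2900070ce1)) (.leaf (nat_lit 0x2904070ce1)))) (.node 2 (.node 1 (.leaf (nat_lit 0x2903070cf1)) (.leaf (nat_lit 0x2905070cf1))) (.node 1 (.leaf (nat_lit 0x2904070d11)) (.leaf (nat_lit 0x2903070d21))))))) (.node 16 (.node 8 (.node 4 (.node 2 (.node 1 (.leaf (nat_lit 0x2905070d21)) (.leaf (nat_lit 0x2904070d51))) (.node 1 (.leaf (nat_lit 0x2905070d61)) (.leaf (nat_lit 0x2905070d81)))) (.node 2 (.node 1 (.leaf (nat_lit 0x2905070da1)) (.leaf (nat_lit 0x2906070dc1))) (.node 1 (.leaf (nat_lit 0x2904070de1)) (.leaf (nat_lit 0x2903070df1))))) (.node 4 (.node 2 (.node 1 (.leaf (nat_lit 0x2904070e41)) (.leaf (nat_lit 0x2903070e51))) (.node 1 (.leaf (nat_lit 0x2903070e71)) (.leaf (nat_lit 0x2902070e81)))) (.node 2 (.node 1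 (.leaf (nat_lit 0x2b04070f21)) (.leaf (nat_lit 0x2b04070f41))) (.node 1 (.leaf (nat_lit 0x2b03070f51)) (.leaf (nat_lit 0x2904070f71)))))) (.node 8 (.node 4 (.node 2 (.node 1 (.leaf (nat_lit 0x2903070f81)) (.leaf (nat_lit 0x2b03070fa1))) (.node 1 (.leaf (nat_lit 0x2b02070fb1)) (.leaf (nat_lit 0x2b04070fc1)))) (.node 2 (.node 1 (.leaf (nat_lit 0x2b04070fe1)) (.leaf (nat_lit 0x2b03070ff1))) (.node 1 (.leaf (nat_lit 0x2904071021)) (.leaf (nat_lit 0x2903071031))))) (.node 4 (.node 2 (.node 1 (.leaf (nat_lit 0x2903071061)) (.leaf (nat_lit 0x2902071071))) (.node 1 (.leaf (nat_lit 0x2b03071091)) (.leaf (nat_lit 0x2b020710a1)))) (.node 2 (.node 1 (.leaf (nat_lit 0x29040710b1)) (.leaf (nat_lit 0x29040710d1))) (.node 1 (.leaf (nat_lit 0x29030710f1)) (.leaf (nat_lit 0x2904071111))))))))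

noncomputable def oT233 : Tree :=
  .node 64 (.node 32 (.node 16 (.node 8 (.node 4 (.node 2 (.node 1 (.leaf (nat_lit 0x2b04071141)) (.leaf (nat_lit 0x2b03071151))) (.node 1 (.leaf (nat_lit 0x2b03071171)) (.leaf (nat_lit 0x2b02071181)))) (.node 2 (.node 1 (.leaf (nat_lit 0x2904071191)) (.leaf (nat_lit 0x29040711b1))) (.node 1 (.leaf (nat_lit 0x29030711c1)) (.leaf (nat_lit 0x29070711d1))))) (.node 4 (.node 2 (.node 1 (.leaf (nat_lit 0x29030711e1)) (.leaf (nat_lit 0x29070711f1))) (.node 1 (.leaf (nat_lit 0x2908071201)) (.leaf (nat_lit 0x2900071211)))) (.node 2 (.node 1 (.leaf (nat_lit 0x2904071211)) (.leaf (nat_lit 0x2903071221))) (.node 1 (.leaf (nat_lit 0x2904071241)) (.leaf (nat_lit 0x2903071251)))))) (.node 8 (.node 4 (.node 2 (.node 1 (.leaf (nat_lit 0x2904071271)) (.leaf (nat_lit 0x2903071281))) (.node 1 (.leaf (nat_lit 0x29030712a1)) (.leaf (nat_lit 0x29020712b1)))) (.node 2 (.node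 1 (.leaf (nat_lit 0x2903071421)) (.leaf (nat_lit 0x2b030712f1))) (.node 1 (.leaf (nat_lit 0x2b02071301)) (.leaf (nat_lit 0x2b03071311))))) (.node 4 (.node 2 (.node 1 (.leaf (nat_lit 0x2b02071321)) (.leaf (nat_lit 0x2d02071331))) (.node 1 (.leaf (nat_lit 0x2b03075811)) (.leaf (nat_lit 0x2b02071351)))) (.node 2 (.node 1 (.leaf (nat_lit 0x2905071431)) (.leaf (nat_lit 0x29040713a1))) (.node 1 (.leaf (nat_lit 0x29070713c1)) (.leaf (nat_lit 0x29080713d1))))))) (.node 16 (.node 8 (.node 4 (.node 2 (.node 1 (.leaf (nat_lit 0x29040713f1)) (.leaf (nat_lit 0x2a04071441))) (.node 1 (.leaf (nat_lit 0x2a03071481)) (.leaf (nat_lit 0x2a07071491)))) (.node 2 (.node 1 (.leaf (nat_lit 0x2a080714a1)) (.leaf (nat_lit 0x2a020714f1))) (.node 1 (.leaf (nat_lit 0x2a070714f1)) (.leaf (nat_lit 0x2a08071511))))) (.node 4 (.node 2 (.node 1 (.leaf (nat_lit 0x2a00071531)) (.leaf (nat_lit 0x2a04071531))) (.node 1 (.leaf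 (nat_lit 0x2a03071541)) (.leaf (nat_lit 0x2a00071561)))) (.node 2 (.node 1 (.leaf (nat_lit 0x2a04071561)) (.leaf (nat_lit 0x2a03071571))) (.node 1 (.leaf (nat_lit 0x2a05071571)) (.leaf (nat_lit 0x2a06071581)))))) (.node 8 (.node 4 (.node 2 (.node 1 (.leaf (nat_lit 0x2a05071591)) (.leaf (nat_lit 0x2a000715c1))) (.node 1 (.leaf (nat_lit 0x2a040715c1)) (.leaf (nat_lit 0x2a030715d1)))) (.node 2 (.node 1 (.leaf (nat_lit 0x2a050715d1)) (.leaf (nat_lit 0x2a060715e1))) (.node 1 (.leaf (nat_lit 0x2a000715f1)) (.leaf (nat_lit 0x2a040715f1))))) (.node 4 (.node 2 (.node 1 (.leaf (nat_lit 0x2a03071601)) (.leaf (nat_lit 0x2a05071601))) (.node 1 (.leaf (nat_lit 0x2a06071611)) (.leaf (nat_lit 0x2a04071621)))) (.node 2 (.node 1 (.leaf (nat_lit 0x2a05071631)) (.leaf (nat_lit 0x2a06071641))) (.node 1 (.leaf (nat_lit 0x2a04071661)) (.leaf (nat_lit 0x2a03071671)))))))) (.node 32 (.node 16 (.node 8 (.node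 4 (.node 2 (.node 1 (.leaf (nat_lit 0x2a07071681)) (.leaf (nat_lit 0x2a000716a1))) (.node 1 (.leaf (nat_lit 0x2a040716a1)) (.leaf (nat_lit 0x2a030716b1)))) (.node 2 (.node 1 (.leaf (nat_lit 0x2a050716b1)) (.leaf (nat_lit 0x2a07071701))) (.node 1 (.leaf (nat_lit 0x2a03071fe1)) (.leaf (nat_lit 0x2a03071ff1))))) (.node 4 (.node 2 (.node 1 (.leaf (nat_lit 0x2a03071df1)) (.leaf (nat_lit 0x2a00071711))) (.node 1 (.leaf (nat_lit 0x2a04071711)) (.leaf (nat_lit 0x2a03071721)))) (.node 2 (.node 1 (.leaf (nat_lit 0x2a05071721)) (.leaf (nat_lit 0x2a04071741))) (.node 1 (.leaf (nat_lit 0x2a05072041)) (.leaf (nat_lit 0x2a05072051)))))) (.node 8 (.node 4 (.node 2 (.node 1 (.leaf (nat_lit 0x2a00071771)) (.leaf (nat_lit 0x2a04071771))) (.node 1 (.leaf (nat_lit 0x2a03071781)) (.leaf (nat_lit 0x2a05071781)))) (.node 2 (.node 1 (.leaf (nat_lit 0x2a040717a1)) (.leaf (nat_lit 0x2a030717b1))) (.node 1 (.leaf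 (nat_lit 0x2a050717b1)) (.leaf (nat_lit 0x2a050717c1))))) (.node 4 (.node 2 (.node 1 (.leaf (nat_lit 0x2a050717e1)) (.leaf (nat_lit 0x2a03071801))) (.node 1 (.leaf (nat_lit 0x2a07071811)) (.leaf (nat_lit 0x2a08071821)))) (.node 2 (.node 1 (.leaf (nat_lit 0x2a07071831)) (.leaf (nat_lit 0x2a04071861))) (.node 1 (.leaf (nat_lit 0x2a05073671)) (.leaf (nat_lit 0x2a03073671))))))) (.node 16 (.node 8 (.node 4 (.node 2 (.node 1 (.leaf (nat_lit 0x2a040718d1)) (.leaf (nat_lit 0x2a03072261))) (.node 1 (.leaf (nat_lit 0x2a03072271)) (.leaf (nat_lit 0x2a040718e1)))) (.node 2 (.node 1 (.leaf (nat_lit 0x2a030718f1)) (.leaf (nat_lit 0x2a07072861))) (.node 1 (.leaf (nat_lit 0x2a050722c1)) (.leaf (nat_lit 0x2a00071941))))) (.node 4 (.node 2 (.node 1 (.leaf (nat_lit 0x2a04071941)) (.leaf (nat_lit 0x2a04071961))) (.node 1 (.leaf (nat_lit 0x2a00071991)) (.leaf (nat_lit 0x2a04071991)))) (.node 2 (.node 1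 (.leaf (nat_lit 0x2a030719a1)) (.leaf (nat_lit 0x2a050719a1))) (.node 1 (.leaf (nat_lit 0x2a040719c1)) (.leaf (nat_lit 0x2a030719d1)))))) (.node 8 (.node 4 (.node 2 (.node 1 (.leaf (nat_lit 0x2a050719d1)) (.leaf (nat_lit 0x2a050719e1))) (.node 1 (.leaf (nat_lit 0x2a070719e1)) (.leaf (nat_lit 0x2a04071a01)))) (.node 2 (.node 1 (.leaf (nat_lit 0x2a05071a11)) (.leaf (nat_lit 0x2a06071a21))) (.node 1 (.leaf (nat_lit 0x2a05071a41)) (.leaf (nat_lit 0x2a06071a51))))) (.node 4 (.node 2 (.node 1 (.leaf (nat_lit 0x2a03071a71)) (.leaf (nat_lit 0x2a05071a71))) (.node 1 (.leaf (nat_lit 0x2a07071a81)) (.leaf (nat_lit 0x2a08071aa1)))) (.node 2 (.node 1 (.leaf (nat_lit 0x2a06071ab1)) (.leaf (nat_lit 0x2a07071ad1))) (.node 1 (.leaf (nat_lit 0x2a08071ae1)) (.leaf (nat_lit 0x2a00071b21))))))))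

noncomputable def oT234 : Tree :=
  .node 64 (.node 32 (.node 16 (.node 8 (.node 4 (.node 2 (.node 1 (.leaf (nat_lit 0x2a00071b31)) (.leaf (nat_lit 0x2a04071b31))) (.node 1 (.leaf (nat_lit 0x2a03071b41)) (.leaf (nat_lit 0x2a04071b61)))) (.node 2 (.node 1 (.leaf (nat_lit 0x2a04071b81)) (.leaf (nat_lit 0x2a03071b91))) (.node 1 (.leaf (nat_lit 0x2a04071bd1)) (.leaf (nat_lit 0x2a03071be1))))) (.node 4 (.node 2 (.node 1 (.leaf (nat_lit 0x2a04071c01)) (.leaf (nat_lit 0x2a03071c11))) (.node 1 (.leaf (nat_lit 0x2a04071c51)) (.leaf (nat_lit 0x2a03071c61)))) (.node 2 (.node 1 (.leaf (nat_lit 0x2a05072d91)) (.leaf (nat_lit 0x2a04071c81))) (.node 1 (.leaf (nat_lit 0x2a00071cb1)) (.leaf (nat_lit 0x2a04071cb1)))))) (.node 8 (.node 4 (.node 2 (.node 1 (.leaf (nat_lit 0x2a05071cc1)) (.leaf (nat_lit 0x2a00071ce1))) (.node 1 (.leaf (nat_lit 0x2a04071ce1)) (.leaf (nat_lit 0x2a03071cf1)))) (.node 2 (.node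 1 (.leaf (nat_lit 0x2a04072ef1)) (.leaf (nat_lit 0x2a07071d71))) (.node 1 (.leaf (nat_lit 0x2a07073e11)) (.leaf (nat_lit 0x2a07072ed1))))) (.node 4 (.node 2 (.node 1 (.leaf (nat_lit 0x2a07072c01)) (.leaf (nat_lit 0x2a07072ef1))) (.node 1 (.leaf (nat_lit 0x2a04071d71)) (.leaf (nat_lit 0x2a03074a01)))) (.node 2 (.node 1 (.leaf (nat_lit 0x2a080740c1)) (.leaf (nat_lit 0x2a05071e21))) (.node 1 (.leaf (nat_lit 0x2a00071d81)) (.leaf (nat_lit 0x2a04071d81))))))) (.node 16 (.node 8 (.node 4 (.node 2 (.node 1 (.leaf (nat_lit 0x2a03071d91)) (.leaf (nat_lit 0x2a05071d91))) (.node 1 (.leaf (nat_lit 0x2a04071db1)) (.leaf (nat_lit 0x2a03071dc1)))) (.node 2 (.node 1 (.leaf (nat_lit 0x2a03072051)) (.leaf (nat_lit 0x2a00071de1))) (.node 1 (.leaf (nat_lit 0x2a04071de1)) (.leaf (nat_lit 0x2a04071e01))))) (.node 4 (.node 2 (.node 1 (.leaf (nat_lit 0x2a03071e11)) (.leaf (nat_lit 0x2a05071e11))) (.node 1 (.leaf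 (nat_lit 0x2a07071e21)) (.leaf (nat_lit 0x2a04071e51)))) (.node 2 (.node 1 (.leaf (nat_lit 0x2a03071e61)) (.leaf (nat_lit 0x2a05071e61))) (.node 1 (.leaf (nat_lit 0x2a05071e71)) (.leaf (nat_lit 0x2a04071e91)))))) (.node 8 (.node 4 (.node 2 (.node 1 (.leaf (nat_lit 0x2a03071ea1)) (.leaf (nat_lit 0x2a05071ea1))) (.node 1 (.leaf (nat_lit 0x2a05071eb1)) (.leaf (nat_lit 0x2a07071eb1)))) (.node 2 (.node 1 (.leaf (nat_lit 0x2a05071ed1)) (.leaf (nat_lit 0x2a06071ee1))) (.node 1 (.leaf (nat_lit 0x2a03071f01)) (.leaf (nat_lit 0x2a02071f11))))) (.node 4 (.node 2 (.node 1 (.leaf (nat_lit 0x2a07071f11)) (.leaf (nat_lit 0x2a08071f21))) (.node 1 (.leaf (nat_lit 0x2a00071f31)) (.leaf (nat_lit 0x2a04071f31)))) (.node 2 (.node 1 (.leaf (nat_lit 0x2a03071f41)) (.leaf (nat_lit 0x2a05071f41))) (.node 1 (.leaf (nat_lit 0x2a05074681)) (.leaf (nat_lit 0x2a05074691)))))))) (.node 32 (.node 16 (.node 8 (.node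 4 (.node 2 (.node 1 (.leaf (nat_lit 0x2a07071f81)) (.leaf (nat_lit 0x2a04071f91))) (.node 1 (.leaf (nat_lit 0x2a05073d71)) (.leaf (nat_lit 0x2a05073d81)))) (.node 2 (.node 1 (.leaf (nat_lit 0x2a040738f1)) (.leaf (nat_lit 0x2a04072001))) (.node 1 (.leaf (nat_lit 0x2a05072011)) (.leaf (nat_lit 0x2a04073681))))) (.node 4 (.node 2 (.node 1 (.leaf (nat_lit 0x2a040729f1)) (.leaf (nat_lit 0x2a04072061))) (.node 1 (.leaf (nat_lit 0x2a03072071)) (.leaf (nat_lit 0x2a040720b1)))) (.node 2 (.node 1 (.leaf (nat_lit 0x2a030720c1)) (.leaf (nat_lit 0x2a030720e1))) (.node 1 (.leaf (nat_lit 0x2a050720e1)) (.leaf (nat_lit 0x2a020720f1)))))) (.node 8 (.node 4 (.node 2 (.node 1 (.leaf (nat_lit 0x2a050720f1)) (.leaf (nat_lit 0x2a04072111))) (.node 1 (.leaf (nat_lit 0x2a04072131)) (.leaf (nat_lit 0x2a07072161)))) (.node 2 (.node 1 (.leaf (nat_lit 0x2a08072171)) (.leaf (nat_lit 0x2a00072191))) (.node 1 (.leaf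 (nat_lit 0x2a04072191)) (.leaf (nat_lit 0x2a030721a1))))) (.node 4 (.node 2 (.node 1 (.leaf (nat_lit 0x2a040721b1)) (.leaf (nat_lit 0x2a030721c1))) (.node 1 (.leaf (nat_lit 0x2a050721c1)) (.leaf (nat_lit 0x2a050721d1)))) (.node 2 (.node 1 (.leaf (nat_lit 0x2a070721d1)) (.leaf (nat_lit 0x2a050746a1))) (.node 1 (.leaf (nat_lit 0x2a050746b1)) (.leaf (nat_lit 0x2a05074571))))))) (.node 16 (.node 8 (.node 4 (.node 2 (.node 1 (.leaf (nat_lit 0x2a05074541)) (.leaf (nat_lit 0x2a05072321))) (.node 1 (.leaf (nat_lit 0x2a040722e1)) (.leaf (nat_lit 0x2a070723a1)))) (.node 2 (.node 1 (.leaf (nat_lit 0x2a07072621)) (.leaf (nat_lit 0x2a050722a1))) (.node 1 (.leaf (nat_lit 0x2a040735b1)) (.leaf (nat_lit 0x2a04072301))))) (.node 4 (.node 2 (.node 1 (.leaf (nat_lit 0x2a06072351)) (.leaf (nat_lit 0x2a080723b1))) (.node 1 (.leaf (nat_lit 0x2a040723f1)) (.leaf (nat_lit 0x2a04072411)))) (.node 2 (.node 1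 (.leaf (nat_lit 0x2a00072461)) (.leaf (nat_lit 0x2a04072461))) (.node 1 (.leaf (nat_lit 0x2a03072471)) (.leaf (nat_lit 0x2a05072471)))))) (.node 8 (.node 4 (.node 2 (.node 1 (.leaf (nat_lit 0x2a00072491)) (.leaf (nat_lit 0x2a04072491))) (.node 1 (.leaf (nat_lit 0x2a030724a1)) (.leaf (nat_lit 0x2a050724a1)))) (.node 2 (.node 1 (.leaf (nat_lit 0x2a040724c1)) (.leaf (nat_lit 0x2a050724d1))) (.node 1 (.leaf (nat_lit 0x2a040724f1)) (.leaf (nat_lit 0x2a03072501))))) (.node 4 (.node 2 (.node 1 (.leaf (nat_lit 0x2a04072521)) (.leaf (nat_lit 0x2a04072541))) (.node 1 (.leaf (nat_lit 0x2a03072551)) (.leaf (nat_lit 0x2a05072551)))) (.node 2 (.node 1 (.leaf (nat_lit 0x2a05072561)) (.leaf (nat_lit 0x2a05072581))) (.node 1 (.leaf (nat_lit 0x2a040725a1)) (.leaf (nat_lit 0x2a030725c1))))))))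

noncomputable def oT235 : Tree :=
  .node 64 (.node 32 (.node 16 (.node 8 (.node 4 (.node 2 (.node 1 (.leaf (nat_lit 0x2a00072631)) (.leaf (nat_lit 0x2a04072651))) (.node 1 (.leaf (nat_lit 0x2a00072691)) (.leaf (nat_lit 0x2a04072691)))) (.node 2 (.node 1 (.leaf (nat_lit 0x2a030726a1)) (.leaf (nat_lit 0x2a050726a1))) (.node 1 (.leaf (nat_lit 0x2a060726b1)) (.leaf (nat_lit 0x2a000726c1))))) (.node 4 (.node 2 (.node 1 (.leaf (nat_lit 0x2a040726c1)) (.leaf (nat_lit 0x2a030726d1))) (.node 1 (.leaf (nat_lit 0x2a050726d1)) (.leaf (nat_lit 0x2a060726e1)))) (.node 2 (.node 1 (.leaf (nat_lit 0x2a040726f1)) (.leaf (nat_lit 0x2a05072701))) (.node 1 (.leaf (nat_lit 0x2a06072711)) (.leaf (nat_lit 0x2a04072731)))))) (.node 8 (.node 4 (.node 2 (.node 1 (.leaf (nat_lit 0x2a03072741)) (.leaf (nat_lit 0x2a07072751))) (.node 1 (.leaf (nat_lit 0x2a04072771)) (.leaf (nat_lit 0x2a04072791)))) (.node 2 (.node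 1 (.leaf (nat_lit 0x2a030727a1)) (.leaf (nat_lit 0x2a050727a1))) (.node 1 (.leaf (nat_lit 0x2a050727b1)) (.leaf (nat_lit 0x2a050727e1))))) (.node 4 (.node 2 (.node 1 (.leaf (nat_lit 0x2a03072801)) (.leaf (nat_lit 0x2a07072811))) (.node 1 (.leaf (nat_lit 0x2a08072821)) (.leaf (nat_lit 0x2a03072851)))) (.node 2 (.node 1 (.leaf (nat_lit 0x2a05072851)) (.leaf (nat_lit 0x2a03072881))) (.node 1 (.leaf (nat_lit 0x2a05072881)) (.leaf (nat_lit 0x2a07072891))))))) (.node 16 (.node 8 (.node 4 (.node 2 (.node 1 (.leaf (nat_lit 0x2a080728b1)) (.leaf (nat_lit 0x2a070728d1))) (.node 1 (.leaf (nat_lit 0x2a080728e1)) (.leaf (nat_lit 0x2a00072911)))) (.node 2 (.node 1 (.leaf (nat_lit 0x2a00072921)) (.leaf (nat_lit 0x2a06073351))) (.node 1 (.leaf (nat_lit 0x2a06073361)) (.leaf (nat_lit 0x2a04072951))))) (.node 4 (.node 2 (.node 1 (.leaf (nat_lit 0x2a03072961)) (.leaf (nat_lit 0x2a04072981))) (.node 1 (.leaf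 (nat_lit 0x2a03072991)) (.leaf (nat_lit 0x2a05072991)))) (.node 2 (.node 1 (.leaf (nat_lit 0x2a050729a1)) (.leaf (nat_lit 0x2a070729a1))) (.node 1 (.leaf (nat_lit 0x2a060729b1)) (.leaf (nat_lit 0x2a000729f1)))))) (.node 8 (.node 4 (.node 2 (.node 1 (.leaf (nat_lit 0x2a04072a01)) (.leaf (nat_lit 0x2a03072a11))) (.node 1 (.leaf (nat_lit 0x2a05072a11)) (.leaf (nat_lit 0x2a05072a21)))) (.node 2 (.node 1 (.leaf (nat_lit 0x2a06072a31)) (.leaf (nat_lit 0x2a04072a51))) (.node 1 (.leaf (nat_lit 0x2a03072a61)) (.leaf (nat_lit 0x2a05072a61))))) (.node 4 (.node 2 (.node 1 (.leaf (nat_lit 0x2a05072a71)) (.leaf (nat_lit 0x2a07072a71))) (.node 1 (.leaf (nat_lit 0x2a06072a81)) (.leaf (nat_lit 0x2a05072aa1)))) (.node 2 (.node 1 (.leaf (nat_lit 0x2a06072ab1)) (.leaf (nat_lit 0x2a06072ef1))) (.node 1 (.leaf (nat_lit 0x2a03072ae1)) (.leaf (nat_lit 0x2a02072af1)))))))) (.node 32 (.node 16 (.node 8 (.node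 4 (.node 2 (.node 1 (.leaf (nat_lit 0x2a07072af1)) (.leaf (nat_lit 0x2a08072b01))) (.node 1 (.leaf (nat_lit 0x2a00072b11)) (.leaf (nat_lit 0x2a04072b11)))) (.node 2 (.node 1 (.leaf (nat_lit 0x2a04072b31)) (.leaf (nat_lit 0x2a03072b41))) (.node 1 (.leaf (nat_lit 0x2a04072b81)) (.leaf (nat_lit 0x2a03072b91))))) (.node 4 (.node 2 (.node 1 (.leaf (nat_lit 0x2a05072b91)) (.leaf (nat_lit 0x2a05072bc1))) (.node 1 (.leaf (nat_lit 0x2a04072be1)) (.leaf (nat_lit 0x2a03072bf1)))) (.node 2 (.node 1 (.leaf (nat_lit 0x2a05072bf1)) (.leaf (nat_lit 0x2a05072c01))) (.node 1 (.leaf (nat_lit 0x2a03072c21)) (.leaf (nat_lit 0x2a05072c21)))))) (.node 8 (.node 4 (.node 2 (.node 1 (.leaf (nat_lit 0x2a02072c31)) (.leaf (nat_lit 0x2a05072c31))) (.node 1 (.leaf (nat_lit 0x2a04072c51)) (.leaf (nat_lit 0x2a07072c91)))) (.node 2 (.node 1 (.leaf (nat_lit 0x2a08072ca1)) (.leaf (nat_lit 0x2a00072cd1))) (.node 1 (.leaf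 (nat_lit 0x2a04072cd1)) (.leaf (nat_lit 0x2a04072cf1))))) (.node 4 (.node 2 (.node 1 (.leaf (nat_lit 0x2a03072d01)) (.leaf (nat_lit 0x2a04072d21))) (.node 1 (.leaf (nat_lit 0x2a04072d71)) (.leaf (nat_lit 0x2a03072d81)))) (.node 2 (.node 1 (.leaf (nat_lit 0x2a05072d81)) (.leaf (nat_lit 0x2a04072db1))) (.node 1 (.leaf (nat_lit 0x2a05072dc1)) (.leaf (nat_lit 0x2a05072de1))))))) (.node 16 (.node 8 (.node 4 (.node 2 (.node 1 (.leaf (nat_lit 0x2a05072e01)) (.leaf (nat_lit 0x2a04072e31))) (.node 1 (.leaf (nat_lit 0x2a03072e41)) (.leaf (nat_lit 0x2a05072e41)))) (.node 2 (.node 1 (.leaf (nat_lit 0x2a05072e51)) (.leaf (nat_lit 0x2a07072e51))) (.node 1 (.leaf (nat_lit 0x2a03072e71)) (.leaf (nat_lit 0x2a05072e71))))) (.node 4 (.node 2 (.node 1 (.leaf (nat_lit 0x2a02072e81)) (.leaf (nat_lit 0x2a05072e81))) (.node 1 (.leaf (nat_lit 0x2a07072e81)) (.leaf (nat_lit 0x2a04072ea1)))) (.node 2 (.node 1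 (.leaf (nat_lit 0x2a08072eb1)) (.leaf (nat_lit 0x2a03072ec1))) (.node 1 (.leaf (nat_lit 0x2a05072ec1)) (.leaf (nat_lit 0x2a05072ed1)))))) (.node 8 (.node 4 (.node 2 (.node 1 (.leaf (nat_lit 0x2a06072ee1)) (.leaf (nat_lit 0x2a05072f11))) (.node 1 (.leaf (nat_lit 0x2a06072f21)) (.leaf (nat_lit 0x2a04072f31)))) (.node 2 (.node 1 (.leaf (nat_lit 0x2a06072f31)) (.leaf (nat_lit 0x2a06072f51))) (.node 1 (.leaf (nat_lit 0x2a07072f81)) (.leaf (nat_lit 0x2a08072fa1))))) (.node 4 (.node 2 (.node 1 (.leaf (nat_lit 0x2a08072fd1)) (.leaf (nat_lit 0x2a04073011))) (.node 1 (.leaf (nat_lit 0x2a03073021)) (.leaf (nat_lit 0x2a05073041)))) (.node 2 (.node 1 (.leaf (nat_lit 0x2a03073061)) (.leaf (nat_lit 0x2a02073071))) (.node 1 (.leaf (nat_lit 0x2a04073081)) (.leaf (nat_lit 0x2a03073091))))))))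

noncomputable def oT236 : Tree :=
  .node 64 (.node 32 (.node 16 (.node 8 (.node 4 (.node 2 (.node 1 (.leaf (nat_lit 0x2a030730c1)) (.leaf (nat_lit 0x2a020730d1))) (.node 1 (.leaf (nat_lit 0x2a080730f1)) (.leaf (nat_lit 0x2a03073121)))) (.node 2 (.node 1 (.leaf (nat_lit 0x2a02073131)) (.leaf (nat_lit 0x2a04073141))) (.node 1 (.leaf (nat_lit 0x2a03073151)) (.leaf (nat_lit 0x2a04073d61))))) (.node 4 (.node 2 (.node 1 (.leaf (nat_lit 0x2a04073171)) (.leaf (nat_lit 0x2a03073181))) (.node 1 (.leaf (nat_lit 0x2a05073181)) (.leaf (nat_lit 0x2a05073191)))) (.node 2 (.node 1 (.leaf (nat_lit 0x2a07073191)) (.leaf (nat_lit 0x2a060731a1))) (.node 1 (.leaf (nat_lit 0x2a050731c1)) (.leaf (nat_lit 0x2a060731d1)))))) (.node 8 (.node 4 (.node 2 (.node 1 (.leaf (nat_lit 0x2a030731f1)) (.leaf (nat_lit 0x2a02073201))) (.node 1 (.leaf (nat_lit 0x2a07073201)) (.leaf (nat_lit 0x2a04073221)))) (.node 2 (.node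 1 (.leaf (nat_lit 0x2a03073231)) (.leaf (nat_lit 0x2a04073251))) (.node 1 (.leaf (nat_lit 0x2a060732a1)) (.leaf (nat_lit 0x2a06074621))))) (.node 4 (.node 2 (.node 1 (.leaf (nat_lit 0x2a040740d1)) (.leaf (nat_lit 0x2a050740e1))) (.node 1 (.leaf (nat_lit 0x2a05074091)) (.leaf (nat_lit 0x2a070732c1)))) (.node 2 (.node 1 (.leaf (nat_lit 0x2a040732f1)) (.leaf (nat_lit 0x2a03073301))) (.node 1 (.leaf (nat_lit 0x2c03073321)) (.leaf (nat_lit 0x2c02073331))))))) (.node 16 (.node 8 (.node 4 (.node 2 (.node 1 (.leaf (nat_lit 0x2a050741a1)) (.leaf (nat_lit 0x2a050741b1))) (.node 1 (.leaf (nat_lit 0x2a060733a1)) (.leaf (nat_lit 0x2a060733b1)))) (.node 2 (.node 1 (.leaf (nat_lit 0x2a05073fc1)) (.leaf (nat_lit 0x2a060733f1))) (.node 1 (.leaf (nat_lit 0x2a06074631)) (.leaf (nat_lit 0x2a04073411))))) (.node 4 (.node 2 (.node 1 (.leaf (nat_lit 0x2a03073421)) (.leaf (nat_lit 0x2a07073431))) (.node 1 (.leaf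 (nat_lit 0x2a03073441)) (.leaf (nat_lit 0x2a02073451)))) (.node 2 (.node 1 (.leaf (nat_lit 0x2a07073451)) (.leaf (nat_lit 0x2a07073471))) (.node 1 (.leaf (nat_lit 0x2a08073491)) (.leaf (nat_lit 0x2a040734c1)))))) (.node 8 (.node 4 (.node 2 (.node 1 (.leaf (nat_lit 0x2a030734d1)) (.leaf (nat_lit 0x2a040734f1))) (.node 1 (.leaf (nat_lit 0x2a03073501)) (.leaf (nat_lit 0x2a06073541)))) (.node 2 (.node 1 (.leaf (nat_lit 0x2c03073521)) (.leaf (nat_lit 0x2c02073531))) (.node 1 (.leaf (nat_lit 0x2a050743e1)) (.leaf (nat_lit 0x2a050743c1))))) (.node 4 (.node 2 (.node 1 (.leaf (nat_lit 0x2a04073551)) (.leaf (nat_lit 0x2a03073561))) (.node 1 (.leaf (nat_lit 0x2a05073561)) (.leaf (nat_lit 0x2a05073571)))) (.node 2 (.node 1 (.leaf (nat_lit 0x2a07073571)) (.leaf (nat_lit 0x2a040735c1))) (.node 1 (.leaf (nat_lit 0x2a030735d1)) (.leaf (nat_lit 0x2a050735d1)))))))) (.node 32 (.node 16 (.node 8 (.node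 4 (.node 2 (.node 1 (.leaf (nat_lit 0x2a03073601)) (.leaf (nat_lit 0x2a05073601))) (.node 1 (.leaf (nat_lit 0x2a05073611)) (.leaf (nat_lit 0x2a07073611)))) (.node 2 (.node 1 (.leaf (nat_lit 0x2a04073631)) (.leaf (nat_lit 0x2a04073661))) (.node 1 (.leaf (nat_lit 0x2a04073691)) (.leaf (nat_lit 0x2a030736a1))))) (.node 4 (.node 2 (.node 1 (.leaf (nat_lit 0x2a050736a1)) (.leaf (nat_lit 0x2a050736b1))) (.node 1 (.leaf (nat_lit 0x2a070736b1)) (.leaf (nat_lit 0x2a060736c1)))) (.node 2 (.node 1 (.leaf (nat_lit 0x2a030736e1)) (.leaf (nat_lit 0x2a050736e1))) (.node 1 (.leaf (nat_lit 0x2a020736f1)) (.leaf (nat_lit 0x2a050736f1)))))) (.node 8 (.node 4 (.node 2 (.node 1 (.leaf (nat_lit 0x2a070736f1)) (.leaf (nat_lit 0x2a06073701))) (.node 1 (.leaf (nat_lit 0x2a06073741)) (.leaf (nat_lit 0x2a03073761)))) (.node 2 (.node 1 (.leaf (nat_lit 0x2a02073771)) (.leaf (nat_lit 0x2a07073771))) (.node 1 (.leaf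 (nat_lit 0x2a08073781)) (.leaf (nat_lit 0x2a02073791))))) (.node 4 (.node 2 (.node 1 (.leaf (nat_lit 0x2a07073791)) (.leaf (nat_lit 0x2a070737a1))) (.node 1 (.leaf (nat_lit 0x2a080737b1)) (.leaf (nat_lit 0x2a040737d1)))) (.node 2 (.node 1 (.leaf (nat_lit 0x2a030737e1)) (.leaf (nat_lit 0x2c03073801))) (.node 1 (.leaf (nat_lit 0x2c02073811)) (.leaf (nat_lit 0x2a03073a31))))))) (.node 16 (.node 8 (.node 4 (.node 2 (.node 1 (.leaf (nat_lit 0x2a06073901)) (.leaf (nat_lit 0x2a06073911))) (.node 1 (.leaf (nat_lit 0x2a060738b1)) (.leaf (nat_lit 0x2c06077cc1)))) (.node 2 (.node 1 (.leaf (nat_lit 0x2a060738c1)) (.leaf (nat_lit 0x2a060738d1))) (.node 1 (.leaf (nat_lit 0x2a060738e1)) (.leaf (nat_lit 0x2a05074391))))) (.node 4 (.node 2 (.node 1 (.leaf (nat_lit 0x2a050743d1)) (.leaf (nat_lit 0x2a050743b1))) (.node 1 (.leaf (nat_lit 0x2a05074251)) (.leaf (nat_lit 0x2a07073911)))) (.node 2 (.node 1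 (.leaf (nat_lit 0x2a07073931)) (.leaf (nat_lit 0x2a08073941))) (.node 1 (.leaf (nat_lit 0x2a07073961)) (.leaf (nat_lit 0x2a08073971)))))) (.node 8 (.node 4 (.node 2 (.node 1 (.leaf (nat_lit 0x2a03073981)) (.leaf (nat_lit 0x2a08073981))) (.node 1 (.leaf (nat_lit 0x2a080739c1)) (.leaf (nat_lit 0x2a040739e1)))) (.node 2 (.node 1 (.leaf (nat_lit 0x2a030739f1)) (.leaf (nat_lit 0x2c03073a11))) (.node 1 (.leaf (nat_lit 0x2a04073a41)) (.leaf (nat_lit 0x2c02073a21))))) (.node 4 (.node 2 (.node 1 (.leaf (nat_lit 0x2c07077cd1)) (.leaf (nat_lit 0x2c07077ce1))) (.node 1 (.leaf (nat_lit 0x2c05078391)) (.leaf (nat_lit 0x2c030746c1)))) (.node 2 (.node 1 (.leaf (nat_lit 0x2c02073a91)) (.leaf (nat_lit 0x2a04073ab1))) (.node 1 (.leaf (nat_lit 0x2a03073ac1)) (.leaf (nat_lit 0x2c05077b41))))))))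

noncomputable def oT237 : Tree :=
  .node 64 (.node 32 (.node 16 (.node 8 (.node 4 (.node 2 (.node 1 (.leaf (nat_lit 0x2c05077b51)) (.leaf (nat_lit 0x2a050742a1))) (.node 1 (.leaf (nat_lit 0x2a05074281)) (.leaf (nat_lit 0x2a04073b21)))) (.node 2 (.node 1 (.leaf (nat_lit 0x2a05073b31)) (.leaf (nat_lit 0x2a06073ba1))) (.node 1 (.leaf (nat_lit 0x2a08073ed1)) (.leaf (nat_lit 0x2a08073ef1))))) (.node 4 (.node 2 (.node 1 (.leaf (nat_lit 0x2a06073bb1)) (.leaf (nat_lit 0x2a07073b81))) (.node 1 (.leaf (nat_lit 0x2a06073bc1)) (.leaf (nat_lit 0x2a05074291)))) (.node 2 (.node 1 (.leaf (nat_lit 0x2a05074271)) (.leaf (nat_lit 0x2a06073e91))) (.node 1 (.leaf (nat_lit 0x2a030747d1)) (.leaf (nat_lit 0x2a06073c51)))))) (.node 8 (.node 4 (.node 2 (.node 1 (.leaf (nat_lit 0x2a06073c71)) (.leaf (nat_lit 0x2a050747c1))) (.node 1 (.leaf (nat_lit 0x2a050747d1)) (.leaf (nat_lit 0x2a050747f1)))) (.node 2 (.node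 1 (.leaf (nat_lit 0x2a03073c91)) (.leaf (nat_lit 0x2a02073ca1))) (.node 1 (.leaf (nat_lit 0x2c04073cb1)) (.leaf (nat_lit 0x2c03073cc1))))) (.node 4 (.node 2 (.node 1 (.leaf (nat_lit 0x2a04074021)) (.leaf (nat_lit 0x2a04073cf1))) (.node 1 (.leaf (nat_lit 0x2a03073d01)) (.leaf (nat_lit 0x2a05073d01)))) (.node 2 (.node 1 (.leaf (nat_lit 0x2a05073d11)) (.leaf (nat_lit 0x2a07073d11))) (.node 1 (.leaf (nat_lit 0x2a03073d31)) (.leaf (nat_lit 0x2a05073d31))))))) (.node 16 (.node 8 (.node 4 (.node 2 (.node 1 (.leaf (nat_lit 0x2a02073d41)) (.leaf (nat_lit 0x2a05073d41))) (.node 1 (.leaf (nat_lit 0x2a03073d71)) (.leaf (nat_lit 0x2a02073d81)))) (.node 2 (.node 1 (.leaf (nat_lit 0x2a07073d81)) (.leaf (nat_lit 0x2a08073d91))) (.node 1 (.leaf (nat_lit 0x2a02073da1)) (.leaf (nat_lit 0x2a05073da1))))) (.node 4 (.node 2 (.node 1 (.leaf (nat_lit 0x2a07073da1)) (.leaf (nat_lit 0x2a05073dc1))) (.node 1 (.leaf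 (nat_lit 0x2a07073dc1)) (.leaf (nat_lit 0x2a04073dd1)))) (.node 2 (.node 1 (.leaf (nat_lit 0x2a08073de1)) (.leaf (nat_lit 0x2a04073e21))) (.node 1 (.leaf (nat_lit 0x2a03074391)) (.leaf (nat_lit 0x2a08073e71)))))) (.node 8 (.node 4 (.node 2 (.node 1 (.leaf (nat_lit 0x2a08073ea1)) (.leaf (nat_lit 0x2a07073ec1))) (.node 1 (.leaf (nat_lit 0x2a03073ed1)) (.leaf (nat_lit 0x2a04073ef1)))) (.node 2 (.node 1 (.leaf (nat_lit 0x2a02074121)) (.leaf (nat_lit 0x2a05074001))) (.node 1 (.leaf (nat_lit 0x2a03073f51)) (.leaf (nat_lit 0x2a03073f91))))) (.node 4 (.node 2 (.node 1 (.leaf (nat_lit 0x2a02073fa1)) (.leaf (nat_lit 0x2a03073fd1))) (.node 1 (.leaf (nat_lit 0x2a02073fe1)) (.leaf (nat_lit 0x2a02074011)))) (.node 2 (.node 1 (.leaf (nat_lit 0x2a05074011)) (.leaf (nat_lit 0x2c03074031))) (.node 1 (.leaf (nat_lit 0x2c02074041)) (.leaf (nat_lit 0x2a050745f1)))))))) (.node 32 (.node 16 (.node 8 (.node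 4 (.node 2 (.node 1 (.leaf (nat_lit 0x2a050745c1)) (.leaf (nat_lit 0x2a030747c1))) (.node 1 (.leaf (nat_lit 0x2a04074081)) (.leaf (nat_lit 0x2a03074091)))) (.node 2 (.node 1 (.leaf (nat_lit 0x2a070740f1)) (.leaf (nat_lit 0x2a05074121))) (.node 1 (.leaf (nat_lit 0x2a030749d1)) (.leaf (nat_lit 0x2a03074111))))) (.node 4 (.node 2 (.node 1 (.leaf (nat_lit 0x2a05074111)) (.leaf (nat_lit 0x2a03074151))) (.node 1 (.leaf (nat_lit 0x2a02074161)) (.leaf (nat_lit 0x2a03074181)))) (.node 2 (.node 1 (.leaf (nat_lit 0x2a030741a1)) (.leaf (nat_lit 0x2a020741b1))) (.node 1 (.leaf (nat_lit 0x2a07074201)) (.leaf (nat_lit 0x2a070742e1)))))) (.node 8 (.node 4 (.node 2 (.node 1 (.leaf (nat_lit 0x2a07074211)) (.leaf (nat_lit 0x2a05074201))) (.node 1 (.leaf (nat_lit 0x2a07074251)) (.leaf (nat_lit 0x2a07074691)))) (.node 2 (.node 1 (.leaf (nat_lit 0x2a04074261)) (.leaf (nat_lit 0x2a03074271))) (.node 1 (.leaf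 (nat_lit 0x2a03074291)) (.leaf (nat_lit 0x2a020742a1))))) (.node 4 (.node 2 (.node 1 (.leaf (nat_lit 0x2a030742b1)) (.leaf (nat_lit 0x2a020742c1))) (.node 1 (.leaf (nat_lit 0x2a030742d1)) (.leaf (nat_lit 0x2a020742e1)))) (.node 2 (.node 1 (.leaf (nat_lit 0x2a020742f1)) (.leaf (nat_lit 0x2c03074311))) (.node 1 (.leaf (nat_lit 0x2a04074341)) (.leaf (nat_lit 0x2c02074321))))))) (.node 16 (.node 8 (.node 4 (.node 2 (.node 1 (.leaf (nat_lit 0x2c02074351)) (.leaf (nat_lit 0x2c07074351))) (.node 1 (.leaf (nat_lit 0x2c07074361)) (.leaf (nat_lit 0x2c05077ca1)))) (.node 2 (.node 1 (.leaf (nat_lit 0x2a040743a1)) (.leaf (nat_lit 0x2a030743b1))) (.node 1 (.leaf (nat_lit 0x2a030743d1)) (.leaf (nat_lit 0x2a020743e1))))) (.node 4 (.node 2 (.node 1 (.leaf (nat_lit 0x2c050743f1)) (.leaf (nat_lit 0x2c06074401))) (.node 1 (.leaf (nat_lit 0x2c06074421)) (.leaf (nat_lit 0x2a03074461)))) (.node 2 (.node 1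 (.leaf (nat_lit 0x2a02074471)) (.leaf (nat_lit 0x2a03074491))) (.node 1 (.leaf (nat_lit 0x2a020744a1)) (.leaf (nat_lit 0x2a030744b1)))))) (.node 8 (.node 4 (.node 2 (.node 1 (.leaf (nat_lit 0x2a020744c1)) (.leaf (nat_lit 0x2a020744d1))) (.node 1 (.leaf (nat_lit 0x2a04074521)) (.leaf (nat_lit 0x2a03074531)))) (.node 2 (.node 1 (.leaf (nat_lit 0x2a05074531)) (.leaf (nat_lit 0x2a03074561))) (.node 1 (.leaf (nat_lit 0x2a05074561)) (.leaf (nat_lit 0x2a02074571))))) (.node 4 (.node 2 (.node 1 (.leaf (nat_lit 0x2a040745a1)) (.leaf (nat_lit 0x2a030745b1))) (.node 1 (.leaf (nat_lit 0x2a050745b1)) (.leaf (nat_lit 0x2a030745e1)))) (.node 2 (.node 1 (.leaf (nat_lit 0x2a050745e1)) (.leaf (nat_lit 0x2a020745f1))) (.node 1 (.leaf (nat_lit 0x2a05074611)) (.leaf (nat_lit 0x2a03074661))))))))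

noncomputable def oT238 : Tree :=
  .node 64 (.node 32 (.node 16 (.node 8 (.node 4 (.node 2 (.node 1 (.leaf (nat_lit 0x2a02074671)) (.leaf (nat_lit 0x2a03074681))) (.node 1 (.leaf (nat_lit 0x2a02074691)) (.leaf (nat_lit 0x2a020746a1)))) (.node 2 (.node 1 (.leaf (nat_lit 0x2c030746d1)) (.leaf (nat_lit 0x2c020746e1))) (.node 1 (.leaf (nat_lit 0x2a030746f1)) (.leaf (nat_lit 0x2a02074701))))) (.node 4 (.node 2 (.node 1 (.leaf (nat_lit 0x2c02074711)) (.leaf (nat_lit 0x2c03074741))) (.node 1 (.leaf (nat_lit 0x2c02074751)) (.leaf (nat_lit 0x2a03074761)))) (.node 2 (.node 1 (.leaf (nat_lit 0x2a02074771)) (.leaf (nat_lit 0x2a02074781))) (.node 1 (.leaf (nat_lit 0x2c020747a1)) (.leaf (nat_lit 0x2c03074801)))))) (.node 8 (.node 4 (.node 2 (.node 1 (.leaf (nat_lit 0x2c02074811)) (.leaf (nat_lit 0x2c02074821))) (.node 1 (.leaf (nat_lit 0x2a03074851)) (.leaf (nat_lit 0x2a02074861)))) (.node 2 (.node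 1 (.leaf (nat_lit 0x2a07074861)) (.leaf (nat_lit 0x2a08074871))) (.node 1 (.leaf (nat_lit 0x2a07074881)) (.leaf (nat_lit 0x2a08074891))))) (.node 4 (.node 2 (.node 1 (.leaf (nat_lit 0x2a040748b1)) (.leaf (nat_lit 0x2a030748c1))) (.node 1 (.leaf (nat_lit 0x2a030748e1)) (.leaf (nat_lit 0x2a020748f1)))) (.node 2 (.node 1 (.leaf (nat_lit 0x2a03074901)) (.leaf (nat_lit 0x2a02074911))) (.node 1 (.leaf (nat_lit 0x2a02074921)) (.leaf (nat_lit 0x2c02074951))))))) (.node 16 (.node 8 (.node 4 (.node 2 (.node 1 (.leaf (nat_lit 0x2c02074971)) (.leaf (nat_lit 0x2e01074991))) (.node 1 (.leaf (nat_lit 0x2c020749a1)) (.leaf (nat_lit 0x2c05077d11)))) (.node 2 (.node 1 (.leaf (nat_lit 0x2a080749e1)) (.leaf (nat_lit 0x2b07074a21))) (.node 1 (.leaf (nat_lit 0x2b08074a31)) (.leaf (nat_lit 0x2b08074a61))))) (.node 4 (.node 2 (.node 1 (.leaf (nat_lit 0x2b04074a81)) (.leaf (nat_lit 0x2b03074a91))) (.node 1 (.leaf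 (nat_lit 0x2b05075241)) (.leaf (nat_lit 0x2b04074ab1)))) (.node 2 (.node 1 (.leaf (nat_lit 0x2b03074ac1)) (.leaf (nat_lit 0x2b05074ac1))) (.node 1 (.leaf (nat_lit 0x2b05074ad1)) (.leaf (nat_lit 0x2b06074ae1)))))) (.node 8 (.node 4 (.node 2 (.node 1 (.leaf (nat_lit 0x2b04074b11)) (.leaf (nat_lit 0x2b03074b21))) (.node 1 (.leaf (nat_lit 0x2b05074b21)) (.leaf (nat_lit 0x2b05074b31)))) (.node 2 (.node 1 (.leaf (nat_lit 0x2b06074b41)) (.leaf (nat_lit 0x2b04074b61))) (.node 1 (.leaf (nat_lit 0x2b03074b71)) (.leaf (nat_lit 0x2b05074b71))))) (.node 4 (.node 2 (.node 1 (.leaf (nat_lit 0x2b05074b81)) (.leaf (nat_lit 0x2b07074b81))) (.node 1 (.leaf (nat_lit 0x2b06074b91)) (.leaf (nat_lit 0x2b05074bb1)))) (.node 2 (.node 1 (.leaf (nat_lit 0x2b06074bc1)) (.leaf (nat_lit 0x2b03074be1))) (.node 1 (.leaf (nat_lit 0x2b02074bf1)) (.leaf (nat_lit 0x2b07074bf1)))))))) (.node 32 (.node 16 (.node 8 (.node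 4 (.node 2 (.node 1 (.leaf (nat_lit 0x2b08074c01)) (.leaf (nat_lit 0x2b04074c11))) (.node 1 (.leaf (nat_lit 0x2b03074c21)) (.leaf (nat_lit 0x2b05074c21)))) (.node 2 (.node 1 (.leaf (nat_lit 0x2b07074c81)) (.leaf (nat_lit 0x2b03075441))) (.node 1 (.leaf (nat_lit 0x2b03075261)) (.leaf (nat_lit 0x2b04074c91))))) (.node 4 (.node 2 (.node 1 (.leaf (nat_lit 0x2b03074ca1)) (.leaf (nat_lit 0x2b05074ca1))) (.node 1 (.leaf (nat_lit 0x2b07074cb1)) (.leaf (nat_lit 0x2b05075471)))) (.node 2 (.node 1 (.leaf (nat_lit 0x2b05075481)) (.leaf (nat_lit 0x2b04074d01))) (.node 1 (.leaf (nat_lit 0x2b03074d11)) (.leaf (nat_lit 0x2b05074d11)))))) (.node 8 (.node 4 (.node 2 (.node 1 (.leaf (nat_lit 0x2b05074d21)) (.leaf (nat_lit 0x2b03074d41))) (.node 1 (.leaf (nat_lit 0x2b05074d41)) (.leaf (nat_lit 0x2b02074d51)))) (.node 2 (.node 1 (.leaf (nat_lit 0x2b05074d51)) (.leaf (nat_lit 0x2b04074d71))) (.node 1 (.leaf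 (nat_lit 0x2b07074d91)) (.leaf (nat_lit 0x2b08074da1))))) (.node 4 (.node 2 (.node 1 (.leaf (nat_lit 0x2b05076451)) (.leaf (nat_lit 0x2b03076451))) (.node 1 (.leaf (nat_lit 0x2b04074e21)) (.leaf (nat_lit 0x2b03075631)))) (.node 2 (.node 1 (.leaf (nat_lit 0x2b03074e31)) (.leaf (nat_lit 0x2b070759b1))) (.node 1 (.leaf (nat_lit 0x2b04074e71)) (.leaf (nat_lit 0x2b04074ea1))))))) (.node 16 (.node 8 (.node 4 (.node 2 (.node 1 (.leaf (nat_lit 0x2b03074eb1)) (.leaf (nat_lit 0x2b05074eb1))) (.node 1 (.leaf (nat_lit 0x2b05074ec1)) (.leaf (nat_lit 0x2b07074ec1)))) (.node 2 (.node 1 (.leaf (nat_lit 0x2b03074ee1)) (.leaf (nat_lit 0x2b05074ee1))) (.node 1 (.leaf (nat_lit 0x2b02074ef1)) (.leaf (nat_lit 0x2b05074ef1))))) (.node 4 (.node 2 (.node 1 (.leaf (nat_lit 0x2b07074ef1)) (.leaf (nat_lit 0x2b08074f21))) (.node 1 (.leaf (nat_lit 0x2b05074f31)) (.leaf (nat_lit 0x2b06074f41)))) (.node 2 (.node 1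 (.leaf (nat_lit 0x2b06074f61)) (.leaf (nat_lit 0x2b07074f81))) (.node 1 (.leaf (nat_lit 0x2b08074fa1)) (.leaf (nat_lit 0x2b08074fd1)))))) (.node 8 (.node 4 (.node 2 (.node 1 (.leaf (nat_lit 0x2b04075001)) (.leaf (nat_lit 0x2b03075011))) (.node 1 (.leaf (nat_lit 0x2b03075041)) (.leaf (nat_lit 0x2b02075051)))) (.node 2 (.node 1 (.leaf (nat_lit 0x2b03075061)) (.leaf (nat_lit 0x2b02075071))) (.node 1 (.leaf (nat_lit 0x2b03075081)) (.leaf (nat_lit 0x2b02075091))))) (.node 4 (.node 2 (.node 1 (.leaf (nat_lit 0x2b030750a1)) (.leaf (nat_lit 0x2b020750b1))) (.node 1 (.leaf (nat_lit 0x2b05075db1)) (.leaf (nat_lit 0x2b050756e1)))) (.node 2 (.node 1 (.leaf (nat_lit 0x2b040750e1)) (.leaf (nat_lit 0x2b050750f1))) (.node 1 (.leaf (nat_lit 0x2b04075111)) (.leaf (nat_lit 0x2b03075121))))))))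

noncomputable def oT239 : Tree :=
  .node 64 (.node 32 (.node 16 (.node 8 (.node 4 (.node 2 (.node 1 (.leaf (nat_lit 0x2b04075ef1)) (.leaf (nat_lit 0x2b04075e41))) (.node 1 (.leaf (nat_lit 0x2b070751d1)) (.leaf (nat_lit 0x2b07075ed1)))) (.node 2 (.node 1 (.leaf (nat_lit 0x2b07075cb1)) (.leaf (nat_lit 0x2b07075ef1))) (.node 1 (.leaf (nat_lit 0x2b07075cd1)) (.leaf (nat_lit 0x2b040751d1))))) (.node 4 (.node 2 (.node 1 (.leaf (nat_lit 0x2b08076c41)) (.leaf (nat_lit 0x2b05075281))) (.node 1 (.leaf (nat_lit 0x2b040751e1)) (.leaf (nat_lit 0x2b030751f1)))) (.node 2 (.node 1 (.leaf (nat_lit 0x2b050751f1)) (.leaf (nat_lit 0x2b05075201))) (.node 1 (.leaf (nat_lit 0x2b03075221)) (.leaf (nat_lit 0x2b02075231)))))) (.node 8 (.node 4 (.node 2 (.node 1 (.leaf (nat_lit 0x2b03075481)) (.leaf (nat_lit 0x2b04075251))) (.node 1 (.leaf (nat_lit 0x2b03075271)) (.leaf (nat_lit 0x2b05075271)))) (.node 2 (.node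 1 (.leaf (nat_lit 0x2b07075281)) (.leaf (nat_lit 0x2b030752b1))) (.node 1 (.leaf (nat_lit 0x2b050752b1)) (.leaf (nat_lit 0x2b020752c1))))) (.node 4 (.node 2 (.node 1 (.leaf (nat_lit 0x2b050752c1)) (.leaf (nat_lit 0x2b040752e1))) (.node 1 (.leaf (nat_lit 0x2b030752f1)) (.leaf (nat_lit 0x2b050752f1)))) (.node 2 (.node 1 (.leaf (nat_lit 0x2b02075301)) (.leaf (nat_lit 0x2b05075301))) (.node 1 (.leaf (nat_lit 0x2b07075301)) (.leaf (nat_lit 0x2b07075321))))))) (.node 16 (.node 8 (.node 4 (.node 2 (.node 1 (.leaf (nat_lit 0x2b06075341)) (.leaf (nat_lit 0x2b02075361))) (.node 1 (.leaf (nat_lit 0x2b07075361)) (.leaf (nat_lit 0x2b07075371)))) (.node 2 (.node 1 (.leaf (nat_lit 0x2b08075381)) (.leaf (nat_lit 0x2b040753a1))) (.node 1 (.leaf (nat_lit 0x2b030753b1)) (.leaf (nat_lit 0x2b050753b1))))) (.node 4 (.node 2 (.node 1 (.leaf (nat_lit 0x2b050753c1)) (.leaf (nat_lit 0x2b070753c1))) (.node 1 (.leaf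 (nat_lit 0x2b05077011)) (.leaf (nat_lit 0x2b05077021)))) (.node 2 (.node 1 (.leaf (nat_lit 0x2b070753f1)) (.leaf (nat_lit 0x2b05075841))) (.node 1 (.leaf (nat_lit 0x2b05076a21)) (.leaf (nat_lit 0x2b05076a31)))))) (.node 8 (.node 4 (.node 2 (.node 1 (.leaf (nat_lit 0x2b05075451)) (.leaf (nat_lit 0x2b04075af1))) (.node 1 (.leaf (nat_lit 0x2b03075491)) (.leaf (nat_lit 0x2b020754a1)))) (.node 2 (.node 1 (.leaf (nat_lit 0x2b030754b1)) (.leaf (nat_lit 0x2b020754c1))) (.node 1 (.leaf (nat_lit 0x2b020754d1)) (.leaf (nat_lit 0x2b050754d1))))) (.node 4 (.node 2 (.node 1 (.leaf (nat_lit 0x2b050754f1)) (.leaf (nat_lit 0x2b04075501))) (.node 1 (.leaf (nat_lit 0x2b08075531)) (.leaf (nat_lit 0x2b04075551)))) (.node 2 (.node 1 (.leaf (nat_lit 0x2b03075561)) (.leaf (nat_lit 0x2b03075581))) (.node 1 (.leaf (nat_lit 0x2b05075581)) (.leaf (nat_lit 0x2b02075591)))))))) (.node 32 (.node 16 (.node 8 (.node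 4 (.node 2 (.node 1 (.leaf (nat_lit 0x2b05075591)) (.leaf (nat_lit 0x2b07075591))) (.node 1 (.leaf (nat_lit 0x2b05077031)) (.leaf (nat_lit 0x2b05076f51)))) (.node 2 (.node 1 (.leaf (nat_lit 0x2b05076f71)) (.leaf (nat_lit 0x2b05076f31))) (.node 1 (.leaf (nat_lit 0x2b040756c1)) (.leaf (nat_lit 0x2b030756d1))))) (.node 4 (.node 2 (.node 1 (.leaf (nat_lit 0x2b050756d1)) (.leaf (nat_lit 0x2b04075701))) (.node 1 (.leaf (nat_lit 0x2b03075711)) (.leaf (nat_lit 0x2b05075711)))) (.node 2 (.node 1 (.leaf (nat_lit 0x2b05075741)) (.leaf (nat_lit 0x2b03075761))) (.node 1 (.leaf (nat_lit 0x2b02075771)) (.leaf (nat_lit 0x2b03075791)))))) (.node 8 (.node 4 (.node 2 (.node 1 (.leaf (nat_lit 0x2b05075791)) (.leaf (nat_lit 0x2b020757a1))) (.node 1 (.leaf (nat_lit 0x2b050757a1)) (.leaf (nat_lit 0x2b04075821)))) (.node 2 (.node 1 (.leaf (nat_lit 0x2b03075831)) (.leaf (nat_lit 0x2b05075831))) (.node 1 (.leaf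 (nat_lit 0x2b06075851)) (.leaf (nat_lit 0x2b04075871))))) (.node 4 (.node 2 (.node 1 (.leaf (nat_lit 0x2b03075881)) (.leaf (nat_lit 0x2b05075881))) (.node 1 (.leaf (nat_lit 0x2b05075891)) (.leaf (nat_lit 0x2b07075891)))) (.node 2 (.node 1 (.leaf (nat_lit 0x2b060758a1)) (.leaf (nat_lit 0x2b050758c1))) (.node 1 (.leaf (nat_lit 0x2b060758d1)) (.leaf (nat_lit 0x2b030758f1))))))) (.node 16 (.node 8 (.node 4 (.node 2 (.node 1 (.leaf (nat_lit 0x2b02075901)) (.leaf (nat_lit 0x2b07075901))) (.node 1 (.leaf (nat_lit 0x2b03075931)) (.leaf (nat_lit 0x2b05075931)))) (.node 2 (.node 1 (.leaf (nat_lit 0x2b02075941)) (.leaf (nat_lit 0x2b05075941))) (.node 1 (.leaf (nat_lit 0x2b04075961)) (.leaf (nat_lit 0x2b07075981))))) (.node 4 (.node 2 (.node 1 (.leaf (nat_lit 0x2b08075991)) (.leaf (nat_lit 0x2b070759d1))) (.node 1 (.leaf (nat_lit 0x2b080759f1)) (.leaf (nat_lit 0x2b08075a11)))) (.node 2 (.node 1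 (.leaf (nat_lit 0x2b06076201)) (.leaf (nat_lit 0x2b06076211))) (.node 1 (.leaf (nat_lit 0x2b03075a71)) (.leaf (nat_lit 0x2b02075a81)))))) (.node 8 (.node 4 (.node 2 (.node 1 (.leaf (nat_lit 0x2b03075a91)) (.leaf (nat_lit 0x2b05075a91))) (.node 1 (.leaf (nat_lit 0x2b05075aa1)) (.leaf (nat_lit 0x2b07075aa1)))) (.node 2 (.node 1 (.leaf (nat_lit 0x2b06075ab1)) (.leaf (nat_lit 0x2b03075b01))) (.node 1 (.leaf (nat_lit 0x2b05075b01)) (.leaf (nat_lit 0x2b02075b11))))) (.node 4 (.node 2 (.node 1 (.leaf (nat_lit 0x2b05075b11)) (.leaf (nat_lit 0x2b06075b21))) (.node 1 (.leaf (nat_lit 0x2b04075b31)) (.leaf (nat_lit 0x2b06075b31)))) (.node 2 (.node 1 (.leaf (nat_lit 0x2b03075b51)) (.leaf (nat_lit 0x2b05075b51))) (.node 1 (.leaf (nat_lit 0x2b02075b61)) (.leaf (nat_lit 0x2b05075b61))))))))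

noncomputable def oT240 : Tree :=
  .node 64 (.node 32 (.node 16 (.node 8 (.node 4 (.node 2 (.node 1 (.leaf (nat_lit 0x2b07075b61)) (.leaf (nat_lit 0x2b06075b71))) (.node 1 (.leaf (nat_lit 0x2b06075b81)) (.leaf (nat_lit 0x2b07075b81)))) (.node 2 (.node 1 (.leaf (nat_lit 0x2b06075bb1)) (.leaf (nat_lit 0x2b06075ef1))) (.node 1 (.leaf (nat_lit 0x2b02075be1)) (.leaf (nat_lit 0x2b07075be1))))) (.node 4 (.node 2 (.node 1 (.leaf (nat_lit 0x2b07075bf1)) (.leaf (nat_lit 0x2b08075c01))) (.node 1 (.leaf (nat_lit 0x2b04075c21)) (.leaf (nat_lit 0x2b03075c41)))) (.node 2 (.node 1 (.leaf (nat_lit 0x2b02075c51)) (.leaf (nat_lit 0x2b03075c61))) (.node 1 (.leaf (nat_lit 0x2b05075c61)) (.leaf (nat_lit 0x2b02075c71)))))) (.node 8 (.node 4 (.node 2 (.node 1 (.leaf (nat_lit 0x2b03075ca1)) (.leaf (nat_lit 0x2b05075ca1))) (.node 1 (.leaf (nat_lit 0x2b02075cb1)) (.leaf (nat_lit 0x2b05075cb1)))) (.node 2 (.node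 1 (.leaf (nat_lit 0x2b04075cd1)) (.leaf (nat_lit 0x2b02075ce1))) (.node 1 (.leaf (nat_lit 0x2b05075ce1)) (.leaf (nat_lit 0x2b05075d01))))) (.node 4 (.node 2 (.node 1 (.leaf (nat_lit 0x2b04075d11)) (.leaf (nat_lit 0x2b08075d31))) (.node 1 (.leaf (nat_lit 0x2b04075d51)) (.leaf (nat_lit 0x2b03075d71)))) (.node 2 (.node 1 (.leaf (nat_lit 0x2b02075d81)) (.leaf (nat_lit 0x2b03075da1))) (.node 1 (.leaf (nat_lit 0x2b05075da1)) (.leaf (nat_lit 0x2b02075db1))))))) (.node 16 (.node 8 (.node 4 (.node 2 (.node 1 (.leaf (nat_lit 0x2b05075dd1)) (.leaf (nat_lit 0x2b03075e11))) (.node 1 (.leaf (nat_lit 0x2b05075e11)) (.leaf (nat_lit 0x2b02075e21)))) (.node 2 (.node 1 (.leaf (nat_lit 0x2b05075e21)) (.leaf (nat_lit 0x2b07075e21))) (.node 1 (.leaf (nat_lit 0x2b07075e41)) (.leaf (nat_lit 0x2b02075e61))))) (.node 4 (.node 2 (.node 1 (.leaf (nat_lit 0x2b05075e61)) (.leaf (nat_lit 0x2b07075e61))) (.node 1 (.leaf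 (nat_lit 0x2b05075e81)) (.leaf (nat_lit 0x2b07075e81)))) (.node 2 (.node 1 (.leaf (nat_lit 0x2b04075e91)) (.leaf (nat_lit 0x2b08075ea1))) (.node 1 (.leaf (nat_lit 0x2b05075ed1)) (.leaf (nat_lit 0x2b06075ee1)))))) (.node 8 (.node 4 (.node 2 (.node 1 (.leaf (nat_lit 0x2b04075f11)) (.leaf (nat_lit 0x2b06075f11))) (.node 1 (.leaf (nat_lit 0x2b06075f31)) (.leaf (nat_lit 0x2b08075f61)))) (.node 2 (.node 1 (.leaf (nat_lit 0x2b03075f91)) (.leaf (nat_lit 0x2b02075fa1))) (.node 1 (.leaf (nat_lit 0x2b02075fc1)) (.leaf (nat_lit 0x2b03075fe1))))) (.node 4 (.node 2 (.node 1 (.leaf (nat_lit 0x2b02075ff1)) (.leaf (nat_lit 0x2b02076001))) (.node 1 (.leaf (nat_lit 0x2b02076031)) (.leaf (nat_lit 0x2b03076051)))) (.node 2 (.node 1 (.leaf (nat_lit 0x2b02076061)) (.leaf (nat_lit 0x2b04076a11))) (.node 1 (.leaf (nat_lit 0x2b03076081)) (.leaf (nat_lit 0x2b05076081)))))))) (.node 32 (.node 16 (.node 8 (.node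 4 (.node 2 (.node 1 (.leaf (nat_lit 0x2b02076091)) (.leaf (nat_lit 0x2b05076091))) (.node 1 (.leaf (nat_lit 0x2b07076091)) (.leaf (nat_lit 0x2b060760a1)))) (.node 2 (.node 1 (.leaf (nat_lit 0x2b060760e1)) (.leaf (nat_lit 0x2b02076101))) (.node 1 (.leaf (nat_lit 0x2b07076101)) (.leaf (nat_lit 0x2b07076111))))) (.node 4 (.node 2 (.node 1 (.leaf (nat_lit 0x2b03076131)) (.leaf (nat_lit 0x2b02076141))) (.node 1 (.leaf (nat_lit 0x2b06076191)) (.leaf (nat_lit 0x2b06076fe1)))) (.node 2 (.node 1 (.leaf (nat_lit 0x2b04076c51)) (.leaf (nat_lit 0x2b05076c21))) (.node 1 (.leaf (nat_lit 0x2b030761c1)) (.leaf (nat_lit 0x2b020761d1)))))) (.node 8 (.node 4 (.node 2 (.node 1 (.leaf (nat_lit 0x2d020761e1)) (.leaf (nat_lit 0x2b05076cc1))) (.node 1 (.leaf (nat_lit 0x2b05076cd1)) (.leaf (nat_lit 0x2b06076241)))) (.node 2 (.node 1 (.leaf (nat_lit 0x2b03076271)) (.leaf (nat_lit 0x2b02076281))) (.node 1 (.leaf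 (nat_lit 0x2b07076281)) (.leaf (nat_lit 0x2b020762a1))))) (.node 4 (.node 2 (.node 1 (.leaf (nat_lit 0x2b070762a1)) (.leaf (nat_lit 0x2b070762b1))) (.node 1 (.leaf (nat_lit 0x2b030762f1)) (.leaf (nat_lit 0x2b02076301)))) (.node 2 (.node 1 (.leaf (nat_lit 0x2b03076311)) (.leaf (nat_lit 0x2b02076321))) (.node 1 (.leaf (nat_lit 0x2b06076361)) (.leaf (nat_lit 0x2d02076341))))))) (.node 16 (.node 8 (.node 4 (.node 2 (.node 1 (.leaf (nat_lit 0x2b05076e61)) (.leaf (nat_lit 0x2b05076e71))) (.node 1 (.leaf (nat_lit 0x2b05076e51)) (.leaf (nat_lit 0x2b03076381)))) (.node 2 (.node 1 (.leaf (nat_lit 0x2b05076381)) (.leaf (nat_lit 0x2b05076391))) (.node 1 (.leaf (nat_lit 0x2b07076391)) (.leaf (nat_lit 0x2b030763d1))))) (.node 4 (.node 2 (.node 1 (.leaf (nat_lit 0x2b050763d1)) (.leaf (nat_lit 0x2b020763e1))) (.node 1 (.leaf (nat_lit 0x2b05076401)) (.leaf (nat_lit 0x2b07076401)))) (.node 2 (.node 1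 (.leaf (nat_lit 0x2b04076421)) (.leaf (nat_lit 0x2b03076461))) (.node 1 (.leaf (nat_lit 0x2b05076461)) (.leaf (nat_lit 0x2b02076471)))))) (.node 8 (.node 4 (.node 2 (.node 1 (.leaf (nat_lit 0x2b05076471)) (.leaf (nat_lit 0x2b07076471))) (.node 1 (.leaf (nat_lit 0x2b06076481)) (.leaf (nat_lit 0x2b020764c1)))) (.node 2 (.node 1 (.leaf (nat_lit 0x2b050764c1)) (.leaf (nat_lit 0x2b070764c1))) (.node 1 (.leaf (nat_lit 0x2b060764d1)) (.leaf (nat_lit 0x2b050764e1))))) (.node 4 (.node 2 (.node 1 (.leaf (nat_lit 0x2b070764e1)) (.leaf (nat_lit 0x2b02076531))) (.node 1 (.leaf (nat_lit 0x2b07076531)) (.leaf (nat_lit 0x2b07076541)))) (.node 2 (.node 1 (.leaf (nat_lit 0x2b08076551)) (.leaf (nat_lit 0x2b01076571))) (.node 1 (.leaf (nat_lit 0x2b07076571)) (.leaf (nat_lit 0x2b08076581))))))))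

noncomputable def oT241 : Tree :=
  .node 64 (.node 32 (.node 16 (.node 8 (.node 4 (.node 2 (.node 1 (.leaf (nat_lit 0x2b03076591)) (.leaf (nat_lit 0x2b08076591))) (.node 1 (.leaf (nat_lit 0x2b030765b1)) (.leaf (nat_lit 0x2b020765c1)))) (.node 2 (.node 1 (.leaf (nat_lit 0x2d020765d1)) (.leaf (nat_lit 0x2b03076761))) (.node 1 (.leaf (nat_lit 0x2b020765f1)) (.leaf (nat_lit 0x2b060766a1))))) (.node 4 (.node 2 (.node 1 (.leaf (nat_lit 0x2b06076671)) (.leaf (nat_lit 0x2b06076681))) (.node 1 (.leaf (nat_lit 0x2b06076691)) (.leaf (nat_lit 0x2b05076e41)))) (.node 2 (.node 1 (.leaf (nat_lit 0x2b070766a1)) (.leaf (nat_lit 0x2b080766c1))) (.node 1 (.leaf (nat_lit 0x2b030766e1)) (.leaf (nat_lit 0x2b080766e1)))))) (.node 8 (.node 4 (.node 2 (.node 1 (.leaf (nat_lit 0x2b08076701)) (.leaf (nat_lit 0x2b03076731))) (.node 1 (.leaf (nat_lit 0x2b02076741)) (.leaf (nat_lit 0x2d02076751)))) (.node 2 (.node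 1 (.leaf (nat_lit 0x2d070798f1)) (.leaf (nat_lit 0x2d05079db1))) (.node 1 (.leaf (nat_lit 0x2d020767b1)) (.leaf (nat_lit 0x2b030767d1))))) (.node 4 (.node 2 (.node 1 (.leaf (nat_lit 0x2b020767e1)) (.leaf (nat_lit 0x2d05079781))) (.node 1 (.leaf (nat_lit 0x2b05076d61)) (.leaf (nat_lit 0x2b05076d71)))) (.node 2 (.node 1 (.leaf (nat_lit 0x2b05076d51)) (.leaf (nat_lit 0x2b05076831))) (.node 1 (.leaf (nat_lit 0x2b08076b21)) (.leaf (nat_lit 0x2b060768b1))))))) (.node 16 (.node 8 (.node 4 (.node 2 (.node 1 (.leaf (nat_lit 0x2b07076871)) (.leaf (nat_lit 0x2b060768c1))) (.node 1 (.leaf (nat_lit 0x2b05076d41)) (.leaf (nat_lit 0x2b02076c71)))) (.node 2 (.node 1 (.leaf (nat_lit 0x2b06076931)) (.leaf (nat_lit 0x2b05076bb1))) (.node 1 (.leaf (nat_lit 0x2b02076941)) (.leaf (nat_lit 0x2d03076961))))) (.node 4 (.node 2 (.node 1 (.leaf (nat_lit 0x2b04076bc1)) (.leaf (nat_lit 0x2d02076971))) (.node 1 (.leaf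 (nat_lit 0x2b03076991)) (.leaf (nat_lit 0x2b05076991)))) (.node 2 (.node 1 (.leaf (nat_lit 0x2b020769a1)) (.leaf (nat_lit 0x2b050769a1))) (.node 1 (.leaf (nat_lit 0x2b070769a1)) (.leaf (nat_lit 0x2b020769e1)))))) (.node 8 (.node 4 (.node 2 (.node 1 (.leaf (nat_lit 0x2b050769e1)) (.leaf (nat_lit 0x2b05076a01))) (.node 1 (.leaf (nat_lit 0x2b02076a21)) (.leaf (nat_lit 0x2b07076a21)))) (.node 2 (.node 1 (.leaf (nat_lit 0x2b07076a31)) (.leaf (nat_lit 0x2b08076a41))) (.node 1 (.leaf (nat_lit 0x2b01076a61)) (.leaf (nat_lit 0x2b05076a61))))) (.node 4 (.node 2 (.node 1 (.leaf (nat_lit 0x2b07076a61)) (.leaf (nat_lit 0x2b04076a71))) (.node 1 (.leaf (nat_lit 0x2b08076a81)) (.leaf (nat_lit 0x2b04076a91)))) (.node 2 (.node 1 (.leaf (nat_lit 0x2b08076aa1)) (.leaf (nat_lit 0x2b03076b11))) (.node 1 (.leaf (nat_lit 0x2b04076b21)) (.leaf (nat_lit 0x2b02076b71)))))))) (.node 32 (.node 16 (.node 8 (.node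 4 (.node 2 (.node 1 (.leaf (nat_lit 0x2b02076b91)) (.leaf (nat_lit 0x2d02076bd1))) (.node 1 (.leaf (nat_lit 0x2b05076fb1)) (.leaf (nat_lit 0x2b05076fd1)))) (.node 2 (.node 1 (.leaf (nat_lit 0x2b05076f91)) (.leaf (nat_lit 0x2b03076c21))) (.node 1 (.leaf (nat_lit 0x2b02076c31)) (.leaf (nat_lit 0x2b05076c71))))) (.node 4 (.node 2 (.node 1 (.leaf (nat_lit 0x2b02076c91)) (.leaf (nat_lit 0x2b02076cc1))) (.node 1 (.leaf (nat_lit 0x2b07076da1)) (.leaf (nat_lit 0x2b07076d11)))) (.node 2 (.node 1 (.leaf (nat_lit 0x2b07076db1)) (.leaf (nat_lit 0x2b07077011))) (.node 1 (.leaf (nat_lit 0x2b07077021)) (.leaf (nat_lit 0x2b03076d41)))))) (.node 8 (.node 4 (.node 2 (.node 1 (.leaf (nat_lit 0x2b02076d51)) (.leaf (nat_lit 0x2b02076d61))) (.node 1 (.leaf (nat_lit 0x2b02076d81)) (.leaf (nat_lit 0x2b02076da1)))) (.node 2 (.node 1 (.leaf (nat_lit 0x2b01076dc1)) (.leaf (nat_lit 0x2d02076dd1))) (.node 1 (.leaf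 (nat_lit 0x2d01076e01)) (.leaf (nat_lit 0x2d07076e01))))) (.node 4 (.node 2 (.node 1 (.leaf (nat_lit 0x2d050798c1)) (.leaf (nat_lit 0x2d050798e1))) (.node 1 (.leaf (nat_lit 0x2b03076e41)) (.leaf (nat_lit 0x2b02076e51)))) (.node 2 (.node 1 (.leaf (nat_lit 0x2b02076e61)) (.leaf (nat_lit 0x2d06076e81))) (.node 1 (.leaf (nat_lit 0x2b02076eb1)) (.leaf (nat_lit 0x2b02076ed1))))))) (.node 16 (.node 8 (.node 4 (.node 2 (.node 1 (.leaf (nat_lit 0x2b02076ef1)) (.leaf (nat_lit 0x2b01076f11))) (.node 1 (.leaf (nat_lit 0x2b03076f21)) (.leaf (nat_lit 0x2b05076f21)))) (.node 2 (.node 1 (.leaf (nat_lit 0x2b02076f31)) (.leaf (nat_lit 0x2b02076f51))) (.node 1 (.leaf (nat_lit 0x2b03076f81)) (.leaf (nat_lit 0x2b05076f81))))) (.node 4 (.node 2 (.node 1 (.leaf (nat_lit 0x2b02076f91)) (.leaf (nat_lit 0x2b02076fb1))) (.node 1 (.leaf (nat_lit 0x2b02076ff1)) (.leaf (nat_lit 0x2b02077011)))) (.node 2 (.node 1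 (.leaf (nat_lit 0x2b01077031)) (.leaf (nat_lit 0x2d02077041))) (.node 1 (.leaf (nat_lit 0x2b02077061)) (.leaf (nat_lit 0x2d01077081)))))) (.node 8 (.node 4 (.node 2 (.node 1 (.leaf (nat_lit 0x2d02077091)) (.leaf (nat_lit 0x2b020770b1))) (.node 1 (.leaf (nat_lit 0x2b010770d1)) (.leaf (nat_lit 0x2d010770e1)))) (.node 2 (.node 1 (.leaf (nat_lit 0x2d020770f1)) (.leaf (nat_lit 0x2d01077111))) (.node 1 (.leaf (nat_lit 0x2b02077121)) (.leaf (nat_lit 0x2b07077121))))) (.node 4 (.node 2 (.node 1 (.leaf (nat_lit 0x2b07077131)) (.leaf (nat_lit 0x2b08077141))) (.node 1 (.leaf (nat_lit 0x2b08077161)) (.leaf (nat_lit 0x2b03077181)))) (.node 2 (.node 1 (.leaf (nat_lit 0x2b02077191)) (.leaf (nat_lit 0x2b020771a1))) (.node 1 (.leaf (nat_lit 0x2b020771c1)) (.leaf (nat_lit 0x2b010771e1))))))))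

noncomputable def oT242 : Tree :=
  .node 64 (.node 32 (.node 16 (.node 8 (.node 4 (.node 2 (.node 1 (.leaf (nat_lit 0x2d010771f1)) (.leaf (nat_lit 0x2d01077201))) (.node 1 (.leaf (nat_lit 0x2d01077221)) (.leaf (nat_lit 0x2d05079901)))) (.node 2 (.node 1 (.leaf (nat_lit 0x2c08077251)) (.leaf (nat_lit 0x2c03077281))) (.node 1 (.leaf (nat_lit 0x2c02077291)) (.leaf (nat_lit 0x2c05077901))))) (.node 4 (.node 2 (.node 1 (.leaf (nat_lit 0x2c030772b1)) (.leaf (nat_lit 0x2c050772b1))) (.node 1 (.leaf (nat_lit 0x2c050772c1)) (.leaf (nat_lit 0x2c060772d1)))) (.node 2 (.node 1 (.leaf (nat_lit 0x2c03077301)) (.leaf (nat_lit 0x2c05077301))) (.node 1 (.leaf (nat_lit 0x2c02077311)) (.leaf (nat_lit 0x2c05077311)))))) (.node 8 (.node 4 (.node 2 (.node 1 (.leaf (nat_lit 0x2c06077321)) (.leaf (nat_lit 0x2c04077331))) (.node 1 (.leaf (nat_lit 0x2c06077331)) (.leaf (nat_lit 0x2c03077351)))) (.node 2 (.node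 1 (.leaf (nat_lit 0x2c05077351)) (.leaf (nat_lit 0x2c02077361))) (.node 1 (.leaf (nat_lit 0x2c05077361)) (.leaf (nat_lit 0x2c07077361))))) (.node 4 (.node 2 (.node 1 (.leaf (nat_lit 0x2c06077371)) (.leaf (nat_lit 0x2c06077381))) (.node 1 (.leaf (nat_lit 0x2c07077381)) (.leaf (nat_lit 0x2c060773b1)))) (.node 2 (.node 1 (.leaf (nat_lit 0x2c020773d1)) (.leaf (nat_lit 0x2c070773d1))) (.node 1 (.leaf (nat_lit 0x2c070773e1)) (.leaf (nat_lit 0x2c080773f1))))))) (.node 16 (.node 8 (.node 4 (.node 2 (.node 1 (.leaf (nat_lit 0x2c03077411)) (.leaf (nat_lit 0x2c05077411))) (.node 1 (.leaf (nat_lit 0x2c02077421)) (.leaf (nat_lit 0x2c07077461)))) (.node 2 (.node 1 (.leaf (nat_lit 0x2c03077911)) (.leaf (nat_lit 0x2c03077471))) (.node 1 (.leaf (nat_lit 0x2c05077471)) (.leaf (nat_lit 0x2c07077481))))) (.node 4 (.node 2 (.node 1 (.leaf (nat_lit 0x2c05077b11)) (.leaf (nat_lit 0x2c030774d1))) (.node 1 (.leaf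 (nat_lit 0x2c050774d1)) (.leaf (nat_lit 0x2c020774e1)))) (.node 2 (.node 1 (.leaf (nat_lit 0x2c050774e1)) (.leaf (nat_lit 0x2c04077501))) (.node 1 (.leaf (nat_lit 0x2c02077511)) (.leaf (nat_lit 0x2c05077511)))))) (.node 8 (.node 4 (.node 2 (.node 1 (.leaf (nat_lit 0x2c05077531)) (.leaf (nat_lit 0x2c04077541))) (.node 1 (.leaf (nat_lit 0x2c08077561)) (.leaf (nat_lit 0x2c040775b1)))) (.node 2 (.node 1 (.leaf (nat_lit 0x2c030775f1)) (.leaf (nat_lit 0x2c050775f1))) (.node 1 (.leaf (nat_lit 0x2c02077601)) (.leaf (nat_lit 0x2c05077601))))) (.node 4 (.node 2 (.node 1 (.leaf (nat_lit 0x2c07077601)) (.leaf (nat_lit 0x2c07077621))) (.node 1 (.leaf (nat_lit 0x2c02077641)) (.leaf (nat_lit 0x2c05077641)))) (.node 2 (.node 1 (.leaf (nat_lit 0x2c07077641)) (.leaf (nat_lit 0x2c05077661))) (.node 1 (.leaf (nat_lit 0x2c07077661)) (.leaf (nat_lit 0x2c08077681)))))))) (.node 32 (.node 16 (.node 8 (.node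 4 (.node 2 (.node 1 (.leaf (nat_lit 0x2c060776a1)) (.leaf (nat_lit 0x2c080776d1))) (.node 1 (.leaf (nat_lit 0x2c03077701)) (.leaf (nat_lit 0x2c02077711)))) (.node 2 (.node 1 (.leaf (nat_lit 0x2c02077721)) (.leaf (nat_lit 0x2c02077741))) (.node 1 (.leaf (nat_lit 0x2c02077761)) (.leaf (nat_lit 0x2c02077781))))) (.node 4 (.node 2 (.node 1 (.leaf (nat_lit 0x2c050781d1)) (.leaf (nat_lit 0x2c050781f1))) (.node 1 (.leaf (nat_lit 0x2c05077c71)) (.leaf (nat_lit 0x2c050777c1)))) (.node 2 (.node 1 (.leaf (nat_lit 0x2c030777e1)) (.leaf (nat_lit 0x2c040782e1))) (.node 1 (.leaf (nat_lit 0x2c020777f1)) (.leaf (nat_lit 0x2c04078241)))))) (.node 8 (.node 4 (.node 2 (.node 1 (.leaf (nat_lit 0x2c07077891)) (.leaf (nat_lit 0x2c07078101))) (.node 1 (.leaf (nat_lit 0x2c070782e1)) (.leaf (nat_lit 0x2c07078121)))) (.node 2 (.node 1 (.leaf (nat_lit 0x2c07078131)) (.leaf (nat_lit 0x2c04077891))) (.node 1 (.leaf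 (nat_lit 0x2c05077921)) (.leaf (nat_lit 0x2c030778a1))))) (.node 4 (.node 2 (.node 1 (.leaf (nat_lit 0x2c050778a1)) (.leaf (nat_lit 0x2c020778b1))) (.node 1 (.leaf (nat_lit 0x2c050778b1)) (.leaf (nat_lit 0x2c020778e1)))) (.node 2 (.node 1 (.leaf (nat_lit 0x2c03077b11)) (.leaf (nat_lit 0x2c02077901))) (.node 1 (.leaf (nat_lit 0x2c07077921)) (.leaf (nat_lit 0x2c02077951))))))) (.node 16 (.node 8 (.node 4 (.node 2 (.node 1 (.leaf (nat_lit 0x2c05077951)) (.leaf (nat_lit 0x2c05077971))) (.node 1 (.leaf (nat_lit 0x2c04077981)) (.leaf (nat_lit 0x2c020779a1)))) (.node 2 (.node 1 (.leaf (nat_lit 0x2c050779a1)) (.leaf (nat_lit 0x2c070779a1))) (.node 1 (.leaf (nat_lit 0x2c050779c1)) (.leaf (nat_lit 0x2c070779c1))))) (.node 4 (.node 2 (.node 1 (.leaf (nat_lit 0x2c070779d1)) (.leaf (nat_lit 0x2c01077a11))) (.node 1 (.leaf (nat_lit 0x2c07077a11)) (.leaf (nat_lit 0x2c08077a21)))) (.node 2 (.node 1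 (.leaf (nat_lit 0x2c08077a31)) (.leaf (nat_lit 0x2c03077a51))) (.node 1 (.leaf (nat_lit 0x2c05077a51)) (.leaf (nat_lit 0x2c02077a61)))))) (.node 8 (.node 4 (.node 2 (.node 1 (.leaf (nat_lit 0x2c05077a61)) (.leaf (nat_lit 0x2c07077a61))) (.node 1 (.leaf (nat_lit 0x2c05078eb1)) (.leaf (nat_lit 0x2c07077aa1)))) (.node 2 (.node 1 (.leaf (nat_lit 0x2c07077ab1)) (.leaf (nat_lit 0x2c05077d41))) (.node 1 (.leaf (nat_lit 0x2c05078b21)) (.leaf (nat_lit 0x2c02077b21))))) (.node 4 (.node 2 (.node 1 (.leaf (nat_lit 0x2c02077b41)) (.leaf (nat_lit 0x2c01077b61))) (.node 1 (.leaf (nat_lit 0x2c05077b61)) (.leaf (nat_lit 0x2c04077b71)))) (.node 2 (.node 1 (.leaf (nat_lit 0x2c04077b81)) (.leaf (nat_lit 0x2c03077bb1))) (.node 1 (.leaf (nat_lit 0x2c02077bc1)) (.leaf (nat_lit 0x2c02077bd1))))))))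

noncomputable def oT243 : Tree :=
  .node 64 (.node 32 (.node 16 (.node 8 (.node 4 (.node 2 (.node 1 (.leaf (nat_lit 0x2c05077bd1)) (.leaf (nat_lit 0x2c07077bd1))) (.node 1 (.leaf (nat_lit 0x2c05077bf1)) (.leaf (nat_lit 0x2c07077bf1)))) (.node 2 (.node 1 (.leaf (nat_lit 0x2c05078ec1)) (.leaf (nat_lit 0x2c05078e51))) (.node 1 (.leaf (nat_lit 0x2c05078e21)) (.leaf (nat_lit 0x2c07077e01))))) (.node 4 (.node 2 (.node 1 (.leaf (nat_lit 0x2c05078e41)) (.leaf (nat_lit 0x2c03077c61))) (.node 1 (.leaf (nat_lit 0x2c05077c61)) (.leaf (nat_lit 0x2c02077c71)))) (.node 2 (.node 1 (.leaf (nat_lit 0x2c03077c91)) (.leaf (nat_lit 0x2c05077c91))) (.node 1 (.leaf (nat_lit 0x2c02077ca1)) (.leaf (nat_lit 0x2c02077cd1)))))) (.node 8 (.node 4 (.node 2 (.node 1 (.leaf (nat_lit 0x2c02077cf1)) (.leaf (nat_lit 0x2c05077cf1))) (.node 1 (.leaf (nat_lit 0x2c03077d31)) (.leaf (nat_lit 0x2c05077d31)))) (.node 2 (.node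 1 (.leaf (nat_lit 0x2c02077d41)) (.leaf (nat_lit 0x2c06077d51))) (.node 1 (.leaf (nat_lit 0x2c03077d71)) (.leaf (nat_lit 0x2c05077d71))))) (.node 4 (.node 2 (.node 1 (.leaf (nat_lit 0x2c02077d81)) (.leaf (nat_lit 0x2c05077d81))) (.node 1 (.leaf (nat_lit 0x2c07077d81)) (.leaf (nat_lit 0x2c06077d91)))) (.node 2 (.node 1 (.leaf (nat_lit 0x2c06077dd1)) (.leaf (nat_lit 0x2c02077df1))) (.node 1 (.leaf (nat_lit 0x2c07077df1)) (.leaf (nat_lit 0x2c02077e21))))))) (.node 16 (.node 8 (.node 4 (.node 2 (.node 1 (.leaf (nat_lit 0x2c05077e21)) (.leaf (nat_lit 0x2c05077e41))) (.node 1 (.leaf (nat_lit 0x2c04077e51)) (.leaf (nat_lit 0x2c08077e71)))) (.node 2 (.node 1 (.leaf (nat_lit 0x2c08077e91)) (.leaf (nat_lit 0x2c06078511))) (.node 1 (.leaf (nat_lit 0x2c06078521)) (.leaf (nat_lit 0x2c02077ee1))))) (.node 4 (.node 2 (.node 1 (.leaf (nat_lit 0x2c05077f01)) (.leaf (nat_lit 0x2c07077f01))) (.node 1 (.leaf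 (nat_lit 0x2c06077f11)) (.leaf (nat_lit 0x2c02077f51)))) (.node 2 (.node 1 (.leaf (nat_lit 0x2c05077f51)) (.leaf (nat_lit 0x2c06077f61))) (.node 1 (.leaf (nat_lit 0x2c05077f71)) (.leaf (nat_lit 0x2c04077f81)))))) (.node 8 (.node 4 (.node 2 (.node 1 (.leaf (nat_lit 0x2c06077f81)) (.leaf (nat_lit 0x2c02077fc1))) (.node 1 (.leaf (nat_lit 0x2c05077fc1)) (.leaf (nat_lit 0x2c07077fc1)))) (.node 2 (.node 1 (.leaf (nat_lit 0x2c06077fd1)) (.leaf (nat_lit 0x2c05077fe1))) (.node 1 (.leaf (nat_lit 0x2c07077fe1)) (.leaf (nat_lit 0x2c06077ff1))))) (.node 4 (.node 2 (.node 1 (.leaf (nat_lit 0x2c07077ff1)) (.leaf (nat_lit 0x2c060782e1))) (.node 1 (.leaf (nat_lit 0x2c01078061)) (.leaf (nat_lit 0x2c07078061)))) (.node 2 (.node 1 (.leaf (nat_lit 0x2c08078071)) (.leaf (nat_lit 0x2c08078081))) (.node 1 (.leaf (nat_lit 0x2c020780b1)) (.leaf (nat_lit 0x2c020780d1)))))))) (.node 32 (.node 16 (.node 8 (.node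 4 (.node 2 (.node 1 (.leaf (nat_lit 0x2c02078101)) (.leaf (nat_lit 0x2c05078101))) (.node 1 (.leaf (nat_lit 0x2c05078121)) (.leaf (nat_lit 0x2c04078131)))) (.node 2 (.node 1 (.leaf (nat_lit 0x2c01078151)) (.leaf (nat_lit 0x2c05078151))) (.node 1 (.leaf (nat_lit 0x2c04078161)) (.leaf (nat_lit 0x2c04078171))))) (.node 4 (.node 2 (.node 1 (.leaf (nat_lit 0x2c020781b1)) (.leaf (nat_lit 0x2c020781d1))) (.node 1 (.leaf (nat_lit 0x2c02078211)) (.leaf (nat_lit 0x2c05078211)))) (.node 2 (.node 1 (.leaf (nat_lit 0x2c07078211)) (.leaf (nat_lit 0x2c05078231))) (.node 1 (.leaf (nat_lit 0x2c07078231)) (.leaf (nat_lit 0x2c07078241)))))) (.node 8 (.node 4 (.node 2 (.node 1 (.leaf (nat_lit 0x2c01078271)) (.leaf (nat_lit 0x2c05078271))) (.node 1 (.leaf (nat_lit 0x2c07078271)) (.leaf (nat_lit 0x2c04078281)))) (.node 2 (.node 1 (.leaf (nat_lit 0x2c08078291)) (.leaf (nat_lit 0x2c040782a1))) (.node 1 (.leaf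 (nat_lit 0x2c080782b1)) (.leaf (nat_lit 0x2c06078301))))) (.node 4 (.node 2 (.node 1 (.leaf (nat_lit 0x2c02078341)) (.leaf (nat_lit 0x2c01078361))) (.node 1 (.leaf (nat_lit 0x2c02078371)) (.leaf (nat_lit 0x2c01078391)))) (.node 2 (.node 1 (.leaf (nat_lit 0x2c010783a1)) (.leaf (nat_lit 0x2c020783b1))) (.node 1 (.leaf (nat_lit 0x2c04078b01)) (.leaf (nat_lit 0x2c04078b11))))))) (.node 16 (.node 8 (.node 4 (.node 2 (.node 1 (.leaf (nat_lit 0x2c020783e1)) (.leaf (nat_lit 0x2c050783e1))) (.node 1 (.leaf (nat_lit 0x2c070783e1)) (.leaf (nat_lit 0x2c060783f1)))) (.node 2 (.node 1 (.leaf (nat_lit 0x2c05078401)) (.leaf (nat_lit 0x2c07078401))) (.node 1 (.leaf (nat_lit 0x2c01078451)) (.leaf (nat_lit 0x2c07078451))))) (.node 4 (.node 2 (.node 1 (.leaf (nat_lit 0x2c02078481)) (.leaf (nat_lit 0x2c04078c71))) (.node 1 (.leaf (nat_lit 0x2c020784e1)) (.leaf (nat_lit 0x2e01078501)))) (.node 2 (.node 1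 (.leaf (nat_lit 0x2c05078c91)) (.leaf (nat_lit 0x2c02078541))) (.node 1 (.leaf (nat_lit 0x2c07078541)) (.leaf (nat_lit 0x2c07078551)))))) (.node 8 (.node 4 (.node 2 (.node 1 (.leaf (nat_lit 0x2c01078571)) (.leaf (nat_lit 0x2c07078571))) (.node 1 (.leaf (nat_lit 0x2c020785a1)) (.leaf (nat_lit 0x2c020785c1)))) (.node 2 (.node 1 (.leaf (nat_lit 0x2c06078601)) (.leaf (nat_lit 0x2c06078611))) (.node 1 (.leaf (nat_lit 0x2e010785f1)) (.leaf (nat_lit 0x2c05078dc1))))) (.node 4 (.node 2 (.node 1 (.leaf (nat_lit 0x2c05078da1)) (.leaf (nat_lit 0x2c05078db1))) (.node 1 (.leaf (nat_lit 0x2c05078631)) (.leaf (nat_lit 0x2c07078631)))) (.node 2 (.node 1 (.leaf (nat_lit 0x2c02078671)) (.leaf (nat_lit 0x2c040786a1))) (.node 1 (.leaf (nat_lit 0x2c020786d1)) (.leaf (nat_lit 0x2c050786d1))))))))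

noncomputable def oT244 : Tree :=
  .node 64 (.node 32 (.node 16 (.node 8 (.node 4 (.node 2 (.node 1 (.leaf (nat_lit 0x2c070786d1)) (.leaf (nat_lit 0x2c060786e1))) (.node 1 (.leaf (nat_lit 0x2c050786f1)) (.leaf (nat_lit 0x2c070786f1)))) (.node 2 (.node 1 (.leaf (nat_lit 0x2c01078731)) (.leaf (nat_lit 0x2c05078731))) (.node 1 (.leaf (nat_lit 0x2c07078731)) (.leaf (nat_lit 0x2c01078791))))) (.node 4 (.node 2 (.node 1 (.leaf (nat_lit 0x2c07078791)) (.leaf (nat_lit 0x2c080787a1))) (.node 1 (.leaf (nat_lit 0x2c080787b1)) (.leaf (nat_lit 0x2c070787d1)))) (.node 2 (.node 1 (.leaf (nat_lit 0x2c030787e1)) (.leaf (nat_lit 0x2c080787e1))) (.node 1 (.leaf (nat_lit 0x2c08078801)) (.leaf (nat_lit 0x2c02078821)))))) (.node 8 (.node 4 (.node 2 (.node 1 (.leaf (nat_lit 0x2e01078841)) (.leaf (nat_lit 0x2c02078851))) (.node 1 (.leaf (nat_lit 0x2c060788b1)) (.leaf (nat_lit 0x2c080788e1)))) (.node 2 (.node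 1 (.leaf (nat_lit 0x2c02078911)) (.leaf (nat_lit 0x2e01078931))) (.node 1 (.leaf (nat_lit 0x2e0707abf1)) (.leaf (nat_lit 0x2e01078961))))) (.node 4 (.node 2 (.node 1 (.leaf (nat_lit 0x2c02078971)) (.leaf (nat_lit 0x2e0507ab21))) (.node 1 (.leaf (nat_lit 0x2c05078d11)) (.leaf (nat_lit 0x2c05078cf1)))) (.node 2 (.node 1 (.leaf (nat_lit 0x2c05078d01)) (.leaf (nat_lit 0x2c070789e1))) (.node 1 (.leaf (nat_lit 0x2c06078a21)) (.leaf (nat_lit 0x2c01078a61))))))) (.node 16 (.node 8 (.node 4 (.node 2 (.node 1 (.leaf (nat_lit 0x2e02078a71)) (.leaf (nat_lit 0x2c02078aa1))) (.node 1 (.leaf (nat_lit 0x2c05078aa1)) (.leaf (nat_lit 0x2c07078aa1)))) (.node 2 (.node 1 (.leaf (nat_lit 0x2c05078ac1)) (.leaf (nat_lit 0x2c07078ac1))) (.node 1 (.leaf (nat_lit 0x2c01078af1)) (.leaf (nat_lit 0x2c05078af1))))) (.node 4 (.node 2 (.node 1 (.leaf (nat_lit 0x2c01078b21)) (.leaf (nat_lit 0x2c07078b21))) (.node 1 (.leaf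 (nat_lit 0x2c08078b31)) (.leaf (nat_lit 0x2c08078b41)))) (.node 2 (.node 1 (.leaf (nat_lit 0x2c05078b61)) (.leaf (nat_lit 0x2c07078b61))) (.node 1 (.leaf (nat_lit 0x2c04078b71)) (.leaf (nat_lit 0x2c08078b81)))))) (.node 8 (.node 4 (.node 2 (.node 1 (.leaf (nat_lit 0x2c01078bf1)) (.leaf (nat_lit 0x2c01078c01))) (.node 1 (.leaf (nat_lit 0x2e01078c11)) (.leaf (nat_lit 0x2c05078e91)))) (.node 2 (.node 1 (.leaf (nat_lit 0x2c05078e61)) (.leaf (nat_lit 0x2c05078e81))) (.node 1 (.leaf (nat_lit 0x2c02078c51)) (.leaf (nat_lit 0x2c01078c81))))) (.node 4 (.node 2 (.node 1 (.leaf (nat_lit 0x2c01078c91)) (.leaf (nat_lit 0x2c07078d31))) (.node 1 (.leaf (nat_lit 0x2c07078eb1)) (.leaf (nat_lit 0x2c02078cf1)))) (.node 2 (.node 1 (.leaf (nat_lit 0x2c01078d11)) (.leaf (nat_lit 0x2c01078d21))) (.node 1 (.leaf (nat_lit 0x2c01078d31)) (.leaf (nat_lit 0x2e01078d51)))))))) (.node 32 (.node 16 (.node 8 (.node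 4 (.node 2 (.node 1 (.leaf (nat_lit 0x2e07078d61)) (.leaf (nat_lit 0x2e0507abe1))) (.node 1 (.leaf (nat_lit 0x2c02078da1)) (.leaf (nat_lit 0x2c01078dc1)))) (.node 2 (.node 1 (.leaf (nat_lit 0x2c01078de1)) (.leaf (nat_lit 0x2c01078df1))) (.node 1 (.leaf (nat_lit 0x2c01078e01)) (.leaf (nat_lit 0x2c02078e21))))) (.node 4 (.node 2 (.node 1 (.leaf (nat_lit 0x2c01078e51)) (.leaf (nat_lit 0x2c02078e61))) (.node 1 (.leaf (nat_lit 0x2c01078e91)) (.leaf (nat_lit 0x2c01078ea1)))) (.node 2 (.node 1 (.leaf (nat_lit 0x2c01078eb1)) (.leaf (nat_lit 0x2e01078ed1))) (.node 1 (.leaf (nat_lit 0x2c01078ee1)) (.leaf (nat_lit 0x2e01078f01)))))) (.node 8 (.node 4 (.node 2 (.node 1 (.leaf (nat_lit 0x2c01078f11)) (.leaf (nat_lit 0x2e01078f41))) (.node 1 (.leaf (nat_lit 0x2c01078f61)) (.leaf (nat_lit 0x2c07078f61)))) (.node 2 (.node 1 (.leaf (nat_lit 0x2c08078f71)) (.leaf (nat_lit 0x2c08078f81))) (.node 1 (.leaf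 (nat_lit 0x2c02078fb1)) (.leaf (nat_lit 0x2c01078fd1))))) (.node 4 (.node 2 (.node 1 (.leaf (nat_lit 0x2c01078fe1)) (.leaf (nat_lit 0x2e0507ac01))) (.node 1 (.leaf (nat_lit 0x2d02079051)) (.leaf (nat_lit 0x2d050795c1)))) (.node 2 (.node 1 (.leaf (nat_lit 0x2d050795d1)) (.leaf (nat_lit 0x2d05079081))) (.node 1 (.leaf (nat_lit 0x2d06079091)) (.leaf (nat_lit 0x2d020790c1))))))) (.node 16 (.node 8 (.node 4 (.node 2 (.node 1 (.leaf (nat_lit 0x2d050790c1)) (.leaf (nat_lit 0x2d060790d1))) (.node 1 (.leaf (nat_lit 0x2d050790e1)) (.leaf (nat_lit 0x2d040790f1)))) (.node 2 (.node 1 (.leaf (nat_lit 0x2d060790f1)) (.leaf (nat_lit 0x2d02079131))) (.node 1 (.leaf (nat_lit 0x2d05079131)) (.leaf (nat_lit 0x2d07079131))))) (.node 4 (.node 2 (.node 1 (.leaf (nat_lit 0x2d06079141)) (.leaf (nat_lit 0x2d05079151))) (.node 1 (.leaf (nat_lit 0x2d07079151)) (.leaf (nat_lit 0x2d06079161)))) (.node 2 (.node 1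 (.leaf (nat_lit 0x2d07079161)) (.leaf (nat_lit 0x2d010791c1))) (.node 1 (.leaf (nat_lit 0x2d070791c1)) (.leaf (nat_lit 0x2d080791d1)))))) (.node 8 (.node 4 (.node 2 (.node 1 (.leaf (nat_lit 0x2d080791e1)) (.leaf (nat_lit 0x2d02079201))) (.node 1 (.leaf (nat_lit 0x2d07079241)) (.leaf (nat_lit 0x2d07079251)))) (.node 2 (.node 1 (.leaf (nat_lit 0x2d02079291)) (.leaf (nat_lit 0x2d05079291))) (.node 1 (.leaf (nat_lit 0x2d050792b1)) (.leaf (nat_lit 0x2d040792c1))))) (.node 4 (.node 2 (.node 1 (.leaf (nat_lit 0x2d010792e1)) (.leaf (nat_lit 0x2d050792e1))) (.node 1 (.leaf (nat_lit 0x2d040792f1)) (.leaf (nat_lit 0x2d04079301)))) (.node 2 (.node 1 (.leaf (nat_lit 0x2d02079341)) (.leaf (nat_lit 0x2d05079341))) (.node 1 (.leaf (nat_lit 0x2d07079341)) (.leaf (nat_lit 0x2d05079361))))))))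

noncomputable def oT245 : Tree :=
  .node 64 (.node 32 (.node 16 (.node 8 (.node 4 (.node 2 (.node 1 (.leaf (nat_lit 0x2d07079361)) (.leaf (nat_lit 0x2d07079371))) (.node 1 (.leaf (nat_lit 0x2d010793a1)) (.leaf (nat_lit 0x2d050793a1)))) (.node 2 (.node 1 (.leaf (nat_lit 0x2d070793a1)) (.leaf (nat_lit 0x2d080793c1))) (.node 1 (.leaf (nat_lit 0x2d080793e1)) (.leaf (nat_lit 0x2d02079421))))) (.node 4 (.node 2 (.node 1 (.leaf (nat_lit 0x2d01079441)) (.leaf (nat_lit 0x2d01079451))) (.node 1 (.leaf (nat_lit 0x2d01079461)) (.leaf (nat_lit 0x2d01079471)))) (.node 2 (.node 1 (.leaf (nat_lit 0x2d05079c91)) (.leaf (nat_lit 0x2d05079891))) (.node 1 (.leaf (nat_lit 0x2d050798b1)) (.leaf (nat_lit 0x2d020794c1)))))) (.node 8 (.node 4 (.node 2 (.node 1 (.leaf (nat_lit 0x2d04079cb1)) (.leaf (nat_lit 0x2d07079561))) (.node 1 (.leaf (nat_lit 0x2d04079cd1)) (.leaf (nat_lit 0x2d07079c01)))) (.node 2 (.node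 1 (.leaf (nat_lit 0x2d07079c11)) (.leaf (nat_lit 0x2d04079561))) (.node 1 (.leaf (nat_lit 0x2d07079c21)) (.leaf (nat_lit 0x2d02079571))))) (.node 4 (.node 2 (.node 1 (.leaf (nat_lit 0x2d05079571)) (.leaf (nat_lit 0x2d05079591))) (.node 1 (.leaf (nat_lit 0x2d010795b1)) (.leaf (nat_lit 0x2d020795c1)))) (.node 2 (.node 1 (.leaf (nat_lit 0x2d010795f1)) (.leaf (nat_lit 0x2d050795f1))) (.node 1 (.leaf (nat_lit 0x2d04079601)) (.leaf (nat_lit 0x2d04079611))))))) (.node 16 (.node 8 (.node 4 (.node 2 (.node 1 (.leaf (nat_lit 0x2d01079631)) (.leaf (nat_lit 0x2d05079631))) (.node 1 (.leaf (nat_lit 0x2d07079631)) (.leaf (nat_lit 0x2d07079641)))) (.node 2 (.node 1 (.leaf (nat_lit 0x2d07079661)) (.leaf (nat_lit 0x2d07079691))) (.node 1 (.leaf (nat_lit 0x2d080796a1)) (.leaf (nat_lit 0x2d020796d1))))) (.node 4 (.node 2 (.node 1 (.leaf (nat_lit 0x2d050796d1)) (.leaf (nat_lit 0x2d070796d1))) (.node 1 (.leaf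 (nat_lit 0x2d050796f1)) (.leaf (nat_lit 0x2d070796f1)))) (.node 2 (.node 1 (.leaf (nat_lit 0x2d0507a4c1)) (.leaf (nat_lit 0x2d07079721))) (.node 1 (.leaf (nat_lit 0x2d05079921)) (.leaf (nat_lit 0x2d05079941)))))) (.node 8 (.node 4 (.node 2 (.node 1 (.leaf (nat_lit 0x2d0507a281)) (.leaf (nat_lit 0x2d01079771))) (.node 1 (.leaf (nat_lit 0x2d01079781)) (.leaf (nat_lit 0x2d05079791)))) (.node 2 (.node 1 (.leaf (nat_lit 0x2d040797a1)) (.leaf (nat_lit 0x2d020797d1))) (.node 1 (.leaf (nat_lit 0x2d010797f1)) (.leaf (nat_lit 0x2d050797f1))))) (.node 4 (.node 2 (.node 1 (.leaf (nat_lit 0x2d070797f1)) (.leaf (nat_lit 0x2d0507a481))) (.node 1 (.leaf (nat_lit 0x2d070799d1)) (.leaf (nat_lit 0x2d0507a471)))) (.node 2 (.node 1 (.leaf (nat_lit 0x2d07079981)) (.leaf (nat_lit 0x2d02079891))) (.node 1 (.leaf (nat_lit 0x2d020798c1)) (.leaf (nat_lit 0x2d010798f1)))))))) (.node 32 (.node 16 (.node 8 (.node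 4 (.node 2 (.node 1 (.leaf (nat_lit 0x2d01079901)) (.leaf (nat_lit 0x2d02079921))) (.node 1 (.leaf (nat_lit 0x2d06079931)) (.leaf (nat_lit 0x2d02079961)))) (.node 2 (.node 1 (.leaf (nat_lit 0x2d05079961)) (.leaf (nat_lit 0x2d07079961))) (.node 1 (.leaf (nat_lit 0x2d06079971)) (.leaf (nat_lit 0x2d05079981))))) (.node 4 (.node 2 (.node 1 (.leaf (nat_lit 0x2d010799d1)) (.leaf (nat_lit 0x2d010799f1))) (.node 1 (.leaf (nat_lit 0x2d050799f1)) (.leaf (nat_lit 0x2d04079a01)))) (.node 2 (.node 1 (.leaf (nat_lit 0x2d04079a11)) (.leaf (nat_lit 0x2d06079ec1))) (.node 1 (.leaf (nat_lit 0x2d01079a71)) (.leaf (nat_lit 0x2d01079ab1)))))) (.node 8 (.node 4 (.node 2 (.node 1 (.leaf (nat_lit 0x2d05079ab1)) (.leaf (nat_lit 0x2d04079ac1))) (.node 1 (.leaf (nat_lit 0x2d06079ac1)) (.leaf (nat_lit 0x2d04079ae1)))) (.node 2 (.node 1 (.leaf (nat_lit 0x2d06079ae1)) (.leaf (nat_lit 0x2d01079b11))) (.node 1 (.leaf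 (nat_lit 0x2d05079b11)) (.leaf (nat_lit 0x2d07079b11))))) (.node 4 (.node 2 (.node 1 (.leaf (nat_lit 0x2d06079b21)) (.leaf (nat_lit 0x2d07079b21))) (.node 1 (.leaf (nat_lit 0x2d06079b51)) (.leaf (nat_lit 0x2d07079b51)))) (.node 2 (.node 1 (.leaf (nat_lit 0x2d07079ba1)) (.leaf (nat_lit 0x2d08079bb1))) (.node 1 (.leaf (nat_lit 0x2d01079be1)) (.leaf (nat_lit 0x2d01079bf1))))))) (.node 16 (.node 8 (.node 4 (.node 2 (.node 1 (.leaf (nat_lit 0x2d01079c01)) (.leaf (nat_lit 0x2d05079c01))) (.node 1 (.leaf (nat_lit 0x2d04079c11)) (.leaf (nat_lit 0x2d04079c21)))) (.node 2 (.node 1 (.leaf (nat_lit 0x2d05079c41)) (.leaf (nat_lit 0x2d04079c51))) (.node 1 (.leaf (nat_lit 0x2d01079c81)) (.leaf (nat_lit 0x2d01079c91))))) (.node 4 (.node 2 (.node 1 (.leaf (nat_lit 0x2d01079ca1)) (.leaf (nat_lit 0x2d05079ca1))) (.node 1 (.leaf (nat_lit 0x2d07079ca1)) (.leaf (nat_lit 0x2d07079cb1)))) (.node 2 (.node 1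 (.leaf (nat_lit 0x2d07079cd1)) (.leaf (nat_lit 0x2d05079d01))) (.node 1 (.leaf (nat_lit 0x2d07079d01)) (.leaf (nat_lit 0x2d04079d11)))))) (.node 8 (.node 4 (.node 2 (.node 1 (.leaf (nat_lit 0x2d08079d21)) (.leaf (nat_lit 0x2d01079d81))) (.node 1 (.leaf (nat_lit 0x2d01079da1)) (.leaf (nat_lit 0x2d01079dd1)))) (.node 2 (.node 1 (.leaf (nat_lit 0x2d0407a271)) (.leaf (nat_lit 0x2d01079e01))) (.node 1 (.leaf (nat_lit 0x2d05079e01)) (.leaf (nat_lit 0x2d07079e01))))) (.node 4 (.node 2 (.node 1 (.leaf (nat_lit 0x2d07079e61)) (.leaf (nat_lit 0x2d01079e81))) (.node 1 (.leaf (nat_lit 0x2d01079ea1)) (.leaf (nat_lit 0x2d0507a381)))) (.node 2 (.node 1 (.leaf (nat_lit 0x2d01079ed1)) (.leaf (nat_lit 0x2d07079ed1))) (.node 1 (.leaf (nat_lit 0x2d07079f01)) (.leaf (nat_lit 0x2d01079f21))))))))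

noncomputable def oT246 : Tree :=
  .node 64 (.node 32 (.node 16 (.node 8 (.node 4 (.node 2 (.node 1 (.leaf (nat_lit 0x2d01079f31)) (.leaf (nat_lit 0x2d06079f71))) (.node 1 (.leaf (nat_lit 0x2d0507a431)) (.leaf (nat_lit 0x2d0507a421)))) (.node 2 (.node 1 (.leaf (nat_lit 0x2d01079fc1)) (.leaf (nat_lit 0x2d01079fe1))) (.node 1 (.leaf (nat_lit 0x2d05079fe1)) (.leaf (nat_lit 0x2d07079fe1))))) (.node 4 (.node 2 (.node 1 (.leaf (nat_lit 0x2d0507a041)) (.leaf (nat_lit 0x2d0707a041))) (.node 1 (.leaf (nat_lit 0x2d0707a071)) (.leaf (nat_lit 0x2d0807a081)))) (.node 2 (.node 1 (.leaf (nat_lit 0x2d0307a0b1)) (.leaf (nat_lit 0x2d0807a0b1))) (.node 1 (.leaf (nat_lit 0x2d0807a0c1)) (.leaf (nat_lit 0x2d0107a0f1)))))) (.node 8 (.node 4 (.node 2 (.node 1 (.leaf (nat_lit 0x2d0107a111)) (.leaf (nat_lit 0x2d0107a141))) (.node 1 (.leaf (nat_lit 0x2d0107a181)) (.leaf (nat_lit 0x2d0507a3c1)))) (.node 2 (.node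 1 (.leaf (nat_lit 0x2d0507a3b1)) (.leaf (nat_lit 0x2f0107a201))) (.node 1 (.leaf (nat_lit 0x2d0107a211)) (.leaf (nat_lit 0x2d0507a211))))) (.node 4 (.node 2 (.node 1 (.leaf (nat_lit 0x2d0707a211)) (.leaf (nat_lit 0x2d0507a261))) (.node 1 (.leaf (nat_lit 0x2d0707a281)) (.leaf (nat_lit 0x2d0807a291)))) (.node 2 (.node 1 (.leaf (nat_lit 0x2d0407a2c1)) (.leaf (nat_lit 0x2d0807a2d1))) (.node 1 (.leaf (nat_lit 0x2d0507a4a1)) (.leaf (nat_lit 0x2d0507a491))))))) (.node 16 (.node 8 (.node 4 (.node 2 (.node 1 (.leaf (nat_lit 0x2d0107a361)) (.leaf (nat_lit 0x2d0707a3e1))) (.node 1 (.leaf (nat_lit 0x2d0707a4c1)) (.leaf (nat_lit 0x2d0107a3b1)))) (.node 2 (.node 1 (.leaf (nat_lit 0x2f0507b681)) (.leaf (nat_lit 0x2d0107a421))) (.node 1 (.leaf (nat_lit 0x2d0107a471)) (.leaf (nat_lit 0x2d0107a491))))) (.node 4 (.node 2 (.node 1 (.leaf (nat_lit 0x2d0707a521)) (.leaf (nat_lit 0x2d0807a531))) (.node 1 (.leaf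 (nat_lit 0x2d0107a561)) (.leaf (nat_lit 0x2e0107a5a1)))) (.node 2 (.node 1 (.leaf (nat_lit 0x2e0507a9b1)) (.leaf (nat_lit 0x2e0107a5f1))) (.node 1 (.leaf (nat_lit 0x2e0507a5f1)) (.leaf (nat_lit 0x2e0407a601)))))) (.node 8 (.node 4 (.node 2 (.node 1 (.leaf (nat_lit 0x2e0607a601)) (.leaf (nat_lit 0x2e0407a621))) (.node 1 (.leaf (nat_lit 0x2e0607a621)) (.leaf (nat_lit 0x2e0107a651)))) (.node 2 (.node 1 (.leaf (nat_lit 0x2e0507a651)) (.leaf (nat_lit 0x2e0707a651))) (.node 1 (.leaf (nat_lit 0x2e0607a661)) (.leaf (nat_lit 0x2e0707a661))))) (.node 4 (.node 2 (.node 1 (.leaf (nat_lit 0x2e0607a691)) (.leaf (nat_lit 0x2e0707a691))) (.node 1 (.leaf (nat_lit 0x2e0707a6d1)) (.leaf (nat_lit 0x2e0807a6e1)))) (.node 2 (.node 1 (.leaf (nat_lit 0x2e0107a711)) (.leaf (nat_lit 0x2e0107a741))) (.node 1 (.leaf (nat_lit 0x2e0507a741)) (.leaf (nat_lit 0x2e0407a751)))))))) (.node 32 (.node 16 (.node 8 (.node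 4 (.node 2 (.node 1 (.leaf (nat_lit 0x2e0407a761)) (.leaf (nat_lit 0x2e0507a781))) (.node 1 (.leaf (nat_lit 0x2e0407a791)) (.leaf (nat_lit 0x2e0107a7c1)))) (.node 2 (.node 1 (.leaf (nat_lit 0x2e0507a7c1)) (.leaf (nat_lit 0x2e0707a7c1))) (.node 1 (.leaf (nat_lit 0x2e0707a7d1)) (.leaf (nat_lit 0x2e0707a7f1))))) (.node 4 (.node 2 (.node 1 (.leaf (nat_lit 0x2e0507a821)) (.leaf (nat_lit 0x2e0707a821))) (.node 1 (.leaf (nat_lit 0x2e0807a841)) (.leaf (nat_lit 0x2e0107a871)))) (.node 2 (.node 1 (.leaf (nat_lit 0x2e0507ae71)) (.leaf (nat_lit 0x2e0507abd1))) (.node 1 (.leaf (nat_lit 0x2e0107a8f1)) (.leaf (nat_lit 0x2e0407ae91)))))) (.node 8 (.node 4 (.node 2 (.node 1 (.leaf (nat_lit 0x2e0707ae01)) (.leaf (nat_lit 0x2e0707ae11))) (.node 1 (.leaf (nat_lit 0x2e0107a971)) (.leaf (nat_lit 0x2e0507a971)))) (.node 2 (.node 1 (.leaf (nat_lit 0x2e0107a9b1)) (.leaf (nat_lit 0x2e0507a9c1))) (.node 1 (.leaf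 (nat_lit 0x2e0407a9d1)) (.leaf (nat_lit 0x2e0507aa01))))) (.node 4 (.node 2 (.node 1 (.leaf (nat_lit 0x2e0707aa01)) (.leaf (nat_lit 0x2e0707aa11))) (.node 1 (.leaf (nat_lit 0x2e0807aa51)) (.leaf (nat_lit 0x2e0107aa71)))) (.node 2 (.node 1 (.leaf (nat_lit 0x2e0507aa71)) (.leaf (nat_lit 0x2e0707aa71))) (.node 1 (.leaf (nat_lit 0x2e0707aac1)) (.leaf (nat_lit 0x2e0507ac11))))))) (.node 16 (.node 8 (.node 4 (.node 2 (.node 1 (.leaf (nat_lit 0x2e0407ab31)) (.leaf (nat_lit 0x2e0107ab51))) (.node 1 (.leaf (nat_lit 0x2e0507ab61)) (.leaf (nat_lit 0x2e0707ab61)))) (.node 2 (.node 1 (.leaf (nat_lit 0x2e0707ac81)) (.leaf (nat_lit 0x2e0507b261))) (.node 1 (.leaf (nat_lit 0x2e0707ac31)) (.leaf (nat_lit 0x2e0107abd1))))) (.node 4 (.node 2 (.node 1 (.leaf (nat_lit 0x2e0107abe1)) (.leaf (nat_lit 0x2e0107ac11))) (.node 1 (.leaf (nat_lit 0x2e0107ac31)) (.leaf (nat_lit 0x2e0507ac31)))) (.node 2 (.node 1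 (.leaf (nat_lit 0x2e0507ac91)) (.leaf (nat_lit 0x2e0407aca1))) (.node 1 (.leaf (nat_lit 0x2e0607afb1)) (.leaf (nat_lit 0x2e0507acf1)))))) (.node 8 (.node 4 (.node 2 (.node 1 (.leaf (nat_lit 0x2e0407ad01)) (.leaf (nat_lit 0x2e0607ad01))) (.node 1 (.leaf (nat_lit 0x2e0507ad51)) (.leaf (nat_lit 0x2e0707ad51)))) (.node 2 (.node 1 (.leaf (nat_lit 0x2e0607ad61)) (.leaf (nat_lit 0x2e0707ad61))) (.node 1 (.leaf (nat_lit 0x2e0807adc1)) (.leaf (nat_lit 0x2e0507ae01))))) (.node 4 (.node 2 (.node 1 (.leaf (nat_lit 0x2e0407ae11)) (.leaf (nat_lit 0x2e0407ae41))) (.node 1 (.leaf (nat_lit 0x2e0507ae81)) (.leaf (nat_lit 0x2e0707ae81)))) (.node 2 (.node 1 (.leaf (nat_lit 0x2e0707ae91)) (.leaf (nat_lit 0x2e0407aed1))) (.node 1 (.leaf (nat_lit 0x2e0807aee1)) (.leaf (nat_lit 0x2e0407b191))))))))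

noncomputable def oT247 : Tree :=
  .node 27 (.node 13 (.node 6 (.node 3 (.node 1 (.leaf (nat_lit 0x2e0507af51)) (.node 1 (.leaf (nat_lit 0x2e0707af51)) (.leaf (nat_lit 0x2e0707afc1)))) (.node 1 (.leaf (nat_lit 0x2e0607b021)) (.node 1 (.leaf (nat_lit 0x2e0507b251)) (.leaf (nat_lit 0x2e0507b051))))) (.node 3 (.node 1 (.leaf (nat_lit 0x2e0707b051)) (.node 1 (.leaf (nat_lit 0x2e0807b0a1)) (.leaf (nat_lit 0x2e0807b0c1)))) (.node 2 (.node 1 (.leaf (nat_lit 0x2e0507b231)) (.leaf (nat_lit 0x2e0507b161))) (.node 1 (.leaf (nat_lit 0x2e0707b161)) (.leaf (nat_lit 0x2e0807b1a1)))))) (.node 7 (.node 3 (.node 1 (.leaf (nat_lit 0x2e0507b271)) (.node 1 (.leaf (nat_lit 0x2e0807b281)) (.leaf (nat_lit 0x2f0507b541)))) (.node 2 (.node 1 (.leaf (nat_lit 0x2f0507b2d1)) (.leaf (nat_lit 0x2f0407b2e1))) (.node 1 (.leaf (nat_lit 0x2f0607b2e1)) (.leaf (nat_lit 0x2f0507b331))))) (.node 3 (.node 1 (.leaf (nat_lit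 0x2f0707b331)) (.node 1 (.leaf (nat_lit 0x2f0607b341)) (.leaf (nat_lit 0x2f0707b341)))) (.node 2 (.node 1 (.leaf (nat_lit 0x2f0807b3a1)) (.leaf (nat_lit 0x2f0507b3d1))) (.node 1 (.leaf (nat_lit 0x2f0407b3e1)) (.leaf (nat_lit 0x2f0407b411))))))) (.node 14 (.node 7 (.node 3 (.node 1 (.leaf (nat_lit 0x2f0507b431)) (.node 1 (.leaf (nat_lit 0x2f0707b431)) (.leaf (nat_lit 0x2f0707b441)))) (.node 2 (.node 1 (.leaf (nat_lit 0x2f0807b491)) (.leaf (nat_lit 0x2f0507b671))) (.node 1 (.leaf (nat_lit 0x2f0407b7a1)) (.leaf (nat_lit 0x2f0707b771))))) (.node 3 (.node 1 (.leaf (nat_lit 0x2f0507b521)) (.node 1 (.leaf (nat_lit 0x2f0407b551)) (.leaf (nat_lit 0x2f0707b571)))) (.node 2 (.node 1 (.leaf (nat_lit 0x2f0507b5b1)) (.leaf (nat_lit 0x2f0707b5b1))) (.node 1 (.leaf (nat_lit 0x2f0507b691)) (.leaf (nat_lit 0x2f0707b6a1)))))) (.node 7 (.node 3 (.node 1 (.leaf (nat_lit 0x2f0507b6a1)) (.node 1 (.leaf (nat_lit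 0x2f0407b6c1)) (.leaf (nat_lit 0x2f0407b6f1)))) (.node 2 (.node 1 (.leaf (nat_lit 0x2f0607b6f1)) (.leaf (nat_lit 0x2f0607b721))) (.node 1 (.leaf (nat_lit 0x2f0707b721)) (.leaf (nat_lit 0x2f0407b771))))) (.node 3 (.node 1 (.leaf (nat_lit 0x2f0707b7a1)) (.node 1 (.leaf (nat_lit 0x300407b901)) (.leaf (nat_lit 0x300607b901)))) (.node 2 (.node 1 (.leaf (nat_lit 0x300607b931)) (.leaf (nat_lit 0x300707b931))) (.node 1 (.leaf (nat_lit 0x300407b981)) (.leaf (nat_lit 0x300707b9b1)))))))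

noncomputable def oT : Tree :=
  .node 15872 (.node 7936 (.node 3968 (.node 1920 (.node 896 (.node 384 (.node 128 (oT0) (.node 128 (oT1) (oT2))) (.node 256 (.node 128 (oT3) (oT4)) (.node 128 (oT5) (oT6)))) (.node 512 (.node 256 (.node 128 (oT7) (oT8)) (.node 128 (oT9) (oT10))) (.node 256 (.node 128 (oT11) (oT12)) (.node 128 (oT13) (oT14))))) (.node 1024 (.node 512 (.node 256 (.node 128 (oT15) (oT16)) (.node 128 (oT17) (oT18))) (.node 256 (.node 128 (oT19) (oT20)) (.node 128 (oT21) (oT22)))) (.node 512 (.node 256 (.node 128 (oT23) (oT24)) (.node 128 (oT25) (oT26))) (.node 256 (.node 128 (oT27) (oT28)) (.node 128 (oT29) (oT30)))))) (.node 1920 (.node 896 (.node 384 (.node 128 (oT31) (.node 128 (oT32) (oT33))) (.node 256 (.node 128 (oT34) (oT35)) (.node 128 (oT36) (oT37)))) (.node 512 (.node 256 (.node 128 (oT38) (oT39)) (.node 128 (oT40) (oT41))) (.node 256 (.node 128 (oT42) (oT43)) (.node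 128 (oT44) (oT45))))) (.node 1024 (.node 512 (.node 256 (.node 128 (oT46) (oT47)) (.node 128 (oT48) (oT49))) (.node 256 (.node 128 (oT50) (oT51)) (.node 128 (oT52) (oT53)))) (.node 512 (.node 256 (.node 128 (oT54) (oT55)) (.node 128 (oT56) (oT57))) (.node 256 (.node 128 (oT58) (oT59)) (.node 128 (oT60) (oT61))))))) (.node 3968 (.node 1920 (.node 896 (.node 384 (.node 128 (oT62) (.node 128 (oT63) (oT64))) (.node 256 (.node 128 (oT65) (oT66)) (.node 128 (oT67) (oT68)))) (.node 512 (.node 256 (.node 128 (oT69) (oT70)) (.node 128 (oT71) (oT72))) (.node 256 (.node 128 (oT73) (oT74)) (.node 128 (oT75) (oT76))))) (.node 1024 (.node 512 (.node 256 (.node 128 (oT77) (oT78)) (.node 128 (oT79) (oT80))) (.node 256 (.node 128 (oT81) (oT82)) (.node 128 (oT83) (oT84)))) (.node 512 (.node 256 (.node 128 (oT85) (oT86)) (.node 128 (oT87) (oT88))) (.node 256 (.node 128 (oT89) (oT90)) (.node 128 (oT91)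 (oT92)))))) (.node 1920 (.node 896 (.node 384 (.node 128 (oT93) (.node 128 (oT94) (oT95))) (.node 256 (.node 128 (oT96) (oT97)) (.node 128 (oT98) (oT99)))) (.node 512 (.node 256 (.node 128 (oT100) (oT101)) (.node 128 (oT102) (oT103))) (.node 256 (.node 128 (oT104) (oT105)) (.node 128 (oT106) (oT107))))) (.node 1024 (.node 512 (.node 256 (.node 128 (oT108) (oT109)) (.node 128 (oT110) (oT111))) (.node 256 (.node 128 (oT112) (oT113)) (.node 128 (oT114) (oT115)))) (.node 512 (.node 256 (.node 128 (oT116) (oT117)) (.node 128 (oT118) (oT119))) (.node 256 (.node 128 (oT120) (oT121)) (.node 128 (oT122) (oT123)))))))) (.node 7936 (.node 3968 (.node 1920 (.node 896 (.node 384 (.node 128 (oT124) (.node 128 (oT125) (oT126))) (.node 256 (.node 128 (oT127) (oT128)) (.node 128 (oT129) (oT130)))) (.node 512 (.node 256 (.node 128 (oT131) (oT132)) (.node 128 (oT133) (oT134))) (.node 256 (.node 128 (oT135)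 (oT136)) (.node 128 (oT137) (oT138))))) (.node 1024 (.node 512 (.node 256 (.node 128 (oT139) (oT140)) (.node 128 (oT141) (oT142))) (.node 256 (.node 128 (oT143) (oT144)) (.node 128 (oT145) (oT146)))) (.node 512 (.node 256 (.node 128 (oT147) (oT148)) (.node 128 (oT149) (oT150))) (.node 256 (.node 128 (oT151) (oT152)) (.node 128 (oT153) (oT154)))))) (.node 1920 (.node 896 (.node 384 (.node 128 (oT155) (.node 128 (oT156) (oT157))) (.node 256 (.node 128 (oT158) (oT159)) (.node 128 (oT160) (oT161)))) (.node 512 (.node 256 (.node 128 (oT162) (oT163)) (.node 128 (oT164) (oT165))) (.node 256 (.node 128 (oT166) (oT167)) (.node 128 (oT168) (oT169))))) (.node 1024 (.node 512 (.node 256 (.node 128 (oT170) (oT171)) (.node 128 (oT172) (oT173))) (.node 256 (.node 128 (oT174) (oT175)) (.node 128 (oT176) (oT177)))) (.node 512 (.node 256 (.node 128 (oT178) (oT179)) (.node 128 (oT180) (oT181))) (.node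 256 (.node 128 (oT182) (oT183)) (.node 128 (oT184) (oT185))))))) (.node 3968 (.node 1920 (.node 896 (.node 384 (.node 128 (oT186) (.node 128 (oT187) (oT188))) (.node 256 (.node 128 (oT189) (oT190)) (.node 128 (oT191) (oT192)))) (.node 512 (.node 256 (.node 128 (oT193) (oT194)) (.node 128 (oT195) (oT196))) (.node 256 (.node 128 (oT197) (oT198)) (.node 128 (oT199) (oT200))))) (.node 1024 (.node 512 (.node 256 (.node 128 (oT201) (oT202)) (.node 128 (oT203) (oT204))) (.node 256 (.node 128 (oT205) (oT206)) (.node 128 (oT207) (oT208)))) (.node 512 (.node 256 (.node 128 (oT209) (oT210)) (.node 128 (oT211) (oT212))) (.node 256 (.node 128 (oT213) (oT214)) (.node 128 (oT215) (oT216)))))) (.node 1920 (.node 896 (.node 384 (.node 128 (oT217) (.node 128 (oT218) (oT219))) (.node 256 (.node 128 (oT220) (oT221)) (.node 128 (oT222) (oT223)))) (.node 512 (.node 256 (.node 128 (oT224) (oT225)) (.node 128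 (oT226) (oT227))) (.node 256 (.node 128 (oT228) (oT229)) (.node 128 (oT230) (oT231))))) (.node 1024 (.node 512 (.node 256 (.node 128 (oT232) (oT233)) (.node 128 (oT234) (oT235))) (.node 256 (.node 128 (oT236) (oT237)) (.node 128 (oT238) (oT239)))) (.node 512 (.node 256 (.node 128 (oT240) (oT241)) (.node 128 (oT242) (oT243))) (.node 256 (.node 128 (oT244) (oT245)) (.node 128 (oT246) (oT247))))))))

/-- The permutation trees, by number. -/
noncomputable def permList : List Tree := [pt0, pt1, pt2, pt3, pt4, pt5, pt6, pt7, pt8, pt9, pt10, pt11, pt12, pt13, pt14, pt15, pt16, pt17, pt18, pt19, pt20, pt21, pt22, pt23, pt24, pt25, pt26, pt27, pt28, pt29]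

/-- The equations between products of the permutations. -/
def eqns : List (List ℕ × List ℕ) := [([0, 0], []), ([1, 1], []), ([2, 2], []), ([3, 3], []), ([4, 4], []), ([5, 5], []), ([6, 6], []), ([7, 7], []), ([8, 8], []), ([9, 9], []), ([1, 0, 1], [0, 1, 0]), ([2, 0], [0, 2]), ([3, 0], [0, 3]), ([4, 0], [0, 4]), ([5, 0], [0, 5]), ([6, 0], [0, 6]), ([7, 0], [0, 7]), ([8, 0], [0, 8]), ([9, 0], [0, 9]), ([2, 1, 2], [1, 2, 1]), ([3, 1], [1, 3]), ([4, 1], [1, 4]), ([5, 1], [1, 5]), ([6, 1], [1, 6]), ([7, 1], [1, 7]), ([8, 1], [1, 8]), ([9, 1], [1, 9]), ([3, 2, 3], [2, 3, 2]), ([4, 2], [2, 4]), ([5, 2], [2, 5]), ([6, 2], [2, 6]), ([7, 2], [2, 7]), ([8, 2], [2, 8]), ([9, 2], [2, 9]), ([4, 3, 4], [3, 4, 3]), ([5, 3], [3, 5]), ([6, 3], [3, 6]), ([7, 3], [3, 7]), ([8, 3, 8], [3, 8, 3]), ([9, 3], [3, 9]), ([5, 4, 5], [4, 5, 4]), ([6, 4], [4, 6]), ([7, 4], [4, 7]), ([8, 4], [4, 8]), ([9, 4], [4,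 9]), ([6, 5, 6], [5, 6, 5]), ([7, 5], [5, 7]), ([8, 5], [5, 8]), ([9, 5], [5, 9]), ([7, 6, 7], [6, 7, 6]), ([8, 6], [6, 8]), ([9, 6], [6, 9]), ([8, 7], [7, 8]), ([9, 7], [7, 9]), ([9, 8, 9], [8, 9, 8]), ([10], [9, 8, 3, 5, 4, 3, 1, 2, 3]), ([11], [10, 10]), ([12], [11, 11, 10]), ([12, 12], []), ([13], [8, 5, 4, 3, 2, 1, 0]), ([14], [13, 13, 13]), ([14, 14, 14], []), ([15], [8, 6, 5, 4, 3, 2, 1]), ([16], [15, 15, 15]), ([17], [16, 16, 16]), ([17, 17], []), ([17, 0], [0, 17]), ([17, 1], [1, 17]), ([17, 2], [2, 17]), ([17, 3], [3, 17]), ([17, 4], [4, 17]), ([17, 5], [5, 17]), ([17, 6], [6, 17]), ([17, 8], [8, 17]), ([17, 9], [9, 17]), ([18], [17, 7, 17, 7]), ([18, 18, 18], []), ([19], [17, 7, 6, 5, 4, 3, 8, 2, 3, 4, 5, 6, 7, 17, 7, 6, 5, 4, 3, 2, 8, 3, 4, 5, 6, 7]), ([19, 19], []), ([20], [0, 6, 7, 9, 3, 2, 8, 5, 1, 0, 6, 4, 7, 2, 5, 3, 2, 5, 1, 4, 7, 3, 0, 9, 2, 0, 8, 9, 5, 6, 1, 3, 7,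 8, 3, 4, 6, 5, 9]), ([21], [20, 20]), ([22], [21, 21]), ([23], [22, 22]), ([24], [23, 23]), ([24, 22, 21, 20], []), ([25], [0, 9, 5, 6, 4, 3, 8, 7, 3, 1, 6, 5, 9, 8, 0, 2, 9, 0, 3, 7, 4, 1, 5, 2, 3, 5, 2, 7, 4, 6, 0, 1, 5, 8, 2, 3, 9, 7, 6, 0]), ([26], [25, 25]), ([27], [26, 26]), ([28], [27, 27]), ([29], [28, 28]), ([29, 27, 26, 25], [])]

def wordU : List ℕ := [0, 6, 7, 9, 3, 2, 8, 5, 1, 0, 6, 4, 7, 2, 5, 3, 2, 5, 1, 4, 7, 3, 0, 9, 2, 0, 8, 9, 5, 6, 1, 3, 7, 8, 3, 4, 6, 5, 9]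

def rootWord : ℕ → List ℕ
  | 1 => [7]
  | 2 => [7, 6, 5, 4, 3, 2, 8, 3, 4, 5, 6, 7]
  | _ => []

end Cfsg.Agent.InvChar.Coset.Fi23G
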