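import Cfsg.Agent.InvChar.Coset.TreePerm
import Cfsg.Agent.InvChar.Coset.Fi23GPermData

/-!
# The check of one row of the table on 31671 points
-/

set_option autoImplicit false
set_option linter.all false

noncomputable section

namespace Cfsg.Agent.InvChar.Coset.Fi23G

open Cfsg.Agent.CosetCert TreePerm

def top : List ℕ := [0, 1, 2, 3, 4, 5, 6, 8, 9]

def allIdx : List ℕ :=
  [0, 1, 2, 3, 4, 5, 6, 7, 8, 9, 10, 11, 12, 13, 14, 15, 16, 17, 18, 19, 20, 21, 22, 23, 24, 25, 26, 27, 28, 29]

def orbits : Orbits := ⟨oT, [0, 1, 52]⟩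

def labelsKept (c : ℕ) : List ℕ → Bool
  | [] => true
  | y :: l => Nat.beq (orbits.label (rd (nthT permList y) c)) (orbits.label c) && labelsKept c l

def orbitRow (c : ℕ) : Bool :=
  labelsKept c top && Nat.blt (orbits.label c) 3 &&
    match orbits.depth c with
    | 0 => Nat.beq (rootAt [0, 1, 52] (orbits.label c)) c
    | k + 1 => Nat.blt (orbits.par c) 31671 && (Nat.beq (orbits.depth (orbits.par c)) k &&
        (Nat.blt (orbits.gen c) 9 && Nat.beq (rd (nthT permList (nthNat top (orbits.gen c))) (orbits.par c)) c))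

def goodRow (c : ℕ) : Bool := allBlt permList 31671 c allIdx && (allEq permList c eqns && orbitRow c)

end Cfsg.Agent.InvChar.Coset.Fi23G
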