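import Cfsg.Agent.InvChar.Coset.Fi23GData

/-!
# Coset certificate check, a part
-/

set_option autoImplicit false
set_option linter.all false

namespace Cfsg.Agent.InvChar.Coset.Fi23G

open Cfsg.Agent.CosetCert

theorem steps165 : rangeOK cert 165000 1000 = true := by decide +kernel

theorem steps166 : rangeOK cert 166000 1000 = true := by decide +kernel

theorem steps167 : rangeOK cert 167000 1000 = true := by decide +kernel

theorem steps168 : rangeOK cert 168000 1000 = true := by decide +kernel

theorem steps169 : rangeOK cert 169000 1000 = true := by decide +kernel

theorem steps170 : rangeOK cert 170000 1000 = true := by decide +kernel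

theorem steps171 : rangeOK cert 171000 1000 = true := by decide +kernel

theorem steps172 : rangeOK cert 172000 1000 = true := by decide +kernel

theorem steps173 : rangeOK cert 173000 1000 = true := by decide +kernel

theorem steps174 : rangeOK cert 174000 1000 = true := by decide +kernel

theorem steps175 : rangeOK cert 175000 1000 = true := by decide +kernel

theorem steps176 : rangeOK cert 176000 1000 = true := by decide +kernel

theorem steps177 : rangeOK cert 177000 1000 = true := by decide +kernel

theorem steps178 : rangeOK cert 178000 1000 = true := by decide +kernel

theorem steps179 : rangeOK cert 179000 1000 = true := by decide +kernel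

end Cfsg.Agent.InvChar.Coset.Fi23G
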