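import Cfsg.Agent.InvChar.Coset.Fi23MidData

/-!
# Coset certificate check, a part
-/

set_option autoImplicit false
set_option linter.all false

namespace Cfsg.Agent.InvChar.Coset.Fi23Mid

open Cfsg.Agent.CosetCert

theorem edges0 : edgesOK table tgtTree 0 500 = true := by decide +kernel

theorem edges1 : edgesOK table tgtTree 500 500 = true := by decide +kernel

theorem edges2 : edgesOK table tgtTree 1000 500 = true := by decide +kernel

theorem edges3 : edgesOK table tgtTree 1500 500 = true := by decide +kernel

theorem edges4 : edgesOK table tgtTree 2000 500 = true := by decide +kernel

theorem edges5 : edgesOK table tgtTree 2500 500 = true := by decide +kernel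

theorem edges6 : edgesOK table tgtTree 3000 159 = true := by decide +kernel

end Cfsg.Agent.InvChar.Coset.Fi23Mid
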