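import Cfsg.Agent.InvChar.Coset.Fi23MidData
import Cfsg.Agent.InvChar.Coset.Fi23MidSteps0
import Cfsg.Agent.InvChar.Coset.Fi23MidSteps1
import Cfsg.Agent.InvChar.Coset.Fi23MidEdges0

/-!
# Coset certificate check
-/

set_option autoImplicit false
set_option linter.all false

namespace Cfsg.Agent.InvChar.Coset.Fi23Mid

open Cfsg.Agent.CosetCert

theorem stepsUpto0 : ∀ i < 1000, stepOK cert i = true :=
  steps_add 0 1000 (steps_zero cert) steps0

theorem stepsUpto1 : ∀ i < 2000, stepOK cert i = true :=
  steps_add 1000 1000 (stepsUpto0) steps1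

theorem stepsUpto2 : ∀ i < 3000, stepOK cert i = true :=
  steps_add 2000 1000 (stepsUpto1) steps2

theorem stepsUpto3 : ∀ i < 4000, stepOK cert i = true :=
  steps_add 3000 1000 (stepsUpto2) steps3

theorem stepsUpto4 : ∀ i < 5000, stepOK cert i = true :=
  steps_add 4000 1000 (stepsUpto3) steps4

theorem stepsUpto5 : ∀ i < 6000, stepOK cert i = true :=
  steps_add 5000 1000 (stepsUpto4) steps5

theorem stepsUpto6 : ∀ i < 7000, stepOK cert i = true :=
  steps_add 6000 1000 (stepsUpto5) steps6

theorem stepsUpto7 : ∀ i < 8000, stepOK cert i = true :=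
  steps_add 7000 1000 (stepsUpto6) steps7

theorem stepsUpto8 : ∀ i < 9000, stepOK cert i = true :=
  steps_add 8000 1000 (stepsUpto7) steps8

theorem stepsUpto9 : ∀ i < 10000, stepOK cert i = true :=
  steps_add 9000 1000 (stepsUpto8) steps9

theorem stepsUpto10 : ∀ i < 11000, stepOK cert i = true :=
  steps_add 10000 1000 (stepsUpto9) steps10

theorem stepsUpto11 : ∀ i < 12000, stepOK cert i = true :=
  steps_add 11000 1000 (stepsUpto10) steps11

theorem stepsUpto12 : ∀ i < 13000, stepOK cert i = true :=
  steps_add 12000 1000 (stepsUpto11) steps12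

theorem stepsUpto13 : ∀ i < 14000, stepOK cert i = true :=
  steps_add 13000 1000 (stepsUpto12) steps13

theorem stepsUpto14 : ∀ i < 15000, stepOK cert i = true :=
  steps_add 14000 1000 (stepsUpto13) steps14

theorem stepsUpto15 : ∀ i < 16000, stepOK cert i = true :=
  steps_add 15000 1000 (stepsUpto14) steps15

theorem stepsUpto16 : ∀ i < 17000, stepOK cert i = true :=
  steps_add 16000 1000 (stepsUpto15) steps16

theorem stepsUpto17 : ∀ i < 18000, stepOK cert i = true :=
  steps_add 17000 1000 (stepsUpto16) steps17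

theorem stepsUpto18 : ∀ i < 19000, stepOK cert i = true :=
  steps_add 18000 1000 (stepsUpto17) steps18

theorem stepsUpto19 : ∀ i < 20000, stepOK cert i = true :=
  steps_add 19000 1000 (stepsUpto18) steps19

theorem stepsUpto20 : ∀ i < 21000, stepOK cert i = true :=
  steps_add 20000 1000 (stepsUpto19) steps20

theorem stepsUpto21 : ∀ i < 22000, stepOK cert i = true :=
  steps_add 21000 1000 (stepsUpto20) steps21

theorem stepsUpto22 : ∀ i < 23000, stepOK cert i = true :=
  steps_add 22000 1000 (stepsUpto21) steps22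

theorem stepsUpto23 : ∀ i < 24000, stepOK cert i = true :=
  steps_add 23000 1000 (stepsUpto22) steps23

theorem stepsUpto24 : ∀ i < 25000, stepOK cert i = true :=
  steps_add 24000 1000 (stepsUpto23) steps24

theorem stepsUpto25 : ∀ i < 26000, stepOK cert i = true :=
  steps_add 25000 1000 (stepsUpto24) steps25

theorem stepsUpto26 : ∀ i < 27000, stepOK cert i = true :=
  steps_add 26000 1000 (stepsUpto25) steps26

theorem stepsUpto27 : ∀ i < 28000, stepOK cert i = true :=
  steps_add 27000 1000 (stepsUpto26) steps27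

theorem stepsUpto28 : ∀ i < 28868, stepOK cert i = true :=
  steps_add 28000 868 (stepsUpto27) steps28

theorem edgesUpto0 : ∀ i < 500, ∀ x < table.C.K, EdgeAt table i x :=
  edges_add 0 500 (edges_zero table) edges0

theorem edgesUpto1 : ∀ i < 1000, ∀ x < table.C.K, EdgeAt table i x :=
  edges_add 500 500 (edgesUpto0) edges1

theorem edgesUpto2 : ∀ i < 1500, ∀ x < table.C.K, EdgeAt table i x :=
  edges_add 1000 500 (edgesUpto1) edges2

theorem edgesUpto3 : ∀ i < 2000, ∀ x < table.C.K, EdgeAt table i x :=
  edges_add 1500 500 (edgesUpto2) edges3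

theorem edgesUpto4 : ∀ i < 2500, ∀ x < table.C.K, EdgeAt table i x :=
  edges_add 2000 500 (edgesUpto3) edges4

theorem edgesUpto5 : ∀ i < 3000, ∀ x < table.C.K, EdgeAt table i x :=
  edges_add 2500 500 (edgesUpto4) edges5

theorem edgesUpto6 : ∀ i < 3159, ∀ x < table.C.K, EdgeAt table i x :=
  edges_add 3000 159 (edgesUpto5) edges6

theorem closed : Closed table where
  start := by decide +kernel
  steps := stepsUpto28
  cells := edgesUpto6
  root := by decide +kernel
  pos := by decide +kernel


end Cfsg.Agent.InvChar.Coset.Fi23Mid
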