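import Cfsg.Agent.InvChar.Coset.Fi23TopData

/-!
# Coset certificate check, a part
-/

set_option autoImplicit false
set_option linter.all false

namespace Cfsg.Agent.InvChar.Coset.Fi23Top

open Cfsg.Agent.CosetCert

theorem edges0 : edgesOK table tgtTree 0 500 = true := by decide +kernel

theorem edges1 : edgesOK table tgtTree 500 500 = true := by decide +kernel

theorem edges2 : edgesOK table tgtTree 1000 500 = true := by decide +kernel

theorem edges3 : edgesOK table tgtTree 1500 500 = true := by decide +kernel

theorem edges4 : edgesOK table tgtTree 2000 500 = true := by decide +kernel

theorem edges5 : edgesOK table tgtTree 2500 500 = true := by decide +kernel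

theorem edges6 : edgesOK table tgtTree 3000 500 = true := by decide +kernel

theorem edges7 : edgesOK table tgtTree 3500 500 = true := by decide +kernel

theorem edges8 : edgesOK table tgtTree 4000 500 = true := by decide +kernel

theorem edges9 : edgesOK table tgtTree 4500 500 = true := by decide +kernel

theorem edges10 : edgesOK table tgtTree 5000 500 = true := by decide +kernel

theorem edges11 : edgesOK table tgtTree 5500 500 = true := by decide +kernel

theorem edges12 : edgesOK table tgtTree 6000 500 = true := by decide +kernel

theorem edges13 : edgesOK table tgtTree 6500 500 = true := by decide +kernel

theorem edges14 : edgesOK table tgtTree 7000 500 = true := by decide +kernel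

theorem edges15 : edgesOK table tgtTree 7500 500 = true := by decide +kernel

theorem edges16 : edgesOK table tgtTree 8000 500 = true := by decide +kernel

theorem edges17 : edgesOK table tgtTree 8500 500 = true := by decide +kernel

theorem edges18 : edgesOK table tgtTree 9000 500 = true := by decide +kernel

theorem edges19 : edgesOK table tgtTree 9500 500 = true := by decide +kernel

theorem edges20 : edgesOK table tgtTree 10000 500 = true := by decide +kernel

theorem edges21 : edgesOK table tgtTree 10500 500 = true := by decide +kernel

theorem edges22 : edgesOK table tgtTree 11000 500 = true := by decide +kernel

theorem edges23 : edgesOK table tgtTree 11500 500 = true := by decide +kernel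

theorem edges24 : edgesOK table tgtTree 12000 500 = true := by decide +kernel

end Cfsg.Agent.InvChar.Coset.Fi23Top
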