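import Cfsg.Agent.InvChar.Coset.Fi23TopData

/-!
# Coset certificate check, a part
-/

set_option autoImplicit false
set_option linter.all false

namespace Cfsg.Agent.InvChar.Coset.Fi23Top

open Cfsg.Agent.CosetCert

theorem edges25 : edgesOK table tgtTree 12500 500 = true := by decide +kernel

theorem edges26 : edgesOK table tgtTree 13000 500 = true := by decide +kernel

theorem edges27 : edgesOK table tgtTree 13500 500 = true := by decide +kernel

theorem edges28 : edgesOK table tgtTree 14000 80 = true := by decide +kernel

end Cfsg.Agent.InvChar.Coset.Fi23Top
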