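import Cfsg.Agent.InvChar.Coset.Fi23TopData

/-!
# Coset certificate check, a part
-/

set_option autoImplicit false
set_option linter.all false

namespace Cfsg.Agent.InvChar.Coset.Fi23Top

open Cfsg.Agent.CosetCert

theorem steps15 : rangeOK cert 15000 1000 = true := by decide +kernel

theorem steps16 : rangeOK cert 16000 1000 = true := by decide +kernel

theorem steps17 : rangeOK cert 17000 1000 = true := by decide +kernel

theorem steps18 : rangeOK cert 18000 1000 = true := by decide +kernel

theorem steps19 : rangeOK cert 19000 1000 = true := by decide +kernel

theorem steps20 : rangeOK cert 20000 1000 = true := by decide +kernel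

theorem steps21 : rangeOK cert 21000 1000 = true := by decide +kernel

theorem steps22 : rangeOK cert 22000 1000 = true := by decide +kernel

theorem steps23 : rangeOK cert 23000 1000 = true := by decide +kernel

theorem steps24 : rangeOK cert 24000 1000 = true := by decide +kernel

theorem steps25 : rangeOK cert 25000 1000 = true := by decide +kernel

theorem steps26 : rangeOK cert 26000 1000 = true := by decide +kernel

theorem steps27 : rangeOK cert 27000 1000 = true := by decide +kernel

theorem steps28 : rangeOK cert 28000 1000 = true := by decide +kernel

theorem steps29 : rangeOK cert 29000 1000 = true := by decide +kernel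

end Cfsg.Agent.InvChar.Coset.Fi23Top
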