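import Cfsg.Agent.InvChar.Coset.Fi23TopData

/-!
# Coset certificate check, a part
-/

set_option autoImplicit false
set_option linter.all false

namespace Cfsg.Agent.InvChar.Coset.Fi23Top

open Cfsg.Agent.CosetCert

theorem steps30 : rangeOK cert 30000 1000 = true := by decide +kernel

theorem steps31 : rangeOK cert 31000 1000 = true := by decide +kernel

theorem steps32 : rangeOK cert 32000 1000 = true := by decide +kernel

theorem steps33 : rangeOK cert 33000 1000 = true := by decide +kernel

theorem steps34 : rangeOK cert 34000 1000 = true := by decide +kernel

theorem steps35 : rangeOK cert 35000 1000 = true := by decide +kernel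

theorem steps36 : rangeOK cert 36000 1000 = true := by decide +kernel

theorem steps37 : rangeOK cert 37000 1000 = true := by decide +kernel

theorem steps38 : rangeOK cert 38000 1000 = true := by decide +kernel

theorem steps39 : rangeOK cert 39000 1000 = true := by decide +kernel

theorem steps40 : rangeOK cert 40000 1000 = true := by decide +kernel

theorem steps41 : rangeOK cert 41000 1000 = true := by decide +kernel

theorem steps42 : rangeOK cert 42000 1000 = true := by decide +kernel

theorem steps43 : rangeOK cert 43000 1000 = true := by decide +kernel

theorem steps44 : rangeOK cert 44000 1000 = true := by decide +kernel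

end Cfsg.Agent.InvChar.Coset.Fi23Top
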