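import Cfsg.Agent.InvChar.Coset.Fi23Action
import Cfsg.Agent.InvChar.Coset.Fi23DoubleCover
import Cfsg.Agent.InvChar.Coset.Fi23GCheck
import Cfsg.Agent.InvChar.Coset.Fi23TopCheck
import Cfsg.Agent.InvChar.Coset.Fi23MidCheck
import Cfsg.Agent.InvChar.Coset.Fi23SevenCheck
import Cfsg.Agent.InvChar.Coset.Fi27Check
import Cfsg.Agent.InvChar.Coset.Fi16Check
import Cfsg.Agent.InvChar.Coset.Fi120Check

/-!
# The order of the presented Fi23 and its subgroup of index 31671
-/

set_option autoImplicit false
set_option linter.all false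
set_option maxRecDepth 100000

noncomputable section

namespace Cfsg.Agent.InvChar.Coset.Fi23G

open Cfsg.Agent.CosetCert TreePerm

/-- The subgroup generated by all generators but `j`. -/
abbrev HH : Subgroup GG := subg data.gen top

theorem bdd_H : Bdd HH 129123503308800 := by
  have hV := data.gen_rel
  have h0 : Bdd (subg data.gen ([].map (nthNat [2, 3, 4, 5]))) 1 := bdd_subg_nil data.gen
  have h1 := bdd_subg Fi120.closed data.gen data.gen_sq table.C.W hV [2, 3, 4, 5] [] (by decide +kernel)
    (by decide +kernel) (by decide +kernel) (by decide +kernel) (by decide +kernel) h0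
  have h2 := bdd_subg Fi16.closed data.gen data.gen_sq table.C.W hV [2, 3, 4, 5, 8] [0, 1, 2, 3] (by decide +kernel)
    (by decide +kernel) (by decide +kernel) (by decide +kernel) (by decide +kernel) h1
  have h3 := bdd_subg Fi27.closed data.gen data.gen_sq table.C.W hV [1, 2, 3, 4, 5, 8] [1, 2, 3, 4, 5] (by decide +kernel)
    (by decide +kernel) (by decide +kernel) (by decide +kernel) (by decide +kernel) h2
  have h4 := bdd_subg Fi23Seven.closed data.gen data.gen_sq table.C.W hV [1, 2, 3, 4, 5, 6, 8] [0, 1, 2, 3, 4, 6]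
    (by decide +kernel) (by decide +kernel) (by decide +kernel) (by decide +kernel) (by decide +kernel) h3
  have h5 := bdd_subg Fi23Mid.closed data.gen data.gen_sq table.C.W hV [1, 2, 3, 4, 5, 6, 8, 9] [0, 1, 2, 3, 4, 5, 6]
    (by decide +kernel) (by decide +kernel) (by decide +kernel) (by decide +kernel) (by decide +kernel) h4
  exact bdd_subg Fi23Top.closed data.gen data.gen_sq table.C.W hV [0, 1, 2, 3, 4, 5, 6, 8, 9] [1, 2, 3, 4, 5, 6, 7, 8]
    (by decide +kernel) (by decide +kernel) (by decide +kernel) (by decide +kernel) (by decide +kernel) h5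

theorem bdd_top : Bdd (⊤ : Subgroup GG) (31671 * 129123503308800) := by
  have h := bdd_subg closed data.gen data.gen_sq table.C.W data.gen_rel [0, 1, 2, 3, 4, 5, 6, 7, 8, 9]
    [0, 1, 2, 3, 4, 5, 6, 8, 9] (by decide +kernel) (by decide +kernel) (by decide +kernel) (by decide +kernel)
    (by decide +kernel) bdd_H
  have hl : ∀ x < table.C.K, x ∈ [0, 1, 2, 3, 4, 5, 6, 7, 8, 9] := by decide +kernel
  exact Bdd.top_of_gen data.gen_top hl h

instance finite_GG : Finite GG := @Finite.of_equiv _ _ bdd_top.1 Subgroup.topEquiv.toEquiv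

/-- The first point. -/
def base0 : Fin 31671 := ⟨0, by norm_num⟩

theorem top_fix0 : ∀ y ∈ top, rd (nthT permList y) 0 = 0 := by decide +kernel

theorem top_lt : ∀ y ∈ top, y < 10 := by decide

theorem H_fix0 {h : GG} (hh : h ∈ HH) : φ h base0 = base0 := by
  induction hh using Subgroup.closure_induction with
  | mem g hg =>
    obtain ⟨y, hy, rfl⟩ := hg
    have := φ_point (w := [y]) (by simpa using top_lt y hy) base0
    rw [show el [y] = data.gen y from one_mul _] at this
    exact Fin.ext (this.trans (top_fix0 y hy))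
  | one => rw [map_one]; rfl
  | mul a b _ _ iha ihb => rw [map_mul, Equiv.Perm.mul_apply, ihb, iha]
  | inv a _ ih => rw [map_inv, Equiv.Perm.inv_eq_iff_eq, ih]

theorem label_lt {c : ℕ} (hc : c < 31671) : orbits.label c < 3 := by
  have h := orbit_row hc
  simp only [orbitRow, Bool.and_eq_true, Nat.blt_eq] at h
  exact h.1.2

theorem nth_top {i : ℕ} (hi : i < 9) : nthNat top i ∈ top := nthNat_mem hi

theorem reachH : ∀ k, ∀ c : Fin 31671, orbits.depth c = k → ∀ r : Fin 31671,
    (r : ℕ) = rootAt [0, 1, 52] (orbits.label c) → ∃ h ∈ HH, φ h r = c := by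
  intro k
  induction k with
  | zero =>
    intro c hk r hr
    have h := orbit_row c.2
    simp only [orbitRow, hk, Bool.and_eq_true] at h
    exact ⟨1, one_mem _, by rw [map_one]; exact Fin.ext (hr.trans (Nat.eq_of_beq_eq_true h.2))⟩
  | succ k ih =>
    intro c hk r hr
    have h := orbit_row c.2
    simp only [orbitRow, hk, Bool.and_eq_true, Nat.blt_eq] at h
    obtain ⟨-, h1, h2, h3, h4⟩ := h
    set y := nthNat top (orbits.gen c) with hy
    have hyt : y ∈ top := nth_top h3
    have hlab : orbits.label (orbits.par c) = orbits.label c := by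
      have hp := orbit_row h1
      simp only [orbitRow, Bool.and_eq_true] at hp
      have key : ∀ l : List ℕ, labelsKept (orbits.par c) l = true → ∀ y ∈ l,
          orbits.label (rd (nthT permList y) (orbits.par c)) = orbits.label (orbits.par c) := by
        intro l
        induction l with
        | nil => intro _ y hy; simp at hy
        | cons a l ihl =>
          intro hl y hy
          simp only [labelsKept, Bool.and_eq_true] at hl
          rcases List.mem_cons.mp hy with rfl | hy
          · exact Nat.eq_of_beq_eq_true hl.1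
          · exact ihl hl.2 y hy
      have := key top hp.1.1 y hyt
      rw [Nat.eq_of_beq_eq_true h4] at this
      exact this.symm
    obtain ⟨h', hh', he'⟩ := ih ⟨orbits.par c, h1⟩ (Nat.eq_of_beq_eq_true h2) r (by rw [hr]; simp only [hlab])
    refine ⟨data.gen y * h', mul_mem (Subgroup.subset_closure ⟨y, hyt, rfl⟩) hh', ?_⟩
    rw [map_mul, Equiv.Perm.mul_apply, he']
    have := φ_point (w := [y]) (by simpa using top_lt y hyt) (⟨orbits.par c, h1⟩ : Fin 31671)
    rw [show el [y] = data.gen y from one_mul _] at this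
    exact Fin.ext (this.trans (Nat.eq_of_beq_eq_true h4))

/-- The root of a class. -/
def root (l : ℕ) : Fin 31671 :=
  if l = 1 then ⟨1, by norm_num⟩ else if l = 2 then ⟨52, by norm_num⟩ else ⟨0, by norm_num⟩

theorem root_val {l : ℕ} (hl : l < 3) : (root l : ℕ) = rootAt [0, 1, 52] l := by
  interval_cases l <;> rfl

theorem rootWord_lt (l : ℕ) : ∀ y ∈ rootWord l, y < 10 := by
  rcases l with _ | _ | _ | l <;> simp [rootWord]

theorem rootWord_run {l : ℕ} (hl : l < 3) : φ (el (rootWord l)) base0 = root l := by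
  refine Fin.ext ?_
  rw [φ_point (rootWord_lt l) base0, root_val hl]
  revert l
  decide +kernel

theorem reach_root (c : Fin 31671) : ∃ h ∈ HH, φ h (root (orbits.label c)) = c :=
  reachH _ c rfl _ (root_val (label_lt c.2))

theorem transitive (c : Fin 31671) : ∃ g : GG, φ g base0 = c := by
  obtain ⟨h, -, hh⟩ := reach_root c
  exact ⟨h * el (rootWord (orbits.label c)), by
    rw [map_mul, Equiv.Perm.mul_apply, rootWord_run (label_lt c.2), hh]⟩

theorem index_le_n : HH.index ≤ 31671 := by
  refine index_le closed data.gen data.gen_sq data.gen_rel data.gen_top (H := HH) ?_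
  have hS : table.C.S = top.map fun j => [j] := by decide +kernel
  unfold HH subg
  congr 1
  rw [hS]
  ext p
  constructor
  · rintro ⟨y, hy, rfl⟩
    exact ⟨[y], List.mem_map.mpr ⟨y, hy, rfl⟩, by simp [wprod]⟩
  · rintro ⟨w, hw, rfl⟩
    obtain ⟨j, hj, rfl⟩ := List.mem_map.mp hw
    exact ⟨j, hj, by simp [wprod]⟩

/-- The map from cosets to points. -/
def point : GG ⧸ HH → Fin 31671 := fun q => Quotient.liftOn' q (fun g => φ g base0) fun a b hab => by
  rw [QuotientGroup.leftRel_apply] at hab
  calc φ a base0 = φ a (φ (a⁻¹ * b) base0) := by rw [H_fix0 hab]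
    _ = φ b base0 := by rw [← Equiv.Perm.mul_apply, ← map_mul, mul_inv_cancel_left]

theorem point_mk (g : GG) : point (QuotientGroup.mk g) = φ g base0 := rfl

theorem point_bijective : Function.Bijective point := by
  have hs : Function.Surjective point := fun c => by
    obtain ⟨g, hg⟩ := transitive c
    exact ⟨QuotientGroup.mk g, hg⟩
  exact hs.bijective_of_nat_card_le (by rw [Nat.card_fin, ← Subgroup.index_eq_card]; exact index_le_n)

theorem index_H : HH.index = 31671 := by
  rw [Subgroup.index_eq_card, Nat.card_eq_of_bijective point point_bijective, Nat.card_fin]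

theorem mem_H_iff {g : GG} : g ∈ HH ↔ φ g base0 = base0 := by
  refine ⟨H_fix0, fun h => ?_⟩
  have e : point (QuotientGroup.mk g) = point (QuotientGroup.mk 1) := by
    rw [point_mk, point_mk, h, map_one]; rfl
  have := point_bijective.1 e
  rw [QuotientGroup.eq, mul_one, inv_mem_iff] at this
  exact this

/-! ### The subgroup -/

/-- The central involution. -/
def z : GG := el zW

theorem zW_lt : ∀ y ∈ zW, y < 10 := by decide +kernel

theorem word_mem_H : ∀ {w : List ℕ}, (∀ y ∈ w, y ∈ top) → el w ∈ HH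
  | [], _ => one_mem _
  | y :: w, hw => mul_mem (word_mem_H fun a ha => hw a (List.mem_cons_of_mem _ ha))
      (Subgroup.subset_closure ⟨y, hw y List.mem_cons_self, rfl⟩)

theorem z_mem : z ∈ HH := word_mem_H (by decide +kernel)

theorem φ_z (c : Fin 31671) : (φ z c : ℕ) = seqN permList [17] c := by
  rw [z, φ_point zW_lt, z_same c c.2]

theorem φ_z_ne : φ z ≠ 1 := by
  intro h
  have := φ_z ⟨1, by norm_num⟩
  rw [h] at this
  revert this
  decide +kernel

theorem φ_z_sq : φ z * φ z = 1 := Equiv.ext fun c => Fin.ext (by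
  rw [Equiv.Perm.mul_apply, φ_z, φ_z]
  exact same_eqn e17s c c.2)

theorem φ_z_comm_gen {y : ℕ} (hy : y ∈ top) : φ z * φ (data.gen y) = φ (data.gen y) * φ z := by
  have he : ([17, y], [y, 17]) ∈ eqns := by revert y; decide +kernel
  have hg : ∀ c : Fin 31671, (φ (data.gen y) c : ℕ) = seqN permList [y] c := fun c => by
    rw [← φ_point (w := [y]) (by simpa using top_lt y hy) c, show el [y] = data.gen y from one_mul _]
  exact Equiv.ext fun c => Fin.ext (by
    rw [Equiv.Perm.mul_apply, Equiv.Perm.mul_apply, φ_z, hg, hg, φ_z]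
    exact (same_eqn he c c.2).symm)

/-- The image of the subgroup. -/
abbrev AH : Subgroup (Equiv.Perm (Fin 31671)) := HH.map φ

/-- The generators of the image. -/
def gA (i : ℕ) : AH :=
  if hi : i < 9 then ⟨φ (data.gen (nthNat top i)),
    Subgroup.mem_map_of_mem φ (Subgroup.subset_closure ⟨_, nth_top hi, rfl⟩)⟩ else 1

def zA : AH := ⟨φ z, Subgroup.mem_map_of_mem φ z_mem⟩

theorem zA_coe : ((zA : AH) : Equiv.Perm (Fin 31671)) = φ z := rfl

theorem gA_top : Subgroup.closure (gA '' {i | i < 9}) = ⊤ := by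
  apply Subgroup.map_injective AH.subtype_injective
  rw [MonoidHom.map_closure, ← MonoidHom.range_eq_map, Subgroup.range_subtype]
  show _ = Subgroup.map φ (Subgroup.closure (data.gen '' {x | x ∈ top}))
  rw [MonoidHom.map_closure]
  congr 1
  ext p
  constructor
  · rintro ⟨_, ⟨i, hi, rfl⟩, rfl⟩
    exact ⟨_, ⟨_, nth_top hi, rfl⟩, by rw [gA, dif_pos (show i < 9 from hi)]; rfl⟩
  · rintro ⟨_, ⟨y, hy, rfl⟩, rfl⟩
    obtain ⟨i, hi, rfl⟩ := exists_nthNat hy
    exact ⟨_, ⟨i, hi, rfl⟩, by rw [gA, dif_pos (show i < 9 from hi)]; rfl⟩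

theorem gA_sq (i : ℕ) : gA i * gA i = 1 := by
  unfold gA
  split
  · exact Subtype.ext (by
      rw [Subgroup.coe_mul, ← map_mul, data.gen_sq, map_one]; rfl)
  · exact one_mul 1

theorem zA_comm (a : AH) : zA * a = a * zA := by
  have h : ∀ g ∈ HH, φ z * φ g = φ g * φ z := by
    intro g hg
    induction hg using Subgroup.closure_induction with
    | mem g hg => obtain ⟨y, hy, rfl⟩ := hg; exact φ_z_comm_gen hy
    | one => rw [map_one, mul_one, one_mul]
    | mul a b _ _ iha ihb => rw [map_mul]; exact Commute.mul_right iha ihb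
    | inv a _ ih => rw [map_inv]; exact Commute.inv_right ih
  obtain ⟨g, hg, he⟩ := a.2
  exact Subtype.ext (by rw [Subgroup.coe_mul, Subgroup.coe_mul, ← he]; exact h g hg)

theorem gA_coe {w : List ℕ} (hw : ∀ y ∈ w, y < 9) :
    ((wprod gA w : AH) : Equiv.Perm (Fin 31671)) = φ (el (mapWord top w)) := by
  induction w with
  | nil => exact (map_one φ).symm
  | cons y w ih =>
    rw [wprod, Subgroup.coe_mul, ih fun a ha => hw a (List.mem_cons_of_mem _ ha), gA,
      dif_pos (hw y List.mem_cons_self)]
    show _ = φ (el (mapWord top w) * data.gen (nthNat top y))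
    rw [map_mul]

theorem gA_rel : ∀ w ∈ Fi22B.table.C.W, wprod gA w ∈ Subgroup.zpowers zA := by
  intro w hw
  have hlet : ∀ y ∈ w, y < 9 := allLettersOK_spec (K := 9) (l := Fi22B.table.C.W) (by decide +kernel) w hw
  have hmem := wordsIn_spec (top := top) (V := zW :: table.C.W) (l := Fi22B.table.C.W) (by decide +kernel) w hw
  rcases List.mem_cons.mp hmem with e | hm
  · have : wprod gA w = zA := Subtype.ext (by rw [gA_coe hlet, e]; rfl)
    rw [this]
    exact Subgroup.mem_zpowers _
  · have : wprod gA w = 1 := Subtype.ext (by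
      rw [gA_coe hlet, el, data.gen_rel _ hm, map_one]; rfl)
    rw [this]
    exact one_mem _

theorem gA_ne : gA 0 ≠ 1 ∧ gA 0 ≠ zA := by
  have h : (∃ c < 64, seqN permList [0] c ≠ c) ∧ ∃ c < 64, seqN permList [0] c ≠ seqN permList [17] c := by
    decide +kernel
  have h0 : ((gA 0 : AH) : Equiv.Perm (Fin 31671)) = φ (el [0]) := by
    rw [gA, dif_pos (show 0 < 9 by norm_num), show el [0] = data.gen 0 from one_mul _]
    rfl
  obtain ⟨⟨c, hc, h1⟩, ⟨c', hc', h2⟩⟩ := h
  refine ⟨fun e => h1 ?_, fun e => h2 ?_⟩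
  · have := φ_point (w := [0]) (by simp) ⟨c, by omega⟩
    rw [← h0, e] at this
    exact this.symm
  · have := φ_point (w := [0]) (by simp) ⟨c', by omega⟩
    rw [← h0, e] at this
    rw [← this]
    exact φ_z ⟨c', _⟩

theorem zA_facts : zA ≠ 1 ∧ zA * zA = 1 :=
  ⟨fun e => φ_z_ne (by rw [← zA_coe, e, Subgroup.coe_one]),
    Subtype.ext (by rw [Subgroup.coe_mul, Subgroup.coe_one, zA_coe, φ_z_sq])⟩

theorem card_AH : Nat.card AH = 129123503308800 :=
  card_cover gA zA gA_top gA_sq zA_comm zA_facts.1 zA_facts.2 gA_ne gA_rel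

theorem card_H : Nat.card HH = 129123503308800 := by
  refine le_antisymm bdd_H.2 ?_
  rw [← card_AH]
  exact Nat.card_le_card_of_surjective _ (φ.subgroupMap_surjective HH)

theorem card_GG : Nat.card GG = 4089470473293004800 := by
  rw [← HH.card_mul_index, index_H, card_H]

theorem φ_injective : Function.Injective φ := by
  have hb : Function.Bijective (φ.subgroupMap HH) :=
    (φ.subgroupMap_surjective HH).bijective_of_nat_card_le (by rw [card_H]; exact card_AH.ge)
  refine (MonoidHom.ker_eq_bot_iff φ).mp ((Subgroup.eq_bot_iff_forall _).mpr fun g hg => ?_)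
  have hg' : φ g = 1 := MonoidHom.mem_ker.mp hg
  have hH : g ∈ HH := mem_H_iff.mpr (by rw [hg']; rfl)
  have := hb.1 (a₁ := ⟨g, hH⟩) (a₂ := 1) (Subtype.ext (by rw [map_one]; exact hg'))
  exact congrArg Subtype.val this

/-- The subgroup and its image. -/
def isoH : HH ≃* AH := HH.equivMapOfInjective φ φ_injective

theorem z_ne : z ≠ 1 := fun e => φ_z_ne (by rw [e, map_one])

theorem z_sq : z * z = 1 := φ_injective (by rw [map_mul, map_one, φ_z_sq])

theorem z_comm {h : GG} (hh : h ∈ HH) : z * h = h * z := φ_injective (by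
  rw [map_mul, map_mul]
  have h1 := zA_comm ⟨φ h, Subgroup.mem_map_of_mem φ hh⟩
  rw [Subtype.ext_iff, Subgroup.coe_mul, Subgroup.coe_mul, zA_coe] at h1
  exact h1)

theorem double_cover_AH : Cfsg.IsNonsplitDoubleCover AH Cfsg.Spor.Fi22 := by
  have hj : ∀ e ∈ joins, e.1 < 9 ∧ e.2 < 9 ∧
      mapWord top [e.2, e.1, e.2, e.1, e.2, e.1] ∈ table.C.W := by decide +kernel
  have hw : ((table.C.W.drop 101).headD []) ∈ table.C.W ∧
      ∀ y ∈ (table.C.W.drop 101).headD [], y ∈ top := by decide +kernel
  refine double_cover gA zA gA_top gA_sq zA_comm zA_facts.1 zA_facts.2 gA_ne gA_rel ?_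
    [7, 5, 4, 3, 2, 1, 0, 7, 5, 4, 3, 2, 1, 0, 7, 5, 4, 3, 2, 1, 0, 7, 5, 4, 3, 2, 1, 0, 7, 5, 4, 3, 2, 1, 0,
      7, 5, 4, 3, 2, 1, 0, 7, 5, 4, 3, 2, 1, 0, 7, 5, 4, 3, 2, 1, 0, 7, 5, 4, 3, 2, 1, 0] (by decide)
    (by decide) ?_
  · intro e he
    obtain ⟨a, b, hm⟩ := hj e he
    have h := gA_coe (w := [e.2, e.1, e.2, e.1, e.2, e.1]) (by
      intro y hy
      simp only [List.mem_cons, List.not_mem_nil, or_false] at hy
      omega)
    rw [el, data.gen_rel _ hm, map_one] at h
    have h' : wprod gA [e.2, e.1, e.2, e.1, e.2, e.1] = 1 := Subtype.ext h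
    simp only [wprod, one_mul] at h'
    exact h'
  · refine Subtype.ext ?_
    rw [gA_coe (by decide), el, data.gen_rel _ (by decide +kernel), map_one]
    rfl

end Cfsg.Agent.InvChar.Coset.Fi23G
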