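import Cfsg.Agent.InvChar.Coset.Fi23OutCent
import Cfsg.Prelude.Def_KGroupFacts

/-!
# Every automorphism of the presented group Fi23 is inner
-/

set_option autoImplicit false
set_option linter.all false
set_option maxRecDepth 100000

noncomputable section

namespace Cfsg.Agent.InvChar.Coset.Fi23Out

open Cfsg.Agent.CosetCert TreePerm Fi23G

attribute [local irreducible] seqN

theorem conj_eleven {K : Subgroup GG} (hK : Nat.card K = 11) : ∃ k : GG, k * gg * k⁻¹ ∈ K := by
  haveI : Fact (Nat.Prime 11) := ⟨by norm_num⟩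
  have hz : Nat.card (Subgroup.zpowers gg) = 11 := by rw [Nat.card_zpowers, orderOf_gg]
  have key : ∀ L : Subgroup GG, Nat.card L = 11 → ¬ 11 ∣ L.index := fun L hL => by
    have h := Subgroup.card_mul_index L
    rw [card_GG, hL] at h
    omega
  have p1 : IsPGroup 11 (Subgroup.zpowers gg) := IsPGroup.of_card (n := 1) (by rw [hz, pow_one])
  have p2 : IsPGroup 11 K := IsPGroup.of_card (n := 1) (by rw [hK, pow_one])
  obtain ⟨k, hk⟩ := MulAction.exists_smul_eq GG (p1.toSylow (key _ hz)) (p2.toSylow (key _ hK))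
  refine ⟨k, ?_⟩
  have hmem : k * gg * k⁻¹ ∈ ((k • p1.toSylow (key _ hz) : Sylow 11 GG) : Subgroup GG) :=
    Subgroup.smul_mem_pointwise_smul gg (MulAut.conj k) (Subgroup.zpowers gg) (Subgroup.mem_zpowers gg)
  rw [hk] at hmem
  exact hmem

/-- The word of a product of a conjugate pair. -/
def wit : List ℕ := kW.reverse ++ (17 :: conjW pE) ++ (kW ++ (17 :: conjW pE))

theorem wit_moves : (∃ c < 64, seqN permList (wit ++ wit) c ≠ c) ∧ ∃ c < 64, seqN permList (wit ++ (wit ++ wit)) c ≠ c := by
  decide +kernel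

theorem not_transposition (t : GG) (ht : t = z * dE) :
    ¬ ∀ x : GG, (t * (x * t * x⁻¹)) ^ 2 = 1 ∨ (t * (x * t * x⁻¹)) ^ 3 = 1 := by
  intro h
  have ht' : gx (17 :: conjW pE) = t := by
    rw [gx_cons, ← dd_pw, lw, if_pos rfl, ht, commute_z_dE.eq]
    rfl
  have hw : gx wit = t * (gx kW * t * (gx kW)⁻¹) := by
    simp only [wit, gx_append, gx_reverse, ht', mul_assoc]
  have hk := conjW_ok small_words.1
  have hkw := smallOK_iff.mp small_words.2.2.1
  have hl : letOK wit = true := letOK_append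
    (letOK_append (letOK_small fun y hy => hkw y (List.mem_reverse.mp hy)) (letOK_append (u := [17]) rfl hk))
    (letOK_append (letOK_small hkw) (letOK_append (u := [17]) rfl hk))
  obtain ⟨⟨c, hc, hc2⟩, ⟨c', hc', hc3⟩⟩ := wit_moves
  rcases h (gx kW) with e | e
  · apply hc2
    rw [← gx_apply (letOK_append hl hl) ⟨c, by omega⟩, gx_append, hw, ← pow_two, e, map_one]
    rfl
  · apply hc3
    rw [← gx_apply (letOK_append hl (letOK_append hl hl)) ⟨c', by omega⟩, gx_append, gx_append, hw, ← pow_three',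
      e, map_one]
    rfl

/-- An automorphism maps the transposition of the first point to a transposition. -/
theorem image_z (θ : GG ≃* GG) : ∃ c, θ z = dd c := by
  have ho : Nat.card (Subgroup.zpowers (θ gg)) = 11 := by
    rw [Nat.card_zpowers, MulEquiv.orderOf_eq, orderOf_gg]
  obtain ⟨k, hk⟩ := conj_eleven ho
  obtain ⟨m, hm⟩ := Subgroup.mem_zpowers_iff.mp hk
  have hc : Commute (θ z) (k * gg * k⁻¹) := by
    rw [← hm]
    exact ((commute_gg_z.symm).map θ.toMonoidHom).zpow_right m
  have he : θ z = k * (k⁻¹ * θ z * k) * k⁻¹ := by group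
  rcases eq_of_centralises (h := k⁻¹ * θ z * k)
    (by simpa [MulAut.conj_apply, mul_assoc] using hc.map (MulAut.conj k⁻¹).toMonoidHom)
    (by
      calc k⁻¹ * θ z * k * (k⁻¹ * θ z * k) = k⁻¹ * (θ z * θ z) * k := by group
        _ = 1 := by rw [← map_mul, z_sq, map_one, mul_one, inv_mul_cancel])
    (fun e => z_ne (θ.injective (by rw [he, e, map_one, mul_one, mul_inv_cancel]))) with h | h | h
  · exact ⟨φ k base0, by rw [he, h, ← dd_base, conj_dd]⟩
  · exact ⟨φ k PE, by rw [he, h, dE, conj_dd]⟩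
  · refine absurd (fun y => ?_) (not_transposition (z * dE) rfl)
    rw [h] at he
    set t := z * dE with htdef
    have e : t * (y * t * y⁻¹) = k⁻¹ * (θ (z * (θ.symm (k * y * k⁻¹) * z * (θ.symm (k * y * k⁻¹))⁻¹))) * k := by
      simp only [map_mul, map_inv, θ.apply_symm_apply, he]
      group
    have hp : ∀ n : ℕ, (z * (θ.symm (k * y * k⁻¹) * z * (θ.symm (k * y * k⁻¹))⁻¹)) ^ n = 1 →
        (t * (y * t * y⁻¹)) ^ n = 1 := fun n hn => by
      have hcp : ∀ X : GG, (k⁻¹ * X * k) ^ n = k⁻¹ * X ^ n * k := fun X => by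
        have := conj_pow (a := k⁻¹) (b := X) (i := n)
        rwa [inv_inv] at this
      rw [e, hcp, ← map_pow, hn, map_one, mul_one, inv_mul_cancel]
    exact (base_pair _).imp (hp 2) (hp 3)

theorem image_dd (θ : GG ≃* GG) (c : Fin 31671) : ∃ d, θ (dd c) = dd d := by
  obtain ⟨e, he⟩ := image_z θ
  exact ⟨φ (θ (rp c)) e, by rw [dd, map_mul, map_mul, map_inv, he, conj_dd]⟩

/-! ### Configurations -/

/-- Points with the commutation pattern of the generators. -/
structure Config (q : ℕ → Fin 31671) : Prop where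
  inj : ∀ a < 10, ∀ b < 10, q a = q b → a = b
  comm : ∀ a < 10, ∀ b < 10, Commute (dd (q a)) (dd (q b)) ↔ Commute (data.gen a) (data.gen b)

theorem pair_move {x y : Fin 31671} (h : ¬ Commute (dd x) (dd y)) :
    ∃ g : GG, φ g base0 = x ∧ φ g (root 1) = y := by
  set y' := φ (rp x)⁻¹ y with hy'
  have he : φ (rp x) y' = y := by rw [hy', ← Equiv.Perm.mul_apply, ← map_mul, mul_inv_cancel, map_one]; rfl
  have hn : ¬ Commute (dd base0) (dd y') := fun hc => h (by
    have := (commute_dd_move (rp x) base0 y').mpr hc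
    rwa [φ_rp, he] at this)
  obtain ⟨t, ht, hty⟩ := reach_root y'
  have hl : orbits.label (y' : ℕ) = 1 := by
    have hlt := label_lt y'.2
    by_contra hne
    apply hn
    have hr : φ z (root (orbits.label (y' : ℕ))) = root (orbits.label (y' : ℕ)) := by
      refine Fin.ext ?_
      rw [φ_z, root_val hlt]
      generalize orbits.label (y' : ℕ) = l at hlt hne
      interval_cases l
      · decide +kernel
      · exact absurd rfl hne
      · decide +kernel
    have hb := (commute_dd_move t base0 (root (orbits.label (y' : ℕ)))).mpr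
      (by rw [dd_base]; exact commute_dd_iff.mpr hr)
    rwa [H_fix0 ht, hty] at hb
  rw [hl] at hty
  exact ⟨rp x * t, by rw [map_mul, Equiv.Perm.mul_apply, H_fix0 ht, φ_rp],
    by rw [map_mul, Equiv.Perm.mul_apply, hty, he]⟩

theorem og_lt {j : ℕ} (hj : j < 10) : og j < 10 := by revert j; decide +kernel

theorem og_inj : ∀ a < 10, ∀ b < 10, og a = og b → a = b := by decide +kernel

theorem meetsG_iff {k : ℕ} (hk : k < 10) (c : Fin 31671) : meetsG k c = true ↔ Commute (data.gen k) (dd c) := by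
  rw [commute_dd_iff, meetsG, Nat.beq_eq, ← φ_gen_val hk, ← Fin.ext_iff]

theorem nearB_intro {m : ℕ} {c : Fin 31671} : ∀ n, n ≤ 10 → (∀ j < n, (c : ℕ) ≠ ptG (og j) ∧
    meetsG (og j) (ptG (og m)) = meetsG (og j) c) → nearB m c n = true
  | 0, _, _ => rfl
  | n + 1, hn, h => by
    obtain ⟨h1, h2⟩ := h n (Nat.lt_succ_self n)
    simp only [nearB, Bool.and_eq_true, Bool.not_eq_true', eqBool_iff]
    refine ⟨⟨?_, h2⟩, nearB_intro n (by omega) fun j hj => h j (by omega)⟩
    rw [← Bool.not_eq_true, Nat.beq_eq]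
    exact h1

theorem fixFirst_spec {w : List ℕ} : ∀ n, fixFirst w n = true → ∀ j < n, seqN permList w (ptG (og j)) = ptG (og j)
  | 0, _, j, hj => absurd hj (by omega)
  | n + 1, h, j, hj => by
    simp only [fixFirst, Bool.and_eq_true] at h
    rcases Nat.lt_succ_iff_lt_or_eq.mp hj with e | rfl
    · exact fixFirst_spec n h.2 j e
    · exact Nat.eq_of_beq_eq_true h.1

theorem getG_mem : ∀ {l : List (List (List ℕ))} {i : ℕ}, i < l.length → getG l i ∈ l
  | [], i, h => absurd h (by simp)
  | a :: l, 0, _ => List.mem_cons_self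
  | a :: l, i + 1, h => List.mem_cons_of_mem _ (getG_mem (l := l) (by simpa using h))

/-- A point reached by elements fixing the first points. -/
def Reach (m x : ℕ) : Prop :=
  ∃ t : GG, (∀ j < m, φ t (cpt (og j)) = cpt (og j)) ∧ (φ t (cpt (og m)) : ℕ) = x

theorem orbitB_spec {m : ℕ} (hm : m < 10) (hg : gensOK m = true) :
    ∀ (l : List (ℕ × ℕ × ℕ)) (known : List ℕ), orbitB m l known = true → (∀ x ∈ known, Reach m x) →
      ∀ x ∈ l.map Prod.fst, Reach m x
  | [], _, _, _, x, hx => by simp at hx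
  | e :: l, known, h, hk, x, hx => by
    simp only [orbitB, Bool.and_eq_true, memB_iff, Nat.beq_eq, Nat.blt_eq] at h
    obtain ⟨hp, hgi, hr, hl⟩ := h
    have hgen := allOK_iff.mp hg _ (getG_mem hgi)
    simp only [Bool.and_eq_true] at hgen
    obtain ⟨t, ht, htp⟩ := hk _ hp
    have hnew : Reach m e.1 := ⟨gx (genPerm (getG (levelGens m) e.2.1)) * t, fun j hj => by
        rw [map_mul, Equiv.Perm.mul_apply, ht j hj]
        refine Fin.ext ?_
        rw [gx_apply hgen.1, cpt_val (og_lt (by omega))]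
        exact fixFirst_spec m hgen.2 j hj,
      by rw [map_mul, Equiv.Perm.mul_apply, gx_apply hgen.1, htp]; exact hr⟩
    rcases List.mem_cons.mp hx with rfl | hx
    · exact hnew
    · exact orbitB_spec hm hg l _ hl (fun y hy => (List.mem_cons.mp hy).elim (fun q => q ▸ hnew) (hk y)) x hx

theorem nearAll_spec {c : ℕ} : ∀ {l : List ℕ}, nearAll c l = true → ∀ m ∈ l, nearB m c m = true → c ∈ reached m
  | [], _, m, hm, _ => by simp at hm
  | a :: l, h, m, hm, hn => by
    simp only [nearAll, Bool.and_eq_true, Bool.or_eq_true, Bool.not_eq_true', memB_iff] at h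
    rcases List.mem_cons.mp hm with rfl | hm
    · rcases h.1 with h1 | h1
      · rw [hn] at h1; simp at h1
      · exact h1
    · exact nearAll_spec h.2 m hm hn

theorem extend {q : ℕ → Fin 31671} (h : Config q) {m : ℕ} (hm2 : 2 ≤ m) (hm : m < 10)
    (hfix : ∀ j < m, q (og j) = cpt (og j)) : Reach m (q (og m) : ℕ) := by
  have hmem : m ∈ levelsHi := by interval_cases m <;> simp [levelsHi]
  have hl := allOK_iff.mp levels_ok m hmem
  simp only [Bool.and_eq_true] at hl
  have hn : nearB m (q (og m) : ℕ) m = true := nearB_intro m hm.le fun j hj => by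
    have hj' : j < 10 := by omega
    refine ⟨fun e => ?_, ?_⟩
    · have : q (og m) = q (og j) := Fin.ext (by rw [hfix j hj, e, cpt_val (og_lt hj')])
      have := og_inj m hm j hj' (h.inj _ (og_lt hm) _ (og_lt hj') this)
      omega
    · rw [← cpt_val (og_lt hm), Bool.eq_iff_iff, meetsG_iff (og_lt hj'), meetsG_iff (og_lt hj'), ← gen_dd (og_lt hm),
        ← h.comm _ (og_lt hj') _ (og_lt hm), hfix j hj, ← gen_dd (og_lt hj')]
  have hr := nearAll_spec (row (q (og m))).2.2.2.2 m hmem hn
  have h0 : Reach m (ptG (og m)) := ⟨1, fun j _ => by rw [map_one]; rfl, by rw [map_one, ← cpt_val (og_lt hm)]; rfl⟩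
  simp only [reached, List.mem_cons] at hr
  rcases hr with hr | hr
  · rw [hr]; exact h0
  · exact orbitB_spec hm hl.1 _ _ hl.2 (fun x hx => by rw [List.mem_singleton.mp hx]; exact h0) _ hr

theorem Config.move {q : ℕ → Fin 31671} (h : Config q) (g : GG) : Config fun k => φ g (q k) :=
  ⟨fun a ha b hb e => h.inj a ha b hb ((φ g).injective e),
    fun a ha b hb => (commute_dd_move g _ _).trans (h.comm a ha b hb)⟩

theorem normalise {q : ℕ → Fin 31671} (h : Config q) :
    ∀ m, 2 ≤ m → m ≤ 10 → ∃ g : GG, ∀ j < m, φ g (cpt (og j)) = q (og j) := by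
  intro m
  induction m with
  | zero => intro h; omega
  | succ m ih =>
    intro h2 h10
    rcases Nat.eq_or_lt_of_le h2 with e | e
    · have hnc : ¬ Commute (data.gen (og 0)) (data.gen (og 1)) := by
        rw [gen_dd (og_lt (by norm_num : 1 < 10)), ← meetsG_iff (og_lt (by norm_num)), cpt_val (og_lt (by norm_num))]
        decide +kernel
      obtain ⟨g1, a1, b1⟩ := pair_move (x := cpt (og 0)) (y := cpt (og 1))
        (by rwa [← gen_dd (og_lt (by norm_num)), ← gen_dd (og_lt (by norm_num))])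
      obtain ⟨g2, a2, b2⟩ := pair_move (x := q (og 0)) (y := q (og 1))
        (by rwa [h.comm _ (og_lt (by norm_num)) _ (og_lt (by norm_num))])
      refine ⟨g2 * g1⁻¹, fun j hj => ?_⟩
      rw [map_mul, Equiv.Perm.mul_apply, map_inv]
      obtain rfl | rfl : j = 0 ∨ j = 1 := by omega
      · rw [Equiv.Perm.inv_eq_iff_eq.mpr a1.symm, a2]
      · rw [Equiv.Perm.inv_eq_iff_eq.mpr b1.symm, b2]
    · obtain ⟨g, hg⟩ := ih (by omega) (by omega)
      obtain ⟨t, ht, htm⟩ := extend (h.move g⁻¹) (show 2 ≤ m by omega) (show m < 10 by omega)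
        (fun j hj => by rw [map_inv, Equiv.Perm.inv_eq_iff_eq, hg j hj])
      refine ⟨g * t, fun j hj => ?_⟩
      rw [map_mul, Equiv.Perm.mul_apply]
      rcases Nat.lt_succ_iff_lt_or_eq.mp hj with hj | rfl
      · rw [ht j hj, hg j hj]
      · rw [Fin.ext htm, ← Equiv.Perm.mul_apply, ← map_mul, mul_inv_cancel, map_one]
        rfl

theorem og_surj : ∀ k < 10, ∃ j < 10, og j = k := by decide +kernel

theorem classify (α : MulAut GG) : ∃ g : GG, MulAut.conj g = α := by
  have hex : ∀ k, ∃ d, α (dd (cpt k)) = dd d := fun k => image_dd α (cpt k)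
  choose q hq using hex
  have hc : Config q := ⟨fun a ha b hb e => by
      have e2 : data.gen a = data.gen b := by
        rw [gen_dd ha, gen_dd hb]
        exact α.injective (by rw [hq, hq, e])
      have e3 : cpt a = cpt b := dd_injective (by rw [← gen_dd ha, ← gen_dd hb, e2])
      have e4 := congrArg Fin.val e3
      rw [cpt_val ha, cpt_val hb] at e4
      exact ptG_inj a ha b hb e4,
    fun a ha b hb => by
      rw [← hq, ← hq, gen_dd ha, gen_dd hb]
      exact ⟨fun h => by simpa using h.map α.symm.toMonoidHom, fun h => h.map α.toMonoidHom⟩⟩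
  obtain ⟨g, hg⟩ := normalise hc 10 (by norm_num) le_rfl
  refine ⟨g, ?_⟩
  have h' : (MulAut.conj g).toMonoidHom = α.toMonoidHom := by
    refine MonoidHom.eq_of_eqOn_dense data.gen_top ?_
    rintro _ ⟨k, hk, rfl⟩
    have hk' : k < 10 := K_eq ▸ hk
    obtain ⟨j, hj, rfl⟩ := og_surj k hk'
    show g * data.gen (og j) * g⁻¹ = α (data.gen (og j))
    rw [gen_dd (og_lt hj), hq, conj_dd, hg j hj]
  exact MulEquiv.ext fun x => DFunLike.congr_fun h' x

theorem card_out : Nat.card (Cfsg.Out GG) = 1 := by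
  rw [Nat.card_eq_one_iff_unique]
  refine ⟨⟨fun a b => ?_⟩, ⟨QuotientGroup.mk (1 : MulAut GG)⟩⟩
  refine QuotientGroup.induction_on a fun α => QuotientGroup.induction_on b fun β => ?_
  rw [QuotientGroup.eq]
  obtain ⟨g, hg⟩ := classify (α⁻¹ * β)
  exact ⟨g, hg⟩

end Cfsg.Agent.InvChar.Coset.Fi23Out
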