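import Cfsg.Agent.InvChar.Coset.Fi23OutPoints

/-!
# The involutions centralising an element of order eleven in the presented group Fi23
-/

set_option autoImplicit false
set_option linter.all false
set_option maxRecDepth 100000

noncomputable section

namespace Cfsg.Agent.InvChar.Coset.Fi23Out

open Cfsg.Agent.CosetCert TreePerm Fi23G

attribute [local irreducible] seqN

/-- An element of order eleven. -/
def gg : GG := gx gW

/-- The second fixed point. -/
def PE : Fin 31671 := pw pE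

/-- Its transposition. -/
def dE : GG := dd PE

theorem PE_val : (PE : ℕ) = ptE := by rw [PE, pw_val small_words.1, small_words.2.2.2.2.2]

theorem memB_iff {x : ℕ} : ∀ {l : List ℕ}, memB x l = true ↔ x ∈ l
  | [] => by simp [memB]
  | y :: l => by simp [memB, memB_iff, Nat.beq_eq]

theorem allOK_iff {α : Type} {f : α → Bool} : ∀ {l : List α}, allOK f l = true ↔ ∀ a ∈ l, f a = true
  | [] => by simp [allOK]
  | a :: l => by simp [allOK, allOK_iff (l := l)]

theorem eqBool_iff {a b : Bool} : eqBool a b = true ↔ a = b := by cases a <;> cases b <;> simp [eqBool]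

theorem gp_spec : ∀ (i : ℕ) (c : Fin 31671), (φ (gg ^ i) c : ℕ) = gp i c
  | 0, c => by rw [pow_zero, map_one]; rfl
  | i + 1, c => by
    rw [pow_succ', map_mul, Equiv.Perm.mul_apply, gg, gx_apply (letOK_small (smallOK_iff.mp small_words.2.1)),
      ← gg, gp_spec i c]
    rfl

theorem row (c : Fin 31671) : gfix c = true ∧ inFOK c = true ∧ classYOK c = true ∧ firstOK c = true ∧
    nearAll c levelsHi = true := by
  simpa [rowOne, Bool.and_eq_true] using rows_ok c c.2

theorem fixed_zero : seqN permList gW (base0 : Fin 31671) = (base0 : Fin 31671) := by decide +kernel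

theorem fixed_E : seqN permList gW (PE : Fin 31671) = (PE : Fin 31671) := by
  have e : seqN permList gW ptE = ptE := by decide +kernel
  simpa only [PE_val] using e

theorem gg_fix {c : Fin 31671} : φ gg c = c ↔ c = base0 ∨ c = PE := by
  have hv : (φ gg c : ℕ) = seqN permList gW c := gx_apply (letOK_small (smallOK_iff.mp small_words.2.1)) c
  constructor
  · intro h
    have hm := (row c).1
    simp only [gfix, Bool.or_eq_true, memB_iff, List.mem_cons, List.not_mem_nil, or_false, Bool.not_eq_true'] at hm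
    rcases hm with (hm | hm) | hm
    · exact Or.inl (Fin.ext hm)
    · exact Or.inr (Fin.ext (hm.trans PE_val.symm))
    · exfalso
      rw [← hv, h, Nat.beq_refl] at hm
      simp at hm
  · intro hc
    rcases hc with hc | hc
    · rw [hc] at hv ⊢
      exact Fin.ext (hv.trans fixed_zero)
    · rw [hc] at hv ⊢
      exact Fin.ext (hv.trans fixed_E)

theorem commute_gg_z : Commute gg z := by
  rw [← dd_base]; exact commute_dd_iff.mpr (gg_fix.mpr (Or.inl rfl))

theorem commute_gg_dE : Commute gg dE := commute_dd_iff.mpr (gg_fix.mpr (Or.inr rfl))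

theorem gg_ne_one : gg ≠ 1 := by
  intro h
  have h1 : (φ gg ⟨1, by norm_num⟩ : ℕ) = seqN permList gW 1 :=
    gx_apply (letOK_small (smallOK_iff.mp small_words.2.1)) _
  rw [h, map_one] at h1
  revert h1
  decide +kernel

theorem gg_pow : gg ^ 11 = 1 := by
  refine eq_one_of_fix fun k hk => Fin.ext ?_
  rw [gp_spec, cpt_val hk]
  revert k
  decide +kernel

theorem orderOf_gg : orderOf gg = 11 := by
  haveI : Fact (Nat.Prime 11) := ⟨by norm_num⟩
  exact orderOf_eq_prime gg_pow gg_ne_one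

theorem z_ne_dE : z ≠ dE := by
  rw [← dd_base]
  intro h
  have := congrArg Fin.val (dd_injective h)
  rw [PE_val] at this
  revert this
  decide

theorem commute_z_dE : Commute z dE := by
  have h : mW [] PE = true := by
    rw [PE_val]; decide +kernel
  have h' := (mW_iff (w := []) rfl PE).mp h
  rwa [show pw [] = base0 by rw [pw, gx_nil, map_one]; rfl, dd_base] at h'

theorem mW_nil (c : Fin 31671) : mW [] c = true ↔ Commute (dd base0) (dd c) := by
  rw [mW_iff (w := []) rfl, show pw [] = base0 by rw [pw, gx_nil, map_one]; rfl]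

theorem mW_pE (c : Fin 31671) : mW pE c = true ↔ Commute (dd PE) (dd c) := mW_iff small_words.1 c

theorem forall_fixed {p : Fin 31671 → Prop} : (∀ f, φ gg f = f → p f) ↔ p base0 ∧ p PE := by
  refine ⟨fun h => ⟨h _ (gg_fix.mpr (Or.inl rfl)), h _ (gg_fix.mpr (Or.inr rfl))⟩, fun h f hf => ?_⟩
  rcases gg_fix.mp hf with e | e <;> rw [e]
  exacts [h.1, h.2]

theorem inF_iff (c : Fin 31671) : inF c = true ↔ ∀ f, φ gg f = f → Commute (dd f) (dd c) ∧ c ≠ f := by
  rw [forall_fixed, inF, Bool.and_eq_true, Bool.and_eq_true, Bool.and_eq_true, mW_nil, mW_pE, Bool.not_eq_true',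
    Bool.not_eq_true', ← Bool.not_eq_true, ← Bool.not_eq_true, Nat.beq_eq, Nat.beq_eq, Ne, Ne, Fin.ext_iff,
    Fin.ext_iff, PE_val]
  exact ⟨fun h => ⟨⟨h.1, h.2.2.1⟩, h.2.1, h.2.2.2⟩, fun h => ⟨h.1.1, h.2.1, h.1.2, h.2.2⟩⟩

theorem classY_iff (c : Fin 31671) : classY c = true ↔
    (∀ f, φ gg f = f → ¬ Commute (dd f) (dd c)) ∧ fsTest c fsPat = true := by
  rw [forall_fixed, classY, Bool.and_eq_true, Bool.and_eq_true, Bool.not_eq_true', Bool.not_eq_true',
    ← Bool.not_eq_true, ← Bool.not_eq_true, mW_nil, mW_pE]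
  exact ⟨fun h => ⟨⟨h.1, h.2.2⟩, h.2.1⟩, fun h => ⟨h.1.1, h.2, h.1.2⟩⟩

theorem commute_fixed {h : GG} (hg : Commute h gg) {f : Fin 31671} (hf : φ gg f = f) : φ gg (φ h f) = φ h f := by
  rw [← Equiv.Perm.mul_apply, ← map_mul, ← hg.eq, map_mul, Equiv.Perm.mul_apply, hf]

theorem fixed_preimage {h : GG} (hg : Commute h gg) {f : Fin 31671} (hf : φ gg f = f) :
    φ gg (φ h⁻¹ f) = φ h⁻¹ f ∧ φ h (φ h⁻¹ f) = f :=
  ⟨commute_fixed hg.inv_left hf, by rw [← Equiv.Perm.mul_apply, ← map_mul, mul_inv_cancel, map_one]; rfl⟩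

theorem inF_move {h : GG} (hg : Commute h gg) {c : Fin 31671} (hc : inF c = true) : inF (φ h c : ℕ) = true := by
  rw [inF_iff] at hc ⊢
  intro f hf
  obtain ⟨hf', he⟩ := fixed_preimage hg hf
  obtain ⟨h1, h2⟩ := hc _ hf'
  rw [← he]
  exact ⟨(commute_dd_move h _ _).mpr h1, fun e => h2 ((φ h).injective e)⟩

theorem pat_congr {w w' : List ℕ} {c c' : ℕ} (h : ∀ i, mW w (gp i c) = mW w' (gp i c')) :
    ∀ (l : List Bool) (i : ℕ), patFrom w c l i = patFrom w' c' l i
  | [], _ => rfl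
  | b :: l, i => by simp only [patFrom, h, pat_congr h l]

theorem entry_spec {e : ℕ × ℕ} (he : e ∈ listF) : smallOK (unpackF 64 e.2 []) = true ∧
    (pw (unpackF 64 e.2 []) : ℕ) = e.1 ∧ (patFrom (unpackF 64 e.2 []) e.1 sigBits 1 = true → e.1 ∈ orbX) := by
  have h := allOK_iff.mp entries_ok e he
  simp only [entryOK, Bool.and_eq_true, Bool.or_eq_true, Bool.not_eq_true', Nat.beq_eq, memB_iff] at h
  refine ⟨h.1, by rw [pw_val h.1, h.2.1], fun hp => ?_⟩
  rcases h.2.2 with h' | h'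
  · rw [hp] at h'; simp at h'
  · exact h'

theorem x0_lt : x0 < 31671 ∧ y0 < 31671 := by decide

/-- The chosen point. -/
def X0 : Fin 31671 := ⟨x0, x0_lt.1⟩

def Y0 : Fin 31671 := ⟨y0, x0_lt.2⟩

theorem mem_orbX {c : Fin 31671} : (c : ℕ) ∈ orbX ↔ ∃ i < 11, φ (gg ^ i) X0 = c := by
  simp only [orbX, List.mem_map, List.mem_range, Fin.ext_iff, gp_spec]
  rfl

theorem mem_orbY {c : Fin 31671} : (c : ℕ) ∈ orbY ↔ ∃ i < 11, φ (gg ^ i) Y0 = c := by
  simp only [orbY, List.mem_map, List.mem_range, Fin.ext_iff, gp_spec]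
  rfl

theorem orbX_lt {x : ℕ} (hx : x ∈ orbX) : x < 31671 := by
  simp only [orbX, List.mem_map, List.mem_range] at hx
  obtain ⟨i, -, rfl⟩ := hx
  exact (gp_spec i X0) ▸ Fin.is_lt _

theorem orbY_lt {x : ℕ} (hx : x ∈ orbY) : x < 31671 := by
  simp only [orbY, List.mem_map, List.mem_range] at hx
  obtain ⟨i, -, rfl⟩ := hx
  exact (gp_spec i Y0) ▸ Fin.is_lt _

/-- An element fixes the listed points. -/
def FixL (v : GG) (l : List ℕ) : Prop := ∀ x ∈ l, ∃ hx : x < 31671, φ v ⟨x, hx⟩ = ⟨x, hx⟩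

theorem fixL_point {v : GG} {l : List ℕ} (h : FixL v l) {c : Fin 31671} (hc : (c : ℕ) ∈ l) : φ v c = c := by
  obtain ⟨hx, e⟩ := h _ hc
  exact e

theorem closeB_spec {v : GG} {fin : List ℕ → Bool} : ∀ (l : List (List ℕ × ℕ × ℕ)) (known : List ℕ),
    closeB l known fin = true → FixL v known →
    ∃ known', fin known' = true ∧ FixL v known' ∧ FixL v (l.map fun e => e.2.2)
  | [], known, h, hk => ⟨known, h, hk, fun x hx => by simp at hx⟩
  | e :: l, known, h, hk => by
    simp only [closeB, Bool.and_eq_true, memB_iff, Nat.beq_eq] at h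
    obtain ⟨hw, hf, hz, ht, hl⟩ := h
    obtain ⟨hzn, hzf⟩ := hk _ hz
    have hff : φ v (pw e.1) = pw e.1 := fixL_point hk (by rw [pw_val hw]; exact hf)
    have hc : Commute v (gx (conjW e.1)) := by rw [← dd_pw]; exact commute_dd_iff.mpr hff
    have htv : (φ (gx (conjW e.1)) ⟨e.2.1, hzn⟩ : ℕ) = e.2.2 := by rw [gx_apply (conjW_ok hw)]; exact ht
    have hnew : ∃ hx : e.2.2 < 31671, φ v ⟨e.2.2, hx⟩ = ⟨e.2.2, hx⟩ := by
      refine ⟨htv ▸ Fin.is_lt _, ?_⟩
      have e' : (⟨e.2.2, htv ▸ Fin.is_lt _⟩ : Fin 31671) = φ (gx (conjW e.1)) ⟨e.2.1, hzn⟩ := Fin.ext htv.symm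
      rw [e', ← Equiv.Perm.mul_apply, ← map_mul, hc.eq, map_mul, Equiv.Perm.mul_apply, hzf]
    obtain ⟨k', h1, h2, h3⟩ := closeB_spec l _ hl (fun x hx => (List.mem_cons.mp hx).elim (fun q => q ▸ hnew) (hk x))
    exact ⟨k', h1, h2, fun x hx => by
      rcases List.mem_cons.mp hx with rfl | hx
      · exact hnew
      · exact h3 x hx⟩

theorem fixL_orbit {v : GG} (hv : Commute v gg) {P : Fin 31671} (hP : φ v P = P) (i : ℕ) :
    φ v (φ (gg ^ i) P) = φ (gg ^ i) P := by
  rw [← Equiv.Perm.mul_apply, ← map_mul, (hv.pow_right i).eq, map_mul, Equiv.Perm.mul_apply, hP]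

theorem fixL_orbX {v : GG} (hv : Commute v gg) (hP : φ v X0 = X0) : FixL v orbX := fun x hx => by
  obtain ⟨i, -, e⟩ := (mem_orbX (c := ⟨x, orbX_lt hx⟩)).mp hx
  exact ⟨orbX_lt hx, by rw [← e]; exact fixL_orbit hv hP i⟩

theorem fixL_orbY {v : GG} (hv : Commute v gg) (hP : φ v Y0 = Y0) : FixL v orbY := fun x hx => by
  obtain ⟨i, -, e⟩ := (mem_orbY (c := ⟨x, orbY_lt hx⟩)).mp hx
  exact ⟨orbY_lt hx, by rw [← e]; exact fixL_orbit hv hP i⟩

theorem fsTest_congr {c c' : ℕ} : ∀ {l : List (List ℕ × Bool)}, (∀ e ∈ l, mW e.1 c = mW e.1 c') →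
    fsTest c l = fsTest c' l
  | [], _ => rfl
  | e :: l, h => by
    simp only [fsTest, h e List.mem_cons_self, fsTest_congr fun a ha => h a (List.mem_cons_of_mem _ ha)]

theorem kerWords_spec {u : List ℕ} (hu : u ∈ kerWords) :
    letOK u = true ∧ (gx u = 1 ∨ gx u = z ∨ gx u = dE ∨ gx u = z * dE) := by
  have hE : gx (conjW pE) = dE := (dd_pw pE).symm
  have hz : gx [17] = z := by rw [gx_cons, gx_nil, one_mul, lw, if_pos rfl]
  have hEk := conjW_ok small_words.1
  simp only [kerWords, List.mem_cons, List.not_mem_nil, or_false] at hu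
  rcases hu with rfl | rfl | rfl | rfl
  · exact ⟨rfl, Or.inl rfl⟩
  · exact ⟨rfl, Or.inr (Or.inl hz)⟩
  · exact ⟨hEk, Or.inr (Or.inr (Or.inl hE))⟩
  · refine ⟨letOK_append (u := [17]) rfl hEk, Or.inr (Or.inr (Or.inr ?_))⟩
    rw [gx_cons, hE, lw, if_pos rfl, commute_z_dE.eq]

/-- The involutions centralising the element of order eleven. -/
theorem eq_of_centralises {h : GG} (hg : Commute h gg) (hs : h * h = 1) (h1 : h ≠ 1) :
    h = z ∨ h = dE ∨ h = z * dE := by
  obtain ⟨w, hwm, hwp⟩ := orbit_pat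
  obtain ⟨hws, hwv, -⟩ := entry_spec hwm
  have hX : pw (unpackF 64 w []) = X0 := Fin.ext hwv
  have hXin : inF (X0 : ℕ) = true := allOK_iff.mp orbit_in _ (mem_orbX.mpr ⟨0, by norm_num, by rw [pow_zero, map_one]; rfl⟩)
  have hmem := (row (φ h X0)).2.1
  simp only [inFOK, inF_move hg hXin, Bool.not_true, Bool.false_or, memB_iff, pointsF, List.mem_map] at hmem
  obtain ⟨⟨c', w'⟩, hm', hc'⟩ := hmem
  obtain ⟨hws', hwv', hpo⟩ := entry_spec hm'
  have hX' : pw (unpackF 64 w' []) = φ h X0 := Fin.ext (hwv'.trans hc')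
  have horb : (φ h X0 : ℕ) ∈ orbX := by
    rw [← hc']
    refine hpo ?_
    rw [pat_congr (w' := unpackF 64 w []) (c' := x0) (fun i => ?_)]
    · exact hwp
    show mW (unpackF 64 w' []) (gp i c') = mW (unpackF 64 w []) (gp i (X0 : ℕ))
    have hc'' : c' = (φ h X0 : ℕ) := hc'
    rw [hc'', ← gp_spec, ← gp_spec, Bool.eq_iff_iff, mW_iff hws', mW_iff hws, hX, hX', ← Equiv.Perm.mul_apply,
      ← map_mul, ← (hg.pow_right i).eq, map_mul, Equiv.Perm.mul_apply, commute_dd_move]
  obtain ⟨i, hi, hiX⟩ := mem_orbX.mp horb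
  set v1 := (gg ^ i)⁻¹ * h with hv1
  have hv1g : Commute v1 gg := ((Commute.pow_self gg i).inv_left).mul_left hg
  have hv1X : φ v1 X0 = X0 := by
    rw [hv1, map_mul, Equiv.Perm.mul_apply, ← hiX, map_inv, Equiv.Perm.inv_eq_iff_eq]
  obtain ⟨kn, hfin, hkn, -⟩ := closeB_spec (v := v1) steps1 orbX close_one (fixL_orbX hv1g hv1X)
  have hfs : ∀ e ∈ fsPat, φ v1 (pw e.1) = pw e.1 ∧ smallOK e.1 = true := fun e he => by
    have hse : smallOK e.1 = true := allOK_iff.mp small_words.2.2.2.2.1 e he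
    refine ⟨fixL_point hkn ?_, hse⟩
    rw [pw_val hse]
    exact memB_iff.mp (allOK_iff.mp hfin _ (List.mem_map.mpr ⟨e, he, rfl⟩))
  have hYc : classY (φ v1 Y0 : ℕ) = true := by
    have hY := (classY_iff Y0).mp y_class
    refine (classY_iff _).mpr ⟨fun f hf => ?_, ?_⟩
    · obtain ⟨hf', he⟩ := fixed_preimage hv1g hf
      rw [← he, commute_dd_move]
      exact hY.1 _ hf'
    · rw [fsTest_congr (c' := (Y0 : ℕ)) fun e he => ?_]
      · exact hY.2
      obtain ⟨hfe, hse⟩ := hfs e he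
      rw [Bool.eq_iff_iff, mW_iff hse, mW_iff hse]
      conv_lhs => rw [← hfe]
      exact commute_dd_move v1 _ _
  have hYm := (row (φ v1 Y0)).2.2.1
  simp only [classYOK, hYc, Bool.not_true, Bool.false_or, memB_iff, List.mem_map] at hYm
  obtain ⟨u, hu, huY⟩ := hYm
  obtain ⟨hul, hcases⟩ := kerWords_spec hu
  set U := gx u with hU
  have hUg : Commute U gg := by
    rcases hcases with e | e | e | e <;> rw [e]
    · exact Commute.one_left gg
    · exact commute_gg_z.symm
    · exact commute_gg_dE.symm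
    · exact commute_gg_z.symm.mul_left commute_gg_dE.symm
  have hUX : φ U X0 = X0 := by
    have hh := (inF_iff X0).mp hXin
    have a := (hh base0 (gg_fix.mpr (Or.inl rfl))).1
    have b := (hh PE (gg_fix.mpr (Or.inr rfl))).1
    rw [dd_base] at a
    refine commute_dd_iff.mp ?_
    rcases hcases with e | e | e | e <;> rw [e]
    exacts [Commute.one_left _, a, b, a.mul_left b]
  set v2 := U⁻¹ * v1 with hv2
  have hv2g : Commute v2 gg := hUg.inv_left.mul_left hv1g
  have hv2X : φ v2 X0 = X0 := by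
    rw [hv2, map_mul, Equiv.Perm.mul_apply, hv1X, map_inv, Equiv.Perm.inv_eq_iff_eq, hUX]
  have hv2Y : φ v2 Y0 = Y0 := by
    rw [hv2, map_mul, Equiv.Perm.mul_apply, map_inv, Equiv.Perm.inv_eq_iff_eq]
    exact Fin.ext (by rw [hU, gx_apply hul]; exact huY.symm)
  have hX2 := fixL_orbX hv2g hv2X
  obtain ⟨-, -, -, hk1⟩ := closeB_spec (v := v2) steps1 orbX close_one hX2
  have hstart : FixL v2 (known1 ++ orbY) := fun x hx => by
    simp only [known1, List.mem_append] at hx
    rcases hx with (hx | hx) | hx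
    exacts [hk1 x hx, hX2 x hx, fixL_orbY hv2g hv2Y x hx]
  obtain ⟨kn2, hfin2, hkn2, -⟩ := closeB_spec (v := v2) steps2 _ close_two hstart
  have hv : v2 = 1 := eq_one_of_fix fun k hk => fixL_point hkn2 (by
    rw [cpt_val hk]
    refine memB_iff.mp (allOK_iff.mp hfin2 _ ?_)
    interval_cases k <;> simp [genPoints])
  have hhU : h = gg ^ i * U := by
    have e1 : v1 = U := (inv_mul_eq_one.mp hv).symm
    rw [← e1, hv1, mul_inv_cancel_left]
  have hUU : U * U = 1 := by
    have hE : dE * dE = 1 := by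
      rw [dE, dd]
      calc rp PE * z * (rp PE)⁻¹ * (rp PE * z * (rp PE)⁻¹) = rp PE * (z * z) * (rp PE)⁻¹ := by group
        _ = 1 := by rw [z_sq, mul_one, mul_inv_cancel]
    rcases hcases with e | e | e | e <;> rw [e]
    · exact one_mul 1
    · exact z_sq
    · exact hE
    · rw [commute_z_dE.symm.mul_mul_mul_comm, z_sq, hE, one_mul]
  have hsq : gg ^ (i + i) = 1 := by
    rw [hhU] at hs
    rw [(hUg.pow_right i).mul_mul_mul_comm, hUU, mul_one, ← pow_add] at hs
    exact hs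
  have hi0 : i = 0 := by
    have := orderOf_dvd_of_pow_eq_one hsq
    rw [orderOf_gg] at this
    omega
  rw [hi0, pow_zero, one_mul] at hhU
  rw [hhU] at h1 ⊢
  exact hcases.resolve_left h1

end Cfsg.Agent.InvChar.Coset.Fi23Out
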