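import Cfsg.Agent.InvChar.Coset.Fi23GRowDefs
import Cfsg.Agent.InvChar.Coset.Fi23OutData

/-!
# Checks for the automorphisms of the presented group Fi23
-/

set_option autoImplicit false
set_option linter.all false

noncomputable section

namespace Cfsg.Agent.InvChar.Coset.Fi23Out

open Cfsg.Agent.CosetCert TreePerm Fi23G

/-- The word of the transposition of the point reached by a word. -/
def conjW (w : List ℕ) : List ℕ := w.reverse ++ 17 :: w

def letOK : List ℕ → Bool
  | [] => true
  | y :: l => (Nat.blt y 10 || Nat.beq y 17) && letOK l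

def smallOK : List ℕ → Bool
  | [] => true
  | y :: l => Nat.blt y 10 && smallOK l

/-- The transposition of the point of a word fixes a point. -/
def mW (w : List ℕ) (c : ℕ) : Bool := Nat.beq (seqN permList (conjW w) c) c

def memB (x : ℕ) : List ℕ → Bool
  | [] => false
  | y :: l => Nat.beq x y || memB x l

def eqBool : Bool → Bool → Bool
  | true, b => b
  | false, b => !b

/-- The point after repeated steps. -/
def gp : ℕ → ℕ → ℕ
  | 0, c => c
  | i + 1, c => seqN permList gW (gp i c)

def gfix (c : ℕ) : Bool := memB c [0, ptE] || !(Nat.beq (seqN permList gW c) c)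

def inF (c : ℕ) : Bool := mW [] c && (mW pE c && (!(Nat.beq c 0) && !(Nat.beq c ptE)))

def unpackF : ℕ → ℕ → List ℕ → List ℕ
  | 0, _, acc => acc
  | f + 1, v, acc => cond (Nat.beq v 0) acc (unpackF f (Nat.shiftRight v 4) (Nat.sub (Nat.land v 15) 1 :: acc))

def pointsF : List ℕ := listF.map Prod.fst

/-- The orbit of the chosen point. -/
def orbX : List ℕ := (List.range 11).map fun i => gp i x0

def orbY : List ℕ := (List.range 11).map fun i => gp i y0

def patFrom (w : List ℕ) (c : ℕ) : List Bool → ℕ → Bool
  | [], _ => true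
  | b :: l, i => eqBool b (mW w (gp i c)) && patFrom w c l (Nat.succ i)

def inFOK (c : ℕ) : Bool := !(inF c) || memB c pointsF

def entryOK (e : ℕ × ℕ) : Bool :=
  smallOK (unpackF 64 e.2 []) && (Nat.beq (seqN permList (unpackF 64 e.2 []) 0) e.1 &&
    (!(patFrom (unpackF 64 e.2 []) e.1 sigBits 1) || memB e.1 orbX))

def allOK {α : Type} (f : α → Bool) : List α → Bool
  | [] => true
  | a :: l => f a && allOK f l

def fsTest (c : ℕ) : List (List ℕ × Bool) → Bool
  | [] => true
  | e :: l => eqBool e.2 (mW e.1 c) && fsTest c l

def classY (c : ℕ) : Bool := !(mW [] c) && (fsTest c fsPat && !(mW pE c))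

/-- The elements fixing every point commuting with both fixed points. -/
def kerWords : List (List ℕ) := [[], [17], conjW pE, 17 :: conjW pE]

def classYOK (c : ℕ) : Bool := !(classY c) || memB c (kerWords.map fun u => seqN permList u y0)

/-- Closure under transpositions of known points. -/
def closeB : List (List ℕ × ℕ × ℕ) → List ℕ → (List ℕ → Bool) → Bool
  | [], known, fin => fin known
  | e :: l, known, fin => smallOK e.1 && (memB (seqN permList e.1 0) known && (memB e.2.1 known &&
      (Nat.beq (seqN permList (conjW e.1) e.2.1) e.2.2 && closeB l (e.2.2 :: known) fin)))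

/-- The point of a generator. -/
def ptG (k : ℕ) : ℕ := nthNat genPts k

def fsPoints : List ℕ := fsPat.map fun e => seqN permList e.1 0

def genPoints : List ℕ := [ptG 0, ptG 1, ptG 2, ptG 3, ptG 4, ptG 5, ptG 6, ptG 7, ptG 8, ptG 9]

def known1 : List ℕ := steps1.map (fun e => e.2.2) ++ orbX

def subB (a b : List ℕ) : Bool := allOK (fun x => memB x b) a

def closeOne : Bool := closeB steps1 orbX fun k => subB fsPoints k

def closeTwo : Bool := closeB steps2 (known1 ++ orbY) fun k => subB genPoints k

def firstOK (c : ℕ) : Bool := Nat.beq (seqN permList (conjW (genWord first)) c) (rd (nthT permList first) c)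

/-- The generator in a given place. -/
def og (j : ℕ) : ℕ := nthNat ordG j

def meetsG (k c : ℕ) : Bool := Nat.beq (rd (nthT permList k) c) c

/-- A point stands to the first chosen points as the next chosen point does. -/
def nearB (m c : ℕ) : ℕ → Bool
  | 0 => true
  | j + 1 => (!(Nat.beq c (ptG (og j))) && eqBool (meetsG (og j) (ptG (og m))) (meetsG (og j) c)) && nearB m c j

def genPerm (g : List (List ℕ)) : List ℕ := g.flatMap conjW

def fixFirst (g : List ℕ) : ℕ → Bool
  | 0 => true
  | j + 1 => Nat.beq (seqN permList g (ptG (og j))) (ptG (og j)) && fixFirst g j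

def gensOK (m : ℕ) : Bool :=
  allOK (fun g => letOK (genPerm g) && fixFirst (genPerm g) m) (levelGens m)

def getG : List (List (List ℕ)) → ℕ → List (List ℕ)
  | [], _ => []
  | a :: _, 0 => a
  | _ :: l, i + 1 => getG l i

def orbitB (m : ℕ) : List (ℕ × ℕ × ℕ) → List ℕ → Bool
  | [], _ => true
  | e :: l, known => memB e.2.2 known && (Nat.blt e.2.1 (levelGens m).length &&
      (Nat.beq (seqN permList (genPerm (getG (levelGens m) e.2.1)) e.2.2) e.1 && orbitB m l (e.1 :: known)))

def reached (m : ℕ) : List ℕ := ptG (og m) :: (levelNodes m).map Prod.fst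

def nearAll (c : ℕ) : List ℕ → Bool
  | [] => true
  | m :: l => (!(nearB m c m) || memB c (reached m)) && nearAll c l

def levelsHi : List ℕ := [2, 3, 4, 5, 6, 7, 8, 9]

def rowOne (c : ℕ) : Bool := gfix c && (inFOK c && (classYOK c && (firstOK c && nearAll c levelsHi)))

end Cfsg.Agent.InvChar.Coset.Fi23Out
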