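import Cfsg.Agent.InvChar.Coset.Fi23SylDefs

/-!
# The checks for a Sylow 2-subgroup of the presented group Fi23
-/

set_option autoImplicit false
set_option linter.all false
set_option maxRecDepth 100000
set_option Elab.async false

noncomputable section

namespace Cfsg.Agent.InvChar.Coset.Fi23Syl

open Cfsg.Agent.CosetCert TreePerm Fi23G Fi23Out

theorem cliques_ok : scanR cliqueOK 0 23 = true := by decide +kernel

theorem meets_ok : scanR (fun i => meetRow i 23) 0 23 = true := by decide +kernel

theorem lifts_ok : scanR liftOK 0 7 = true := by decide +kernel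

theorem moved_ok : scanR movedOK 0 2048 = true := by decide +kernel

theorem perms_ok : scanR (fun m => newPerm m m) 0 128 = true := by decide +kernel

theorem squares_ok : scanR squareOK 0 128 = true := by decide +kernel

theorem muls_ok : scanR (fun a => mulRow a 35) 0 35 = true := by decide +kernel

theorem fix0 : scanR (fun i => scanR (fixOK i) 0 2048 && Nat.ble (getL fixLists i).length 128) 0 5 = true := by
  decide +kernel

theorem fix1 : scanR (fun i => scanR (fixOK i) 0 2048 && Nat.ble (getL fixLists i).length 128) 5 5 = true := by
  decide +kernel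

theorem fix2 : scanR (fun i => scanR (fixOK i) 0 2048 && Nat.ble (getL fixLists i).length 128) 10 5 = true := by
  decide +kernel

theorem fix3 : scanR (fun i => scanR (fixOK i) 0 2048 && Nat.ble (getL fixLists i).length 128) 15 5 = true := by
  decide +kernel

theorem fix4 : scanR (fun i => scanR (fixOK i) 0 2048 && Nat.ble (getL fixLists i).length 128) 20 5 = true := by
  decide +kernel

theorem fix5 : scanR (fun i => scanR (fixOK i) 0 2048 && Nat.ble (getL fixLists i).length 128) 25 5 = true := by
  decide +kernel

theorem fix6 : scanR (fun i => scanR (fixOK i) 0 2048 && Nat.ble (getL fixLists i).length 128) 30 5 = true := by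
  decide +kernel

theorem fixes_ok : ∀ i < 35, (scanR (fixOK i) 0 2048 && Nat.ble (getL fixLists i).length 128) = true :=
  (scan_add (f := fun i => scanR (fixOK i) 0 2048 && Nat.ble (getL fixLists i).length 128) 30 5 (scan_add (f := fun i => scanR (fixOK i) 0 2048 && Nat.ble (getL fixLists i).length 128) 25 5 (scan_add (f := fun i => scanR (fixOK i) 0 2048 && Nat.ble (getL fixLists i).length 128) 20 5 (scan_add (f := fun i => scanR (fixOK i) 0 2048 && Nat.ble (getL fixLists i).length 128) 15 5 (scan_add (f := fun i => scanR (fixOK i) 0 2048 && Nat.ble (getL fixLists i).length 128) 10 5 (scan_add (f := fun i => scanR (fixOK i) 0 2048 && Nat.ble (getL fixLists i).length 128) 5 5 (scan_add (f := fun i => scanR (fixOK i) 0 2048 && Nat.ble (getL fixLists i).length 128) 0 5 (scan_zero _) fix0) fix1) fix2) fix3) fix4) fix5) fix6)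

theorem permI_ok : ∀ i < 35, permI i = invP i := by decide +kernel

theorem pairs_ok : scanR (fun a => pairRow a 35) 0 35 = true := by decide +kernel

theorem search_ok : search (List.range 35) [] = true := by decide +kernel

theorem shapes_ok : allOK (fun b => Nat.blt b 23) basis = true ∧ basis.length = 11 ∧ invs.length = 35 ∧
    allOK (fun m => Nat.blt m 128) invs = true ∧ allOK (fun c => Nat.blt c 31671) sepPts = true := by
  decide +kernel

end Cfsg.Agent.InvChar.Coset.Fi23Syl
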