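import Cfsg.Agent.InvChar.Coset.Fi23OutCent
import Cfsg.Agent.InvChar.Coset.Fi23SylCheck
import Cfsg.Prelude.Def_Transfer

/-!
# The largest elementary abelian subgroup of a Sylow 2-subgroup of the presented group Fi23
-/

set_option autoImplicit false
set_option linter.all false
set_option maxRecDepth 100000

noncomputable section

namespace Cfsg.Agent.InvChar.Coset.Fi23Syl

open Cfsg.Agent.CosetCert TreePerm Fi23G Fi23Out

attribute [local irreducible] seqN

/-- A point of the clique. -/
def cl (i : ℕ) : Fin 31671 := pw (cw i)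

theorem clique_spec {i : ℕ} (hi : i < 23) : smallOK (cw i) = true ∧ (cl i : ℕ) = nthNat clique i ∧
    nthNat coords i < 2048 ∧ sameAt (conjW (cw i)) (aW basis (nthNat coords i)) 10 = true := by
  have h := scanR_spec _ _ _ cliques_ok i (Nat.zero_le i) (by omega)
  simp only [cliqueOK, Bool.and_eq_true, Nat.beq_eq, Nat.blt_eq] at h
  exact ⟨h.1, by rw [cl, pw_val h.1, h.2.1], h.2.2.1, h.2.2.2⟩

theorem sameAt_spec {u w : List ℕ} : ∀ {n : ℕ}, sameAt u w n = true →
    ∀ k < n, seqN permList u (ptG k) = seqN permList w (ptG k)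
  | 0, _, k, hk => absurd hk (by omega)
  | n + 1, h, k, hk => by
    simp only [sameAt, Bool.and_eq_true, Nat.beq_eq] at h
    rcases Nat.lt_succ_iff_lt_or_eq.mp hk with e | rfl
    · exact sameAt_spec h.2 k e
    · exact h.1

theorem gx_eq {u w : List ℕ} (hu : letOK u = true) (hw : letOK w = true) (h : sameAt u w 10 = true) :
    gx u = gx w := by
  have e : (gx w)⁻¹ * gx u = 1 := eq_one_of_fix fun k hk => by
    rw [map_mul, Equiv.Perm.mul_apply, map_inv, Equiv.Perm.inv_eq_iff_eq]
    refine Fin.ext ?_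
    rw [gx_apply hu, gx_apply hw, cpt_val hk, sameAt_spec h k hk]
  exact (inv_mul_eq_one.mp e).symm

theorem conjs_ok : ∀ {l : List (List ℕ)}, allOK smallOK l = true → letOK (l.flatMap conjW) = true
  | [], _ => rfl
  | a :: l, h => by
    simp only [allOK, Bool.and_eq_true] at h
    rw [List.flatMap_cons]
    exact letOK_append (conjW_ok h.1) (conjs_ok h.2)

theorem aW_ok : ∀ {l : List ℕ}, (∀ b ∈ l, b < 23) → ∀ v, letOK (aW l v) = true
  | [], _, _ => rfl
  | b :: l, h, v => by
    refine letOK_append ?_ (aW_ok (fun a ha => h a (List.mem_cons_of_mem _ ha)) _)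
    cases Nat.beq (v % 2) 1
    · rfl
    · exact conjW_ok (clique_spec (h b List.mem_cons_self)).1

theorem basis_lt : ∀ b ∈ basis, b < 23 := fun b hb => by
  simpa [Nat.blt_eq] using allOK_iff.mp shapes_ok.1 b hb

/-- The element of a coordinate vector. -/
def ea (l : List ℕ) (v : ℕ) : GG := gx (aW l v)

theorem dd_cl (i : ℕ) : dd (cl i) = gx (conjW (cw i)) := dd_pw _

theorem cl_comm {a b : ℕ} (ha : a < 23) (hb : b < 23) : Commute (dd (cl a)) (dd (cl b)) := by
  have h := scanR_spec _ _ _ meets_ok a (Nat.zero_le a) (by omega)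
  have hrow : ∀ n, meetRow a n = true → ∀ k < n, mW (cw a) (nthNat clique k) = true := by
    intro n
    induction n with
    | zero => intro _ k hk; omega
    | succ n ih =>
      intro hh k hk
      simp only [meetRow, Bool.and_eq_true] at hh
      rcases Nat.lt_succ_iff_lt_or_eq.mp hk with e | rfl
      · exact ih hh.2 k e
      · exact hh.1
  have h' := hrow 23 h b hb
  rw [← (clique_spec hb).2.1] at h'
  exact (mW_iff (clique_spec ha).1 (cl b)).mp h'

theorem ea_cons (b : ℕ) (l : List ℕ) (v : ℕ) :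
    ea (b :: l) v = ea l (v / 2) * cond (Nat.beq (v % 2) 1) (dd (cl b)) 1 := by
  simp only [ea, aW, gx_append]
  cases Nat.beq (v % 2) 1
  · rfl
  · rw [cond_true, cond_true, dd_cl]

theorem ea_comm {b : ℕ} (hb : b < 23) : ∀ {l : List ℕ}, (∀ a ∈ l, a < 23) → ∀ v, Commute (dd (cl b)) (ea l v)
  | [], _, v => Commute.one_right _
  | a :: l, h, v => by
    rw [ea_cons]
    refine (ea_comm hb (fun x hx => h x (List.mem_cons_of_mem _ hx)) _).mul_right ?_
    cases Nat.beq (v % 2) 1
    · exact Commute.one_right _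
    · exact cl_comm hb (h a List.mem_cons_self)

theorem dd_sq (c : Fin 31671) : dd c * dd c = 1 := by
  rw [dd]
  calc rp c * z * (rp c)⁻¹ * (rp c * z * (rp c)⁻¹) = rp c * (z * z) * (rp c)⁻¹ := by group
    _ = 1 := by rw [z_sq, mul_one, mul_inv_cancel]

theorem xor_half (v w : ℕ) : (v ^^^ w) / 2 = v / 2 ^^^ w / 2 ∧
    Nat.beq ((v ^^^ w) % 2) 1 = xor (Nat.beq (v % 2) 1) (Nat.beq (w % 2) 1) := by
  refine ⟨?_, ?_⟩
  · refine Nat.eq_of_testBit_eq fun i => ?_
    simp [Nat.testBit_xor, Nat.testBit_div_two]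
  · have h : (v ^^^ w).testBit 0 = xor (v.testBit 0) (w.testBit 0) := Nat.testBit_xor v w 0
    simp only [Nat.testBit_zero] at h
    have e : ∀ x : ℕ, Nat.beq x 1 = decide (x = 1) := fun x => by
      rw [Bool.eq_iff_iff, Nat.beq_eq, decide_eq_true_iff]
    rw [e, e, e]
    exact h

theorem ea_mul : ∀ {l : List ℕ}, (∀ a ∈ l, a < 23) → ∀ v w, ea l v * ea l w = ea l (v ^^^ w)
  | [], _, v, w => one_mul 1
  | b :: l, h, v, w => by
    have hl : ∀ a ∈ l, a < 23 := fun x hx => h x (List.mem_cons_of_mem _ hx)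
    have hb := h b List.mem_cons_self
    obtain ⟨h1, h2⟩ := xor_half v w
    rw [ea_cons, ea_cons, ea_cons, h1, h2, ← ea_mul hl]
    have hc : Commute (cond (Nat.beq (v % 2) 1) (dd (cl b)) 1) (ea l (w / 2)) := by
      cases Nat.beq (v % 2) 1
      · exact Commute.one_left _
      · exact ea_comm hb hl _
    rw [hc.mul_mul_mul_comm]
    congr 1
    cases Nat.beq (v % 2) 1 <;> cases Nat.beq (w % 2) 1 <;> simp [dd_sq]

/-- The element of a coordinate vector of the basis. -/
abbrev E (v : ℕ) : GG := ea basis v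

theorem E_mul (v w : ℕ) : E v * E w = E (v ^^^ w) := ea_mul basis_lt v w

theorem ea_zero : ∀ l : List ℕ, ea l 0 = 1
  | [] => rfl
  | b :: l => by
    rw [ea_cons, Nat.zero_div, ea_zero l, one_mul]
    rfl

theorem E_zero : E 0 = 1 := ea_zero basis

theorem xor_lt {v w : ℕ} (hv : v < 2048) (hw : w < 2048) : v ^^^ w < 2048 := Nat.xor_lt_two_pow (n := 11) hv hw

theorem E_fix_cl {v i : ℕ} (hi : i < 23) : φ (E v) (cl i) = cl i :=
  commute_dd_iff.mp (ea_comm hi basis_lt v).symm

theorem dd_coord {i : ℕ} (hi : i < 23) : dd (cl i) = E (nthNat coords i) := by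
  rw [dd_cl]
  exact gx_eq (conjW_ok (clique_spec hi).1) (aW_ok basis_lt _) (clique_spec hi).2.2.2

theorem E_inj {v : ℕ} (hv : v < 2048) (h : E v = 1) : v = 0 := by
  have hm := scanR_spec _ _ _ moved_ok v (Nat.zero_le v) (by omega)
  simp only [movedOK, Bool.or_eq_true, Nat.beq_eq, Bool.not_eq_true'] at hm
  rcases hm with hm | hm
  · exact hm
  · exfalso
    have : ∀ l : List ℕ, allOK (fun c => Nat.blt c 31671) l = true → sepFix v l = true := by
      intro l
      induction l with
      | nil => intro _; rfl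
      | cons c l ih =>
        intro hl
        simp only [allOK, Bool.and_eq_true, Nat.blt_eq] at hl
        simp only [sepFix, Bool.and_eq_true, Nat.beq_eq]
        refine ⟨?_, ih hl.2⟩
        have := gx_apply (aW_ok basis_lt v) ⟨c, hl.1⟩
        rw [show gx (aW basis v) = 1 from h, map_one] at this
        exact this.symm
    rw [this _ shapes_ok.2.2.2.2] at hm
    exact absurd hm (by decide)

/-! ### Lifts of the permutations -/

def gl (j : ℕ) : GG := gx (liftG j)

theorem lift_spec {j : ℕ} (hj : j < 7) : (getL liftPerm j).length = 23 ∧ letOK (liftG j) = true ∧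
    permRow j 23 = true ∧ exprOK j (liftG j ++ liftG j) (nthPair sqData j) = true ∧ cjRow j j = true := by
  have h := scanR_spec _ _ _ lifts_ok j (Nat.zero_le j) (by omega)
  simp only [liftOK, Bool.and_eq_true, Nat.beq_eq] at h
  exact ⟨h.1, conjs_ok h.2.1, h.2.2.1, h.2.2.2.1, h.2.2.2.2⟩

theorem gl_cl {j i : ℕ} (hj : j < 7) (hi : i < 23) :
    φ (gl j) (cl i) = cl (nthNat (getL liftPerm j) i) ∧ nthNat (getL liftPerm j) i < 23 := by
  have hrow : ∀ n, permRow j n = true → ∀ k < n, seqN permList (liftG j) (nthNat clique k) =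
      nthNat clique (nthNat (getL liftPerm j) k) ∧ nthNat (getL liftPerm j) k < 23 := by
    intro n
    induction n with
    | zero => intro _ k hk; omega
    | succ n ih =>
      intro hh k hk
      simp only [permRow, Bool.and_eq_true, Nat.beq_eq, Nat.blt_eq] at hh
      rcases Nat.lt_succ_iff_lt_or_eq.mp hk with e | rfl
      · exact ih hh.2.2 k e
      · exact ⟨hh.1, hh.2.1⟩
  obtain ⟨h1, h2⟩ := hrow 23 (lift_spec hj).2.2.1 i hi
  refine ⟨Fin.ext ?_, h2⟩
  rw [gl, gx_apply (lift_spec hj).2.1, (clique_spec hi).2.1, (clique_spec h2).2.1, h1]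

theorem rW_ok : ∀ {j : ℕ}, j ≤ 7 → ∀ m, letOK (rW j m) = true
  | 0, _, _ => rfl
  | j + 1, hj, m => by
    refine letOK_append ?_ (rW_ok (by omega) m)
    cases bitB m j
    · rfl
    · exact (lift_spec (by omega)).2.1

def er (j m : ℕ) : GG := gx (rW j m)

theorem er_succ (j m : ℕ) : er (j + 1) m = er j m * cond (bitB m j) (gl j) 1 := by
  simp only [er, rW, gx_append]
  cases bitB m j <;> rfl

theorem nthNat_map {f : ℕ → ℕ} : ∀ {l : List ℕ} {k : ℕ}, k < l.length → nthNat (l.map f) k = f (nthNat l k)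
  | [], k, hk => absurd hk (by simp)
  | a :: l, 0, _ => rfl
  | a :: l, k + 1, hk => nthNat_map (l := l) (k := k) (by simpa using hk)

theorem idP_spec : idP.length = 23 ∧ ∀ i < 23, nthNat idP i = i := by decide +kernel

theorem rP_len : ∀ {j : ℕ}, j ≤ 7 → ∀ m, (rP j m).length = 23
  | 0, _, _ => idP_spec.1
  | j + 1, hj, m => by
    simp only [rP]
    cases bitB m j
    · exact rP_len (by omega) m
    · simp only [cond_true, compP, List.length_map]
      exact (lift_spec (by omega)).1

theorem er_cl : ∀ {j : ℕ}, j ≤ 7 → ∀ m, ∀ i < 23, φ (er j m) (cl i) = cl (nthNat (rP j m) i) ∧ nthNat (rP j m) i < 23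
  | 0, _, m, i, hi => by
    have e : er 0 m = 1 := rfl
    rw [e, map_one, rP, idP_spec.2 i hi]
    exact ⟨rfl, hi⟩
  | j + 1, hj, m, i, hi => by
    rw [er_succ, map_mul, Equiv.Perm.mul_apply, rP]
    cases bitB m j
    · rw [cond_false, cond_false, map_one]
      exact er_cl (by omega) m i hi
    · obtain ⟨h1, h2⟩ := gl_cl (show j < 7 by omega) hi
      rw [cond_true, cond_true, h1, compP, nthNat_map (by rw [(lift_spec (show j < 7 by omega)).1]; exact hi)]
      exact er_cl (by omega) m _ h2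

theorem conj_ea {x : GG} {p : List ℕ} (hx : ∀ i < 23, φ x (cl i) = cl (nthNat p i) ∧ nthNat p i < 23) :
    ∀ {l : List ℕ}, (∀ b ∈ l, b < 23) → ∀ v, x * ea l v * x⁻¹ = E (actV p l v) ∧ actV p l v < 2048
  | [], _, v => by
    rw [show ea [] v = 1 from rfl, mul_one, mul_inv_cancel, actV, E_zero]
    exact ⟨rfl, by norm_num⟩
  | b :: l, h, v => by
    obtain ⟨hc, hlt⟩ := conj_ea hx (fun a ha => h a (List.mem_cons_of_mem _ ha)) (v / 2)
    obtain ⟨hb, hb'⟩ := hx b (h b List.mem_cons_self)
    have hq := (clique_spec hb').2.2.1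
    rw [ea_cons, actV]
    cases Nat.beq (v % 2) 1
    · simp only [cond_false, mul_one, Nat.zero_xor]
      exact ⟨hc, hlt⟩
    · simp only [cond_true]
      refine ⟨?_, xor_lt hq hlt⟩
      calc x * (ea l (v / 2) * dd (cl b)) * x⁻¹ = (x * ea l (v / 2) * x⁻¹) * (x * dd (cl b) * x⁻¹) := by group
        _ = _ := by rw [hc, conj_dd, hb, dd_coord hb', E_mul, Nat.xor_comm]

/-- The products of coordinate vectors and of the first lifts. -/
def Form (j : ℕ) (x : GG) : Prop := ∃ v < 2048, ∃ m < 2 ^ j, x = E v * er j m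

theorem er_high : ∀ {j m b : ℕ}, m < 2 ^ j → er j (m + 2 ^ j * b) = er j m ∧ rP j (m + 2 ^ j * b) = rP j m := by
  intro j m b _
  have key : ∀ i ≤ j, er i (m + 2 ^ j * b) = er i m ∧ rP i (m + 2 ^ j * b) = rP i m := by
    intro i
    induction i with
    | zero => intro _; exact ⟨rfl, rfl⟩
    | succ i ih =>
      intro hi
      obtain ⟨h1, h2⟩ := ih (by omega)
      have hb : bitB (m + 2 ^ j * b) i = bitB m i := by
        unfold bitB
        congr 1
        have : 2 ^ j = 2 ^ i * (2 * 2 ^ (j - (i + 1))) := by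
          rw [← mul_assoc, ← pow_succ, ← pow_add]
          congr 1
          omega
        rw [this, mul_assoc, Nat.add_mul_div_left _ _ (Nat.two_pow_pos i), mul_assoc, Nat.add_mul_mod_self_left]
      exact ⟨by rw [er_succ, er_succ, hb, h1], by rw [rP, rP, hb, h2]⟩
  exact key j le_rfl

theorem Form.lift {j : ℕ} {x : GG} (h : Form j x) : Form (j + 1) x ∧ Form (j + 1) (x * gl j) := by
  obtain ⟨v, hv, m, hm, rfl⟩ := h
  have hb0 : bitB m j = false := by
    rw [bitB, Nat.div_eq_of_lt hm]; rfl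
  have hb1 : bitB (m + 2 ^ j) j = true := by
    rw [bitB, Nat.add_div_right _ (Nat.two_pow_pos j), Nat.div_eq_of_lt hm]; rfl
  refine ⟨⟨v, hv, m, by rw [pow_succ]; omega, ?_⟩, ⟨v, hv, m + 2 ^ j, by rw [pow_succ]; omega, ?_⟩⟩
  · rw [er_succ, hb0, cond_false, mul_one]
  · have := (er_high (b := 1) hm).1
    rw [mul_one] at this
    rw [er_succ, hb1, cond_true, this, mul_assoc]

theorem Form.split {j : ℕ} {x : GG} (h : Form (j + 1) x) : ∃ y, Form j y ∧ (x = y ∨ x = y * gl j) := by
  obtain ⟨v, hv, m, hm, rfl⟩ := h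
  have hm' : m % 2 ^ j < 2 ^ j := Nat.mod_lt _ (Nat.two_pow_pos j)
  refine ⟨E v * er j (m % 2 ^ j), ⟨v, hv, _, hm', rfl⟩, ?_⟩
  have e := (er_high (b := m / 2 ^ j) hm').1
  rw [Nat.mod_add_div] at e
  rw [er_succ, e]
  cases bitB m j
  · exact Or.inl (by rw [cond_false, mul_one])
  · exact Or.inr (by rw [cond_true, mul_assoc])

theorem expr_form {j : ℕ} {w : List ℕ} {e : ℕ × ℕ} (hj : j ≤ 7) (hw : letOK w = true) (h : exprOK j w e = true) :
    Form j (gx w) := by
  simp only [exprOK, Bool.and_eq_true, Nat.blt_eq] at h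
  refine ⟨e.1, h.1, e.2, h.2.1, ?_⟩
  rw [gx_eq hw (letOK_append (rW_ok hj _) (aW_ok basis_lt _)) h.2.2, gx_append]
  rfl

theorem form_one (j : ℕ) : Form j 1 :=
  ⟨0, by norm_num, 0, Nat.two_pow_pos j, by
    have : er j 0 = 1 := by
      induction j with
      | zero => rfl
      | succ j ih => rw [er_succ, ih, one_mul, bitB, Nat.zero_div]; rfl
    rw [E_zero, this, one_mul]⟩

theorem form_E {j v : ℕ} (hv : v < 2048) : Form j (E v) := by
  induction j with
  | zero => exact ⟨v, hv, 0, by norm_num, (mul_one _).symm⟩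
  | succ j ih => exact ih.lift.1

theorem letOK_reverse {w : List ℕ} (h : letOK w = true) : letOK w.reverse = true := by
  induction w with
  | nil => rfl
  | cons y w ih =>
    simp only [letOK, Bool.and_eq_true] at h
    rw [List.reverse_cons]
    refine letOK_append (ih h.2) ?_
    simp only [letOK, h.1, Bool.and_true]

theorem form_mul : ∀ {j : ℕ}, j ≤ 7 → ∀ {x y : GG}, Form j x → Form j y → Form j (x * y)
  | 0, _, x, y, hx, hy => by
    obtain ⟨v, hv, m, hm, rfl⟩ := hx
    obtain ⟨w, hw, m', hm', rfl⟩ := hy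
    refine ⟨v ^^^ w, xor_lt hv hw, 0, by norm_num, ?_⟩
    have e : ∀ k, er 0 k = 1 := fun _ => rfl
    rw [e, e, e, mul_one, mul_one, mul_one, E_mul]
  | j + 1, hj, x, y, hx, hy => by
    have IH := @form_mul j (by omega)
    obtain ⟨-, hg, -, hsq, hcj⟩ := lift_spec (show j < 7 by omega)
    have hsqF : Form j (gl j * gl j) := by
      have := expr_form (by omega) (letOK_append hg hg) hsq
      rwa [gx_append] at this
    have hcjF : ∀ i < j, Form j (gl j * gl i * (gl j)⁻¹) := by
      have hrow : ∀ n, cjRow j n = true → ∀ i < n,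
          exprOK j ((liftG j).reverse ++ (liftG i ++ liftG j)) (nthPair (getL cjData j) i) = true := by
        intro n
        induction n with
        | zero => intro _ k hk; omega
        | succ n ih =>
          intro hh k hk
          simp only [cjRow, Bool.and_eq_true] at hh
          rcases Nat.lt_succ_iff_lt_or_eq.mp hk with e | rfl
          · exact ih hh.2 k e
          · exact hh.1
      intro i hi
      have := expr_form (by omega) (letOK_append (letOK_reverse hg)
        (letOK_append (lift_spec (show i < 7 by omega)).2.1 hg)) (hrow j hcj i hi)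
      rwa [gx_append, gx_append, gx_reverse] at this
    have hnE : ∀ v, Form j (gl j * E v * (gl j)⁻¹) := fun v => by
      obtain ⟨e, he⟩ := conj_ea (fun i hi => gl_cl (show j < 7 by omega) hi) basis_lt v
      rw [e]
      exact form_E he
    have hnr : ∀ i ≤ j, ∀ m, Form j (gl j * er i m * (gl j)⁻¹) := by
      intro i
      induction i with
      | zero =>
        intro _ m
        rw [show er 0 m = 1 from rfl, mul_one, mul_inv_cancel]
        exact form_one j
      | succ i ih =>
        intro hi m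
        rw [er_succ, conj_mul_distrib]
        refine IH (ih (by omega) m) ?_
        cases bitB m i
        · rw [cond_false, mul_one, mul_inv_cancel]; exact form_one j
        · exact hcjF i (by omega)
    have hn : ∀ {y : GG}, Form j y → Form j (gl j * y * (gl j)⁻¹) := fun {y} hy => by
      obtain ⟨v, -, m, -, rfl⟩ := hy
      rw [conj_mul_distrib]
      exact IH (hnE v) (hnr j le_rfl m)
    obtain ⟨a, ha, ex | ex⟩ := hx.split <;> obtain ⟨b, hb, ey | ey⟩ := hy.split <;> rw [ex, ey]
    · exact (IH ha hb).lift.1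
    · rw [← mul_assoc]; exact (IH ha hb).lift.2
    · have e : a * gl j * b = a * (gl j * b * (gl j)⁻¹) * gl j := by group
      rw [e]; exact (IH ha (hn hb)).lift.2
    · have e : a * gl j * (b * gl j) = a * (gl j * b * (gl j)⁻¹) * (gl j * gl j) := by group
      rw [e]; exact (IH (IH ha (hn hb)) hsqF).lift.1
where
  conj_mul_distrib {g a b : GG} : g * (a * b) * g⁻¹ = g * a * g⁻¹ * (g * b * g⁻¹) := by group

/-- The subgroup of order `2 ^ 18`. -/
def T0 : Subgroup GG where
  carrier := {x | Form 7 x}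
  mul_mem' := fun hx hy => form_mul le_rfl hx hy
  one_mem' := form_one 7
  inv_mem' := fun {x} hx => by
    show Form 7 x⁻¹
    have e : x⁻¹ = x ^ (orderOf x - 1) := by
      rw [inv_eq_iff_mul_eq_one, ← pow_succ', Nat.sub_add_cancel (orderOf_pos x), pow_orderOf_eq_one]
    rw [e]
    generalize orderOf x - 1 = k
    induction k with
    | zero => rw [pow_zero]; exact form_one 7
    | succ k ih => rw [pow_succ]; exact form_mul le_rfl ih hx

theorem rP_inj {m n : ℕ} (hm : m < 128) (hn : n < 128) (h : rP 7 m = rP 7 n) : m = n := by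
  have key : ∀ {a b : ℕ}, b < a → a < 128 → rP 7 a ≠ rP 7 b := by
    intro a b hba ha e
    have h := scanR_spec _ _ _ perms_ok a (Nat.zero_le a) (by omega)
    have hrow : ∀ c, newPerm a c = true → ∀ k < c, beqList (rP 7 a) (rP 7 k) = false := by
      intro c
      induction c with
      | zero => intro _ k hk; omega
      | succ c ih =>
        intro hh k hk
        simp only [newPerm, Bool.and_eq_true, Bool.not_eq_true'] at hh
        rcases Nat.lt_succ_iff_lt_or_eq.mp hk with e | rfl
        · exact ih hh.2 k e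
        · exact hh.1
    have := hrow a h b hba
    rw [e, beqList_self] at this
    simp at this
  rcases lt_trichotomy m n with h1 | h1 | h1
  · exact absurd h.symm (key h1 hn)
  · exact h1
  · exact absurd h (key h1 hm)
where
  beqList_self : ∀ {l : List ℕ}, beqList l l = true := by
    intro l
    induction l with
    | nil => rfl
    | cons a l ih => rw [beqList_cons, Nat.beq_refl, ih]; rfl

theorem list_ext : ∀ {l m : List ℕ}, l.length = m.length → (∀ k < l.length, nthNat l k = nthNat m k) → l = m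
  | [], [], _, _ => rfl
  | [], _ :: _, h, _ => by simp at h
  | _ :: _, [], h, _ => by simp at h
  | a :: l, b :: m, h, hk => by
    have e0 : a = b := hk 0 (by simp)
    rw [e0, list_ext (l := l) (m := m) (by simpa using h) fun k hk' => hk (k + 1) (by simpa using hk')]

theorem cl_inj {a b : ℕ} (ha : a < 23) (hb : b < 23) (h : cl a = cl b) : a = b := by
  have e := congrArg Fin.val h
  rw [(clique_spec ha).2.1, (clique_spec hb).2.1] at e
  exact nodup a ha b hb e
where
  nodup : ∀ a < 23, ∀ b < 23, nthNat clique a = nthNat clique b → a = b := by decide +kernel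

theorem elt_cl (v : ℕ) {m : ℕ} : ∀ i < 23, φ (E v * er 7 m) (cl i) = cl (nthNat (rP 7 m) i) ∧ nthNat (rP 7 m) i < 23 :=
  fun i hi => by
    obtain ⟨h1, h2⟩ := er_cl le_rfl m i hi
    exact ⟨by rw [map_mul, Equiv.Perm.mul_apply, h1, E_fix_cl h2], h2⟩

theorem perm_unique {x : GG} {p q : List ℕ} (hp : p.length = 23) (hq : q.length = 23)
    (h1 : ∀ i < 23, φ x (cl i) = cl (nthNat p i) ∧ nthNat p i < 23)
    (h2 : ∀ i < 23, φ x (cl i) = cl (nthNat q i) ∧ nthNat q i < 23) : p = q :=
  list_ext (hp.trans hq.symm) fun k hk => by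
    rw [hp] at hk
    exact cl_inj (h1 k hk).2 (h2 k hk).2 ((h1 k hk).1.symm.trans (h2 k hk).1)

theorem elt_inj {a b m n : ℕ} (ha : a < 2048) (hb : b < 2048) (hm : m < 128) (hn : n < 128)
    (h : E a * er 7 m = E b * er 7 n) : a = b ∧ m = n := by
  have e : m = n := rP_inj hm hn (perm_unique (rP_len le_rfl m) (rP_len le_rfl n) (elt_cl a) (h ▸ elt_cl b))
  subst e
  have h' : E a = E b := mul_right_cancel h
  have : E (a ^^^ b) = 1 := by rw [← E_mul, h', E_mul, Nat.xor_self, E_zero]
  exact ⟨Nat.xor_eq_zero_iff.mp (E_inj (xor_lt ha hb) this), rfl⟩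

theorem card_T0 : Nat.card T0 = 2 ^ 18 := by
  have hb : Function.Bijective (fun p : Fin 2048 × Fin 128 =>
      (⟨E p.1 * er 7 p.2, p.1, p.1.2, p.2, p.2.2, rfl⟩ : T0)) := by
    refine ⟨fun p q h => ?_, fun ⟨x, v, hv, m, hm, e⟩ => ⟨(⟨v, hv⟩, ⟨m, hm⟩), Subtype.ext e.symm⟩⟩
    obtain ⟨h1, h2⟩ := elt_inj p.1.2 q.1.2 p.2.2 q.2.2 (congrArg Subtype.val h)
    exact Prod.ext (Fin.ext h1) (Fin.ext h2)
  rw [← Nat.card_eq_of_bijective _ hb, Nat.card_prod, Nat.card_fin, Nat.card_fin]
  norm_num

/-- The elementary abelian subgroup of order `2 ^ 11`. -/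
def A0 : Subgroup GG where
  carrier := {x | ∃ v < 2048, x = E v}
  mul_mem' := by rintro _ _ ⟨v, hv, rfl⟩ ⟨w, hw, rfl⟩; exact ⟨_, xor_lt hv hw, E_mul v w⟩
  one_mem' := ⟨0, by norm_num, E_zero.symm⟩
  inv_mem' := by
    rintro _ ⟨v, hv, rfl⟩
    exact ⟨v, hv, inv_eq_of_mul_eq_one_right (by rw [E_mul, Nat.xor_self, E_zero])⟩

theorem card_A0 : Nat.card A0 = 2 ^ 11 := by
  have hb : Function.Bijective (fun p : Fin 2048 => (⟨E p, p, p.2, rfl⟩ : A0)) := by
    refine ⟨fun p q h => ?_, fun ⟨x, v, hv, e⟩ => ⟨⟨v, hv⟩, Subtype.ext e.symm⟩⟩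
    have h' : E p = E q := congrArg Subtype.val h
    have : E ((p : ℕ) ^^^ q) = 1 := by rw [← E_mul, h', E_mul, Nat.xor_self, E_zero]
    exact Fin.ext (Nat.xor_eq_zero_iff.mp (E_inj (xor_lt p.2 q.2) this))
  rw [← Nat.card_eq_of_bijective _ hb, Nat.card_fin]
  norm_num

theorem A0_le : A0 ≤ T0 := by rintro _ ⟨v, hv, rfl⟩; exact form_E hv

theorem A0_elementary : Cfsg.IsElementaryAbelian 2 A0 := by
  refine ⟨⟨⟨fun a b => ?_⟩⟩, fun a => ?_⟩
  · obtain ⟨⟨x, v, hv, rfl⟩, ⟨y, w, hw, rfl⟩⟩ := a, b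
    exact Subtype.ext (by rw [Subgroup.coe_mul, Subgroup.coe_mul, E_mul, E_mul, Nat.xor_comm])
  · rintro ⟨v, hv, rfl⟩
    rw [pow_two, E_mul, Nat.xor_self, E_zero]

theorem A0_normal : (A0.subgroupOf T0).Normal := by
  refine ⟨fun n hn g => ?_⟩
  rw [Subgroup.mem_subgroupOf] at hn ⊢
  obtain ⟨v, hv, e⟩ := hn
  obtain ⟨a, ha, m, hm, eg⟩ := g.2
  obtain ⟨h1, h2⟩ := conj_ea (elt_cl a (m := m)) basis_lt v
  refine ⟨_, h2, ?_⟩
  simp only [Subgroup.coe_mul, InvMemClass.coe_inv]
  rw [e, eg]
  exact h1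

theorem er_zero : er 7 0 = 1 := by
  have key : ∀ j, er j 0 = 1 := fun j => by
    induction j with
    | zero => rfl
    | succ j ih => rw [er_succ, ih, one_mul, bitB, Nat.zero_div]; rfl
  exact key 7

/-! ### Elementary abelian subgroups of the large group -/

theorem invs_lt {i : ℕ} (hi : i < 35) : nthNat invs i < 128 := by
  simpa [Nat.blt_eq] using allOK_iff.mp shapes_ok.2.2.2.1 _ (nthNat_mem (by rw [shapes_ok.2.2.1]; exact hi))

theorem comp_spec {x y : GG} {p q : List ℕ} (hq : q.length = 23)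
    (h1 : ∀ i < 23, φ x (cl i) = cl (nthNat p i) ∧ nthNat p i < 23)
    (h2 : ∀ i < 23, φ y (cl i) = cl (nthNat q i) ∧ nthNat q i < 23) :
    ∀ i < 23, φ (x * y) (cl i) = cl (nthNat (compP p q) i) ∧ nthNat (compP p q) i < 23 := fun i hi => by
  rw [compP, nthNat_map (hq.symm ▸ hi), map_mul, Equiv.Perm.mul_apply, (h2 i hi).1]
  exact h1 _ (h2 i hi).2

theorem compP_len (p : List ℕ) {q : List ℕ} (hq : q.length = 23) : (compP p q).length = 23 := by
  rw [compP, List.length_map, hq]

theorem one_spec : ∀ i < 23, φ (1 : GG) (cl i) = cl (nthNat idP i) ∧ nthNat idP i < 23 := fun i hi => by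
  rw [idP_spec.2 i hi, map_one]; exact ⟨rfl, hi⟩

theorem exists_index {m : ℕ} : ∀ {l : List ℕ}, m ∈ l → ∃ i < l.length, nthNat l i = m := fun {l} h =>
  exists_nthNat h

theorem beqList_sound : ∀ {l m : List ℕ}, beqList l m = true → l = m
  | [], [], _ => rfl
  | [], b :: m, h => by rw [beqList_nil_cons] at h; simp at h
  | a :: l, [], h => by rw [beqList_cons_nil] at h; simp at h
  | a :: l, b :: m, h => by
    rw [beqList_cons, Bool.and_eq_true] at h
    rw [Nat.eq_of_beq_eq_true h.1, beqList_sound h.2]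

theorem beqList_refl' : ∀ l : List ℕ, beqList l l = true
  | [] => rfl
  | a :: l => by rw [beqList_cons, Nat.beq_refl, beqList_refl' l]; rfl

theorem search_spec {M : Finset ℕ} (hlt : ∀ i ∈ M, i < 35)
    (hcl : ∀ i ∈ M, ∀ s ∈ M, i ≠ s → mulAt i s < 35 ∧ mulAt i s ∈ M) :
    ∀ (r sp : List ℕ), search r sp = true → (∀ s ∈ sp, s ∈ M) → (∀ i ∈ M, i ∈ sp ∨ i ∈ r) → sp.length ≤ 15 →
      M.card ≤ 15
  | [], sp, _, _, hcov, hlen => by
    have hsub : M ⊆ sp.toFinset := fun i hi => List.mem_toFinset.mpr ((hcov i hi).resolve_right List.not_mem_nil)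
    exact (Finset.card_le_card hsub).trans ((List.toFinset_card_le sp).trans hlen)
  | i :: r, sp, h, hsp, hcov, hlen => by
    simp only [search, Bool.and_eq_true, Bool.or_eq_true, Bool.not_eq_true', Nat.ble_eq] at h
    obtain ⟨h1, h2⟩ := h
    by_cases hi : i ∈ M ∧ i ∉ sp
    · obtain ⟨hiM, hisp⟩ := hi
      have hne : ∀ s ∈ sp, i ≠ s := fun s hs e => hisp (e ▸ hs)
      have hc : compat i sp = true := by
        simp only [compat, Bool.and_eq_true, Bool.not_eq_true']
        refine ⟨?_, allOK_iff.mpr fun s hs => by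
          simpa [Nat.blt_eq] using (hcl i hiM s (hsp s hs) (hne s hs)).1⟩
        rw [← Bool.not_eq_true, memB_iff]
        exact hisp
      rcases h2 with h2 | ⟨h2, h3⟩
      · rw [hc] at h2; simp at h2
      · refine search_spec hlt hcl r _ h3 (fun s hs => ?_) (fun k hk => ?_) h2
        · simp only [grow, List.mem_cons, List.mem_append, List.mem_map] at hs
          rcases hs with rfl | hs | ⟨t, ht, rfl⟩
          exacts [hiM, hsp s hs, (hcl i hiM t (hsp t ht) (hne t ht)).2]
        · rcases hcov k hk with hk' | hk'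
          · exact Or.inl (by simp [grow, hk'])
          · rcases List.mem_cons.mp hk' with rfl | hk'
            · exact Or.inl (by simp [grow])
            · exact Or.inr hk'
    · refine search_spec hlt hcl r sp h1 hsp (fun k hk => ?_) hlen
      rcases hcov k hk with hk' | hk'
      · exact Or.inl hk'
      · rcases List.mem_cons.mp hk' with rfl | hk'
        · exact Or.inl (by by_contra hn; exact hi ⟨hk, hn⟩)
        · exact Or.inr hk'

theorem countFix_spec (p : List ℕ) : ∀ {l : List ℕ} {V : Finset ℕ}, (∀ v ∈ V, v ∈ l ∧ actV p basis v = v) →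
    V.card ≤ countFix p l
  | [], V, h => by
    have : V = ∅ := Finset.eq_empty_of_forall_notMem fun v hv => by simpa using (h v hv).1
    simp [this]
  | a :: l, V, h => by
    have h' : (V.erase a).card ≤ countFix p l := countFix_spec p fun v hv => by
      obtain ⟨hne, hv⟩ := Finset.mem_erase.mp hv
      exact ⟨((List.mem_cons.mp (h v hv).1).resolve_left hne), (h v hv).2⟩
    simp only [countFix]
    by_cases ha : a ∈ V
    · rw [Nat.beq_eq.mpr (h a ha).2, cond_true, ← Finset.card_erase_add_one ha]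
      exact Nat.succ_le_succ h'
    · rw [Finset.erase_eq_of_notMem ha] at h'
      cases Nat.beq (actV p basis a) a
      · exact h'
      · exact h'.trans (Nat.le_succ _)

/-- An elementary abelian subgroup of order at least `2 ^ 11` is the chosen one. -/
theorem eq_A0 {A : Subgroup GG} (hA : A ≤ T0) (he : Cfsg.IsElementaryAbelian 2 A) (hc : 2 ^ 11 ≤ Nat.card A) :
    A = A0 := by
  classical
  have hcomm : ∀ x ∈ A, ∀ y ∈ A, x * y = y * x := fun x hx y hy =>
    congrArg Subtype.val (he.1.is_comm.comm (⟨x, hx⟩ : A) ⟨y, hy⟩)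
  have hsq : ∀ x ∈ A, x * x = 1 := fun x hx => by rw [← pow_two]; exact he.2 x hx
  let M : Finset ℕ := (Finset.range 128).filter fun m => ∃ v < 2048, E v * er 7 m ∈ A
  let V : Finset ℕ := (Finset.range 2048).filter fun v => E v ∈ A
  have hMm : ∀ {m}, m ∈ M → m < 128 ∧ ∃ v < 2048, E v * er 7 m ∈ A := fun {m} hm => by
    simpa [M] using hm
  -- the size of A
  have hsize : Nat.card A ≤ M.card * V.card := by
    have hex : ∀ x : A, ∃ p : ℕ × ℕ, p.1 < 2048 ∧ p.2 < 128 ∧ (x : GG) = E p.1 * er 7 p.2 := fun x => by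
      obtain ⟨v, hv, m, hm, e⟩ := hA x.2
      exact ⟨(v, m), hv, hm, e⟩
    choose p hp1 hp2 hp3 using hex
    have hpM : ∀ x : A, (p x).2 ∈ M := fun x => by
      simp only [M, Finset.mem_filter, Finset.mem_range]
      exact ⟨hp2 x, (p x).1, hp1 x, hp3 x ▸ x.2⟩
    have hr : ∀ m : M, ∃ v < 2048, E v * er 7 (m : ℕ) ∈ A := fun m => (hMm m.2).2
    choose r hr1 hr2 using hr
    have hd : ∀ x : A, (p x).1 ^^^ r ⟨_, hpM x⟩ ∈ V := fun x => by
      simp only [V, Finset.mem_filter, Finset.mem_range]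
      refine ⟨xor_lt (hp1 x) (hr1 _), ?_⟩
      have hm := mul_mem x.2 (inv_mem (hr2 ⟨_, hpM x⟩))
      have hrE : (E (r ⟨_, hpM x⟩))⁻¹ = E (r ⟨_, hpM x⟩) :=
        inv_eq_of_mul_eq_one_right (by rw [E_mul, Nat.xor_self, E_zero])
      simp only at hm
      rw [hp3 x, mul_inv_rev, hrE, mul_assoc, mul_inv_cancel_left, E_mul] at hm
      exact hm
    have hinj : Function.Injective fun x : A => ((⟨_, hpM x⟩, ⟨_, hd x⟩) : M × V) := fun x y h => by
      simp only [Prod.mk.injEq, Subtype.mk.injEq] at h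
      obtain ⟨h2, h1⟩ := h
      have e : (⟨_, hpM x⟩ : M) = ⟨_, hpM y⟩ := Subtype.ext h2
      rw [e] at h1
      exact Subtype.ext (by rw [hp3 x, hp3 y, Nat.xor_left_inj.mp h1, h2])
    exact (Nat.card_le_card_of_injective _ hinj).trans (by rw [Nat.card_prod, Nat.card_eq_finsetCard, Nat.card_eq_finsetCard])
  -- the involutions of the image
  let I : Finset ℕ := (Finset.range 35).filter fun i => nthNat invs i ∈ M
  have hIm : ∀ {i}, i ∈ I → i < 35 ∧ nthNat invs i ∈ M := fun {i} hi => by simpa [I] using hi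
  have hMI : ∀ m ∈ M, m ≠ 0 → ∃ i ∈ I, nthNat invs i = m := fun m hm h0 => by
    obtain ⟨hm', v, hv, hvA⟩ := hMm hm
    have e : compP (rP 7 m) (rP 7 m) = idP :=
      perm_unique (compP_len _ (rP_len le_rfl m)) idP_spec.1
        (hsq _ hvA ▸ comp_spec (rP_len le_rfl m) (elt_cl v) (elt_cl v)) one_spec
    have h := scanR_spec _ _ _ squares_ok m (Nat.zero_le m) (by omega)
    simp only [squareOK, e, beqList_refl', Bool.not_true, Bool.false_or, Bool.or_eq_true, Nat.beq_eq, memB_iff] at h
    obtain ⟨i, hi, hie⟩ := exists_index (h.resolve_left h0)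
    rw [shapes_ok.2.2.1] at hi
    exact ⟨i, by simp only [I, Finset.mem_filter, Finset.mem_range]; exact ⟨hi, hie.symm ▸ hm⟩, hie⟩
  have hmul : ∀ {a b}, a < 35 → b < 35 → mulOK a b = true := fun {a b} ha hb => by
    have h := scanR_spec _ _ _ muls_ok a (Nat.zero_le a) (by omega)
    have hrow : ∀ n, mulRow a n = true → ∀ k < n, mulOK a k = true := by
      intro n
      induction n with
      | zero => intro _ k hk; omega
      | succ n ih =>
        intro hh k hk
        simp only [mulRow, Bool.and_eq_true] at hh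
        rcases Nat.lt_succ_iff_lt_or_eq.mp hk with e | rfl
        · exact ih hh.2 k e
        · exact hh.1
    exact hrow 35 h b hb
  have hcl : ∀ i ∈ I, ∀ s ∈ I, i ≠ s → mulAt i s < 35 ∧ mulAt i s ∈ I := fun i hi s hs hne => by
    obtain ⟨hi35, hiM⟩ := hIm hi
    obtain ⟨hs35, hsM⟩ := hIm hs
    obtain ⟨him, v, hv, hvA⟩ := hMm hiM
    obtain ⟨hsm, w, hw, hwA⟩ := hMm hsM
    have hi1 : ∀ k < 23, φ (E v * er 7 (nthNat invs i)) (cl k) = cl (nthNat (invP i) k) ∧ nthNat (invP i) k < 23 :=
      elt_cl v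
    have hs1 : ∀ k < 23, φ (E w * er 7 (nthNat invs s)) (cl k) = cl (nthNat (invP s) k) ∧ nthNat (invP s) k < 23 :=
      elt_cl w
    have h := hmul hi35 hs35
    rw [mulOK, permI_ok i hi35, permI_ok s hs35] at h
    have hcp : compP (invP i) (invP s) = compP (invP s) (invP i) :=
      perm_unique (compP_len _ (rP_len le_rfl _)) (compP_len _ (rP_len le_rfl _))
        (comp_spec (rP_len le_rfl _) hi1 hs1) (hcomm _ hwA _ hvA ▸ comp_spec (rP_len le_rfl _) hs1 hi1)
    cases hb : Nat.blt (mulAt i s) 35 with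
    | false =>
      rw [hb, cond_false] at h
      cases hb2 : Nat.beq (mulAt i s) 35 with
      | false =>
        rw [hb2, cond_false, hcp, beqList_refl'] at h
        simp at h
      | true =>
        rw [hb2, cond_true, Nat.beq_eq] at h
        exact absurd h hne
    | true =>
      rw [hb, cond_true] at h
      rw [Nat.blt_eq] at hb
      rw [permI_ok _ hb] at h
      refine ⟨hb, ?_⟩
      simp only [I, M, Finset.mem_filter, Finset.mem_range]
      obtain ⟨u, hu, k, hk, ek⟩ := hA (mul_mem hvA hwA)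
      have : k = nthNat invs (mulAt i s) := by
        refine rP_inj hk (invs_lt hb) ?_
        show rP 7 k = invP (mulAt i s)
        rw [← beqList_sound h]
        exact perm_unique (rP_len le_rfl _) (compP_len _ (rP_len le_rfl _)) (ek ▸ elt_cl u)
          (comp_spec (rP_len le_rfl _) hi1 hs1)
      exact ⟨hb, invs_lt hb, u, hu, this ▸ ek ▸ mul_mem hvA hwA⟩
  have hI15 : I.card ≤ 15 :=
    search_spec (fun i hi => (hIm hi).1) hcl (List.range 35) [] search_ok (by simp)
      (fun i hi => Or.inr (List.mem_range.mpr (hIm hi).1)) (by simp)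
  have hMcard : M.card ≤ I.card + 1 := by
    have hsub : M ⊆ insert 0 (I.image fun i => nthNat invs i) := fun m hm => by
      by_cases h0 : m = 0
      · exact Finset.mem_insert.mpr (Or.inl h0)
      · obtain ⟨i, hi, e⟩ := hMI m hm h0
        exact Finset.mem_insert.mpr (Or.inr (Finset.mem_image.mpr ⟨i, hi, e⟩))
    exact (Finset.card_le_card hsub).trans ((Finset.card_insert_le _ _).trans
      (Nat.succ_le_succ Finset.card_image_le))
  -- the coordinates fixed by the image
  have hfix : ∀ i ∈ I, ∀ v ∈ V, actV (invP i) basis v = v := fun i hi v hv => by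
    obtain ⟨-, w, hw, hwA⟩ := hMm (hIm hi).2
    simp only [V, Finset.mem_filter, Finset.mem_range] at hv
    obtain ⟨e, hlt⟩ := conj_ea (elt_cl w (m := nthNat invs i)) basis_lt v
    have e' : E v = E (actV (invP i) basis v) := by
      rw [invP, ← e, hcomm _ hwA _ hv.2, mul_inv_cancel_right]
    have : E (v ^^^ actV (invP i) basis v) = 1 := by rw [← E_mul, ← e', E_mul, Nat.xor_self, E_zero]
    exact (Nat.xor_eq_zero_iff.mp (E_inj (xor_lt hv.1 hlt) this)).symm
  have hVfix : ∀ i ∈ I, ∀ v ∈ V, v ∈ getL fixLists i := fun i hi v hv => by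
    have h := fixes_ok i (hIm hi).1
    simp only [Bool.and_eq_true] at h
    have h' := scanR_spec _ _ _ h.1 v (Nat.zero_le v) (by
      simp only [V, Finset.mem_filter, Finset.mem_range] at hv; omega)
    simp only [fixOK, permI_ok i (hIm hi).1, hfix i hi v hv, Nat.beq_refl, Bool.not_true, Bool.false_or, memB_iff] at h'
    exact h'
  rcases Nat.lt_or_ge I.card 1 with h0 | h0
  · -- the image is trivial
    have hM0 : ∀ m ∈ M, m = 0 := fun m hm => by
      by_contra hne
      obtain ⟨i, hi, -⟩ := hMI m hm hne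
      rw [Finset.card_eq_zero.mp (by omega : I.card = 0)] at hi
      simp at hi
    have hle : A ≤ A0 := fun x hx => by
      obtain ⟨v, hv, m, hm, rfl⟩ := hA hx
      have hm0 : m = 0 := hM0 m (by simp only [M, Finset.mem_filter, Finset.mem_range]; exact ⟨hm, v, hv, hx⟩)
      subst hm0
      refine ⟨v, hv, ?_⟩
      rw [er_zero, mul_one]
    exact Subgroup.eq_of_le_of_card_ge hle (card_A0 ▸ hc)
  · exfalso
    obtain ⟨a, ha⟩ := Finset.card_pos.mp (show 0 < I.card by omega)
    rcases Nat.lt_or_ge I.card 2 with h2 | h2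
    · have hV : V.card ≤ 128 := by
        have h := fixes_ok a (hIm ha).1
        simp only [Bool.and_eq_true, Nat.ble_eq] at h
        have hsub : V ⊆ (getL fixLists a).toFinset := fun v hv => List.mem_toFinset.mpr (hVfix a ha v hv)
        exact (Finset.card_le_card hsub).trans ((List.toFinset_card_le _).trans h.2)
      have hp : M.card * V.card ≤ 2 * 128 := Nat.mul_le_mul (by omega) hV
      omega
    · obtain ⟨b, hb, hab⟩ := Finset.exists_mem_ne (show 1 < I.card by omega) a
      have hV : V.card ≤ 64 := by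
        have h := scanR_spec _ _ _ pairs_ok a (Nat.zero_le a) (by have := (hIm ha).1; omega)
        have hrow : ∀ n, pairRow a n = true → ∀ k < n,
            mulAt a k < 35 → countFix (permI k) (getL fixLists a) ≤ 64 := by
          intro n
          induction n with
          | zero => intro _ k hk; omega
          | succ n ih =>
            intro hh k hk
            simp only [pairRow, Bool.and_eq_true, Bool.or_eq_true, Bool.not_eq_true', Nat.ble_eq] at hh
            rcases Nat.lt_succ_iff_lt_or_eq.mp hk with e | rfl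
            · exact ih hh.2 k e
            · intro hlt
              rcases hh.1 with h1 | h1
              · rw [Nat.blt_eq.mpr hlt] at h1; simp at h1
              · exact h1
        exact (countFix_spec (permI b) fun v hv => ⟨hVfix a ha v hv, permI_ok b (hIm hb).1 ▸ hfix b hb v hv⟩).trans
          (hrow 35 h b (hIm hb).1 (hcl a ha b hb hab.symm).1)
      have hp : M.card * V.card ≤ 16 * 64 := Nat.mul_le_mul (by omega) hV
      omega

/-- The statement about Sylow 2-subgroups. -/
theorem sylow_two (T : Sylow 2 GG) :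
    (∀ A : Subgroup GG, A ≤ T → (A.subgroupOf T).Normal → Cfsg.IsElementaryAbelian 2 A → Nat.card A ≤ 2 ^ 11) ∧
    ∃! A : Subgroup GG, A ≤ T ∧ (A.subgroupOf T).Normal ∧ Cfsg.IsElementaryAbelian 2 A ∧ Nat.card A = 2 ^ 11 := by
  haveI : Fact (Nat.Prime 2) := ⟨Nat.prime_two⟩
  have hidx : ¬ 2 ∣ T0.index := fun hd => by
    have h := Subgroup.card_mul_index T0
    rw [card_T0, card_GG] at h
    omega
  obtain ⟨k, hk⟩ := MulAction.exists_smul_eq GG ((IsPGroup.of_card card_T0).toSylow hidx) T
  have hT : (T : Subgroup GG) = T0.map (MulAut.conj k).toMonoidHom := by rw [← hk]; rfl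
  have hback : ∀ A : Subgroup GG, A ≤ T → Cfsg.IsElementaryAbelian 2 A → 2 ^ 11 ≤ Nat.card A →
      A = A0.map (MulAut.conj k).toMonoidHom := fun A hA he hc => by
    set B := A.map (MulAut.conj k).symm.toMonoidHom with hB
    have hAB : A = B.map (MulAut.conj k).toMonoidHom := by
      ext x
      simp [hB, Subgroup.mem_map, mul_assoc]
    have hBT : B ≤ T0 := by
      rintro _ ⟨x, hx, rfl⟩
      obtain ⟨y, hy, rfl⟩ := hT ▸ hA hx
      simpa [mul_assoc] using hy
    have hBe : Cfsg.IsElementaryAbelian 2 B := by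
      refine ⟨⟨⟨?_⟩⟩, ?_⟩
      · rintro ⟨_, x, hx, rfl⟩ ⟨_, y, hy, rfl⟩
        refine Subtype.ext ?_
        simp only [Subgroup.coe_mul, ← map_mul]
        exact congrArg _ (congrArg Subtype.val (he.1.is_comm.comm (⟨x, hx⟩ : A) ⟨y, hy⟩))
      · rintro _ ⟨x, hx, rfl⟩
        rw [← map_pow, he.2 x hx, map_one]
    have hBc : 2 ^ 11 ≤ Nat.card B := by
      rwa [hB, Subgroup.card_map_of_injective (MulAut.conj k).symm.injective]
    rw [hAB, eq_A0 hBT hBe hBc]
  refine ⟨fun A hA _ he => ?_, A0.map (MulAut.conj k).toMonoidHom, ⟨?_, ?_, ?_, ?_⟩, fun A hA => ?_⟩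
  · by_contra hgt
    have h := hback A hA he (by omega)
    rw [h, Subgroup.card_map_of_injective (MulAut.conj k).injective, card_A0] at hgt
    exact hgt le_rfl
  · rw [hT]; exact Subgroup.map_mono A0_le
  · refine ⟨fun n hn g => ?_⟩
    rw [Subgroup.mem_subgroupOf] at hn ⊢
    obtain ⟨y, hy, e⟩ := hn
    obtain ⟨t, ht, et⟩ := (SetLike.ext_iff.mp hT (g : GG)).mp g.2
    have hm := A0_normal.conj_mem ⟨y, A0_le hy⟩ (by rw [Subgroup.mem_subgroupOf]; exact hy) ⟨t, ht⟩
    rw [Subgroup.mem_subgroupOf] at hm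
    refine ⟨_, hm, ?_⟩
    simp only [Subgroup.coe_mul, InvMemClass.coe_inv, map_mul, map_inv, e, et]
  · refine ⟨⟨⟨?_⟩⟩, ?_⟩
    · rintro ⟨_, x, hx, rfl⟩ ⟨_, y, hy, rfl⟩
      refine Subtype.ext ?_
      simp only [Subgroup.coe_mul, ← map_mul]
      exact congrArg _ (congrArg Subtype.val (A0_elementary.1.is_comm.comm (⟨x, hx⟩ : A0) ⟨y, hy⟩))
    · rintro _ ⟨x, hx, rfl⟩
      rw [← map_pow, A0_elementary.2 x hx, map_one]
  · rw [Subgroup.card_map_of_injective (MulAut.conj k).injective, card_A0]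
  · exact hback A hA.1 hA.2.2.1 hA.2.2.2.ge

end Cfsg.Agent.InvChar.Coset.Fi23Syl
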