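import Cfsg.Agent.InvChar.Coset.Fi23OutDefs
import Cfsg.Agent.InvChar.Coset.Fi23SylData

/-!
# Checks for a Sylow 2-subgroup of the presented group Fi23
-/

set_option autoImplicit false
set_option linter.all false

noncomputable section

namespace Cfsg.Agent.InvChar.Coset.Fi23Syl

open Cfsg.Agent.CosetCert TreePerm Fi23G Fi23Out

/-- An entry of a list of lists. -/
def getL {α : Type} : List (List α) → ℕ → List α
  | [], _ => []
  | a :: _, 0 => a
  | _ :: l, i + 1 => getL l i

def nthPair : List (ℕ × ℕ) → ℕ → ℕ × ℕ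
  | [], _ => (0, 0)
  | a :: _, 0 => a
  | _ :: l, i + 1 => nthPair l i

def cw (i : ℕ) : List ℕ := getL cliqueW i

def liftAt (j : ℕ) : List (List ℕ) := getL liftW j

/-- The word of the `j`th lift. -/
def liftG (j : ℕ) : List ℕ := (liftAt j).flatMap conjW

/-- The word of the product of the transpositions of a set of coordinates. -/
def aW : List ℕ → ℕ → List ℕ
  | [], _ => []
  | b :: l, v => cond (Nat.beq (v % 2) 1) (conjW (cw b)) [] ++ aW l (v / 2)

def bitB (m j : ℕ) : Bool := Nat.beq ((m / 2 ^ j) % 2) 1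

/-- The word of a product of lifts. -/
def rW : ℕ → ℕ → List ℕ
  | 0, _ => []
  | j + 1, m => cond (bitB m j) (liftG j) [] ++ rW j m

def idP : List ℕ := List.range 23

def compP (p q : List ℕ) : List ℕ := q.map fun i => nthNat p i

/-- The permutation of the clique of a product of lifts. -/
def rP : ℕ → ℕ → List ℕ
  | 0, _ => idP
  | j + 1, m => cond (bitB m j) (compP (rP j m) (getL liftPerm j)) (rP j m)

def sameAt (u w : List ℕ) : ℕ → Bool
  | 0 => true
  | k + 1 => Nat.beq (seqN permList u (ptG k)) (seqN permList w (ptG k)) && sameAt u w k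

def cliqueOK (i : ℕ) : Bool :=
  smallOK (cw i) && (Nat.beq (seqN permList (cw i) 0) (nthNat clique i) && (Nat.blt (nthNat coords i) 2048 &&
    sameAt (conjW (cw i)) (aW basis (nthNat coords i)) 10))

def meetRow (i : ℕ) : ℕ → Bool
  | 0 => true
  | k + 1 => mW (cw i) (nthNat clique k) && meetRow i k

def permRow (j : ℕ) : ℕ → Bool
  | 0 => true
  | i + 1 => Nat.beq (seqN permList (liftG j) (nthNat clique i)) (nthNat clique (nthNat (getL liftPerm j) i)) &&
      (Nat.blt (nthNat (getL liftPerm j) i) 23 && permRow j i)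

def exprOK (j : ℕ) (w : List ℕ) (e : ℕ × ℕ) : Bool :=
  Nat.blt e.1 2048 && (Nat.blt e.2 (2 ^ j) && sameAt w (rW j e.2 ++ aW basis e.1) 10)

def cjRow (j : ℕ) : ℕ → Bool
  | 0 => true
  | i + 1 => exprOK j ((liftG j).reverse ++ (liftG i ++ liftG j)) (nthPair (getL cjData j) i) && cjRow j i

def liftOK (j : ℕ) : Bool :=
  Nat.beq (getL liftPerm j).length 23 && (allOK smallOK (liftAt j) && (permRow j 23 &&
    (exprOK j (liftG j ++ liftG j) (nthPair sqData j) && cjRow j j)))

def sepFix (v : ℕ) : List ℕ → Bool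
  | [] => true
  | c :: l => Nat.beq (seqN permList (aW basis v) c) c && sepFix v l

def movedOK (v : ℕ) : Bool := Nat.beq v 0 || !(sepFix v sepPts)

def newPerm (m : ℕ) : ℕ → Bool
  | 0 => true
  | k + 1 => !(beqList (rP 7 m) (rP 7 k)) && newPerm m k

def invP (i : ℕ) : List ℕ := rP 7 (nthNat invs i)

def permI (i : ℕ) : List ℕ := getL invPerm i

def squareOK (m : ℕ) : Bool := !(beqList (compP (rP 7 m) (rP 7 m)) idP) || (Nat.beq m 0 || memB m invs)

def mulAt (a b : ℕ) : ℕ := nthNat (getL invMul a) b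

def mulOK (a b : ℕ) : Bool :=
  cond (Nat.blt (mulAt a b) 35) (beqList (compP (permI a) (permI b)) (permI (mulAt a b)))
    (cond (Nat.beq (mulAt a b) 35) (Nat.beq a b) (!(beqList (compP (permI a) (permI b)) (compP (permI b) (permI a)))))

def mulRow (a : ℕ) : ℕ → Bool
  | 0 => true
  | b + 1 => mulOK a b && mulRow a b

/-- The image of a coordinate vector under a permutation of the clique. -/
def actV (p : List ℕ) : List ℕ → ℕ → ℕ
  | [], _ => 0
  | b :: l, v => (cond (Nat.beq (v % 2) 1) (nthNat coords (nthNat p b)) 0) ^^^ actV p l (v / 2)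

def fixOK (i v : ℕ) : Bool := !(Nat.beq (actV (permI i) basis v) v) || memB v (getL fixLists i)

def countFix (p : List ℕ) : List ℕ → ℕ
  | [] => 0
  | v :: l => cond (Nat.beq (actV p basis v) v) (Nat.succ (countFix p l)) (countFix p l)

def pairRow (a : ℕ) : ℕ → Bool
  | 0 => true
  | b + 1 => (!(Nat.blt (mulAt a b) 35) || Nat.ble (countFix (permI b) (getL fixLists a)) 64) && pairRow a b

def compat (i : ℕ) (sp : List ℕ) : Bool := !(memB i sp) && allOK (fun s => Nat.blt (mulAt i s) 35) sp

def grow (i : ℕ) (sp : List ℕ) : List ℕ := i :: (sp ++ sp.map (mulAt i))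

/-- No set of commuting involutions spans more than fifteen. -/
def search : List ℕ → List ℕ → Bool
  | [], _ => true
  | i :: r, sp => search r sp && (!(compat i sp) || (Nat.ble (grow i sp).length 15 && search r (grow i sp)))

end Cfsg.Agent.InvChar.Coset.Fi23Syl
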