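import Mathlib.Data.ZMod.Basic
import Mathlib.Data.Matrix.Mul
import Mathlib.LinearAlgebra.Matrix.GeneralLinearGroup.Defs
import Mathlib.Algebra.BigOperators.Fin
import Mathlib.Algebra.BigOperators.Ring.Finset
import Mathlib.Tactic.Ring

/-!
# Packed square matrices of size 78 modulo thirteen

A matrix is a list of rows; a row is one number with 24 bits for each entry.
-/

set_option autoImplicit false
set_option linter.all false

noncomputable section

namespace Cfsg.Agent.InvChar.Coset.Fi78

abbrev W : ℕ := 16777216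

/-- The field with number `j`. -/
def digit (r j : ℕ) : ℕ := r / W ^ j % W

/-- The first `n` fields from a function. -/
def enc : ℕ → (ℕ → ℕ) → ℕ
  | 0, _ => 0
  | n + 1, f => f 0 + W * enc n (fun j => f (j + 1))

/-- Reduce the first `n` fields modulo thirteen. -/
def redN (n : ℕ) : ℕ → ℕ :=
  Nat.rec (motive := fun _ => ℕ → ℕ) (fun _ => 0)
    (fun _ ih a => Nat.add (Nat.mod (Nat.mod a 16777216) 13) (Nat.mul 16777216 (ih (Nat.div a 16777216)))) n

/-- The combination of the rows `B` with the fields of `r` as coefficients. -/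
def comb (B : List ℕ) : ℕ → ℕ :=
  List.rec (motive := fun _ => ℕ → ℕ) (fun _ => 0)
    (fun b _ ih r => Nat.add (Nat.mul (Nat.mod r 16777216) b) (ih (Nat.div r 16777216))) B

def mulL (A B : List ℕ) : List ℕ := A.map fun r => redN 78 (comb B r)

theorem redN_eq : ∀ (n a : ℕ), redN n a = enc n (fun j => digit a j % 13)
  | 0, _ => rfl
  | n + 1, a => by
    show a % 16777216 % 13 + 16777216 * redN n (a / 16777216) = _
    rw [redN_eq n, enc]
    have : ∀ j, digit (a / W) j = digit a (j + 1) := fun j => by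
      rw [digit, digit, Nat.div_div_eq_div_mul, pow_succ']
    simp [digit] at this ⊢
    simp only [digit, this]

theorem comb_eq : ∀ (B : List ℕ) (r : ℕ), comb B r = ∑ j : Fin B.length, digit r j * B[j.1]
  | [], r => by simp [comb]
  | b :: B, r => by
    show r % 16777216 * b + comb B (r / 16777216) = _
    rw [comb_eq B]
    show _ = ∑ j : Fin (B.length + 1), digit r j * (b :: B)[j.1]
    rw [Fin.sum_univ_succ]
    congr 1
    · simp [digit]
    · refine Finset.sum_congr rfl fun j _ => ?_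
      simp [digit, Nat.div_div_eq_div_mul, pow_succ']

theorem digit_enc : ∀ (n : ℕ) (f : ℕ → ℕ), (∀ j, j < n → f j < W) → ∀ j, j < n → digit (enc n f) j = f j
  | 0, _, _, _, h => absurd h (Nat.not_lt_zero _)
  | n + 1, f, hf, j, hj => by
    have h0 : f 0 < W := hf 0 (Nat.succ_pos _)
    cases j with
    | zero =>
      rw [digit, enc, pow_zero, Nat.div_one, Nat.add_mul_mod_self_left, Nat.mod_eq_of_lt h0]
    | succ j =>
      rw [digit, enc, pow_succ', ← Nat.div_div_eq_div_mul, Nat.add_mul_div_left _ _ (by norm_num [W]),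
        Nat.div_eq_of_lt h0, zero_add]
      exact digit_enc n (fun i => f (i + 1)) (fun i hi => hf (i + 1) (Nat.succ_lt_succ hi)) j (Nat.lt_of_succ_lt_succ hj)

theorem enc_congr : ∀ (n : ℕ) (f g : ℕ → ℕ), (∀ i, i < n → f i = g i) → enc n f = enc n g
  | 0, _, _, _ => rfl
  | n + 1, f, g, h => by
    rw [enc, enc, h 0 (Nat.succ_pos _), enc_congr n _ _ (fun i hi => h (i + 1) (Nat.succ_lt_succ hi))]

theorem getD_get {l : List ℕ} {i : ℕ} (h : i < l.length) : l.getD i 0 = l[i] := by
  rw [List.getD_eq_getElem?_getD, List.getElem?_eq_getElem h, Option.getD_some]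

theorem sum_mul_enc {ι : Type} (s : Finset ι) (c : ι → ℕ) : ∀ (n : ℕ) (f : ι → ℕ → ℕ),
    ∑ k ∈ s, c k * enc n (f k) = enc n (fun i => ∑ k ∈ s, c k * f k i)
  | 0, f => by simp [enc]
  | n + 1, f => by
    simp only [enc, mul_add, Finset.sum_add_distrib]
    rw [← sum_mul_enc s c n, Finset.mul_sum]
    congr 1
    exact Finset.sum_congr rfl fun k _ => by ring

/-- Seventy-eight rows with all fields below thirteen. -/
def WF (A : List ℕ) : Prop := A.length = 78 ∧ ∀ r ∈ A, redN 78 r = r

attribute [local irreducible] enc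

def wfB (A : List ℕ) : Bool := Nat.beq A.length 78 && A.all fun r => Nat.beq (redN 78 r) r

theorem wf_of_wfB {A : List ℕ} (h : wfB A = true) : WF A := by
  rw [wfB, Bool.and_eq_true, List.all_eq_true] at h
  exact ⟨Nat.eq_of_beq_eq_true h.1, fun r hr => Nat.eq_of_beq_eq_true (h.2 r hr)⟩

abbrev M78 : Type := Matrix (Fin 78) (Fin 78) (ZMod 13)

def matOf (A : List ℕ) : M78 := Matrix.of fun i j => ((digit (A.getD i.1 0) j.1 : ℕ) : ZMod 13)

theorem digit_lt_of_red {r : ℕ} (h : redN 78 r = r) {j : ℕ} (hj : j < 78) : digit r j < 13 := by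
  have h2 := congrArg (fun x => digit x j) (redN_eq 78 r)
  rw [h] at h2
  replace h2 : digit r j = digit (enc 78 fun i => digit r i % 13) j := h2
  rw [digit_enc 78 _ (fun i _ => lt_trans (Nat.mod_lt _ (by norm_num)) (by norm_num [W])) j hj] at h2
  rw [h2]
  exact Nat.mod_lt _ (by norm_num)

theorem digit_red_comb {B : List ℕ} (hB : WF B) {r : ℕ} (hr : redN 78 r = r) {j : ℕ} (hj : j < 78) :
    digit (redN 78 (comb B r)) j = (∑ k : Fin B.length, digit r k * digit B[k.1] j) % 13 := by
  rw [redN_eq, digit_enc 78 _ (fun i _ => lt_trans (Nat.mod_lt _ (by norm_num)) (by norm_num [W])) j hj]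
  refine congrArg (· % 13) ?_
  have e : ∀ k : Fin B.length, B[k.1] = enc 78 (fun i => digit B[k.1] i % 13) := fun k =>
    ((hB.2 _ (List.getElem_mem k.2)).symm).trans (redN_eq 78 _)
  rw [comb_eq, Finset.sum_congr rfl fun k _ => congrArg (digit r k.1 * ·) (e k), sum_mul_enc]
  rw [digit_enc 78 _ ?_ j hj]
  · refine Finset.sum_congr rfl fun k _ => ?_
    rw [Nat.mod_eq_of_lt (digit_lt_of_red (hB.2 _ (List.getElem_mem k.2)) hj)]
  · intro i _
    refine lt_of_le_of_lt (Finset.sum_le_card_nsmul _ _ 144 fun k _ => ?_) ?_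
    · exact Nat.mul_le_mul
        (Nat.lt_succ_iff.mp (digit_lt_of_red hr (lt_of_lt_of_eq k.2 hB.1))) (Nat.lt_succ_iff.mp (Nat.mod_lt _ (by norm_num)))
    · rw [Finset.card_univ, Fintype.card_fin, hB.1]
      norm_num [W]

theorem wf_mulL {A B : List ℕ} (hA : WF A) (hB : WF B) : WF (mulL A B) := by
  refine ⟨by rw [mulL, List.length_map, hA.1], fun r hr => ?_⟩
  obtain ⟨a, -, rfl⟩ := List.mem_map.mp hr
  conv_lhs => rw [redN_eq, redN_eq]
  rw [redN_eq]
  refine enc_congr _ _ _ fun i hi => ?_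
  rw [digit_enc 78 _ (fun i _ => lt_trans (Nat.mod_lt _ (by norm_num)) (by norm_num [W])) i hi, Nat.mod_mod]

theorem matOf_mulL {A B : List ℕ} (hA : WF A) (hB : WF B) : matOf (mulL A B) = matOf A * matOf B := by
  ext i j
  have hi : i.1 < A.length := hA.1.symm ▸ i.2
  simp only [matOf, Matrix.of_apply, Matrix.mul_apply]
  rw [getD_get (by rw [mulL, List.length_map]; exact hi)]
  simp only [mulL, List.getElem_map]
  rw [digit_red_comb hB (hA.2 _ (List.getElem_mem hi)) j.2, ZMod.natCast_mod, Nat.cast_sum]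
  rw [getD_get hi]
  refine Fintype.sum_equiv (finCongr hB.1) _ _ fun k => ?_
  simp only [finCongr_apply, Fin.coe_cast, Nat.cast_mul]
  rw [getD_get k.2]

/-- The identity. -/
def idL : List ℕ := (List.range 78).map fun i => W ^ i

theorem wf_idL : WF idL := wf_of_wfB (by decide +kernel)

theorem matOf_idL : matOf idL = 1 := by
  ext i j
  rw [matOf, Matrix.of_apply, getD_get (by simp [idL])]
  simp only [idL, List.getElem_map, List.getElem_range, Matrix.one_apply]
  have key : ∀ a, a < 78 → ∀ b, b < 78 → digit (W ^ a) b = if a = b then 1 else 0 := by decide +kernel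
  rw [key _ i.2 _ j.2]
  rcases eq_or_ne i j with h | h
  · subst h; simp
  · rw [if_neg (fun e => h (Fin.ext e)), if_neg h]; simp

/-- The product along a word of letters, in the order used by the coset tables. -/
def wordL (g : ℕ → List ℕ) : List ℕ → List ℕ
  | [] => idL
  | [y] => g y
  | y :: w => mulL (wordL g w) (g y)

/-- The `m`-th power. -/
def powL (A : List ℕ) : ℕ → List ℕ
  | 0 => idL
  | 1 => A
  | m + 2 => mulL (powL A (m + 1)) A

theorem wordL_spec {G : Type} [Monoid G] (φ : G →* M78) (g : ℕ → List ℕ) (x : ℕ → G)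
    (hg : ∀ y, WF (g y) ∧ φ (x y) = matOf (g y)) : ∀ w : List ℕ,
    WF (wordL g w) ∧ matOf (wordL g w) = (w.reverse.map fun y => matOf (g y)).prod
  | [] => ⟨wf_idL, matOf_idL⟩
  | [y] => ⟨(hg y).1, by simp [wordL]⟩
  | y :: z :: w => by
    obtain ⟨h1, h2⟩ := wordL_spec φ g x hg (z :: w)
    refine ⟨wf_mulL h1 (hg y).1, ?_⟩
    rw [wordL, matOf_mulL h1 (hg y).1, h2, List.reverse_cons (a := y), List.map_append, List.prod_append]
    simp
    simp

theorem powL_spec {A : List ℕ} (hA : WF A) : ∀ m, WF (powL A m) ∧ matOf (powL A m) = matOf A ^ m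
  | 0 => ⟨wf_idL, by rw [pow_zero]; exact matOf_idL⟩
  | 1 => ⟨hA, (pow_one _).symm⟩
  | m + 2 => ⟨wf_mulL (powL_spec hA (m + 1)).1 hA, by
      rw [powL, matOf_mulL (powL_spec hA (m + 1)).1 hA, (powL_spec hA (m + 1)).2, ← pow_succ]⟩

end Cfsg.Agent.InvChar.Coset.Fi78
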