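import Cfsg.Agent.InvChar.Coset.Fi22BIndex
import Cfsg.Agent.InvChar.Coset.Fi78Packed
import Cfsg.Agent.InvChar.Coset.Fi78Data

/-!
# The generators satisfy the relations
-/

set_option autoImplicit false
set_option linter.all false

noncomputable section

namespace Cfsg.Agent.InvChar.Coset.Fi78

open Cfsg.Agent.CosetCert

def okB (e : List ℕ × ℕ) : Bool := powL (wordL rows e.1) e.2 == idL

theorem ok0 : plan0.all okB = true := by decide +kernel
theorem ok1 : plan1.all okB = true := by decide +kernel
theorem ok2 : plan2.all okB = true := by decide +kernel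
theorem ok3 : plan3.all okB = true := by decide +kernel

theorem rows_wf : wfB rows0 && wfB rows1 && wfB rows2 && wfB rows3 && wfB rows4 && wfB rows5 && wfB rows6 && wfB rows7 && wfB rows8 = true := by
  decide +kernel

theorem rows_sq : ∀ y < 9, (mulL (rows y) (rows y) == idL) = true := by decide +kernel

theorem wf_rows : ∀ y, WF (rows y)
  | 0 => wf_of_wfB (by have := rows_wf; simp only [Bool.and_eq_true] at this; exact this.1.1.1.1.1.1.1.1)
  | 1 => wf_of_wfB (by have := rows_wf; simp only [Bool.and_eq_true] at this; exact this.1.1.1.1.1.1.1.2)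
  | 2 => wf_of_wfB (by have := rows_wf; simp only [Bool.and_eq_true] at this; exact this.1.1.1.1.1.1.2)
  | 3 => wf_of_wfB (by have := rows_wf; simp only [Bool.and_eq_true] at this; exact this.1.1.1.1.1.2)
  | 4 => wf_of_wfB (by have := rows_wf; simp only [Bool.and_eq_true] at this; exact this.1.1.1.1.2)
  | 5 => wf_of_wfB (by have := rows_wf; simp only [Bool.and_eq_true] at this; exact this.1.1.1.2)
  | 6 => wf_of_wfB (by have := rows_wf; simp only [Bool.and_eq_true] at this; exact this.1.1.2)
  | 7 => wf_of_wfB (by have := rows_wf; simp only [Bool.and_eq_true] at this; exact this.1.2)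
  | 8 => wf_of_wfB (by have := rows_wf; simp only [Bool.and_eq_true] at this; exact this.2)
  | n + 9 => by
    have : rows (n + 9) = rows0 := rfl
    rw [this]
    exact wf_of_wfB (by have := rows_wf; simp only [Bool.and_eq_true] at this; exact this.1.1.1.1.1.1.1.1)

/-- The unit of a letter. -/
def unit (y : ℕ) : GL (Fin 78) (ZMod 13) :=
  if h : matOf (rows y) * matOf (rows y) = 1 then ⟨matOf (rows y), matOf (rows y), h, h⟩ else 1

theorem unit_coe {y : ℕ} (hy : y < 9) : ((unit y : GL (Fin 78) (ZMod 13)) : M78) = matOf (rows y) := by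
  have h : matOf (rows y) * matOf (rows y) = 1 := by
    rw [← matOf_mulL (wf_rows y) (wf_rows y), beq_iff_eq.mp (rows_sq y hy), matOf_idL]
  rw [unit, dif_pos h]

theorem unit_sq (y : ℕ) : unit y * unit y = 1 := by
  unfold unit
  split
  · next h => exact Units.ext h
  · exact one_mul 1

theorem wprod_coe : ∀ w : List ℕ, (∀ y ∈ w, y < 9) →
    WF (wordL rows w) ∧ ((wprod unit w : GL (Fin 78) (ZMod 13)) : M78) = matOf (wordL rows w)
  | [], _ => ⟨wf_idL, by rw [wordL, matOf_idL]; rfl⟩
  | [y], h => ⟨wf_rows y, by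
      show ((1 * unit y : GL (Fin 78) (ZMod 13)) : M78) = _
      rw [one_mul, unit_coe (h y (by simp))]
      rfl⟩
  | y :: z :: w, h => by
    obtain ⟨h1, h2⟩ := wprod_coe (z :: w) fun x hx => h x (List.mem_cons_of_mem _ hx)
    refine ⟨wf_mulL h1 (wf_rows y), ?_⟩
    show ((wprod unit (z :: w) * unit y : GL (Fin 78) (ZMod 13)) : M78) = matOf (mulL (wordL rows (z :: w)) (rows y))
    rw [Units.val_mul, matOf_mulL h1 (wf_rows y), h2, unit_coe (h y List.mem_cons_self)]

theorem wprod_flatten {A : Type*} [Group A] (g : ℕ → A) (q : List ℕ) :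
    ∀ m, wprod g (List.replicate m q).flatten = wprod g q ^ m
  | 0 => by rw [pow_zero]; rfl
  | m + 1 => by rw [List.replicate_succ, List.flatten_cons, wprod_append, wprod_flatten g q m, pow_succ]

theorem plan_words : (plan0 ++ plan1 ++ plan2 ++ plan3).map (fun e => (List.replicate e.2 e.1).flatten) = Fi22B.table.C.W ∧
    (plan0 ++ plan1 ++ plan2 ++ plan3).all (fun e => e.1.all fun y => Nat.blt y 9) = true := by
  decide +kernel

theorem unit_rel : ∀ w ∈ Fi22B.table.C.W, wprod unit w = 1 := by
  intro w hw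
  rw [← plan_words.1, List.mem_map] at hw
  obtain ⟨e, he, rfl⟩ := hw
  have hlt : ∀ y ∈ e.1, y < 9 := fun y hy => by
    have := List.all_eq_true.mp (List.all_eq_true.mp plan_words.2 e he) y hy
    simpa using this
  have hok : okB e = true := by
    simp only [List.mem_append] at he
    rcases he with ((he | he) | he) | he
    · exact List.all_eq_true.mp ok0 e he
    · exact List.all_eq_true.mp ok1 e he
    · exact List.all_eq_true.mp ok2 e he
    · exact List.all_eq_true.mp ok3 e he
  rw [wprod_flatten]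
  obtain ⟨h1, h2⟩ := wprod_coe e.1 hlt
  refine Units.ext ?_
  rw [Units.val_pow_eq_pow_val, h2, ← (powL_spec h1 e.2).2, beq_iff_eq.mp hok, matOf_idL]
  rfl

attribute [local irreducible] unit

/-- The images of the generators. -/
def gimg (x : Cfsg.Spor.Fi22.Gen) : GL (Fin 78) (ZMod 13) := unit (Fi22B.idx x)

theorem gimg_sq (x : Cfsg.Spor.Fi22.Gen) : gimg x * gimg x = 1 := unit_sq (Fi22B.idx x)

theorem idx_eq (x : Cfsg.Spor.Fi22.Gen) : Fi22B.data.idx x = Fi22B.idx x := rfl

theorem gimg_idx (x : Cfsg.Spor.Fi22.Gen) : unit (Fi22B.data.idx x) = gimg x := by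
  rw [idx_eq, gimg]

set_option maxRecDepth 4000 in
theorem gimg_rel : ∀ r ∈ Cfsg.Spor.coxRelators Cfsg.Spor.Fi22.edges ∪ {r | r ∈ Cfsg.Spor.Fi22.extra},
    FreeGroup.lift gimg r = 1 := by
  intro r hr
  have h := @CoxData.relator _ _ _ _ _ Fi22B.data (GL (Fin 78) (ZMod 13)) inferInstance gimg unit gimg_sq gimg_idx
  obtain ⟨w, hw, e⟩ := h.1 r hr
  exact e.trans (unit_rel w hw)

/-- The representation. -/
noncomputable def rep : Cfsg.Spor.Fi22 →* GL (Fin 78) (ZMod 13) :=
  PresentedGroup.toGroup (f := gimg) gimg_rel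

theorem digit_ne : digit (rows0.getD 0 0) 1 ≠ 0 := by decide +kernel

theorem rep_ne_one : rep (PresentedGroup.of Cfsg.Spor.Fi22.Gen.a) ≠ 1 := by
  intro h
  rw [rep, PresentedGroup.toGroup.of] at h
  have h0 : matOf (rows 0) = 1 := by
    rw [← unit_coe (by norm_num : 0 < 9)]
    exact congrArg Units.val h
  have h1 := congrFun (congrFun h0 ⟨0, by norm_num⟩) ⟨1, by norm_num⟩
  rw [Matrix.one_apply_ne (by simp [Fin.ext_iff]), matOf, Matrix.of_apply, ZMod.natCast_eq_zero_iff] at h1
  refine digit_ne ?_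
  have hw0 : WF rows0 := wf_rows 0
  exact Nat.eq_zero_of_dvd_of_lt h1 (digit_lt_of_red (hw0.2 _ (by
    rw [getD_get (by rw [hw0.1]; norm_num)]
    exact List.getElem_mem _)) (by norm_num))

end Cfsg.Agent.InvChar.Coset.Fi78
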