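import Cfsg.Agent.InvChar.Coset.FiOutPoints

/-!
# Automorphisms of the presented group Fi22 preserve its class of transpositions

A transposition is the only involution centralising an element of order eleven.
-/

set_option autoImplicit false
set_option linter.all false
set_option maxRecDepth 100000

noncomputable section

namespace Cfsg.Agent.InvChar.Coset.FiOut

open Cfsg.Agent.CosetCert Fi22B FiUnit

/-- An element of order eleven. -/
def gg : FiG := wprod data.gen elevenWord

theorem elevenPow_letters : ∀ i, lettersOK 9 (elevenPow i) = true := by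
  intro i
  induction i with
  | zero => rfl
  | succ i ih =>
    have : ∀ u v : List ℕ, lettersOK 9 u = true → lettersOK 9 v = true → lettersOK 9 (u ++ v) = true := by
      intro u v hu hv
      induction u with
      | nil => exact hv
      | cons y u ihu =>
        simp only [lettersOK, Bool.and_eq_true] at hu
        simp only [List.cons_append, lettersOK, Bool.and_eq_true]
        exact ⟨hu.1, ihu hu.2⟩
    exact this _ _ eleven_ok.1 ih

theorem wprod_elevenPow : ∀ i, wprod data.gen (elevenPow i) = gg ^ i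
  | 0 => by rw [pow_zero]; rfl
  | i + 1 => by rw [elevenPow, CosetCert.wprod_append, wprod_elevenPow i, pow_succ]; rfl

theorem gg_fix {c : Fin table.n} : φ gg c = c ↔ c = P0 := by
  constructor
  · intro h
    have hm := scan_spec _ eleven_ok.2.2.2 c (lt_n c)
    simp only [moveOne, Bool.or_eq_true, Bool.not_eq_true'] at hm
    rcases hm with hm | hm
    · exact Fin.ext (Nat.eq_of_beq_eq_true hm)
    · exfalso
      have := congrArg Fin.val h
      rw [gg, phi_word eleven_ok.1] at this
      rw [this, Nat.beq_refl] at hm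
      simp at hm
  · rintro rfl
    exact Fin.ext (by rw [gg, phi_word eleven_ok.1]; exact eleven_ok.2.1)

theorem gg_ne_one : gg ≠ 1 := by
  intro h
  have h2 : (⟨1, n_eq ▸ by norm_num⟩ : Fin table.n) = P0 := gg_fix.mp (by rw [h, map_one]; rfl)
  exact absurd (congrArg Fin.val h2) (by simp [P0])

theorem gg_pow : gg ^ 11 = 1 := by
  rw [← wprod_elevenPow]
  exact eq_one_of_word (elevenPow_letters 11) eleven_ok.2.2.1

theorem orderOf_gg : orderOf gg = 11 := by
  haveI : Fact (Nat.Prime 11) := ⟨by norm_num⟩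
  exact orderOf_eq_prime gg_pow gg_ne_one

theorem ta_dd : ta = dd P0 := by
  have h : (P0 : Fin table.n) = cp 0 := Fin.ext pt_zero.1.symm
  rw [h, ← cg_eq, cg]
  rfl

theorem commute_gg_ta : Commute gg ta := by
  rw [ta_dd, commute_dd_iff]
  exact gg_fix.mpr rfl

theorem sigBit_iff (i : ℕ) (z : Fin table.n) : sigBit i z = true ↔ Commute (dd (φ (gg ^ i) z)) (dd z) := by
  rw [← meets_iff, sigBit, ← wprod_elevenPow, phi_word (elevenPow_letters i)]

theorem tgt_zero_iff (z : Fin table.n) : Nat.beq (table.tgt z 0) z = true ↔ Commute ta (dd z) := by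
  rw [commute_dd_iff, Nat.beq_eq, Fin.ext_iff, ta, phi_word (show lettersOK 9 [0] = true from rfl)]
  rfl

theorem commute_conj {a b h : FiG} : Commute (h * a * h⁻¹) (h * b * h⁻¹) ↔ Commute a b := by
  constructor
  · intro hc
    have := hc.map (MulAut.conj h⁻¹).toMonoidHom
    simpa [MulAut.conj_apply, mul_assoc] using this
  · intro hc
    simpa [MulAut.conj_apply] using hc.map (MulAut.conj h).toMonoidHom

theorem sigB_invariant {h : FiG} (hg : Commute h gg) (hh : φ h P0 = P0) (z : Fin table.n)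
    (hz : sigB z = true) : sigB (φ h z : ℕ) = true := by
  have h0 : Commute h ta := by rw [ta_dd, commute_dd_iff]; exact hh
  have hb : ∀ i, sigBit i (φ h z : ℕ) = sigBit i z := fun i => by
    rw [Bool.eq_iff_iff, sigBit_iff, sigBit_iff]
    have hp : φ (gg ^ i) (φ h z) = φ h (φ (gg ^ i) z) := by
      rw [← Equiv.Perm.mul_apply, ← map_mul, ← (hg.pow_right i).eq, map_mul, Equiv.Perm.mul_apply]
    rw [hp, ← conj_dd h, ← conj_dd h, commute_conj]
  have ht : Nat.beq (table.tgt (φ h z : ℕ) 0) (φ h z : ℕ) = Nat.beq (table.tgt z 0) z := by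
    rw [Bool.eq_iff_iff, tgt_zero_iff, tgt_zero_iff, ← conj_dd h]
    conv_lhs => arg 1; rw [← mul_inv_eq_iff_eq_mul.mpr h0.eq]
    exact commute_conj
  have hne : Nat.beq (φ h z : ℕ) 0 = Nat.beq (z : ℕ) 0 := by
    rw [Bool.eq_iff_iff, Nat.beq_eq, Nat.beq_eq]
    constructor
    · intro e
      have e' : φ h z = φ h P0 := by rw [hh]; exact Fin.ext e
      exact congrArg Fin.val ((φ h).injective e')
    · intro e
      rw [show z = P0 from Fin.ext e, hh]
      rfl
  unfold sigB at hz ⊢
  rw [hb, hb, hb, hb, hb, ht, hne]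
  exact hz

theorem classWords_spec {u : List ℕ} (hu : u ∈ classWords) :
    lettersOK 9 u = true ∧ ∃ i, wprod data.gen u = gg ^ i ∨ wprod data.gen u = gg ^ i * ta := by
  simp only [classWords, List.mem_append, List.mem_map] at hu
  rcases hu with ⟨i, -, rfl⟩ | ⟨i, -, rfl⟩
  · exact ⟨elevenPow_letters i, i, Or.inl (wprod_elevenPow i)⟩
  · refine ⟨?_, i, Or.inr ?_⟩
    · simp only [List.singleton_append, lettersOK, elevenPow_letters i]
      rfl
    · rw [CosetCert.wprod_append, wprod_elevenPow]
      rfl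

theorem closeOK_spec {v : FiG} : ∀ (l : List (ℕ × ℕ × ℕ)) (known : List ℕ), closeOK l known = true →
    (∀ c : Fin table.n, (c : ℕ) ∈ known → φ v c = c) → (∀ x ∈ known, x < 3510) → v = 1
  | [], known, h, hk, _ => eq_one_of_fix fun k => hk (cp k) (memB_iff.mp (scan_spec _ h k k.2))
  | (f, z, y) :: l, known, h, hk, hlt => by
    simp only [closeOK, Bool.and_eq_true, memB_iff] at h
    obtain ⟨hf, hz, hy, hl⟩ := h
    have hfn : f < table.n := n_eq ▸ hlt f hf
    have hzn : z < table.n := n_eq ▸ hlt z hz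
    have hy' : (φ (dd ⟨f, hfn⟩) ⟨z, hzn⟩ : ℕ) = y := by rw [phi_dd]; exact Nat.eq_of_beq_eq_true hy
    refine closeOK_spec l _ hl (fun c hc => ?_) fun x hx => ?_
    · rcases List.mem_cons.mp hc with hc | hc
      · rw [show c = φ (dd ⟨f, hfn⟩) ⟨z, hzn⟩ from Fin.ext (hc.trans hy'.symm), ← Equiv.Perm.mul_apply, ← map_mul,
          (commute_dd_iff.mpr (hk ⟨f, hfn⟩ hf)).eq, map_mul, Equiv.Perm.mul_apply, hk ⟨z, hzn⟩ hz]
      · exact hk c hc
    · rcases List.mem_cons.mp hx with rfl | hx
      · rw [← hy', ← n_eq]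
        exact Fin.is_lt _
      · exact hlt x hx

theorem eq_of_centralises {h : FiG} (hg : Commute h gg) (hs : h * h = 1) (h1 : h ≠ 1) : h = ta := by
  have hh : φ h P0 = P0 := gg_fix.mp (by
    rw [← Equiv.Perm.mul_apply, ← map_mul, ← hg.eq, map_mul, Equiv.Perm.mul_apply, gg_fix.mpr rfl])
  have h0 : Commute h ta := by rw [ta_dd, commute_dd_iff]; exact hh
  have hsn : sigPoint < table.n := n_eq ▸ sigPoint_ok.1
  have hsig := sigB_invariant hg hh ⟨_, hsn⟩ sigPoint_ok.2
  have hc := scan_spec _ class_ok _ (lt_n (φ h ⟨sigPoint, hsn⟩))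
  rw [classOK_eq hsig, List.any_eq_true] at hc
  obtain ⟨u, hu, hrun⟩ := hc
  obtain ⟨hul, i, hi⟩ := classWords_spec hu
  set U := wprod data.gen u with hU
  have hUg : Commute U gg := by
    rcases hi with hi | hi <;> rw [hi]
    · exact Commute.pow_self gg i
    · exact (Commute.pow_self gg i).mul_left commute_gg_ta.symm
  have hUt : Commute U ta := by
    rcases hi with hi | hi <;> rw [hi]
    · exact commute_gg_ta.pow_left i
    · exact (commute_gg_ta.pow_left i).mul_left (Commute.refl ta)
  have hUP : φ U P0 = P0 := commute_dd_iff.mp (ta_dd ▸ hUt)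
  have hvr : φ (U⁻¹ * h) ⟨sigPoint, hsn⟩ = ⟨sigPoint, hsn⟩ := by
    rw [map_mul, Equiv.Perm.mul_apply, map_inv, Equiv.Perm.inv_eq_iff_eq]
    refine Fin.ext ?_
    rw [hU, phi_word hul]
    exact (Nat.eq_of_beq_eq_true hrun).symm
  have hvg : Commute (U⁻¹ * h) gg := hUg.inv_left.mul_left hg
  have hvt : Commute (U⁻¹ * h) ta := hUt.inv_left.mul_left h0
  have hv : U⁻¹ * h = 1 := by
    refine closeOK_spec fixedSteps knownStart close_ok (fun c hc => ?_) fun x hx => ?_
    · simp only [knownStart, List.mem_cons, List.mem_map] at hc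
      rcases hc with hc | ⟨w, hw, hc⟩
      · rw [show c = P0 from Fin.ext hc, map_mul, Equiv.Perm.mul_apply, hh, map_inv, Equiv.Perm.inv_eq_iff_eq, hUP]
      · obtain ⟨hwl, j, hj⟩ := classWords_spec hw
        have hcw : Commute (U⁻¹ * h) (wprod data.gen w) := by
          rcases hj with hj | hj <;> rw [hj]
          · exact hvg.pow_right j
          · exact (hvg.pow_right j).mul_right hvt
        have hc' : c = φ (wprod data.gen w) ⟨sigPoint, hsn⟩ := Fin.ext (by rw [phi_word hwl]; exact hc.symm)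
        rw [hc', ← Equiv.Perm.mul_apply, ← map_mul, hcw.eq, map_mul, Equiv.Perm.mul_apply, hvr]
    · simp only [knownStart, List.mem_cons, List.mem_map] at hx
      rcases hx with rfl | ⟨w, hw, rfl⟩
      · norm_num
      · have := lt_n (φ (wprod data.gen w) ⟨sigPoint, hsn⟩)
        rwa [phi_word (classWords_spec hw).1] at this
  have hhU : h = U := (inv_mul_eq_one.mp hv).symm
  have hsq : gg ^ (i + i) = 1 := by
    rcases hi with hi | hi <;> rw [hhU, hi] at hs
    · rw [pow_add]; exact hs
    · rw [pow_add]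
      calc gg ^ i * gg ^ i = gg ^ i * (ta * ta) * gg ^ i := by rw [ta_sq, mul_one]
        _ = gg ^ i * ta * (ta * gg ^ i) := by simp only [mul_assoc]
        _ = gg ^ i * ta * (gg ^ i * ta) := by rw [(commute_gg_ta.pow_left i).eq]
        _ = 1 := hs
  have hdvd : 11 ∣ i := by
    have := orderOf_dvd_of_pow_eq_one hsq
    rw [orderOf_gg] at this
    omega
  have hi0 : gg ^ i = 1 := orderOf_dvd_iff_pow_eq_one.mp (by rw [orderOf_gg]; exact hdvd)
  rcases hi with hi | hi <;> rw [hi, hi0] at hhU
  · exact absurd hhU h1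
  · rw [hhU, one_mul]
where
  classOK_eq {z : ℕ} (hz : sigB z = true) : classOne z = classWords.any fun u => Nat.beq (table.run u sigPoint) z := by
    rw [classOne, hz, cond_true]

/-- Subgroups of order eleven are conjugate. -/
theorem conj_eleven {K : Subgroup FiG} (hK : Nat.card K = 11) : ∃ k : FiG, k * gg * k⁻¹ ∈ K := by
  haveI := finite_Fi
  haveI : Fact (Nat.Prime 11) := ⟨by norm_num⟩
  have hz : Nat.card (Subgroup.zpowers gg) = 11 := by rw [Nat.card_zpowers, orderOf_gg]
  have key : ∀ L : Subgroup FiG, Nat.card L = 11 → ¬ 11 ∣ L.index := fun L hL => by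
    have h := Subgroup.card_mul_index L
    rw [simple_and_card.2, hL] at h
    omega
  have p1 : IsPGroup 11 (Subgroup.zpowers gg) := IsPGroup.of_card (n := 1) (by rw [hz, pow_one])
  have p2 : IsPGroup 11 K := IsPGroup.of_card (n := 1) (by rw [hK, pow_one])
  obtain ⟨k, hk⟩ := MulAction.exists_smul_eq FiG (p1.toSylow (key _ hz)) (p2.toSylow (key _ hK))
  refine ⟨k, ?_⟩
  have hmem : k * gg * k⁻¹ ∈ ((k • p1.toSylow (key _ hz) : Sylow 11 FiG) : Subgroup FiG) :=
    Subgroup.smul_mem_pointwise_smul gg (MulAut.conj k) (Subgroup.zpowers gg) (Subgroup.mem_zpowers gg)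
  rw [hk] at hmem
  exact hmem

/-- An automorphism maps the first transposition to a transposition. -/
theorem image_ta (θ : FiG ≃* FiG) : ∃ k : FiG, θ ta = k * ta * k⁻¹ := by
  have ho : Nat.card (Subgroup.zpowers (θ gg)) = 11 := by
    rw [Nat.card_zpowers, MulEquiv.orderOf_eq, orderOf_gg]
  obtain ⟨k, hk⟩ := conj_eleven ho
  obtain ⟨m, hm⟩ := Subgroup.mem_zpowers_iff.mp hk
  refine ⟨k, ?_⟩
  have hc : Commute (θ ta) (k * gg * k⁻¹) := by
    rw [← hm]
    exact ((commute_gg_ta.symm).map θ.toMonoidHom).zpow_right m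
  have hh : k⁻¹ * θ ta * k = ta := by
    refine eq_of_centralises ?_ ?_ fun e => ?_
    · simpa [MulAut.conj_apply, mul_assoc] using hc.map (MulAut.conj k⁻¹).toMonoidHom
    · calc k⁻¹ * θ ta * k * (k⁻¹ * θ ta * k) = k⁻¹ * (θ ta * θ ta) * k := by group
        _ = 1 := by rw [← map_mul, ta_sq, map_one, mul_one, inv_mul_cancel]
    · apply ta_ne_one
      apply θ.injective
      rw [map_one]
      calc θ ta = k * (k⁻¹ * θ ta * k) * k⁻¹ := by group
        _ = 1 := by rw [e, mul_one, mul_inv_cancel]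
  calc θ ta = k * (k⁻¹ * θ ta * k) * k⁻¹ := by group
    _ = _ := by rw [hh]

end Cfsg.Agent.InvChar.Coset.FiOut
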