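import Cfsg.Agent.InvChar.Coset.FiTransp
import Cfsg.Agent.InvChar.Coset.FiOutData

/-!
# Computations for the automorphisms of the presented group Fi22
-/

set_option autoImplicit false
set_option linter.all false
set_option maxRecDepth 100000
set_option maxHeartbeats 4000000
set_option Elab.async false

noncomputable section

namespace Cfsg.Agent.InvChar.Coset.FiOut

open Cfsg.Agent.CosetCert Fi22B FiUnit

/-- A check for all numbers below a bound. -/
def scan (f : ℕ → Bool) : ℕ → Bool
  | 0 => true
  | n + 1 => f n && scan f n

theorem scan_spec {f : ℕ → Bool} : ∀ n, scan f n = true → ∀ i < n, f i = true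
  | 0, _, i, hi => absurd hi (by omega)
  | n + 1, h, i, hi => by
    simp only [scan, Bool.and_eq_true] at h
    rcases Nat.lt_succ_iff_lt_or_eq.mp hi with e | rfl
    · exact scan_spec n h.2 i e
    · exact h.1

/-- The number of successes below a bound. -/
def countB (f : ℕ → Bool) : ℕ → ℕ
  | 0 => 0
  | n + 1 => cond (f n) (Nat.succ (countB f n)) (countB f n)

def beqB : Bool → Bool → Bool
  | true, b => b
  | false, b => !b

def memB (x : ℕ) : List ℕ → Bool
  | [] => false
  | y :: l => Nat.beq x y || memB x l

/-- Unpack a word. -/
def decode : ℕ → ℕ → List ℕ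
  | 0, _ => []
  | f + 1, c => cond (Nat.beq c 0) [] (Nat.sub (Nat.land c 15) 1 :: decode f (Nat.shiftRight c 4))

def path (c : ℕ) : List ℕ := decode 400 (pathTree.get c)

/-- The word of the transposition of a point. -/
def dword (c : ℕ) : List ℕ := (path c).reverse ++ [0] ++ path c

/-- The transposition of `x` fixes `y`. -/
def meets (x y : ℕ) : Bool := Nat.beq (table.run (dword x) y) y

def pt (k : ℕ) : ℕ := nthNat pts k

def lt' (k : ℕ) : ℕ := nthNat letters k

/-- Whether two of the chosen transpositions commute. -/
def pat (k j : ℕ) : Bool := Nat.beq (table.tgt (pt j) (lt' k)) (pt j)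

/-- A point behaves like the chosen one with respect to the first chosen points. -/
def near (x k : ℕ) : ℕ → Bool
  | 0 => true
  | j + 1 => !(Nat.beq x (pt j)) && (beqB (Nat.beq (table.tgt x (lt' j)) x) (pat k j) && near x k j)

def fixPts (w : List ℕ) : ℕ → Bool
  | 0 => true
  | j + 1 => Nat.beq (table.run w (pt j)) (pt j) && fixPts w j

def pathOne (c : ℕ) : Bool := lettersOK 9 (path c) && Nat.beq (table.run (path c) 0) c

def transTree : ℕ → Tree
  | 1 => transTree1
  | 2 => transTree2
  | _ => transTree3

def transWord (k x : ℕ) : List ℕ := decode 400 ((transTree k).get x)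

def transOne (k x : ℕ) : Bool :=
  cond (near x k k) (lettersOK 9 (transWord k x) && (Nat.beq (table.run (transWord k x) (pt k)) x &&
    fixPts (transWord k x) k)) true

def tailList : ℕ → List ℕ
  | 4 => list4
  | 5 => list5
  | 6 => list6
  | 7 => list7
  | _ => list8

def listOne (k x : ℕ) : Bool := cond (near x k 4) (memB x (tailList k)) true

/-- A later point behaves like the chosen one with respect to an earlier one. -/
def pc (x y k j : ℕ) : Bool := !(Nat.beq x y) && beqB (meets x y) (pat k j)

def tails : List (List ℕ) :=
  (tailList 4).flatMap fun a => ((tailList 5).filter fun b => pc b a 5 4).flatMap fun b =>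
    ((tailList 6).filter fun c => pc c a 6 4 && pc c b 6 5).flatMap fun c =>
      ((tailList 7).filter fun d => pc d a 7 4 && (pc d b 7 5 && pc d c 7 6)).flatMap fun d =>
        ((tailList 8).filter fun e => pc e a 8 4 && (pc e b 8 5 && (pc e c 8 6 && pc e d 8 7))).map fun e =>
          [pt 0, pt 1, pt 2, pt 3, a, b, c, d, e]

def tailWord (c : ℕ) : List ℕ := decode 400 (Nat.shiftRight c 1)

def tailSrc (c : ℕ) : List ℕ := cond (Nat.beq (Nat.land c 1) 0) pts pts'

def tailOne (q : List ℕ) (c : ℕ) : Bool :=
  lettersOK 9 (tailWord c) && beqList ((tailSrc c).map (table.run (tailWord c))) q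

def tailsMatch : List (List ℕ) → List ℕ → Bool
  | [], [] => true
  | q :: l, c :: m => tailOne q c && tailsMatch l m
  | _, _ => false

def nodupB : List (List ℕ) → Bool
  | [] => true
  | q :: l => l.all (fun r => !(beqList q r)) && nodupB l

def posIn (l : ℕ) : List ℕ → ℕ
  | [] => 0
  | y :: m => cond (Nat.beq l y) 0 (Nat.succ (posIn l m))

/-- The second configuration, by letters. -/
def other (l : ℕ) : ℕ := nthNat pts' (posIn l letters)

def relOne (w : List ℕ) : Bool :=
  lettersOK 9 (w.flatMap fun y => dword (other y)) && fixPts (w.flatMap fun y => dword (other y)) 9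

def elevenPow : ℕ → List ℕ
  | 0 => []
  | i + 1 => elevenWord ++ elevenPow i

def moveOne (c : ℕ) : Bool := Nat.beq c 0 || !(Nat.beq (table.run elevenWord c) c)

def sigBit (i : ℕ) (z : ℕ) : Bool := meets (table.run (elevenPow i) z) z

def sigB (z : ℕ) : Bool :=
  !(Nat.beq z 0) && (!(Nat.beq (table.tgt z 0) z) && (sigBit 1 z && (!(sigBit 2 z) && (sigBit 3 z &&
    (!(sigBit 4 z) && !(sigBit 5 z))))))

def classWords : List (List ℕ) :=
  (List.range 11).map elevenPow ++ (List.range 11).map fun i => [0] ++ elevenPow i

def classOne (z : ℕ) : Bool := cond (sigB z) (classWords.any fun u => Nat.beq (table.run u sigPoint) z) true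

def knownStart : List ℕ := 0 :: classWords.map fun u => table.run u sigPoint

def closeOK : List (ℕ × ℕ × ℕ) → List ℕ → Bool
  | [], known => scan (fun j => memB (pt j) known) 9
  | s :: l, known => memB s.1 known && (memB s.2.1 known && (Nat.beq (table.run (dword s.1) s.2.1) s.2.2 &&
      closeOK l (s.2.2 :: known)))

theorem paths_ok : scan pathOne 3510 = true := by decide +kernel

theorem trans_one : scan (transOne 1) 3510 = true := by decide +kernel

theorem trans_two : scan (transOne 2) 3510 = true := by decide +kernel

theorem trans_three : scan (transOne 3) 3510 = true := by decide +kernel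

theorem count_ok : countB (fun x => near x 1 1) 3510 = 2816 ∧ countB (fun x => near x 2 2) 3510 = 567 ∧
    countB (fun x => near x 3 3) 3510 = 96 := by decide +kernel

theorem lists_ok : scan (fun x => listOne 4 x && (listOne 5 x && (listOne 6 x && (listOne 7 x && listOne 8 x)))) 3510 = true := by
  decide +kernel

theorem tails_match : tailsMatch tails tailCodes = true := by decide +kernel

theorem tails_nodup : nodupB tails = true := by decide +kernel

theorem tails_length : tails.length = 240 := by decide +kernel

theorem pts_nodup : scan (fun k => scan (fun j => !(Nat.beq (pt k) (pt j))) k) 9 = true := by decide +kernel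

theorem gens_ok : scan (fun k => Nat.blt (pt k) 3510 && (Nat.blt (lt' k) 9 && sameWords (dword (pt k)) [lt' k])) 9 = true := by
  decide +kernel

theorem letters_onto : scan (fun l => Nat.blt (posIn l letters) 9 && Nat.beq (lt' (posIn l letters)) l) 9 = true := by
  decide +kernel

theorem pt_zero : pt 0 = 0 ∧ other 0 = 0 ∧ pts' ≠ pts ∧ scan (fun k => Nat.blt (nthNat pts' k) 3510) 9 = true := by
  decide +kernel

theorem rels_ok : table.C.W.all relOne = true := by decide +kernel

theorem eleven_ok : lettersOK 9 elevenWord = true ∧ table.run elevenWord 0 = 0 ∧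
    fixPts (elevenPow 11) 9 = true ∧ scan moveOne 3510 = true := by decide +kernel

theorem class_ok : scan classOne 3510 = true := by decide +kernel

theorem sigPoint_ok : sigPoint < 3510 ∧ sigB sigPoint = true := by decide +kernel

theorem close_ok : closeOK fixedSteps knownStart = true := by decide +kernel

end Cfsg.Agent.InvChar.Coset.FiOut
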