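import Cfsg.Agent.InvChar.Coset.FiOutCheck

/-!
# The transpositions of the presented group Fi22 as points
-/

set_option autoImplicit false
set_option linter.all false
set_option maxRecDepth 100000

noncomputable section

namespace Cfsg.Agent.InvChar.Coset.FiOut

open Cfsg.Agent.CosetCert Fi22B FiUnit

theorem beqB_eq {a b : Bool} (h : beqB a b = true) : a = b := by cases a <;> cases b <;> simp_all [beqB]

theorem memB_iff {x : ℕ} : ∀ {l : List ℕ}, memB x l = true ↔ x ∈ l
  | [] => by simp [memB]
  | y :: l => by simp [memB, memB_iff, Nat.beq_eq]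

theorem beqList_eq : ∀ {l m : List ℕ}, beqList l m = true → l = m
  | [], [], _ => rfl
  | [], b :: m, h => by rw [beqList_nil_cons] at h; simp at h
  | a :: l, [], h => by rw [beqList_cons_nil] at h; simp at h
  | a :: l, b :: m, h => by
    rw [beqList_cons, Bool.and_eq_true] at h
    rw [Nat.eq_of_beq_eq_true h.1, beqList_eq h.2]

theorem beqList_self : ∀ l : List ℕ, beqList l l = true
  | [] => rfl
  | a :: l => by rw [beqList_cons, Nat.beq_refl, beqList_self l]; rfl

/-- A natural number as a point. -/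
def P0 : Fin table.n := ⟨0, n_eq ▸ by norm_num⟩

theorem path_spec {c : ℕ} (hc : c < 3510) : lettersOK 9 (path c) = true ∧ table.run (path c) 0 = c := by
  have h := scan_spec _ paths_ok c hc
  simp only [pathOne, Bool.and_eq_true] at h
  exact ⟨h.1, Nat.eq_of_beq_eq_true h.2⟩

theorem lt_n (c : Fin table.n) : (c : ℕ) < 3510 := n_eq ▸ c.2

theorem dword_letters {c : ℕ} (hc : c < 3510) : lettersOK 9 (dword c) = true := by
  have hz : ∀ {w : List ℕ}, (∀ y ∈ w, y < 9) → lettersOK 9 w = true := by
    intro w hw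
    induction w with
    | nil => rfl
    | cons y w ih =>
      simp only [lettersOK, Bool.and_eq_true]
      exact ⟨by simpa [Nat.blt] using hw y List.mem_cons_self, ih fun z hz => hw z (List.mem_cons_of_mem _ hz)⟩
  refine hz fun y hy => ?_
  simp only [dword, List.mem_append, List.mem_reverse, List.mem_singleton] at hy
  rcases hy with (hy | rfl) | hy
  · exact lettersOK_spec (path_spec hc).1 y hy
  · norm_num
  · exact lettersOK_spec (path_spec hc).1 y hy

/-- The element of a path. -/
def rp (c : Fin table.n) : FiG := wprod data.gen (path c)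

theorem phi_rp (c : Fin table.n) : φ (rp c) P0 = c :=
  Fin.ext (by rw [rp, phi_word (path_spec (lt_n c)).1]; exact (path_spec (lt_n c)).2)

/-- The transposition of a point. -/
def dd (c : Fin table.n) : FiG := wprod data.gen (dword c)

theorem dd_eq (c : Fin table.n) : dd c = rp c * ta * (rp c)⁻¹ := by
  rw [dd, dword, CosetCert.wprod_append, CosetCert.wprod_append, wprod_reverse data.gen data.gen_sq, rp, ta,
    mul_assoc]

theorem mem_H0_iff {h : FiG} : h ∈ H0 ↔ φ h P0 = P0 := by
  constructor
  · intro hh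
    exact image_zero Fi22B.checked data.gen φ (data.hom_gen Fi22B.checked) data.gen_sq data.gen_rel data.gen_top
      (H := H0) rfl h hh
  · intro hh
    obtain ⟨e, he0, he⟩ := exists_equiv Fi22B.checked data.gen φ (data.hom_gen Fi22B.checked) data.gen_sq
      data.gen_rel data.gen_top (H := H0) rfl
    have h0 : e P0 = QuotientGroup.mk 1 := he0
    have h1 := he h P0
    rw [hh, h0, MulAction.Quotient.smul_mk, smul_eq_mul, mul_one, QuotientGroup.eq, mul_one, inv_mem_iff] at h1
    exact h1

theorem conj_dd (g : FiG) (c : Fin table.n) : g * dd c * g⁻¹ = dd (φ g c) := by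
  have hm : (rp (φ g c))⁻¹ * (g * rp c) ∈ H0 := mem_H0_iff.mpr (by
    rw [map_mul, Equiv.Perm.mul_apply, map_mul, Equiv.Perm.mul_apply, phi_rp, map_inv, Equiv.Perm.inv_eq_iff_eq,
      phi_rp])
  rw [dd_eq, dd_eq]
  calc g * (rp c * ta * (rp c)⁻¹) * g⁻¹
      = rp (φ g c) * (((rp (φ g c))⁻¹ * (g * rp c)) * ta * ((rp (φ g c))⁻¹ * (g * rp c))⁻¹) * (rp (φ g c))⁻¹ := by
        group
    _ = _ := by rw [H0_conj hm]

theorem dd_injective : Function.Injective dd := by
  intro c e h
  rw [dd_eq, dd_eq] at h
  have hm : (rp c)⁻¹ * rp e ∈ H0 := by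
    rw [← centralizer_ta, Subgroup.mem_centralizer_singleton_iff]
    calc (rp c)⁻¹ * rp e * ta = (rp c)⁻¹ * (rp e * ta * (rp e)⁻¹) * rp e := by group
      _ = (rp c)⁻¹ * (rp c * ta * (rp c)⁻¹) * rp e := by rw [h]
      _ = _ := by group
  have := mem_H0_iff.mp hm
  rw [map_mul, Equiv.Perm.mul_apply, phi_rp, map_inv, Equiv.Perm.inv_eq_iff_eq, phi_rp] at this
  exact this.symm

theorem commute_dd_iff {g : FiG} {c : Fin table.n} : Commute g (dd c) ↔ φ g c = c := by
  constructor
  · intro h
    refine dd_injective ?_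
    rw [← conj_dd, h.eq, mul_inv_cancel_right]
  · intro h
    have := conj_dd g c
    rw [h, mul_inv_eq_iff_eq_mul] at this
    exact this

theorem phi_dd (x y : Fin table.n) : (φ (dd x) y : ℕ) = table.run (dword x) y := by
  rw [dd, phi_word (dword_letters (lt_n x))]

theorem meets_iff {x y : Fin table.n} : meets x y = true ↔ Commute (dd x) (dd y) := by
  rw [commute_dd_iff, meets, Nat.beq_eq, Fin.ext_iff, phi_dd]

theorem gens_spec {k : ℕ} (hk : k < 9) : pt k < 3510 ∧ lt' k < 9 := by
  have h := scan_spec _ gens_ok k hk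
  simp only [Bool.and_eq_true, Nat.blt_eq] at h
  exact ⟨h.1, h.2.1⟩

/-- The chosen points. -/
def cp (k : Fin 9) : Fin table.n := ⟨pt k, n_eq ▸ (gens_spec k.2).1⟩

/-- The chosen generators. -/
def cg (k : Fin 9) : FiG := wprod data.gen [lt' k]

theorem cg_eq (k : Fin 9) : cg k = dd (cp k) := by
  have h := scan_spec _ gens_ok k k.2
  simp only [Bool.and_eq_true] at h
  exact (sameWords_spec h.2.2).symm

theorem cg_gen (k : Fin 9) : cg k = data.gen (lt' k) := one_mul _

theorem cg_closure : Subgroup.closure (Set.range cg) = ⊤ := by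
  rw [eq_top_iff, ← data.gen_top, Subgroup.closure_le]
  rintro _ ⟨l, hl, rfl⟩
  have h := scan_spec _ letters_onto l (K_eq ▸ hl)
  simp only [Bool.and_eq_true, Nat.blt_eq] at h
  refine Subgroup.subset_closure ⟨⟨_, h.1⟩, ?_⟩
  rw [cg_gen]
  exact congrArg data.gen (Nat.eq_of_beq_eq_true h.2)

theorem phi_cg (k : Fin 9) (x : Fin table.n) : (φ (cg k) x : ℕ) = table.tgt x (lt' k) := by
  rw [cg, phi_word (by simp [lettersOK, Nat.blt_eq, (gens_spec k.2).2])]
  rfl

theorem pat_iff (k j : Fin 9) : pat k j = true ↔ Commute (dd (cp k)) (dd (cp j)) := by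
  rw [commute_dd_iff, ← cg_eq, pat, Nat.beq_eq, Fin.ext_iff, phi_cg]
  rfl

theorem eq_one_of_fix {v : FiG} (h : ∀ k, φ v (cp k) = cp k) : v = 1 := by
  have hc : ∀ g ∈ Subgroup.closure (Set.range cg), Commute v g := by
    intro g hg
    induction hg using Subgroup.closure_induction with
    | mem y hy =>
      obtain ⟨k, rfl⟩ := hy
      rw [cg_eq]
      exact commute_dd_iff.mpr (h k)
    | one => exact Commute.one_right v
    | mul a b _ _ ha hb => exact ha.mul_right hb
    | inv a _ ha => exact ha.inv_right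
  have hz : v ∈ Subgroup.center FiG :=
    Subgroup.mem_center_iff.mpr fun g => ((hc g (cg_closure ▸ Subgroup.mem_top g)).eq).symm
  rw [center_Fi, Subgroup.mem_bot] at hz
  exact hz

theorem fixPts_spec {w : List ℕ} : ∀ m, fixPts w m = true → ∀ j < m, table.run w (pt j) = pt j
  | 0, _, j, hj => absurd hj (by omega)
  | m + 1, h, j, hj => by
    simp only [fixPts, Bool.and_eq_true] at h
    rcases Nat.lt_succ_iff_lt_or_eq.mp hj with e | rfl
    · exact fixPts_spec m h.2 j e
    · exact Nat.eq_of_beq_eq_true h.1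

theorem eq_one_of_word {w : List ℕ} (hw : lettersOK 9 w = true) (hf : fixPts w 9 = true) : wprod data.gen w = 1 :=
  eq_one_of_fix fun k => Fin.ext (by rw [phi_word hw]; exact fixPts_spec 9 hf k k.2)

end Cfsg.Agent.InvChar.Coset.FiOut
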