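import Cfsg.Agent.InvChar.Coset.FiUnitIso
import Cfsg.Prelude.Def_Sporadic

/-!
# The class of three-transpositions of the presented group Fi22
-/

set_option autoImplicit false
set_option linter.all false

noncomputable section

namespace Cfsg.Agent.InvChar.Coset.FiUnit

open Cfsg.Agent.CosetCert Fi22B

/-- Being a non-split double cover is invariant under isomorphisms. -/
theorem double_cover_congr {A B K : Type*} [Group A] [Group B] [Group K] (e : A ≃* B)
    (h : Cfsg.IsNonsplitDoubleCover A K) : Cfsg.IsNonsplitDoubleCover B K := by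
  obtain ⟨h1, ⟨i⟩, h3⟩ := h
  have hc : (Subgroup.center A).map e.toMonoidHom = Subgroup.center B := by
    ext b
    simp only [Subgroup.mem_map, Subgroup.mem_center_iff, MulEquiv.coe_toMonoidHom]
    constructor
    · rintro ⟨a, ha, rfl⟩ g
      obtain ⟨g, rfl⟩ := e.surjective g
      rw [← map_mul, ← map_mul, ha]
    · intro hb
      exact ⟨e.symm b, fun g => e.injective (by rw [map_mul, map_mul, e.apply_symm_apply, hb]), e.apply_symm_apply b⟩
  refine ⟨?_, ⟨(QuotientGroup.congr _ _ e hc).symm.trans i⟩, fun L hL => ?_⟩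
  · rw [← hc, Subgroup.card_map_of_injective e.injective, h1]
  · refine h3 (L.map e.symm.toMonoidHom) ?_
    have hd : Subgroup.center A = (Subgroup.center B).map e.symm.toMonoidHom := by
      rw [← hc, Subgroup.map_map]
      ext x
      simp [Subgroup.mem_map]
    rw [hd]
    refine Subgroup.isComplement'_of_disjoint_and_mul_eq_univ ?_ ?_
    · rw [disjoint_iff, ← Subgroup.map_inf _ _ _ e.symm.injective, hL.disjoint.eq_bot, Subgroup.map_bot]
    · ext x
      simp only [Set.mem_univ, iff_true, Set.mem_mul, SetLike.mem_coe]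
      obtain ⟨⟨p, q⟩, hpq, -⟩ := hL.existsUnique (e x)
      exact ⟨e.symm p, Subgroup.mem_map_of_mem _ p.2, e.symm q, Subgroup.mem_map_of_mem _ q.2, by
        rw [← map_mul]
        simp only at hpq
        rw [hpq, e.symm_apply_apply]⟩

def ta : FiG := wprod data.gen [0]

theorem gh_zero_coe : (gh 0 : FiG) = ta := by
  rw [gh, dif_pos (show 0 < 9 by norm_num)]
  show wprod data.gen (subW 0) = ta
  rw [show subW 0 = [0] from by decide +kernel]
  rfl

theorem ta_ne_one : ta ≠ 1 := fun h => gh_zero_ne_one (Subtype.ext (by rw [gh_zero_coe, h]; rfl))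

theorem ta_sq : ta * ta = 1 := by
  rw [← gh_zero_coe, ← Subgroup.coe_mul, gh_sq]
  rfl

theorem gh_zero_central : gh 0 ∈ Subgroup.center H0 := by
  obtain ⟨f, hf, hz, hcard⟩ := exists_hom
  have hx1 : (⟨gh 0, hz⟩ : f.ker) ≠ 1 := fun e => gh_zero_ne_one (congrArg Subtype.val e)
  obtain ⟨y, -, huniq⟩ := (Nat.card_eq_two_iff' (1 : f.ker)).mp hcard
  refine Subgroup.mem_center_iff.mpr fun g => ?_
  have hy : g * gh 0 * g⁻¹ ∈ f.ker := (MonoidHom.normal_ker f).conj_mem _ hz g
  have hy1 : (⟨g * gh 0 * g⁻¹, hy⟩ : f.ker) ≠ 1 :=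
    fun e => gh_zero_ne_one (conj_eq_one_iff.mp (congrArg Subtype.val e))
  exact mul_inv_eq_iff_eq_mul.mp (congrArg Subtype.val ((huniq _ hy1).trans (huniq _ hx1).symm))

theorem H0_conj {h : FiG} (hh : h ∈ H0) : h * ta * h⁻¹ = ta := by
  have := congrArg Subtype.val (Subgroup.mem_center_iff.mp gh_zero_central ⟨h, hh⟩)
  rw [Subgroup.coe_mul, Subgroup.coe_mul, gh_zero_coe] at this
  rw [mul_inv_eq_iff_eq_mul]
  exact this

theorem center_Fi : Subgroup.center FiG = ⊥ := by
  haveI := simple_and_card.1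
  rcases IsSimpleGroup.eq_bot_or_eq_top_of_normal (Subgroup.center FiG) inferInstance with h | h
  · exact h
  · exfalso
    haveI := finite_Fi
    letI : CommGroup FiG :=
      { (inferInstance : Group FiG) with mul_comm := fun a b => (Subgroup.mem_center_iff.mp (h ▸ Subgroup.mem_top a) b).symm }
    have hp := IsSimpleGroup.prime_card (α := FiG)
    rw [simple_and_card.2] at hp
    norm_num at hp

theorem centralizer_ta : Subgroup.centralizer ({ta} : Set FiG) = H0 := by
  have hle : H0 ≤ Subgroup.centralizer ({ta} : Set FiG) := fun h hh => by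
    rw [Subgroup.mem_centralizer_singleton_iff]
    exact mul_inv_eq_iff_eq_mul.mp (H0_conj hh)
  rcases eq_or_top_of_le Fi22B.checked data.gen φ (data.hom_gen Fi22B.checked) data.gen_sq data.gen_rel data.gen_top
    (H := H0) rfl orbits prim hle with h | h
  · exact h
  · exfalso
    have hmem : ta ∈ Subgroup.center FiG := Subgroup.mem_center_iff.mpr fun g =>
      (Subgroup.mem_centralizer_singleton_iff.mp (h ▸ Subgroup.mem_top g : g ∈ Subgroup.centralizer ({ta} : Set FiG)))
    rw [center_Fi, Subgroup.mem_bot] at hmem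
    exact ta_ne_one hmem

theorem card_class : Nat.card (conjugatesOf ta) = 3510 := by
  rw [← index_H0, ← centralizer_ta, Subgroup.index_eq_card]
  symm
  refine Nat.card_eq_of_bijective (fun p => Quotient.liftOn' p
    (fun g => (⟨g * ta * g⁻¹, isConj_iff.mpr ⟨g, rfl⟩⟩ : conjugatesOf ta)) fun a b hab => ?_) ⟨?_, ?_⟩
  · rw [QuotientGroup.leftRel_apply, Subgroup.mem_centralizer_singleton_iff] at hab
    refine Subtype.ext ?_
    show a * ta * a⁻¹ = b * ta * b⁻¹
    have hb : b = a * (a⁻¹ * b) := by group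
    have key : a⁻¹ * b * ta * (a⁻¹ * b)⁻¹ = ta := mul_inv_eq_iff_eq_mul.mpr hab
    calc a * ta * a⁻¹ = a * (a⁻¹ * b * ta * (a⁻¹ * b)⁻¹) * a⁻¹ := by rw [key]
      _ = b * ta * b⁻¹ := by group
  · intro p p'
    refine QuotientGroup.induction_on p (fun a => QuotientGroup.induction_on p' fun b h => ?_)
    have h' : a * ta * a⁻¹ = b * ta * b⁻¹ := congrArg Subtype.val h
    rw [QuotientGroup.eq, Subgroup.mem_centralizer_singleton_iff]
    calc a⁻¹ * b * ta = a⁻¹ * (b * ta * b⁻¹) * b := by group
      _ = a⁻¹ * (a * ta * a⁻¹) * b := by rw [h']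
      _ = ta * (a⁻¹ * b) := by group
  · rintro ⟨d, hd⟩
    obtain ⟨g, rfl⟩ := isConj_iff.mp hd
    exact ⟨QuotientGroup.mk g, rfl⟩

/-- A word carrying the first row to the root of an orbit. -/
def rootWord : ℕ → List ℕ
  | 1 => [1]
  | 6 => [1, 0, 2, 1]
  | _ => []

def pairWord (r : ℕ) : List ℕ := (rootWord r).reverse ++ [0] ++ rootWord r ++ [0]

theorem roots_small : ∀ l < orbits.roots.length, lettersOK 9 (rootWord (rootAt orbits.roots l)) = true ∧
    table.run (rootWord (rootAt orbits.roots l)) 0 = rootAt orbits.roots l ∧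
    (sameWords (pairWord (rootAt orbits.roots l) ++ pairWord (rootAt orbits.roots l)) [] = true ∨
      sameWords (pairWord (rootAt orbits.roots l) ++ pairWord (rootAt orbits.roots l) ++ pairWord (rootAt orbits.roots l)) [] = true) := by
  decide +kernel

theorem pair_eq (r : ℕ) :
    wprod data.gen (pairWord r) = ta * (wprod data.gen (rootWord r) * ta * (wprod data.gen (rootWord r))⁻¹) := by
  rw [pairWord, CosetCert.wprod_append, CosetCert.wprod_append, CosetCert.wprod_append, wprod_reverse data.gen data.gen_sq]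
  simp only [ta, mul_assoc]

theorem base_pair (x : FiG) : (ta * (x * ta * x⁻¹)) ^ 2 = 1 ∨ (ta * (x * ta * x⁻¹)) ^ 3 = 1 := by
  have h0 : (0 : ℕ) < table.n := by rw [n_eq]; norm_num
  obtain ⟨e, he0, he⟩ := exists_equiv Fi22B.checked data.gen φ (data.hom_gen Fi22B.checked) data.gen_sq data.gen_rel
    data.gen_top (H := H0) rfl
  have hmk : ∀ y : FiG, (QuotientGroup.mk y : FiG ⧸ H0) = e (φ y ⟨0, h0⟩) := fun y => by
    rw [← he, he0, MulAction.Quotient.smul_mk, smul_eq_mul, mul_one]
  set c := φ x ⟨0, h0⟩ with hc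
  have hl := prim.label_lt _ c.2
  obtain ⟨h, hh, hhc⟩ := reach Fi22B.checked data.gen φ (data.hom_gen Fi22B.checked) data.gen_sq data.gen_rel
    data.gen_top (H := H0) rfl orbits prim.orb _ c rfl ⟨_, (prim.root_lt _ hl).1⟩ rfl
  obtain ⟨hw, hrun, hpow⟩ := roots_small _ hl
  set r := rootAt orbits.roots (orbits.label c) with hr
  set R := wprod data.gen (rootWord r) with hR
  have hmem : (h * R)⁻¹ * x ∈ H0 := by
    rw [← QuotientGroup.eq, hmk, hmk, map_mul, Equiv.Perm.mul_apply]
    congr 1
    rw [← hc, ← hhc]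
    congr 1
    exact Fin.ext (by rw [hR, phi_word hw]; exact hrun)
  have hconj : x * ta * x⁻¹ = h * (R * ta * R⁻¹) * h⁻¹ := by
    calc x * ta * x⁻¹ = (h * R) * (((h * R)⁻¹ * x) * ta * ((h * R)⁻¹ * x)⁻¹) * (h * R)⁻¹ := by group
      _ = _ := by rw [H0_conj hmem]; group
  have hprod : ta * (x * ta * x⁻¹) = h * wprod data.gen (pairWord r) * h⁻¹ := by
    rw [pair_eq, hconj, ← hR]
    calc ta * (h * (R * ta * R⁻¹) * h⁻¹) = (h * ta * h⁻¹) * (h * (R * ta * R⁻¹) * h⁻¹) := by rw [H0_conj hh]
      _ = _ := by group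
  rw [hprod, conj_pow, conj_pow, conj_eq_one_iff, conj_eq_one_iff]
  rcases hpow with hp | hp
  · left
    have := sameWords_spec hp
    rw [CosetCert.wprod_append] at this
    rw [pow_two]
    exact this
  · right
    have := sameWords_spec hp
    rw [CosetCert.wprod_append, CosetCert.wprod_append] at this
    rw [pow_succ, pow_two, mul_assoc]
    exact this

theorem transposition_class : Cfsg.IsThreeTranspositionClass (conjugatesOf ta) := by
  refine ⟨⟨fun d hd => ?_, fun d hd e he => ?_⟩, ⟨ta, mem_conjugatesOf_self, rfl⟩, ?_⟩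
  · obtain ⟨g, rfl⟩ := isConj_iff.mp hd
    have hta : orderOf ta = 2 := orderOf_eq_prime (by rw [pow_two]; exact ta_sq) ta_ne_one
    rw [← MulAut.conj_apply, ← hta]
    exact orderOf_injective (MulAut.conj g).toMonoidHom (MulAut.conj g).injective ta
  · obtain ⟨g, rfl⟩ := isConj_iff.mp hd
    obtain ⟨k, rfl⟩ := isConj_iff.mp he
    have hprod : g * ta * g⁻¹ * (k * ta * k⁻¹) = g * (ta * ((g⁻¹ * k) * ta * (g⁻¹ * k)⁻¹)) * g⁻¹ := by group
    rw [hprod, conj_pow, conj_pow, conj_eq_one_iff, conj_eq_one_iff]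
    exact base_pair _
  · haveI := simple_and_card.1
    have h : Subgroup.closure (conjugatesOf ta) = Subgroup.normalClosure {ta} := by
      rw [Subgroup.normalClosure]
      congr 1
      ext d
      simp [Group.conjugatesOfSet]
    rw [h]
    rcases IsSimpleGroup.eq_bot_or_eq_top_of_normal (Subgroup.normalClosure ({ta} : Set FiG)) inferInstance with h1 | h1
    · exfalso
      have := Subgroup.subset_normalClosure (Set.mem_singleton ta)
      rw [h1] at this
      exact ta_ne_one (Subgroup.mem_bot.mp this)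
    · exact h1

theorem centralizer_conj (g : FiG) :
    Cfsg.IsNonsplitDoubleCover (Subgroup.centralizer ({g * ta * g⁻¹} : Set FiG)) PS := by
  refine double_cover_congr ?_ double_cover
  refine (H0.equivMapOfInjective (MulAut.conj g).toMonoidHom (MulAut.conj g).injective).trans
    (MulEquiv.subgroupCongr ?_)
  rw [← centralizer_ta]
  ext y
  simp only [Subgroup.mem_map, Subgroup.mem_centralizer_singleton_iff, MulEquiv.coe_toMonoidHom, MulAut.conj_apply]
  constructor
  · rintro ⟨x, hx, rfl⟩
    calc g * x * g⁻¹ * (g * ta * g⁻¹) = g * (x * ta) * g⁻¹ := by group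
      _ = g * (ta * x) * g⁻¹ := by rw [hx]
      _ = _ := by group
  · intro hy
    refine ⟨g⁻¹ * y * g, ?_, by group⟩
    calc g⁻¹ * y * g * ta = g⁻¹ * (y * (g * ta * g⁻¹)) * g := by group
      _ = g⁻¹ * (g * ta * g⁻¹ * y) * g := by rw [hy]
      _ = _ := by group

theorem exists_transposition_group : ∃ (G : Type) (_ : Group G) (_ : Finite G), Cfsg.IsFi22 G ∧
    ∃ D : Set G, Cfsg.IsThreeTranspositionClass D ∧ Nat.card D = 3510 ∧ ∀ d ∈ D,
      ∃ (F : Type) (_ : Field F) (_ : Fintype F), Fintype.card F = 4 ∧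
        Cfsg.IsNonsplitDoubleCover (Subgroup.centralizer ({d} : Set G)) (Cfsg.PSU 6 F 2) := by
  refine ⟨FiG, inferInstance, finite_Fi, ⟨simple_and_card.1, simple_and_card.2⟩, conjugatesOf ta,
    transposition_class, card_class, fun d hd => ?_⟩
  obtain ⟨g, rfl⟩ := isConj_iff.mp hd
  exact ⟨FF, inferInstance, inferInstance, FF.card, centralizer_conj g⟩

end Cfsg.Agent.InvChar.Coset.FiUnit
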