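import Cfsg.Agent.InvChar.Coset.FiUnitVec
import Cfsg.Agent.InvChar.Coset.Fi22BIndex

/-!
# The generators of the subgroup move the isotropic lines as products of transvections do
-/

set_option autoImplicit false
set_option linter.all false

noncomputable section

namespace Cfsg.Agent.InvChar.Coset.FiUnit

open Cfsg.Agent.CosetCert Fi22B

def subW (k : ℕ) : List ℕ := getWord table.C.S k

def cen (k : ℕ) : List ℕ := getWord centres k

def rowMove (cs w : List ℕ) (c : ℕ) : Bool :=
  Nat.beq (vtTree.get c) 0 ||
    (isMult (appAll cs (vtTree.get c)) (vtTree.get (table.run w c)) && !(Nat.beq (vtTree.get (table.run w c)) 0) &&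
      Nat.beq (hb (vtTree.get c) (vtTree.get c)) 0)

def rowsMove (cs w : List ℕ) : ℕ → ℕ → Bool
  | _, 0 => true
  | a, m + 1 => rowMove cs w a && rowsMove cs w (a + 1) m

theorem rowsMove_spec {cs w : List ℕ} : ∀ m a, rowsMove cs w a m = true → ∀ c, a ≤ c → c < a + m →
    rowMove cs w c = true
  | 0, a, _, c, h1, h2 => by omega
  | m + 1, a, h, c, h1, h2 => by
    simp only [rowsMove, Bool.and_eq_true] at h
    rcases Nat.eq_or_lt_of_le h1 with e | e
    · exact e ▸ h.1
    · exact rowsMove_spec m (a + 1) h.2 c e (by omega)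

def allMove : ℕ → Bool
  | 0 => true
  | k + 1 => rowsMove (cen k) (subW k) 0 3510 && allMove k

theorem move8 : rowsMove (cen 8) (subW 8) 0 3510 = true := by decide +kernel

theorem move_small : allMove 8 = true := by decide +kernel

theorem allMove_spec : ∀ m, allMove m = true → ∀ k < m, rowsMove (cen k) (subW k) 0 3510 = true
  | 0, _, k, hk => absurd hk (by omega)
  | m + 1, h, k, hk => by
    simp only [allMove, Bool.and_eq_true] at h
    rcases Nat.lt_succ_iff_lt_or_eq.mp hk with e | rfl
    · exact allMove_spec m h.2 k e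
    · exact h.1

theorem moves {k : ℕ} (hk : k < 9) {c : ℕ} (hc : c < 3510) : rowMove (cen k) (subW k) c = true := by
  refine rowsMove_spec 3510 0 ?_ c (Nat.zero_le c) (by omega)
  rcases Nat.lt_succ_iff_lt_or_eq.mp hk with e | rfl
  · exact allMove_spec 8 move_small k e
  · exact move8

theorem cen_iso : ∀ k < 9, ∀ v ∈ cen k, Nat.beq (hb v v) 0 = true := by decide +kernel

/-- Every nonzero isotropic vector is a multiple of a listed one. -/
def pointOK (x : ℕ) : Bool :=
  !(Nat.beq (hb x x) 0) || Nat.beq x 0 ||
    (Nat.blt (ptTree.get x) 3510 && !(Nat.beq (vtTree.get (ptTree.get x)) 0) &&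
      isMult x (vtTree.get (ptTree.get x)))

def pointsOK : ℕ → ℕ → Bool
  | _, 0 => true
  | a, m + 1 => pointOK a && pointsOK (a + 1) m

theorem pointsOK_spec : ∀ m a, pointsOK a m = true → ∀ c, a ≤ c → c < a + m → pointOK c = true
  | 0, a, _, c, h1, h2 => by omega
  | m + 1, a, h, c, h1, h2 => by
    simp only [pointsOK, Bool.and_eq_true] at h
    rcases Nat.eq_or_lt_of_le h1 with e | e
    · exact e ▸ h.1
    · exact pointsOK_spec m (a + 1) h.2 c e (by omega)

theorem points : ∀ x < 4096, pointOK x = true :=
  fun x hx => pointsOK_spec 4096 0 (by decide +kernel) x (Nat.zero_le x) (by omega)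

/-- The rows reached from the first one along the listed steps. -/
def chain : List ℕ → List (ℕ × ℕ × ℕ) → List ℕ
  | done, [] => done
  | done, e :: l => bif memNat e.1 done && Nat.blt e.2.1 9 && Nat.blt e.1 3510 && Nat.beq (table.run (subW e.2.1) e.1) e.2.2
      then chain (e.2.2 :: done) l else chain done l

def reached : List ℕ := chain [start] (chunk0 ++ chunk1 ++ chunk2)

def rowsReached : ℕ → Bool
  | 0 => true
  | c + 1 => (Nat.beq (vtTree.get c) 0 || memNat c reached) && rowsReached c

theorem rows_reached : rowsReached 3510 = true := by decide +kernel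

theorem rowsReached_spec : ∀ m, rowsReached m = true → ∀ c < m, vtTree.get c ≠ 0 → c ∈ reached
  | 0, _, c, hc, _ => absurd hc (by omega)
  | m + 1, h, c, hc, h0 => by
    simp only [rowsReached, Bool.and_eq_true, Bool.or_eq_true] at h
    rcases Nat.lt_succ_iff_lt_or_eq.mp hc with e | rfl
    · exact rowsReached_spec m h.2 c e h0
    · rcases h.1 with e | e
      · exact absurd (Nat.eq_of_beq_eq_true e) h0
      · exact memNat_spec e

theorem start_ok : start < 3510 ∧ vtTree.get start ≠ 0 ∧ cen 1 = [vtTree.get start] := by decide +kernel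

end Cfsg.Agent.InvChar.Coset.FiUnit
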