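import Cfsg.Agent.InvChar.Coset.Fi22Order
import Cfsg.Agent.InvChar.Coset.FiUnitMoves
import Cfsg.Agent.S0280
import Cfsg.Prelude.Def_SporadicB

/-!
# A subgroup of the presented group Fi22 that is a non-split double cover of U6(2)
-/

set_option autoImplicit false
set_option linter.all false

noncomputable section

namespace Cfsg.Agent.InvChar.Coset.FiUnit

open Cfsg.Agent.CosetCert Cfsg.Agent.Classical.Unitary Fi22B Matrix

abbrev FiG : Type := Cfsg.Spor.Fi22

abbrev PS : Type := Cfsg.PSU 6 FF 2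

abbrev φ : FiG →* Equiv.Perm (Fin table.n) := data.hom Fi22B.checked

theorem n_eq : table.n = 3510 := by decide +kernel

theorem K_eq : table.C.K = 9 := by decide +kernel

theorem finite_Fi : Finite FiG := Nat.finite_of_card_ne_zero (by rw [simple_and_card.2]; norm_num)

/-- A predicate closed under products holds on the subgroup generated in a finite group. -/
theorem closure_induction_finite {A : Type*} [Group A] [Finite A] {s : Set A} {Q : A → Prop}
    (mem : ∀ a ∈ s, Q a) (one : Q 1) (mul : ∀ a b, Q a → Q b → Q (a * b)) {a : A}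
    (ha : a ∈ Subgroup.closure s) : Q a := by
  rw [← Subgroup.mem_toSubmonoid, Subgroup.closure_toSubmonoid_of_finite] at ha
  induction ha using Submonoid.closure_induction with
  | mem x hx => exact mem x hx
  | one => exact one
  | mul x y _ _ hx hy => exact mul x y hx hy

theorem sub_letters : ∀ k < 9, lettersOK 9 (subW k) = true := by decide +kernel

theorem phi_word {w : List ℕ} (hw : lettersOK 9 w = true) (c : Fin table.n) :
    (φ (wprod data.gen w) c : ℕ) = table.run w c := by
  rw [map_wprod, funext (data.hom_gen Fi22B.checked), wprod_tau Fi22B.checked w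
    (fun y hy => K_eq ▸ lettersOK_spec hw y hy)]

theorem phi_injective : Function.Injective φ := by
  haveI := simple_and_card.1
  rcases IsSimpleGroup.eq_bot_or_eq_top_of_normal φ.ker inferInstance with h | h
  · exact (MonoidHom.ker_eq_bot_iff φ).mp h
  · exfalso
    have h1 : φ (wprod data.gen [1]) = 1 := MonoidHom.mem_ker.mp (h ▸ Subgroup.mem_top _)
    have h2 := congrArg (fun f : Equiv.Perm (Fin table.n) => (f ⟨0, n_eq ▸ by norm_num⟩ : ℕ)) h1
    rw [phi_word (by decide +kernel)] at h2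
    simp at h2
    revert h2
    decide +kernel

def sameOn (u w : List ℕ) : ℕ → Bool
  | 0 => true
  | c + 1 => Nat.beq (table.run u c) (table.run w c) && sameOn u w c

theorem sameOn_spec {u w : List ℕ} : ∀ m, sameOn u w m = true → ∀ c < m, table.run u c = table.run w c
  | 0, _, c, hc => absurd hc (by omega)
  | m + 1, h, c, hc => by
    simp only [sameOn, Bool.and_eq_true] at h
    rcases Nat.lt_succ_iff_lt_or_eq.mp hc with e | rfl
    · exact sameOn_spec m h.2 c e
    · exact Nat.eq_of_beq_eq_true h.1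

def sameWords (u w : List ℕ) : Bool := lettersOK 9 u && lettersOK 9 w && sameOn u w 3510

theorem sameWords_spec {u w : List ℕ} (h : sameWords u w = true) : wprod data.gen u = wprod data.gen w := by
  simp only [sameWords, Bool.and_eq_true] at h
  refine phi_injective (Equiv.ext fun c => Fin.ext ?_)
  rw [phi_word h.1.1, phi_word h.1.2]
  exact sameOn_spec _ h.2 _ (n_eq ▸ c.2)

def mkP : SU6 →* PS := QuotientGroup.mk' (Subgroup.center SU6)

def gen2 (k : Fin 9) : FiG × PS := (wprod data.gen (subW k), mkP (mOf (cen k)))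

def PG : Subgroup (FiG × PS) := Subgroup.closure (Set.range gen2)

def InOrb (c : Fin table.n) : Prop := vtTree.get c ≠ 0

def Good (p : FiG × PS) : Prop :=
  ∃ M : SU6, mkP M = p.2 ∧ ∀ c : Fin table.n, InOrb c → InOrb (φ p.1 c) ∧
    ∃ s : FF, s ≠ 0 ∧ mat M *ᵥ vec (vtTree.get c) = s • vec (vtTree.get (φ p.1 c).val)

theorem PG_good (p : FiG × PS) (hp : p ∈ PG) : Good p := by
  haveI := finite_Fi
  refine closure_induction_finite (Q := Good) ?_ ?_ ?_ hp
  · rintro _ ⟨k, rfl⟩
    refine ⟨_, rfl, fun c hc => ?_⟩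
    have hm := moves k.2 (show c.val < 3510 from n_eq ▸ c.2)
    simp only [rowMove, Bool.or_eq_true, Bool.and_eq_true, Bool.not_eq_true'] at hm
    rcases hm with hm | ⟨⟨hm, hz⟩, -⟩
    · exact absurd (Nat.eq_of_beq_eq_true hm) hc
    show InOrb (φ (wprod data.gen (subW k)) c) ∧ ∃ s : FF, s ≠ 0 ∧
      mat (mOf (cen k)) *ᵥ vec (vtTree.get c) = s • vec (vtTree.get (φ (wprod data.gen (subW k)) c).val)
    rw [InOrb, phi_word (sub_letters k k.2), mOf_vec (cen_iso k k.2)]
    exact ⟨fun h => by rw [h] at hz; simp at hz, isMult_spec hm⟩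
  · refine ⟨1, map_one _, fun c hc => ?_⟩
    rw [Prod.fst_one, map_one, Equiv.Perm.one_apply]
    exact ⟨hc, 1, one_ne_zero, by rw [mat_one, Matrix.one_mulVec, one_smul]⟩
  · rintro a b ⟨A, hA, ha⟩ ⟨B, hB, hb⟩
    refine ⟨A * B, by rw [map_mul, hA, hB, Prod.snd_mul], fun c hc => ?_⟩
    obtain ⟨hb1, s, hs0, hs⟩ := hb c hc
    obtain ⟨ha1, t, ht0, ht⟩ := ha _ hb1
    rw [Prod.fst_mul, map_mul, Equiv.Perm.mul_apply]
    exact ⟨ha1, s * t, mul_ne_zero hs0 ht0, by rw [mul_mulVec, hs, Matrix.mulVec_smul, ht, smul_smul]⟩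

theorem orbit_iso {c : ℕ} (hc : c < 3510) (h : vtTree.get c ≠ 0) :
    Cfsg.hermForm 6 FF 2 (vec (vtTree.get c)) (vec (vtTree.get c)) = 0 := by
  have hm := moves (show 0 < 9 by norm_num) hc
  simp only [rowMove, Bool.or_eq_true, Bool.and_eq_true, Bool.not_eq_true'] at hm
  rcases hm with hm | ⟨-, hz⟩
  · exact absurd (Nat.eq_of_beq_eq_true hm) h
  · exact iso_of hz

theorem iso_cases {v : V} (hv : Cfsg.hermForm 6 FF 2 v v = 0) (h0 : v ≠ 0) :
    ∃ c < 3510, vtTree.get c ≠ 0 ∧ ∃ s : FF, s ≠ 0 ∧ v = s • vec (vtTree.get c) := by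
  obtain ⟨x, hx, rfl⟩ := exists_vec v
  have hp := points x hx
  simp only [pointOK, Bool.or_eq_true, Bool.and_eq_true, Bool.not_eq_true'] at hp
  rcases hp with (hp | hp) | ⟨⟨h1, h2⟩, h3⟩
  · exfalso
    obtain ⟨hlt, he⟩ := hb_spec x x
    rw [hv] at he
    have : ∀ a < 4, FF.ofBits a = 0 → a = 0 := by decide
    rw [this _ hlt he] at hp
    simp at hp
  · exfalso
    rw [Nat.eq_of_beq_eq_true hp] at h0
    exact h0 (funext fun i => by fin_cases i <;> rfl)
  · refine ⟨_, by simpa [Nat.blt] using h1, fun h => ?_, isMult_spec h3⟩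
    rw [h] at h2
    simp at h2

theorem tvSet_cases {g : SU6} (hg : g ∈ tvSet FF 2 6) :
    g = 1 ∨ ∃ c < 3510, vtTree.get c ≠ 0 ∧ g = tvOf (vtTree.get c) := by
  obtain ⟨v, t, hv, htr, hg⟩ := hg
  have hmul : ∀ x : V, mat g *ᵥ x = x + (t * Cfsg.hermForm 6 FF 2 x v) • v := fun x => by
    rw [hg, Cfsg.Agent.Forms.HermStd.transvection_mulVec]
  by_cases h0 : v = 0
  · exact Or.inl (SU_ext fun x => by rw [hmul, h0, smul_zero, add_zero, mat_one, Matrix.one_mulVec])
  by_cases ht : t = 0
  · exact Or.inl (SU_ext fun x => by rw [hmul, ht, zero_mul, zero_smul, add_zero, mat_one, Matrix.one_mulVec])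
  obtain ⟨c, hc, hc0, s, hs, rfl⟩ := iso_cases hv h0
  have ht1 : t = 1 := (by decide : ∀ t : FF, t + t ^ 2 = 0 → t ≠ 0 → t = 1) t htr ht
  subst ht1
  refine Or.inr ⟨c, hc, hc0, SU_ext fun x => ?_⟩
  rw [hmul, tvOf_mulVec (orbit_iso hc hc0), one_mul, H_smul_right, smul_smul, mul_assoc, mul_comm _ s, ← mul_assoc,
    mul_comm (s ^ 2), cube s hs, one_mul]

theorem tv_commute {M : SU6} (hM : ∀ c : Fin table.n, InOrb c → ∃ s : FF, s ≠ 0 ∧
    mat M *ᵥ vec (vtTree.get c) = s • vec (vtTree.get c)) {g : SU6} (hg : g ∈ tvSet FF 2 6) : M * g = g * M := by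
  rcases tvSet_cases hg with rfl | ⟨c, hc, hc0, rfl⟩
  · rw [mul_one, one_mul]
  · obtain ⟨s, hs, h⟩ := hM ⟨c, n_eq ▸ hc⟩ hc0
    exact tvOf_conj (orbit_iso hc hc0) (orbit_iso hc hc0) M hs h

theorem tv_top : tvGroup FF 2 6 = ⊤ := tvGroup_eq_top hF (by norm_num) (by norm_num)

theorem PG_fst_injective : Function.Injective ((MonoidHom.fst FiG PS).comp PG.subtype) := by
  rw [injective_iff_map_eq_one]
  rintro ⟨⟨h, m⟩, hp⟩ (rfl : h = 1)
  refine Subtype.ext (Prod.ext rfl ?_)
  obtain ⟨M, hM, hfix⟩ := PG_good _ hp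
  show m = 1
  rw [show m = mkP M from hM.symm]
  refine (QuotientGroup.eq_one_iff M).mpr (Subgroup.mem_center_iff.mpr fun g => ?_)
  have hg : g ∈ tvGroup FF 2 6 := tv_top ▸ Subgroup.mem_top g
  induction hg using Subgroup.closure_induction with
  | mem x hx =>
    refine (tv_commute (fun c hc => ?_) hx).symm
    obtain ⟨-, s, hs, h⟩ := hfix c hc
    rw [map_one, Equiv.Perm.one_apply] at h
    exact ⟨s, hs, h⟩
  | one => rw [one_mul, mul_one]
  | mul a b _ _ iha ihb => rw [mul_assoc, ihb, ← mul_assoc, iha, mul_assoc]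
  | inv a _ ih => exact (Commute.inv_left ih).eq

def R : Subgroup PS := ((MonoidHom.snd FiG PS).comp PG.subtype).range

theorem gen_mem_R (k : Fin 9) : mkP (mOf (cen k)) ∈ R :=
  ⟨⟨gen2 k, Subgroup.subset_closure ⟨k, rfl⟩⟩, rfl⟩

theorem tv_mem_R : ∀ c < 3510, vtTree.get c ≠ 0 → mkP (tvOf (vtTree.get c)) ∈ R := by
  obtain ⟨hs1, hs2, hs3⟩ := start_ok
  have hstart : mkP (tvOf (vtTree.get start)) ∈ R := by
    have h := gen_mem_R 1
    rwa [show ((1 : Fin 9) : ℕ) = 1 from rfl, hs3, mOf, mOf, one_mul] at h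
  have key : ∀ (l : List (ℕ × ℕ × ℕ)) (done : List ℕ),
      (∀ c ∈ done, c < 3510 ∧ vtTree.get c ≠ 0 ∧ mkP (tvOf (vtTree.get c)) ∈ R) →
      ∀ c ∈ chain done l, c < 3510 ∧ vtTree.get c ≠ 0 ∧ mkP (tvOf (vtTree.get c)) ∈ R := by
    intro l
    induction l with
    | nil => intro done hd c hc; exact hd c hc
    | cons e l ih =>
      intro done hd
      rw [chain]
      cases hb : memNat e.1 done && Nat.blt e.2.1 9 && Nat.blt e.1 3510 &&
          Nat.beq (table.run (subW e.2.1) e.1) e.2.2
      · exact ih done hd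
      · refine ih _ ?_
        simp only [Bool.and_eq_true] at hb
        obtain ⟨⟨⟨hmem, hk⟩, hlt⟩, heq⟩ := hb
        obtain ⟨hp, hp0, hpR⟩ := hd _ (memNat_spec hmem)
        have hk' : e.2.1 < 9 := by simpa [Nat.blt] using hk
        intro c hc
        rcases List.mem_cons.mp hc with rfl | hc
        · have hm := moves hk' hp
          simp only [rowMove, Bool.or_eq_true, Bool.and_eq_true, Bool.not_eq_true'] at hm
          rw [← Nat.eq_of_beq_eq_true heq]
          rcases hm with hm | ⟨⟨hm, hz⟩, -⟩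
          · exact absurd (Nat.eq_of_beq_eq_true hm) hp0
          have hne : vtTree.get (table.run (subW e.2.1) e.1) ≠ 0 := fun h => by rw [h] at hz; simp at hz
          have hlt' : table.run (subW e.2.1) e.1 < 3510 := by
            rw [← phi_word (sub_letters _ hk') ⟨e.1, n_eq ▸ hp⟩]
            exact lt_of_lt_of_eq (φ (wprod data.gen (subW e.2.1)) ⟨e.1, n_eq ▸ hp⟩).2 n_eq
          refine ⟨hlt', hne, ?_⟩
          obtain ⟨s, hs, h⟩ := isMult_spec hm
          rw [← mOf_vec (cen_iso _ hk')] at h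
          have hc' := congrArg mkP (tvOf_conj (orbit_iso hp hp0) (orbit_iso hlt' hne) _ hs h)
          rw [map_mul, map_mul] at hc'
          rw [eq_mul_inv_of_mul_eq hc'.symm]
          exact mul_mem (mul_mem (gen_mem_R ⟨_, hk'⟩) hpR) (inv_mem (gen_mem_R ⟨_, hk'⟩))
        · exact hd c hc
  intro c hc hc0
  exact (key _ [start] (by simpa using ⟨hs1, hs2, hstart⟩) c
    (rowsReached_spec 3510 rows_reached c hc hc0)).2.2

theorem R_top : R = ⊤ := by
  rw [eq_top_iff]
  intro x _
  obtain ⟨M, rfl⟩ := QuotientGroup.mk'_surjective _ x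
  have h : tvGroup FF 2 6 ≤ R.comap mkP := by
    rw [tvGroup, Subgroup.closure_le]
    intro g hg
    rcases tvSet_cases hg with rfl | ⟨c, hc, hc0, rfl⟩
    · exact one_mem _
    · exact tv_mem_R c hc hc0
  exact h (tv_top ▸ Subgroup.mem_top M)

def H0 : Subgroup FiG := Subgroup.closure (wprod data.gen '' {w | w ∈ table.C.S})

theorem S_words : table.C.S = (List.range 9).map subW := by decide +kernel

theorem fst_range : ((MonoidHom.fst FiG PS).comp PG.subtype).range = H0 := by
  rw [MonoidHom.range_eq_map, ← Subgroup.map_map, ← MonoidHom.range_eq_map, Subgroup.range_subtype, PG,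
    MonoidHom.map_closure, ← Set.range_comp, H0]
  congr 1
  ext g
  simp only [Set.mem_range, Set.mem_image, Set.mem_setOf_eq, S_words, List.mem_map, List.mem_range]
  constructor
  · rintro ⟨k, rfl⟩
    exact ⟨_, ⟨k, k.2, rfl⟩, rfl⟩
  · rintro ⟨_, ⟨k, hk, rfl⟩, rfl⟩
    exact ⟨⟨k, hk⟩, rfl⟩

theorem index_H0 : H0.index = 3510 := by
  rw [H0, index_eq Fi22B.checked data.gen φ (data.hom_gen Fi22B.checked) data.gen_sq data.gen_rel data.gen_top rfl, n_eq]

theorem card_H0 : Nat.card H0 = 18393661440 := by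
  have h := H0.card_mul_index
  rw [index_H0, simple_and_card.2] at h
  exact Nat.eq_of_mul_eq_mul_right (by norm_num : 0 < 3510) (h.trans (by norm_num))

theorem card_PS : Nat.card PS = 9196830720 := by
  show Nat.card (Cfsg.PSU 6 FF 2) = _
  have h := S0280.result (F := FF) (q := 2) hF 6 (by norm_num)
  norm_num [Finset.prod_range_succ, Nat.even_iff] at h
  omega

theorem simple_PS : IsSimpleGroup PS := isSimpleGroup_PSU hF (by norm_num) (by norm_num)

theorem center_PS : Subgroup.center PS = ⊥ := by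
  haveI := simple_PS
  rcases IsSimpleGroup.eq_bot_or_eq_top_of_normal (Subgroup.center PS) inferInstance with h | h
  · exact h
  · exfalso
    letI : CommGroup PS :=
      { (inferInstance : Group PS) with mul_comm := fun a b => (Subgroup.mem_center_iff.mp (h ▸ Subgroup.mem_top a) b).symm }
    have hp := IsSimpleGroup.prime_card (α := PS)
    rw [card_PS] at hp
    norm_num at hp

theorem mem_H0 {w : List ℕ} (hw : w ∈ table.C.S) : wprod data.gen w ∈ H0 := Subgroup.subset_closure ⟨w, hw, rfl⟩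

def gh (k : ℕ) : H0 :=
  if hk : k < 9 then ⟨wprod data.gen (subW k), mem_H0 (by rw [S_words]; exact List.mem_map.mpr ⟨k, List.mem_range.mpr hk, rfl⟩)⟩
  else 1

theorem z_moves : ∃ c < 3510, table.run [0] c ≠ c := by
  refine ⟨1, by norm_num, ?_⟩
  decide +kernel

theorem gh_zero_ne_one : gh 0 ≠ 1 := by
  intro h
  have h1 : wprod data.gen (subW 0) = 1 := congrArg Subtype.val h
  obtain ⟨c, hc, hne⟩ := z_moves
  have h2 := congrArg (fun g => ((φ g) ⟨c, n_eq ▸ hc⟩ : ℕ)) h1
  rw [phi_word (sub_letters 0 (by norm_num)), map_one, Equiv.Perm.one_apply,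
    show subW 0 = [0] from by decide +kernel] at h2
  exact hne h2

/-- The map onto the unitary group, with kernel the centre of order two. -/
theorem exists_hom : ∃ f : H0 →* PS, Function.Surjective f ∧ gh 0 ∈ f.ker ∧ Nat.card f.ker = 2 := by
  haveI := finite_Fi
  let g1 : PG →* H0 := ((MonoidHom.fst FiG PS).comp PG.subtype).codRestrict H0 fun p => fst_range ▸ ⟨p, rfl⟩
  have hb : Function.Bijective g1 := by
    refine ⟨fun a b h => PG_fst_injective (congrArg Subtype.val h), fun y => ?_⟩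
    obtain ⟨p, hp⟩ : (y : FiG) ∈ ((MonoidHom.fst FiG PS).comp PG.subtype).range := by
      rw [fst_range]; exact y.2
    exact ⟨p, Subtype.ext hp⟩
  let e := MulEquiv.ofBijective g1 hb
  let f : H0 →* PS := ((MonoidHom.snd FiG PS).comp PG.subtype).comp e.symm.toMonoidHom
  have hf : Function.Surjective f := by
    intro x
    obtain ⟨p, hp⟩ : x ∈ R := R_top ▸ Subgroup.mem_top x
    exact ⟨e p, by rw [← hp]; show ((MonoidHom.snd FiG PS).comp PG.subtype) (e.symm (e p)) = _; rw [e.symm_apply_apply]⟩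
  refine ⟨f, hf, ?_, ?_⟩
  · have hmem : gen2 0 ∈ PG := Subgroup.subset_closure ⟨0, rfl⟩
    have he : e ⟨gen2 0, hmem⟩ = gh 0 := Subtype.ext (by simp [e, g1, gen2, gh])
    rw [MonoidHom.mem_ker, ← he]
    show ((MonoidHom.snd FiG PS).comp PG.subtype) (e.symm (e ⟨gen2 0, hmem⟩)) = 1
    rw [e.symm_apply_apply]
    show mkP (mOf (cen 0)) = 1
    rw [show cen 0 = [] from by decide +kernel]
    exact map_one mkP
  · have h := f.ker.card_mul_index
    rw [Subgroup.index_ker, MonoidHom.range_eq_top.mpr hf, Subgroup.card_top, card_PS, card_H0] at h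
    omega

def flat (w : List ℕ) : List ℕ := (w.map subW).flatten

theorem gh_word : ∀ {w : List ℕ}, (∀ k ∈ w, k < 9) → ((wprod gh w : H0) : FiG) = wprod data.gen (flat w)
  | [], _ => rfl
  | k :: w, hw => by
    rw [wprod, Subgroup.coe_mul, gh_word fun j hj => hw j (List.mem_cons_of_mem _ hj), gh,
      dif_pos (hw k List.mem_cons_self)]
    show _ = wprod data.gen (subW k ++ flat w)
    rw [CosetCert.wprod_append]

theorem gh_eq {u w : List ℕ} (hu : lettersOK 9 u = true) (hw : lettersOK 9 w = true)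
    (h : sameWords (flat u) (flat w) = true) : wprod gh u = wprod gh w := by
  refine Subtype.ext ?_
  rw [gh_word (lettersOK_spec hu), gh_word (lettersOK_spec hw)]
  exact sameWords_spec h

theorem gh_sq : ∀ k : ℕ, gh k * gh k = 1 := by
  intro k
  by_cases hk : k < 9
  · have h : ∀ j < 9, sameWords (flat [j, j]) (flat []) = true := by decide +kernel
    have hl : ∀ j < 9, lettersOK 9 [j, j] = true := by decide +kernel
    have := gh_eq (hl k hk) rfl (h k hk)
    simpa [wprod] using this
  · rw [gh, dif_neg hk, one_mul]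

def lineWords : List (List ℕ) :=
  [[2], [2, 1, 6], [2, 1, 3, 4, 5, 6, 8, 4, 3], [2, 3, 4, 5, 8, 4, 3], [2, 3, 4, 5, 6, 2, 3, 4, 7, 6, 2, 1, 3, 2, 6, 7]]

def lineProd : List ℕ := (lineWords.map fun w => w.reverse ++ [1] ++ w).flatten

theorem no_complement (L : Subgroup H0) (hL : L.index = 2) : gh 0 ∈ L := by
  haveI : L.Normal := Subgroup.normal_of_index_eq_two hL
  let χ := QuotientGroup.mk' L
  have hcard : Nat.card (H0 ⧸ L) = 2 := by rw [← Subgroup.index_eq_card, hL]
  have hsq : ∀ y : H0 ⧸ L, y * y = 1 := fun y => by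
    have h := pow_card_eq_one' (x := y)
    rwa [hcard, pow_two] at h
  have hinv : ∀ y : H0 ⧸ L, y⁻¹ = y := fun y => inv_eq_of_mul_eq_one_right (hsq y)
  have hcomm : ∀ a b : H0 ⧸ L, a * b = b * a := fun a b => by
    rw [← hinv (a * b), _root_.mul_inv_rev, hinv, hinv]
  set u : ℕ → H0 ⧸ L := fun k => χ (gh k) with hu
  have map_u : ∀ w : List ℕ, χ (wprod gh w) = wprod u w := fun w => map_wprod χ gh w
  have hedge : ∀ p ∈ [(1, 2), (2, 3), (3, 4), (4, 5), (2, 6), (6, 7)], u p.1 = u p.2 := by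
    have h : ∀ p ∈ [(1, 2), (2, 3), (3, 4), (4, 5), (2, 6), (6, 7)],
        lettersOK 9 [p.1, p.2, p.1] = true ∧ lettersOK 9 [p.2, p.1, p.2] = true ∧
          sameWords (flat [p.1, p.2, p.1]) (flat [p.2, p.1, p.2]) = true := by decide +kernel
    intro p hp
    obtain ⟨h1, h2, h3⟩ := h p hp
    have h4 := congrArg χ (gh_eq h1 h2 h3)
    rw [map_u, map_u] at h4
    simp only [wprod, one_mul] at h4
    rw [hcomm (u p.1) (u p.2), mul_assoc, hsq, mul_one, hcomm (u p.2) (u p.1), mul_assoc, hsq, mul_one] at h4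
    exact h4.symm
  have hall : ∀ k ∈ [1, 6, 5, 2, 3, 7, 4], u k = u 1 := by
    have a := hedge (1, 2) (by simp); have b := hedge (2, 3) (by simp); have c := hedge (3, 4) (by simp)
    have d := hedge (4, 5) (by simp); have e := hedge (2, 6) (by simp); have f := hedge (6, 7) (by simp)
    simp only at a b c d e f
    simp [← a, ← b, ← c, ← d, ← e, ← f]
  have hword : ∀ w : List ℕ, (∀ k ∈ w, k ∈ [1, 6, 5, 2, 3, 7, 4]) → wprod u w = u 1 ^ w.length := by
    intro w hw
    induction w with
    | nil => rw [wprod, List.length_nil, pow_zero]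
    | cons k w ih =>
      rw [wprod, ih (fun j hj => hw j (List.mem_cons_of_mem _ hj)), hall k (hw k List.mem_cons_self), List.length_cons,
        pow_succ]
  have h63 : u 1 = 1 := by
    have h := congrArg χ (gh_eq (u := (List.replicate 9 [1, 6, 5, 2, 3, 7, 4]).flatten) (w := [])
      (by decide +kernel) rfl (by decide +kernel))
    rw [map_u, map_u, hword _ (by decide +kernel)] at h
    rw [show ((List.replicate 9 [1, 6, 5, 2, 3, 7, 4]).flatten).length = 2 * 31 + 1 from rfl, pow_succ, pow_mul,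
      pow_two, hsq, one_pow, one_mul, wprod] at h
    exact h
  have hline : χ (gh 0) = 1 := by
    have h := congrArg χ (gh_eq (u := lineProd) (w := [0]) (by decide +kernel) rfl (by decide +kernel))
    rw [map_u, map_u] at h
    simp only [wprod, one_mul] at h
    rw [show χ (gh 0) = u 0 from rfl, ← h, lineProd]
    have hone : ∀ ls : List (List ℕ), wprod u (ls.map fun w => w.reverse ++ [1] ++ w).flatten = 1 := by
      intro ls
      induction ls with
      | nil => rfl
      | cons w ls ih =>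
        rw [List.map_cons, List.flatten_cons, CosetCert.wprod_append, ih, one_mul, CosetCert.wprod_append,
          CosetCert.wprod_append, wprod_reverse u (fun x => hsq _)]
        simp [wprod, h63]
    exact hone lineWords
  exact (QuotientGroup.eq_one_iff _).mp hline

/-- The subgroup is a non-split double cover of U6(2). -/
theorem double_cover : Cfsg.IsNonsplitDoubleCover H0 PS := by
  haveI := finite_Fi
  obtain ⟨f, hf, hz, hcard⟩ := exists_hom
  have hker : f.ker = Subgroup.center H0 := by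
    refine le_antisymm (fun x hx => Subgroup.mem_center_iff.mpr fun g => ?_) (fun x hx => ?_)
    · by_cases h1 : x = 1
      · rw [h1, mul_one, one_mul]
      have hy : g * x * g⁻¹ ∈ f.ker := (MonoidHom.normal_ker f).conj_mem x hx g
      have hy1 : (⟨g * x * g⁻¹, hy⟩ : f.ker) ≠ 1 := fun e => h1 (conj_eq_one_iff.mp (congrArg Subtype.val e))
      have hx1 : (⟨x, hx⟩ : f.ker) ≠ 1 := fun e => h1 (congrArg Subtype.val e)
      obtain ⟨y, -, huniq⟩ := (Nat.card_eq_two_iff' (1 : f.ker)).mp hcard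
      exact mul_inv_eq_iff_eq_mul.mp (congrArg Subtype.val ((huniq _ hy1).trans (huniq _ hx1).symm))
    · have : f x ∈ Subgroup.center PS := Subgroup.mem_center_iff.mpr fun y => by
        obtain ⟨g, rfl⟩ := hf y
        rw [← map_mul, ← map_mul, Subgroup.mem_center_iff.mp hx g]
      rwa [center_PS, Subgroup.mem_bot] at this
  refine ⟨hker ▸ hcard, ⟨(QuotientGroup.quotientMulEquivOfEq hker.symm).trans
    (QuotientGroup.quotientKerEquivOfSurjective f hf)⟩, fun L hL => ?_⟩
  have hidx : L.index = 2 := by rw [hL.index_eq_card, ← hker, hcard]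
  have hmem : gh 0 ∈ Subgroup.center H0 ⊓ L := ⟨hker ▸ hz, no_complement L hidx⟩
  rw [hL.disjoint.eq_bot, Subgroup.mem_bot] at hmem
  exact gh_zero_ne_one hmem

end Cfsg.Agent.InvChar.Coset.FiUnit
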