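import Mathlib

/-!
# A field with four elements on which everything evaluates
-/

set_option autoImplicit false
set_option linter.all false

namespace Cfsg.Agent.InvChar.Coset

/-- The field with four elements. -/
inductive FF where
  | zero | one | w | w2
  deriving DecidableEq

namespace FF

instance : Fintype FF := ⟨{.zero, .one, .w, .w2}, fun x => by cases x <;> simp⟩

def add : FF → FF → FF
  | .zero, x => x
  | x, .zero => x
  | .one, .one => .zero
  | .one, .w => .w2
  | .one, .w2 => .w
  | .w, .one => .w2
  | .w, .w => .zero
  | .w, .w2 => .one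
  | .w2, .one => .w
  | .w2, .w => .one
  | .w2, .w2 => .zero

def mul : FF → FF → FF
  | .zero, _ => .zero
  | _, .zero => .zero
  | .one, x => x
  | x, .one => x
  | .w, .w => .w2
  | .w, .w2 => .one
  | .w2, .w => .one
  | .w2, .w2 => .w

def inv : FF → FF
  | .w => .w2
  | .w2 => .w
  | x => x

instance : Add FF := ⟨add⟩
instance : Mul FF := ⟨mul⟩
instance : Zero FF := ⟨.zero⟩
instance : One FF := ⟨.one⟩
instance : Neg FF := ⟨fun x => x⟩
instance : Inv FF := ⟨inv⟩

instance : CommRing FF where
  add_assoc a b c := by cases a <;> cases b <;> cases c <;> rfl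
  zero_add a := by cases a <;> rfl
  add_zero a := by cases a <;> rfl
  add_comm a b := by cases a <;> cases b <;> rfl
  neg_add_cancel a := by cases a <;> rfl
  mul_assoc a b c := by cases a <;> cases b <;> cases c <;> rfl
  one_mul a := by cases a <;> rfl
  mul_one a := by cases a <;> rfl
  mul_comm a b := by cases a <;> cases b <;> rfl
  zero_mul a := by cases a <;> rfl
  mul_zero a := by cases a <;> rfl
  left_distrib a b c := by cases a <;> cases b <;> cases c <;> rfl
  right_distrib a b c := by cases a <;> cases b <;> cases c <;> rfl
  nsmul := nsmulRec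
  zsmul := zsmulRec

instance : Field FF where
  exists_pair_ne := ⟨.zero, .one, by decide⟩
  mul_inv_cancel a h := by cases a <;> first | exact absurd rfl h | rfl
  inv_zero := rfl
  qsmul := _
  nnqsmul := _

theorem card : Fintype.card FF = 4 := rfl

/-- Reading a field element from two bits. -/
def ofBits : ℕ → FF
  | 1 => .one
  | 2 => .w
  | 3 => .w2
  | _ => .zero

end FF

end Cfsg.Agent.InvChar.Coset
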