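import Cfsg.Agent.InvChar.Coset.He672Data
import Cfsg.Agent.InvChar.Coset.He672Steps0
import Cfsg.Agent.InvChar.Coset.He672Edges0

/-!
# Coset certificate check
-/

set_option autoImplicit false
set_option linter.all false

namespace Cfsg.Agent.InvChar.Coset.He672

open Cfsg.Agent.CosetCert

theorem stepsUpto0 : ∀ i < 1000, stepOK cert i = true :=
  steps_add 0 1000 (steps_zero cert) steps0

theorem stepsUpto1 : ∀ i < 2000, stepOK cert i = true :=
  steps_add 1000 1000 (stepsUpto0) steps1

theorem stepsUpto2 : ∀ i < 2432, stepOK cert i = true :=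
  steps_add 2000 432 (stepsUpto1) steps2

theorem edgesUpto0 : ∀ i < 500, ∀ x < table.C.K, EdgeAt table i x :=
  edges_add 0 500 (edges_zero table) edges0

theorem edgesUpto1 : ∀ i < 672, ∀ x < table.C.K, EdgeAt table i x :=
  edges_add 500 172 (edgesUpto0) edges1

theorem closed : Closed table where
  start := by decide +kernel
  steps := stepsUpto2
  cells := edgesUpto1
  root := by decide +kernel
  pos := by decide +kernel


end Cfsg.Agent.InvChar.Coset.He672
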