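import Cfsg.Agent.InvChar.Coset.HeSympIso
import Cfsg.Agent.InvChar.Coset.HeCentData

/-!
# A lower bound for a class of involutions in the point stabiliser of the Held group
-/

set_option autoImplicit false
set_option linter.all false

noncomputable section

namespace Cfsg.Agent.InvChar.Coset.HeCent

open Cfsg.Agent.CosetCert HeSymp

def g1 : P2 →* H0 :=
  ((MonoidHom.fst HeG (Equiv.Perm (Fin 85))).comp P2.subtype).codRestrict H0 fun p => fst_range ▸ ⟨p, rfl⟩

theorem g1_bijective : Function.Bijective g1 := by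
  refine ⟨fun a b h => P2_fst_injective (congrArg Subtype.val h), fun y => ?_⟩
  obtain ⟨p, hp⟩ : (y : HeG) ∈ ((MonoidHom.fst HeG (Equiv.Perm (Fin 85))).comp P2.subtype).range := by
    rw [fst_range]; exact y.2
  exact ⟨p, Subtype.ext hp⟩

/-- The action of the point stabiliser on the blocks. -/
def proj : H0 →* Equiv.Perm (Fin 85) :=
  ((MonoidHom.snd HeG (Equiv.Perm (Fin 85))).comp P2.subtype).comp (MulEquiv.ofBijective g1 g1_bijective).symm.toMonoidHom

def gh (i : ℕ) : H0 := if hi : i < 8 then g1 ⟨gen2 i, gen2_mem hi⟩ else 1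

theorem gh_coe {i : ℕ} (hi : i < 8) : (gh i : HeG) = gH (wordAt i) := by
  rw [gh, dif_pos hi]
  rfl

theorem proj_gh {i : ℕ} (hi : i < 8) : proj (gh i) = pperm i := by
  rw [gh, dif_pos hi]
  show ((MonoidHom.snd HeG (Equiv.Perm (Fin 85))).comp P2.subtype)
    ((MulEquiv.ofBijective g1 g1_bijective).symm (MulEquiv.ofBijective g1 g1_bijective ⟨gen2 i, gen2_mem hi⟩)) = _
  rw [MulEquiv.symm_apply_apply]
  rfl

def z0 : H0 := gh 2

def back (k : ℕ) : ℕ := if k = 6 then 7 else if k = 7 then 6 else k

def cget (p j : ℕ) : ℕ := Nat.land (Nat.shiftRight p (Nat.mul 7 j)) 127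

def stepAt (i : ℕ) : Bool :=
  let u := upTree.get i
  let k := Nat.land u 255
  let q := Nat.shiftRight u 8
  Nat.blt q i && Nat.blt k 8 &&
    let a := nthNat Whole.perms k
    let b := nthNat Whole.perms (back k)
    let p := cdTree.get q
    let r := cdTree.get i
    (List.range 85).all fun j => Nat.beq (cget r j) (pat a (cget p (pat b j)))

def stepsFrom : ℕ → ℕ → Bool
  | _, 0 => true
  | a, m + 1 => stepAt a && stepsFrom (a + 1) m

theorem stepsFrom_spec : ∀ m a, stepsFrom a m = true → ∀ i, a ≤ i → i < a + m → stepAt i = true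
  | 0, a, _, i, h1, h2 => by omega
  | m + 1, a, h, i, h1, h2 => by
    simp only [stepsFrom, Bool.and_eq_true] at h
    rcases Nat.eq_or_lt_of_le h1 with e | e
    · exact e ▸ h.1
    · exact stepsFrom_spec m (a + 1) h.2 i e (by omega)

theorem steps0 : stepsFrom 1 999 = true := by decide +kernel

theorem steps1 : stepsFrom 1000 1000 = true := by decide +kernel

theorem steps2 : stepsFrom 2000 1000 = true := by decide +kernel

theorem steps3 : stepsFrom 3000 825 = true := by decide +kernel

theorem steps {i : ℕ} (h0 : 0 < i) (hi : i < 3825) : stepAt i = true := by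
  rcases Nat.lt_or_ge i 1000 with h | h
  · exact stepsFrom_spec _ _ steps0 i h0 (by omega)
  rcases Nat.lt_or_ge i 2000 with h' | h'
  · exact stepsFrom_spec _ _ steps1 i h (by omega)
  rcases Nat.lt_or_ge i 3000 with h'' | h''
  · exact stepsFrom_spec _ _ steps2 i h' (by omega)
  exact stepsFrom_spec _ _ steps3 i h'' (by omega)

theorem code_zero : ∀ j < 85, cget (cdTree.get 0) j = img 2 j := by decide +kernel

theorem back_mem {k : ℕ} (hk : k < 8) : back k < 8 := by
  unfold back
  split_ifs <;> omega

theorem back_back : ∀ k < 8, back (back k) = k := by decide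

theorem pperm_back {k : ℕ} (hk : k < 8) : (pperm k)⁻¹ = pperm (back k) := by
  refine inv_eq_of_mul_eq_one_right (Equiv.ext fun j => Fin.ext ?_)
  rw [Equiv.Perm.mul_apply, pperm_apply hk, pperm_apply (back_mem hk)]
  exact img_inj k hk j j.2

theorem exists_conj : ∀ i < 3825, ∃ h : H0, ∀ j : Fin 85,
    (proj (h * z0 * h⁻¹) j).val = cget (cdTree.get i) j := by
  intro i
  induction i using Nat.strong_induction_on with
  | _ i ih =>
    intro hi
    rcases Nat.eq_zero_or_pos i with rfl | hpos
    · refine ⟨1, fun j => ?_⟩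
      rw [one_mul, inv_one, mul_one, z0, proj_gh (by norm_num), pperm_apply (by norm_num), code_zero j j.2]
    have hs := steps hpos hi
    simp only [stepAt, Bool.and_eq_true, List.all_eq_true, List.mem_range] at hs
    obtain ⟨⟨hq, hk⟩, hj⟩ := hs
    have hq' : Nat.shiftRight (upTree.get i) 8 < i := by simpa [Nat.blt] using hq
    have hk' : Nat.land (upTree.get i) 255 < 8 := by simpa [Nat.blt] using hk
    obtain ⟨h, hh⟩ := ih _ hq' (by omega)
    set k := Nat.land (upTree.get i) 255
    refine ⟨gh k * h, fun j => ?_⟩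
    rw [show gh k * h * z0 * (gh k * h)⁻¹ = gh k * (h * z0 * h⁻¹) * (gh k)⁻¹ by group, map_mul, map_mul, map_inv,
      proj_gh hk', pperm_back hk', Equiv.Perm.mul_apply, Equiv.Perm.mul_apply, pperm_apply hk', hh,
      pperm_apply (back_mem hk'), Nat.eq_of_beq_eq_true (hj j j.2)]
    rfl

def sortedAt (r : ℕ) : Bool :=
  Nat.blt (cdTree.get (soTree.get r)) (cdTree.get (soTree.get (r + 1)))

def sortedUpto : ℕ → Bool
  | 0 => true
  | r + 1 => sortedAt r && sortedUpto r

theorem sorted_ok : sortedUpto 3824 = true := by decide +kernel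

theorem sortedUpto_spec : ∀ m, sortedUpto m = true → ∀ r < m, sortedAt r = true := by
  intro m
  induction m with
  | zero => intro _ r hr; exact absurd hr (Nat.not_lt_zero r)
  | succ m ih =>
    intro h r hr
    rw [sortedUpto, Bool.and_eq_true] at h
    rcases Nat.lt_succ_iff_lt_or_eq.mp hr with e | e
    · exact ih h.2 r e
    · rw [e]; exact h.1

def rankAt (i : ℕ) : Bool := Nat.blt (rkTree.get i) 3825 && Nat.beq (soTree.get (rkTree.get i)) i

def rankUpto : ℕ → Bool
  | 0 => true
  | r + 1 => rankAt r && rankUpto r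

theorem rank_ok : rankUpto 3825 = true := by decide +kernel

theorem rankUpto_spec : ∀ m, rankUpto m = true → ∀ r < m, rankAt r = true := by
  intro m
  induction m with
  | zero => intro _ r hr; exact absurd hr (Nat.not_lt_zero r)
  | succ m ih =>
    intro h r hr
    rw [rankUpto, Bool.and_eq_true] at h
    rcases Nat.lt_succ_iff_lt_or_eq.mp hr with e | e
    · exact ih h.2 r e
    · rw [e]; exact h.1

theorem code_inj {a b : ℕ} (ha : a < 3825) (hb : b < 3825) (h : cdTree.get a = cdTree.get b) : a = b := by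
  have mono : ∀ d r, r + (d + 1) ≤ 3824 → cdTree.get (soTree.get r) < cdTree.get (soTree.get (r + (d + 1))) := by
    intro d
    induction d with
    | zero =>
      intro r hr
      simpa [sortedAt, Nat.blt] using sortedUpto_spec 3824 sorted_ok r (by omega)
    | succ d ih =>
      intro r hr
      have h1 : cdTree.get (soTree.get (r + (d + 1))) < cdTree.get (soTree.get (r + (d + 1) + 1)) := by
        simpa [sortedAt, Nat.blt] using sortedUpto_spec 3824 sorted_ok (r + (d + 1)) (by omega)
      exact (ih r (by omega)).trans h1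
  have ra := rankUpto_spec 3825 rank_ok a ha
  have rb := rankUpto_spec 3825 rank_ok b hb
  simp only [rankAt, Bool.and_eq_true] at ra rb
  have ea := Nat.eq_of_beq_eq_true ra.2
  have eb := Nat.eq_of_beq_eq_true rb.2
  have la : rkTree.get a < 3825 := by simpa [Nat.blt] using ra.1
  have lb : rkTree.get b < 3825 := by simpa [Nat.blt] using rb.1
  rcases Nat.lt_trichotomy (rkTree.get a) (rkTree.get b) with h1 | h1 | h1
  · obtain ⟨d, hd⟩ : ∃ d, rkTree.get b = rkTree.get a + (d + 1) := ⟨rkTree.get b - rkTree.get a - 1, by omega⟩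
    have := mono d (rkTree.get a) (by omega)
    rw [← hd, ea, eb, h] at this
    omega
  · rw [← ea, ← eb, h1]
  · obtain ⟨d, hd⟩ : ∃ d, rkTree.get a = rkTree.get b + (d + 1) := ⟨rkTree.get a - rkTree.get b - 1, by omega⟩
    have := mono d (rkTree.get b) (by omega)
    rw [← hd, ea, eb, h] at this
    omega

def packFrom (f : ℕ → ℕ) : ℕ → ℕ
  | 0 => 0
  | m + 1 => Nat.add (Nat.shiftLeft (f m) (Nat.mul 7 m)) (packFrom f m)

def fullAt (i : ℕ) : Bool := Nat.beq (packFrom (cget (cdTree.get i)) 85) (cdTree.get i)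

def fullUpto : ℕ → Bool
  | 0 => true
  | r + 1 => fullAt r && fullUpto r

theorem full_ok : fullUpto 3825 = true := by decide +kernel

theorem fullUpto_spec : ∀ m, fullUpto m = true → ∀ r < m, fullAt r = true := by
  intro m
  induction m with
  | zero => intro _ r hr; exact absurd hr (Nat.not_lt_zero r)
  | succ m ih =>
    intro h r hr
    rw [fullUpto, Bool.and_eq_true] at h
    rcases Nat.lt_succ_iff_lt_or_eq.mp hr with e | e
    · exact ih h.2 r e
    · rw [e]; exact h.1

theorem packFrom_congr {f g : ℕ → ℕ} : ∀ m, (∀ j < m, f j = g j) → packFrom f m = packFrom g m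
  | 0, _ => rfl
  | m + 1, h => by rw [packFrom, packFrom, h m (by omega), packFrom_congr m fun j hj => h j (by omega)]

/-- The class of the involution in the point stabiliser has at least 3825 elements. -/
theorem index_centralizer : 3825 ≤ (Subgroup.centralizer ({z0} : Set H0)).index := by
  haveI : Finite H0 := Nat.finite_of_card_ne_zero (by rw [card_H0]; norm_num)
  choose h hh using fun i : Fin 3825 => exists_conj i i.2
  rw [Subgroup.index_eq_card, show (3825 : ℕ) = Nat.card (Fin 3825) from (Nat.card_fin _).symm]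
  refine Nat.card_le_card_of_injective (fun i => QuotientGroup.mk (h i)) fun a b hab => Fin.ext (code_inj a.2 b.2 ?_)
  rw [QuotientGroup.eq, Subgroup.mem_centralizer_singleton_iff] at hab
  have e : h a * z0 * (h a)⁻¹ = h b * z0 * (h b)⁻¹ := by
    calc h a * z0 * (h a)⁻¹ = h a * (z0 * ((h a)⁻¹ * h b)) * (h b)⁻¹ := by group
      _ = h a * ((h a)⁻¹ * h b * z0) * (h b)⁻¹ := by rw [hab]
      _ = _ := by group
  rw [← Nat.eq_of_beq_eq_true (fullUpto_spec 3825 full_ok a a.2), ← Nat.eq_of_beq_eq_true (fullUpto_spec 3825 full_ok b b.2)]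
  exact packFrom_congr 85 fun j hj => by rw [← hh a ⟨j, hj⟩, ← hh b ⟨j, hj⟩, e]

end Cfsg.Agent.InvChar.Coset.HeCent
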