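import Cfsg.Agent.InvChar.Coset.HeCentData

/-!
# Packed five by five matrices over the field with two elements
-/

set_option autoImplicit false
set_option linter.all false

noncomputable section

namespace Cfsg.Agent.InvChar.Coset.HeCent

open Cfsg.Agent.CosetCert Matrix

abbrev M5 : Type := Matrix (Fin 5) (Fin 5) (ZMod 2)

abbrev SL5 : Type := Matrix.SpecialLinearGroup (Fin 5) (ZMod 2)

def row (a i : ℕ) : ℕ := Nat.land (Nat.shiftRight a (Nat.mul 5 i)) 31

def bv (b : Bool) : ZMod 2 := if b then 1 else 0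

def matOf (a : ℕ) : M5 := Matrix.of fun i j => bv ((row a i).testBit j)

def rowPick (r b j : ℕ) : ℕ := bif r.testBit j then row b j else 0

def rowComb (r b : ℕ) : ℕ :=
  Nat.xor (rowPick r b 0) (Nat.xor (rowPick r b 1) (Nat.xor (rowPick r b 2) (Nat.xor (rowPick r b 3) (rowPick r b 4))))

def mulP (a b : ℕ) : ℕ :=
  rowComb (row a 0) b + 32 * (rowComb (row a 1) b + 32 * (rowComb (row a 2) b + 32 * (rowComb (row a 3) b + 32 * rowComb (row a 4) b)))

theorem row_lt (a i : ℕ) : row a i < 32 := Nat.lt_succ_of_le Nat.and_le_right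

theorem pick_lt (r b j : ℕ) : rowPick r b j < 2 ^ 5 := by
  unfold rowPick
  cases r.testBit j
  · exact Nat.two_pow_pos 5
  · exact row_lt b j

theorem comb_lt (r b : ℕ) : rowComb r b < 32 :=
  Nat.xor_lt_two_pow (pick_lt r b 0) (Nat.xor_lt_two_pow (pick_lt r b 1) (Nat.xor_lt_two_pow (pick_lt r b 2)
    (Nat.xor_lt_two_pow (pick_lt r b 3) (pick_lt r b 4))))

theorem row_eq (a i : ℕ) : row a i = a / 32 ^ i % 32 := by
  show (a >>> (5 * i)) &&& 31 = _
  rw [show (31 : ℕ) = 2 ^ 5 - 1 from rfl, Nat.and_two_pow_sub_one_eq_mod, Nat.shiftRight_eq_div_pow, pow_mul]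
  norm_num

theorem row_mulP (a b : ℕ) (i : Fin 5) : row (mulP a b) i = rowComb (row a i) b := by
  have h := fun j => comb_lt (row a j) b
  have := h 0; have := h 1; have := h 2; have := h 3; have := h 4
  rw [row_eq (mulP a b)]
  fin_cases i <;> simp [mulP] <;> omega

theorem bv_xor : ∀ p q : Bool, bv (xor p q) = bv p + bv q := by decide

theorem bv_pick (r b j : ℕ) (k : ℕ) : bv ((rowPick r b j).testBit k) = bv (r.testBit j) * bv ((row b j).testBit k) := by
  unfold rowPick
  cases r.testBit j <;> simp [bv]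

theorem matOf_mulP (a b : ℕ) : matOf (mulP a b) = matOf a * matOf b := by
  ext i k
  show bv ((row (mulP a b) i).testBit k) = _
  rw [row_mulP, Matrix.mul_apply, Fin.sum_univ_five]
  show bv ((Nat.xor _ (Nat.xor _ (Nat.xor _ (Nat.xor _ _)))).testBit k) = _
  simp only [matOf, Matrix.of_apply, Fin.val_zero, Fin.val_one, Fin.val_two]
  show bv ((rowPick (row a i) b 0 ^^^ (rowPick (row a i) b 1 ^^^ (rowPick (row a i) b 2 ^^^
    (rowPick (row a i) b 3 ^^^ rowPick (row a i) b 4)))).testBit k) = _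
  simp only [Nat.testBit_xor, bv_xor, bv_pick, add_assoc]
  rfl

def idP : ℕ := 1 + 32 * (2 + 32 * (4 + 32 * (8 + 32 * 16)))

theorem matOf_id : matOf idP = 1 := by decide +kernel

theorem mats_det : ∀ k < 8, (matOf (nthNat mats k)).det = 1 := by decide +kernel

def slMk (a : ℕ) (h : (matOf a).det = 1) : SL5 := ⟨matOf a, h⟩

/-- The matrix of a generator. -/
def sl (k : ℕ) : SL5 := if hk : k < 8 then slMk _ (mats_det k hk) else 1

theorem sl_coe {k : ℕ} (hk : k < 8) : (sl k : M5) = matOf (nthNat mats k) := by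
  rw [sl, dif_pos hk]
  rfl

def vecOf (v : Fin 32) : Fin 5 → ZMod 2 := fun i => bv (v.val.testBit i.val)

def vecIdx (f : Fin 5 → ZMod 2) : Fin 32 :=
  ⟨((f 0).val + 2 * (f 1).val + 4 * (f 2).val + 8 * (f 3).val + 16 * (f 4).val) % 32, Nat.mod_lt _ (by norm_num)⟩

theorem vec_left : ∀ v : Fin 32, vecIdx (vecOf v) = v := by decide +kernel

theorem vecOf_bijective : Function.Bijective vecOf := by
  refine (Fintype.bijective_iff_injective_and_card _).mpr ⟨Function.LeftInverse.injective vec_left, by simp⟩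

def eVec : Fin 32 ≃ (Fin 5 → ZMod 2) := Equiv.ofBijective _ vecOf_bijective

/-- The action on vectors. -/
def actFun (M : SL5) (v : Fin 32) : Fin 32 := eVec.symm ((M : M5) *ᵥ eVec v)

theorem actFun_mul (M N : SL5) (v : Fin 32) : actFun (M * N) v = actFun M (actFun N v) := by
  simp only [actFun, Equiv.apply_symm_apply, Matrix.SpecialLinearGroup.coe_mul, Matrix.mulVec_mulVec]

theorem actFun_one (v : Fin 32) : actFun 1 v = v := by
  simp only [actFun, Matrix.SpecialLinearGroup.coe_one, Matrix.one_mulVec, Equiv.symm_apply_apply]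

def act : SL5 →* Equiv.Perm (Fin 32) where
  toFun M :=
    { toFun := actFun M
      invFun := actFun M⁻¹
      left_inv := fun v => by rw [← actFun_mul, inv_mul_cancel, actFun_one]
      right_inv := fun v => by rw [← actFun_mul, mul_inv_cancel, actFun_one] }
  map_one' := Equiv.ext actFun_one
  map_mul' M N := Equiv.ext (actFun_mul M N)

theorem vperms_ok : ∀ k < 8, ∀ v : Fin 32, pat (nthNat vperms k) v < 32 ∧
    ∀ i : Fin 5, bv ((pat (nthNat vperms k) v).testBit i) = (matOf (nthNat mats k) *ᵥ vecOf v) i := by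
  decide +kernel

theorem act_sl {k : ℕ} (hk : k < 8) (v : Fin 32) : (act (sl k) v : ℕ) = pat (nthNat vperms k) v := by
  obtain ⟨hlt, he⟩ := vperms_ok k hk v
  have h : act (sl k) v = ⟨_, hlt⟩ := by
    show eVec.symm ((sl k : M5) *ᵥ eVec v) = _
    rw [Equiv.symm_apply_eq, sl_coe hk]
    exact funext fun i => (he i).symm
  rw [h]

theorem levels_ok : levelsOK 32 vperms levels = true := by decide +kernel

theorem levels_prod : prodM levels = 21504 := by decide +kernel

end Cfsg.Agent.InvChar.Coset.HeCent
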