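import Cfsg.Agent.InvChar.Coset.HeCentClass
import Cfsg.Agent.InvChar.Coset.HeCentMatrix
import Cfsg.Agent.S0445

/-!
# An involution centraliser of the Held group is a transvection centraliser of SL(5,2)
-/

set_option autoImplicit false
set_option linter.all false

noncomputable section

namespace Cfsg.Agent.InvChar.Coset.HeCent

open Cfsg.Agent.CosetCert HeSymp Matrix

abbrev φ : HeG →* Equiv.Perm (Fin He.table.n) := He.data.hom He.checked

theorem n_eq : He.table.n = 2058 := by decide +kernel

theorem phi_word {w : List ℕ} (hw : lettersOK He.table.C.K w = true) (c : Fin He.table.n) :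
    (φ (wprod He.data.gen w) c : ℕ) = He.table.run w c := by
  rw [map_wprod, funext (He.data.hom_gen He.checked), wprod_tau He.checked w (lettersOK_spec hw)]

theorem phi_injective : Function.Injective φ := by
  haveI := He.simple_and_card.1
  rcases IsSimpleGroup.eq_bot_or_eq_top_of_normal φ.ker inferInstance with h | h
  · exact (MonoidHom.ker_eq_bot_iff φ).mp h
  · exfalso
    have h1 : φ (wprod He.data.gen [1]) = 1 := MonoidHom.mem_ker.mp (h ▸ Subgroup.mem_top _)
    have h2 := congrArg (fun f : Equiv.Perm (Fin He.table.n) => (f ⟨0, n_eq ▸ by norm_num⟩ : ℕ)) h1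
    rw [phi_word (by decide +kernel)] at h2
    simp at h2
    revert h2
    decide +kernel

def z : HeG := gH [3]

theorem z0_coe : (z0 : HeG) = z := by
  rw [z0, gh_coe (by norm_num), show wordAt 2 = [3] from by decide +kernel]
  rfl

theorem z_sq : z * z = 1 := by
  show wprod He.data.gen [3] * wprod He.data.gen [3] = 1
  simp only [wprod, one_mul]
  exact He.data.gen_sq 3

theorem orderOf_z : orderOf z = 2 := by
  refine orderOf_eq_prime (by rw [pow_two]; exact z_sq) fun h => ?_
  have h0 : He.table.run [3] 1 ≠ 1 ∨ He.table.run [3] 2 ≠ 2 ∨ He.table.run [3] 3 ≠ 3 ∨ He.table.run [3] 4 ≠ 4 ∨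
      He.table.run [3] 5 ≠ 5 ∨ He.table.run [3] 6 ≠ 6 := by decide +kernel
  have h1 : ∀ c < 2058, He.table.run [3] c = c := fun c hc => by
    have := phi_word (w := [3]) (by decide +kernel) ⟨c, n_eq ▸ hc⟩
    rw [show wprod He.data.gen [3] = z from rfl, h, map_one, Equiv.Perm.one_apply] at this
    exact this.symm
  rcases h0 with e | e | e | e | e | e <;> exact e (h1 _ (by norm_num))

def Cz : Subgroup HeG := Subgroup.centralizer ({z} : Set HeG)

def fixCount : ℕ → ℕ
  | 0 => 0
  | c + 1 => cond (Nat.beq (He.table.run [3] c) c) (Nat.succ (fixCount c)) (fixCount c)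

theorem fixCount_eq : ∀ m, fixCount m = ((Finset.range m).filter fun c => He.table.run [3] c = c).card := by
  intro m
  induction m with
  | zero => rfl
  | succ m ih =>
    rw [fixCount, Finset.range_add_one, Finset.filter_insert, ih]
    cases h : Nat.beq (He.table.run [3] m) m
    · rw [if_neg (fun e => by rw [e] at h; simp at h), cond_false]
    · rw [if_pos (Nat.eq_of_beq_eq_true h), Finset.card_insert_of_notMem (by simp), cond_true]

theorem fix_42 : fixCount 2058 = 42 := by decide +kernel

theorem index_in_Cz : (H0.subgroupOf Cz).index ≤ 42 := by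
  haveI := finite_He
  have h0 : (0 : ℕ) < He.table.n := by rw [n_eq]; norm_num
  obtain ⟨e, he0, he⟩ := exists_equiv He.checked He.data.gen φ (He.data.hom_gen He.checked) He.data.gen_sq
    He.data.gen_rel He.data.gen_top (H := H0) rfl
  have hmk : ∀ y : HeG, (QuotientGroup.mk y : HeG ⧸ H0) = e (φ y ⟨0, h0⟩) := fun y => by
    rw [← he, he0, MulAction.Quotient.smul_mk, smul_eq_mul, mul_one]
  have hz0 : φ z ⟨0, h0⟩ = ⟨0, h0⟩ := Fin.ext (by
    show (φ (wprod He.data.gen [3]) ⟨0, h0⟩ : ℕ) = 0
    rw [phi_word (by decide +kernel)]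
    show He.table.run [3] 0 = 0
    decide +kernel)
  classical
  let F : Finset (Fin He.table.n) := Finset.univ.filter fun c => φ z c = c
  have hF : F.card ≤ 42 := by
    rw [← fix_42, fixCount_eq]
    refine Finset.card_le_card_of_injOn (fun c => c.val) (fun c hc => ?_) (fun a _ b _ h => Fin.ext h)
    have hc' : φ z c = c := (Finset.mem_filter.mp hc).2
    refine Finset.mem_filter.mpr ⟨Finset.mem_range.mpr (n_eq ▸ c.2), ?_⟩
    rw [← phi_word (w := [3]) (by decide +kernel) c]
    exact congrArg Fin.val hc'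
  refine le_trans ?_ hF
  rw [Subgroup.index_eq_card, ← Nat.card_eq_finsetCard]
  refine Nat.card_le_card_of_injective (fun p => Quotient.liftOn' p (fun g : Cz =>
    (⟨φ g ⟨0, h0⟩, Finset.mem_filter.mpr ⟨Finset.mem_univ _, ?_⟩⟩ : F)) fun a b hab => ?_) ?_
  · rw [← Equiv.Perm.mul_apply, ← map_mul, ← (Subgroup.mem_centralizer_singleton_iff.mp g.2), map_mul,
      Equiv.Perm.mul_apply, hz0]
  · rw [QuotientGroup.leftRel_apply, Subgroup.mem_subgroupOf, Subgroup.coe_mul, Subgroup.coe_inv, ← QuotientGroup.eq,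
      hmk, hmk] at hab
    exact Subtype.ext (e.injective hab)
  · intro p p'
    refine QuotientGroup.induction_on p (fun a => QuotientGroup.induction_on p' fun b h => ?_)
    rw [QuotientGroup.eq, Subgroup.mem_subgroupOf, Subgroup.coe_mul, Subgroup.coe_inv, ← QuotientGroup.eq, hmk, hmk]
    exact congrArg e (congrArg Subtype.val h)

theorem card_Cz : Nat.card Cz ≤ 21504 := by
  haveI := finite_He
  have hmul := (H0.subgroupOf Cz).card_mul_index
  have hin := index_in_Cz
  have hinj : Nat.card (H0.subgroupOf Cz) ≤ Nat.card (Subgroup.centralizer ({z0} : Set H0)) := by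
    refine Nat.card_le_card_of_injective (fun g => ⟨⟨((g : Cz) : HeG), Subgroup.mem_subgroupOf.mp g.2⟩, ?_⟩) ?_
    · rw [Subgroup.mem_centralizer_singleton_iff]
      apply Subtype.ext
      rw [Subgroup.coe_mul, Subgroup.coe_mul, z0_coe]
      exact Subgroup.mem_centralizer_singleton_iff.mp (g : Cz).2
    · intro a b h
      exact Subtype.ext (Subtype.ext (congrArg (fun x : Subgroup.centralizer ({z0} : Set H0) => ((x : H0) : HeG)) h :))
  have h2 := (Subgroup.centralizer ({z0} : Set H0)).card_mul_index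
  rw [card_H0] at h2
  have h3 := index_centralizer
  have h4 : Nat.card (Subgroup.centralizer ({z0} : Set H0)) ≤ 512 := by nlinarith
  nlinarith

theorem cw_letters : ∀ k < 8, lettersOK He.table.C.K (getWord cWords k) = true := by decide +kernel

def commOn (u w : List ℕ) : ℕ → Bool
  | 0 => true
  | c + 1 => Nat.beq (He.table.run u c) (He.table.run w c) && commOn u w c

theorem commOn_spec {u w : List ℕ} : ∀ m, commOn u w m = true → ∀ c < m, He.table.run u c = He.table.run w c := by
  intro m
  induction m with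
  | zero => intro _ c hc; exact absurd hc (Nat.not_lt_zero c)
  | succ m ih =>
    intro h c hc
    rw [commOn, Bool.and_eq_true] at h
    rcases Nat.lt_succ_iff_lt_or_eq.mp hc with e | e
    · exact ih h.2 c e
    · rw [e]; exact Nat.eq_of_beq_eq_true h.1

theorem cw_comm : ∀ k < 8, lettersOK He.table.C.K (getWord cWords k ++ [3]) = true ∧
    lettersOK He.table.C.K ([3] ++ getWord cWords k) = true ∧
    commOn (getWord cWords k ++ [3]) ([3] ++ getWord cWords k) 2058 = true := by decide +kernel

theorem cw_mem {k : ℕ} (hk : k < 8) : gH (getWord cWords k) ∈ Cz := by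
  obtain ⟨h1, h2, h3⟩ := cw_comm k hk
  have h : wprod He.data.gen (getWord cWords k ++ [3]) = wprod He.data.gen ([3] ++ getWord cWords k) := by
    refine phi_injective (Equiv.ext fun c => Fin.ext ?_)
    rw [phi_word h1, phi_word h2]
    exact commOn_spec _ h3 _ (n_eq ▸ c.2)
  rw [CosetCert.wprod_append, CosetCert.wprod_append] at h
  exact Subgroup.mem_centralizer_singleton_iff.mpr h.symm

def gen3 (k : Fin 8) : HeG × SL5 := (gH (getWord cWords k), sl k)

def PC : Subgroup (HeG × SL5) := Subgroup.closure (Set.range gen3)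

def inK (a : ℕ) : Bool := memNat a kList

/-- Compatibility with the labelled rows. -/
def moveAt (k i : ℕ) : Bool :=
  let c := pnTree.get i
  let d := He.table.run (getWord cWords k) c
  let j := ogTree.get d
  Nat.blt 0 j && Nat.blt (Nat.sub j 1) 336 && Nat.beq d (pnTree.get (Nat.sub j 1)) && inK (mulP (mulP (ncTree.get (Nat.sub j 1)) (nthNat mats k)) (mcTree.get i))

def movesUpto (k : ℕ) : ℕ → Bool
  | 0 => true
  | i + 1 => moveAt k i && movesUpto k i

theorem movesUpto_spec {k : ℕ} : ∀ m, movesUpto k m = true → ∀ i < m, moveAt k i = true := by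
  intro m
  induction m with
  | zero => intro _ r hr; exact absurd hr (Nat.not_lt_zero r)
  | succ m ih =>
    intro h r hr
    rw [movesUpto, Bool.and_eq_true] at h
    rcases Nat.lt_succ_iff_lt_or_eq.mp hr with e | e
    · exact ih h.2 r e
    · rw [e]; exact h.1

theorem all_moves : ∀ k < 8, movesUpto k 336 = true := by decide +kernel

def pointsUpto : ℕ → Bool
  | 0 => true
  | i + 1 => Nat.blt (pnTree.get i) 2058 && Nat.beq (ogTree.get (pnTree.get i)) (i + 1) &&
      Nat.beq (mulP (mcTree.get i) (ncTree.get i)) idP && pointsUpto i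

theorem points_ok : pointsUpto 336 = true := by decide +kernel

theorem pointsUpto_spec : ∀ m, pointsUpto m = true → ∀ i < m, pnTree.get i < 2058 ∧
    ogTree.get (pnTree.get i) = i + 1 ∧ matOf (mcTree.get i) * matOf (ncTree.get i) = 1 := by
  intro m
  induction m with
  | zero => intro _ r hr; exact absurd hr (Nat.not_lt_zero r)
  | succ m ih =>
    intro h r hr
    rw [pointsUpto, Bool.and_eq_true] at h
    rcases Nat.lt_succ_iff_lt_or_eq.mp hr with e | e
    · exact ih h.2 r e
    · subst e
      simp only [Bool.and_eq_true] at h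
      refine ⟨by simpa [Nat.blt] using h.1.1.1, Nat.eq_of_beq_eq_true h.1.1.2, ?_⟩
      rw [← matOf_mulP, Nat.eq_of_beq_eq_true h.1.2, matOf_id]

theorem kList_mul : ∀ a ∈ kList, ∀ b ∈ kList, inK (mulP a b) = true := by decide +kernel

theorem kList_one : inK idP = true := by decide +kernel

def kSet : Set M5 := {M | ∃ a ∈ kList, matOf a = M}

theorem kSet_mul {A B : M5} (hA : A ∈ kSet) (hB : B ∈ kSet) : A * B ∈ kSet := by
  obtain ⟨a, ha, rfl⟩ := hA
  obtain ⟨b, hb, rfl⟩ := hB
  exact ⟨_, memNat_spec (kList_mul a ha b hb), matOf_mulP a b⟩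

theorem probe_ok : mcTree.get 0 = idP ∧ ncTree.get 0 = idP := by decide +kernel

theorem probe_moved : ∀ a ∈ kList, a = idP ∨
    ∀ b ∈ kList, matOf (mulP (mulP (ncTree.get 67) a) (mcTree.get 67)) ≠ matOf b := by decide +kernel

theorem PC_compat (p : HeG × SL5) (hp : p ∈ PC) : ∀ i < 336, ∃ j < 336,
    (∀ c : Fin He.table.n, c.val = pnTree.get i → ogTree.get (φ p.1 c).val = j + 1 ∧ (φ p.1 c).val = pnTree.get j) ∧
      matOf (ncTree.get j) * (p.2 : M5) * matOf (mcTree.get i) ∈ kSet := by
  haveI := finite_He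
  refine closure_induction_finite (Q := fun p => ∀ i < 336, ∃ j < 336,
    (∀ c : Fin He.table.n, c.val = pnTree.get i → ogTree.get (φ p.1 c).val = j + 1 ∧ (φ p.1 c).val = pnTree.get j) ∧
      matOf (ncTree.get j) * (p.2 : M5) * matOf (mcTree.get i) ∈ kSet) ?_ ?_ ?_ hp
  · rintro _ ⟨k, rfl⟩ i hi
    have hm := movesUpto_spec 336 (all_moves k k.2) i hi
    simp only [moveAt, Bool.and_eq_true] at hm
    obtain ⟨⟨⟨h1, h2⟩, hd⟩, h3⟩ := hm
    have h1' : 0 < ogTree.get (He.table.run (getWord cWords k) (pnTree.get i)) := Nat.le_of_ble_eq_true h1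
    have h2' : Nat.sub (ogTree.get (He.table.run (getWord cWords k) (pnTree.get i))) 1 < 336 := by
      simpa [Nat.blt] using h2
    refine ⟨_, h2', fun c hc => ?_, ?_⟩
    · show ogTree.get (φ (wprod He.data.gen (getWord cWords k)) c).val = _ ∧
        (φ (wprod He.data.gen (getWord cWords k)) c).val = _
      rw [phi_word (cw_letters k k.2), hc]
      exact ⟨(Nat.sub_add_cancel h1').symm, Nat.eq_of_beq_eq_true hd⟩
    · show _ * (sl k : M5) * _ ∈ kSet
      rw [sl_coe k.2, ← matOf_mulP, ← matOf_mulP]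
      exact ⟨_, memNat_spec h3, rfl⟩
  · intro i hi
    obtain ⟨h1, h2, h3⟩ := pointsUpto_spec 336 points_ok i hi
    refine ⟨i, hi, fun c hc => ?_, ?_⟩
    · rw [Prod.fst_one, map_one, Equiv.Perm.one_apply, hc]
      exact ⟨h2, rfl⟩
    · rw [Prod.snd_one, Matrix.SpecialLinearGroup.coe_one, mul_one, mul_eq_one_comm.mp h3]
      exact ⟨idP, memNat_spec kList_one, matOf_id⟩
  · intro a b ha hb i hi
    obtain ⟨j, hj, hb1, hb2⟩ := hb i hi
    obtain ⟨l, hl, ha1, ha2⟩ := ha j hj
    refine ⟨l, hl, fun c hc => ?_, ?_⟩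
    · rw [Prod.fst_mul, map_mul, Equiv.Perm.mul_apply]
      exact ha1 _ (hb1 c hc).2
    · obtain ⟨-, -, h3⟩ := pointsUpto_spec 336 points_ok j hj
      have := kSet_mul ha2 hb2
      rw [Prod.snd_mul, Matrix.SpecialLinearGroup.coe_mul]
      convert this using 1
      simp only [mul_assoc]
      rw [← mul_assoc (matOf (mcTree.get j)), h3, one_mul]

theorem PC_fst_injective : Function.Injective ((MonoidHom.fst HeG SL5).comp PC.subtype) := by
  rw [injective_iff_map_eq_one]
  rintro ⟨⟨h, M⟩, hp⟩ (rfl : h = 1)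
  refine Subtype.ext (Prod.ext rfl ?_)
  show M = 1
  have key : ∀ i < 336, matOf (ncTree.get i) * (M : M5) * matOf (mcTree.get i) ∈ kSet := by
    intro i hi
    obtain ⟨j, hj, hc, hk⟩ := PC_compat _ hp i hi
    obtain ⟨h1, h2, -⟩ := pointsUpto_spec 336 points_ok i hi
    obtain ⟨e1, e2⟩ := hc ⟨pnTree.get i, n_eq ▸ h1⟩ rfl
    rw [map_one, Equiv.Perm.one_apply] at e1
    have hji : j = i := by
      change ogTree.get (pnTree.get i) = j + 1 at e1
      omega
    subst hji
    exact hk
  have h0 := key 0 (by norm_num)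
  rw [probe_ok.1, probe_ok.2, matOf_id, one_mul, mul_one] at h0
  obtain ⟨a, ha, haM⟩ := h0
  rcases probe_moved a ha with rfl | hne
  · exact Subtype.ext (haM.symm.trans matOf_id)
  · exfalso
    obtain ⟨b, hb, hbM⟩ := key 67 (by norm_num)
    apply hne b hb
    rw [hbM, ← haM, matOf_mulP, matOf_mulP]

theorem fst_le : ((MonoidHom.fst HeG SL5).comp PC.subtype).range ≤ Cz := by
  rw [MonoidHom.range_eq_map, ← Subgroup.map_map, ← MonoidHom.range_eq_map, Subgroup.range_subtype, PC,
    MonoidHom.map_closure, ← Set.range_comp, Subgroup.closure_le]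
  rintro _ ⟨k, rfl⟩
  exact cw_mem k.2

theorem sl_comm : ∀ k < 8, matOf (nthNat mats k) * Matrix.transvection 0 1 1 =
    Matrix.transvection 0 1 1 * matOf (nthNat mats k) := by decide +kernel

theorem snd_le (s : SL5) (hs : (s : M5) = Matrix.transvection 0 1 1) :
    ((MonoidHom.snd HeG SL5).comp PC.subtype).range ≤ Subgroup.centralizer ({s} : Set SL5) := by
  rw [MonoidHom.range_eq_map, ← Subgroup.map_map, ← MonoidHom.range_eq_map, Subgroup.range_subtype, PC,
    MonoidHom.map_closure, ← Set.range_comp, Subgroup.closure_le]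
  rintro _ ⟨k, rfl⟩
  refine Subgroup.mem_centralizer_singleton_iff.mpr (Subtype.ext ?_)
  show (sl k : M5) * (s : M5) = (s : M5) * (sl k : M5)
  rw [hs, sl_coe k.2]
  exact sl_comm k k.2

theorem snd_card : 21504 ≤ Nat.card ((MonoidHom.snd HeG SL5).comp PC.subtype).range := by
  set f := (MonoidHom.snd HeG SL5).comp PC.subtype
  have hreal : Realises (f.range.map act) vperms := by
    intro y hy
    have hy' : y < 8 := by
      have : vperms.length = 8 := by decide +kernel
      omega
    exact ⟨act (sl y), Subgroup.mem_map_of_mem act ⟨⟨gen3 ⟨y, hy'⟩, Subgroup.subset_closure ⟨_, rfl⟩⟩, rfl⟩,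
      fun c => act_sl hy' c⟩
  have h := prodM_le _ _ _ hreal levels_ok
  rw [levels_prod] at h
  refine h.trans (Nat.card_le_card_of_surjective
    (fun x : f.range => (⟨act x, Subgroup.mem_map_of_mem act x.2⟩ : f.range.map act)) ?_)
  rintro ⟨y, x, hx, rfl⟩
  exact ⟨⟨x, hx⟩, rfl⟩

theorem centralizer_iso (s : SL5) (hs : (s : M5) = Matrix.transvection 0 1 1) :
    ∃ z : Cfsg.Spor.He, orderOf z = 2 ∧
      Nonempty (↥(Subgroup.centralizer ({z} : Set Cfsg.Spor.He)) ≃* ↥(Subgroup.centralizer ({s} : Set SL5))) := by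
  haveI := finite_He
  refine ⟨z, orderOf_z, ?_⟩
  let f : PC →* Cz := ((MonoidHom.fst HeG SL5).comp PC.subtype).codRestrict Cz fun p => fst_le ⟨p, rfl⟩
  let g : PC →* Subgroup.centralizer ({s} : Set SL5) :=
    ((MonoidHom.snd HeG SL5).comp PC.subtype).codRestrict _ fun p => snd_le s hs ⟨p, rfl⟩
  have hf : Function.Injective f := fun a b h => PC_fst_injective (congrArg Subtype.val h)
  haveI : Finite PC := Finite.of_injective _ hf
  have h1 : Nat.card PC ≤ 21504 := (Nat.card_le_card_of_injective _ hf).trans card_Cz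
  have h2 : 21504 ≤ Nat.card PC :=
    snd_card.trans (Nat.card_le_card_of_surjective _ ((MonoidHom.snd HeG SL5).comp PC.subtype).rangeRestrict_surjective)
  have hS := S0445.result s hs
  have hg : Function.Surjective g := by
    intro y
    have heq : ((MonoidHom.snd HeG SL5).comp PC.subtype).range = Subgroup.centralizer ({s} : Set SL5) :=
      Subgroup.eq_of_le_of_card_ge (snd_le s hs) (by rw [hS]; exact snd_card)
    obtain ⟨p, hp⟩ : (y : SL5) ∈ ((MonoidHom.snd HeG SL5).comp PC.subtype).range := by rw [heq]; exact y.2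
    exact ⟨p, Subtype.ext hp⟩
  exact ⟨(MulEquiv.ofBijective f (hf.bijective_of_nat_card_le (le_trans card_Cz h2))).symm.trans
    (MulEquiv.ofBijective g (hg.bijective_of_nat_card_le (by rw [hS]; omega)))⟩

end Cfsg.Agent.InvChar.Coset.HeCent
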