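import Cfsg.Agent.InvChar.Coset.HeData

/-!
# Coset certificate check, a part
-/

set_option autoImplicit false
set_option linter.all false

namespace Cfsg.Agent.InvChar.Coset.He

open Cfsg.Agent.CosetCert

theorem orbits0 : orbitsOK table orbits 0 200 = true := by decide +kernel

theorem orbits1 : orbitsOK table orbits 200 200 = true := by decide +kernel

theorem orbits2 : orbitsOK table orbits 400 200 = true := by decide +kernel

theorem orbits3 : orbitsOK table orbits 600 200 = true := by decide +kernel

theorem orbits4 : orbitsOK table orbits 800 200 = true := by decide +kernel

theorem orbits5 : orbitsOK table orbits 1000 200 = true := by decide +kernel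

theorem orbits6 : orbitsOK table orbits 1200 200 = true := by decide +kernel

theorem orbits7 : orbitsOK table orbits 1400 200 = true := by decide +kernel

theorem orbits8 : orbitsOK table orbits 1600 200 = true := by decide +kernel

theorem orbits9 : orbitsOK table orbits 1800 200 = true := by decide +kernel

theorem orbits10 : orbitsOK table orbits 2000 58 = true := by decide +kernel

end Cfsg.Agent.InvChar.Coset.He
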