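import Cfsg.Agent.InvChar.Coset.HeNineData

/-!
# Coset certificate check, a part
-/

set_option autoImplicit false
set_option linter.all false

namespace Cfsg.Agent.InvChar.Coset.HeNine

open Cfsg.Agent.CosetCert

theorem edges50 : edgesOK table tgtTree 25000 500 = true := by decide +kernel

theorem edges51 : edgesOK table tgtTree 25500 500 = true := by decide +kernel

theorem edges52 : edgesOK table tgtTree 26000 500 = true := by decide +kernel

theorem edges53 : edgesOK table tgtTree 26500 500 = true := by decide +kernel

theorem edges54 : edgesOK table tgtTree 27000 500 = true := by decide +kernel

theorem edges55 : edgesOK table tgtTree 27500 500 = true := by decide +kernel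

theorem edges56 : edgesOK table tgtTree 28000 500 = true := by decide +kernel

theorem edges57 : edgesOK table tgtTree 28500 500 = true := by decide +kernel

theorem edges58 : edgesOK table tgtTree 29000 500 = true := by decide +kernel

theorem edges59 : edgesOK table tgtTree 29500 500 = true := by decide +kernel

theorem edges60 : edgesOK table tgtTree 30000 500 = true := by decide +kernel

theorem edges61 : edgesOK table tgtTree 30500 500 = true := by decide +kernel

theorem edges62 : edgesOK table tgtTree 31000 500 = true := by decide +kernel

theorem edges63 : edgesOK table tgtTree 31500 500 = true := by decide +kernel

theorem edges64 : edgesOK table tgtTree 32000 500 = true := by decide +kernel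

theorem edges65 : edgesOK table tgtTree 32500 500 = true := by decide +kernel

theorem edges66 : edgesOK table tgtTree 33000 500 = true := by decide +kernel

theorem edges67 : edgesOK table tgtTree 33500 500 = true := by decide +kernel

theorem edges68 : edgesOK table tgtTree 34000 500 = true := by decide +kernel

theorem edges69 : edgesOK table tgtTree 34500 500 = true := by decide +kernel

theorem edges70 : edgesOK table tgtTree 35000 500 = true := by decide +kernel

theorem edges71 : edgesOK table tgtTree 35500 500 = true := by decide +kernel

theorem edges72 : edgesOK table tgtTree 36000 500 = true := by decide +kernel

theorem edges73 : edgesOK table tgtTree 36500 500 = true := by decide +kernel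

theorem edges74 : edgesOK table tgtTree 37000 500 = true := by decide +kernel

end Cfsg.Agent.InvChar.Coset.HeNine
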