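import Cfsg.Agent.InvChar.Coset.HeNineData

/-!
# Coset certificate check, a part
-/

set_option autoImplicit false
set_option linter.all false

namespace Cfsg.Agent.InvChar.Coset.HeNine

open Cfsg.Agent.CosetCert

theorem edges75 : edgesOK table tgtTree 37500 500 = true := by decide +kernel

theorem edges76 : edgesOK table tgtTree 38000 500 = true := by decide +kernel

theorem edges77 : edgesOK table tgtTree 38500 500 = true := by decide +kernel

theorem edges78 : edgesOK table tgtTree 39000 500 = true := by decide +kernel

theorem edges79 : edgesOK table tgtTree 39500 500 = true := by decide +kernel

theorem edges80 : edgesOK table tgtTree 40000 500 = true := by decide +kernel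

theorem edges81 : edgesOK table tgtTree 40500 500 = true := by decide +kernel

theorem edges82 : edgesOK table tgtTree 41000 500 = true := by decide +kernel

theorem edges83 : edgesOK table tgtTree 41500 500 = true := by decide +kernel

theorem edges84 : edgesOK table tgtTree 42000 500 = true := by decide +kernel

theorem edges85 : edgesOK table tgtTree 42500 500 = true := by decide +kernel

theorem edges86 : edgesOK table tgtTree 43000 500 = true := by decide +kernel

theorem edges87 : edgesOK table tgtTree 43500 500 = true := by decide +kernel

theorem edges88 : edgesOK table tgtTree 44000 500 = true := by decide +kernel

theorem edges89 : edgesOK table tgtTree 44500 500 = true := by decide +kernel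

theorem edges90 : edgesOK table tgtTree 45000 500 = true := by decide +kernel

theorem edges91 : edgesOK table tgtTree 45500 500 = true := by decide +kernel

theorem edges92 : edgesOK table tgtTree 46000 500 = true := by decide +kernel

theorem edges93 : edgesOK table tgtTree 46500 500 = true := by decide +kernel

theorem edges94 : edgesOK table tgtTree 47000 500 = true := by decide +kernel

theorem edges95 : edgesOK table tgtTree 47500 500 = true := by decide +kernel

theorem edges96 : edgesOK table tgtTree 48000 500 = true := by decide +kernel

theorem edges97 : edgesOK table tgtTree 48500 500 = true := by decide +kernel

theorem edges98 : edgesOK table tgtTree 49000 500 = true := by decide +kernel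

theorem edges99 : edgesOK table tgtTree 49500 480 = true := by decide +kernel

end Cfsg.Agent.InvChar.Coset.HeNine
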