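import Cfsg.Agent.InvChar.Coset.HeNineData

/-!
# Coset certificate check, a part
-/

set_option autoImplicit false
set_option linter.all false

namespace Cfsg.Agent.InvChar.Coset.HeNine

open Cfsg.Agent.CosetCert

theorem steps105 : rangeOK cert 105000 1000 = true := by decide +kernel

theorem steps106 : rangeOK cert 106000 1000 = true := by decide +kernel

theorem steps107 : rangeOK cert 107000 1000 = true := by decide +kernel

theorem steps108 : rangeOK cert 108000 1000 = true := by decide +kernel

theorem steps109 : rangeOK cert 109000 1000 = true := by decide +kernel

theorem steps110 : rangeOK cert 110000 1000 = true := by decide +kernel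

theorem steps111 : rangeOK cert 111000 1000 = true := by decide +kernel

theorem steps112 : rangeOK cert 112000 1000 = true := by decide +kernel

theorem steps113 : rangeOK cert 113000 1000 = true := by decide +kernel

theorem steps114 : rangeOK cert 114000 1000 = true := by decide +kernel

theorem steps115 : rangeOK cert 115000 1000 = true := by decide +kernel

theorem steps116 : rangeOK cert 116000 1000 = true := by decide +kernel

theorem steps117 : rangeOK cert 117000 1000 = true := by decide +kernel

theorem steps118 : rangeOK cert 118000 1000 = true := by decide +kernel

theorem steps119 : rangeOK cert 119000 1000 = true := by decide +kernel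

end Cfsg.Agent.InvChar.Coset.HeNine
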