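import Cfsg.Agent.InvChar.Coset.HeNineData

/-!
# Coset certificate check, a part
-/

set_option autoImplicit false
set_option linter.all false

namespace Cfsg.Agent.InvChar.Coset.HeNine

open Cfsg.Agent.CosetCert

theorem steps120 : rangeOK cert 120000 1000 = true := by decide +kernel

theorem steps121 : rangeOK cert 121000 1000 = true := by decide +kernel

theorem steps122 : rangeOK cert 122000 1000 = true := by decide +kernel

theorem steps123 : rangeOK cert 123000 1000 = true := by decide +kernel

theorem steps124 : rangeOK cert 124000 1000 = true := by decide +kernel

theorem steps125 : rangeOK cert 125000 1000 = true := by decide +kernel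

theorem steps126 : rangeOK cert 126000 1000 = true := by decide +kernel

theorem steps127 : rangeOK cert 127000 1000 = true := by decide +kernel

theorem steps128 : rangeOK cert 128000 1000 = true := by decide +kernel

theorem steps129 : rangeOK cert 129000 1000 = true := by decide +kernel

theorem steps130 : rangeOK cert 130000 1000 = true := by decide +kernel

theorem steps131 : rangeOK cert 131000 1000 = true := by decide +kernel

theorem steps132 : rangeOK cert 132000 1000 = true := by decide +kernel

theorem steps133 : rangeOK cert 133000 1000 = true := by decide +kernel

theorem steps134 : rangeOK cert 134000 1000 = true := by decide +kernel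

end Cfsg.Agent.InvChar.Coset.HeNine
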