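import Cfsg.Agent.InvChar.Coset.HeNineData

/-!
# Coset certificate check, a part
-/

set_option autoImplicit false
set_option linter.all false

namespace Cfsg.Agent.InvChar.Coset.HeNine

open Cfsg.Agent.CosetCert

theorem steps135 : rangeOK cert 135000 1000 = true := by decide +kernel

theorem steps136 : rangeOK cert 136000 1000 = true := by decide +kernel

theorem steps137 : rangeOK cert 137000 1000 = true := by decide +kernel

theorem steps138 : rangeOK cert 138000 1000 = true := by decide +kernel

theorem steps139 : rangeOK cert 139000 1000 = true := by decide +kernel

theorem steps140 : rangeOK cert 140000 1000 = true := by decide +kernel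

theorem steps141 : rangeOK cert 141000 1000 = true := by decide +kernel

theorem steps142 : rangeOK cert 142000 1000 = true := by decide +kernel

theorem steps143 : rangeOK cert 143000 1000 = true := by decide +kernel

theorem steps144 : rangeOK cert 144000 1000 = true := by decide +kernel

theorem steps145 : rangeOK cert 145000 1000 = true := by decide +kernel

theorem steps146 : rangeOK cert 146000 1000 = true := by decide +kernel

theorem steps147 : rangeOK cert 147000 1000 = true := by decide +kernel

theorem steps148 : rangeOK cert 148000 1000 = true := by decide +kernel

theorem steps149 : rangeOK cert 149000 1000 = true := by decide +kernel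

end Cfsg.Agent.InvChar.Coset.HeNine
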