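import Cfsg.Agent.InvChar.Coset.HeNineData
import Cfsg.Agent.InvChar.Coset.HeNineSteps0
import Cfsg.Agent.InvChar.Coset.HeNineSteps1
import Cfsg.Agent.InvChar.Coset.HeNineSteps2
import Cfsg.Agent.InvChar.Coset.HeNineSteps3
import Cfsg.Agent.InvChar.Coset.HeNineSteps4
import Cfsg.Agent.InvChar.Coset.HeNineSteps5
import Cfsg.Agent.InvChar.Coset.HeNineSteps6
import Cfsg.Agent.InvChar.Coset.HeNineSteps7
import Cfsg.Agent.InvChar.Coset.HeNineSteps8
import Cfsg.Agent.InvChar.Coset.HeNineSteps9
import Cfsg.Agent.InvChar.Coset.HeNineSteps10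
import Cfsg.Agent.InvChar.Coset.HeNineSteps11
import Cfsg.Agent.InvChar.Coset.HeNineEdges0
import Cfsg.Agent.InvChar.Coset.HeNineEdges1
import Cfsg.Agent.InvChar.Coset.HeNineEdges2
import Cfsg.Agent.InvChar.Coset.HeNineEdges3

/-!
# Coset certificate check
-/

set_option autoImplicit false
set_option linter.all false

namespace Cfsg.Agent.InvChar.Coset.HeNine

open Cfsg.Agent.CosetCert

theorem stepsUpto0 : ∀ i < 1000, stepOK cert i = true :=
  steps_add 0 1000 (steps_zero cert) steps0

theorem stepsUpto1 : ∀ i < 2000, stepOK cert i = true :=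
  steps_add 1000 1000 (stepsUpto0) steps1

theorem stepsUpto2 : ∀ i < 3000, stepOK cert i = true :=
  steps_add 2000 1000 (stepsUpto1) steps2

theorem stepsUpto3 : ∀ i < 4000, stepOK cert i = true :=
  steps_add 3000 1000 (stepsUpto2) steps3

theorem stepsUpto4 : ∀ i < 5000, stepOK cert i = true :=
  steps_add 4000 1000 (stepsUpto3) steps4

theorem stepsUpto5 : ∀ i < 6000, stepOK cert i = true :=
  steps_add 5000 1000 (stepsUpto4) steps5

theorem stepsUpto6 : ∀ i < 7000, stepOK cert i = true :=
  steps_add 6000 1000 (stepsUpto5) steps6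

theorem stepsUpto7 : ∀ i < 8000, stepOK cert i = true :=
  steps_add 7000 1000 (stepsUpto6) steps7

theorem stepsUpto8 : ∀ i < 9000, stepOK cert i = true :=
  steps_add 8000 1000 (stepsUpto7) steps8

theorem stepsUpto9 : ∀ i < 10000, stepOK cert i = true :=
  steps_add 9000 1000 (stepsUpto8) steps9

theorem stepsUpto10 : ∀ i < 11000, stepOK cert i = true :=
  steps_add 10000 1000 (stepsUpto9) steps10

theorem stepsUpto11 : ∀ i < 12000, stepOK cert i = true :=
  steps_add 11000 1000 (stepsUpto10) steps11

theorem stepsUpto12 : ∀ i < 13000, stepOK cert i = true :=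
  steps_add 12000 1000 (stepsUpto11) steps12

theorem stepsUpto13 : ∀ i < 14000, stepOK cert i = true :=
  steps_add 13000 1000 (stepsUpto12) steps13

theorem stepsUpto14 : ∀ i < 15000, stepOK cert i = true :=
  steps_add 14000 1000 (stepsUpto13) steps14

theorem stepsUpto15 : ∀ i < 16000, stepOK cert i = true :=
  steps_add 15000 1000 (stepsUpto14) steps15

theorem stepsUpto16 : ∀ i < 17000, stepOK cert i = true :=
  steps_add 16000 1000 (stepsUpto15) steps16

theorem stepsUpto17 : ∀ i < 18000, stepOK cert i = true :=
  steps_add 17000 1000 (stepsUpto16) steps17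

theorem stepsUpto18 : ∀ i < 19000, stepOK cert i = true :=
  steps_add 18000 1000 (stepsUpto17) steps18

theorem stepsUpto19 : ∀ i < 20000, stepOK cert i = true :=
  steps_add 19000 1000 (stepsUpto18) steps19

theorem stepsUpto20 : ∀ i < 21000, stepOK cert i = true :=
  steps_add 20000 1000 (stepsUpto19) steps20

theorem stepsUpto21 : ∀ i < 22000, stepOK cert i = true :=
  steps_add 21000 1000 (stepsUpto20) steps21

theorem stepsUpto22 : ∀ i < 23000, stepOK cert i = true :=
  steps_add 22000 1000 (stepsUpto21) steps22

theorem stepsUpto23 : ∀ i < 24000, stepOK cert i = true :=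
  steps_add 23000 1000 (stepsUpto22) steps23

theorem stepsUpto24 : ∀ i < 25000, stepOK cert i = true :=
  steps_add 24000 1000 (stepsUpto23) steps24

theorem stepsUpto25 : ∀ i < 26000, stepOK cert i = true :=
  steps_add 25000 1000 (stepsUpto24) steps25

theorem stepsUpto26 : ∀ i < 27000, stepOK cert i = true :=
  steps_add 26000 1000 (stepsUpto25) steps26

theorem stepsUpto27 : ∀ i < 28000, stepOK cert i = true :=
  steps_add 27000 1000 (stepsUpto26) steps27

theorem stepsUpto28 : ∀ i < 29000, stepOK cert i = true :=
  steps_add 28000 1000 (stepsUpto27) steps28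

theorem stepsUpto29 : ∀ i < 30000, stepOK cert i = true :=
  steps_add 29000 1000 (stepsUpto28) steps29

theorem stepsUpto30 : ∀ i < 31000, stepOK cert i = true :=
  steps_add 30000 1000 (stepsUpto29) steps30

theorem stepsUpto31 : ∀ i < 32000, stepOK cert i = true :=
  steps_add 31000 1000 (stepsUpto30) steps31

theorem stepsUpto32 : ∀ i < 33000, stepOK cert i = true :=
  steps_add 32000 1000 (stepsUpto31) steps32

theorem stepsUpto33 : ∀ i < 34000, stepOK cert i = true :=
  steps_add 33000 1000 (stepsUpto32) steps33

theorem stepsUpto34 : ∀ i < 35000, stepOK cert i = true :=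
  steps_add 34000 1000 (stepsUpto33) steps34

theorem stepsUpto35 : ∀ i < 36000, stepOK cert i = true :=
  steps_add 35000 1000 (stepsUpto34) steps35

theorem stepsUpto36 : ∀ i < 37000, stepOK cert i = true :=
  steps_add 36000 1000 (stepsUpto35) steps36

theorem stepsUpto37 : ∀ i < 38000, stepOK cert i = true :=
  steps_add 37000 1000 (stepsUpto36) steps37

theorem stepsUpto38 : ∀ i < 39000, stepOK cert i = true :=
  steps_add 38000 1000 (stepsUpto37) steps38

theorem stepsUpto39 : ∀ i < 40000, stepOK cert i = true :=
  steps_add 39000 1000 (stepsUpto38) steps39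

theorem stepsUpto40 : ∀ i < 41000, stepOK cert i = true :=
  steps_add 40000 1000 (stepsUpto39) steps40

theorem stepsUpto41 : ∀ i < 42000, stepOK cert i = true :=
  steps_add 41000 1000 (stepsUpto40) steps41

theorem stepsUpto42 : ∀ i < 43000, stepOK cert i = true :=
  steps_add 42000 1000 (stepsUpto41) steps42

theorem stepsUpto43 : ∀ i < 44000, stepOK cert i = true :=
  steps_add 43000 1000 (stepsUpto42) steps43

theorem stepsUpto44 : ∀ i < 45000, stepOK cert i = true :=
  steps_add 44000 1000 (stepsUpto43) steps44

theorem stepsUpto45 : ∀ i < 46000, stepOK cert i = true :=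
  steps_add 45000 1000 (stepsUpto44) steps45

theorem stepsUpto46 : ∀ i < 47000, stepOK cert i = true :=
  steps_add 46000 1000 (stepsUpto45) steps46

theorem stepsUpto47 : ∀ i < 48000, stepOK cert i = true :=
  steps_add 47000 1000 (stepsUpto46) steps47

theorem stepsUpto48 : ∀ i < 49000, stepOK cert i = true :=
  steps_add 48000 1000 (stepsUpto47) steps48

theorem stepsUpto49 : ∀ i < 50000, stepOK cert i = true :=
  steps_add 49000 1000 (stepsUpto48) steps49

theorem stepsUpto50 : ∀ i < 51000, stepOK cert i = true :=
  steps_add 50000 1000 (stepsUpto49) steps50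

theorem stepsUpto51 : ∀ i < 52000, stepOK cert i = true :=
  steps_add 51000 1000 (stepsUpto50) steps51

theorem stepsUpto52 : ∀ i < 53000, stepOK cert i = true :=
  steps_add 52000 1000 (stepsUpto51) steps52

theorem stepsUpto53 : ∀ i < 54000, stepOK cert i = true :=
  steps_add 53000 1000 (stepsUpto52) steps53

theorem stepsUpto54 : ∀ i < 55000, stepOK cert i = true :=
  steps_add 54000 1000 (stepsUpto53) steps54

theorem stepsUpto55 : ∀ i < 56000, stepOK cert i = true :=
  steps_add 55000 1000 (stepsUpto54) steps55

theorem stepsUpto56 : ∀ i < 57000, stepOK cert i = true :=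
  steps_add 56000 1000 (stepsUpto55) steps56

theorem stepsUpto57 : ∀ i < 58000, stepOK cert i = true :=
  steps_add 57000 1000 (stepsUpto56) steps57

theorem stepsUpto58 : ∀ i < 59000, stepOK cert i = true :=
  steps_add 58000 1000 (stepsUpto57) steps58

theorem stepsUpto59 : ∀ i < 60000, stepOK cert i = true :=
  steps_add 59000 1000 (stepsUpto58) steps59

theorem stepsUpto60 : ∀ i < 61000, stepOK cert i = true :=
  steps_add 60000 1000 (stepsUpto59) steps60

theorem stepsUpto61 : ∀ i < 62000, stepOK cert i = true :=
  steps_add 61000 1000 (stepsUpto60) steps61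

theorem stepsUpto62 : ∀ i < 63000, stepOK cert i = true :=
  steps_add 62000 1000 (stepsUpto61) steps62

theorem stepsUpto63 : ∀ i < 64000, stepOK cert i = true :=
  steps_add 63000 1000 (stepsUpto62) steps63

theorem stepsUpto64 : ∀ i < 65000, stepOK cert i = true :=
  steps_add 64000 1000 (stepsUpto63) steps64

theorem stepsUpto65 : ∀ i < 66000, stepOK cert i = true :=
  steps_add 65000 1000 (stepsUpto64) steps65

theorem stepsUpto66 : ∀ i < 67000, stepOK cert i = true :=
  steps_add 66000 1000 (stepsUpto65) steps66

theorem stepsUpto67 : ∀ i < 68000, stepOK cert i = true :=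
  steps_add 67000 1000 (stepsUpto66) steps67

theorem stepsUpto68 : ∀ i < 69000, stepOK cert i = true :=
  steps_add 68000 1000 (stepsUpto67) steps68

theorem stepsUpto69 : ∀ i < 70000, stepOK cert i = true :=
  steps_add 69000 1000 (stepsUpto68) steps69

theorem stepsUpto70 : ∀ i < 71000, stepOK cert i = true :=
  steps_add 70000 1000 (stepsUpto69) steps70

theorem stepsUpto71 : ∀ i < 72000, stepOK cert i = true :=
  steps_add 71000 1000 (stepsUpto70) steps71

theorem stepsUpto72 : ∀ i < 73000, stepOK cert i = true :=
  steps_add 72000 1000 (stepsUpto71) steps72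

theorem stepsUpto73 : ∀ i < 74000, stepOK cert i = true :=
  steps_add 73000 1000 (stepsUpto72) steps73

theorem stepsUpto74 : ∀ i < 75000, stepOK cert i = true :=
  steps_add 74000 1000 (stepsUpto73) steps74

theorem stepsUpto75 : ∀ i < 76000, stepOK cert i = true :=
  steps_add 75000 1000 (stepsUpto74) steps75

theorem stepsUpto76 : ∀ i < 77000, stepOK cert i = true :=
  steps_add 76000 1000 (stepsUpto75) steps76

theorem stepsUpto77 : ∀ i < 78000, stepOK cert i = true :=
  steps_add 77000 1000 (stepsUpto76) steps77

theorem stepsUpto78 : ∀ i < 79000, stepOK cert i = true :=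
  steps_add 78000 1000 (stepsUpto77) steps78

theorem stepsUpto79 : ∀ i < 80000, stepOK cert i = true :=
  steps_add 79000 1000 (stepsUpto78) steps79

theorem stepsUpto80 : ∀ i < 81000, stepOK cert i = true :=
  steps_add 80000 1000 (stepsUpto79) steps80

theorem stepsUpto81 : ∀ i < 82000, stepOK cert i = true :=
  steps_add 81000 1000 (stepsUpto80) steps81

theorem stepsUpto82 : ∀ i < 83000, stepOK cert i = true :=
  steps_add 82000 1000 (stepsUpto81) steps82

theorem stepsUpto83 : ∀ i < 84000, stepOK cert i = true :=
  steps_add 83000 1000 (stepsUpto82) steps83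

theorem stepsUpto84 : ∀ i < 85000, stepOK cert i = true :=
  steps_add 84000 1000 (stepsUpto83) steps84

theorem stepsUpto85 : ∀ i < 86000, stepOK cert i = true :=
  steps_add 85000 1000 (stepsUpto84) steps85

theorem stepsUpto86 : ∀ i < 87000, stepOK cert i = true :=
  steps_add 86000 1000 (stepsUpto85) steps86

theorem stepsUpto87 : ∀ i < 88000, stepOK cert i = true :=
  steps_add 87000 1000 (stepsUpto86) steps87

theorem stepsUpto88 : ∀ i < 89000, stepOK cert i = true :=
  steps_add 88000 1000 (stepsUpto87) steps88

theorem stepsUpto89 : ∀ i < 90000, stepOK cert i = true :=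
  steps_add 89000 1000 (stepsUpto88) steps89

theorem stepsUpto90 : ∀ i < 91000, stepOK cert i = true :=
  steps_add 90000 1000 (stepsUpto89) steps90

theorem stepsUpto91 : ∀ i < 92000, stepOK cert i = true :=
  steps_add 91000 1000 (stepsUpto90) steps91

theorem stepsUpto92 : ∀ i < 93000, stepOK cert i = true :=
  steps_add 92000 1000 (stepsUpto91) steps92

theorem stepsUpto93 : ∀ i < 94000, stepOK cert i = true :=
  steps_add 93000 1000 (stepsUpto92) steps93

theorem stepsUpto94 : ∀ i < 95000, stepOK cert i = true :=
  steps_add 94000 1000 (stepsUpto93) steps94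

theorem stepsUpto95 : ∀ i < 96000, stepOK cert i = true :=
  steps_add 95000 1000 (stepsUpto94) steps95

theorem stepsUpto96 : ∀ i < 97000, stepOK cert i = true :=
  steps_add 96000 1000 (stepsUpto95) steps96

theorem stepsUpto97 : ∀ i < 98000, stepOK cert i = true :=
  steps_add 97000 1000 (stepsUpto96) steps97

theorem stepsUpto98 : ∀ i < 99000, stepOK cert i = true :=
  steps_add 98000 1000 (stepsUpto97) steps98

theorem stepsUpto99 : ∀ i < 100000, stepOK cert i = true :=
  steps_add 99000 1000 (stepsUpto98) steps99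

theorem stepsUpto100 : ∀ i < 101000, stepOK cert i = true :=
  steps_add 100000 1000 (stepsUpto99) steps100

theorem stepsUpto101 : ∀ i < 102000, stepOK cert i = true :=
  steps_add 101000 1000 (stepsUpto100) steps101

theorem stepsUpto102 : ∀ i < 103000, stepOK cert i = true :=
  steps_add 102000 1000 (stepsUpto101) steps102

theorem stepsUpto103 : ∀ i < 104000, stepOK cert i = true :=
  steps_add 103000 1000 (stepsUpto102) steps103

theorem stepsUpto104 : ∀ i < 105000, stepOK cert i = true :=
  steps_add 104000 1000 (stepsUpto103) steps104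

theorem stepsUpto105 : ∀ i < 106000, stepOK cert i = true :=
  steps_add 105000 1000 (stepsUpto104) steps105

theorem stepsUpto106 : ∀ i < 107000, stepOK cert i = true :=
  steps_add 106000 1000 (stepsUpto105) steps106

theorem stepsUpto107 : ∀ i < 108000, stepOK cert i = true :=
  steps_add 107000 1000 (stepsUpto106) steps107

theorem stepsUpto108 : ∀ i < 109000, stepOK cert i = true :=
  steps_add 108000 1000 (stepsUpto107) steps108

theorem stepsUpto109 : ∀ i < 110000, stepOK cert i = true :=
  steps_add 109000 1000 (stepsUpto108) steps109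

theorem stepsUpto110 : ∀ i < 111000, stepOK cert i = true :=
  steps_add 110000 1000 (stepsUpto109) steps110

theorem stepsUpto111 : ∀ i < 112000, stepOK cert i = true :=
  steps_add 111000 1000 (stepsUpto110) steps111

theorem stepsUpto112 : ∀ i < 113000, stepOK cert i = true :=
  steps_add 112000 1000 (stepsUpto111) steps112

theorem stepsUpto113 : ∀ i < 114000, stepOK cert i = true :=
  steps_add 113000 1000 (stepsUpto112) steps113

theorem stepsUpto114 : ∀ i < 115000, stepOK cert i = true :=
  steps_add 114000 1000 (stepsUpto113) steps114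

theorem stepsUpto115 : ∀ i < 116000, stepOK cert i = true :=
  steps_add 115000 1000 (stepsUpto114) steps115

theorem stepsUpto116 : ∀ i < 117000, stepOK cert i = true :=
  steps_add 116000 1000 (stepsUpto115) steps116

theorem stepsUpto117 : ∀ i < 118000, stepOK cert i = true :=
  steps_add 117000 1000 (stepsUpto116) steps117

theorem stepsUpto118 : ∀ i < 119000, stepOK cert i = true :=
  steps_add 118000 1000 (stepsUpto117) steps118

theorem stepsUpto119 : ∀ i < 120000, stepOK cert i = true :=
  steps_add 119000 1000 (stepsUpto118) steps119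

theorem stepsUpto120 : ∀ i < 121000, stepOK cert i = true :=
  steps_add 120000 1000 (stepsUpto119) steps120

theorem stepsUpto121 : ∀ i < 122000, stepOK cert i = true :=
  steps_add 121000 1000 (stepsUpto120) steps121

theorem stepsUpto122 : ∀ i < 123000, stepOK cert i = true :=
  steps_add 122000 1000 (stepsUpto121) steps122

theorem stepsUpto123 : ∀ i < 124000, stepOK cert i = true :=
  steps_add 123000 1000 (stepsUpto122) steps123

theorem stepsUpto124 : ∀ i < 125000, stepOK cert i = true :=
  steps_add 124000 1000 (stepsUpto123) steps124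

theorem stepsUpto125 : ∀ i < 126000, stepOK cert i = true :=
  steps_add 125000 1000 (stepsUpto124) steps125

theorem stepsUpto126 : ∀ i < 127000, stepOK cert i = true :=
  steps_add 126000 1000 (stepsUpto125) steps126

theorem stepsUpto127 : ∀ i < 128000, stepOK cert i = true :=
  steps_add 127000 1000 (stepsUpto126) steps127

theorem stepsUpto128 : ∀ i < 129000, stepOK cert i = true :=
  steps_add 128000 1000 (stepsUpto127) steps128

theorem stepsUpto129 : ∀ i < 130000, stepOK cert i = true :=
  steps_add 129000 1000 (stepsUpto128) steps129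

theorem stepsUpto130 : ∀ i < 131000, stepOK cert i = true :=
  steps_add 130000 1000 (stepsUpto129) steps130

theorem stepsUpto131 : ∀ i < 132000, stepOK cert i = true :=
  steps_add 131000 1000 (stepsUpto130) steps131

theorem stepsUpto132 : ∀ i < 133000, stepOK cert i = true :=
  steps_add 132000 1000 (stepsUpto131) steps132

theorem stepsUpto133 : ∀ i < 134000, stepOK cert i = true :=
  steps_add 133000 1000 (stepsUpto132) steps133

theorem stepsUpto134 : ∀ i < 135000, stepOK cert i = true :=
  steps_add 134000 1000 (stepsUpto133) steps134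

theorem stepsUpto135 : ∀ i < 136000, stepOK cert i = true :=
  steps_add 135000 1000 (stepsUpto134) steps135

theorem stepsUpto136 : ∀ i < 137000, stepOK cert i = true :=
  steps_add 136000 1000 (stepsUpto135) steps136

theorem stepsUpto137 : ∀ i < 138000, stepOK cert i = true :=
  steps_add 137000 1000 (stepsUpto136) steps137

theorem stepsUpto138 : ∀ i < 139000, stepOK cert i = true :=
  steps_add 138000 1000 (stepsUpto137) steps138

theorem stepsUpto139 : ∀ i < 140000, stepOK cert i = true :=
  steps_add 139000 1000 (stepsUpto138) steps139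

theorem stepsUpto140 : ∀ i < 141000, stepOK cert i = true :=
  steps_add 140000 1000 (stepsUpto139) steps140

theorem stepsUpto141 : ∀ i < 142000, stepOK cert i = true :=
  steps_add 141000 1000 (stepsUpto140) steps141

theorem stepsUpto142 : ∀ i < 143000, stepOK cert i = true :=
  steps_add 142000 1000 (stepsUpto141) steps142

theorem stepsUpto143 : ∀ i < 144000, stepOK cert i = true :=
  steps_add 143000 1000 (stepsUpto142) steps143

theorem stepsUpto144 : ∀ i < 145000, stepOK cert i = true :=
  steps_add 144000 1000 (stepsUpto143) steps144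

theorem stepsUpto145 : ∀ i < 146000, stepOK cert i = true :=
  steps_add 145000 1000 (stepsUpto144) steps145

theorem stepsUpto146 : ∀ i < 147000, stepOK cert i = true :=
  steps_add 146000 1000 (stepsUpto145) steps146

theorem stepsUpto147 : ∀ i < 148000, stepOK cert i = true :=
  steps_add 147000 1000 (stepsUpto146) steps147

theorem stepsUpto148 : ∀ i < 149000, stepOK cert i = true :=
  steps_add 148000 1000 (stepsUpto147) steps148

theorem stepsUpto149 : ∀ i < 150000, stepOK cert i = true :=
  steps_add 149000 1000 (stepsUpto148) steps149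

theorem stepsUpto150 : ∀ i < 151000, stepOK cert i = true :=
  steps_add 150000 1000 (stepsUpto149) steps150

theorem stepsUpto151 : ∀ i < 152000, stepOK cert i = true :=
  steps_add 151000 1000 (stepsUpto150) steps151

theorem stepsUpto152 : ∀ i < 153000, stepOK cert i = true :=
  steps_add 152000 1000 (stepsUpto151) steps152

theorem stepsUpto153 : ∀ i < 154000, stepOK cert i = true :=
  steps_add 153000 1000 (stepsUpto152) steps153

theorem stepsUpto154 : ∀ i < 155000, stepOK cert i = true :=
  steps_add 154000 1000 (stepsUpto153) steps154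

theorem stepsUpto155 : ∀ i < 156000, stepOK cert i = true :=
  steps_add 155000 1000 (stepsUpto154) steps155

theorem stepsUpto156 : ∀ i < 157000, stepOK cert i = true :=
  steps_add 156000 1000 (stepsUpto155) steps156

theorem stepsUpto157 : ∀ i < 158000, stepOK cert i = true :=
  steps_add 157000 1000 (stepsUpto156) steps157

theorem stepsUpto158 : ∀ i < 159000, stepOK cert i = true :=
  steps_add 158000 1000 (stepsUpto157) steps158

theorem stepsUpto159 : ∀ i < 160000, stepOK cert i = true :=
  steps_add 159000 1000 (stepsUpto158) steps159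

theorem stepsUpto160 : ∀ i < 161000, stepOK cert i = true :=
  steps_add 160000 1000 (stepsUpto159) steps160

theorem stepsUpto161 : ∀ i < 162000, stepOK cert i = true :=
  steps_add 161000 1000 (stepsUpto160) steps161

theorem stepsUpto162 : ∀ i < 163000, stepOK cert i = true :=
  steps_add 162000 1000 (stepsUpto161) steps162

theorem stepsUpto163 : ∀ i < 164000, stepOK cert i = true :=
  steps_add 163000 1000 (stepsUpto162) steps163

theorem stepsUpto164 : ∀ i < 165000, stepOK cert i = true :=
  steps_add 164000 1000 (stepsUpto163) steps164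

theorem stepsUpto165 : ∀ i < 166000, stepOK cert i = true :=
  steps_add 165000 1000 (stepsUpto164) steps165

theorem stepsUpto166 : ∀ i < 167000, stepOK cert i = true :=
  steps_add 166000 1000 (stepsUpto165) steps166

theorem stepsUpto167 : ∀ i < 168000, stepOK cert i = true :=
  steps_add 167000 1000 (stepsUpto166) steps167

theorem stepsUpto168 : ∀ i < 169000, stepOK cert i = true :=
  steps_add 168000 1000 (stepsUpto167) steps168

theorem stepsUpto169 : ∀ i < 170000, stepOK cert i = true :=
  steps_add 169000 1000 (stepsUpto168) steps169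

theorem stepsUpto170 : ∀ i < 171000, stepOK cert i = true :=
  steps_add 170000 1000 (stepsUpto169) steps170

theorem stepsUpto171 : ∀ i < 172000, stepOK cert i = true :=
  steps_add 171000 1000 (stepsUpto170) steps171

theorem stepsUpto172 : ∀ i < 173000, stepOK cert i = true :=
  steps_add 172000 1000 (stepsUpto171) steps172

theorem stepsUpto173 : ∀ i < 174000, stepOK cert i = true :=
  steps_add 173000 1000 (stepsUpto172) steps173

theorem stepsUpto174 : ∀ i < 175000, stepOK cert i = true :=
  steps_add 174000 1000 (stepsUpto173) steps174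

theorem stepsUpto175 : ∀ i < 176000, stepOK cert i = true :=
  steps_add 175000 1000 (stepsUpto174) steps175

theorem stepsUpto176 : ∀ i < 176388, stepOK cert i = true :=
  steps_add 176000 388 (stepsUpto175) steps176

theorem edgesUpto0 : ∀ i < 500, ∀ x < table.C.K, EdgeAt table i x :=
  edges_add 0 500 (edges_zero table) edges0

theorem edgesUpto1 : ∀ i < 1000, ∀ x < table.C.K, EdgeAt table i x :=
  edges_add 500 500 (edgesUpto0) edges1

theorem edgesUpto2 : ∀ i < 1500, ∀ x < table.C.K, EdgeAt table i x :=
  edges_add 1000 500 (edgesUpto1) edges2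

theorem edgesUpto3 : ∀ i < 2000, ∀ x < table.C.K, EdgeAt table i x :=
  edges_add 1500 500 (edgesUpto2) edges3

theorem edgesUpto4 : ∀ i < 2500, ∀ x < table.C.K, EdgeAt table i x :=
  edges_add 2000 500 (edgesUpto3) edges4

theorem edgesUpto5 : ∀ i < 3000, ∀ x < table.C.K, EdgeAt table i x :=
  edges_add 2500 500 (edgesUpto4) edges5

theorem edgesUpto6 : ∀ i < 3500, ∀ x < table.C.K, EdgeAt table i x :=
  edges_add 3000 500 (edgesUpto5) edges6

theorem edgesUpto7 : ∀ i < 4000, ∀ x < table.C.K, EdgeAt table i x :=
  edges_add 3500 500 (edgesUpto6) edges7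

theorem edgesUpto8 : ∀ i < 4500, ∀ x < table.C.K, EdgeAt table i x :=
  edges_add 4000 500 (edgesUpto7) edges8

theorem edgesUpto9 : ∀ i < 5000, ∀ x < table.C.K, EdgeAt table i x :=
  edges_add 4500 500 (edgesUpto8) edges9

theorem edgesUpto10 : ∀ i < 5500, ∀ x < table.C.K, EdgeAt table i x :=
  edges_add 5000 500 (edgesUpto9) edges10

theorem edgesUpto11 : ∀ i < 6000, ∀ x < table.C.K, EdgeAt table i x :=
  edges_add 5500 500 (edgesUpto10) edges11

theorem edgesUpto12 : ∀ i < 6500, ∀ x < table.C.K, EdgeAt table i x :=
  edges_add 6000 500 (edgesUpto11) edges12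

theorem edgesUpto13 : ∀ i < 7000, ∀ x < table.C.K, EdgeAt table i x :=
  edges_add 6500 500 (edgesUpto12) edges13

theorem edgesUpto14 : ∀ i < 7500, ∀ x < table.C.K, EdgeAt table i x :=
  edges_add 7000 500 (edgesUpto13) edges14

theorem edgesUpto15 : ∀ i < 8000, ∀ x < table.C.K, EdgeAt table i x :=
  edges_add 7500 500 (edgesUpto14) edges15

theorem edgesUpto16 : ∀ i < 8500, ∀ x < table.C.K, EdgeAt table i x :=
  edges_add 8000 500 (edgesUpto15) edges16

theorem edgesUpto17 : ∀ i < 9000, ∀ x < table.C.K, EdgeAt table i x :=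
  edges_add 8500 500 (edgesUpto16) edges17

theorem edgesUpto18 : ∀ i < 9500, ∀ x < table.C.K, EdgeAt table i x :=
  edges_add 9000 500 (edgesUpto17) edges18

theorem edgesUpto19 : ∀ i < 10000, ∀ x < table.C.K, EdgeAt table i x :=
  edges_add 9500 500 (edgesUpto18) edges19

theorem edgesUpto20 : ∀ i < 10500, ∀ x < table.C.K, EdgeAt table i x :=
  edges_add 10000 500 (edgesUpto19) edges20

theorem edgesUpto21 : ∀ i < 11000, ∀ x < table.C.K, EdgeAt table i x :=
  edges_add 10500 500 (edgesUpto20) edges21

theorem edgesUpto22 : ∀ i < 11500, ∀ x < table.C.K, EdgeAt table i x :=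
  edges_add 11000 500 (edgesUpto21) edges22

theorem edgesUpto23 : ∀ i < 12000, ∀ x < table.C.K, EdgeAt table i x :=
  edges_add 11500 500 (edgesUpto22) edges23

theorem edgesUpto24 : ∀ i < 12500, ∀ x < table.C.K, EdgeAt table i x :=
  edges_add 12000 500 (edgesUpto23) edges24

theorem edgesUpto25 : ∀ i < 13000, ∀ x < table.C.K, EdgeAt table i x :=
  edges_add 12500 500 (edgesUpto24) edges25

theorem edgesUpto26 : ∀ i < 13500, ∀ x < table.C.K, EdgeAt table i x :=
  edges_add 13000 500 (edgesUpto25) edges26

theorem edgesUpto27 : ∀ i < 14000, ∀ x < table.C.K, EdgeAt table i x :=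
  edges_add 13500 500 (edgesUpto26) edges27

theorem edgesUpto28 : ∀ i < 14500, ∀ x < table.C.K, EdgeAt table i x :=
  edges_add 14000 500 (edgesUpto27) edges28

theorem edgesUpto29 : ∀ i < 15000, ∀ x < table.C.K, EdgeAt table i x :=
  edges_add 14500 500 (edgesUpto28) edges29

theorem edgesUpto30 : ∀ i < 15500, ∀ x < table.C.K, EdgeAt table i x :=
  edges_add 15000 500 (edgesUpto29) edges30

theorem edgesUpto31 : ∀ i < 16000, ∀ x < table.C.K, EdgeAt table i x :=
  edges_add 15500 500 (edgesUpto30) edges31

theorem edgesUpto32 : ∀ i < 16500, ∀ x < table.C.K, EdgeAt table i x :=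
  edges_add 16000 500 (edgesUpto31) edges32

theorem edgesUpto33 : ∀ i < 17000, ∀ x < table.C.K, EdgeAt table i x :=
  edges_add 16500 500 (edgesUpto32) edges33

theorem edgesUpto34 : ∀ i < 17500, ∀ x < table.C.K, EdgeAt table i x :=
  edges_add 17000 500 (edgesUpto33) edges34

theorem edgesUpto35 : ∀ i < 18000, ∀ x < table.C.K, EdgeAt table i x :=
  edges_add 17500 500 (edgesUpto34) edges35

theorem edgesUpto36 : ∀ i < 18500, ∀ x < table.C.K, EdgeAt table i x :=
  edges_add 18000 500 (edgesUpto35) edges36

theorem edgesUpto37 : ∀ i < 19000, ∀ x < table.C.K, EdgeAt table i x :=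
  edges_add 18500 500 (edgesUpto36) edges37

theorem edgesUpto38 : ∀ i < 19500, ∀ x < table.C.K, EdgeAt table i x :=
  edges_add 19000 500 (edgesUpto37) edges38

theorem edgesUpto39 : ∀ i < 20000, ∀ x < table.C.K, EdgeAt table i x :=
  edges_add 19500 500 (edgesUpto38) edges39

theorem edgesUpto40 : ∀ i < 20500, ∀ x < table.C.K, EdgeAt table i x :=
  edges_add 20000 500 (edgesUpto39) edges40

theorem edgesUpto41 : ∀ i < 21000, ∀ x < table.C.K, EdgeAt table i x :=
  edges_add 20500 500 (edgesUpto40) edges41

theorem edgesUpto42 : ∀ i < 21500, ∀ x < table.C.K, EdgeAt table i x :=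
  edges_add 21000 500 (edgesUpto41) edges42

theorem edgesUpto43 : ∀ i < 22000, ∀ x < table.C.K, EdgeAt table i x :=
  edges_add 21500 500 (edgesUpto42) edges43

theorem edgesUpto44 : ∀ i < 22500, ∀ x < table.C.K, EdgeAt table i x :=
  edges_add 22000 500 (edgesUpto43) edges44

theorem edgesUpto45 : ∀ i < 23000, ∀ x < table.C.K, EdgeAt table i x :=
  edges_add 22500 500 (edgesUpto44) edges45

theorem edgesUpto46 : ∀ i < 23500, ∀ x < table.C.K, EdgeAt table i x :=
  edges_add 23000 500 (edgesUpto45) edges46

theorem edgesUpto47 : ∀ i < 24000, ∀ x < table.C.K, EdgeAt table i x :=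
  edges_add 23500 500 (edgesUpto46) edges47

theorem edgesUpto48 : ∀ i < 24500, ∀ x < table.C.K, EdgeAt table i x :=
  edges_add 24000 500 (edgesUpto47) edges48

theorem edgesUpto49 : ∀ i < 25000, ∀ x < table.C.K, EdgeAt table i x :=
  edges_add 24500 500 (edgesUpto48) edges49

theorem edgesUpto50 : ∀ i < 25500, ∀ x < table.C.K, EdgeAt table i x :=
  edges_add 25000 500 (edgesUpto49) edges50

theorem edgesUpto51 : ∀ i < 26000, ∀ x < table.C.K, EdgeAt table i x :=
  edges_add 25500 500 (edgesUpto50) edges51

theorem edgesUpto52 : ∀ i < 26500, ∀ x < table.C.K, EdgeAt table i x :=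
  edges_add 26000 500 (edgesUpto51) edges52

theorem edgesUpto53 : ∀ i < 27000, ∀ x < table.C.K, EdgeAt table i x :=
  edges_add 26500 500 (edgesUpto52) edges53

theorem edgesUpto54 : ∀ i < 27500, ∀ x < table.C.K, EdgeAt table i x :=
  edges_add 27000 500 (edgesUpto53) edges54

theorem edgesUpto55 : ∀ i < 28000, ∀ x < table.C.K, EdgeAt table i x :=
  edges_add 27500 500 (edgesUpto54) edges55

theorem edgesUpto56 : ∀ i < 28500, ∀ x < table.C.K, EdgeAt table i x :=
  edges_add 28000 500 (edgesUpto55) edges56

theorem edgesUpto57 : ∀ i < 29000, ∀ x < table.C.K, EdgeAt table i x :=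
  edges_add 28500 500 (edgesUpto56) edges57

theorem edgesUpto58 : ∀ i < 29500, ∀ x < table.C.K, EdgeAt table i x :=
  edges_add 29000 500 (edgesUpto57) edges58

theorem edgesUpto59 : ∀ i < 30000, ∀ x < table.C.K, EdgeAt table i x :=
  edges_add 29500 500 (edgesUpto58) edges59

theorem edgesUpto60 : ∀ i < 30500, ∀ x < table.C.K, EdgeAt table i x :=
  edges_add 30000 500 (edgesUpto59) edges60

theorem edgesUpto61 : ∀ i < 31000, ∀ x < table.C.K, EdgeAt table i x :=
  edges_add 30500 500 (edgesUpto60) edges61

theorem edgesUpto62 : ∀ i < 31500, ∀ x < table.C.K, EdgeAt table i x :=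
  edges_add 31000 500 (edgesUpto61) edges62

theorem edgesUpto63 : ∀ i < 32000, ∀ x < table.C.K, EdgeAt table i x :=
  edges_add 31500 500 (edgesUpto62) edges63

theorem edgesUpto64 : ∀ i < 32500, ∀ x < table.C.K, EdgeAt table i x :=
  edges_add 32000 500 (edgesUpto63) edges64

theorem edgesUpto65 : ∀ i < 33000, ∀ x < table.C.K, EdgeAt table i x :=
  edges_add 32500 500 (edgesUpto64) edges65

theorem edgesUpto66 : ∀ i < 33500, ∀ x < table.C.K, EdgeAt table i x :=
  edges_add 33000 500 (edgesUpto65) edges66

theorem edgesUpto67 : ∀ i < 34000, ∀ x < table.C.K, EdgeAt table i x :=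
  edges_add 33500 500 (edgesUpto66) edges67

theorem edgesUpto68 : ∀ i < 34500, ∀ x < table.C.K, EdgeAt table i x :=
  edges_add 34000 500 (edgesUpto67) edges68

theorem edgesUpto69 : ∀ i < 35000, ∀ x < table.C.K, EdgeAt table i x :=
  edges_add 34500 500 (edgesUpto68) edges69

theorem edgesUpto70 : ∀ i < 35500, ∀ x < table.C.K, EdgeAt table i x :=
  edges_add 35000 500 (edgesUpto69) edges70

theorem edgesUpto71 : ∀ i < 36000, ∀ x < table.C.K, EdgeAt table i x :=
  edges_add 35500 500 (edgesUpto70) edges71

theorem edgesUpto72 : ∀ i < 36500, ∀ x < table.C.K, EdgeAt table i x :=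
  edges_add 36000 500 (edgesUpto71) edges72

theorem edgesUpto73 : ∀ i < 37000, ∀ x < table.C.K, EdgeAt table i x :=
  edges_add 36500 500 (edgesUpto72) edges73

theorem edgesUpto74 : ∀ i < 37500, ∀ x < table.C.K, EdgeAt table i x :=
  edges_add 37000 500 (edgesUpto73) edges74

theorem edgesUpto75 : ∀ i < 38000, ∀ x < table.C.K, EdgeAt table i x :=
  edges_add 37500 500 (edgesUpto74) edges75

theorem edgesUpto76 : ∀ i < 38500, ∀ x < table.C.K, EdgeAt table i x :=
  edges_add 38000 500 (edgesUpto75) edges76

theorem edgesUpto77 : ∀ i < 39000, ∀ x < table.C.K, EdgeAt table i x :=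
  edges_add 38500 500 (edgesUpto76) edges77

theorem edgesUpto78 : ∀ i < 39500, ∀ x < table.C.K, EdgeAt table i x :=
  edges_add 39000 500 (edgesUpto77) edges78

theorem edgesUpto79 : ∀ i < 40000, ∀ x < table.C.K, EdgeAt table i x :=
  edges_add 39500 500 (edgesUpto78) edges79

theorem edgesUpto80 : ∀ i < 40500, ∀ x < table.C.K, EdgeAt table i x :=
  edges_add 40000 500 (edgesUpto79) edges80

theorem edgesUpto81 : ∀ i < 41000, ∀ x < table.C.K, EdgeAt table i x :=
  edges_add 40500 500 (edgesUpto80) edges81

theorem edgesUpto82 : ∀ i < 41500, ∀ x < table.C.K, EdgeAt table i x :=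
  edges_add 41000 500 (edgesUpto81) edges82

theorem edgesUpto83 : ∀ i < 42000, ∀ x < table.C.K, EdgeAt table i x :=
  edges_add 41500 500 (edgesUpto82) edges83

theorem edgesUpto84 : ∀ i < 42500, ∀ x < table.C.K, EdgeAt table i x :=
  edges_add 42000 500 (edgesUpto83) edges84

theorem edgesUpto85 : ∀ i < 43000, ∀ x < table.C.K, EdgeAt table i x :=
  edges_add 42500 500 (edgesUpto84) edges85

theorem edgesUpto86 : ∀ i < 43500, ∀ x < table.C.K, EdgeAt table i x :=
  edges_add 43000 500 (edgesUpto85) edges86

theorem edgesUpto87 : ∀ i < 44000, ∀ x < table.C.K, EdgeAt table i x :=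
  edges_add 43500 500 (edgesUpto86) edges87

theorem edgesUpto88 : ∀ i < 44500, ∀ x < table.C.K, EdgeAt table i x :=
  edges_add 44000 500 (edgesUpto87) edges88

theorem edgesUpto89 : ∀ i < 45000, ∀ x < table.C.K, EdgeAt table i x :=
  edges_add 44500 500 (edgesUpto88) edges89

theorem edgesUpto90 : ∀ i < 45500, ∀ x < table.C.K, EdgeAt table i x :=
  edges_add 45000 500 (edgesUpto89) edges90

theorem edgesUpto91 : ∀ i < 46000, ∀ x < table.C.K, EdgeAt table i x :=
  edges_add 45500 500 (edgesUpto90) edges91

theorem edgesUpto92 : ∀ i < 46500, ∀ x < table.C.K, EdgeAt table i x :=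
  edges_add 46000 500 (edgesUpto91) edges92

theorem edgesUpto93 : ∀ i < 47000, ∀ x < table.C.K, EdgeAt table i x :=
  edges_add 46500 500 (edgesUpto92) edges93

theorem edgesUpto94 : ∀ i < 47500, ∀ x < table.C.K, EdgeAt table i x :=
  edges_add 47000 500 (edgesUpto93) edges94

theorem edgesUpto95 : ∀ i < 48000, ∀ x < table.C.K, EdgeAt table i x :=
  edges_add 47500 500 (edgesUpto94) edges95

theorem edgesUpto96 : ∀ i < 48500, ∀ x < table.C.K, EdgeAt table i x :=
  edges_add 48000 500 (edgesUpto95) edges96

theorem edgesUpto97 : ∀ i < 49000, ∀ x < table.C.K, EdgeAt table i x :=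
  edges_add 48500 500 (edgesUpto96) edges97

theorem edgesUpto98 : ∀ i < 49500, ∀ x < table.C.K, EdgeAt table i x :=
  edges_add 49000 500 (edgesUpto97) edges98

theorem edgesUpto99 : ∀ i < 49980, ∀ x < table.C.K, EdgeAt table i x :=
  edges_add 49500 480 (edgesUpto98) edges99

theorem closed : Closed table where
  start := by decide +kernel
  steps := stepsUpto176
  cells := edgesUpto99
  root := by decide +kernel
  pos := by decide +kernel


end Cfsg.Agent.InvChar.Coset.HeNine
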