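import Cfsg.Agent.InvChar.Coset.HeIndex
import Cfsg.Agent.InvChar.Coset.HeCde
import Cfsg.Agent.InvChar.Coset.He120Check
import Cfsg.Agent.InvChar.Coset.He672Check
import Cfsg.Agent.InvChar.Coset.HeNineCheck
import Cfsg.Agent.InvChar.Coset.HeLevels

/-!
# The order and the simplicity of the presented Held group
-/

set_option autoImplicit false
set_option linter.all false

noncomputable section

namespace Cfsg.Agent.InvChar.Coset.He

open Cfsg.Agent.CosetCert

/-- The relators together with a consequence of them. -/
noncomputable def relCde : List (List ℕ) := table.C.W ++ [[4, 3, 2, 4, 3, 2, 4, 3, 2, 4, 3, 2, 4, 3, 2]]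

theorem gen_relCde : ∀ w ∈ relCde, wprod data.gen w = 1 := by
  intro w hw
  rcases List.mem_append.mp hw with hw | hw
  · exact data.gen_rel w hw
  rw [List.mem_singleton] at hw
  subst hw
  have hV : ∀ v ∈ HeCde.cert.W, wprod data.gen v = 1 := by
    intro v hv
    apply data.gen_rel
    revert v
    decide +kernel
  have h := HeCde.loop
  rw [Option.map_eq_some_iff] at h
  obtain ⟨⟨c, v, b⟩, hwalk, he⟩ := h
  simp only [Prod.mk.injEq] at he
  obtain ⟨rfl, rfl⟩ := he
  exact word_trivial HeCde.start HeCde.steps_ok data.gen data.gen_sq hV rfl _ _ hwalk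

theorem bdd_top : Bdd (⊤ : Subgroup Cfsg.Spor.He) (49980 * (672 * (120 * 1))) := by
  have hV := gen_relCde
  have h0 : Bdd (subg data.gen ([].map (nthNat [0, 2, 3, 4]))) 1 := bdd_subg_nil data.gen
  have h1 := bdd_subg He120.closed data.gen data.gen_sq relCde hV [0, 2, 3, 4] [] (by decide +kernel)
    (by decide +kernel) (by decide +kernel) (by decide +kernel) (by decide +kernel) h0
  have h2 := bdd_subg He672.closed data.gen data.gen_sq relCde hV [0, 2, 3, 4, 5, 6] [0, 1, 2, 3] (by decide +kernel)
    (by decide +kernel) (by decide +kernel) (by decide +kernel) (by decide +kernel) h1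
  have h3 := bdd_subg HeNine.closed data.gen data.gen_sq relCde hV [0, 1, 2, 3, 4, 5, 6] [0, 2, 3, 4, 5, 6]
    (by decide +kernel) (by decide +kernel) (by decide +kernel) (by decide +kernel) (by decide +kernel) h2
  have hl : ∀ x < table.C.K, x ∈ [0, 1, 2, 3, 4, 5, 6] := by decide +kernel
  exact Bdd.top_of_gen data.gen_top hl h3

theorem prim : Prim table orbits := by
  refine Prim.mk' orbits_ok [1, 1360, 425, 136, 136] ?_ ?_ ?_ ?_ ?_
  · decide +kernel
  · decide +kernel
  · decide +kernel
  · decide +kernel
  · decide +kernel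

theorem simple_and_card : IsSimpleGroup Cfsg.Spor.He ∧ Nat.card Cfsg.Spor.He = 4030387200 := by
  have h := order_simple checked prim data.gen (data.hom checked) (data.hom_gen checked) data.gen_sq data.gen_rel
    data.gen_top (H := Subgroup.closure (wprod data.gen '' {w | w ∈ table.C.S})) rfl bdd_top levels
    (by decide +kernel) levels_ok (levels_prod.trans (by norm_num)) (p := 7) (by norm_num) (by decide +kernel)
    (by decide +kernel) roots cover roots_ok cover_ok
  exact ⟨h.1, h.2.1.trans (by norm_num)⟩

end Cfsg.Agent.InvChar.Coset.He
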