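import Cfsg.Agent.InvChar.Coset.HeOutDefs

/-!
# Computations for the automorphisms of the presented Held group
-/

set_option autoImplicit false
set_option linter.all false
set_option maxRecDepth 200000
set_option maxHeartbeats 4000000
set_option Elab.async false

noncomputable section

namespace Cfsg.Agent.InvChar.Coset.HeOut

open Cfsg.Agent.CosetCert Cfsg.Agent.InvChar.Coset.AutCert

theorem base_lt : allB (fun b => Nat.blt b T.n) baseL = true ∧ chain.map Prod.fst = baseL ∧
    chainProd chain = 4030387200 := by decide +kernel

theorem chain_ok : chainOK T chain [] = true := by decide +kernel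

theorem gensE_comm : commutesWith 4 gensE = true ∧ Nat.beq gensE.length 8 = true := by decide +kernel

theorem gensE_conj : scan (fun k =>
    eqW T baseL (getWord gensE k) (conjW [4, 3] (getWord HeCent.cWords k))) 8 = true := by decide +kernel

theorem conj_four : eqW T baseL (conjW [4, 3] [3]) [4] = true := by decide +kernel

theorem subs_ok : subsOK gensH idxH = true ∧ subsOK gensP idxP = true := by decide +kernel

theorem gensH_comm : commutesWith 0 gensH = true := by decide +kernel

theorem gensA_comm : commutesWith 0 gensA = true ∧ allB (fun h => allB (lettersOK 7) [h]) gensA = true ∧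
    prefixB gensH gensA = true := by decide +kernel

theorem distinct_H : elH 0 = [] ∧ ascRange elH 1 510 = true ∧ AutCert.scan (fun i => movW T baseL (elH (i + 1))) 511 = true := by decide +kernel

theorem distinct_P : elP 0 = [] ∧ ascRange elP 1 1022 = true ∧ AutCert.scan (fun i => movW T baseL (elP (i + 1))) 1023 = true := by decide +kernel

theorem orbA_ok : orbitRange T baseL [0] trA 0 41 = true := by decide +kernel

theorem orbE_ok : orbitRange T baseL [4] trE 0 314 = true := by decide +kernel

theorem four_mem : candsD.any (fun w => eqW T baseL w [4]) = true := by decide +kernel

theorem cands_letters : allB (lettersOK 7) candsA = true ∧ allB (lettersOK 7) candsB = true ∧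
    allB (lettersOK 7) candsD = true := by decide +kernel

theorem step_one : scanReps T baseL level1 [[[4]]] 0 = true := by decide +kernel

theorem step_two : scanReps T baseL level2 reps1 0 = true := by decide +kernel

theorem step_three : scanReps T baseL level3 reps2 0 = true := by decide +kernel

theorem step_four : scanReps T baseL level4 reps3 0 = true := by decide +kernel

theorem step_five : scanReps T baseL level5 reps4 0 = true := by decide +kernel

theorem step_six : scanReps T baseL level6 reps5 0 = true := by decide +kernel

theorem shapes : shape [[[4]]] 1 = true ∧ shape reps1 2 = true ∧ shape reps2 3 = true ∧ shape reps3 4 = true ∧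
    shape reps4 5 = true ∧ shape reps5 6 = true := by decide +kernel

theorem rels_true : relsTrue level1 1 = true ∧ relsTrue level2 2 = true ∧ relsTrue level3 3 = true ∧
    relsTrue level4 4 = true ∧ relsTrue level5 5 = true ∧ relsTrue level6 6 = true := by decide +kernel

theorem finals_ok : (reps6.all fun P => decide (P = slotWords) ||
    decide (P = [4, 0, 1, 2, 5, 6, 3].map (getWord otherWords))) = true := by decide +kernel

theorem other_ok : allB (fun w => fixW T baseL (subW otherWords w)) T.C.W = true ∧
    allB (fun w => lettersOK 7 w && fixW T baseL (w ++ w)) otherWords = true ∧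
    getWord otherWords 0 = [0] ∧ getWord otherWords 1 = [1] ∧ getWord otherWords 4 = [4] := by decide +kernel

theorem apart_ok : AutCert.scan (fun i => apart (elH i)) 512 = true := by decide +kernel

theorem gen_classes : (([1, 2].all fun l => candsA.any fun w => eqW T baseL w [l]) &&
    ([5, 6].all fun l => candsB.any fun w => eqW T baseL w [l])) = true := by decide +kernel

end Cfsg.Agent.InvChar.Coset.HeOut
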