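import Cfsg.Agent.InvChar.Coset.HeOutDefs

/-!
# Computations for the automorphisms of the presented Held group
-/

set_option autoImplicit false
set_option linter.all false
set_option maxRecDepth 200000
set_option maxHeartbeats 4000000
set_option Elab.async false

noncomputable section

namespace Cfsg.Agent.InvChar.Coset.HeOut

open Cfsg.Agent.CosetCert Cfsg.Agent.InvChar.Coset.AutCert

theorem classA_ok0 : orbitRange T baseL [0] classA 0 1000 = true := by decide +kernel

theorem classA_ok1 : orbitRange T baseL [0] classA 1000 1000 = true := by decide +kernel

theorem classA_ok2 : orbitRange T baseL [0] classA 2000 1000 = true := by decide +kernel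

theorem classA_ok3 : orbitRange T baseL [0] classA 3000 1000 = true := by decide +kernel

theorem classA_ok4 : orbitRange T baseL [0] classA 4000 1000 = true := by decide +kernel

theorem classA_ok5 : orbitRange T baseL [0] classA 5000 1000 = true := by decide +kernel

theorem classA_ok6 : orbitRange T baseL [0] classA 6000 1000 = true := by decide +kernel

theorem classA_ok7 : orbitRange T baseL [0] classA 7000 1000 = true := by decide +kernel

theorem classA_ok8 : orbitRange T baseL [0] classA 8000 1000 = true := by decide +kernel

theorem classA_ok9 : orbitRange T baseL [0] classA 9000 1000 = true := by decide +kernel

theorem classA_ok10 : orbitRange T baseL [0] classA 10000 1000 = true := by decide +kernel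

theorem classA_ok11 : orbitRange T baseL [0] classA 11000 1000 = true := by decide +kernel

theorem classA_ok12 : orbitRange T baseL [0] classA 12000 1000 = true := by decide +kernel

theorem classA_ok13 : orbitRange T baseL [0] classA 13000 1000 = true := by decide +kernel

theorem classA_ok14 : orbitRange T baseL [0] classA 14000 1000 = true := by decide +kernel

theorem classA_ok15 : orbitRange T baseL [0] classA 15000 1000 = true := by decide +kernel

theorem classA_ok16 : orbitRange T baseL [0] classA 16000 1000 = true := by decide +kernel

theorem classA_ok17 : orbitRange T baseL [0] classA 17000 1000 = true := by decide +kernel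

theorem classA_ok18 : orbitRange T baseL [0] classA 18000 1000 = true := by decide +kernel

theorem classA_ok19 : orbitRange T baseL [0] classA 19000 1000 = true := by decide +kernel

theorem classA_ok20 : orbitRange T baseL [0] classA 20000 1000 = true := by decide +kernel

theorem classA_ok21 : orbitRange T baseL [0] classA 21000 1000 = true := by decide +kernel

theorem classA_ok22 : orbitRange T baseL [0] classA 22000 1000 = true := by decide +kernel

theorem classA_ok23 : orbitRange T baseL [0] classA 23000 1000 = true := by decide +kernel

theorem classA_ok24 : orbitRange T baseL [0] classA 24000 989 = true := by decide +kernel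

end Cfsg.Agent.InvChar.Coset.HeOut
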