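import Cfsg.Agent.InvChar.Coset.HeOutDefs

/-!
# Computations for the automorphisms of the presented Held group
-/

set_option autoImplicit false
set_option linter.all false
set_option maxRecDepth 200000
set_option maxHeartbeats 4000000
set_option Elab.async false

noncomputable section

namespace Cfsg.Agent.InvChar.Coset.HeOut

open Cfsg.Agent.CosetCert Cfsg.Agent.InvChar.Coset.AutCert

theorem mulH_ok0 : closedMul T baseL gensH elH 512 mulH 0 256 = true := by decide +kernel

theorem mulH_ok1 : closedMul T baseL gensH elH 512 mulH 256 256 = true := by decide +kernel

theorem mulP_ok0 : closedMul T baseL gensP elP 1024 mulP 0 256 = true := by decide +kernel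

theorem mulP_ok1 : closedMul T baseL gensP elP 1024 mulP 256 256 = true := by decide +kernel

theorem mulP_ok2 : closedMul T baseL gensP elP 1024 mulP 512 256 = true := by decide +kernel

theorem mulP_ok3 : closedMul T baseL gensP elP 1024 mulP 768 256 = true := by decide +kernel

theorem conjL_ok0 : closedConj T baseL gensE listL 575 conjL 0 100 = true := by decide +kernel

theorem conjL_ok1 : closedConj T baseL gensE listL 575 conjL 100 100 = true := by decide +kernel

theorem conjL_ok2 : closedConj T baseL gensE listL 575 conjL 200 100 = true := by decide +kernel

theorem conjL_ok3 : closedConj T baseL gensE listL 575 conjL 300 100 = true := by decide +kernel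

theorem conjL_ok4 : closedConj T baseL gensE listL 575 conjL 400 100 = true := by decide +kernel

theorem conjL_ok5 : closedConj T baseL gensE listL 575 conjL 500 75 = true := by decide +kernel

theorem conjD_ok0 : closedConj T baseL gensA candD 315 conjD 0 105 = true := by decide +kernel

theorem conjD_ok1 : closedConj T baseL gensA candD 315 conjD 105 105 = true := by decide +kernel

theorem conjD_ok2 : closedConj T baseL gensA candD 315 conjD 210 105 = true := by decide +kernel

theorem witP_ok : scan witOne 1024 = true := by decide +kernel

end Cfsg.Agent.InvChar.Coset.HeOut
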