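import Cfsg.Agent.InvChar.Coset.HeCentIso
import Cfsg.Agent.InvChar.Coset.HeOutClass
import Cfsg.Agent.InvChar.Coset.HeOutClosure
import Cfsg.Agent.InvChar.Coset.HeOutCheck
import Cfsg.Prelude.Def_KGroupFacts

/-!
# The outer automorphism group of the presented Held group has order two

The two classes of involutions are separated by their centralisers, so an automorphism may be normalised to fix the
generator `e`; the images of the other generators are then found by a search inside the centraliser of `e`.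
-/

set_option autoImplicit false
set_option linter.all false
set_option maxRecDepth 100000

noncomputable section

namespace Cfsg.Agent.InvChar.Coset.HeOut

open Cfsg.Agent.CosetCert Cfsg.Agent.InvChar.Coset.AutCert

abbrev GG : Type := Cfsg.Spor.He

abbrev gen : ℕ → GG := He.data.gen

abbrev φ : GG →* Equiv.Perm (Fin T.n) := He.data.hom He.checked

abbrev el (w : List ℕ) : GG := wprod gen w

theorem hφ : ∀ x, φ (gen x) = tau He.checked x := He.data.hom_gen He.checked

theorem hsq : ∀ x, gen x * gen x = 1 := He.data.gen_sq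

theorem K_eq : T.C.K = 7 := by decide +kernel

instance finite_GG : Finite GG := Nat.finite_of_card_ne_zero (by rw [He.simple_and_card.2]; norm_num)

theorem hBn : ∀ b ∈ baseL, b < T.n := fun b hb => by
  simpa [Nat.blt_eq] using allB_iff.mp base_lt.1 b hb

/-- The pointwise stabiliser of the base. -/
def baseStab : Subgroup GG where
  carrier := {g | ∀ b ∈ baseL, ∀ hb : b < T.n, φ g ⟨b, hb⟩ = ⟨b, hb⟩}
  one_mem' b _ hb := by rw [map_one]; rfl
  mul_mem' ha hc b hb hb' := by rw [map_mul, Equiv.Perm.mul_apply, hc b hb hb', ha b hb hb']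
  inv_mem' ha b hb hb' := by rw [map_inv, Equiv.Perm.inv_eq_iff_eq, ha b hb hb']

theorem hB : ∀ g : GG, (∀ b ∈ baseL, ∀ hb : b < T.n, φ g ⟨b, hb⟩ = ⟨b, hb⟩) → g = 1 := by
  intro g hg
  have h := chain_le He.checked gen φ hφ chain [] ⊤ chain_ok (fun x _ => Subgroup.mem_top x)
    (fun x _ b hb => absurd hb (by simp)) baseStab (fun x hx b hb => hx b (by rwa [List.nil_append, base_lt.2.1] at hb))
  rw [base_lt.2.2, Subgroup.card_top, He.simple_and_card.2] at h
  have h1 : Nat.card baseStab = 1 := by
    have h2 : 0 < Nat.card baseStab := Nat.card_pos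
    nlinarith
  have : g ∈ baseStab := hg
  rw [Subgroup.eq_bot_of_card_eq _ h1, Subgroup.mem_bot] at this
  exact this

theorem eq_of {u w : List ℕ} (h : eqW T baseL u w = true) : el u = el w :=
  eqW_spec He.checked gen φ hφ hsq hBn hB h

theorem one_of {w : List ℕ} (h : fixW T baseL w = true) : el w = 1 :=
  fixW_spec He.checked gen φ hφ hsq hBn hB h

theorem ne_one_of {w : List ℕ} (h : movW T baseL w = true) : el w ≠ 1 :=
  movW_spec He.checked gen φ hφ hBn h

theorem el_conj (t x : List ℕ) : el (conjW t x) = el t * el x * (el t)⁻¹ := el_conjW gen hsq t x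

theorem el_single (l : ℕ) : el [l] = gen l := one_mul _

theorem eqW_of_eq {u w : List ℕ} (hu : lettersOK 7 u = true) (hw : lettersOK 7 w = true) (e : el u = el w) :
    eqW T baseL u w = true := by
  simp only [eqW, K_eq, hu, hw, Bool.true_and, allB_iff]
  intro b hb
  rw [Nat.beq_eq, ← phi_el He.checked gen φ hφ (K_eq ▸ hu) ⟨b, hBn b hb⟩, show wprod gen u = wprod gen w from e,
    phi_el He.checked gen φ hφ (K_eq ▸ hw) ⟨b, hBn b hb⟩]

/-- The subgroup generated by the elements of a list of words. -/
abbrev clo (gens : List (List ℕ)) : Subgroup GG :=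
  Subgroup.closure {p : GG | ∃ k < gens.length, p = wprod gen (getWord gens k)}

theorem getWord_clo (gens : List (List ℕ)) {k : ℕ} (hk : k < gens.length) : el (getWord gens k) ∈ clo gens :=
  Subgroup.subset_closure ⟨k, hk, rfl⟩

theorem sub_clo (gens : List (List ℕ)) (w : List ℕ) : el (subW gens w) ∈ clo gens :=
  el_subW_mem gen gens _ (fun k hk => getWord_clo gens hk) w

theorem clo_le {gens : List (List ℕ)} {K : Subgroup GG} (h : ∀ w ∈ gens, el w ∈ K) : clo gens ≤ K := by
  rw [Subgroup.closure_le]
  rintro _ ⟨k, hk, rfl⟩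
  exact h _ (getWord_mem_lt hk)

abbrev ea : GG := el [0]

abbrev ee : GG := el [4]

abbrev Ca : Subgroup GG := Subgroup.centralizer ({ea} : Set GG)

abbrev Ce : Subgroup GG := Subgroup.centralizer ({ee} : Set GG)

theorem comm_of {c : ℕ} {gens : List (List ℕ)} (h : commutesWith c gens = true) {w : List ℕ} (hw : w ∈ gens) :
    el w ∈ Subgroup.centralizer ({el [c]} : Set GG) := by
  have := eq_of (allB_iff.mp h w hw)
  simp only [el, CosetCert.wprod_append] at this
  rw [Subgroup.mem_centralizer_singleton_iff]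
  exact this

theorem sub_le {gens idx : List (List ℕ)} (h : subsOK gens idx = true) : clo gens ≤ clo gensE := by
  simp only [subsOK, Bool.and_eq_true, Nat.beq_eq] at h
  refine Subgroup.closure_le (clo gensE) |>.mpr ?_
  rintro _ ⟨k, hk, rfl⟩
  have h1 := AutCert.scan_spec _ h.2 k hk
  simp only [Bool.and_eq_true] at h1
  have h2 := sub_clo gensE (getWord idx k)
  rw [eq_of h1.2] at h2
  exact h2

/-- Distinct elements of a subgroup. -/
theorem card_list {f : ℕ → List ℕ} {n : ℕ} {K : Subgroup GG} (h0 : f 0 = [])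
    (ha : ascRange f 1 (n - 2) = true) (hm : AutCert.scan (fun i => movW T baseL (f (i + 1))) (n - 1) = true)
    (hn : 3 ≤ n) (hK : ∀ i < n, el (f i) ∈ K) : n ≤ Nat.card K := by
  have hs : ∀ i, 1 ≤ i → i + 1 < n → lettersOK 7 (f i) = true ∧ lettersOK 7 (f (i + 1)) = true ∧
      AutCert.code T (f i) baseL < AutCert.code T (f (i + 1)) baseL := fun i h1 h2 => by
    have := AutCert.scan_spec _ ha (i - 1) (by omega)
    rw [Nat.add_sub_cancel' h1] at this
    simpa [Nat.blt_eq, and_assoc] using this
  have hmono : ∀ i j, 1 ≤ i → i < j → j < n → AutCert.code T (f i) baseL < AutCert.code T (f j) baseL := by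
    intro i j h1 hij
    induction j with
    | zero => omega
    | succ j ih =>
      intro hj
      rcases Nat.lt_succ_iff_lt_or_eq.mp hij with e | rfl
      · exact (ih e (by omega)).trans (hs j (by omega) hj).2.2
      · exact (hs i h1 hj).2.2
  have hlet : ∀ i, 1 ≤ i → i < n → lettersOK 7 (f i) = true := fun i h1 h2 => by
    rcases Nat.eq_or_lt_of_le h1 with e | e
    · exact (hs i h1 (by omega)).1
    · obtain ⟨j, rfl⟩ : ∃ j, i = j + 1 := ⟨i - 1, by omega⟩
      exact (hs j (by omega) h2).2.1
  have hne : ∀ i, 1 ≤ i → i < n → el (f i) ≠ 1 := fun i h1 h2 => by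
    have := AutCert.scan_spec _ hm (i - 1) (by omega)
    rw [Nat.sub_add_cancel h1] at this
    exact ne_one_of this
  rw [← Nat.card_fin n]
  refine Nat.card_le_card_of_injective (fun i : Fin n => (⟨el (f i), hK i i.2⟩ : K)) fun i j e => ?_
  have e1 : el (f i) = el (f j) := congrArg Subtype.val e
  refine Fin.ext ?_
  rcases Nat.eq_zero_or_pos (i : ℕ) with hi | hi <;> rcases Nat.eq_zero_or_pos (j : ℕ) with hj | hj
  · rw [hi, hj]
  · rw [hi, h0] at e1; exact absurd e1.symm (hne j hj j.2)
  · rw [hj, h0] at e1; exact absurd e1 (hne i hi i.2)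
  · have hc := code_eq He.checked gen φ hφ hBn (K_eq ▸ hlet i hi i.2) (K_eq ▸ hlet j hj j.2) e1
    rcases lt_trichotomy (i : ℕ) j with hij | hij | hij
    · exact absurd hc (hmono i j hi hij j.2).ne
    · exact hij
    · exact absurd hc (hmono j i hj hij i.2).ne'

theorem gensH_le : clo gensH ≤ Ce ⊓ Ca :=
  le_inf ((sub_le subs_ok.1).trans (clo_le fun w hw => comm_of gensE_comm.1 hw))
    (clo_le fun w hw => comm_of gensH_comm hw)

theorem prefix_length : ∀ {l m : List (List ℕ)}, prefixB l m = true → l.length ≤ m.length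
  | [], m, _ => Nat.zero_le _
  | _ :: _, [], h => by simp [prefixB] at h
  | a :: l, b :: m, h => by
    simp only [prefixB, Bool.and_eq_true] at h
    simpa using prefix_length h.2

theorem gensH_le_A : clo gensH ≤ clo gensA := by
  refine Subgroup.closure_le _ |>.mpr ?_
  rintro _ ⟨k, hk, rfl⟩
  rw [← prefixB_spec gensA_comm.2.2 k hk]
  exact getWord_clo gensA (hk.trans_le (prefix_length gensA_comm.2.2))

theorem card_H_ge : 512 ≤ Nat.card (clo gensH) :=
  card_list distinct_H.1 distinct_H.2.1 distinct_H.2.2 (by norm_num) fun i _ => sub_clo gensH _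

theorem card_Ce_le : Nat.card Ce ≤ 21504 := by
  refine le_trans (le_of_eq ?_) HeCent.card_Cz
  have ht : ee = el [4, 3] * HeCent.z * (el [4, 3])⁻¹ := by
    show el [4] = el [4, 3] * el [3] * (el [4, 3])⁻¹
    rw [← el_conj, eq_of conj_four]
  refine Nat.card_congr ((Subgroup.equivMapOfInjective HeCent.Cz (MulAut.conj (el [4, 3])).toMonoidHom
    (MulAut.conj (el [4, 3])).injective).toEquiv.trans (Equiv.setCongr ?_)).symm
  ext x
  simp only [SetLike.mem_coe, Subgroup.mem_map, Subgroup.mem_centralizer_singleton_iff, HeCent.Cz,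
    MulEquiv.coe_toMonoidHom, MulAut.conj_apply]
  constructor
  · rintro ⟨y, hy, rfl⟩
    rw [ht]
    calc el [4, 3] * y * (el [4, 3])⁻¹ * (el [4, 3] * HeCent.z * (el [4, 3])⁻¹)
        = el [4, 3] * (y * HeCent.z) * (el [4, 3])⁻¹ := by group
      _ = el [4, 3] * (HeCent.z * y) * (el [4, 3])⁻¹ := by rw [hy]
      _ = _ := by group
  · intro hx
    refine ⟨(el [4, 3])⁻¹ * x * el [4, 3], ?_, by group⟩
    rw [ht] at hx
    calc (el [4, 3])⁻¹ * x * el [4, 3] * HeCent.z
        = (el [4, 3])⁻¹ * (x * (el [4, 3] * HeCent.z * (el [4, 3])⁻¹)) * el [4, 3] := by group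
      _ = (el [4, 3])⁻¹ * (el [4, 3] * HeCent.z * (el [4, 3])⁻¹ * x) * el [4, 3] := by rw [hx]
      _ = _ := by group

theorem card_E_ge : 42 * Nat.card (clo gensE ⊓ Ca : Subgroup GG) ≤ Nat.card (clo gensE) :=
  orbit_mul_le He.checked gen φ hφ hsq hBn hB (x := [0]) (f := trA) (n := 42)
    (fun i hi => orbitRange_one orbA_ok (Nat.zero_le i) (by omega)) (clo gensE) (fun i _ => sub_clo gensE _) (by norm_num)

theorem H_le_E : clo gensH ≤ clo gensE ⊓ Ca := le_inf (sub_le subs_ok.1) (gensH_le.trans inf_le_right)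

theorem clo_E : clo gensE = Ce := by
  refine Subgroup.eq_of_le_of_card_ge (clo_le fun w hw => comm_of gensE_comm.1 hw) ?_
  have h1 := card_E_ge
  have h2 := Subgroup.card_le_of_le H_le_E
  have h3 := card_H_ge
  have h4 := card_Ce_le
  omega

theorem card_Ce : Nat.card Ce = 21504 := by
  have h1 := card_E_ge
  have h2 := Subgroup.card_le_of_le H_le_E
  have h3 := card_H_ge
  have h4 := card_Ce_le
  rw [clo_E] at h1 h2
  omega

theorem inf_eq : Ce ⊓ Ca = clo gensH := by
  refine (Subgroup.eq_of_le_of_card_ge gensH_le ?_).symm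
  have h1 := card_E_ge
  rw [clo_E, card_Ce] at h1
  have h2 := card_H_ge
  omega

theorem card_Ca_le : Nat.card Ca ≤ 161280 := by
  have hr : ∀ i, i + 1 < 24990 → orbitRange T baseL [0] classA i 1 = true := by
    intro i hi
    by_cases h0 : i < 1000; · exact orbitRange_one classA_ok0 (by omega) (by omega)
    by_cases h1 : i < 2000; · exact orbitRange_one classA_ok1 (by omega) (by omega)
    by_cases h2 : i < 3000; · exact orbitRange_one classA_ok2 (by omega) (by omega)
    by_cases h3 : i < 4000; · exact orbitRange_one classA_ok3 (by omega) (by omega)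
    by_cases h4 : i < 5000; · exact orbitRange_one classA_ok4 (by omega) (by omega)
    by_cases h5 : i < 6000; · exact orbitRange_one classA_ok5 (by omega) (by omega)
    by_cases h6 : i < 7000; · exact orbitRange_one classA_ok6 (by omega) (by omega)
    by_cases h7 : i < 8000; · exact orbitRange_one classA_ok7 (by omega) (by omega)
    by_cases h8 : i < 9000; · exact orbitRange_one classA_ok8 (by omega) (by omega)
    by_cases h9 : i < 10000; · exact orbitRange_one classA_ok9 (by omega) (by omega)
    by_cases h10 : i < 11000; · exact orbitRange_one classA_ok10 (by omega) (by omega)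
    by_cases h11 : i < 12000; · exact orbitRange_one classA_ok11 (by omega) (by omega)
    by_cases h12 : i < 13000; · exact orbitRange_one classA_ok12 (by omega) (by omega)
    by_cases h13 : i < 14000; · exact orbitRange_one classA_ok13 (by omega) (by omega)
    by_cases h14 : i < 15000; · exact orbitRange_one classA_ok14 (by omega) (by omega)
    by_cases h15 : i < 16000; · exact orbitRange_one classA_ok15 (by omega) (by omega)
    by_cases h16 : i < 17000; · exact orbitRange_one classA_ok16 (by omega) (by omega)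
    by_cases h17 : i < 18000; · exact orbitRange_one classA_ok17 (by omega) (by omega)
    by_cases h18 : i < 19000; · exact orbitRange_one classA_ok18 (by omega) (by omega)
    by_cases h19 : i < 20000; · exact orbitRange_one classA_ok19 (by omega) (by omega)
    by_cases h20 : i < 21000; · exact orbitRange_one classA_ok20 (by omega) (by omega)
    by_cases h21 : i < 22000; · exact orbitRange_one classA_ok21 (by omega) (by omega)
    by_cases h22 : i < 23000; · exact orbitRange_one classA_ok22 (by omega) (by omega)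
    by_cases h23 : i < 24000; · exact orbitRange_one classA_ok23 (by omega) (by omega)
    exact orbitRange_one classA_ok24 (by omega) (by omega)
  have h := orbit_mul_le He.checked gen φ hφ hsq hBn hB (x := [0]) (f := classA) (n := 24990) hr ⊤
    (fun i _ => Subgroup.mem_top _) (by norm_num)
  rw [top_inf_eq, Subgroup.card_top, He.simple_and_card.2] at h
  have h' : 24990 * Nat.card Ca ≤ 4030387200 := h
  omega

theorem gensA_le : clo gensA ≤ Ca := clo_le fun w hw => comm_of gensA_comm.1 hw

theorem card_A_ge : 161280 ≤ Nat.card (clo gensA) := by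
  have h := orbit_mul_le He.checked gen φ hφ hsq hBn hB (x := [4]) (f := trE) (n := 315)
    (fun i hi => orbitRange_one orbE_ok (Nat.zero_le i) (by omega)) (clo gensA) (fun i _ => sub_clo gensA _) (by norm_num)
  have h2 := Subgroup.card_le_of_le (le_inf gensH_le_A (gensH_le.trans inf_le_left) : clo gensH ≤ clo gensA ⊓ Ce)
  have h3 := card_H_ge
  have h' : 315 * Nat.card (clo gensA ⊓ Ce : Subgroup GG) ≤ Nat.card (clo gensA) := h
  omega

theorem clo_A : clo gensA = Ca :=
  Subgroup.eq_of_le_of_card_ge gensA_le (card_Ca_le.trans card_A_ge)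

theorem card_Ca : Nat.card Ca = 161280 := le_antisymm card_Ca_le (clo_A ▸ card_A_ge)

/-! ### Classes of involutions -/

theorem card_P : Nat.card (clo gensP) = 1024 := by
  refine le_antisymm ?_ (card_list distinct_P.1 distinct_P.2.1 distinct_P.2.2 (by norm_num) fun i _ => sub_clo gensP _)
  have hc : ∀ i < 1024, closedMul T baseL gensP elP 1024 mulP i 1 = true := by
    intro i hi
    by_cases h0 : i < 256; · exact closedMul_one mulP_ok0 (by omega) (by omega)
    by_cases h1 : i < 512; · exact closedMul_one mulP_ok1 (by omega) (by omega)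
    by_cases h2 : i < 768; · exact closedMul_one mulP_ok2 (by omega) (by omega)
    exact closedMul_one mulP_ok3 (by omega) (by omega)
  choose f hf hf' using closedMul_spec He.checked gen φ hφ hsq hBn hB hc (by norm_num) distinct_P.1
  calc Nat.card (clo gensP) ≤ Nat.card (Fin 1024) :=
        Nat.card_le_card_of_injective (fun g : clo gensP => (⟨f g g.2, hf g g.2⟩ : Fin 1024)) fun g h e =>
          Subtype.ext (by rw [hf' g g.2, hf' h h.2, show f g g.2 = f h h.2 from congrArg Fin.val e])
    _ = 1024 := Nat.card_fin _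

theorem mem_P {g : GG} (hg : g ∈ clo gensP) : ∃ j < 1024, g = el (elP j) := by
  refine closedMul_spec He.checked gen φ hφ hsq hBn hB (idx := mulP) (fun i hi => ?_) (by norm_num) distinct_P.1 g hg
  by_cases h0 : i < 256; · exact closedMul_one mulP_ok0 (by omega) (by omega)
  by_cases h1 : i < 512; · exact closedMul_one mulP_ok1 (by omega) (by omega)
  by_cases h2 : i < 768; · exact closedMul_one mulP_ok2 (by omega) (by omega)
  exact closedMul_one mulP_ok3 (by omega) (by omega)

/-- An involution of a subgroup of odd index over the two-group is conjugate into it. -/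
theorem into_P {K : Subgroup GG} (hPK : clo gensP ≤ K) (hodd : ¬ 2 ∣ Nat.card K / 1024) {x : GG} (hx : x ∈ K)
    (hx2 : x * x = 1) : ∃ k ∈ K, k * x * k⁻¹ ∈ clo gensP := by
  haveI : Fact (Nat.Prime 2) := ⟨Nat.prime_two⟩
  set Q : Subgroup K := (clo gensP).subgroupOf K
  have hQ : Nat.card Q = 1024 := (Nat.card_congr (Subgroup.subgroupOfEquivOfLe hPK).toEquiv).trans card_P
  have hp : IsPGroup 2 Q := IsPGroup.of_card (n := 10) (by rw [hQ]; norm_num)
  have hi : ¬ 2 ∣ Q.index := by
    have h := Q.card_mul_index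
    rw [hQ] at h
    rwa [← h, Nat.mul_div_cancel_left _ (by norm_num : 0 < 1024)] at hodd
  have hz : IsPGroup 2 (Subgroup.zpowers (⟨x, hx⟩ : K)) := by
    rintro ⟨y, hy⟩
    obtain ⟨m, rfl⟩ := Subgroup.mem_zpowers_iff.mp hy
    refine ⟨1, Subtype.ext (Subtype.ext ?_)⟩
    show (x ^ m) ^ (2 ^ 1) = 1
    rw [pow_one, pow_two, ← zpow_add, ← two_mul, zpow_mul, zpow_two, hx2, one_zpow]
  obtain ⟨S, hS⟩ := hz.exists_le_sylow
  obtain ⟨k, hk⟩ := MulAction.exists_smul_eq K S (hp.toSylow hi)
  refine ⟨k, k.2, ?_⟩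
  have : k * ⟨x, hx⟩ * k⁻¹ ∈ ((k • S : Sylow 2 K) : Subgroup K) :=
    Subgroup.smul_mem_pointwise_smul _ (MulAut.conj k) (S : Subgroup K) (hS (Subgroup.mem_zpowers _))
  rw [hk] at this
  exact this

def IsA (x : GG) : Prop := ∃ k : GG, x = k * ea * k⁻¹

def IsE (x : GG) : Prop := ∃ k : GG, x = k * ee * k⁻¹

theorem listL_class {j : ℕ} (hj : j < 575) :
    (j < 126 ∧ listL j = candA j ∧ IsA (el (listL j))) ∨ IsE (el (listL j)) := by
  by_cases h : j < 126
  · have e : listL j = candA j := by rw [listL, show Nat.blt j 126 = true from by simpa [Nat.blt_eq] using h]; rfl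
    refine Or.inl ⟨h, e, el (listA j), ?_⟩
    rw [e]
    exact el_conj _ _
  · have e : listL j = candB (j - 126) := by
      rw [listL, show Nat.blt j 126 = false from by
        rw [← Bool.not_eq_true, Nat.blt_eq]; omega]
      rfl
    exact Or.inr ⟨el (listB (j - 126)), by rw [e]; exact el_conj _ _⟩

theorem P_involution {i : ℕ} (hi : i < 1024) (hne : el (elP i) ≠ 1) (h2 : el (elP i) * el (elP i) = 1) :
    ∃ j < 575, el (elP i) = el (listL j) := by
  have h := AutCert.scan_spec _ witP_ok i hi
  simp only [witOne] at h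
  split at h
  · simp only [Bool.or_eq_true] at h
    rcases h with h | h
    · exact absurd (one_of h) hne
    · exact absurd (by rw [el, CosetCert.wprod_append]; exact h2) (ne_one_of h)
  · simp only [Bool.and_eq_true, Nat.blt_eq] at h
    exact ⟨_, h.1, eq_of h.2⟩

theorem classify {x : GG} (hx : x ≠ 1) (hx2 : x * x = 1) : IsA x ∨ IsE x := by
  obtain ⟨k, -, hk⟩ := into_P (K := ⊤) le_top
    (by rw [Subgroup.card_top, He.simple_and_card.2]; norm_num) (Subgroup.mem_top x) hx2
  obtain ⟨i, hi, hie⟩ := mem_P hk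
  have hne : el (elP i) ≠ 1 := by rw [← hie]; exact fun e => hx (conj_eq_one_iff.mp e)
  have h2 : el (elP i) * el (elP i) = 1 := by
    rw [← hie]
    calc k * x * k⁻¹ * (k * x * k⁻¹) = k * (x * x) * k⁻¹ := by group
      _ = 1 := by rw [hx2, mul_one, mul_inv_cancel]
  obtain ⟨j, hj, hje⟩ := P_involution hi hne h2
  have hxe : x = k⁻¹ * el (listL j) * k := by rw [← hje, ← hie]; group
  rcases listL_class hj with ⟨-, -, t, ht⟩ | ⟨t, ht⟩
  · exact Or.inl ⟨k⁻¹ * t, by rw [hxe, ht]; group⟩
  · exact Or.inr ⟨k⁻¹ * t, by rw [hxe, ht]; group⟩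

theorem card_centralizer_conj (k x : GG) :
    Nat.card (Subgroup.centralizer ({k * x * k⁻¹} : Set GG)) = Nat.card (Subgroup.centralizer ({x} : Set GG)) := by
  refine Nat.card_congr ?_
  refine ⟨fun y => ⟨k⁻¹ * y * k, ?_⟩, fun y => ⟨k * y * k⁻¹, ?_⟩, fun y => Subtype.ext (by simp [mul_assoc]),
    fun y => Subtype.ext (by simp [mul_assoc])⟩
  · rw [Subgroup.mem_centralizer_singleton_iff]
    have h := Subgroup.mem_centralizer_singleton_iff.mp y.2
    calc k⁻¹ * (y : GG) * k * x = k⁻¹ * ((y : GG) * (k * x * k⁻¹)) * k := by group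
      _ = k⁻¹ * (k * x * k⁻¹ * y) * k := by rw [h]
      _ = _ := by group
  · rw [Subgroup.mem_centralizer_singleton_iff]
    have h := Subgroup.mem_centralizer_singleton_iff.mp y.2
    calc k * (y : GG) * k⁻¹ * (k * x * k⁻¹) = k * ((y : GG) * x) * k⁻¹ := by group
      _ = k * (x * y) * k⁻¹ := by rw [h]
      _ = _ := by group

theorem not_both {x : GG} (ha : IsA x) (he : IsE x) : False := by
  obtain ⟨k, rfl⟩ := ha
  obtain ⟨m, hm⟩ := he
  have h := card_centralizer_conj k ea
  rw [hm, card_centralizer_conj, card_Ca, card_Ce] at h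
  norm_num at h

theorem involution_of_E {x : GG} (hx : x ≠ 1) (hx2 : x * x = 1) (hc : x ∈ Ce) :
    ∃ j < 575, x = el (listL j) := by
  obtain ⟨k, hkC, hk⟩ := into_P (K := Ce) ((sub_le subs_ok.2).trans (le_of_eq clo_E))
    (by rw [card_Ce]; norm_num) hc hx2
  obtain ⟨i, hi, hie⟩ := mem_P hk
  have hne : el (elP i) ≠ 1 := by rw [← hie]; exact fun e => hx (conj_eq_one_iff.mp e)
  have h2 : el (elP i) * el (elP i) = 1 := by
    rw [← hie]
    calc k * x * k⁻¹ * (k * x * k⁻¹) = k * (x * x) * k⁻¹ := by group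
      _ = 1 := by rw [hx2, mul_one, mul_inv_cancel]
  obtain ⟨j, hj, hje⟩ := P_involution hi hne h2
  have hcl : ∀ i < 575, closedConj T baseL gensE listL 575 conjL i 1 = true := by
    intro i hi
    by_cases h0 : i < 100; · exact closedConj_one conjL_ok0 (by omega) (by omega)
    by_cases h1 : i < 200; · exact closedConj_one conjL_ok1 (by omega) (by omega)
    by_cases h2 : i < 300; · exact closedConj_one conjL_ok2 (by omega) (by omega)
    by_cases h3 : i < 400; · exact closedConj_one conjL_ok3 (by omega) (by omega)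
    by_cases h4 : i < 500; · exact closedConj_one conjL_ok4 (by omega) (by omega)
    exact closedConj_one conjL_ok5 (by omega) (by omega)
  obtain ⟨j', hj', e⟩ := closedConj_spec He.checked gen φ hφ hsq hBn hB hcl k⁻¹
    (clo_E.symm ▸ inv_mem hkC : k⁻¹ ∈ clo gensE) j hj
  refine ⟨j', hj', ?_⟩
  rw [show el (listL j') = k⁻¹ * el (listL j) * k⁻¹⁻¹ from e.symm, ← hje, ← hie]
  group

theorem card_centralizer_map (α : MulAut GG) (x : GG) :
    Nat.card (Subgroup.centralizer ({α x} : Set GG)) = Nat.card (Subgroup.centralizer ({x} : Set GG)) := by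
  let F : Subgroup.centralizer ({x} : Set GG) → Subgroup.centralizer ({α x} : Set GG) := fun y => ⟨α y, by
    rw [Subgroup.mem_centralizer_singleton_iff, ← map_mul, Subgroup.mem_centralizer_singleton_iff.mp y.2, map_mul]⟩
  refine (Nat.card_eq_of_bijective F ⟨fun a b h => Subtype.ext (α.injective (congrArg Subtype.val h)), fun y => ?_⟩).symm
  refine ⟨⟨α.symm y, ?_⟩, Subtype.ext (α.apply_symm_apply _)⟩
  rw [Subgroup.mem_centralizer_singleton_iff]
  refine α.injective ?_
  rw [map_mul, map_mul, α.apply_symm_apply, Subgroup.mem_centralizer_singleton_iff.mp y.2]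

theorem image_E (α : MulAut GG) : IsE (α ee) := by
  have hne : ee ≠ 1 := ne_one_of (by decide +kernel)
  have h2 : ee * ee = 1 := by rw [show ee = gen 4 from el_single 4]; exact hsq 4
  rcases classify (x := α ee) (fun e => hne (α.injective (e.trans (map_one α).symm)))
      (by rw [← map_mul, h2, map_one]) with ⟨k, hk⟩ | h
  · exfalso
    have hc : Nat.card (Subgroup.centralizer ({α ee} : Set GG)) = Nat.card Ce := card_centralizer_map α ee
    rw [hk, card_centralizer_conj, card_Ca, card_Ce] at hc
    norm_num at hc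
  · exact h

/-! ### The search -/

theorem wprod_map_hom {A : Type} [Group A] (h : A →* GG) (f : ℕ → A) :
    ∀ r : List ℕ, h (wprod f r) = wprod (fun i => h (f i)) r := fun r => map_wprod h f r

theorem slot_class : commutesWith 4 [[4], [0], [1], [2], [5], [6]] = true ∧ commutesWith 3 [[0]] = true ∧
    fixW T baseL [3, 4, 3, 4, 3, 4] = true ∧ scan (fun l => [4, 0, 1, 2, 5, 6, 3].any (Nat.beq l)) 7 = true := by
  decide +kernel

/-- The image of the slot generators. -/
def qs (α : MulAut GG) (i : ℕ) : GG := α (el (getWord slotWords i))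

theorem q_rels (α : MulAut GG) {L : AutCert.Level} {m : ℕ} (h : relsTrue L m = true) :
    (∀ r ∈ L.rels, wprod (qs α) r = 1) ∧ (∀ r ∈ L.nons, wprod (qs α) r ≠ 1) ∧
      ∀ r ∈ L.rels ++ L.nons, ∀ y ∈ r, y ≤ m := by
  simp only [relsTrue, Bool.and_eq_true, allB_iff, Nat.ble_eq] at h
  have key : ∀ r, wprod (qs α) r = α (el (subW slotWords r)) := fun r => by
    rw [el, el_subW gen]
    exact (map_wprod α.toMonoidHom _ r).symm
  refine ⟨fun r hr => ?_, fun r hr => ?_, fun r hr => ?_⟩
  · rw [key, one_of (h.1 r hr).2, map_one]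
  · rw [key]
    exact fun e => ne_one_of (h.2 r hr).2 (α.injective (e.trans (map_one α).symm))
  · rcases List.mem_append.mp hr with hr | hr
    · exact (h.1 r hr).1
    · exact (h.2 r hr).1

theorem gen_ne_one : allB (fun l => movW T baseL [l] && fixW T baseL [l, l]) [0, 1, 2, 5, 6] = true := by decide +kernel

theorem class_A {l : ℕ} (hl : l = 0 ∨ l = 1 ∨ l = 2) : IsA (el [l]) := by
  rcases hl with rfl | hl
  · exact ⟨1, by group⟩
  have h : (candsA.any fun w => eqW T baseL w [l]) = true := by
    have := gen_classes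
    simp only [Bool.and_eq_true, List.all_cons, List.all_nil, Bool.and_true] at this
    rcases hl with rfl | rfl
    exacts [this.1.1, this.1.2]
  obtain ⟨w, hw, hwe⟩ := List.any_eq_true.mp h
  obtain ⟨i, -, rfl⟩ := List.mem_map.mp hw
  exact ⟨el (listA i), by rw [← eq_of hwe]; exact el_conj _ _⟩

theorem class_E {l : ℕ} (hl : l = 5 ∨ l = 6) : IsE (el [l]) := by
  have h : (candsB.any fun w => eqW T baseL w [l]) = true := by
    have := gen_classes
    simp only [Bool.and_eq_true, List.all_cons, List.all_nil, Bool.and_true] at this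
    rcases hl with rfl | rfl
    exacts [this.2.1, this.2.2]
  obtain ⟨w, hw, hwe⟩ := List.any_eq_true.mp h
  obtain ⟨i, -, rfl⟩ := List.mem_map.mp hw
  exact ⟨el (listB i), by rw [← eq_of hwe]; exact el_conj _ _⟩

theorem IsA.map {x : GG} (h : IsA x) (α : MulAut GG) : IsA (α x) := by
  obtain ⟨k, rfl⟩ := h
  have hne : ea ≠ 1 := ne_one_of (by decide +kernel)
  have h2 : ea * ea = 1 := by rw [show ea = gen 0 from el_single 0]; exact hsq 0
  rcases classify (x := α ea) (fun e => hne (α.injective (e.trans (map_one α).symm)))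
      (by rw [← map_mul, h2, map_one]) with ⟨m, hm⟩ | ⟨m, hm⟩
  · exact ⟨α k * m, by rw [map_mul, map_mul, map_inv, hm]; group⟩
  · exfalso
    obtain ⟨n, hn⟩ := image_E α.symm
    have e1 : ea = α.symm (m * ee * m⁻¹) := by rw [← hm, α.symm_apply_apply]
    refine not_both (x := ea) ⟨1, by group⟩ ⟨α.symm m * n, ?_⟩
    rw [e1, map_mul, map_mul, map_inv, hn]
    group

theorem IsE.map {x : GG} (h : IsE x) (α : MulAut GG) : IsE (α x) := by
  obtain ⟨k, rfl⟩ := h
  obtain ⟨m, hm⟩ := image_E α
  exact ⟨α k * m, by rw [map_mul, map_mul, map_inv, hm]; group⟩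

/-- A candidate inside the centraliser of `e`. -/
theorem cand_E (α : MulAut GG) {l : ℕ} (hl : l ∈ [0, 1, 2, 5, 6]) {g : GG} (hg : α ee = g * ee * g⁻¹) :
    (l ≤ 2 → ∃ c ∈ candsA, g⁻¹ * α (el [l]) * g = el c) ∧
    (5 ≤ l → ∃ c ∈ candsB, g⁻¹ * α (el [l]) * g = el c) := by
  set x := g⁻¹ * α (el [l]) * g with hx
  have hc : el [l] ∈ Ce := comm_of slot_class.1 (by
    simp only [List.mem_cons, List.not_mem_nil, or_false] at hl ⊢
    rcases hl with rfl | rfl | rfl | rfl | rfl <;> simp)
  have hxC : x ∈ Ce := by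
    rw [Subgroup.mem_centralizer_singleton_iff] at hc ⊢
    have h : α (el [l]) * α ee = α ee * α (el [l]) := by rw [← map_mul, ← map_mul, hc]
    rw [hg] at h
    calc x * ee = g⁻¹ * (α (el [l]) * (g * ee * g⁻¹)) * g := by rw [hx]; group
      _ = g⁻¹ * (g * ee * g⁻¹ * α (el [l])) * g := by rw [h]
      _ = _ := by rw [hx]; group
  have hgen := allB_iff.mp gen_ne_one l hl
  simp only [Bool.and_eq_true] at hgen
  have hne : x ≠ 1 := fun e => ne_one_of hgen.1 (α.injective (by
    rw [map_one]
    calc α (el [l]) = g * x * g⁻¹ := by rw [hx]; group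
      _ = 1 := by rw [e]; group))
  have h2 : x * x = 1 := by
    have : el [l] * el [l] = 1 := by
      rw [el_single]; exact hsq l
    calc x * x = g⁻¹ * α (el [l] * el [l]) * g := by rw [map_mul, hx]; group
      _ = 1 := by rw [this, map_one, mul_one, inv_mul_cancel]
  obtain ⟨j, hj, hje⟩ := involution_of_E hne h2 hxC
  have conjA : IsA (α (el [l])) → IsA x := fun ⟨k, hk⟩ => ⟨g⁻¹ * k, by rw [hx, hk]; group⟩
  have conjE : IsE (α (el [l])) → IsE x := fun ⟨k, hk⟩ => ⟨g⁻¹ * k, by rw [hx, hk]; group⟩
  refine ⟨fun hl2 => ?_, fun hl5 => ?_⟩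
  · have hA : IsA x := conjA ((class_A (by omega)).map α)
    rcases listL_class hj with ⟨hj', e, -⟩ | h
    · exact ⟨candA j, List.mem_map.mpr ⟨j, List.mem_range.mpr hj', rfl⟩, e ▸ hje⟩
    · exact absurd h (fun h => not_both hA (hje.symm ▸ h))
  · have hE : IsE x := conjE ((class_E (by
      simp only [List.mem_cons, List.not_mem_nil, or_false] at hl; omega)).map α)
    by_cases h : j < 126
    · rcases listL_class hj with ⟨-, -, ha⟩ | h'
      · exact absurd (hje.symm ▸ ha : IsA x) (fun ha => not_both ha hE)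
      · exfalso
        have : IsA (el (listL j)) := ⟨el (listA j), by
          rw [listL, show Nat.blt j 126 = true from by simpa [Nat.blt_eq] using h]
          exact el_conj _ _⟩
        exact not_both this h'
    · refine ⟨candB (j - 126), List.mem_map.mpr ⟨j - 126, List.mem_range.mpr (by omega), rfl⟩, ?_⟩
      rw [hje, listL, show Nat.blt j 126 = false from by rw [← Bool.not_eq_true, Nat.blt_eq]; omega]
      rfl

theorem cand_d (α : MulAut GG) {g : GG} (hg : α ee = g * ee * g⁻¹) (ha : α ea = g * ea * g⁻¹) :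
    ∃ c ∈ candsD, g⁻¹ * α (el [3]) * g = el c := by
  set x := g⁻¹ * α (el [3]) * g with hx
  have hcomm : el [3] * ea = ea * el [3] :=
    (Subgroup.mem_centralizer_singleton_iff.mp (comm_of slot_class.2.1 (List.mem_singleton_self [0]))).symm
  have hxa : x ∈ Ca := by
    rw [Subgroup.mem_centralizer_singleton_iff]
    have h : α (el [3]) * α ea = α ea * α (el [3]) := by rw [← map_mul, ← map_mul, hcomm]
    rw [ha] at h
    calc x * ea = g⁻¹ * (α (el [3]) * (g * ea * g⁻¹)) * g := by rw [hx]; group
      _ = g⁻¹ * (g * ea * g⁻¹ * α (el [3])) * g := by rw [h]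
      _ = _ := by rw [hx]; group
  have hea : ee ∈ Ca := by
    have hc : ea ∈ Ce := comm_of slot_class.1 (w := [0]) (by simp)
    rw [Subgroup.mem_centralizer_singleton_iff] at hc ⊢
    exact hc.symm
  have hxx : x * x = 1 := by
    have : el [3] * el [3] = 1 := by rw [el_single]; exact hsq 3
    calc x * x = g⁻¹ * α (el [3] * el [3]) * g := by rw [map_mul, hx]; group
      _ = 1 := by rw [this, map_one, mul_one, inv_mul_cancel]
  have h2 : ee * ee = 1 := by rw [show ee = gen 4 from el_single 4]; exact hsq 4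
  have h3 : x * ee * x * ee * x * ee = 1 := by
    have e3 : el [3] * el [4] * el [3] * el [4] * el [3] * el [4] = 1 := by
      have := one_of slot_class.2.2.1
      simp only [el, wprod, one_mul] at this ⊢
      have h' : gen 4 * gen 3 * gen 4 * gen 3 * gen 4 * gen 3 = 1 := this
      calc gen 3 * gen 4 * gen 3 * gen 4 * gen 3 * gen 4
          = gen 3 * (gen 4 * gen 3 * gen 4 * gen 3 * gen 4 * gen 3) * (gen 3)⁻¹ := by group
        _ = 1 := by rw [h', mul_one, mul_inv_cancel]
    have he : ee = g⁻¹ * α ee * g := by rw [hg]; group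
    calc x * ee * x * ee * x * ee
        = g⁻¹ * α (el [3] * el [4] * el [3] * el [4] * el [3] * el [4]) * g := by
          simp only [map_mul]; rw [hx]; nth_rewrite 1 2 3 [he]; group
      _ = 1 := by rw [e3, map_one, mul_one, inv_mul_cancel]
  have hxe : ee * x * ee * (ee * x)⁻¹ = x := by
    have h4 : x * ee * x = ee * x * ee := by
      have : x * ee * x * (ee * x * ee) = 1 := by rw [← h3]; group
      rw [eq_inv_of_mul_eq_one_left this]
      simp only [mul_inv_rev, inv_eq_of_mul_eq_one_right hxx, inv_eq_of_mul_eq_one_right h2, mul_assoc]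
    calc ee * x * ee * (ee * x)⁻¹ = x * ee * x * (ee * x)⁻¹ := by rw [h4]
      _ = x := by
        rw [mul_inv_rev, inv_eq_of_mul_eq_one_right hxx, inv_eq_of_mul_eq_one_right h2]
        calc x * ee * x * (x * ee) = x * ee * (x * x) * ee := by group
          _ = x := by rw [hxx, mul_one, mul_assoc, h2, mul_one]
  obtain ⟨w, hw, hwe⟩ := List.any_eq_true.mp four_mem
  obtain ⟨i, hi, rfl⟩ := List.mem_map.mp hw
  have hcl : ∀ i < 315, closedConj T baseL gensA candD 315 conjD i 1 = true := by
    intro i hi
    by_cases h0 : i < 105; · exact closedConj_one conjD_ok0 (by omega) (by omega)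
    by_cases h1 : i < 210; · exact closedConj_one conjD_ok1 (by omega) (by omega)
    exact closedConj_one conjD_ok2 (by omega) (by omega)
  obtain ⟨j, hj, e⟩ := closedConj_spec He.checked gen φ hφ hsq hBn hB hcl (ee * x)
    (clo_A.symm ▸ mul_mem hea hxa : ee * x ∈ clo gensA) i (List.mem_range.mp hi)
  refine ⟨candD j, List.mem_map.mpr ⟨j, List.mem_range.mpr hj, rfl⟩, ?_⟩
  rw [show el (candD j) = ee * x * el (candD i) * (ee * x)⁻¹ from e.symm, show el (candD i) = ee from eq_of hwe, hxe]

theorem shape_spec {R : List (List (List ℕ))} {m : ℕ} (h : shape R m = true) {P : List (List ℕ)} (hP : P ∈ R) :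
    P.length = m ∧ allB (lettersOK 7) P = true ∧ getWord P 0 = [4] ∧ (5 < m → getWord P 1 = [0]) := by
  simp only [shape, allB_iff, Bool.and_eq_true, Bool.or_eq_true, Nat.beq_eq, Nat.ble_eq] at h
  obtain ⟨h1, h2, h3, h4⟩ := h P hP
  refine ⟨h1, allB_iff.mpr h2, prefixB_spec h3 0 (by simp), fun hm => ?_⟩
  rcases h4 with h4 | h4
  · omega
  · exact prefixB_spec h4 1 (by simp)

/-- The configuration of an automorphism. -/
def Reached (α : MulAut GG) (R : List (List (List ℕ))) (m : ℕ) : Prop :=
  ∃ P ∈ R, P.length = m ∧ ∃ g : GG, ∀ k < m, qs α k = g * el (getWord P k) * g⁻¹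

theorem advance (α : MulAut GG) {L : AutCert.Level} {R : List (List (List ℕ))} {m : ℕ}
    (hs : scanReps T baseL L R 0 = true) (hsh : shape R m = true) (hr : relsTrue L m = true)
    (hC : allB (lettersOK 7) L.cands = true) (h : Reached α R m)
    (hc : ∀ P ∈ R, ∀ g : GG, (∀ k < m, qs α k = g * el (getWord P k) * g⁻¹) →
      ∃ c ∈ L.cands, g⁻¹ * qs α m * g = el c) :
    Reached α L.next (m + 1) := by
  obtain ⟨P, hP, hlen, g, hg⟩ := h
  obtain ⟨r1, r2, r3⟩ := q_rels α hr
  obtain ⟨Q, hQ, g', hQl, hQe⟩ := step He.checked gen φ hφ hsq hBn hB hs hP (qs α) g (by rw [hlen]; exact hg) r1 r2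
    (by rw [hlen]; exact r3) (by rw [K_eq]; exact (shape_spec hsh hP).2.1) (by rw [K_eq]; exact hC)
    (by rw [hlen]; exact hc P hP g hg)
  rw [hlen] at hQl
  exact ⟨Q, hQ, hQl, g', fun k hk => hQe k (by omega)⟩

theorem configurations (α : MulAut GG) : Reached α reps6 7 := by
  obtain ⟨k, hk⟩ := image_E α
  have h0 : Reached α [[[4]]] 1 := ⟨[[4]], List.mem_singleton_self _, rfl, k, fun i hi => by
    obtain rfl : i = 0 := by omega
    exact hk⟩
  have key : ∀ {R : List (List (List ℕ))} {m : ℕ}, shape R m = true → 1 ≤ m →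
      ∀ P ∈ R, ∀ g : GG, (∀ k < m, qs α k = g * el (getWord P k) * g⁻¹) → α ee = g * ee * g⁻¹ := by
    intro R m hsh hm P hP g hg
    have := hg 0 hm
    rw [(shape_spec hsh hP).2.2.1] at this
    exact this
  have h1 := advance α step_one shapes.1 rels_true.1 cands_letters.1 h0 fun P hP g hg =>
    (cand_E α (l := 0) (by simp) (key shapes.1 le_rfl P hP g hg)).1 (by norm_num)
  have h2 := advance α step_two shapes.2.1 rels_true.2.1 cands_letters.1 h1 fun P hP g hg =>
    (cand_E α (l := 1) (by simp) (key shapes.2.1 (by norm_num) P hP g hg)).1 (by norm_num)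
  have h3 := advance α step_three shapes.2.2.1 rels_true.2.2.1 cands_letters.1 h2 fun P hP g hg =>
    (cand_E α (l := 2) (by simp) (key shapes.2.2.1 (by norm_num) P hP g hg)).1 (by norm_num)
  have h4 := advance α step_four shapes.2.2.2.1 rels_true.2.2.2.1 cands_letters.2.1 h3 fun P hP g hg =>
    (cand_E α (l := 5) (by simp) (key shapes.2.2.2.1 (by norm_num) P hP g hg)).2 (by norm_num)
  have h5 := advance α step_five shapes.2.2.2.2.1 rels_true.2.2.2.2.1 cands_letters.2.1 h4 fun P hP g hg =>
    (cand_E α (l := 6) (by simp) (key shapes.2.2.2.2.1 (by norm_num) P hP g hg)).2 (by norm_num)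
  exact advance α step_six shapes.2.2.2.2.2 rels_true.2.2.2.2.2 cands_letters.2.2 h5 fun P hP g hg => by
    have ha := hg 1 (by norm_num)
    rw [(shape_spec shapes.2.2.2.2.2 hP).2.2.2 (by norm_num)] at ha
    exact cand_d α (key shapes.2.2.2.2.2 (by norm_num) P hP g hg) ha

theorem slot_onto {l : ℕ} (hl : l < 7) : ∃ i < 7, nthNat [4, 0, 1, 2, 5, 6, 3] i = l ∧ getWord slotWords i = [l] := by
  interval_cases l
  · exact ⟨1, by norm_num, rfl, rfl⟩
  · exact ⟨2, by norm_num, rfl, rfl⟩
  · exact ⟨3, by norm_num, rfl, rfl⟩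
  · exact ⟨6, by norm_num, rfl, rfl⟩
  · exact ⟨0, by norm_num, rfl, rfl⟩
  · exact ⟨4, by norm_num, rfl, rfl⟩
  · exact ⟨5, by norm_num, rfl, rfl⟩

theorem other_sq (x : Cfsg.Spor.He.Gen) :
    el (getWord otherWords (He.data.idx x)) * el (getWord otherWords (He.data.idx x)) = 1 := by
  have hlen : He.data.idx x < otherWords.length := (He.data.lt x).trans_le (by rw [K_eq]; rfl)
  have h := allB_iff.mp other_ok.2.1 _ (getWord_mem_lt hlen)
  simp only [Bool.and_eq_true] at h
  have := one_of h.2
  rwa [el, CosetCert.wprod_append] at this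

/-- The endomorphism given by the second configuration. -/
def psiHom : GG →* GG :=
  PresentedGroup.toGroup (f := fun x => el (getWord otherWords (He.data.idx x))) fun r hr => by
    obtain ⟨w, hw, e⟩ := (He.data.relator (fun x => el (getWord otherWords (He.data.idx x)))
      (fun y => el (getWord otherWords y)) other_sq (fun x => rfl)).1 r hr
    rw [e, ← el_subW gen]
    exact one_of (allB_iff.mp other_ok.1 w hw)

theorem psiHom_gen {l : ℕ} (hl : l < 7) : psiHom (el [l]) = el (getWord otherWords l) := by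
  have hK : l < T.C.K := K_eq.symm ▸ hl
  rw [el_single, gen, CoxData.gen, if_pos hK, psiHom, PresentedGroup.toGroup.of, He.data.right l hK]

theorem psiHom_bijective : Function.Bijective psiHom := by
  haveI := He.simple_and_card.1
  refine Finite.injective_iff_bijective.mp ?_
  rcases IsSimpleGroup.eq_bot_or_eq_top_of_normal psiHom.ker inferInstance with h | h
  · exact (MonoidHom.ker_eq_bot_iff _).mp h
  · exfalso
    have h1 : psiHom ea = 1 := MonoidHom.mem_ker.mp (h ▸ Subgroup.mem_top _)
    rw [psiHom_gen (by norm_num), other_ok.2.2.1] at h1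
    exact ne_one_of (w := [0]) (by decide +kernel) h1

/-- The outer automorphism. -/
def psi : MulAut GG := MulEquiv.ofBijective psiHom psiHom_bijective

theorem psi_gen {l : ℕ} (hl : l < 7) : psi (el [l]) = el (getWord otherWords l) := psiHom_gen hl

theorem aut_ext {α β : MulAut GG} (h : ∀ l < 7, α (el [l]) = β (el [l])) : α = β := by
  have h' : α.toMonoidHom = β.toMonoidHom :=
    MonoidHom.eq_of_eqOn_dense He.data.gen_top (by
      rintro _ ⟨l, hl, rfl⟩
      show α (gen l) = β (gen l)
      rw [← el_single]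
      exact h l (K_eq ▸ hl))
  exact MulEquiv.ext fun x => DFunLike.congr_fun h' x

theorem getWord_map (f : ℕ → List ℕ) : ∀ (l : List ℕ) (i : ℕ), i < l.length → getWord (l.map f) i = f (nthNat l i)
  | [], i, hi => absurd hi (by simp)
  | a :: l, 0, _ => rfl
  | a :: l, i + 1, hi => getWord_map f l i (by simpa using hi)

theorem all_auts (α : MulAut GG) : ∃ g : GG, α = MulAut.conj g ∨ α = MulAut.conj g * psi := by
  obtain ⟨P, hP, -, g, hg⟩ := configurations α
  refine ⟨g, ?_⟩
  have h := List.all_eq_true.mp finals_ok P hP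
  simp only [Bool.or_eq_true, decide_eq_true_eq] at h
  rcases h with rfl | rfl
  · refine Or.inl (aut_ext fun l hl => ?_)
    obtain ⟨i, hi, -, hw⟩ := slot_onto hl
    have := hg i hi
    simp only [qs, hw] at this
    rw [this, MulAut.conj_apply]
  · refine Or.inr (aut_ext fun l hl => ?_)
    obtain ⟨i, hi, hn, hw⟩ := slot_onto hl
    have := hg i hi
    rw [getWord_map _ _ i (by simpa using hi), hn] at this
    simp only [qs, hw] at this
    rw [this, MulAut.mul_apply, psi_gen hl, MulAut.conj_apply]

theorem psi_not_inner (g : GG) : MulAut.conj g ≠ psi := by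
  intro h
  have key : ∀ l < 7, g * el [l] * g⁻¹ = el (getWord otherWords l) := fun l hl => by
    rw [← MulAut.conj_apply, h, psi_gen hl]
  have hg : g ∈ Ce ⊓ Ca := by
    refine ⟨?_, ?_⟩
    · have := key 4 (by norm_num)
      rw [other_ok.2.2.2.2, mul_inv_eq_iff_eq_mul] at this
      exact Subgroup.mem_centralizer_singleton_iff.mpr this
    · have := key 0 (by norm_num)
      rw [other_ok.2.2.1, mul_inv_eq_iff_eq_mul] at this
      exact Subgroup.mem_centralizer_singleton_iff.mpr this
  rw [inf_eq] at hg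
  have hc : ∀ i < 512, closedMul T baseL gensH elH 512 mulH i 1 = true := by
    intro i hi
    by_cases h0 : i < 256; · exact closedMul_one mulH_ok0 (by omega) (by omega)
    exact closedMul_one mulH_ok1 (by omega) (by omega)
  obtain ⟨i, hi, rfl⟩ := closedMul_spec He.checked gen φ hφ hsq hBn hB hc (by norm_num) distinct_H.1 g hg
  have hlet : lettersOK 7 (elH i) = true := by
    rcases Nat.eq_zero_or_pos i with rfl | hp
    · rw [distinct_H.1]; rfl
    rcases Nat.eq_or_lt_of_le hp with e | e
    · have := AutCert.scan_spec _ distinct_H.2.1 0 (by norm_num)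
      simp only [Bool.and_eq_true] at this
      subst e
      exact this.1
    · have := AutCert.scan_spec _ distinct_H.2.1 (i - 2) (by omega)
      simp only [Bool.and_eq_true, show 1 + (i - 2) + 1 = i from by omega] at this
      exact this.2.1
  have hcl : ∀ l < 7, lettersOK 7 (conjW (elH i) [l]) = true := by
    intro l hl
    have hz : ∀ {w : List ℕ}, (∀ y ∈ w, y < 7) → lettersOK 7 w = true := by
      intro w hw
      induction w with
      | nil => rfl
      | cons y w ih =>
        simp only [lettersOK, Bool.and_eq_true]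
        exact ⟨by simpa [Nat.blt] using hw y List.mem_cons_self, ih fun z hz => hw z (List.mem_cons_of_mem _ hz)⟩
    refine hz fun y hy => ?_
    simp only [conjW, List.mem_append, List.mem_reverse, List.mem_singleton] at hy
    rcases hy with (hy | rfl) | hy
    · exact lettersOK_spec hlet y hy
    · exact hl
    · exact lettersOK_spec hlet y hy
  have e1 : el (conjW (elH i) [1]) = el [1] := by rw [el_conj, key 1 (by norm_num), other_ok.2.2.2.1]
  have e5 : el (conjW (elH i) [5]) = el (getWord otherWords 5) := by rw [el_conj, key 5 (by norm_num)]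
  have ha := AutCert.scan_spec _ apart_ok i hi
  rw [apart, eqW_of_eq (hcl 1 (by norm_num)) rfl e1, cond_true] at ha
  simp only [Bool.and_eq_true, Bool.not_eq_true'] at ha
  have h5 := allB_iff.mp other_ok.2.1 _ (getWord_mem_lt (show 5 < otherWords.length by decide +kernel))
  simp only [Bool.and_eq_true] at h5
  rw [eqW_of_eq (hcl 5 (by norm_num)) h5.1 e5] at ha
  simp at ha

theorem card_out : Nat.card (Cfsg.Out GG) = 2 := by
  rw [Nat.card_eq_two_iff' (QuotientGroup.mk (1 : MulAut GG) : Cfsg.Out GG)]
  refine ⟨QuotientGroup.mk psi, ?_, ?_⟩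
  · intro h
    rw [QuotientGroup.eq, mul_one, inv_mem_iff] at h
    obtain ⟨g, hg⟩ := h
    exact psi_not_inner g hg
  · intro y
    refine QuotientGroup.induction_on y fun α hne => ?_
    obtain ⟨g, hg | hg⟩ := all_auts α
    · refine absurd ?_ hne
      rw [QuotientGroup.eq, mul_one, inv_mem_iff, hg]
      exact ⟨g, rfl⟩
    · rw [hg, QuotientGroup.eq, mul_inv_rev, mul_assoc]
      refine ⟨psi⁻¹ g⁻¹, MulEquiv.ext fun x => ?_⟩
      simp [MulAut.conj_apply, MulAut.mul_apply]

end Cfsg.Agent.InvChar.Coset.HeOut
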