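import Cfsg.Agent.InvChar.Coset.AutCert

/-!
# Tables for the automorphisms of the presented Held group
-/

set_option autoImplicit false
set_option linter.all false
set_option maxRecDepth 100000

noncomputable section

namespace Cfsg.Agent.InvChar.Coset.HeOut

open Cfsg.Agent.CosetCert AutCert

def baseL : List ℕ := [0, 1, 2, 5, 9, 18]

def chain0_0 : List ℕ :=
  [0x0, 0x2, 0x7, 0x32, 0x72, 0x47, 0x432, 0x732, 0x472, 0x347, 0x547, 0x647, 0x3432, 0x5432, 0x6432, 0x3472, 0x5472, 0x6472, 0x2347, 0x4347, 0x5347, 0x6347, 0x6547, 0x23432, 0x43432, 0x53432, 0x63432, 0x65432, 0x23472, 0x43472, 0x53472, 0x63472, 0x65472, 0x12347, 0x42347, 0x62347, 0x34347, 0x54347, 0x64347, 0x65347, 0x46547, 0x123432, 0x423432, 0x623432, 0x543432, 0x643432, 0x743432, 0x453432, 0x653432, 0x463432, 0x465432, 0x123472, 0x423472, 0x623472, 0x543472, 0x643472, 0x743472, 0x453472, 0x653472, 0x463472, 0x465472, 0x412347, 0x612347, 0x342347, 0x542347, 0x742347, 0x534347,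 0x634347, 0x454347, 0x764347, 0x4123432, 0x6123432, 0x3423432, 0x5423432, 0x6423432, 0x7423432, 0x4623432, 0x4543432, 0x6543432, 0x7543432, 0x4643432, 0x7643432, 0x6743432, 0x6453432, 0x7453432, 0x4653432, 0x3463432, 0x5463432, 0x7463432, 0x3465432, 0x4123472, 0x6123472, 0x3423472, 0x5423472, 0x6423472, 0x7423472, 0x4623472, 0x4543472, 0x6543472, 0x7543472, 0x7643472, 0x6743472, 0x6453472, 0x7453472, 0x4653472, 0x5463472, 0x7463472, 0x3465472, 0x3412347, 0x5412347, 0x7412347, 0x2342347, 0x4342347, 0x5342347, 0x7542347, 0x6742347, 0x4534347, 0x4634347, 0x34123432, 0x54123432, 0x64123432, 0x74123432, 0x46123432, 0x43423432, 0x63423432, 0x73423432, 0x65423432, 0x75423432, 0x46423432, 0x76423432, 0x67423432, 0x34623432, 0x54623432, 0x74623432, 0x64543432, 0x74543432, 0x46543432, 0x47543432, 0x54643432, 0x74643432, 0x47643432, 0x46743432, 0x67453432, 0x34653432, 0x23463432, 0x53463432, 0x73463432, 0x67463432, 0x23465432, 0x43465432, 0x34123472,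 0x54123472, 0x64123472, 0x74123472, 0x46123472, 0x43423472, 0x53423472, 0x63423472, 0x73423472, 0x65423472, 0x75423472, 0x76423472, 0x67423472, 0x34623472, 0x54623472, 0x74623472, 0x64543472, 0x74543472, 0x46543472, 0x47543472, 0x47643472, 0x46743472, 0x67453472, 0x43465472, 0x23412347, 0x43412347, 0x53412347, 0x73412347, 0x42342347, 0x52342347, 0x34342347, 0x54342347, 0x64342347, 0x74342347, 0x45342347, 0x47542347, 0x46742347, 0x234123432, 0x634123432, 0x734123432, 0x654123432, 0x754123432, 0x464123432, 0x764123432, 0x674123432, 0x346123432, 0x643423432, 0x743423432, 0x463423432, 0x763423432, 0x473423432, 0x673423432, 0x465423432, 0x475423432, 0x346423432, 0x546423432, 0x467423432, 0x234623432, 0x434623432, 0x534623432, 0x734623432, 0x674623432, 0x464543432, 0x474543432, 0x346543432, 0x546543432, 0x746543432, 0x347543432, 0x346743432, 0x546743432, 0x746743432, 0x234653432, 0x434653432, 0x123463432, 0x523463432, 0x453463432, 0x467463432,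 0x423465432, 0x343465432, 0x543465432, 0x743465432, 0x234123472, 0x434123472, 0x634123472, 0x734123472, 0x654123472, 0x754123472, 0x764123472, 0x674123472, 0x346123472, 0x343423472, 0x543423472, 0x643423472, 0x743423472, 0x453423472, 0x653423472, 0x753423472, 0x463423472, 0x763423472, 0x473423472, 0x673423472, 0x465423472, 0x475423472, 0x467423472, 0x434623472, 0x534623472, 0x734623472, 0x464543472, 0x346743472, 0x546743472, 0x746743472, 0x343465472, 0x543465472, 0x743465472, 0x423412347, 0x343412347, 0x543412347, 0x643412347, 0x743412347, 0x453412347, 0x473412347, 0x342342347, 0x542342347, 0x642342347, 0x742342347, 0x452342347, 0x234342347, 0x434342347, 0x534342347, 0x634342347, 0x734342347, 0x454342347, 0x654342347, 0x754342347, 0x764342347, 0x674342347, 0x345342347, 0x645342347, 0x745342347, 0x347542347, 0x346742347, 0x6234123432, 0x7234123432, 0x4634123432, 0x7634123432, 0x4734123432, 0x6734123432, 0x4654123432, 0x4754123432, 0x3464123432]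

def chain0_1 : List ℕ :=
  [0x4674123432, 0x2346123432, 0x4346123432, 0x4643423432, 0x4743423432, 0x3463423432, 0x5463423432, 0x7463423432, 0x4763423432, 0x3473423432, 0x5473423432, 0x6473423432, 0x4673423432, 0x3465423432, 0x5465423432, 0x7465423432, 0x3475423432, 0x4346423432, 0x5346423432, 0x3467423432, 0x7467423432, 0x1234623432, 0x4234623432, 0x5234623432, 0x3434623432, 0x5434623432, 0x6434623432, 0x7434623432, 0x4534623432, 0x4734623432, 0x6734623432, 0x4674623432, 0x3464543432, 0x7464543432, 0x2346543432, 0x5346543432, 0x7546543432, 0x6746543432, 0x2347543432, 0x2346743432, 0x4346743432, 0x4234653432, 0x4523463432, 0x3467463432, 0x3423465432, 0x5423465432, 0x7423465432, 0x2343465432, 0x4234123472, 0x6234123472, 0x7234123472, 0x5434123472, 0x6434123472, 0x7434123472, 0x4634123472, 0x7634123472, 0x4734123472, 0x6734123472, 0x4654123472, 0x4674123472, 0x4346123472, 0x2343423472, 0x5343423472, 0x6343423472, 0x7343423472, 0x4543423472,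 0x6543423472, 0x7543423472, 0x4643423472, 0x7643423472, 0x4743423472, 0x6743423472, 0x3453423472, 0x6453423472, 0x7453423472, 0x4653423472, 0x4753423472, 0x3463423472, 0x5463423472, 0x3473423472, 0x5473423472, 0x3465423472, 0x3475423472, 0x7467423472, 0x5434623472, 0x6434623472, 0x7434623472, 0x4534623472, 0x4734623472, 0x4346743472, 0x2343465472, 0x3423412347, 0x5423412347, 0x6423412347, 0x7423412347, 0x2343412347, 0x5343412347, 0x6343412347, 0x7343412347, 0x4543412347, 0x6543412347, 0x7543412347, 0x7643412347, 0x4743412347, 0x6743412347, 0x3453412347, 0x6453412347, 0x7453412347, 0x3473412347, 0x5473412347, 0x6473412347, 0x2342342347, 0x4342342347, 0x5342342347, 0x6342342347, 0x7342342347, 0x4542342347, 0x6542342347, 0x7542342347, 0x7642342347, 0x6742342347, 0x3452342347, 0x6452342347, 0x7452342347, 0x1234342347, 0x4234342347, 0x5234342347, 0x6234342347, 0x7234342347, 0x5434342347, 0x6434342347, 0x7434342347, 0x4534342347, 0x6534342347,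 0x7534342347, 0x4634342347, 0x7634342347, 0x4734342347, 0x6734342347, 0x3454342347, 0x6454342347, 0x7454342347, 0x4654342347, 0x4754342347, 0x4764342347, 0x4674342347, 0x2345342347, 0x4345342347, 0x6345342347, 0x7345342347, 0x7645342347, 0x6745342347, 0x4347542347, 0x4346742347, 0x46234123432, 0x47234123432, 0x34634123432, 0x54634123432, 0x74634123432, 0x47634123432, 0x34734123432, 0x54734123432, 0x64734123432, 0x46734123432, 0x34654123432, 0x74654123432, 0x34754123432, 0x43464123432, 0x34674123432, 0x42346123432, 0x34346123432, 0x54346123432, 0x64346123432, 0x74346123432, 0x34643423432, 0x54643423432, 0x74643423432, 0x34743423432, 0x54743423432, 0x64743423432, 0x23463423432, 0x43463423432, 0x53463423432, 0x73463423432, 0x75463423432, 0x47463423432, 0x67463423432, 0x34763423432, 0x54763423432, 0x64763423432, 0x23473423432, 0x43473423432, 0x53473423432, 0x63473423432, 0x65473423432, 0x46473423432, 0x76473423432, 0x34673423432, 0x54673423432,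 0x74673423432, 0x23465423432, 0x43465423432, 0x53465423432, 0x73465423432, 0x75465423432, 0x67465423432, 0x23475423432, 0x43475423432, 0x34346423432, 0x54346423432, 0x64346423432, 0x74346423432, 0x45346423432, 0x23467423432, 0x43467423432, 0x73467423432, 0x41234623432, 0x34234623432, 0x54234623432, 0x64234623432, 0x74234623432, 0x45234623432, 0x23434623432, 0x53434623432, 0x63434623432, 0x73434623432, 0x45434623432, 0x65434623432, 0x75434623432, 0x76434623432, 0x47434623432, 0x67434623432, 0x34534623432, 0x64534623432, 0x74534623432, 0x34734623432, 0x54734623432, 0x64734623432, 0x46734623432, 0x34674623432, 0x23464543432, 0x12346543432, 0x52346543432, 0x42346743432, 0x34346743432, 0x64346743432, 0x34234653432, 0x34523463432, 0x23423465432, 0x43423465432, 0x73423465432, 0x34234123472, 0x54234123472, 0x64234123472, 0x74234123472, 0x46234123472, 0x47234123472, 0x65434123472, 0x75434123472, 0x46434123472, 0x76434123472, 0x47434123472,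 0x67434123472, 0x34634123472, 0x54634123472, 0x34734123472, 0x54734123472, 0x34654123472, 0x54346123472, 0x64346123472, 0x74346123472, 0x12343423472, 0x52343423472, 0x62343423472, 0x72343423472, 0x45343423472, 0x65343423472, 0x75343423472, 0x46343423472, 0x76343423472, 0x47343423472, 0x67343423472, 0x34543423472, 0x64543423472, 0x74543423472, 0x46543423472, 0x47543423472, 0x34643423472, 0x54643423472, 0x74643423472, 0x47643423472, 0x34743423472, 0x54743423472, 0x64743423472, 0x46743423472, 0x23453423472, 0x43453423472, 0x63453423472, 0x73453423472, 0x46453423472]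

def chain0_2 : List ℕ :=
  [0x76453423472, 0x47453423472, 0x67453423472, 0x34653423472, 0x54653423472, 0x34753423472, 0x54753423472, 0x23463423472, 0x43463423472, 0x53463423472, 0x23473423472, 0x43473423472, 0x53473423472, 0x43475423472, 0x45434623472, 0x65434623472, 0x75434623472, 0x76434623472, 0x47434623472, 0x67434623472, 0x34534623472, 0x64534623472, 0x74534623472, 0x64734623472, 0x43423412347, 0x53423412347, 0x63423412347, 0x65423412347, 0x75423412347, 0x76423412347, 0x12343412347, 0x52343412347, 0x62343412347, 0x45343412347, 0x65343412347, 0x75343412347, 0x46343412347, 0x76343412347, 0x47343412347, 0x34543412347, 0x64543412347, 0x74543412347, 0x46543412347, 0x47543412347, 0x47643412347, 0x34743412347, 0x54743412347, 0x64743412347, 0x46743412347, 0x23453412347, 0x43453412347, 0x63453412347, 0x73453412347, 0x76453412347, 0x67453412347, 0x23473412347, 0x43473412347, 0x53473412347, 0x63473412347, 0x65473412347, 0x76473412347, 0x12342342347,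 0x42342342347, 0x52342342347, 0x72342342347, 0x54342342347, 0x74342342347, 0x45342342347, 0x65342342347, 0x75342342347, 0x47342342347, 0x67342342347, 0x34542342347, 0x64542342347, 0x74542342347, 0x46542342347, 0x47542342347, 0x47642342347, 0x46742342347, 0x23452342347, 0x43452342347, 0x63452342347, 0x73452342347, 0x76452342347, 0x67452342347, 0x41234342347, 0x61234342347, 0x71234342347, 0x34234342347, 0x54234342347, 0x64234342347, 0x74234342347, 0x45234342347, 0x65234342347, 0x75234342347, 0x46234342347, 0x47234342347, 0x67234342347, 0x45434342347, 0x65434342347, 0x75434342347, 0x46434342347, 0x76434342347, 0x47434342347, 0x67434342347, 0x64534342347, 0x46534342347, 0x34634342347, 0x54634342347, 0x74634342347, 0x47634342347, 0x34734342347, 0x64734342347, 0x46734342347, 0x43454342347, 0x63454342347, 0x73454342347, 0x46454342347, 0x47454342347, 0x34654342347, 0x74654342347, 0x34754342347, 0x64754342347, 0x54764342347, 0x64764342347,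 0x34674342347, 0x54674342347, 0x74674342347, 0x62345342347, 0x72345342347, 0x54345342347, 0x46345342347, 0x67345342347, 0x47645342347, 0x46745342347, 0x34347542347, 0x54347542347, 0x64347542347, 0x74347542347, 0x34346742347, 0x74346742347, 0x346234123432, 0x546234123432, 0x746234123432, 0x347234123432, 0x547234123432, 0x647234123432, 0x234634123432, 0x434634123432, 0x534634123432, 0x734634123432, 0x754634123432, 0x474634123432, 0x674634123432, 0x347634123432, 0x547634123432, 0x647634123432, 0x434734123432, 0x534734123432, 0x654734123432, 0x464734123432, 0x764734123432, 0x346734123432, 0x546734123432, 0x746734123432, 0x234654123432, 0x434654123432, 0x734654123432, 0x434754123432, 0x343464123432, 0x543464123432, 0x643464123432, 0x743464123432, 0x434674123432, 0x542346123432, 0x642346123432, 0x234346123432, 0x534346123432, 0x634346123432, 0x734346123432, 0x654346123432, 0x754346123432, 0x764346123432, 0x234643423432, 0x434643423432, 0x534643423432,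 0x734643423432, 0x234743423432, 0x434743423432, 0x534743423432, 0x634743423432, 0x123463423432, 0x423463423432, 0x523463423432, 0x723463423432, 0x343463423432, 0x543463423432, 0x643463423432, 0x743463423432, 0x453463423432, 0x753463423432, 0x473463423432, 0x475463423432, 0x347463423432, 0x547463423432, 0x647463423432, 0x467463423432, 0x234763423432, 0x434763423432, 0x534763423432, 0x634763423432, 0x654763423432, 0x764763423432, 0x123473423432, 0x423473423432, 0x523473423432, 0x543473423432, 0x643473423432, 0x743473423432, 0x453473423432, 0x653473423432, 0x763473423432, 0x465473423432, 0x346473423432, 0x546473423432, 0x746473423432, 0x476473423432, 0x434673423432, 0x534673423432, 0x754673423432, 0x123465423432, 0x423465423432, 0x523465423432, 0x343465423432, 0x543465423432, 0x643465423432, 0x743465423432, 0x453465423432, 0x753465423432, 0x473465423432, 0x673465423432, 0x423475423432, 0x343475423432, 0x543475423432, 0x643475423432, 0x743475423432,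 0x434346423432, 0x454346423432, 0x654346423432, 0x345346423432, 0x645346423432, 0x745346423432, 0x423467423432, 0x343467423432, 0x543467423432, 0x643467423432, 0x541234623432, 0x741234623432, 0x434234623432, 0x654234623432, 0x453434623432, 0x653434623432, 0x463434623432, 0x473434623432, 0x745434623432, 0x465434623432, 0x475434623432, 0x476434623432, 0x547434623432, 0x467434623432, 0x434534623432, 0x434734623432, 0x534734623432, 0x654734623432, 0x464734623432, 0x546734623432, 0x434674623432, 0x642346743432, 0x434234653432, 0x434523463432, 0x473423465432, 0x634234123472, 0x734234123472, 0x654234123472, 0x754234123472, 0x464234123472, 0x764234123472, 0x474234123472, 0x674234123472, 0x346234123472, 0x546234123472, 0x347234123472, 0x547234123472, 0x465434123472, 0x475434123472, 0x346434123472, 0x546434123472, 0x746434123472, 0x476434123472, 0x347434123472]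

def chain0_3 : List ℕ :=
  [0x547434123472, 0x647434123472, 0x467434123472, 0x234634123472, 0x434634123472, 0x534634123472, 0x234734123472, 0x434734123472, 0x534734123472, 0x654346123472, 0x754346123472, 0x764346123472, 0x612343423472, 0x712343423472, 0x452343423472, 0x652343423472, 0x752343423472, 0x472343423472, 0x672343423472, 0x645343423472, 0x465343423472, 0x346343423472, 0x546343423472, 0x467343423472, 0x634543423472, 0x734543423472, 0x464543423472, 0x474543423472, 0x346543423472, 0x546543423472, 0x746543423472, 0x347543423472, 0x547543423472, 0x647543423472, 0x234643423472, 0x434643423472, 0x534643423472, 0x734643423472, 0x474643423472, 0x347643423472, 0x547643423472, 0x234743423472, 0x434743423472, 0x534743423472, 0x634743423472, 0x464743423472, 0x346743423472, 0x546743423472, 0x623453423472, 0x723453423472, 0x463453423472, 0x763453423472, 0x346453423472, 0x476453423472, 0x347453423472, 0x467453423472, 0x234653423472, 0x434653423472,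 0x534653423472, 0x234753423472, 0x434753423472, 0x534753423472, 0x123463423472, 0x423463423472, 0x523463423472, 0x343463423472, 0x543463423472, 0x643463423472, 0x743463423472, 0x453463423472, 0x123473423472, 0x423473423472, 0x523473423472, 0x643473423472, 0x453473423472, 0x343475423472, 0x543475423472, 0x643475423472, 0x743475423472, 0x645434623472, 0x745434623472, 0x465434623472, 0x475434623472, 0x476434623472, 0x547434623472, 0x647434623472, 0x467434623472, 0x634534623472, 0x764534623472, 0x674534623472, 0x764734623472, 0x343423412347, 0x543423412347, 0x643423412347, 0x453423412347, 0x463423412347, 0x465423412347, 0x475423412347, 0x476423412347, 0x612343412347, 0x452343412347, 0x462343412347, 0x645343412347, 0x465343412347, 0x546343412347, 0x476343412347, 0x347343412347, 0x647343412347, 0x634543412347, 0x734543412347, 0x464543412347, 0x474543412347, 0x346543412347, 0x746543412347, 0x547543412347, 0x647543412347, 0x547643412347, 0x647643412347,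 0x434743412347, 0x464743412347, 0x346743412347, 0x546743412347, 0x746743412347, 0x723453412347, 0x463453412347, 0x673453412347, 0x476453412347, 0x467453412347, 0x423473412347, 0x543473412347, 0x453473412347, 0x653473412347, 0x465473412347, 0x476473412347, 0x412342342347, 0x342342342347, 0x542342342347, 0x742342342347, 0x452342342347, 0x472342342347, 0x454342342347, 0x474342342347, 0x345342342347, 0x645342342347, 0x745342342347, 0x465342342347, 0x347342342347, 0x547342342347, 0x647342342347, 0x434542342347, 0x734542342347, 0x464542342347, 0x474542342347, 0x346542342347, 0x746542342347, 0x347542342347, 0x647542342347, 0x547642342347, 0x647642342347, 0x346742342347, 0x546742342347, 0x746742342347, 0x423452342347, 0x543452342347, 0x643452342347, 0x463452342347, 0x476452342347, 0x641234342347, 0x741234342347, 0x461234342347, 0x471234342347, 0x634234342347, 0x734234342347, 0x454234342347, 0x654234342347, 0x754234342347, 0x464234342347, 0x764234342347,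 0x474234342347, 0x674234342347, 0x465234342347, 0x346234342347, 0x546234342347, 0x746234342347, 0x347234342347, 0x645434342347, 0x465434342347, 0x346434342347, 0x546434342347, 0x746434342347, 0x464534342347, 0x346534342347, 0x546534342347, 0x234634342347, 0x534634342347, 0x754634342347, 0x674634342347, 0x547634342347, 0x234734342347, 0x434734342347, 0x643454342347, 0x743454342347, 0x463454342347, 0x347454342347, 0x647454342347, 0x234654342347, 0x234754342347, 0x764754342347, 0x654764342347, 0x764764342347, 0x234674342347, 0x434674342347, 0x534674342347, 0x734674342347, 0x754674342347, 0x674674342347, 0x546345342347, 0x347645342347, 0x547645342347, 0x647645342347, 0x546745342347, 0x746745342347, 0x234347542347, 0x534347542347, 0x634347542347, 0x754347542347, 0x764347542347, 0x234346742347, 0x2346234123432, 0x4346234123432, 0x5346234123432, 0x7346234123432, 0x4347234123432, 0x5347234123432, 0x1234634123432, 0x4234634123432, 0x5234634123432,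 0x7234634123432, 0x5434634123432, 0x6434634123432, 0x7434634123432, 0x4534634123432, 0x7534634123432, 0x4734634123432, 0x4754634123432, 0x3474634123432, 0x5474634123432, 0x6474634123432, 0x4674634123432, 0x4347634123432, 0x5347634123432, 0x6547634123432, 0x4534734123432, 0x4654734123432, 0x3464734123432, 0x5464734123432, 0x7464734123432, 0x4764734123432, 0x4346734123432, 0x5346734123432, 0x7546734123432, 0x4234654123432, 0x3434654123432, 0x5434654123432, 0x6434654123432, 0x7434654123432, 0x4734654123432, 0x3434754123432, 0x5434754123432, 0x6434754123432, 0x7434754123432, 0x6543464123432, 0x3434674123432, 0x5434674123432, 0x6434674123432, 0x4534346123432, 0x4634346123432, 0x4734346123432, 0x4654346123432, 0x4754346123432, 0x4764346123432, 0x4234643423432, 0x7234643423432, 0x3434643423432, 0x5434643423432, 0x6434643423432, 0x7434643423432, 0x4734643423432, 0x4234743423432, 0x3434743423432, 0x5434743423432, 0x6434743423432, 0x7434743423432,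 0x4123463423432, 0x7123463423432, 0x3423463423432, 0x5423463423432, 0x6423463423432, 0x4523463423432, 0x7523463423432]

def chain0_4 : List ℕ :=
  [0x2343463423432, 0x5343463423432, 0x7343463423432, 0x4543463423432, 0x6543463423432, 0x7543463423432, 0x7643463423432, 0x6743463423432, 0x3453463423432, 0x6453463423432, 0x7453463423432, 0x4753463423432, 0x5475463423432, 0x4347463423432, 0x4647463423432, 0x3467463423432, 0x5467463423432, 0x5434763423432, 0x6534763423432, 0x4654763423432, 0x4764763423432, 0x5423473423432, 0x7423473423432, 0x4523473423432, 0x4543473423432, 0x6543473423432, 0x6743473423432, 0x3453473423432, 0x6453473423432, 0x7453473423432, 0x3465473423432, 0x5465473423432, 0x4346473423432, 0x4746473423432, 0x3476473423432, 0x3434673423432, 0x5434673423432, 0x6434673423432, 0x4534673423432, 0x3423465423432, 0x5423465423432, 0x6423465423432, 0x4523465423432, 0x2343465423432, 0x4343465423432, 0x5343465423432, 0x6343465423432,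 0x7343465423432, 0x4543465423432, 0x6543465423432, 0x7543465423432, 0x7643465423432, 0x3453465423432, 0x6453465423432, 0x7453465423432, 0x4753465423432, 0x3423475423432, 0x5423475423432, 0x6423475423432, 0x7423475423432, 0x2343475423432, 0x4343475423432, 0x5343475423432, 0x6343475423432, 0x7343475423432, 0x6543475423432, 0x7543475423432, 0x7643475423432, 0x6743475423432, 0x5434346423432, 0x7434346423432, 0x7454346423432, 0x4654346423432, 0x4345346423432, 0x3423467423432, 0x5423467423432, 0x2343467423432, 0x4343467423432, 0x5343467423432, 0x6543467423432, 0x7643467423432, 0x5434234623432, 0x7434234623432, 0x3463434623432, 0x3473434623432, 0x6473434623432, 0x4745434623432, 0x3465434623432, 0x7465434623432, 0x3475434623432, 0x5475434623432, 0x6475434623432, 0x3476434623432, 0x5476434623432, 0x6476434623432, 0x3467434623432, 0x5467434623432, 0x7467434623432, 0x7434734623432, 0x4654734623432, 0x3434674623432, 0x5434674623432, 0x6434674623432,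 0x3473423465432, 0x5473423465432, 0x6473423465432, 0x4634234123472, 0x4654234123472, 0x4754234123472, 0x3464234123472, 0x4764234123472, 0x4674234123472, 0x2346234123472, 0x5346234123472, 0x2347234123472, 0x4347234123472, 0x5347234123472, 0x3465434123472, 0x5465434123472, 0x7465434123472, 0x3475434123472, 0x5475434123472, 0x6475434123472, 0x2346434123472, 0x4346434123472, 0x5346434123472, 0x7346434123472, 0x4746434123472, 0x5476434123472, 0x2347434123472, 0x4347434123472, 0x5347434123472, 0x6347434123472, 0x4647434123472, 0x3467434123472, 0x5467434123472, 0x1234634123472, 0x4234634123472, 0x5234634123472, 0x5434634123472, 0x6434634123472, 0x7434634123472, 0x4534634123472, 0x1234734123472, 0x4234734123472, 0x5234734123472, 0x4534734123472, 0x4654346123472, 0x4754346123472, 0x4712343423472, 0x6712343423472, 0x4652343423472, 0x3472343423472, 0x4672343423472, 0x4645343423472, 0x3465343423472, 0x5465343423472, 0x4346343423472, 0x5346343423472,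 0x4634543423472, 0x3464543423472, 0x3474543423472, 0x2346543423472, 0x4346543423472, 0x5346543423472, 0x1234643423472, 0x4234643423472, 0x5234643423472, 0x3434643423472, 0x5434643423472, 0x6434643423472, 0x7434643423472, 0x3474643423472, 0x2347643423472, 0x5347643423472, 0x4234743423472, 0x3434743423472, 0x6434743423472, 0x3464743423472, 0x3463453423472, 0x5463453423472, 0x2346453423472, 0x3476453423472, 0x4234653423472, 0x5434653423472, 0x7434653423472, 0x4534653423472, 0x4234753423472, 0x3434753423472, 0x5434753423472, 0x6434753423472, 0x4534753423472, 0x4123463423472, 0x3423463423472, 0x5423463423472, 0x7423463423472, 0x4523463423472, 0x5343463423472, 0x7343463423472, 0x4543463423472, 0x7543463423472, 0x7643463423472, 0x6743463423472, 0x4123473423472, 0x3423473423472, 0x6423473423472, 0x4523473423472, 0x3453473423472, 0x6453473423472, 0x2343475423472, 0x4343475423472, 0x5343475423472, 0x7343475423472, 0x6543475423472, 0x7543475423472,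 0x6743475423472, 0x4745434623472, 0x3465434623472, 0x3475434623472, 0x5475434623472, 0x5476434623472, 0x4634534623472, 0x4764734623472, 0x4543423412347, 0x4643423412347, 0x7453423412347, 0x3465423412347, 0x7465423412347, 0x4612343412347, 0x3462343412347, 0x4645343412347, 0x5465343412347, 0x5476343412347, 0x2347343412347, 0x6474543412347, 0x6547543412347, 0x3434743412347, 0x6434743412347, 0x3464743412347, 0x5464743412347, 0x7464743412347, 0x2346743412347, 0x4346743412347, 0x5346743412347, 0x7346743412347, 0x7546743412347, 0x6746743412347, 0x5463453412347, 0x6476453412347, 0x5467453412347, 0x3423473412347, 0x5423473412347, 0x4543473412347, 0x3453473412347, 0x6453473412347, 0x4653473412347, 0x3465473412347, 0x5476473412347, 0x6476473412347, 0x3412342342347, 0x5412342342347, 0x7412342342347, 0x4342342342347, 0x5342342342347, 0x7342342342347, 0x4542342342347, 0x4742342342347, 0x3452342342347, 0x6452342342347, 0x7452342342347, 0x3472342342347,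 0x5472342342347, 0x3454342342347, 0x6454342342347, 0x3474342342347, 0x7345342342347, 0x4645342342347, 0x6745342342347, 0x2347342342347, 0x5347342342347, 0x6347342342347, 0x3434542342347, 0x7434542342347, 0x3464542342347, 0x2346542342347, 0x7346542342347, 0x2347542342347, 0x4347542342347, 0x2346742342347, 0x7346742342347, 0x3423452342347, 0x5423452342347, 0x6423452342347, 0x6543452342347, 0x4643452342347, 0x7643452342347, 0x6476452342347, 0x3461234342347, 0x5461234342347, 0x7461234342347]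

def chain0_5 : List ℕ :=
  [0x3471234342347, 0x4654234342347, 0x3464234342347, 0x5464234342347, 0x3474234342347, 0x2346234342347, 0x4346234342347, 0x5346234342347, 0x7346234342347, 0x2347234342347, 0x4347234342347, 0x4645434342347, 0x3465434342347, 0x5465434342347, 0x2346434342347, 0x4346434342347, 0x5234634342347, 0x4674634342347, 0x3434734342347, 0x5434734342347, 0x6434734342347, 0x4643454342347, 0x5463454342347, 0x7463454342347, 0x2347454342347, 0x4347454342347, 0x1234674342347, 0x5234674342347, 0x7234674342347, 0x7534674342347, 0x4734674342347, 0x6734674342347, 0x6347645342347, 0x6547645342347, 0x7546745342347, 0x6746745342347, 0x1234347542347, 0x4754347542347, 0x4764347542347, 0x42346234123432, 0x72346234123432, 0x54346234123432, 0x64346234123432, 0x74346234123432, 0x47346234123432, 0x41234634123432, 0x71234634123432, 0x54234634123432, 0x64234634123432, 0x45234634123432, 0x75234634123432, 0x45434634123432, 0x65434634123432, 0x75434634123432,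 0x67434634123432, 0x34534634123432, 0x64534634123432, 0x74534634123432, 0x47534634123432, 0x54754634123432, 0x54674634123432, 0x46547634123432, 0x34534734123432, 0x54654734123432, 0x43464734123432, 0x47464734123432, 0x34764734123432, 0x54346734123432, 0x64346734123432, 0x45346734123432, 0x23434654123432, 0x53434654123432, 0x63434654123432, 0x73434654123432, 0x65434654123432, 0x75434654123432, 0x76434654123432, 0x23434754123432, 0x53434754123432, 0x63434754123432, 0x73434754123432, 0x65434754123432, 0x75434754123432, 0x76434754123432, 0x67434754123432, 0x46543464123432, 0x23434674123432, 0x53434674123432, 0x63434674123432, 0x34634346123432, 0x34734346123432, 0x34654346123432, 0x74654346123432, 0x34754346123432, 0x64754346123432, 0x34764346123432, 0x54764346123432, 0x64764346123432, 0x34234643423432, 0x54234643423432, 0x64234643423432, 0x47234643423432, 0x23434643423432, 0x53434643423432, 0x63434643423432, 0x65434643423432, 0x75434643423432,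 0x76434643423432, 0x47434643423432, 0x67434643423432, 0x34234743423432, 0x74234743423432, 0x23434743423432, 0x53434743423432, 0x63434743423432, 0x73434743423432, 0x65434743423432, 0x67434743423432, 0x64123463423432, 0x63423463423432, 0x45423463423432, 0x65423463423432, 0x34523463423432, 0x64523463423432, 0x47523463423432, 0x45343463423432, 0x47343463423432, 0x34543463423432, 0x64543463423432, 0x74543463423432, 0x47643463423432, 0x23453463423432, 0x43453463423432, 0x63453463423432, 0x76453463423432, 0x67453463423432, 0x64753463423432, 0x23467463423432, 0x43467463423432, 0x46534763423432, 0x34654763423432, 0x74654763423432, 0x34764763423432, 0x54764763423432, 0x45423473423432, 0x34523473423432, 0x34543473423432, 0x64543473423432, 0x23453473423432, 0x43453473423432, 0x63453473423432, 0x67453473423432, 0x23465473423432, 0x53465473423432, 0x34346473423432, 0x64346473423432, 0x74346473423432, 0x34746473423432, 0x23476473423432, 0x43476473423432,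 0x53434673423432, 0x63434673423432, 0x45434673423432, 0x65434673423432, 0x76434673423432, 0x45423465423432, 0x12343465423432, 0x42343465423432, 0x52343465423432, 0x62343465423432, 0x54343465423432, 0x64343465423432, 0x74343465423432, 0x45343465423432, 0x65343465423432, 0x75343465423432, 0x46343465423432, 0x47343465423432, 0x34543465423432, 0x74543465423432, 0x23453465423432, 0x63453465423432, 0x73453465423432, 0x23423475423432, 0x53423475423432, 0x63423475423432, 0x73423475423432, 0x65423475423432, 0x75423475423432, 0x76423475423432, 0x67423475423432, 0x12343475423432, 0x42343475423432, 0x62343475423432, 0x72343475423432, 0x64343475423432, 0x46543475423432, 0x47543475423432, 0x47643475423432, 0x34654346423432, 0x74654346423432, 0x34345346423432, 0x53423467423432, 0x42343467423432, 0x52343467423432, 0x54343467423432, 0x64343467423432, 0x45343467423432, 0x46543467423432, 0x47643467423432, 0x23463434623432, 0x34745434623432, 0x64745434623432,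 0x23465434623432, 0x73465434623432, 0x43475434623432, 0x53475434623432, 0x63475434623432, 0x65475434623432, 0x23467434623432, 0x43467434623432, 0x73467434623432, 0x75467434623432, 0x34654734623432, 0x74654734623432, 0x23434674623432, 0x53434674623432, 0x63434674623432, 0x43473423465432, 0x34634234123472, 0x54634234123472, 0x34654234123472, 0x23464234123472, 0x45346234123472, 0x45347234123472, 0x23465434123472, 0x53465434123472, 0x12346434123472, 0x42346434123472, 0x52346434123472, 0x54346434123472, 0x64346434123472, 0x64347434123472, 0x34647434123472, 0x41234634123472, 0x54234634123472, 0x64234634123472, 0x74234634123472, 0x45234634123472, 0x75434634123472, 0x67434634123472, 0x34234734123472, 0x45234734123472, 0x34534734123472, 0x34654346123472, 0x34754346123472, 0x34712343423472, 0x43472343423472, 0x34645343423472, 0x23465343423472, 0x53465343423472, 0x34346343423472, 0x54346343423472, 0x54634543423472, 0x23464543423472, 0x12346543423472,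 0x42346543423472, 0x52346543423472, 0x54346543423472, 0x41234643423472, 0x34234643423472, 0x64234643423472, 0x74234643423472, 0x43434643423472, 0x75434643423472, 0x52347643423472, 0x64234743423472, 0x23463453423472, 0x53463453423472, 0x23476453423472, 0x34234653423472, 0x54234653423472, 0x74234653423472, 0x34234753423472, 0x23434753423472, 0x53434753423472, 0x63434753423472, 0x74123463423472, 0x73423463423472, 0x75423463423472, 0x67423463423472, 0x34123473423472, 0x43423473423472, 0x63423473423472, 0x34523473423472, 0x23453473423472, 0x43453473423472, 0x12343475423472, 0x42343475423472, 0x72343475423472]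

def chain0_6 : List ℕ :=
  [0x46543475423472, 0x47543475423472, 0x34745434623472, 0x64745434623472, 0x23465434623472, 0x23475434623472, 0x43475434623472, 0x53475434623472, 0x34634534623472, 0x64764734623472, 0x74643423412347, 0x43465423412347, 0x73465423412347, 0x34612343412347, 0x23434743412347, 0x63434743412347, 0x23464743412347, 0x12346743412347, 0x52346743412347, 0x72346743412347, 0x75346743412347, 0x47346743412347, 0x43423473412347, 0x53423473412347, 0x64543473412347, 0x23412342342347, 0x73412342342347, 0x54342342342347, 0x45342342342347, 0x34542342342347, 0x64542342342347, 0x34742342342347, 0x73452342342347, 0x67452342342347, 0x23472342342347, 0x43472342342347, 0x23474342342347, 0x52347342342347, 0x62347342342347, 0x45347342342347, 0x46347342342347, 0x43464542342347, 0x47346542342347, 0x72346742342347, 0x43423452342347, 0x53423452342347, 0x63423452342347, 0x65423452342347, 0x76423452342347, 0x43461234342347, 0x73461234342347,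 0x43471234342347, 0x34654234342347, 0x23464234342347, 0x53464234342347, 0x52346234342347, 0x47346234342347, 0x42347234342347, 0x34347234342347, 0x54347234342347, 0x64347234342347, 0x23465434342347, 0x53465434342347, 0x42346434342347, 0x23434734342347, 0x54643454342347, 0x75234674342347, 0x47234674342347, 0x64754347542347, 0x34764347542347, 0x64764347542347, 0x342346234123432, 0x542346234123432, 0x642346234123432, 0x742346234123432, 0x472346234123432, 0x654346234123432, 0x754346234123432, 0x764346234123432, 0x474346234123432, 0x674346234123432, 0x541234634123432, 0x641234634123432, 0x454234634123432, 0x654234634123432, 0x345234634123432, 0x645234634123432, 0x745234634123432, 0x345434634123432, 0x745434634123432, 0x234534634123432, 0x434534634123432, 0x634534634123432, 0x734534634123432, 0x764534634123432, 0x674534634123432, 0x647534634123432, 0x346547634123432, 0x234534734123432, 0x643464734123432, 0x347464734123432, 0x234764734123432,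 0x654346734123432, 0x764346734123432, 0x523434654123432, 0x723434654123432, 0x453434654123432, 0x653434654123432, 0x753434654123432, 0x463434654123432, 0x123434754123432, 0x623434754123432, 0x723434754123432, 0x465434754123432, 0x475434754123432, 0x346543464123432, 0x234654346123432, 0x734654346123432, 0x434754346123432, 0x634754346123432, 0x534764346123432, 0x434234643423432, 0x534234643423432, 0x634234643423432, 0x654234643423432, 0x764234643423432, 0x347234643423432, 0x523434643423432, 0x623434643423432, 0x653434643423432, 0x463434643423432, 0x763434643423432, 0x467434643423432, 0x234234743423432, 0x123434743423432, 0x523434743423432, 0x623434743423432, 0x653434743423432, 0x673434743423432, 0x463423463423432, 0x345423463423432, 0x645423463423432, 0x634523463423432, 0x764523463423432, 0x647523463423432, 0x234543463423432, 0x634543463423432, 0x423453463423432, 0x623453463423432, 0x463453463423432, 0x763453463423432, 0x423467463423432,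 0x346534763423432, 0x234764763423432, 0x345423473423432, 0x234523473423432, 0x234543473423432, 0x123453473423432, 0x623453473423432, 0x643453473423432, 0x463453473423432, 0x523465473423432, 0x634346473423432, 0x734346473423432, 0x674346473423432, 0x234746473423432, 0x743476473423432, 0x642343465423432, 0x452343465423432, 0x464343465423432, 0x764343465423432, 0x674343465423432, 0x346343465423432, 0x546343465423432, 0x734543465423432, 0x723453465423432, 0x123423475423432, 0x623423475423432, 0x723423475423432, 0x653423475423432, 0x465423475423432, 0x342343475423432, 0x642343475423432, 0x346543475423432, 0x746543475423432, 0x647543475423432, 0x234654346423432, 0x734654346423432, 0x234345346423432, 0x453423467423432, 0x634745434623432, 0x723465434623432, 0x653475434623432, 0x723467434623432, 0x743467434623432, 0x473467434623432, 0x234654734623432, 0x234634234123472, 0x534634234123472, 0x234654234123472, 0x523465434123472, 0x642346434123472,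 0x754234634123472, 0x674234634123472, 0x345234734123472, 0x234534734123472, 0x234654346123472, 0x434754346123472, 0x343472343423472, 0x123465343423472, 0x523465343423472, 0x542346543423472, 0x741234643423472, 0x634234643423472, 0x123463453423472, 0x523463453423472, 0x234234753423472, 0x123434753423472, 0x523434753423472, 0x234523473423472, 0x123453473423472, 0x342343475423472, 0x523475434623472, 0x234634534623472, 0x623434743412347, 0x752346743412347, 0x472346743412347, 0x234742342342347, 0x423472342342347, 0x343472342342347, 0x452347342342347, 0x462347342342347, 0x643423452342347, 0x343471234342347, 0x234654234342347, 0x234347234342347, 0x342346434342347, 0x6342346234123432, 0x6542346234123432, 0x7642346234123432, 0x4742346234123432, 0x6742346234123432, 0x6745234634123432, 0x6734534634123432, 0x2347464734123432, 0x3465434754123432, 0x6475434754123432, 0x2346543464123432, 0x7234654346123432, 0x3434234643423432, 0x4634234643423432,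 0x6123434743423432, 0x6523434743423432, 0x2345423473423432, 0x6123453473423432, 0x4623453473423432, 0x7346543475423432, 0x2345234734123472]

def chain0 : List (List ℕ) := unpack (((chain0_0 ++ (chain0_1 ++ chain0_2)) ++ ((chain0_3 ++ chain0_4) ++ (chain0_5 ++ chain0_6))))

def chain1_0 : List ℕ :=
  [0x0, 0x3, 0x4234743242347432, 0x43, 0x34234743242347432, 0x234743242347432, 0x343, 0x543, 0x643, 0x2347432342347432, 0x234743276742347432, 0x6234743242347432, 0x2347432, 0x4343, 0x5343, 0x6343, 0x76743, 0x23474323, 0x42347432342347432, 0x23474312342347432, 0x62347432342347432, 0x767234743242347432, 0x12347432, 0x42347432, 0x62347432, 0x54343, 0x64343, 0x2124343, 0x767343, 0x46343, 0x476743, 0x123474323, 0x423474323, 0x623474323, 0x542347432342347432, 0x642347432342347432, 0x423474312342347432, 0x7672347432342347432, 0x462347432342347432, 0x234743262347432, 0x412347432, 0x7672347432, 0x342347432, 0x542347432, 0x234743243, 0x454343, 0x7674343,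 0x464343, 0x21264343, 0x4767343, 0x346343, 0x546343, 0x54767343, 0x3476743, 0x4123474323, 0x76723474323, 0x3423474323, 0x5423474323, 0x6423474323, 0x4623474323, 0x3423474312342347432, 0x76742347432342347432, 0x6423474312342347432, 0x47672347432342347432, 0x767346343, 0x634767343, 0x2347432623474323, 0x3412347432, 0x76742347432, 0x4342347432, 0x5342347432, 0x1234743243, 0x2347432343, 0x5234743243, 0x767234743243, 0x6234743243, 0x7672124343, 0x47674343, 0x76746343, 0x64767343, 0x34767343, 0x52347432643, 0x5346343, 0x212346343, 0x7674767343, 0x43476743, 0x34123474323, 0x54123474323, 0x4234743276743, 0x476723474323, 0x43423474323, 0x53423474323, 0x63423474323, 0x767423474323, 0x34623474323, 0x62347432643, 0x767234743276743, 0x767423474312342347432, 0x476742347432342347432, 0x42347432623474323, 0x43412347432, 0x212342347432, 0x34342347432, 0x54342347432, 0x64342347432, 0x47673423474326343, 0x45342347432, 0x12347432343, 0x2347432543, 0x62347432543,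 0x7672347432543, 0x52347432343, 0x7672347432343, 0x42347432343, 0x62347432343, 0x45234743243, 0x46234743243, 0x523474326343, 0x47672124343, 0x347674343, 0x547674343, 0x3476742347432342347432, 0x5343476743, 0x12347432643, 0x434767343, 0x234743276743, 0x2347432643, 0x45346343, 0x76747674343, 0x343476743, 0x543476743, 0x2123423474323, 0x434123474323, 0x34234743276743, 0x7674123474323, 0x3476723474323, 0x343423474323, 0x543423474323, 0x643423474323, 0x23474323423474327674343, 0x453423474323, 0x7673423474323, 0x463423474323, 0x23474326234743243, 0x434623474323, 0x623474326343, 0x7672347432767343, 0x5434767343, 0x23474327673423474323, 0x342347432623474323, 0x2347432767423474323, 0x343412347432, 0x543412347432, 0x643412347432, 0x423474326342347432343, 0x2124342347432, 0x7673423474326343, 0x5463412347432343, 0x434342347432, 0x534342347432, 0x23474324767343, 0x347673423474326343, 0x454342347432, 0x7674342347432, 0x434523474324343, 0x6434523474324343,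 0x767434523474324343, 0x345342347432, 0x645342347432, 0x46342347432767343, 0x23474325343, 0x623474325343, 0x412347432343, 0x76723474325343, 0x42347432543, 0x2347432476743, 0x123474326343, 0x452347432343, 0x47672347432343, 0x342347432343, 0x542347432343, 0x642347432343, 0x462347432343, 0x345234743243, 0x346234743243, 0x2347432767343, 0x4523474326343, 0x23474326343, 0x6234743254342347432343, 0x347672124343, 0x3434767343, 0x5347674343, 0x345346343, 0x53434767343, 0x234743262347432543, 0x42347432643, 0x4342347432623474323, 0x21243423474323, 0x76734123474323, 0x5434123474323, 0x6434123474323, 0x2347432767212342347432343, 0x434234743276743, 0x76742347432643, 0x43476723474323, 0x5463423474325343, 0x5343423474323, 0x234743247674343, 0x2347432423474327674343, 0x4543423474323, 0x76743423474323, 0x23474327673423474325343, 0x4643423474323, 0x34234743262347432343, 0x423474323423474327674343, 0x534234743262347432343, 0x4623474324343, 0x6453423474323,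 0x2347432767342347432343, 0x47673423474323, 0x3463423474323, 0x5463423474323, 0x234743262347432343, 0x76723474327674343, 0x23474327674343, 0x54234743234234743246343, 0x4623474326343, 0x47672347432767343, 0x3423474327674343, 0x123474324342347432343, 0x5343412347432, 0x123474324767343, 0x3423474326342347432343, 0x21254342347432, 0x76743412347432, 0x434234743254343, 0x6434234743254343, 0x23474326342347432343, 0x767434234743254343, 0x32124342347432, 0x21264342347432, 0x43423474327674343, 0x52347432453423474325343, 0x767423474326343, 0x63423474326343, 0x3423474326343, 0x53423474326343, 0x6342347432767343, 0x234743124342347432343, 0x34767342347432343, 0x463412347432343, 0x2347431243423474326343, 0x5434342347432, 0x6434342347432, 0x23474326452347432343, 0x4534342347432, 0x76734342347432, 0x3434523474324343, 0x423474324767343, 0x4234743234234743245342347432, 0x341234743247673423474323, 0x7673434523474324343, 0x21234342347432, 0x76745342347432,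 0x212434234743254343, 0x47674342347432, 0x34523474324343, 0x46434523474324343, 0x6453423474326343, 0x46342347432343, 0x6234743254343, 0x5234743246343, 0x346342347432767343, 0x76746342347432767343, 0x464342347432767343, 0x423474325343, 0x4623474325343, 0x3412347432343, 0x5412347432343, 0x6412347432343, 0x476723474325343, 0x342347432543, 0x23474323476743, 0x4123474326343, 0x767234743243412347432343, 0x3452347432343, 0x4542347432343, 0x6452347432343, 0x2347432543423474324767343, 0x347672347432343, 0x547672347432343, 0x234743276746343, 0x234743254343, 0x4342347432343, 0x5342347432343, 0x6342347432343, 0x76742347432343, 0x4642347432343, 0x767452347432343, 0x234743243412347432]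

def chain1_1 : List ℕ :=
  [0x5462347432343, 0x4345234743243, 0x767234743243412347432, 0x4346234743243, 0x42347432767343, 0x34523474326343, 0x767423474327674343, 0x423474327674343, 0x423474326343, 0x7673434234743254343, 0x647673423474325343, 0x2347432343423474326343, 0x4234743123423474326343, 0x767423474323423474326343, 0x234743254342347432343, 0x7672347432453423474325343, 0x2347432623474325343, 0x342347432643, 0x321243423474323, 0x212543423474323, 0x212643423474323, 0x23474327673423474326343, 0x476734123474323, 0x767434123474323, 0x2347432767342347432767343, 0x6434234743276743, 0x342347432623474326343, 0x3434234743246343, 0x2347432342347432623474324343, 0x3434234743276743, 0x5434234743276743, 0x2347432623474326343, 0x6234743264343, 0x5234743264343, 0x76743423474324767343, 0x423474324342347432343, 0x463423474325343, 0x767463423474325343, 0x6234743124343, 0x767343423474323, 0x2347432767423474325343, 0x4234743247674343, 0x4234743262347432343,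 0x6347674342347432, 0x54234743262347432343, 0x212343423474323, 0x767453423474323, 0x52347432767342347432343, 0x476743423474323, 0x234743264342347432343, 0x34643423474323, 0x767463423474323, 0x76747673423474323, 0x434234743262347432343, 0x4341234743246343, 0x642347432767342347432343, 0x542347432767342347432343, 0x2347432642347432342347432343, 0x4767212342347432343, 0x623474324343, 0x46423474324343, 0x234743276742347432343, 0x647673423474323, 0x7672347432767342347432343, 0x42347432767342347432343, 0x342347432623474325343, 0x347673423474323, 0x547673423474323, 0x43463423474323, 0x53463423474323, 0x23474325463423474325343, 0x62347431264343, 0x1234743264343, 0x4234743234234743246343, 0x434123474324767343, 0x7674534234743246343, 0x4767434234743246343, 0x46234743264343, 0x52347431264343, 0x76721243423474324767343, 0x23474327672124343, 0x53423474327674343, 0x2123423474326343, 0x23474324342347432343, 0x47673423474325343, 0x234743243423474326343,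 0x767234743124343, 0x234743254767343, 0x3434234743254343, 0x4123474324767343, 0x4234743234234743243412347432, 0x34234743247673423474323, 0x212343412347432, 0x7672124342347432, 0x423474323412347432343, 0x476743412347432, 0x34234743254343, 0x46434234743254343, 0x2347432642347432343, 0x3423474327672124343, 0x212342347432767343, 0x21264342347432767343, 0x523474324342347432343, 0x76723474324343, 0x2347432546343, 0x343423474327674343, 0x76743423474327674343, 0x643423474327674343, 0x5234743243412347432343, 0x34123474326343, 0x5423474323423474326343, 0x76742347432342347432767343, 0x2347432453423474325343, 0x6423474326343, 0x23474326423474324343, 0x5423474326343, 0x767342347432767343, 0x345423474324343, 0x43423474326343, 0x453423474326343, 0x423474323423474326343, 0x642347432767343, 0x5342347432767343, 0x342347432767343, 0x54767342347432343, 0x76746342347432343, 0x4767342347432343, 0x47673412347432343, 0x76747673412347432343, 0x63412347432343,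 0x234743242347432342347432343, 0x234743246342347432767343, 0x7672347432454343, 0x767434342347432, 0x234743276742347432767343, 0x6423474324767343, 0x42347432623474326343, 0x347672124342347432, 0x234743242347432623474324343, 0x2347432454343, 0x476734342347432, 0x3423474324767343, 0x5423474324767343, 0x234743234234743245342347432, 0x41234743247673423474323, 0x76734234743247673423474323, 0x767346342347432767343, 0x212434342347432, 0x234743246343, 0x3212434234743254343, 0x647674342347432, 0x21234234743254343, 0x347674342347432, 0x7674234743247673423474323, 0x4523474324343, 0x634523474324343, 0x7674634523474324343, 0x4634523474324343, 0x76721243463423474323, 0x767453423474326343, 0x623474324342347432543, 0x464342347432343, 0x767234743254343, 0x64234743254343, 0x3464342347432767343, 0x23474327674767342347432343, 0x64342347432767343, 0x23474324234743243412347432, 0x23474324234743245342347432, 0x3423474325343, 0x5423474325343, 0x6423474325343,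 0x234743234534234743246343, 0x2347431254342347432, 0x62347432464343, 0x52347432464343, 0x43412347432343, 0x2123423474325343, 0x767412347432343, 0x23474327674767343, 0x767423474325343, 0x1234743243412347432, 0x2347432534342347432, 0x4342347432543, 0x6234743254342347432, 0x423474323476743, 0x54123474326343, 0x423474327672124343, 0x767343423474327674343, 0x76723474324342347432343, 0x6234743243412347432343, 0x234743243412347432343, 0x2347432434123474324767343, 0x23474324343, 0x43452347432343, 0x212342347432343, 0x767212342347432343, 0x2347432434767234743234342347432, 0x2347432463476742347432343, 0x4234743234234743264767343, 0x543423474324767343, 0x2347432542347432342347432, 0x234743245342347432, 0x767234743245342347432, 0x76747672347432343, 0x523474324343, 0x4234743254343, 0x123474324343, 0x54342347432343, 0x64342347432343, 0x543412347432343, 0x45342347432343, 0x767342347432343, 0x2126342347432343, 0x476742347432343, 0x6234743243412347432,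 0x234743264767343, 0x6476742347432343, 0x4234743243412347432, 0x5234743243412347432, 0x5476743423474325343, 0x34345234743243, 0x54345234743243, 0x64345234743243, 0x62347431254342347432, 0x34346234743243, 0x767234743243476743, 0x234743243476743, 0x542347432767343, 0x434523474326343, 0x5423474327674343, 0x6453423474325343, 0x2347432342347432342347432343, 0x2347432767434523474324343, 0x234743123423474326343, 0x6423474323423474326343, 0x4234743254342347432343, 0x42347432623474325343, 0x4342347432643, 0x234743276747674343, 0x2347432767423474326343, 0x76721243423474323, 0x234743263412347432343, 0x6476734123474323, 0x21234234743262347432343, 0x423474327673423474326343, 0x34342347432643, 0x3476734123474323, 0x5476734123474323, 0x4767434123474323, 0x2347432643423474326343, 0x63434234743276743, 0x767434234743276743, 0x767476734123474323, 0x34347673423474323, 0x434234743246343, 0x7672347432423474323423474325343, 0x2347432423474323423474325343,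 0x212343423474326343, 0x43434234743276743, 0x53434234743276743, 0x234743234767342347432343, 0x234743264343, 0x643423474324767343, 0x43423474324767343, 0x6423474324342347432343, 0x63423474325343, 0x4643423474325343, 0x234743124343, 0x64234743124343, 0x34234743247674343, 0x47674234743124343, 0x54342347432643, 0x234743247672124343, 0x5234743276742347432343, 0x6476743423474323, 0x452347432767342347432343, 0x3476743423474323, 0x5476743423474323, 0x6434234743262347432343, 0x76743423474326343, 0x6343423474326343, 0x5343423474326343, 0x623474323423474324343, 0x7673463423474323, 0x767347673423474323, 0x2347432476734123474323, 0x43476734123474323, 0x234743276745342347432343, 0x234743242347432342347432, 0x341234743246343, 0x54341234743246343, 0x453423474324767343, 0x2347432767453423474325343, 0x212543423474326343, 0x321243423474326343, 0x767423474324342347432343, 0x6423474324343, 0x767234743276742347432343, 0x6347673423474323]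

def chain1_2 : List ℕ :=
  [0x2347432643423474325343, 0x342347432767342347432343, 0x343423474326343, 0x4347673423474323, 0x2123463423474323, 0x23474324767212342347432343, 0x4342347432767343, 0x543463423474323, 0x423474323423474324343, 0x34234743243423474323, 0x453463423474323, 0x23474324634523474324343, 0x5234743243423474327674343, 0x42347431243423474325343, 0x52347432423474324343, 0x2347431264343, 0x212643423474324767343, 0x41234743264343, 0x234743234234743246343, 0x34123474324767343, 0x2347432434767423474325343, 0x45434234743246343, 0x767434234743246343, 0x12347431264343, 0x21243423474324767343, 0x34534234743246343, 0x4534234743246343, 0x342347432454343, 0x21243423474326343, 0x623474324342347432343, 0x7673423474325343, 0x4234743243423474326343, 0x5234743124343, 0x4234743254767343, 0x7674234743247674343, 0x234743234234743243412347432, 0x4234743247673423474323, 0x342347432434234743276743, 0x1234743246343, 0x3423474323412347432343,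 0x47672124342347432, 0x23474323412347432343, 0x3476743412347432, 0x42347432434234743276743, 0x23474323452347432343, 0x634234743254343, 0x7674634234743254343, 0x4634234743254343, 0x7674234743264343, 0x2124342347432767343, 0x234743243476734123474323, 0x7672124342347432767343, 0x2347432434234743276743, 0x64523474324343, 0x4342347432423474324342347432, 0x2347432462347432342347432343, 0x234743276743423474325343, 0x542347432342347432767343, 0x434123474326343, 0x343476742347432343, 0x434767412347432343, 0x423474312342347432767343, 0x234743243423474327674343, 0x123474323423474326343, 0x2123423474324767343, 0x234743263423474324343, 0x42347431264343, 0x76742347431264343, 0x76742347432767343, 0x23474325342347432343, 0x767234743243423474323, 0x45423474324343, 0x76734523474324343, 0x543423474326343, 0x643423474326343, 0x3453423474326343, 0x4543423474326343, 0x4767234743243423474323, 0x23474323423474326343, 0x45342347432767343, 0x7674767342347432343,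 0x547674342347432343, 0x64767342347432343, 0x7673412347432343, 0x647673412347432343, 0x6234743246342347432767343, 0x643412347432343, 0x2347432346342347432767343, 0x476743412347432343, 0x1234743124343, 0x4767434342347432, 0x63423474324767343, 0x767423474324767343, 0x42347432454343, 0x3476734342347432, 0x62347432412347432343, 0x4234743245342347432, 0x53423474324767343, 0x767234743234234743243412347432, 0x2347431243423474323, 0x1234743247673423474323, 0x767321243423474323, 0x23474326412347432343, 0x4234743246343, 0x12347432412347432343, 0x234743234123474326343, 0x2124342347432343, 0x34234743254767343, 0x476743423474326343, 0x54634234743254343, 0x76743463423474323, 0x4234743123423474324343, 0x21243423474324343, 0x23474325463423474323, 0x23474324342347432543, 0x7674234743254343, 0x4767434523474326343, 0x47674342347432767343, 0x4234743234123474326343, 0x7674342347432767343, 0x234743247673423474323, 0x42347432423474324342347432, 0x76723474324234743243412347432,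 0x23474324534234743246343, 0x43423474325343, 0x53423474325343, 0x234743243462347432423474325343, 0x2347432434234743264767343, 0x4234743263476742347432343, 0x5234743242347432342347432, 0x1234743245342347432, 0x2347432464343, 0x21243423474325343, 0x4767412347432343, 0x767234743254342347432, 0x767476723474325343, 0x4767423474325343, 0x41234743243412347432, 0x234743254342347432, 0x7672347432434523474324343, 0x34342347432543, 0x54342347432543, 0x64342347432543, 0x3423474323476743, 0x5423474323476743, 0x1234743243476743, 0x21264342347432343, 0x64342347432623474324343, 0x52347432342347432767343, 0x76734234743247672347432343, 0x6234743234234743264343, 0x423474324343, 0x343452347432343, 0x543452347432343, 0x643452347432343, 0x212543423474325343, 0x23474327674534234743246343, 0x4234743234767412347432343, 0x4234743276734234743246343, 0x43462347432423474325343, 0x234743234234743264767343, 0x342347432434623474323, 0x1234743242347432342347432, 0x6234743245342347432,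 0x767476742347432343, 0x2347432452347432343, 0x2347432412347432343, 0x4123474324343, 0x454342347432343, 0x7674342347432343, 0x76743412347432343, 0x345342347432343, 0x645342347432343, 0x543423474325343, 0x3476742347432343, 0x4234743264767343, 0x46234743243412347432, 0x63476742347432343, 0x34234743243412347432, 0x54234743243412347432, 0x64234743243412347432, 0x45234743243412347432, 0x23474324234743262347432343, 0x476734234743245342347432, 0x476743423474325343, 0x12347432434523474324343, 0x76747674342347432343, 0x523474324234743124343, 0x423474324234743254343, 0x343423474325343, 0x534345234743243, 0x634345234743243, 0x7674345234743243, 0x2347432462347432342347432, 0x2347432343476743, 0x434346234743243, 0x7672347432343476743, 0x5234743243476743, 0x2347432543476743, 0x5434523474326343, 0x41234743243423474323, 0x767453423474325343, 0x453423474325343, 0x23474326434234743254343, 0x76723474324342347432767343, 0x4345234743243476743, 0x2347432643423474327674343,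 0x43423474326234743264343, 0x2347432767423474327674343, 0x12347432342347432767343, 0x3423474326234743264343, 0x643476742347432343, 0x412347432342347432767343, 0x52347432434234743254343, 0x64123474324343, 0x476721243423474323, 0x4234743263412347432343, 0x63476734123474323, 0x234743264342347432767343, 0x434342347432643, 0x2123434234743276743, 0x23474324767342347432343, 0x34767434123474323, 0x2347432463423474323, 0x234743276743452347432343, 0x767434123474326343, 0x234743276743412347432343, 0x5434342347432643, 0x6234743234234743124343, 0x7673434234743276743, 0x7673476734123474323, 0x62347432463423474323, 0x534347673423474323, 0x2347432423474312342347432, 0x34234743246343, 0x5434234743246343, 0x6434234743246343, 0x42347432423474323423474325343, 0x454342347432767343, 0x345342347432767343, 0x543434234743276743, 0x4234743234234743124343, 0x341234743243423474323, 0x453434234743276743, 0x523474324767342347432343, 0x12347432434234743254343, 0x4234743243423474325343,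 0x4234743264343, 0x23474323423474324767343, 0x643423474325343, 0x4234743124343, 0x634234743124343, 0x7674234743124343, 0x434234743247674343, 0x347674234743124343, 0x4234743247672124343, 0x63476743423474323, 0x43476734342347432, 0x5476723474323423474325343, 0x43476743423474323, 0x53476743423474323, 0x62347432423474324343, 0x76723474323423474324343, 0x23474323423474324343, 0x23474323476734123474323, 0x543476734123474323, 0x4234743242347432342347432, 0x41234743246343, 0x34234743247672124343, 0x76721243423474326343, 0x63423474324343, 0x767423474324343, 0x76743476734123474323, 0x54347673423474323, 0x234743243423474324343, 0x21243463423474323, 0x767234743243423474325343, 0x6412347432342347432343, 0x54342347432767343, 0x4234743243423474323, 0x7674347673423474323, 0x76743423474324343, 0x2347432347673423474323, 0x43423474324343, 0x23474312434234743254343, 0x476734234743243412347432, 0x234743247673423474326343, 0x2347431243423474325343, 0x4123474324342347432,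 0x234743123423474324343, 0x2347432423474324343, 0x7672347432423474324343, 0x234743123423474324767343, 0x341234743264343, 0x23474324234743246343, 0x2347431234234743246343, 0x21234234743246343, 0x64234743264343, 0x534234743246343, 0x1234743243423474323]

def chain1_3 : List ℕ :=
  [0x4623474324342347432343, 0x423474325343476743, 0x2347432542347432343, 0x23474324123474326343, 0x342347432423474324342347432, 0x234743243423474323, 0x623474323412347432343, 0x76734234743254343, 0x21234234743264343, 0x54234743264343, 0x32124342347432767343, 0x2347432543423474325343, 0x42347431243423474323, 0x76743434234743276743, 0x42347431234234743124343, 0x23474323434234743276743, 0x52347432434234743276743, 0x123474324342347432543, 0x7674523474324343, 0x4623474323412347432343, 0x767434523474326343, 0x5342347432342347432767343, 0x42347432342347432767343, 0x5434123474326343, 0x23474327674342347432343, 0x43476742347432343, 0x4523474323423474326343, 0x62347432434234743254343,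 0x34767412347432343, 0x2347432767434234743246343, 0x2347432343423474327674343, 0x23474312342347432767343, 0x23474324342347432767343, 0x12347432423474326343, 0x212342347432623474324343, 0x41234743245342347432, 0x64767423474324343, 0x34767423474324343, 0x6452347432342347432343, 0x342347431264343, 0x212342347431264343, 0x7672347432343423474323, 0x21254342347432343, 0x5423474324343, 0x47673423474324343, 0x2347432423474326343, 0x523474323423474326343, 0x623474323423474326343, 0x7673423474324767343, 0x434234743254767343, 0x542347432343476743, 0x47674342347432343, 0x212643423474325343, 0x767412347432343476743, 0x476721243423474325343, 0x34234743245342347432, 0x5423474325343476743, 0x412347432343476743, 0x52347432343423474323, 0x41234743124343, 0x7672123423474324343, 0x234743241234743264343, 0x64234743245342347432, 0x3462347432423474324343, 0x54234743245342347432, 0x12347432347673423474323, 0x76723474324345234743243, 0x23474324345234743243,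 0x64234743246343, 0x54234743246343, 0x4543423474325343, 0x54234743124343, 0x42347432342347432343, 0x234743253463423474323, 0x2123423474324343, 0x234743234342347432543, 0x234743254767342347432343, 0x23474324234743243423474325343, 0x64234743243423474323, 0x54234743243423474323, 0x2347432423474324342347432, 0x23474324234743124342347432, 0x23474327673423474324767343, 0x3462347432423474326343, 0x6234743243423474324767343, 0x4234743234234743247674343, 0x434767234743234342347432, 0x234743263476742347432343, 0x3423474326234743254343, 0x42347432464343, 0x321243423474325343, 0x642347432464343, 0x4767234743254342347432, 0x34767423474325343, 0x42347432423474312342347432, 0x641234743243412347432, 0x4234743254342347432, 0x234743242347432623474325343, 0x423474323434767343, 0x476743452347432343, 0x2347432434523474324343, 0x41234743242347432343, 0x534342347432543, 0x634342347432543, 0x7674342347432543, 0x23474325343476743, 0x53423474323476743, 0x12347432343476743,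 0x7672124342347432343, 0x5234743243423474325343, 0x4234743234346234743243, 0x4342347432623474324343, 0x5234743242347432767343, 0x2347432342347432767343, 0x342347432623474324343, 0x7674234743247672347432343, 0x234743234767412347432343, 0x3462347432423474325343, 0x623474324234743264343, 0x767234743234234743264343, 0x5234743234234743264343, 0x76734345234743243, 0x234743234234743264343, 0x3423474324343, 0x42347432412347432343, 0x1234743242347432343, 0x5343452347432343, 0x423474327673423474324343, 0x212343452347432343, 0x76743452347432343, 0x76721243423474325343, 0x2347431243423474324767343, 0x463423474323423474325343, 0x234743276734234743246343, 0x453423474323423474325343, 0x23474324234743264767343, 0x212345234743234342347432, 0x346234743242347432767343, 0x42347432434623474323, 0x2347432634123474324343, 0x2347431234234743264343, 0x5234743243423474324767343, 0x767234743247674342347432, 0x2123476742347432343, 0x54123474324343, 0x34123474324343,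 0x212343423474325343, 0x76745342347432343, 0x52347432423474325343, 0x5343423474325343, 0x6345342347432343, 0x76743423474325343, 0x5434234743264767343, 0x34234743264767343, 0x412347432423474326343, 0x2347432767423474324342347432, 0x6234743247674342347432, 0x46342347432464343, 0x463476742347432343, 0x534234743243412347432, 0x634234743243412347432, 0x34234743254342347432, 0x7674234743243412347432, 0x234743234234743262347432343, 0x6234743242347432767343, 0x7672347432767423474324343, 0x423474326234743264343, 0x1234743242347432767343, 0x462347432423474326343, 0x3476743423474325343, 0x76734234743245342347432, 0x647674342347432343, 0x42347432623474324343, 0x76742347432343476743, 0x41234743124342347432, 0x2347431234234743124343, 0x23474324234743124343, 0x623474324234743124343, 0x76723474324234743124343, 0x42347432423474325343, 0x23474324234743254343, 0x76742347432423474325343, 0x6343423474325343, 0x47674345234743243, 0x1234743243423474325343,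 0x42347432343476743, 0x52347432343476743, 0x21234234743245342347432, 0x6434346234743243, 0x34234743242347432342347432, 0x45234743243476743, 0x23474324346234743243, 0x2347432343423474323, 0x54234743234346234743243, 0x54342347432623474324343, 0x3452347432342347432343, 0x767234743243463423474323, 0x345234743243476743, 0x23474324342347432423474324342347432, 0x234743276742347432343476743, 0x4623474323423474326343, 0x4342347432464343, 0x5434767423474325343, 0x434234743247674342347432, 0x2347432434234743254343, 0x6234743243423474325343, 0x7672347432423474326343, 0x634123474324343, 0x7674123474324343, 0x3476721243423474323, 0x21243434234743276743, 0x4642347432342347432343, 0x23474323463423474323, 0x767234743234234743124343, 0x234743234234743124343, 0x634234743246343, 0x76745342347432767343, 0x3423474312342347432343, 0x234743234345234743243, 0x434123474324343, 0x2347432452347432343476743, 0x234743243423474325343, 0x34234743264343, 0x2347432423474324767343,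 0x34234743124343, 0x76723474312342347432343, 0x76734234743124343, 0x623474324234743246343, 0x476734234743246343, 0x4767423474324343, 0x4623474312342347432343, 0x2347432767463423474325343, 0x6423474312342347432343, 0x476723474323423474325343, 0x342347431243423474323, 0x767423474324342347432, 0x462347432423474324343, 0x2347432434767343, 0x612347432342347432343, 0x7673423474324343, 0x5462347432342347432343, 0x45234743234234743264343, 0x1234743124342347432, 0x642347432342347432343, 0x234743276746342347432343, 0x47672347432342347432343, 0x412347432342347432343, 0x42347432345346343, 0x76734234743243412347432, 0x4634234743245342347432, 0x5234743243463423474323, 0x523474324342347432, 0x423474324342347432, 0x123474324342347432, 0x42347432423474324343, 0x52347432423474324767343, 0x434767423474324343, 0x4542347432342347432343, 0x76742347432423474324343, 0x523474324234743246343, 0x634234743264343, 0x76734234743246343, 0x23474312343423474323, 0x452347432343476743,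 0x5423474323423474325343, 0x534234743264343, 0x423474312342347432343, 0x434234743264343, 0x534234743124343, 0x3434767423474325343, 0x342347432342347432767343, 0x543476742347432343, 0x2347432412347432343476743, 0x6342347432464343, 0x6434234743264767343, 0x234743254123474326343, 0x234743262347432342347432343, 0x234743243463423474323, 0x341234743245342347432, 0x4234743247674342347432, 0x4346234743242347432343, 0x23474324342347432, 0x4234743123423474325343, 0x452347432342347432343, 0x53423474324343, 0x341234743124343, 0x76723474324234743246343, 0x342347432342347432343, 0x42347432423474326343, 0x52347432423474326343, 0x62347432423474326343, 0x76723474323423474326343, 0x7674234743245342347432, 0x23474323434523474324343, 0x23474324347673423474323, 0x634234743245342347432, 0x4634234743243412347432, 0x534234743245342347432, 0x7672347432423474324767343, 0x7672347432342347432343]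

def chain1_4 : List ℕ :=
  [0x21263423474324343, 0x1234743247674342347432, 0x2347432623474324342347432343, 0x7674234743246343, 0x542347432342347432343, 0x2347432342347432343, 0x62347432423474324342347432, 0x423474324234743124343, 0x7672347432423474324342347432, 0x2347432767423474324767343, 0x2347432342347432464343, 0x34767234743234342347432, 0x23474324234743247674343, 0x2347432623474323423474324343, 0x23474312342347431264343, 0x76734342347432543, 0x1234743234234743264343, 0x42347432342347432464343, 0x234743243423474324767343, 0x234743234234743247674343, 0x43452347432342347432343, 0x23474326476742347432343, 0x345234743234342347432, 0x234743242347432464343, 0x76723474327673423474324343, 0x234743262347432423474324343, 0x423474326234743254343, 0x2347432342347431264343, 0x23474327673423474324343, 0x342347432464343, 0x5234743242347432343, 0x234743247672124342347432, 0x434767423474325343, 0x234743245346343, 0x62347432342347432767343, 0x23474326234743242347432343,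 0x23474323434767343, 0x5423474323434767343, 0x4234743242347432343, 0x7674234743242347432343, 0x47674342347432543, 0x53423474323423474325343, 0x42347432634123474324343, 0x234743234346234743243, 0x34342347432623474324343, 0x234743242347432767343, 0x642347432423474325343, 0x23474324767412347432343, 0x462347432423474325343, 0x34234743247672347432343, 0x4234743247672347432343, 0x76723474324234743264343, 0x23474324234743264343, 0x523474324234743264343, 0x4234743234234743264343, 0x12347432342347432343, 0x234743242347432343, 0x23474325412347432343, 0x61234743242347432343, 0x767343452347432343, 0x523474324347673423474323, 0x63423474323423474325343, 0x23474327674234743246343, 0x34234743232124342347432, 0x54234743232124342347432, 0x4234743232124342347432, 0x46234743242347432767343, 0x2347432434623474323, 0x23474327674234743264343, 0x234743264123474324343, 0x34234743123423474325343, 0x41234743242347432767343, 0x2347432623474324343, 0x21234234743124343,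 0x523474323423474325343, 0x2347432423474325343, 0x23474324542347432343, 0x7672347432423474325343, 0x767343423474325343, 0x1234743243463423474323, 0x434234743264767343, 0x423474324234743264343, 0x4234743242347432767343, 0x234743247674342347432, 0x23474326234743254343, 0x234743247672347432767343, 0x234743242347431264343, 0x23474326234743264343, 0x234743276742347431264343, 0x123474324234743264343, 0x642347432343476743, 0x2347432345346343, 0x4234743124342347432, 0x7674234743124342347432, 0x234743234234743254343, 0x623474324234743254343, 0x347674345234743243, 0x2347432434234743246343, 0x2347431243463423474323, 0x23474326234743124343, 0x4347674342347432543, 0x767234743234342347432, 0x34623474323423474326343, 0x23474323434234743254343, 0x234743262347431264343, 0x34234743247674342347432, 0x434234743232124342347432, 0x76723474323423474325343, 0x76734123474324343, 0x462347432342347432343, 0x234743264767342347432343, 0x476723474312342347432343,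 0x4523474323423474325343, 0x2347432343423474325343, 0x5234743124342347432, 0x6423474323423474325343, 0x642347432423474324343, 0x623474323423474325343, 0x623474312342347432343, 0x4623474323423474325343, 0x6423474324342347432, 0x62347432342347432343, 0x76712347432342347432343, 0x234743247672347432343, 0x234743124342347432, 0x2347432454342347432, 0x5234743234342347432, 0x76723474324342347432, 0x1234743234342347432, 0x423474323423474325343, 0x4234743234234743254343, 0x2347432543423474326343, 0x23474312342347432343, 0x234743234342347432, 0x346234743242347432343, 0x234743123423474325343, 0x52347432342347432343, 0x642347432423474326343, 0x767234743242347432343, 0x2347432347674342347432, 0x7674234743242347432767343, 0x4767234743234342347432, 0x3461234743242347432343, 0x45234743234342347432, 0x64234743242347432343, 0x46234743242347432343, 0x461234743242347432343, 0x2347432767423474324343, 0x23474324534342347432, 0x347674342347432543, 0x3423474323423474325343,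 0x234743232124342347432, 0x2347432476743412347432, 0x62347432423474325343, 0x6234743242347432343, 0x7671234743242347432343, 0x23474323423474325343, 0x76723474324234743254343, 0x2347431234342347432, 0x767234743247672347432343]

def chain1 : List (List ℕ) := unpack (((chain1_0 ++ chain1_1) ++ (chain1_2 ++ (chain1_3 ++ chain1_4))))

def chain2_0 : List ℕ :=
  [0x0, 0x4, 0x54, 0x64, 0x654, 0x4654, 0x342347434347432434654, 0x4342347434347432434654, 0x54342347434347432434654, 0x43423474343474324354342347434347432434, 0x43423474343474324343423474343474324354, 0x3423474343474324354342347434347432434, 0x3423474343474324343423474343474324354, 0x543423474343474324354, 0x342347434347432434342347434347432434, 0x3423474343474324364342347434347432434, 0x43423474343474324343423474343474324364, 0x54342347434347432434, 0x1342347434347432434342347434347432434, 0x63423474343474324343423474343474324354, 0x43423474343474324354, 0x643423474343474324354,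 0x6543423474343474324354, 0x4654342347434347432434, 0x6342347434347432434342347434347432434, 0x46543423474343474324364, 0x3423474343474324343423474343474324364, 0x4342347434347432434, 0x64342347434347432434, 0x654342347434347432434, 0x46543423474343474324354, 0x34234743434743243643423474343474324354, 0x3423474343474324354, 0x643423474343474324364, 0x46342347434347432434342347434347432434, 0x43423474343474324364, 0x6543423474343474324364, 0x464342347434347432434, 0x546342347434347432434, 0x342347434347432434, 0x46342347434347432434, 0x342347434347432434342347434347432434654, 0x3423474343474324364, 0x543423474343474324364, 0x6342347434347432434]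

def chain2 : List (List ℕ) := unpack (chain2_0)

def chain3_0 : List ℕ :=
  [0x0, 0x5, 0x6, 0x65, 0x342347434347432435, 0x34234743434743243, 0x342347434347432436, 0x634234743434743243]

def chain3 : List (List ℕ) := unpack (chain3_0)

def chain4_0 : List ℕ :=
  [0x0, 0x212]

def chain4 : List (List ℕ) := unpack (chain4_0)

def chain5_0 : List ℕ :=
  [0x0, 0x1]

def chain5 : List (List ℕ) := unpack (chain5_0)

def chain : List (ℕ × List (List ℕ)) := [(0, chain0), (1, chain1), (2, chain2), (5, chain3), (9, chain4), (18, chain5)]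

def gensE_0 : List ℕ :=
  [0x45154, 0x45254, 0x45454, 0x3, 0x6, 0x7, 0x456434654, 0x457434754]

def gensE : List (List ℕ) := unpack (gensE_0)

def gensH_0 : List ℕ :=
  [0x3, 0x6, 0x7, 0x45154, 0x4521254, 0x456434654, 0x457434754]

def gensH : List (List ℕ) := unpack (gensH_0)

def gensA_0 : List ℕ :=
  [0x3, 0x6, 0x7, 0x45154, 0x4521254, 0x456434654, 0x457434754, 0x3, 0x4, 0x6, 0x7]

def gensA : List (List ℕ) := unpack (gensA_0)

def gensP_0 : List ℕ :=
  [0x3, 0x6, 0x7, 0x45154, 0x4521254, 0x456434654, 0x457434754, 0x452643465474564346254]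

def gensP : List (List ℕ) := unpack (gensP_0)

def idxH_0 : List ℕ :=
  [0x4, 0x5, 0x6, 0x1, 0x212, 0x7, 0x8]

def idxH : List (List ℕ) := unpack (idxH_0)

def idxP_0 : List ℕ :=
  [0x4, 0x5, 0x6, 0x1, 0x212, 0x7, 0x8, 0x27672]

def idxP : List (List ℕ) := unpack (idxP_0)

def wordsHTree_0 : Tree :=
  .node 64 (.node 32 (.node 16 (.node 8 (.node 4 (.node 2 (.node 1 (.leaf 0x0) (.leaf 0x3)) (.node 1 (.leaf 0x76361) (.leaf 0x27421))) (.node 2 (.node 1 (.leaf 0x1531) (.leaf 0x151)) (.node 1 (.leaf 0x763651) (.leaf 0x527321)))) (.node 4 (.node 2 (.node 1 (.leaf 0x53) (.leaf 0x5)) (.node 1 (.leaf 0x275321) (.leaf 0x576361))) (.node 2 (.node 1 (.leaf 0x4232) (.leaf 0x5151)) (.node 1 (.leaf 0x27321) (.leaf 0x62762))))) (.node 8 (.node 4 (.node 2 (.node 1 (.leaf 0x31) (.leaf 0x1)) (.node 1 (.leaf 0x7636) (.leaf 0x2742))) (.node 2 (.node 1 (.leaf 0x531) (.leaf 0x51)) (.node 1 (.leaf 0x27532) (.leaf 0x57636)))) (.node 4 (.node 2 (.node 1 (.leaf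 0x153) (.leaf 0x15)) (.node 1 (.leaf 0x76365) (.leaf 0x52732))) (.node 2 (.node 1 (.leaf 0x5153) (.leaf 0x515)) (.node 1 (.leaf 0x2732) (.leaf 0x32732)))))) (.node 16 (.node 8 (.node 4 (.node 2 (.node 1 (.leaf 0x43) (.leaf 0x4)) (.node 1 (.leaf 0x32721) (.leaf 0x2721))) (.node 2 (.node 1 (.leaf 0x5232) (.leaf 0x1541)) (.node 1 (.leaf 0x65762) (.leaf 0x27521)))) (.node 4 (.node 2 (.node 1 (.leaf 0x543) (.leaf 0x54)) (.node 1 (.leaf 0x52721) (.leaf 0x27152))) (.node 2 (.node 1 (.leaf 0x232) (.leaf 0x3232)) (.node 1 (.leaf 0x6736) (.leaf 0x67363))))) (.node 8 (.node 4 (.node 2 (.node 1 (.leaf 0x23) (.leaf 0x2)) (.node 1 (.leaf 0x74231) (.leaf 0x7421))) (.node 2 (.node 1 (.leaf 0x5432) (.leaf 0x1521)) (.node 1 (.leaf 0x71532) (.leaf 0x57321)))) (.node 4 (.node 2 (.node 1 (.leaf 0x523) (.leaf 0x52)) (.node 1 (.leaf 0x75321) (.leaf 0x15732))) (.node 2 (.node 1 (.leaf 0x432) (.leaf 0x4323)) (.node 1 (.leaf 0x7321) (.leaf 0x6762))))))) (.node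 32 (.node 16 (.node 8 (.node 4 (.node 2 (.node 1 (.leaf 0x431) (.leaf 0x41)) (.node 1 (.leaf 0x3272) (.leaf 0x272))) (.node 2 (.node 1 (.leaf 0x5431) (.leaf 0x541)) (.node 1 (.leaf 0x5272) (.leaf 0x53272)))) (.node 4 (.node 2 (.node 1 (.leaf 0x1543) (.leaf 0x154)) (.node 1 (.leaf 0x32752) (.leaf 0x2752))) (.node 2 (.node 1 (.leaf 0x2321) (.leaf 0x5154)) (.node 1 (.leaf 0x67361) (.leaf 0x673631))))) (.node 8 (.node 4 (.node 2 (.node 1 (.leaf 0x231) (.leaf 0x21)) (.node 1 (.leaf 0x7423) (.leaf 0x742))) (.node 2 (.node 1 (.leaf 0x5231) (.leaf 0x521)) (.node 1 (.leaf 0x7532) (.leaf 0x75323)))) (.node 4 (.node 2 (.node 1 (.leaf 0x1523) (.leaf 0x152)) (.node 1 (.leaf 0x57323) (.leaf 0x5732))) (.node 2 (.node 1 (.leaf 0x4321) (.leaf 0x5152)) (.node 1 (.leaf 0x732) (.leaf 0x7323)))))) (.node 16 (.node 8 (.node 4 (.node 2 (.node 1 (.leaf 0x423) (.leaf 0x42)) (.node 1 (.leaf 0x7231) (.leaf 0x721))) (.node 2 (.node 1 (.leaf 0x532) (.leaf 0x5323))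 (.node 1 (.leaf 0x1572) (.leaf 0x7521)))) (.node 4 (.node 2 (.node 1 (.leaf 0x5423) (.leaf 0x542)) (.node 1 (.leaf 0x5721) (.leaf 0x7152))) (.node 2 (.node 1 (.leaf 0x32) (.leaf 0x323)) (.node 1 (.leaf 0x74321) (.leaf 0x67642))))) (.node 8 (.node 4 (.node 2 (.node 1 (.leaf 0x4231) (.leaf 0x421)) (.node 1 (.leaf 0x723) (.leaf 0x72))) (.node 2 (.node 1 (.leaf 0x1532) (.leaf 0x5421)) (.node 1 (.leaf 0x572) (.leaf 0x5723)))) (.node 4 (.node 2 (.node 1 (.leaf 0x5321) (.leaf 0x1542)) (.node 1 (.leaf 0x7523) (.leaf 0x752))) (.node 2 (.node 1 (.leaf 0x321) (.leaf 0x3231)) (.node 1 (.leaf 0x7432) (.leaf 0x74323)))))))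

def wordsHTree_1 : Tree :=
  .node 64 (.node 32 (.node 16 (.node 8 (.node 4 (.node 2 (.node 1 (.leaf 0x7367) (.leaf 0x73673)) (.node 1 (.leaf 0x7631) (.leaf 0x761))) (.node 2 (.node 1 (.leaf 0x15362) (.leaf 0x572761)) (.node 1 (.leaf 0x657) (.leaf 0x7651)))) (.node 4 (.node 2 (.node 1 (.leaf 0x53621) (.leaf 0x536231)) (.node 1 (.leaf 0x52761) (.leaf 0x7615))) (.node 2 (.node 1 (.leaf 0x3641) (.leaf 0x36431)) (.node 1 (.leaf 0x6743) (.leaf 0x674))))) (.node 8 (.node 4 (.node 2 (.node 1 (.leaf 0x6432) (.leaf 0x64323)) (.node 1 (.leaf 0x7623) (.leaf 0x762))) (.node 2 (.node 1 (.leaf 0x6523) (.leaf 0x652)) (.node 1 (.leaf 0x32765) (.leaf 0x761521)))) (.node 4 (.node 2 (.node 1 (.leaf 0x56232) (.leaf 0x61521)) (.node 1 (.leaf 0x76523) (.leaf 0x7652))) (.node 2 (.node 1 (.leaf 0x623) (.leaf 0x62)) (.node 1 (.leaf 0x3276) (.leaf 0x67421)))))) (.node 16 (.node 8 (.node 4 (.node 2 (.node 1 (.leaf 0x76743) (.leaf 0x7674)) (.node 1 (.leaf 0x73641)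 (.leaf 0x27621))) (.node 2 (.node 1 (.leaf 0x6153) (.leaf 0x615)) (.node 1 (.leaf 0x3675) (.leaf 0x36753)))) (.node 4 (.node 2 (.node 1 (.leaf 0x6531) (.leaf 0x651)) (.node 1 (.leaf 0x5672) (.leaf 0x56723))) (.node 2 (.node 1 (.leaf 0x631) (.leaf 0x61)) (.node 1 (.leaf 0x367) (.leaf 0x3673))))) (.node 8 (.node 4 (.node 2 (.node 1 (.leaf 0x73674) (.leaf 0x76272)) (.node 1 (.leaf 0x76431) (.leaf 0x7641))) (.node 2 (.node 1 (.leaf 0x3615) (.leaf 0x36153)) (.node 1 (.leaf 0x6753) (.leaf 0x675)))) (.node 4 (.node 2 (.node 1 (.leaf 0x3651) (.leaf 0x36531)) (.node 1 (.leaf 0x671531) (.leaf 0x67151))) (.node 2 (.node 1 (.leaf 0x361) (.leaf 0x3631)) (.node 1 (.leaf 0x673) (.leaf 0x67))))))) (.node 32 (.node 16 (.node 8 (.node 4 (.node 2 (.node 1 (.leaf 0x632) (.leaf 0x6323)) (.node 1 (.leaf 0x2736) (.leaf 0x7642))) (.node 2 (.node 1 (.leaf 0x563) (.leaf 0x56)) (.node 1 (.leaf 0x65721) (.leaf 0x71561)))) (.node 4 (.node 2 (.node 1 (.leaf 0x6532)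 (.leaf 0x1561)) (.node 1 (.leaf 0x7563) (.leaf 0x756))) (.node 2 (.node 1 (.leaf 0x6423) (.leaf 0x642)) (.node 1 (.leaf 0x7632) (.leaf 0x6721))))) (.node 8 (.node 4 (.node 2 (.node 1 (.leaf 0x7673) (.leaf 0x767)) (.node 1 (.leaf 0x7361) (.leaf 0x73631))) (.node 2 (.node 1 (.leaf 0x15623) (.leaf 0x1562)) (.node 1 (.leaf 0x57621) (.leaf 0x3657)))) (.node 4 (.node 2 (.node 1 (.leaf 0x56231) (.leaf 0x5621)) (.node 1 (.leaf 0x56742) (.leaf 0x27156))) (.node 2 (.node 1 (.leaf 0x6431) (.leaf 0x641)) (.node 1 (.leaf 0x3674) (.leaf 0x6272)))))) (.node 16 (.node 8 (.node 4 (.node 2 (.node 1 (.leaf 0x2362) (.leaf 0x36232)) (.node 1 (.leaf 0x763) (.leaf 0x76))) (.node 2 (.node 1 (.leaf 0x5362) (.leaf 0x53623)) (.node 1 (.leaf 0x5276) (.leaf 0x76151)))) (.node 4 (.node 2 (.node 1 (.leaf 0x23652) (.leaf 0x57276)) (.node 1 (.leaf 0x6571) (.leaf 0x765))) (.node 2 (.node 1 (.leaf 0x364) (.leaf 0x3643)) (.node 1 (.leaf 0x67431) (.leaf 0x6741))))) (.node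 8 (.node 4 (.node 2 (.node 1 (.leaf 0x3621) (.leaf 0x36231)) (.node 1 (.leaf 0x6327) (.leaf 0x2761))) (.node 2 (.node 1 (.leaf 0x36521) (.leaf 0x365231)) (.node 1 (.leaf 0x5674) (.leaf 0x27651)))) (.node 4 (.node 2 (.node 1 (.leaf 0x36152) (.leaf 0x727651)) (.node 1 (.leaf 0x5761) (.leaf 0x57631))) (.node 2 (.node 1 (.leaf 0x23641) (.leaf 0x72761)) (.node 1 (.leaf 0x73621) (.leaf 0x6274)))))))

def wordsHTree_2 : Tree :=
  .node 64 (.node 32 (.node 16 (.node 8 (.node 4 (.node 2 (.node 1 (.leaf 0x64232) (.leaf 0x76741)) (.node 1 (.leaf 0x7364) (.leaf 0x2762))) (.node 2 (.node 1 (.leaf 0x653) (.leaf 0x65)) (.node 1 (.leaf 0x56721) (.leaf 0x57632)))) (.node 4 (.node 2 (.node 1 (.leaf 0x5632) (.leaf 0x6151)) (.node 1 (.leaf 0x36751) (.leaf 0x27652))) (.node 2 (.node 1 (.leaf 0x63) (.leaf 0x6)) (.node 1 (.leaf 0x3671) (.leaf 0x36731))))) (.node 8 (.node 4 (.node 2 (.node 1 (.leaf 0x64321) (.leaf 0x76742)) (.node 1 (.leaf 0x6732) (.leaf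 0x7621))) (.node 2 (.node 1 (.leaf 0x61523) (.leaf 0x6152)) (.node 1 (.leaf 0x23675) (.leaf 0x76521)))) (.node 4 (.node 2 (.node 1 (.leaf 0x65231) (.leaf 0x6521)) (.node 1 (.leaf 0x67532) (.leaf 0x76152))) (.node 2 (.node 1 (.leaf 0x6231) (.leaf 0x621)) (.node 1 (.leaf 0x2367) (.leaf 0x6742)))))) (.node 16 (.node 8 (.node 4 (.node 2 (.node 1 (.leaf 0x362) (.leaf 0x3623)) (.node 1 (.leaf 0x2763) (.leaf 0x276))) (.node 2 (.node 1 (.leaf 0x52362) (.leaf 0x72765)) (.node 1 (.leaf 0x576) (.leaf 0x5763)))) (.node 4 (.node 2 (.node 1 (.leaf 0x3652) (.leaf 0x36523)) (.node 1 (.leaf 0x56741) (.leaf 0x2765))) (.node 2 (.node 1 (.leaf 0x2364) (.leaf 0x7276)) (.node 1 (.leaf 0x7362) (.leaf 0x62741))))) (.node 8 (.node 4 (.node 2 (.node 1 (.leaf 0x23642) (.leaf 0x762721)) (.node 1 (.leaf 0x7643) (.leaf 0x764))) (.node 2 (.node 1 (.leaf 0x365) (.leaf 0x3653)) (.node 1 (.leaf 0x67153) (.leaf 0x6715)))) (.node 4 (.node 2 (.node 1 (.leaf 0x5236) (.leaf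 0x53632)) (.node 1 (.leaf 0x67531) (.leaf 0x6751))) (.node 2 (.node 1 (.leaf 0x36) (.leaf 0x363)) (.node 1 (.leaf 0x6731) (.leaf 0x671))))))) (.node 32 (.node 16 (.node 8 (.node 4 (.node 2 (.node 1 (.leaf 0x36421) (.leaf 0x7627)) (.node 1 (.leaf 0x3672) (.leaf 0x27641))) (.node 2 (.node 1 (.leaf 0x5361) (.leaf 0x53631)) (.node 1 (.leaf 0x567) (.leaf 0x5673)))) (.node 4 (.node 2 (.node 1 (.leaf 0x1536) (.leaf 0x15363)) (.node 1 (.leaf 0x57641) (.leaf 0x65327))) (.node 2 (.node 1 (.leaf 0x2361) (.leaf 0x36321)) (.node 1 (.leaf 0x6273) (.leaf 0x627))))) (.node 8 (.node 4 (.node 2 (.node 1 (.leaf 0x6232) (.leaf 0x7671)) (.node 1 (.leaf 0x736) (.leaf 0x7363))) (.node 2 (.node 1 (.leaf 0x5623) (.leaf 0x562)) (.node 1 (.leaf 0x75236) (.leaf 0x53276)))) (.node 4 (.node 2 (.node 1 (.leaf 0x65232) (.leaf 0x15621)) (.node 1 (.leaf 0x5762) (.leaf 0x2756))) (.node 2 (.node 1 (.leaf 0x643) (.leaf 0x64)) (.node 1 (.leaf 0x36741) (.leaf 0x62721))))))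 (.node 16 (.node 8 (.node 4 (.node 2 (.node 1 (.leaf 0x6321) (.leaf 0x7672)) (.node 1 (.leaf 0x3627) (.leaf 0x76421))) (.node 2 (.node 1 (.leaf 0x1563) (.leaf 0x156)) (.node 1 (.leaf 0x75631) (.leaf 0x7561)))) (.node 4 (.node 2 (.node 1 (.leaf 0x5631) (.leaf 0x561)) (.node 1 (.leaf 0x6572) (.leaf 0x7156))) (.node 2 (.node 1 (.leaf 0x64231) (.leaf 0x6421)) (.node 1 (.leaf 0x6723) (.leaf 0x672))))) (.node 8 (.node 4 (.node 2 (.node 1 (.leaf 0x3642) (.leaf 0x76271)) (.node 1 (.leaf 0x7236) (.leaf 0x2764))) (.node 2 (.node 1 (.leaf 0x2365) (.leaf 0x36532)) (.node 1 (.leaf 0x5764) (.leaf 0x57643)))) (.node 4 (.node 2 (.node 1 (.leaf 0x536) (.leaf 0x5363)) (.node 1 (.leaf 0x5671) (.leaf 0x56731))) (.node 2 (.node 1 (.leaf 0x236) (.leaf 0x3632)) (.node 1 (.leaf 0x62731) (.leaf 0x6271)))))))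

def wordsHTree_3 : Tree :=
  .node 64 (.node 32 (.node 16 (.node 8 (.node 4 (.node 2 (.node 1 (.leaf 0x6361) (.leaf 0x63631)) (.node 1 (.leaf 0x73) (.leaf 0x7))) (.node 2 (.node 1 (.leaf 0x63651) (.leaf 0x636531)) (.node 1 (.leaf 0x71531) (.leaf 0x7151)))) (.node 4 (.node 2 (.node 1 (.leaf 0x63615) (.leaf 0x572721)) (.node 1 (.leaf 0x753) (.leaf 0x75))) (.node 2 (.node 1 (.leaf 0x727321) (.leaf 0x762762)) (.node 1 (.leaf 0x74232) (.leaf 0x67641))))) (.node 8 (.node 4 (.node 2 (.node 1 (.leaf 0x63641) (.leaf 0x72721)) (.node 1 (.leaf 0x743) (.leaf 0x74))) (.node 2 (.node 1 (.leaf 0x15636) (.leaf 0x727521)) (.node 1 (.leaf 0x1571) (.leaf 0x15731)))) (.node 4 (.node 2 (.node 1 (.leaf 0x56361) (.leaf 0x563631)) (.node 1 (.leaf 0x57) (.leaf 0x573))) (.node 2 (.node 1 (.leaf 0x76736) (.leaf 0x767363)) (.node 1 (.leaf 0x7232) (.leaf 0x6761)))))) (.node 16 (.node 8 (.node 4 (.node 2 (.node 1 (.leaf 0x636) (.leaf 0x6363)) (.node 1 (.leaf 0x731)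 (.leaf 0x71))) (.node 2 (.node 1 (.leaf 0x56364) (.leaf 0x57272)) (.node 1 (.leaf 0x7531) (.leaf 0x751)))) (.node 4 (.node 2 (.node 1 (.leaf 0x6365) (.leaf 0x63653)) (.node 1 (.leaf 0x7153) (.leaf 0x715))) (.node 2 (.node 1 (.leaf 0x72732) (.leaf 0x732732)) (.node 1 (.leaf 0x67643) (.leaf 0x6764))))) (.node 8 (.node 4 (.node 2 (.node 1 (.leaf 0x7273) (.leaf 0x727)) (.node 1 (.leaf 0x27431) (.leaf 0x2741))) (.node 2 (.node 1 (.leaf 0x63652) (.leaf 0x57274)) (.node 1 (.leaf 0x5271) (.leaf 0x52731)))) (.node 4 (.node 2 (.node 1 (.leaf 0x72753) (.leaf 0x7275)) (.node 1 (.leaf 0x6576) (.leaf 0x65763))) (.node 2 (.node 1 (.leaf 0x6362) (.leaf 0x63623)) (.node 1 (.leaf 0x3271) (.leaf 0x6276))))))) (.node 32 (.node 16 (.node 8 (.node 4 (.node 2 (.node 1 (.leaf 0x62361) (.leaf 0x72741)) (.node 1 (.leaf 0x273) (.leaf 0x27))) (.node 2 (.node 1 (.leaf 0x75271) (.leaf 0x15727)) (.node 1 (.leaf 0x53273) (.leaf 0x5327)))) (.node 4 (.node 2 (.node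 1 (.leaf 0x65361) (.leaf 0x57271)) (.node 1 (.leaf 0x2753) (.leaf 0x275))) (.node 2 (.node 1 (.leaf 0x73271) (.leaf 0x76276)) (.node 1 (.leaf 0x3274) (.leaf 0x32743))))) (.node 8 (.node 4 (.node 2 (.node 1 (.leaf 0x6364) (.leaf 0x7272)) (.node 1 (.leaf 0x7431) (.leaf 0x741))) (.node 2 (.node 1 (.leaf 0x5636) (.leaf 0x56363)) (.node 1 (.leaf 0x571) (.leaf 0x5731)))) (.node 4 (.node 2 (.node 1 (.leaf 0x65362) (.leaf 0x72752)) (.node 1 (.leaf 0x157) (.leaf 0x1573))) (.node 2 (.node 1 (.leaf 0x62362) (.leaf 0x636232)) (.node 1 (.leaf 0x6763) (.leaf 0x676)))))) (.node 16 (.node 8 (.node 4 (.node 2 (.node 1 (.leaf 0x72731) (.leaf 0x7271)) (.node 1 (.leaf 0x2743) (.leaf 0x274))) (.node 2 (.node 1 (.leaf 0x727531) (.leaf 0x72751)) (.node 1 (.leaf 0x3275) (.leaf 0x32753)))) (.node 4 (.node 2 (.node 1 (.leaf 0x636521) (.leaf 0x72715)) (.node 1 (.leaf 0x527) (.leaf 0x5273))) (.node 2 (.node 1 (.leaf 0x63621) (.leaf 0x636231)) (.node 1 (.leaf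 0x327) (.leaf 0x3273))))) (.node 8 (.node 4 (.node 2 (.node 1 (.leaf 0x6236) (.leaf 0x7274)) (.node 1 (.leaf 0x2731) (.leaf 0x271))) (.node 2 (.node 1 (.leaf 0x6536) (.leaf 0x5727)) (.node 1 (.leaf 0x27531) (.leaf 0x2751)))) (.node 4 (.node 2 (.node 1 (.leaf 0x7527) (.leaf 0x75273)) (.node 1 (.leaf 0x27153) (.leaf 0x2715))) (.node 2 (.node 1 (.leaf 0x7327) (.leaf 0x73273)) (.node 1 (.leaf 0x32741) (.leaf 0x62764)))))))

def wordsHTree : Tree :=
  .node 256 (.node 128 (wordsHTree_0) (wordsHTree_1)) (.node 128 (wordsHTree_2) (wordsHTree_3))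

def wordsH (i : ℕ) : List ℕ := decode 1000 (wordsHTree.get i)

def wordsPTree_0 : Tree :=
  .node 64 (.node 32 (.node 16 (.node 8 (.node 4 (.node 2 (.node 1 (.leaf 0x0) (.leaf 0x8531)) (.node 1 (.leaf 0x851) (.leaf 0x18751))) (.node 2 (.node 1 (.leaf 0x7854) (.leaf 0x831)) (.node 1 (.leaf 0x81) (.leaf 0x1871)))) (.node 4 (.node 2 (.node 1 (.leaf 0x7282) (.leaf 0x4831)) (.node 1 (.leaf 0x481) (.leaf 0x2872))) (.node 2 (.node 1 (.leaf 0x784) (.leaf 0x8153)) (.node 1 (.leaf 0x815) (.leaf 0x5784))))) (.node 8 (.node 4 (.node 2 (.node 1 (.leaf 0x72852) (.leaf 0x853)) (.node 1 (.leaf 0x85) (.leaf 0x1875))) (.node 2 (.node 1 (.leaf 0x5187) (.leaf 0x483)) (.node 1 (.leaf 0x48) (.leaf 0x4187)))) (.node 4 (.node 2 (.node 1 (.leaf 0x7841) (.leaf 0x83)) (.node 1 (.leaf 0x8) (.leaf 0x187))) (.node 2 (.node 1 (.leaf 0x1873) (.leaf 0x4853)) (.node 1 (.leaf 0x485) (.leaf 0x57841)))))) (.node 16 (.node 8 (.node 4 (.node 2 (.node 1 (.leaf 0x78154)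 (.leaf 0x18531)) (.node 1 (.leaf 0x1851) (.leaf 0x8751))) (.node 2 (.node 1 (.leaf 0x7518) (.leaf 0x1831)) (.node 1 (.leaf 0x181) (.leaf 0x871)))) (.node 4 (.node 2 (.node 1 (.leaf 0x8731) (.leaf 0x7874)) (.node 1 (.leaf 0x4181) (.leaf 0x4871))) (.node 2 (.node 1 (.leaf 0x7184) (.leaf 0x5787)) (.node 1 (.leaf 0x1815) (.leaf 0x8715))))) (.node 8 (.node 4 (.node 2 (.node 1 (.leaf 0x87153) (.leaf 0x85431)) (.node 1 (.leaf 0x8541) (.leaf 0x7853))) (.node 2 (.node 1 (.leaf 0x785) (.leaf 0x8431)) (.node 1 (.leaf 0x841) (.leaf 0x8272)))) (.node 4 (.node 2 (.node 1 (.leaf 0x748) (.leaf 0x7187)) (.node 1 (.leaf 0x2821) (.leaf 0x783))) (.node 2 (.node 1 (.leaf 0x78) (.leaf 0x81543)) (.node 1 (.leaf 0x8154) (.leaf 0x578))))))) (.node 32 (.node 16 (.node 8 (.node 4 (.node 2 (.node 1 (.leaf 0x5783) (.leaf 0x85321)) (.node 1 (.leaf 0x2851) (.leaf 0x8752))) (.node 2 (.node 1 (.leaf 0x48572) (.leaf 0x8321)) (.node 1 (.leaf 0x281) (.leaf 0x4872))))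 (.node 4 (.node 2 (.node 1 (.leaf 0x87432) (.leaf 0x48321)) (.node 1 (.leaf 0x8421) (.leaf 0x872))) (.node 2 (.node 1 (.leaf 0x8723) (.leaf 0x81532)) (.node 1 (.leaf 0x2815) (.leaf 0x48752))))) (.node 8 (.node 4 (.node 2 (.node 1 (.leaf 0x8572) (.leaf 0x1853)) (.node 1 (.leaf 0x185) (.leaf 0x875))) (.node 2 (.node 1 (.leaf 0x8753) (.leaf 0x4183)) (.node 1 (.leaf 0x418) (.leaf 0x487)))) (.node 4 (.node 2 (.node 1 (.leaf 0x2782) (.leaf 0x183)) (.node 1 (.leaf 0x18) (.leaf 0x87))) (.node 2 (.node 1 (.leaf 0x873) (.leaf 0x57871)) (.node 1 (.leaf 0x4185) (.leaf 0x4875)))))) (.node 16 (.node 8 (.node 4 (.node 2 (.node 1 (.leaf 0x27852) (.leaf 0x8543)) (.node 1 (.leaf 0x854) (.leaf 0x78531))) (.node 2 (.node 1 (.leaf 0x7851) (.leaf 0x8232)) (.node 1 (.leaf 0x282) (.leaf 0x7831)))) (.node 4 (.node 2 (.node 1 (.leaf 0x781) (.leaf 0x843)) (.node 1 (.leaf 0x84) (.leaf 0x1874))) (.node 2 (.node 1 (.leaf 0x7481) (.leaf 0x85232)) (.node 1 (.leaf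 0x2852) (.leaf 0x5781))))) (.node 8 (.node 4 (.node 2 (.node 1 (.leaf 0x7815) (.leaf 0x8532)) (.node 1 (.leaf 0x285) (.leaf 0x87521))) (.node 2 (.node 1 (.leaf 0x81572) (.leaf 0x4832)) (.node 1 (.leaf 0x842) (.leaf 0x8721)))) (.node 4 (.node 2 (.node 1 (.leaf 0x7182) (.leaf 0x832)) (.node 1 (.leaf 0x28) (.leaf 0x2187))) (.node 2 (.node 1 (.leaf 0x74182) (.leaf 0x48532)) (.node 1 (.leaf 0x8542) (.leaf 0x87152)))))))

def wordsPTree_1 : Tree :=
  .node 64 (.node 32 (.node 16 (.node 8 (.node 4 (.node 2 (.node 1 (.leaf 0x85721) (.leaf 0x3)) (.node 1 (.leaf 0x76361) (.leaf 0x8187))) (.node 2 (.node 1 (.leaf 0x1531) (.leaf 0x151)) (.node 1 (.leaf 0x763651) (.leaf 0x527321)))) (.node 4 (.node 2 (.node 1 (.leaf 0x53) (.leaf 0x5)) (.node 1 (.leaf 0x85187) (.leaf 0x81875))) (.node 2 (.node 1 (.leaf 0x4232) (.leaf 0x848)) (.node 1 (.leaf 0x27321) (.leaf 0x62762))))) (.node 8 (.node 4 (.node 2 (.node 1 (.leaf 0x7875) (.leaf 0x5181)) (.node 1 (.leaf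 0x85731) (.leaf 0x8571))) (.node 2 (.node 1 (.leaf 0x7487) (.leaf 0x1841)) (.node 1 (.leaf 0x8741) (.leaf 0x7418)))) (.node 4 (.node 2 (.node 1 (.leaf 0x787) (.leaf 0x7873)) (.node 1 (.leaf 0x7183) (.leaf 0x718))) (.node 2 (.node 1 (.leaf 0x57874) (.leaf 0x54181)) (.node 1 (.leaf 0x1578) (.leaf 0x8157)))))) (.node 16 (.node 8 (.node 4 (.node 2 (.node 1 (.leaf 0x185321) (.leaf 0x21851)) (.node 1 (.leaf 0x28751) (.leaf 0x78152))) (.node 2 (.node 1 (.leaf 0x18321) (.leaf 0x2181)) (.node 1 (.leaf 0x2871) (.leaf 0x74821)))) (.node 4 (.node 2 (.node 1 (.leaf 0x78742) (.leaf 0x8727)) (.node 1 (.leaf 0x1872) (.leaf 0x7821))) (.node 2 (.node 1 (.leaf 0x57872) (.leaf 0x51821)) (.node 1 (.leaf 0x28715) (.leaf 0x78521))))) (.node 8 (.node 4 (.node 2 (.node 1 (.leaf 0x81523) (.leaf 0x8152)) (.node 1 (.leaf 0x85732) (.leaf 0x2785))) (.node 2 (.node 1 (.leaf 0x84321) (.leaf 0x4821)) (.node 1 (.leaf 0x48742) (.leaf 0x8732)))) (.node 4 (.node 2 (.node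 1 (.leaf 0x8231) (.leaf 0x821)) (.node 1 (.leaf 0x8742) (.leaf 0x278))) (.node 2 (.node 1 (.leaf 0x85231) (.leaf 0x8521)) (.node 1 (.leaf 0x5278) (.leaf 0x87532))))))) (.node 32 (.node 16 (.node 8 (.node 4 (.node 2 (.node 1 (.leaf 0x31) (.leaf 0x1)) (.node 1 (.leaf 0x7636) (.leaf 0x2742))) (.node 2 (.node 1 (.leaf 0x531) (.leaf 0x51)) (.node 1 (.leaf 0x27532) (.leaf 0x57636)))) (.node 4 (.node 2 (.node 1 (.leaf 0x153) (.leaf 0x15)) (.node 1 (.leaf 0x76365) (.leaf 0x52732))) (.node 2 (.node 1 (.leaf 0x5153) (.leaf 0x515)) (.node 1 (.leaf 0x2732) (.leaf 0x32732))))) (.node 8 (.node 4 (.node 2 (.node 1 (.leaf 0x5183) (.leaf 0x518)) (.node 1 (.leaf 0x8573) (.leaf 0x857))) (.node 2 (.node 1 (.leaf 0x7871) (.leaf 0x2182)) (.node 1 (.leaf 0x4874) (.leaf 0x7181)))) (.node 4 (.node 2 (.node 1 (.leaf 0x1843) (.leaf 0x184)) (.node 1 (.leaf 0x874) (.leaf 0x8743))) (.node 2 (.node 1 (.leaf 0x54183) (.leaf 0x5418)) (.node 1 (.leaf 0x15781) (.leaf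 0x4857)))))) (.node 16 (.node 8 (.node 4 (.node 2 (.node 1 (.leaf 0x18532) (.leaf 0x2185)) (.node 1 (.leaf 0x2875) (.leaf 0x57832))) (.node 2 (.node 1 (.leaf 0x41832) (.leaf 0x1842)) (.node 1 (.leaf 0x7823) (.leaf 0x782)))) (.node 4 (.node 2 (.node 1 (.leaf 0x1832) (.leaf 0x218)) (.node 1 (.leaf 0x287) (.leaf 0x7482))) (.node 2 (.node 1 (.leaf 0x51823) (.leaf 0x5182)) (.node 1 (.leaf 0x57842) (.leaf 0x7852))))) (.node 8 (.node 4 (.node 2 (.node 1 (.leaf 0x85432) (.leaf 0x4852)) (.node 1 (.leaf 0x57218) (.leaf 0x27851))) (.node 2 (.node 1 (.leaf 0x823) (.leaf 0x82)) (.node 1 (.leaf 0x1827) (.leaf 0x2781)))) (.node 4 (.node 2 (.node 1 (.leaf 0x8432) (.leaf 0x482)) (.node 1 (.leaf 0x71832) (.leaf 0x7218))) (.node 2 (.node 1 (.leaf 0x8523) (.leaf 0x852)) (.node 1 (.leaf 0x52781) (.leaf 0x75182)))))))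

def wordsPTree_2 : Tree :=
  .node 64 (.node 32 (.node 16 (.node 8 (.node 4 (.node 2 (.node 1 (.leaf 0x43) (.leaf 0x4)) (.node 1 (.leaf 0x32721) (.leaf 0x2721))) (.node 2 (.node 1 (.leaf 0x5232) (.leaf 0x1541)) (.node 1 (.leaf 0x65762) (.leaf 0x27521)))) (.node 4 (.node 2 (.node 1 (.leaf 0x543) (.leaf 0x54)) (.node 1 (.leaf 0x52721) (.leaf 0x27152))) (.node 2 (.node 1 (.leaf 0x232) (.leaf 0x3232)) (.node 1 (.leaf 0x8781) (.leaf 0x87831))))) (.node 8 (.node 4 (.node 2 (.node 1 (.leaf 0x23) (.leaf 0x2)) (.node 1 (.leaf 0x74231) (.leaf 0x7421))) (.node 2 (.node 1 (.leaf 0x5432) (.leaf 0x1521)) (.node 1 (.leaf 0x71532) (.leaf 0x57321)))) (.node 4 (.node 2 (.node 1 (.leaf 0x523) (.leaf 0x52)) (.node 1 (.leaf 0x75321) (.leaf 0x15732))) (.node 2 (.node 1 (.leaf 0x432) (.leaf 0x8482)) (.node 1 (.leaf 0x7321) (.leaf 0x6762)))))) (.node 16 (.node 8 (.node 4 (.node 2 (.node 1 (.leaf 0x78752) (.leaf 0x52181)) (.node 1 (.leaf 0x82715) (.leaf 0x72851)))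 (.node 2 (.node 1 (.leaf 0x74872) (.leaf 0x41821)) (.node 1 (.leaf 0x78321) (.leaf 0x7281)))) (.node 4 (.node 2 (.node 1 (.leaf 0x7872) (.leaf 0x1821)) (.node 1 (.leaf 0x8271) (.leaf 0x2718))) (.node 2 (.node 1 (.leaf 0x86536) (.leaf 0x18521)) (.node 1 (.leaf 0x57821) (.leaf 0x51872))))) (.node 8 (.node 4 (.node 2 (.node 1 (.leaf 0x431) (.leaf 0x41)) (.node 1 (.leaf 0x3272) (.leaf 0x272))) (.node 2 (.node 1 (.leaf 0x5431) (.leaf 0x541)) (.node 1 (.leaf 0x5272) (.leaf 0x53272)))) (.node 4 (.node 2 (.node 1 (.leaf 0x1543) (.leaf 0x154)) (.node 1 (.leaf 0x32752) (.leaf 0x2752))) (.node 2 (.node 1 (.leaf 0x2321) (.leaf 0x5154)) (.node 1 (.leaf 0x878) (.leaf 0x8783))))))) (.node 32 (.node 16 (.node 8 (.node 4 (.node 2 (.node 1 (.leaf 0x231) (.leaf 0x21)) (.node 1 (.leaf 0x7423) (.leaf 0x742))) (.node 2 (.node 1 (.leaf 0x5231) (.leaf 0x521)) (.node 1 (.leaf 0x7532) (.leaf 0x75323)))) (.node 4 (.node 2 (.node 1 (.leaf 0x1523) (.leaf 0x152))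 (.node 1 (.leaf 0x57323) (.leaf 0x5732))) (.node 2 (.node 1 (.leaf 0x4321) (.leaf 0x5152)) (.node 1 (.leaf 0x732) (.leaf 0x7323))))) (.node 8 (.node 4 (.node 2 (.node 1 (.leaf 0x51832) (.leaf 0x5218)) (.node 1 (.leaf 0x78532) (.leaf 0x7285))) (.node 2 (.node 1 (.leaf 0x1823) (.leaf 0x182)) (.node 1 (.leaf 0x827) (.leaf 0x7842)))) (.node 4 (.node 2 (.node 1 (.leaf 0x18432) (.leaf 0x4182)) (.node 1 (.leaf 0x7832) (.leaf 0x728))) (.node 2 (.node 1 (.leaf 0x18523) (.leaf 0x1852)) (.node 1 (.leaf 0x5782) (.leaf 0x78542)))))) (.node 16 (.node 8 (.node 4 (.node 2 (.node 1 (.leaf 0x423) (.leaf 0x42)) (.node 1 (.leaf 0x7231) (.leaf 0x721))) (.node 2 (.node 1 (.leaf 0x532) (.leaf 0x5323)) (.node 1 (.leaf 0x1572) (.leaf 0x7521)))) (.node 4 (.node 2 (.node 1 (.leaf 0x5423) (.leaf 0x542)) (.node 1 (.leaf 0x5721) (.leaf 0x7152))) (.node 2 (.node 1 (.leaf 0x32) (.leaf 0x323)) (.node 1 (.leaf 0x74321) (.leaf 0x67642))))) (.node 8 (.node 4 (.node 2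 (.node 1 (.leaf 0x4231) (.leaf 0x421)) (.node 1 (.leaf 0x723) (.leaf 0x72))) (.node 2 (.node 1 (.leaf 0x1532) (.leaf 0x5421)) (.node 1 (.leaf 0x572) (.leaf 0x5723)))) (.node 4 (.node 2 (.node 1 (.leaf 0x5321) (.leaf 0x1542)) (.node 1 (.leaf 0x7523) (.leaf 0x752))) (.node 2 (.node 1 (.leaf 0x321) (.leaf 0x3231)) (.node 1 (.leaf 0x7432) (.leaf 0x84872)))))))

def wordsPTree_3 : Tree :=
  .node 64 (.node 32 (.node 16 (.node 8 (.node 4 (.node 2 (.node 1 (.leaf 0x8631) (.leaf 0x861)) (.node 1 (.leaf 0x78361) (.leaf 0x7186))) (.node 2 (.node 1 (.leaf 0x86531) (.leaf 0x8651)) (.node 1 (.leaf 0x783651) (.leaf 0x85672)))) (.node 4 (.node 2 (.node 1 (.leaf 0x86153) (.leaf 0x8615)) (.node 1 (.leaf 0x65784) (.leaf 0x71865))) (.node 2 (.node 1 (.leaf 0x48631) (.leaf 0x4861)) (.node 1 (.leaf 0x28672) (.leaf 0x6784))))) (.node 8 (.node 4 (.node 2 (.node 1 (.leaf 0x863) (.leaf 0x86)) (.node 1 (.leaf 0x7836) (.leaf 0x71861))) (.node 2 (.node 1 (.leaf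 0x85632) (.leaf 0x4865)) (.node 1 (.leaf 0x657841) (.leaf 0x718651)))) (.node 4 (.node 2 (.node 1 (.leaf 0x8653) (.leaf 0x865)) (.node 1 (.leaf 0x78365) (.leaf 0x27856))) (.node 2 (.node 1 (.leaf 0x4863) (.leaf 0x486)) (.node 1 (.leaf 0x82762) (.leaf 0x67841)))))) (.node 16 (.node 8 (.node 4 (.node 2 (.node 1 (.leaf 0x85631) (.leaf 0x8561)) (.node 1 (.leaf 0x87156) (.leaf 0x86572))) (.node 2 (.node 1 (.leaf 0x486321) (.leaf 0x86421)) (.node 1 (.leaf 0x8672) (.leaf 0x72861)))) (.node 4 (.node 2 (.node 1 (.leaf 0x86321) (.leaf 0x2861)) (.node 1 (.leaf 0x48672) (.leaf 0x27186))) (.node 2 (.node 1 (.leaf 0x81563) (.leaf 0x8156)) (.node 1 (.leaf 0x87561) (.leaf 0x78561))))) (.node 8 (.node 4 (.node 2 (.node 1 (.leaf 0x836) (.leaf 0x1861)) (.node 1 (.leaf 0x8671) (.leaf 0x786))) (.node 2 (.node 1 (.leaf 0x48365) (.leaf 0x18651)) (.node 1 (.leaf 0x86751) (.leaf 0x74865)))) (.node 4 (.node 2 (.node 1 (.leaf 0x8365) (.leaf 0x83653)) (.node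 1 (.leaf 0x78653) (.leaf 0x7865))) (.node 2 (.node 1 (.leaf 0x4836) (.leaf 0x41861)) (.node 1 (.leaf 0x8764) (.leaf 0x7486))))))) (.node 32 (.node 16 (.node 8 (.node 4 (.node 2 (.node 1 (.leaf 0x86431) (.leaf 0x8641)) (.node 1 (.leaf 0x86272) (.leaf 0x6748))) (.node 2 (.node 1 (.leaf 0x856231) (.leaf 0x85621)) (.node 1 (.leaf 0x67853) (.leaf 0x6785)))) (.node 4 (.node 2 (.node 1 (.leaf 0x36518) (.leaf 0x81562)) (.node 1 (.leaf 0x6578) (.leaf 0x65783))) (.node 2 (.node 1 (.leaf 0x78761) (.leaf 0x8767)) (.node 1 (.leaf 0x6783) (.leaf 0x678))))) (.node 8 (.node 4 (.node 2 (.node 1 (.leaf 0x8361) (.leaf 0x186)) (.node 1 (.leaf 0x867) (.leaf 0x7861))) (.node 2 (.node 1 (.leaf 0x83651) (.leaf 0x41865)) (.node 1 (.leaf 0x48675) (.leaf 0x78651)))) (.node 4 (.node 2 (.node 1 (.leaf 0x18653) (.leaf 0x1865)) (.node 1 (.leaf 0x8675) (.leaf 0x86753))) (.node 2 (.node 1 (.leaf 0x48361) (.leaf 0x4186)) (.node 1 (.leaf 0x4867) (.leaf 0x74861))))))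 (.node 16 (.node 8 (.node 4 (.node 2 (.node 1 (.leaf 0x86523) (.leaf 0x8652)) (.node 1 (.leaf 0x157861) (.leaf 0x18567))) (.node 2 (.node 1 (.leaf 0x86432) (.leaf 0x4862)) (.node 1 (.leaf 0x8762) (.leaf 0x7862)))) (.node 4 (.node 2 (.node 1 (.leaf 0x8623) (.leaf 0x862)) (.node 1 (.leaf 0x48762) (.leaf 0x62781))) (.node 2 (.node 1 (.leaf 0x57876) (.leaf 0x48652)) (.node 1 (.leaf 0x56781) (.leaf 0x78652))))) (.node 8 (.node 4 (.node 2 (.node 1 (.leaf 0x8643) (.leaf 0x864)) (.node 1 (.leaf 0x28762) (.leaf 0x67481))) (.node 2 (.node 1 (.leaf 0x78765) (.leaf 0x28652)) (.node 1 (.leaf 0x65781) (.leaf 0x85762)))) (.node 4 (.node 2 (.node 1 (.leaf 0x85623) (.leaf 0x8562)) (.node 1 (.leaf 0x678531) (.leaf 0x67851))) (.node 2 (.node 1 (.leaf 0x7876) (.leaf 0x2862)) (.node 1 (.leaf 0x67831) (.leaf 0x6781)))))))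

def wordsPTree_4 : Tree :=
  .node 64 (.node 32 (.node 16 (.node 8 (.node 4 (.node 2 (.node 1 (.leaf 0x18536) (.leaf 0x86521)) (.node 1 (.leaf 0x15786) (.leaf 0x185671))) (.node 2 (.node 1 (.leaf 0x86231) (.leaf 0x8621)) (.node 1 (.leaf 0x86742) (.leaf 0x6278)))) (.node 4 (.node 2 (.node 1 (.leaf 0x864321) (.leaf 0x48621)) (.node 1 (.leaf 0x87621) (.leaf 0x78621))) (.node 2 (.node 1 (.leaf 0x578761) (.leaf 0x86152)) (.node 1 (.leaf 0x5678) (.leaf 0x56783))))) (.node 8 (.node 4 (.node 2 (.node 1 (.leaf 0x8563) (.leaf 0x856)) (.node 1 (.leaf 0x48756) (.leaf 0x72865))) (.node 2 (.node 1 (.leaf 0x8632) (.leaf 0x286)) (.node 1 (.leaf 0x87642) (.leaf 0x78642)))) (.node 4 (.node 2 (.node 1 (.leaf 0x48632) (.leaf 0x8642)) (.node 1 (.leaf 0x86721) (.leaf 0x7286))) (.node 2 (.node 1 (.leaf 0x86532) (.leaf 0x2865)) (.node 1 (.leaf 0x8756) (.leaf 0x7856)))))) (.node 16 (.node 8 (.node 4 (.node 2 (.node 1 (.leaf 0x83652) (.leaf 0x18561)) (.node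 1 (.leaf 0x57864) (.leaf 0x27865))) (.node 2 (.node 1 (.leaf 0x48362) (.leaf 0x87276)) (.node 1 (.leaf 0x78362) (.leaf 0x67821)))) (.node 4 (.node 2 (.node 1 (.leaf 0x8362) (.leaf 0x21861)) (.node 1 (.leaf 0x8276) (.leaf 0x2786))) (.node 2 (.node 1 (.leaf 0x56787) (.leaf 0x18156)) (.node 1 (.leaf 0x85763) (.leaf 0x8576))))) (.node 8 (.node 4 (.node 2 (.node 1 (.leaf 0x85361) (.leaf 0x5186)) (.node 1 (.leaf 0x57861) (.leaf 0x8567))) (.node 2 (.node 1 (.leaf 0x78627) (.leaf 0x41862)) (.node 1 (.leaf 0x67832) (.leaf 0x6728)))) (.node 4 (.node 2 (.node 1 (.leaf 0x82361) (.leaf 0x1862)) (.node 1 (.leaf 0x8627) (.leaf 0x67842))) (.node 2 (.node 1 (.leaf 0x81536) (.leaf 0x54186)) (.node 1 (.leaf 0x287651) (.leaf 0x67285))))))) (.node 32 (.node 16 (.node 8 (.node 4 (.node 2 (.node 1 (.leaf 0x8364) (.leaf 0x18641)) (.node 1 (.leaf 0x4876) (.leaf 0x7864))) (.node 2 (.node 1 (.leaf 0x67875) (.leaf 0x65181)) (.node 1 (.leaf 0x8765) (.leaf 0x86571))))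 (.node 4 (.node 2 (.node 1 (.leaf 0x85362) (.leaf 0x767851)) (.node 1 (.leaf 0x48765) (.leaf 0x78562))) (.node 2 (.node 1 (.leaf 0x6787) (.leaf 0x76781)) (.node 1 (.leaf 0x876) (.leaf 0x8763))))) (.node 8 (.node 4 (.node 2 (.node 1 (.leaf 0x83641) (.leaf 0x1864)) (.node 1 (.leaf 0x8674) (.leaf 0x78641))) (.node 2 (.node 1 (.leaf 0x853621) (.leaf 0x76785)) (.node 1 (.leaf 0x87615) (.leaf 0x48657)))) (.node 4 (.node 2 (.node 1 (.leaf 0x65183) (.leaf 0x6518)) (.node 1 (.leaf 0x87651) (.leaf 0x8657))) (.node 2 (.node 1 (.leaf 0x67871) (.leaf 0x7678)) (.node 1 (.leaf 0x8761) (.leaf 0x87631)))))) (.node 16 (.node 8 (.node 4 (.node 2 (.node 1 (.leaf 0x18563) (.leaf 0x1856)) (.node 1 (.leaf 0x578641) (.leaf 0x67852))) (.node 2 (.node 1 (.leaf 0x83621) (.leaf 0x2186)) (.node 1 (.leaf 0x2867) (.leaf 0x27861)))) (.node 4 (.node 2 (.node 1 (.leaf 0x72867) (.leaf 0x18642)) (.node 1 (.leaf 0x67823) (.leaf 0x6782))) (.node 2 (.node 1 (.leaf 0x567871)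 (.leaf 0x21865)) (.node 1 (.leaf 0x28675) (.leaf 0x85761))))) (.node 8 (.node 4 (.node 2 (.node 1 (.leaf 0x8536) (.leaf 0x51861)) (.node 1 (.leaf 0x5786) (.leaf 0x85671))) (.node 2 (.node 1 (.leaf 0x8236) (.leaf 0x18621)) (.node 1 (.leaf 0x2876) (.leaf 0x28763)))) (.node 4 (.node 2 (.node 1 (.leaf 0x83642) (.leaf 0x418621)) (.node 1 (.leaf 0x82764) (.leaf 0x67281))) (.node 2 (.node 1 (.leaf 0x82365) (.leaf 0x541861)) (.node 1 (.leaf 0x28765) (.leaf 0x85764)))))))

def wordsPTree_5 : Tree :=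
  .node 64 (.node 32 (.node 16 (.node 8 (.node 4 (.node 2 (.node 1 (.leaf 0x7367) (.leaf 0x73673)) (.node 1 (.leaf 0x7631) (.leaf 0x761))) (.node 2 (.node 1 (.leaf 0x15362) (.leaf 0x86518)) (.node 1 (.leaf 0x657) (.leaf 0x7651)))) (.node 4 (.node 2 (.node 1 (.leaf 0x53621) (.leaf 0x536231)) (.node 1 (.leaf 0x52761) (.leaf 0x7615))) (.node 2 (.node 1 (.leaf 0x3641) (.leaf 0x36431)) (.node 1 (.leaf 0x6743) (.leaf 0x674))))) (.node 8 (.node 4 (.node 2 (.node 1 (.leaf 0x6432) (.leaf 0x84862)) (.node 1 (.leaf 0x7623) (.leaf 0x762))) (.node 2 (.node 1 (.leaf 0x6523) (.leaf 0x652)) (.node 1 (.leaf 0x32765) (.leaf 0x761521)))) (.node 4 (.node 2 (.node 1 (.leaf 0x56232) (.leaf 0x61521)) (.node 1 (.leaf 0x76523) (.leaf 0x7652))) (.node 2 (.node 1 (.leaf 0x623) (.leaf 0x62)) (.node 1 (.leaf 0x3276) (.leaf 0x67421)))))) (.node 16 (.node 8 (.node 4 (.node 2 (.node 1 (.leaf 0x76743) (.leaf 0x7674)) (.node 1 (.leaf 0x73641) (.leaf 0x27621))) (.node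 2 (.node 1 (.leaf 0x6153) (.leaf 0x615)) (.node 1 (.leaf 0x3675) (.leaf 0x36753)))) (.node 4 (.node 2 (.node 1 (.leaf 0x6531) (.leaf 0x651)) (.node 1 (.leaf 0x5672) (.leaf 0x56723))) (.node 2 (.node 1 (.leaf 0x631) (.leaf 0x61)) (.node 1 (.leaf 0x367) (.leaf 0x3673))))) (.node 8 (.node 4 (.node 2 (.node 1 (.leaf 0x73674) (.leaf 0x76272)) (.node 1 (.leaf 0x76431) (.leaf 0x7641))) (.node 2 (.node 1 (.leaf 0x3615) (.leaf 0x36153)) (.node 1 (.leaf 0x6753) (.leaf 0x675)))) (.node 4 (.node 2 (.node 1 (.leaf 0x3651) (.leaf 0x36531)) (.node 1 (.leaf 0x671531) (.leaf 0x67151))) (.node 2 (.node 1 (.leaf 0x361) (.leaf 0x3631)) (.node 1 (.leaf 0x673) (.leaf 0x67))))))) (.node 32 (.node 16 (.node 8 (.node 4 (.node 2 (.node 1 (.leaf 0x632) (.leaf 0x6323)) (.node 1 (.leaf 0x2736) (.leaf 0x7642))) (.node 2 (.node 1 (.leaf 0x563) (.leaf 0x56)) (.node 1 (.leaf 0x65721) (.leaf 0x71561)))) (.node 4 (.node 2 (.node 1 (.leaf 0x6532) (.leaf 0x1561)) (.node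 1 (.leaf 0x7563) (.leaf 0x756))) (.node 2 (.node 1 (.leaf 0x6423) (.leaf 0x642)) (.node 1 (.leaf 0x7632) (.leaf 0x6721))))) (.node 8 (.node 4 (.node 2 (.node 1 (.leaf 0x7673) (.leaf 0x767)) (.node 1 (.leaf 0x7361) (.leaf 0x73631))) (.node 2 (.node 1 (.leaf 0x15623) (.leaf 0x1562)) (.node 1 (.leaf 0x57621) (.leaf 0x3657)))) (.node 4 (.node 2 (.node 1 (.leaf 0x56231) (.leaf 0x5621)) (.node 1 (.leaf 0x56742) (.leaf 0x27156))) (.node 2 (.node 1 (.leaf 0x6431) (.leaf 0x641)) (.node 1 (.leaf 0x3674) (.leaf 0x6272)))))) (.node 16 (.node 8 (.node 4 (.node 2 (.node 1 (.leaf 0x2362) (.leaf 0x36232)) (.node 1 (.leaf 0x763) (.leaf 0x76))) (.node 2 (.node 1 (.leaf 0x5362) (.leaf 0x53623)) (.node 1 (.leaf 0x5276) (.leaf 0x76151)))) (.node 4 (.node 2 (.node 1 (.leaf 0x23652) (.leaf 0x57276)) (.node 1 (.leaf 0x6571) (.leaf 0x765))) (.node 2 (.node 1 (.leaf 0x364) (.leaf 0x3643)) (.node 1 (.leaf 0x67431) (.leaf 0x6741))))) (.node 8 (.node 4 (.node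 2 (.node 1 (.leaf 0x3621) (.leaf 0x36231)) (.node 1 (.leaf 0x6327) (.leaf 0x2761))) (.node 2 (.node 1 (.leaf 0x36521) (.leaf 0x81856)) (.node 1 (.leaf 0x5674) (.leaf 0x27651)))) (.node 4 (.node 2 (.node 1 (.leaf 0x36152) (.leaf 0x727651)) (.node 1 (.leaf 0x5761) (.leaf 0x57631))) (.node 2 (.node 1 (.leaf 0x23641) (.leaf 0x72761)) (.node 1 (.leaf 0x73621) (.leaf 0x6274)))))))

def wordsPTree_6 : Tree :=
  .node 64 (.node 32 (.node 16 (.node 8 (.node 4 (.node 2 (.node 1 (.leaf 0x64232) (.leaf 0x8486)) (.node 1 (.leaf 0x7364) (.leaf 0x2762))) (.node 2 (.node 1 (.leaf 0x653) (.leaf 0x65)) (.node 1 (.leaf 0x56721) (.leaf 0x57632)))) (.node 4 (.node 2 (.node 1 (.leaf 0x5632) (.leaf 0x6151)) (.node 1 (.leaf 0x36751) (.leaf 0x27652))) (.node 2 (.node 1 (.leaf 0x63) (.leaf 0x6)) (.node 1 (.leaf 0x3671) (.leaf 0x36731))))) (.node 8 (.node 4 (.node 2 (.node 1 (.leaf 0x64321) (.leaf 0x76742)) (.node 1 (.leaf 0x6732) (.leaf 0x7621))) (.node 2 (.node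 1 (.leaf 0x61523) (.leaf 0x6152)) (.node 1 (.leaf 0x23675) (.leaf 0x76521)))) (.node 4 (.node 2 (.node 1 (.leaf 0x65231) (.leaf 0x6521)) (.node 1 (.leaf 0x67532) (.leaf 0x76152))) (.node 2 (.node 1 (.leaf 0x6231) (.leaf 0x621)) (.node 1 (.leaf 0x2367) (.leaf 0x6742)))))) (.node 16 (.node 8 (.node 4 (.node 2 (.node 1 (.leaf 0x362) (.leaf 0x3623)) (.node 1 (.leaf 0x2763) (.leaf 0x276))) (.node 2 (.node 1 (.leaf 0x52362) (.leaf 0x72765)) (.node 1 (.leaf 0x576) (.leaf 0x5763)))) (.node 4 (.node 2 (.node 1 (.leaf 0x3652) (.leaf 0x36523)) (.node 1 (.leaf 0x56741) (.leaf 0x2765))) (.node 2 (.node 1 (.leaf 0x2364) (.leaf 0x7276)) (.node 1 (.leaf 0x7362) (.leaf 0x62741))))) (.node 8 (.node 4 (.node 2 (.node 1 (.leaf 0x23642) (.leaf 0x762721)) (.node 1 (.leaf 0x7643) (.leaf 0x764))) (.node 2 (.node 1 (.leaf 0x365) (.leaf 0x3653)) (.node 1 (.leaf 0x67153) (.leaf 0x6715)))) (.node 4 (.node 2 (.node 1 (.leaf 0x5236) (.leaf 0x53632)) (.node 1 (.leaf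 0x67531) (.leaf 0x6751))) (.node 2 (.node 1 (.leaf 0x36) (.leaf 0x363)) (.node 1 (.leaf 0x6731) (.leaf 0x671))))))) (.node 32 (.node 16 (.node 8 (.node 4 (.node 2 (.node 1 (.leaf 0x36421) (.leaf 0x7627)) (.node 1 (.leaf 0x3672) (.leaf 0x27641))) (.node 2 (.node 1 (.leaf 0x5361) (.leaf 0x53631)) (.node 1 (.leaf 0x567) (.leaf 0x5673)))) (.node 4 (.node 2 (.node 1 (.leaf 0x1536) (.leaf 0x15363)) (.node 1 (.leaf 0x57641) (.leaf 0x65327))) (.node 2 (.node 1 (.leaf 0x2361) (.leaf 0x36321)) (.node 1 (.leaf 0x6273) (.leaf 0x627))))) (.node 8 (.node 4 (.node 2 (.node 1 (.leaf 0x6232) (.leaf 0x7671)) (.node 1 (.leaf 0x736) (.leaf 0x7363))) (.node 2 (.node 1 (.leaf 0x5623) (.leaf 0x562)) (.node 1 (.leaf 0x75236) (.leaf 0x53276)))) (.node 4 (.node 2 (.node 1 (.leaf 0x65232) (.leaf 0x15621)) (.node 1 (.leaf 0x5762) (.leaf 0x2756))) (.node 2 (.node 1 (.leaf 0x643) (.leaf 0x64)) (.node 1 (.leaf 0x36741) (.leaf 0x62721)))))) (.node 16 (.node 8 (.node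 4 (.node 2 (.node 1 (.leaf 0x6321) (.leaf 0x7672)) (.node 1 (.leaf 0x3627) (.leaf 0x76421))) (.node 2 (.node 1 (.leaf 0x1563) (.leaf 0x156)) (.node 1 (.leaf 0x75631) (.leaf 0x7561)))) (.node 4 (.node 2 (.node 1 (.leaf 0x5631) (.leaf 0x561)) (.node 1 (.leaf 0x6572) (.leaf 0x7156))) (.node 2 (.node 1 (.leaf 0x64231) (.leaf 0x6421)) (.node 1 (.leaf 0x6723) (.leaf 0x672))))) (.node 8 (.node 4 (.node 2 (.node 1 (.leaf 0x3642) (.leaf 0x76271)) (.node 1 (.leaf 0x7236) (.leaf 0x2764))) (.node 2 (.node 1 (.leaf 0x2365) (.leaf 0x36532)) (.node 1 (.leaf 0x5764) (.leaf 0x57643)))) (.node 4 (.node 2 (.node 1 (.leaf 0x536) (.leaf 0x5363)) (.node 1 (.leaf 0x5671) (.leaf 0x56731))) (.node 2 (.node 1 (.leaf 0x236) (.leaf 0x3632)) (.node 1 (.leaf 0x62731) (.leaf 0x6271)))))))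

def wordsPTree_7 : Tree :=
  .node 64 (.node 32 (.node 16 (.node 8 (.node 4 (.node 2 (.node 1 (.leaf 0x6361) (.leaf 0x818)) (.node 1 (.leaf 0x73) (.leaf 0x7))) (.node 2 (.node 1 (.leaf 0x63651) (.leaf 0x84185)) (.node 1 (.leaf 0x71531) (.leaf 0x7151)))) (.node 4 (.node 2 (.node 1 (.leaf 0x81853) (.leaf 0x8185)) (.node 1 (.leaf 0x753) (.leaf 0x75))) (.node 2 (.node 1 (.leaf 0x84183) (.leaf 0x8418)) (.node 1 (.leaf 0x74232) (.leaf 0x8487))))) (.node 8 (.node 4 (.node 2 (.node 1 (.leaf 0x63641) (.leaf 0x8184)) (.node 1 (.leaf 0x743) (.leaf 0x74))) (.node 2 (.node 1 (.leaf 0x15636) (.leaf 0x85418)) (.node 1 (.leaf 0x1571) (.leaf 0x15731)))) (.node 4 (.node 2 (.node 1 (.leaf 0x56361) (.leaf 0x8518)) (.node 1 (.leaf 0x57) (.leaf 0x573))) (.node 2 (.node 1 (.leaf 0x87871) (.leaf 0x82182)) (.node 1 (.leaf 0x7232) (.leaf 0x6761)))))) (.node 16 (.node 8 (.node 4 (.node 2 (.node 1 (.leaf 0x636) (.leaf 0x8181)) (.node 1 (.leaf 0x731) (.leaf 0x71)))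 (.node 2 (.node 1 (.leaf 0x56364) (.leaf 0x81851)) (.node 1 (.leaf 0x7531) (.leaf 0x751)))) (.node 4 (.node 2 (.node 1 (.leaf 0x6365) (.leaf 0x63653)) (.node 1 (.leaf 0x7153) (.leaf 0x715))) (.node 2 (.node 1 (.leaf 0x72732) (.leaf 0x84181)) (.node 1 (.leaf 0x67643) (.leaf 0x6764))))) (.node 8 (.node 4 (.node 2 (.node 1 (.leaf 0x7273) (.leaf 0x727)) (.node 1 (.leaf 0x87821) (.leaf 0x2741))) (.node 2 (.node 1 (.leaf 0x63652) (.leaf 0x57274)) (.node 1 (.leaf 0x5271) (.leaf 0x52731)))) (.node 4 (.node 2 (.node 1 (.leaf 0x72753) (.leaf 0x7275)) (.node 1 (.leaf 0x6576) (.leaf 0x65763))) (.node 2 (.node 1 (.leaf 0x6362) (.leaf 0x82181)) (.node 1 (.leaf 0x3271) (.leaf 0x6276))))))) (.node 32 (.node 16 (.node 8 (.node 4 (.node 2 (.node 1 (.leaf 0x62361) (.leaf 0x8182)) (.node 1 (.leaf 0x273) (.leaf 0x27))) (.node 2 (.node 1 (.leaf 0x75271) (.leaf 0x15727)) (.node 1 (.leaf 0x53273) (.leaf 0x5327)))) (.node 4 (.node 2 (.node 1 (.leaf 0x65361)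 (.leaf 0x57271)) (.node 1 (.leaf 0x2753) (.leaf 0x275))) (.node 2 (.node 1 (.leaf 0x73271) (.leaf 0x84182)) (.node 1 (.leaf 0x3274) (.leaf 0x87832))))) (.node 8 (.node 4 (.node 2 (.node 1 (.leaf 0x6364) (.leaf 0x7272)) (.node 1 (.leaf 0x7431) (.leaf 0x741))) (.node 2 (.node 1 (.leaf 0x5636) (.leaf 0x85181)) (.node 1 (.leaf 0x571) (.leaf 0x5731)))) (.node 4 (.node 2 (.node 1 (.leaf 0x65362) (.leaf 0x72752)) (.node 1 (.leaf 0x157) (.leaf 0x1573))) (.node 2 (.node 1 (.leaf 0x8787) (.leaf 0x87873)) (.node 1 (.leaf 0x6763) (.leaf 0x676)))))) (.node 16 (.node 8 (.node 4 (.node 2 (.node 1 (.leaf 0x72731) (.leaf 0x7271)) (.node 1 (.leaf 0x8782) (.leaf 0x274))) (.node 2 (.node 1 (.leaf 0x727531) (.leaf 0x72751)) (.node 1 (.leaf 0x3275) (.leaf 0x32753)))) (.node 4 (.node 2 (.node 1 (.leaf 0x636521) (.leaf 0x85182)) (.node 1 (.leaf 0x527) (.leaf 0x5273))) (.node 2 (.node 1 (.leaf 0x63621) (.leaf 0x8218)) (.node 1 (.leaf 0x327) (.leaf 0x3273)))))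 (.node 8 (.node 4 (.node 2 (.node 1 (.leaf 0x6236) (.leaf 0x7274)) (.node 1 (.leaf 0x2731) (.leaf 0x271))) (.node 2 (.node 1 (.leaf 0x6536) (.leaf 0x5727)) (.node 1 (.leaf 0x27531) (.leaf 0x2751)))) (.node 4 (.node 2 (.node 1 (.leaf 0x7527) (.leaf 0x75273)) (.node 1 (.leaf 0x27153) (.leaf 0x2715))) (.node 2 (.node 1 (.leaf 0x7327) (.leaf 0x73273)) (.node 1 (.leaf 0x32741) (.leaf 0x62764)))))))

def wordsPTree : Tree :=
  .node 512 (.node 256 (.node 128 (wordsPTree_0) (wordsPTree_1)) (.node 128 (wordsPTree_2) (wordsPTree_3))) (.node 256 (.node 128 (wordsPTree_4) (wordsPTree_5)) (.node 128 (wordsPTree_6) (wordsPTree_7)))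

def wordsP (i : ℕ) : List ℕ := decode 1000 (wordsPTree.get i)

def mulH_0 : Tree :=
  .node 64 (.node 32 (.node 16 (.node 8 (.node 4 (.node 2 (.node 1 (.leaf 0x11) (.leaf 0x10)) (.node 1 (.leaf 0x12) (.leaf 0x13))) (.node 2 (.node 1 (.leaf 0x14) (.leaf 0x15)) (.node 1 (.leaf 0x16) (.leaf 0x17)))) (.node 4 (.node 2 (.node 1 (.leaf 0x18) (.leaf 0x19)) (.node 1 (.leaf 0x1a) (.leaf 0x1b))) (.node 2 (.node 1 (.leaf 0x1c) (.leaf 0x1d)) (.node 1 (.leaf 0x1e) (.leaf 0x1f))))) (.node 8 (.node 4 (.node 2 (.node 1 (.leaf 0x1) (.leaf 0x0)) (.node 1 (.leaf 0x2) (.leaf 0x3))) (.node 2 (.node 1 (.leaf 0x4) (.leaf 0x5)) (.node 1 (.leaf 0x6) (.leaf 0x7)))) (.node 4 (.node 2 (.node 1 (.leaf 0x8) (.leaf 0x9)) (.node 1 (.leaf 0xa) (.leaf 0xb))) (.node 2 (.node 1 (.leaf 0xc) (.leaf 0xd)) (.node 1 (.leaf 0xe) (.leaf 0xf)))))) (.node 16 (.node 8 (.node 4 (.node 2 (.node 1 (.leaf 0x40) (.leaf 0x41)) (.node 1 (.leaf 0x42) (.leaf 0x43))) (.node 2 (.node 1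 (.leaf 0x44) (.leaf 0x45)) (.node 1 (.leaf 0x46) (.leaf 0x47)))) (.node 4 (.node 2 (.node 1 (.leaf 0x48) (.leaf 0x49)) (.node 1 (.leaf 0x4a) (.leaf 0x4b))) (.node 2 (.node 1 (.leaf 0x4c) (.leaf 0x4d)) (.node 1 (.leaf 0x4e) (.leaf 0x4f))))) (.node 8 (.node 4 (.node 2 (.node 1 (.leaf 0x50) (.leaf 0x51)) (.node 1 (.leaf 0x52) (.leaf 0x53))) (.node 2 (.node 1 (.leaf 0x54) (.leaf 0x55)) (.node 1 (.leaf 0x56) (.leaf 0x57)))) (.node 4 (.node 2 (.node 1 (.leaf 0x58) (.leaf 0x59)) (.node 1 (.leaf 0x5a) (.leaf 0x5b))) (.node 2 (.node 1 (.leaf 0x5c) (.leaf 0x5d)) (.node 1 (.leaf 0x5e) (.leaf 0x5f))))))) (.node 32 (.node 16 (.node 8 (.node 4 (.node 2 (.node 1 (.leaf 0x20) (.leaf 0x21)) (.node 1 (.leaf 0x22) (.leaf 0x23))) (.node 2 (.node 1 (.leaf 0x24) (.leaf 0x25)) (.node 1 (.leaf 0x26) (.leaf 0x27)))) (.node 4 (.node 2 (.node 1 (.leaf 0x28) (.leaf 0x29)) (.node 1 (.leaf 0x2a) (.leaf 0x2b))) (.node 2 (.node 1 (.leaf 0x2c) (.leaf 0x2d)) (.node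 1 (.leaf 0x2e) (.leaf 0x2f))))) (.node 8 (.node 4 (.node 2 (.node 1 (.leaf 0x30) (.leaf 0x31)) (.node 1 (.leaf 0x32) (.leaf 0x33))) (.node 2 (.node 1 (.leaf 0x34) (.leaf 0x35)) (.node 1 (.leaf 0x36) (.leaf 0x37)))) (.node 4 (.node 2 (.node 1 (.leaf 0x38) (.leaf 0x39)) (.node 1 (.leaf 0x3a) (.leaf 0x3b))) (.node 2 (.node 1 (.leaf 0x3c) (.leaf 0x3d)) (.node 1 (.leaf 0x3e) (.leaf 0x3f)))))) (.node 16 (.node 8 (.node 4 (.node 2 (.node 1 (.leaf 0x70) (.leaf 0x71)) (.node 1 (.leaf 0x72) (.leaf 0x73))) (.node 2 (.node 1 (.leaf 0x74) (.leaf 0x75)) (.node 1 (.leaf 0x76) (.leaf 0x77)))) (.node 4 (.node 2 (.node 1 (.leaf 0x78) (.leaf 0x79)) (.node 1 (.leaf 0x7a) (.leaf 0x7b))) (.node 2 (.node 1 (.leaf 0x7c) (.leaf 0x7d)) (.node 1 (.leaf 0x7e) (.leaf 0x7f))))) (.node 8 (.node 4 (.node 2 (.node 1 (.leaf 0x60) (.leaf 0x61)) (.node 1 (.leaf 0x62) (.leaf 0x63))) (.node 2 (.node 1 (.leaf 0x64) (.leaf 0x65)) (.node 1 (.leaf 0x66) (.leaf 0x67)))) (.node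 4 (.node 2 (.node 1 (.leaf 0x68) (.leaf 0x69)) (.node 1 (.leaf 0x6a) (.leaf 0x6b))) (.node 2 (.node 1 (.leaf 0x6c) (.leaf 0x6d)) (.node 1 (.leaf 0x6e) (.leaf 0x6f)))))))

def mulH_1 : Tree :=
  .node 64 (.node 32 (.node 16 (.node 8 (.node 4 (.node 2 (.node 1 (.leaf 0xe0) (.leaf 0xe1)) (.node 1 (.leaf 0xe2) (.leaf 0xe3))) (.node 2 (.node 1 (.leaf 0xe4) (.leaf 0xe5)) (.node 1 (.leaf 0xe6) (.leaf 0xe7)))) (.node 4 (.node 2 (.node 1 (.leaf 0xe8) (.leaf 0xe9)) (.node 1 (.leaf 0xea) (.leaf 0xeb))) (.node 2 (.node 1 (.leaf 0xec) (.leaf 0xed)) (.node 1 (.leaf 0xee) (.leaf 0xef))))) (.node 8 (.node 4 (.node 2 (.node 1 (.leaf 0x110) (.leaf 0x111)) (.node 1 (.leaf 0x112) (.leaf 0x113))) (.node 2 (.node 1 (.leaf 0x114) (.leaf 0x115)) (.node 1 (.leaf 0x116) (.leaf 0x117)))) (.node 4 (.node 2 (.node 1 (.leaf 0x118) (.leaf 0x119)) (.node 1 (.leaf 0x11a) (.leaf 0x11b))) (.node 2 (.node 1 (.leaf 0x11c) (.leaf 0x11d)) (.node 1 (.leaf 0x11e) (.leaf 0x11f))))))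 (.node 16 (.node 8 (.node 4 (.node 2 (.node 1 (.leaf 0x100) (.leaf 0x101)) (.node 1 (.leaf 0x102) (.leaf 0x103))) (.node 2 (.node 1 (.leaf 0x104) (.leaf 0x105)) (.node 1 (.leaf 0x106) (.leaf 0x107)))) (.node 4 (.node 2 (.node 1 (.leaf 0x108) (.leaf 0x109)) (.node 1 (.leaf 0x10a) (.leaf 0x10b))) (.node 2 (.node 1 (.leaf 0x10c) (.leaf 0x10d)) (.node 1 (.leaf 0x10e) (.leaf 0x10f))))) (.node 8 (.node 4 (.node 2 (.node 1 (.leaf 0x130) (.leaf 0x131)) (.node 1 (.leaf 0x132) (.leaf 0x133))) (.node 2 (.node 1 (.leaf 0x134) (.leaf 0x135)) (.node 1 (.leaf 0x136) (.leaf 0x137)))) (.node 4 (.node 2 (.node 1 (.leaf 0x138) (.leaf 0x139)) (.node 1 (.leaf 0x13a) (.leaf 0x13b))) (.node 2 (.node 1 (.leaf 0x13c) (.leaf 0x13d)) (.node 1 (.leaf 0x13e) (.leaf 0x13f))))))) (.node 32 (.node 16 (.node 8 (.node 4 (.node 2 (.node 1 (.leaf 0x160) (.leaf 0x161)) (.node 1 (.leaf 0x162) (.leaf 0x163))) (.node 2 (.node 1 (.leaf 0x164) (.leaf 0x165)) (.node 1 (.leaf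 0x166) (.leaf 0x167)))) (.node 4 (.node 2 (.node 1 (.leaf 0x168) (.leaf 0x169)) (.node 1 (.leaf 0x16a) (.leaf 0x16b))) (.node 2 (.node 1 (.leaf 0x16c) (.leaf 0x16d)) (.node 1 (.leaf 0x16e) (.leaf 0x16f))))) (.node 8 (.node 4 (.node 2 (.node 1 (.leaf 0x150) (.leaf 0x151)) (.node 1 (.leaf 0x152) (.leaf 0x153))) (.node 2 (.node 1 (.leaf 0x154) (.leaf 0x155)) (.node 1 (.leaf 0x156) (.leaf 0x157)))) (.node 4 (.node 2 (.node 1 (.leaf 0x158) (.leaf 0x159)) (.node 1 (.leaf 0x15a) (.leaf 0x15b))) (.node 2 (.node 1 (.leaf 0x15c) (.leaf 0x15d)) (.node 1 (.leaf 0x15e) (.leaf 0x15f)))))) (.node 16 (.node 8 (.node 4 (.node 2 (.node 1 (.leaf 0x80) (.leaf 0x81)) (.node 1 (.leaf 0x82) (.leaf 0x83))) (.node 2 (.node 1 (.leaf 0x84) (.leaf 0x85)) (.node 1 (.leaf 0x86) (.leaf 0x87)))) (.node 4 (.node 2 (.node 1 (.leaf 0x88) (.leaf 0x89)) (.node 1 (.leaf 0x8a) (.leaf 0x8b))) (.node 2 (.node 1 (.leaf 0x8c) (.leaf 0x8d)) (.node 1 (.leaf 0x8e) (.leaf 0x8f)))))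 (.node 8 (.node 4 (.node 2 (.node 1 (.leaf 0x120) (.leaf 0x121)) (.node 1 (.leaf 0x122) (.leaf 0x123))) (.node 2 (.node 1 (.leaf 0x124) (.leaf 0x125)) (.node 1 (.leaf 0x126) (.leaf 0x127)))) (.node 4 (.node 2 (.node 1 (.leaf 0x128) (.leaf 0x129)) (.node 1 (.leaf 0x12a) (.leaf 0x12b))) (.node 2 (.node 1 (.leaf 0x12c) (.leaf 0x12d)) (.node 1 (.leaf 0x12e) (.leaf 0x12f)))))))

def mulH_2 : Tree :=
  .node 64 (.node 32 (.node 16 (.node 8 (.node 4 (.node 2 (.node 1 (.leaf 0xa0) (.leaf 0xa1)) (.node 1 (.leaf 0xa2) (.leaf 0xa3))) (.node 2 (.node 1 (.leaf 0xa4) (.leaf 0xa5)) (.node 1 (.leaf 0xa6) (.leaf 0xa7)))) (.node 4 (.node 2 (.node 1 (.leaf 0xa8) (.leaf 0xa9)) (.node 1 (.leaf 0xaa) (.leaf 0xab))) (.node 2 (.node 1 (.leaf 0xac) (.leaf 0xad)) (.node 1 (.leaf 0xae) (.leaf 0xaf))))) (.node 8 (.node 4 (.node 2 (.node 1 (.leaf 0x90) (.leaf 0x91)) (.node 1 (.leaf 0x92) (.leaf 0x93))) (.node 2 (.node 1 (.leaf 0x94) (.leaf 0x95)) (.node 1 (.leaf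 0x96) (.leaf 0x97)))) (.node 4 (.node 2 (.node 1 (.leaf 0x98) (.leaf 0x99)) (.node 1 (.leaf 0x9a) (.leaf 0x9b))) (.node 2 (.node 1 (.leaf 0x9c) (.leaf 0x9d)) (.node 1 (.leaf 0x9e) (.leaf 0x9f)))))) (.node 16 (.node 8 (.node 4 (.node 2 (.node 1 (.leaf 0xf0) (.leaf 0xf1)) (.node 1 (.leaf 0xf2) (.leaf 0xf3))) (.node 2 (.node 1 (.leaf 0xf4) (.leaf 0xf5)) (.node 1 (.leaf 0xf6) (.leaf 0xf7)))) (.node 4 (.node 2 (.node 1 (.leaf 0xf8) (.leaf 0xf9)) (.node 1 (.leaf 0xfa) (.leaf 0xfb))) (.node 2 (.node 1 (.leaf 0xfc) (.leaf 0xfd)) (.node 1 (.leaf 0xfe) (.leaf 0xff))))) (.node 8 (.node 4 (.node 2 (.node 1 (.leaf 0xb0) (.leaf 0xb1)) (.node 1 (.leaf 0xb2) (.leaf 0xb3))) (.node 2 (.node 1 (.leaf 0xb4) (.leaf 0xb5)) (.node 1 (.leaf 0xb6) (.leaf 0xb7)))) (.node 4 (.node 2 (.node 1 (.leaf 0xb8) (.leaf 0xb9)) (.node 1 (.leaf 0xba) (.leaf 0xbb))) (.node 2 (.node 1 (.leaf 0xbc) (.leaf 0xbd)) (.node 1 (.leaf 0xbe) (.leaf 0xbf))))))) (.node 32 (.node 16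 (.node 8 (.node 4 (.node 2 (.node 1 (.leaf 0x170) (.leaf 0x171)) (.node 1 (.leaf 0x172) (.leaf 0x173))) (.node 2 (.node 1 (.leaf 0x174) (.leaf 0x175)) (.node 1 (.leaf 0x176) (.leaf 0x177)))) (.node 4 (.node 2 (.node 1 (.leaf 0x178) (.leaf 0x179)) (.node 1 (.leaf 0x17a) (.leaf 0x17b))) (.node 2 (.node 1 (.leaf 0x17c) (.leaf 0x17d)) (.node 1 (.leaf 0x17e) (.leaf 0x17f))))) (.node 8 (.node 4 (.node 2 (.node 1 (.leaf 0xd0) (.leaf 0xd1)) (.node 1 (.leaf 0xd2) (.leaf 0xd3))) (.node 2 (.node 1 (.leaf 0xd4) (.leaf 0xd5)) (.node 1 (.leaf 0xd6) (.leaf 0xd7)))) (.node 4 (.node 2 (.node 1 (.leaf 0xd8) (.leaf 0xd9)) (.node 1 (.leaf 0xda) (.leaf 0xdb))) (.node 2 (.node 1 (.leaf 0xdc) (.leaf 0xdd)) (.node 1 (.leaf 0xde) (.leaf 0xdf)))))) (.node 16 (.node 8 (.node 4 (.node 2 (.node 1 (.leaf 0xc0) (.leaf 0xc1)) (.node 1 (.leaf 0xc2) (.leaf 0xc3))) (.node 2 (.node 1 (.leaf 0xc4) (.leaf 0xc5)) (.node 1 (.leaf 0xc6) (.leaf 0xc7)))) (.node 4 (.node 2 (.node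 1 (.leaf 0xc8) (.leaf 0xc9)) (.node 1 (.leaf 0xca) (.leaf 0xcb))) (.node 2 (.node 1 (.leaf 0xcc) (.leaf 0xcd)) (.node 1 (.leaf 0xce) (.leaf 0xcf))))) (.node 8 (.node 4 (.node 2 (.node 1 (.leaf 0x140) (.leaf 0x141)) (.node 1 (.leaf 0x142) (.leaf 0x143))) (.node 2 (.node 1 (.leaf 0x144) (.leaf 0x145)) (.node 1 (.leaf 0x146) (.leaf 0x147)))) (.node 4 (.node 2 (.node 1 (.leaf 0x148) (.leaf 0x149)) (.node 1 (.leaf 0x14a) (.leaf 0x14b))) (.node 2 (.node 1 (.leaf 0x14c) (.leaf 0x14d)) (.node 1 (.leaf 0x14e) (.leaf 0x14f)))))))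

def mulH_3 : Tree :=
  .node 64 (.node 32 (.node 16 (.node 8 (.node 4 (.node 2 (.node 1 (.leaf 0x1a0) (.leaf 0x1a1)) (.node 1 (.leaf 0x1a2) (.leaf 0x1a3))) (.node 2 (.node 1 (.leaf 0x1a4) (.leaf 0x1a5)) (.node 1 (.leaf 0x1a6) (.leaf 0x1a7)))) (.node 4 (.node 2 (.node 1 (.leaf 0x1a8) (.leaf 0x1a9)) (.node 1 (.leaf 0x1aa) (.leaf 0x1ab))) (.node 2 (.node 1 (.leaf 0x1ac) (.leaf 0x1ad)) (.node 1 (.leaf 0x1ae) (.leaf 0x1af))))) (.node 8 (.node 4 (.node 2 (.node 1 (.leaf 0x1d0) (.leaf 0x1d1)) (.node 1 (.leaf 0x1d2) (.leaf 0x1d3))) (.node 2 (.node 1 (.leaf 0x1d4) (.leaf 0x1d5)) (.node 1 (.leaf 0x1d6) (.leaf 0x1d7)))) (.node 4 (.node 2 (.node 1 (.leaf 0x1d8) (.leaf 0x1d9)) (.node 1 (.leaf 0x1da) (.leaf 0x1db))) (.node 2 (.node 1 (.leaf 0x1dc) (.leaf 0x1dd)) (.node 1 (.leaf 0x1de) (.leaf 0x1df)))))) (.node 16 (.node 8 (.node 4 (.node 2 (.node 1 (.leaf 0x180) (.leaf 0x181)) (.node 1 (.leaf 0x182) (.leaf 0x183))) (.node 2 (.node 1 (.leaf 0x184)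 (.leaf 0x185)) (.node 1 (.leaf 0x186) (.leaf 0x187)))) (.node 4 (.node 2 (.node 1 (.leaf 0x188) (.leaf 0x189)) (.node 1 (.leaf 0x18a) (.leaf 0x18b))) (.node 2 (.node 1 (.leaf 0x18c) (.leaf 0x18d)) (.node 1 (.leaf 0x18e) (.leaf 0x18f))))) (.node 8 (.node 4 (.node 2 (.node 1 (.leaf 0x1e0) (.leaf 0x1e1)) (.node 1 (.leaf 0x1e2) (.leaf 0x1e3))) (.node 2 (.node 1 (.leaf 0x1e4) (.leaf 0x1e5)) (.node 1 (.leaf 0x1e6) (.leaf 0x1e7)))) (.node 4 (.node 2 (.node 1 (.leaf 0x1e8) (.leaf 0x1e9)) (.node 1 (.leaf 0x1ea) (.leaf 0x1eb))) (.node 2 (.node 1 (.leaf 0x1ec) (.leaf 0x1ed)) (.node 1 (.leaf 0x1ee) (.leaf 0x1ef))))))) (.node 32 (.node 16 (.node 8 (.node 4 (.node 2 (.node 1 (.leaf 0x1f0) (.leaf 0x1f1)) (.node 1 (.leaf 0x1f2) (.leaf 0x1f3))) (.node 2 (.node 1 (.leaf 0x1f4) (.leaf 0x1f5)) (.node 1 (.leaf 0x1f6) (.leaf 0x1f7)))) (.node 4 (.node 2 (.node 1 (.leaf 0x1f8) (.leaf 0x1f9)) (.node 1 (.leaf 0x1fa) (.leaf 0x1fb))) (.node 2 (.node 1 (.leaf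 0x1fc) (.leaf 0x1fd)) (.node 1 (.leaf 0x1fe) (.leaf 0x1ff))))) (.node 8 (.node 4 (.node 2 (.node 1 (.leaf 0x190) (.leaf 0x191)) (.node 1 (.leaf 0x192) (.leaf 0x193))) (.node 2 (.node 1 (.leaf 0x194) (.leaf 0x195)) (.node 1 (.leaf 0x196) (.leaf 0x197)))) (.node 4 (.node 2 (.node 1 (.leaf 0x198) (.leaf 0x199)) (.node 1 (.leaf 0x19a) (.leaf 0x19b))) (.node 2 (.node 1 (.leaf 0x19c) (.leaf 0x19d)) (.node 1 (.leaf 0x19e) (.leaf 0x19f)))))) (.node 16 (.node 8 (.node 4 (.node 2 (.node 1 (.leaf 0x1b0) (.leaf 0x1b1)) (.node 1 (.leaf 0x1b2) (.leaf 0x1b3))) (.node 2 (.node 1 (.leaf 0x1b4) (.leaf 0x1b5)) (.node 1 (.leaf 0x1b6) (.leaf 0x1b7)))) (.node 4 (.node 2 (.node 1 (.leaf 0x1b8) (.leaf 0x1b9)) (.node 1 (.leaf 0x1ba) (.leaf 0x1bb))) (.node 2 (.node 1 (.leaf 0x1bc) (.leaf 0x1bd)) (.node 1 (.leaf 0x1be) (.leaf 0x1bf))))) (.node 8 (.node 4 (.node 2 (.node 1 (.leaf 0x1c0) (.leaf 0x1c1)) (.node 1 (.leaf 0x1c2) (.leaf 0x1c3))) (.node 2 (.node 1 (.leaf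 0x1c4) (.leaf 0x1c5)) (.node 1 (.leaf 0x1c6) (.leaf 0x1c7)))) (.node 4 (.node 2 (.node 1 (.leaf 0x1c8) (.leaf 0x1c9)) (.node 1 (.leaf 0x1ca) (.leaf 0x1cb))) (.node 2 (.node 1 (.leaf 0x1cc) (.leaf 0x1cd)) (.node 1 (.leaf 0x1ce) (.leaf 0x1cf)))))))

def mulH_4 : Tree :=
  .node 64 (.node 32 (.node 16 (.node 8 (.node 4 (.node 2 (.node 1 (.leaf 0x31) (.leaf 0x30)) (.node 1 (.leaf 0x32) (.leaf 0x33))) (.node 2 (.node 1 (.leaf 0x34) (.leaf 0x35)) (.node 1 (.leaf 0x36) (.leaf 0x37)))) (.node 4 (.node 2 (.node 1 (.leaf 0x38) (.leaf 0x39)) (.node 1 (.leaf 0x3a) (.leaf 0x3b))) (.node 2 (.node 1 (.leaf 0x3c) (.leaf 0x3d)) (.node 1 (.leaf 0x3e) (.leaf 0x3f))))) (.node 8 (.node 4 (.node 2 (.node 1 (.leaf 0x50) (.leaf 0x51)) (.node 1 (.leaf 0x52) (.leaf 0x53))) (.node 2 (.node 1 (.leaf 0x54) (.leaf 0x55)) (.node 1 (.leaf 0x56) (.leaf 0x57)))) (.node 4 (.node 2 (.node 1 (.leaf 0x58) (.leaf 0x59)) (.node 1 (.leaf 0x5a) (.leaf 0x5b))) (.node 2 (.node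 1 (.leaf 0x5c) (.leaf 0x5d)) (.node 1 (.leaf 0x5e) (.leaf 0x5f)))))) (.node 16 (.node 8 (.node 4 (.node 2 (.node 1 (.leaf 0x60) (.leaf 0x61)) (.node 1 (.leaf 0x62) (.leaf 0x63))) (.node 2 (.node 1 (.leaf 0x64) (.leaf 0x65)) (.node 1 (.leaf 0x66) (.leaf 0x67)))) (.node 4 (.node 2 (.node 1 (.leaf 0x68) (.leaf 0x69)) (.node 1 (.leaf 0x6a) (.leaf 0x6b))) (.node 2 (.node 1 (.leaf 0x6c) (.leaf 0x6d)) (.node 1 (.leaf 0x6e) (.leaf 0x6f))))) (.node 8 (.node 4 (.node 2 (.node 1 (.leaf 0x1) (.leaf 0x0)) (.node 1 (.leaf 0x2) (.leaf 0x3))) (.node 2 (.node 1 (.leaf 0x4) (.leaf 0x5)) (.node 1 (.leaf 0x6) (.leaf 0x7)))) (.node 4 (.node 2 (.node 1 (.leaf 0x8) (.leaf 0x9)) (.node 1 (.leaf 0xa) (.leaf 0xb))) (.node 2 (.node 1 (.leaf 0xc) (.leaf 0xd)) (.node 1 (.leaf 0xe) (.leaf 0xf))))))) (.node 32 (.node 16 (.node 8 (.node 4 (.node 2 (.node 1 (.leaf 0x70) (.leaf 0x71)) (.node 1 (.leaf 0x72) (.leaf 0x73))) (.node 2 (.node 1 (.leaf 0x74) (.leaf 0x75))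 (.node 1 (.leaf 0x76) (.leaf 0x77)))) (.node 4 (.node 2 (.node 1 (.leaf 0x78) (.leaf 0x79)) (.node 1 (.leaf 0x7a) (.leaf 0x7b))) (.node 2 (.node 1 (.leaf 0x7c) (.leaf 0x7d)) (.node 1 (.leaf 0x7e) (.leaf 0x7f))))) (.node 8 (.node 4 (.node 2 (.node 1 (.leaf 0x10) (.leaf 0x11)) (.node 1 (.leaf 0x12) (.leaf 0x13))) (.node 2 (.node 1 (.leaf 0x14) (.leaf 0x15)) (.node 1 (.leaf 0x16) (.leaf 0x17)))) (.node 4 (.node 2 (.node 1 (.leaf 0x18) (.leaf 0x19)) (.node 1 (.leaf 0x1a) (.leaf 0x1b))) (.node 2 (.node 1 (.leaf 0x1c) (.leaf 0x1d)) (.node 1 (.leaf 0x1e) (.leaf 0x1f)))))) (.node 16 (.node 8 (.node 4 (.node 2 (.node 1 (.leaf 0x20) (.leaf 0x21)) (.node 1 (.leaf 0x22) (.leaf 0x23))) (.node 2 (.node 1 (.leaf 0x24) (.leaf 0x25)) (.node 1 (.leaf 0x26) (.leaf 0x27)))) (.node 4 (.node 2 (.node 1 (.leaf 0x28) (.leaf 0x29)) (.node 1 (.leaf 0x2a) (.leaf 0x2b))) (.node 2 (.node 1 (.leaf 0x2c) (.leaf 0x2d)) (.node 1 (.leaf 0x2e) (.leaf 0x2f))))) (.node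 8 (.node 4 (.node 2 (.node 1 (.leaf 0x40) (.leaf 0x41)) (.node 1 (.leaf 0x42) (.leaf 0x43))) (.node 2 (.node 1 (.leaf 0x44) (.leaf 0x45)) (.node 1 (.leaf 0x46) (.leaf 0x47)))) (.node 4 (.node 2 (.node 1 (.leaf 0x48) (.leaf 0x49)) (.node 1 (.leaf 0x4a) (.leaf 0x4b))) (.node 2 (.node 1 (.leaf 0x4c) (.leaf 0x4d)) (.node 1 (.leaf 0x4e) (.leaf 0x4f)))))))

def mulH_5 : Tree :=
  .node 64 (.node 32 (.node 16 (.node 8 (.node 4 (.node 2 (.node 1 (.leaf 0xf0) (.leaf 0xf1)) (.node 1 (.leaf 0xf2) (.leaf 0xf3))) (.node 2 (.node 1 (.leaf 0xf4) (.leaf 0xf5)) (.node 1 (.leaf 0xf6) (.leaf 0xf7)))) (.node 4 (.node 2 (.node 1 (.leaf 0xf8) (.leaf 0xf9)) (.node 1 (.leaf 0xfa) (.leaf 0xfb))) (.node 2 (.node 1 (.leaf 0xfc) (.leaf 0xfd)) (.node 1 (.leaf 0xfe) (.leaf 0xff))))) (.node 8 (.node 4 (.node 2 (.node 1 (.leaf 0x100) (.leaf 0x101)) (.node 1 (.leaf 0x102) (.leaf 0x103))) (.node 2 (.node 1 (.leaf 0x104) (.leaf 0x105)) (.node 1 (.leaf 0x106) (.leaf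 0x107)))) (.node 4 (.node 2 (.node 1 (.leaf 0x108) (.leaf 0x109)) (.node 1 (.leaf 0x10a) (.leaf 0x10b))) (.node 2 (.node 1 (.leaf 0x10c) (.leaf 0x10d)) (.node 1 (.leaf 0x10e) (.leaf 0x10f)))))) (.node 16 (.node 8 (.node 4 (.node 2 (.node 1 (.leaf 0x110) (.leaf 0x111)) (.node 1 (.leaf 0x112) (.leaf 0x113))) (.node 2 (.node 1 (.leaf 0x114) (.leaf 0x115)) (.node 1 (.leaf 0x116) (.leaf 0x117)))) (.node 4 (.node 2 (.node 1 (.leaf 0x118) (.leaf 0x119)) (.node 1 (.leaf 0x11a) (.leaf 0x11b))) (.node 2 (.node 1 (.leaf 0x11c) (.leaf 0x11d)) (.node 1 (.leaf 0x11e) (.leaf 0x11f))))) (.node 8 (.node 4 (.node 2 (.node 1 (.leaf 0x140) (.leaf 0x141)) (.node 1 (.leaf 0x142) (.leaf 0x143))) (.node 2 (.node 1 (.leaf 0x144) (.leaf 0x145)) (.node 1 (.leaf 0x146) (.leaf 0x147)))) (.node 4 (.node 2 (.node 1 (.leaf 0x148) (.leaf 0x149)) (.node 1 (.leaf 0x14a) (.leaf 0x14b))) (.node 2 (.node 1 (.leaf 0x14c) (.leaf 0x14d)) (.node 1 (.leaf 0x14e) (.leaf 0x14f)))))))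 (.node 32 (.node 16 (.node 8 (.node 4 (.node 2 (.node 1 (.leaf 0x150) (.leaf 0x151)) (.node 1 (.leaf 0x152) (.leaf 0x153))) (.node 2 (.node 1 (.leaf 0x154) (.leaf 0x155)) (.node 1 (.leaf 0x156) (.leaf 0x157)))) (.node 4 (.node 2 (.node 1 (.leaf 0x158) (.leaf 0x159)) (.node 1 (.leaf 0x15a) (.leaf 0x15b))) (.node 2 (.node 1 (.leaf 0x15c) (.leaf 0x15d)) (.node 1 (.leaf 0x15e) (.leaf 0x15f))))) (.node 8 (.node 4 (.node 2 (.node 1 (.leaf 0x160) (.leaf 0x161)) (.node 1 (.leaf 0x162) (.leaf 0x163))) (.node 2 (.node 1 (.leaf 0x164) (.leaf 0x165)) (.node 1 (.leaf 0x166) (.leaf 0x167)))) (.node 4 (.node 2 (.node 1 (.leaf 0x168) (.leaf 0x169)) (.node 1 (.leaf 0x16a) (.leaf 0x16b))) (.node 2 (.node 1 (.leaf 0x16c) (.leaf 0x16d)) (.node 1 (.leaf 0x16e) (.leaf 0x16f)))))) (.node 16 (.node 8 (.node 4 (.node 2 (.node 1 (.leaf 0x120) (.leaf 0x121)) (.node 1 (.leaf 0x122) (.leaf 0x123))) (.node 2 (.node 1 (.leaf 0x124) (.leaf 0x125)) (.node 1 (.leaf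 0x126) (.leaf 0x127)))) (.node 4 (.node 2 (.node 1 (.leaf 0x128) (.leaf 0x129)) (.node 1 (.leaf 0x12a) (.leaf 0x12b))) (.node 2 (.node 1 (.leaf 0x12c) (.leaf 0x12d)) (.node 1 (.leaf 0x12e) (.leaf 0x12f))))) (.node 8 (.node 4 (.node 2 (.node 1 (.leaf 0x80) (.leaf 0x81)) (.node 1 (.leaf 0x82) (.leaf 0x83))) (.node 2 (.node 1 (.leaf 0x84) (.leaf 0x85)) (.node 1 (.leaf 0x86) (.leaf 0x87)))) (.node 4 (.node 2 (.node 1 (.leaf 0x88) (.leaf 0x89)) (.node 1 (.leaf 0x8a) (.leaf 0x8b))) (.node 2 (.node 1 (.leaf 0x8c) (.leaf 0x8d)) (.node 1 (.leaf 0x8e) (.leaf 0x8f)))))))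

def mulH_6 : Tree :=
  .node 64 (.node 32 (.node 16 (.node 8 (.node 4 (.node 2 (.node 1 (.leaf 0x90) (.leaf 0x91)) (.node 1 (.leaf 0x92) (.leaf 0x93))) (.node 2 (.node 1 (.leaf 0x94) (.leaf 0x95)) (.node 1 (.leaf 0x96) (.leaf 0x97)))) (.node 4 (.node 2 (.node 1 (.leaf 0x98) (.leaf 0x99)) (.node 1 (.leaf 0x9a) (.leaf 0x9b))) (.node 2 (.node 1 (.leaf 0x9c) (.leaf 0x9d)) (.node 1 (.leaf 0x9e) (.leaf 0x9f))))) (.node 8 (.node 4 (.node 2 (.node 1 (.leaf 0xa0) (.leaf 0xa1)) (.node 1 (.leaf 0xa2) (.leaf 0xa3))) (.node 2 (.node 1 (.leaf 0xa4) (.leaf 0xa5)) (.node 1 (.leaf 0xa6) (.leaf 0xa7)))) (.node 4 (.node 2 (.node 1 (.leaf 0xa8) (.leaf 0xa9)) (.node 1 (.leaf 0xaa) (.leaf 0xab))) (.node 2 (.node 1 (.leaf 0xac) (.leaf 0xad)) (.node 1 (.leaf 0xae) (.leaf 0xaf)))))) (.node 16 (.node 8 (.node 4 (.node 2 (.node 1 (.leaf 0xe0) (.leaf 0xe1)) (.node 1 (.leaf 0xe2) (.leaf 0xe3))) (.node 2 (.node 1 (.leaf 0xe4) (.leaf 0xe5)) (.node 1 (.leaf 0xe6)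 (.leaf 0xe7)))) (.node 4 (.node 2 (.node 1 (.leaf 0xe8) (.leaf 0xe9)) (.node 1 (.leaf 0xea) (.leaf 0xeb))) (.node 2 (.node 1 (.leaf 0xec) (.leaf 0xed)) (.node 1 (.leaf 0xee) (.leaf 0xef))))) (.node 8 (.node 4 (.node 2 (.node 1 (.leaf 0x170) (.leaf 0x171)) (.node 1 (.leaf 0x172) (.leaf 0x173))) (.node 2 (.node 1 (.leaf 0x174) (.leaf 0x175)) (.node 1 (.leaf 0x176) (.leaf 0x177)))) (.node 4 (.node 2 (.node 1 (.leaf 0x178) (.leaf 0x179)) (.node 1 (.leaf 0x17a) (.leaf 0x17b))) (.node 2 (.node 1 (.leaf 0x17c) (.leaf 0x17d)) (.node 1 (.leaf 0x17e) (.leaf 0x17f))))))) (.node 32 (.node 16 (.node 8 (.node 4 (.node 2 (.node 1 (.leaf 0xb0) (.leaf 0xb1)) (.node 1 (.leaf 0xb2) (.leaf 0xb3))) (.node 2 (.node 1 (.leaf 0xb4) (.leaf 0xb5)) (.node 1 (.leaf 0xb6) (.leaf 0xb7)))) (.node 4 (.node 2 (.node 1 (.leaf 0xb8) (.leaf 0xb9)) (.node 1 (.leaf 0xba) (.leaf 0xbb))) (.node 2 (.node 1 (.leaf 0xbc) (.leaf 0xbd)) (.node 1 (.leaf 0xbe) (.leaf 0xbf)))))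 (.node 8 (.node 4 (.node 2 (.node 1 (.leaf 0xc0) (.leaf 0xc1)) (.node 1 (.leaf 0xc2) (.leaf 0xc3))) (.node 2 (.node 1 (.leaf 0xc4) (.leaf 0xc5)) (.node 1 (.leaf 0xc6) (.leaf 0xc7)))) (.node 4 (.node 2 (.node 1 (.leaf 0xc8) (.leaf 0xc9)) (.node 1 (.leaf 0xca) (.leaf 0xcb))) (.node 2 (.node 1 (.leaf 0xcc) (.leaf 0xcd)) (.node 1 (.leaf 0xce) (.leaf 0xcf)))))) (.node 16 (.node 8 (.node 4 (.node 2 (.node 1 (.leaf 0xd0) (.leaf 0xd1)) (.node 1 (.leaf 0xd2) (.leaf 0xd3))) (.node 2 (.node 1 (.leaf 0xd4) (.leaf 0xd5)) (.node 1 (.leaf 0xd6) (.leaf 0xd7)))) (.node 4 (.node 2 (.node 1 (.leaf 0xd8) (.leaf 0xd9)) (.node 1 (.leaf 0xda) (.leaf 0xdb))) (.node 2 (.node 1 (.leaf 0xdc) (.leaf 0xdd)) (.node 1 (.leaf 0xde) (.leaf 0xdf))))) (.node 8 (.node 4 (.node 2 (.node 1 (.leaf 0x130) (.leaf 0x131)) (.node 1 (.leaf 0x132) (.leaf 0x133))) (.node 2 (.node 1 (.leaf 0x134) (.leaf 0x135)) (.node 1 (.leaf 0x136) (.leaf 0x137)))) (.node 4 (.node 2 (.node 1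 (.leaf 0x138) (.leaf 0x139)) (.node 1 (.leaf 0x13a) (.leaf 0x13b))) (.node 2 (.node 1 (.leaf 0x13c) (.leaf 0x13d)) (.node 1 (.leaf 0x13e) (.leaf 0x13f)))))))

def mulH_7 : Tree :=
  .node 64 (.node 32 (.node 16 (.node 8 (.node 4 (.node 2 (.node 1 (.leaf 0x1c0) (.leaf 0x1c1)) (.node 1 (.leaf 0x1c2) (.leaf 0x1c3))) (.node 2 (.node 1 (.leaf 0x1c4) (.leaf 0x1c5)) (.node 1 (.leaf 0x1c6) (.leaf 0x1c7)))) (.node 4 (.node 2 (.node 1 (.leaf 0x1c8) (.leaf 0x1c9)) (.node 1 (.leaf 0x1ca) (.leaf 0x1cb))) (.node 2 (.node 1 (.leaf 0x1cc) (.leaf 0x1cd)) (.node 1 (.leaf 0x1ce) (.leaf 0x1cf))))) (.node 8 (.node 4 (.node 2 (.node 1 (.leaf 0x1e0) (.leaf 0x1e1)) (.node 1 (.leaf 0x1e2) (.leaf 0x1e3))) (.node 2 (.node 1 (.leaf 0x1e4) (.leaf 0x1e5)) (.node 1 (.leaf 0x1e6) (.leaf 0x1e7)))) (.node 4 (.node 2 (.node 1 (.leaf 0x1e8) (.leaf 0x1e9)) (.node 1 (.leaf 0x1ea) (.leaf 0x1eb))) (.node 2 (.node 1 (.leaf 0x1ec) (.leaf 0x1ed)) (.node 1 (.leaf 0x1ee) (.leaf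 0x1ef)))))) (.node 16 (.node 8 (.node 4 (.node 2 (.node 1 (.leaf 0x1f0) (.leaf 0x1f1)) (.node 1 (.leaf 0x1f2) (.leaf 0x1f3))) (.node 2 (.node 1 (.leaf 0x1f4) (.leaf 0x1f5)) (.node 1 (.leaf 0x1f6) (.leaf 0x1f7)))) (.node 4 (.node 2 (.node 1 (.leaf 0x1f8) (.leaf 0x1f9)) (.node 1 (.leaf 0x1fa) (.leaf 0x1fb))) (.node 2 (.node 1 (.leaf 0x1fc) (.leaf 0x1fd)) (.node 1 (.leaf 0x1fe) (.leaf 0x1ff))))) (.node 8 (.node 4 (.node 2 (.node 1 (.leaf 0x1d0) (.leaf 0x1d1)) (.node 1 (.leaf 0x1d2) (.leaf 0x1d3))) (.node 2 (.node 1 (.leaf 0x1d4) (.leaf 0x1d5)) (.node 1 (.leaf 0x1d6) (.leaf 0x1d7)))) (.node 4 (.node 2 (.node 1 (.leaf 0x1d8) (.leaf 0x1d9)) (.node 1 (.leaf 0x1da) (.leaf 0x1db))) (.node 2 (.node 1 (.leaf 0x1dc) (.leaf 0x1dd)) (.node 1 (.leaf 0x1de) (.leaf 0x1df))))))) (.node 32 (.node 16 (.node 8 (.node 4 (.node 2 (.node 1 (.leaf 0x180) (.leaf 0x181)) (.node 1 (.leaf 0x182) (.leaf 0x183))) (.node 2 (.node 1 (.leaf 0x184) (.leaf 0x185)) (.node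 1 (.leaf 0x186) (.leaf 0x187)))) (.node 4 (.node 2 (.node 1 (.leaf 0x188) (.leaf 0x189)) (.node 1 (.leaf 0x18a) (.leaf 0x18b))) (.node 2 (.node 1 (.leaf 0x18c) (.leaf 0x18d)) (.node 1 (.leaf 0x18e) (.leaf 0x18f))))) (.node 8 (.node 4 (.node 2 (.node 1 (.leaf 0x1b0) (.leaf 0x1b1)) (.node 1 (.leaf 0x1b2) (.leaf 0x1b3))) (.node 2 (.node 1 (.leaf 0x1b4) (.leaf 0x1b5)) (.node 1 (.leaf 0x1b6) (.leaf 0x1b7)))) (.node 4 (.node 2 (.node 1 (.leaf 0x1b8) (.leaf 0x1b9)) (.node 1 (.leaf 0x1ba) (.leaf 0x1bb))) (.node 2 (.node 1 (.leaf 0x1bc) (.leaf 0x1bd)) (.node 1 (.leaf 0x1be) (.leaf 0x1bf)))))) (.node 16 (.node 8 (.node 4 (.node 2 (.node 1 (.leaf 0x190) (.leaf 0x191)) (.node 1 (.leaf 0x192) (.leaf 0x193))) (.node 2 (.node 1 (.leaf 0x194) (.leaf 0x195)) (.node 1 (.leaf 0x196) (.leaf 0x197)))) (.node 4 (.node 2 (.node 1 (.leaf 0x198) (.leaf 0x199)) (.node 1 (.leaf 0x19a) (.leaf 0x19b))) (.node 2 (.node 1 (.leaf 0x19c) (.leaf 0x19d)) (.node 1 (.leaf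 0x19e) (.leaf 0x19f))))) (.node 8 (.node 4 (.node 2 (.node 1 (.leaf 0x1a0) (.leaf 0x1a1)) (.node 1 (.leaf 0x1a2) (.leaf 0x1a3))) (.node 2 (.node 1 (.leaf 0x1a4) (.leaf 0x1a5)) (.node 1 (.leaf 0x1a6) (.leaf 0x1a7)))) (.node 4 (.node 2 (.node 1 (.leaf 0x1a8) (.leaf 0x1a9)) (.node 1 (.leaf 0x1aa) (.leaf 0x1ab))) (.node 2 (.node 1 (.leaf 0x1ac) (.leaf 0x1ad)) (.node 1 (.leaf 0x1ae) (.leaf 0x1af)))))))

def mulH_8 : Tree :=
  .node 64 (.node 32 (.node 16 (.node 8 (.node 4 (.node 2 (.node 1 (.leaf 0x1) (.leaf 0x0)) (.node 1 (.leaf 0x3) (.leaf 0x2))) (.node 2 (.node 1 (.leaf 0x5) (.leaf 0x4)) (.node 1 (.leaf 0x7) (.leaf 0x6)))) (.node 4 (.node 2 (.node 1 (.leaf 0x9) (.leaf 0x8)) (.node 1 (.leaf 0xb) (.leaf 0xa))) (.node 2 (.node 1 (.leaf 0xd) (.leaf 0xc)) (.node 1 (.leaf 0xf) (.leaf 0xe))))) (.node 8 (.node 4 (.node 2 (.node 1 (.leaf 0x11) (.leaf 0x10)) (.node 1 (.leaf 0x13) (.leaf 0x12))) (.node 2 (.node 1 (.leaf 0x15) (.leaf 0x14)) (.node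 1 (.leaf 0x17) (.leaf 0x16)))) (.node 4 (.node 2 (.node 1 (.leaf 0x19) (.leaf 0x18)) (.node 1 (.leaf 0x1b) (.leaf 0x1a))) (.node 2 (.node 1 (.leaf 0x1d) (.leaf 0x1c)) (.node 1 (.leaf 0x1f) (.leaf 0x1e)))))) (.node 16 (.node 8 (.node 4 (.node 2 (.node 1 (.leaf 0x21) (.leaf 0x20)) (.node 1 (.leaf 0x23) (.leaf 0x22))) (.node 2 (.node 1 (.leaf 0x25) (.leaf 0x24)) (.node 1 (.leaf 0x27) (.leaf 0x26)))) (.node 4 (.node 2 (.node 1 (.leaf 0x29) (.leaf 0x28)) (.node 1 (.leaf 0x2b) (.leaf 0x2a))) (.node 2 (.node 1 (.leaf 0x2d) (.leaf 0x2c)) (.node 1 (.leaf 0x2f) (.leaf 0x2e))))) (.node 8 (.node 4 (.node 2 (.node 1 (.leaf 0x6d) (.leaf 0x6c)) (.node 1 (.leaf 0x6f) (.leaf 0x6e))) (.node 2 (.node 1 (.leaf 0x69) (.leaf 0x68)) (.node 1 (.leaf 0x6b) (.leaf 0x6a)))) (.node 4 (.node 2 (.node 1 (.leaf 0x65) (.leaf 0x64)) (.node 1 (.leaf 0x67) (.leaf 0x66))) (.node 2 (.node 1 (.leaf 0x61) (.leaf 0x60)) (.node 1 (.leaf 0x63) (.leaf 0x62))))))) (.node 32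 (.node 16 (.node 8 (.node 4 (.node 2 (.node 1 (.leaf 0x41) (.leaf 0x40)) (.node 1 (.leaf 0x43) (.leaf 0x42))) (.node 2 (.node 1 (.leaf 0x45) (.leaf 0x44)) (.node 1 (.leaf 0x47) (.leaf 0x46)))) (.node 4 (.node 2 (.node 1 (.leaf 0x49) (.leaf 0x48)) (.node 1 (.leaf 0x4b) (.leaf 0x4a))) (.node 2 (.node 1 (.leaf 0x4d) (.leaf 0x4c)) (.node 1 (.leaf 0x4f) (.leaf 0x4e))))) (.node 8 (.node 4 (.node 2 (.node 1 (.leaf 0x7d) (.leaf 0x7c)) (.node 1 (.leaf 0x7f) (.leaf 0x7e))) (.node 2 (.node 1 (.leaf 0x79) (.leaf 0x78)) (.node 1 (.leaf 0x7b) (.leaf 0x7a)))) (.node 4 (.node 2 (.node 1 (.leaf 0x75) (.leaf 0x74)) (.node 1 (.leaf 0x77) (.leaf 0x76))) (.node 2 (.node 1 (.leaf 0x71) (.leaf 0x70)) (.node 1 (.leaf 0x73) (.leaf 0x72)))))) (.node 16 (.node 8 (.node 4 (.node 2 (.node 1 (.leaf 0x3d) (.leaf 0x3c)) (.node 1 (.leaf 0x3f) (.leaf 0x3e))) (.node 2 (.node 1 (.leaf 0x39) (.leaf 0x38)) (.node 1 (.leaf 0x3b) (.leaf 0x3a)))) (.node 4 (.node 2 (.node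 1 (.leaf 0x35) (.leaf 0x34)) (.node 1 (.leaf 0x37) (.leaf 0x36))) (.node 2 (.node 1 (.leaf 0x31) (.leaf 0x30)) (.node 1 (.leaf 0x33) (.leaf 0x32))))) (.node 8 (.node 4 (.node 2 (.node 1 (.leaf 0x5d) (.leaf 0x5c)) (.node 1 (.leaf 0x5f) (.leaf 0x5e))) (.node 2 (.node 1 (.leaf 0x59) (.leaf 0x58)) (.node 1 (.leaf 0x5b) (.leaf 0x5a)))) (.node 4 (.node 2 (.node 1 (.leaf 0x55) (.leaf 0x54)) (.node 1 (.leaf 0x57) (.leaf 0x56))) (.node 2 (.node 1 (.leaf 0x51) (.leaf 0x50)) (.node 1 (.leaf 0x53) (.leaf 0x52)))))))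

def mulH_9 : Tree :=
  .node 64 (.node 32 (.node 16 (.node 8 (.node 4 (.node 2 (.node 1 (.leaf 0xd1) (.leaf 0xd0)) (.node 1 (.leaf 0xd3) (.leaf 0xd2))) (.node 2 (.node 1 (.leaf 0xd5) (.leaf 0xd4)) (.node 1 (.leaf 0xd7) (.leaf 0xd6)))) (.node 4 (.node 2 (.node 1 (.leaf 0xd9) (.leaf 0xd8)) (.node 1 (.leaf 0xdb) (.leaf 0xda))) (.node 2 (.node 1 (.leaf 0xdd) (.leaf 0xdc)) (.node 1 (.leaf 0xdf) (.leaf 0xde))))) (.node 8 (.node 4 (.node 2 (.node 1 (.leaf 0x12d) (.leaf 0x12c)) (.node 1 (.leaf 0x12f) (.leaf 0x12e))) (.node 2 (.node 1 (.leaf 0x129) (.leaf 0x128)) (.node 1 (.leaf 0x12b) (.leaf 0x12a)))) (.node 4 (.node 2 (.node 1 (.leaf 0x125) (.leaf 0x124)) (.node 1 (.leaf 0x127) (.leaf 0x126))) (.node 2 (.node 1 (.leaf 0x121) (.leaf 0x120)) (.node 1 (.leaf 0x123) (.leaf 0x122)))))) (.node 16 (.node 8 (.node 4 (.node 2 (.node 1 (.leaf 0xb1) (.leaf 0xb0)) (.node 1 (.leaf 0xb3) (.leaf 0xb2))) (.node 2 (.node 1 (.leaf 0xb5) (.leaf 0xb4)) (.node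 1 (.leaf 0xb7) (.leaf 0xb6)))) (.node 4 (.node 2 (.node 1 (.leaf 0xb9) (.leaf 0xb8)) (.node 1 (.leaf 0xbb) (.leaf 0xba))) (.node 2 (.node 1 (.leaf 0xbd) (.leaf 0xbc)) (.node 1 (.leaf 0xbf) (.leaf 0xbe))))) (.node 8 (.node 4 (.node 2 (.node 1 (.leaf 0xa1) (.leaf 0xa0)) (.node 1 (.leaf 0xa3) (.leaf 0xa2))) (.node 2 (.node 1 (.leaf 0xa5) (.leaf 0xa4)) (.node 1 (.leaf 0xa7) (.leaf 0xa6)))) (.node 4 (.node 2 (.node 1 (.leaf 0xa9) (.leaf 0xa8)) (.node 1 (.leaf 0xab) (.leaf 0xaa))) (.node 2 (.node 1 (.leaf 0xad) (.leaf 0xac)) (.node 1 (.leaf 0xaf) (.leaf 0xae))))))) (.node 32 (.node 16 (.node 8 (.node 4 (.node 2 (.node 1 (.leaf 0x17d) (.leaf 0x17c)) (.node 1 (.leaf 0x17f) (.leaf 0x17e))) (.node 2 (.node 1 (.leaf 0x179) (.leaf 0x178)) (.node 1 (.leaf 0x17b) (.leaf 0x17a)))) (.node 4 (.node 2 (.node 1 (.leaf 0x175) (.leaf 0x174)) (.node 1 (.leaf 0x177) (.leaf 0x176))) (.node 2 (.node 1 (.leaf 0x171) (.leaf 0x170)) (.node 1 (.leaf 0x173) (.leaf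 0x172))))) (.node 8 (.node 4 (.node 2 (.node 1 (.leaf 0x81) (.leaf 0x80)) (.node 1 (.leaf 0x83) (.leaf 0x82))) (.node 2 (.node 1 (.leaf 0x85) (.leaf 0x84)) (.node 1 (.leaf 0x87) (.leaf 0x86)))) (.node 4 (.node 2 (.node 1 (.leaf 0x89) (.leaf 0x88)) (.node 1 (.leaf 0x8b) (.leaf 0x8a))) (.node 2 (.node 1 (.leaf 0x8d) (.leaf 0x8c)) (.node 1 (.leaf 0x8f) (.leaf 0x8e)))))) (.node 16 (.node 8 (.node 4 (.node 2 (.node 1 (.leaf 0x151) (.leaf 0x150)) (.node 1 (.leaf 0x153) (.leaf 0x152))) (.node 2 (.node 1 (.leaf 0x155) (.leaf 0x154)) (.node 1 (.leaf 0x157) (.leaf 0x156)))) (.node 4 (.node 2 (.node 1 (.leaf 0x159) (.leaf 0x158)) (.node 1 (.leaf 0x15b) (.leaf 0x15a))) (.node 2 (.node 1 (.leaf 0x15d) (.leaf 0x15c)) (.node 1 (.leaf 0x15f) (.leaf 0x15e))))) (.node 8 (.node 4 (.node 2 (.node 1 (.leaf 0x11d) (.leaf 0x11c)) (.node 1 (.leaf 0x11f) (.leaf 0x11e))) (.node 2 (.node 1 (.leaf 0x119) (.leaf 0x118)) (.node 1 (.leaf 0x11b) (.leaf 0x11a))))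 (.node 4 (.node 2 (.node 1 (.leaf 0x115) (.leaf 0x114)) (.node 1 (.leaf 0x117) (.leaf 0x116))) (.node 2 (.node 1 (.leaf 0x111) (.leaf 0x110)) (.node 1 (.leaf 0x113) (.leaf 0x112)))))))

def mulH_10 : Tree :=
  .node 64 (.node 32 (.node 16 (.node 8 (.node 4 (.node 2 (.node 1 (.leaf 0x131) (.leaf 0x130)) (.node 1 (.leaf 0x133) (.leaf 0x132))) (.node 2 (.node 1 (.leaf 0x135) (.leaf 0x134)) (.node 1 (.leaf 0x137) (.leaf 0x136)))) (.node 4 (.node 2 (.node 1 (.leaf 0x139) (.leaf 0x138)) (.node 1 (.leaf 0x13b) (.leaf 0x13a))) (.node 2 (.node 1 (.leaf 0x13d) (.leaf 0x13c)) (.node 1 (.leaf 0x13f) (.leaf 0x13e))))) (.node 8 (.node 4 (.node 2 (.node 1 (.leaf 0xfd) (.leaf 0xfc)) (.node 1 (.leaf 0xff) (.leaf 0xfe))) (.node 2 (.node 1 (.leaf 0xf9) (.leaf 0xf8)) (.node 1 (.leaf 0xfb) (.leaf 0xfa)))) (.node 4 (.node 2 (.node 1 (.leaf 0xf5) (.leaf 0xf4)) (.node 1 (.leaf 0xf7) (.leaf 0xf6))) (.node 2 (.node 1 (.leaf 0xf1) (.leaf 0xf0)) (.node 1 (.leaf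 0xf3) (.leaf 0xf2)))))) (.node 16 (.node 8 (.node 4 (.node 2 (.node 1 (.leaf 0x9d) (.leaf 0x9c)) (.node 1 (.leaf 0x9f) (.leaf 0x9e))) (.node 2 (.node 1 (.leaf 0x99) (.leaf 0x98)) (.node 1 (.leaf 0x9b) (.leaf 0x9a)))) (.node 4 (.node 2 (.node 1 (.leaf 0x95) (.leaf 0x94)) (.node 1 (.leaf 0x97) (.leaf 0x96))) (.node 2 (.node 1 (.leaf 0x91) (.leaf 0x90)) (.node 1 (.leaf 0x93) (.leaf 0x92))))) (.node 8 (.node 4 (.node 2 (.node 1 (.leaf 0x101) (.leaf 0x100)) (.node 1 (.leaf 0x103) (.leaf 0x102))) (.node 2 (.node 1 (.leaf 0x105) (.leaf 0x104)) (.node 1 (.leaf 0x107) (.leaf 0x106)))) (.node 4 (.node 2 (.node 1 (.leaf 0x109) (.leaf 0x108)) (.node 1 (.leaf 0x10b) (.leaf 0x10a))) (.node 2 (.node 1 (.leaf 0x10d) (.leaf 0x10c)) (.node 1 (.leaf 0x10f) (.leaf 0x10e))))))) (.node 32 (.node 16 (.node 8 (.node 4 (.node 2 (.node 1 (.leaf 0x16d) (.leaf 0x16c)) (.node 1 (.leaf 0x16f) (.leaf 0x16e))) (.node 2 (.node 1 (.leaf 0x169) (.leaf 0x168)) (.node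 1 (.leaf 0x16b) (.leaf 0x16a)))) (.node 4 (.node 2 (.node 1 (.leaf 0x165) (.leaf 0x164)) (.node 1 (.leaf 0x167) (.leaf 0x166))) (.node 2 (.node 1 (.leaf 0x161) (.leaf 0x160)) (.node 1 (.leaf 0x163) (.leaf 0x162))))) (.node 8 (.node 4 (.node 2 (.node 1 (.leaf 0xe1) (.leaf 0xe0)) (.node 1 (.leaf 0xe3) (.leaf 0xe2))) (.node 2 (.node 1 (.leaf 0xe5) (.leaf 0xe4)) (.node 1 (.leaf 0xe7) (.leaf 0xe6)))) (.node 4 (.node 2 (.node 1 (.leaf 0xe9) (.leaf 0xe8)) (.node 1 (.leaf 0xeb) (.leaf 0xea))) (.node 2 (.node 1 (.leaf 0xed) (.leaf 0xec)) (.node 1 (.leaf 0xef) (.leaf 0xee)))))) (.node 16 (.node 8 (.node 4 (.node 2 (.node 1 (.leaf 0x14d) (.leaf 0x14c)) (.node 1 (.leaf 0x14f) (.leaf 0x14e))) (.node 2 (.node 1 (.leaf 0x149) (.leaf 0x148)) (.node 1 (.leaf 0x14b) (.leaf 0x14a)))) (.node 4 (.node 2 (.node 1 (.leaf 0x145) (.leaf 0x144)) (.node 1 (.leaf 0x147) (.leaf 0x146))) (.node 2 (.node 1 (.leaf 0x141) (.leaf 0x140)) (.node 1 (.leaf 0x143) (.leaf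 0x142))))) (.node 8 (.node 4 (.node 2 (.node 1 (.leaf 0xcd) (.leaf 0xcc)) (.node 1 (.leaf 0xcf) (.leaf 0xce))) (.node 2 (.node 1 (.leaf 0xc9) (.leaf 0xc8)) (.node 1 (.leaf 0xcb) (.leaf 0xca)))) (.node 4 (.node 2 (.node 1 (.leaf 0xc5) (.leaf 0xc4)) (.node 1 (.leaf 0xc7) (.leaf 0xc6))) (.node 2 (.node 1 (.leaf 0xc1) (.leaf 0xc0)) (.node 1 (.leaf 0xc3) (.leaf 0xc2)))))))

def mulH_11 : Tree :=
  .node 64 (.node 32 (.node 16 (.node 8 (.node 4 (.node 2 (.node 1 (.leaf 0x181) (.leaf 0x180)) (.node 1 (.leaf 0x183) (.leaf 0x182))) (.node 2 (.node 1 (.leaf 0x185) (.leaf 0x184)) (.node 1 (.leaf 0x187) (.leaf 0x186)))) (.node 4 (.node 2 (.node 1 (.leaf 0x189) (.leaf 0x188)) (.node 1 (.leaf 0x18b) (.leaf 0x18a))) (.node 2 (.node 1 (.leaf 0x18d) (.leaf 0x18c)) (.node 1 (.leaf 0x18f) (.leaf 0x18e))))) (.node 8 (.node 4 (.node 2 (.node 1 (.leaf 0x191) (.leaf 0x190)) (.node 1 (.leaf 0x193) (.leaf 0x192))) (.node 2 (.node 1 (.leaf 0x195) (.leaf 0x194))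 (.node 1 (.leaf 0x197) (.leaf 0x196)))) (.node 4 (.node 2 (.node 1 (.leaf 0x199) (.leaf 0x198)) (.node 1 (.leaf 0x19b) (.leaf 0x19a))) (.node 2 (.node 1 (.leaf 0x19d) (.leaf 0x19c)) (.node 1 (.leaf 0x19f) (.leaf 0x19e)))))) (.node 16 (.node 8 (.node 4 (.node 2 (.node 1 (.leaf 0x1a1) (.leaf 0x1a0)) (.node 1 (.leaf 0x1a3) (.leaf 0x1a2))) (.node 2 (.node 1 (.leaf 0x1a5) (.leaf 0x1a4)) (.node 1 (.leaf 0x1a7) (.leaf 0x1a6)))) (.node 4 (.node 2 (.node 1 (.leaf 0x1a9) (.leaf 0x1a8)) (.node 1 (.leaf 0x1ab) (.leaf 0x1aa))) (.node 2 (.node 1 (.leaf 0x1ad) (.leaf 0x1ac)) (.node 1 (.leaf 0x1af) (.leaf 0x1ae))))) (.node 8 (.node 4 (.node 2 (.node 1 (.leaf 0x1fd) (.leaf 0x1fc)) (.node 1 (.leaf 0x1ff) (.leaf 0x1fe))) (.node 2 (.node 1 (.leaf 0x1f9) (.leaf 0x1f8)) (.node 1 (.leaf 0x1fb) (.leaf 0x1fa)))) (.node 4 (.node 2 (.node 1 (.leaf 0x1f5) (.leaf 0x1f4)) (.node 1 (.leaf 0x1f7) (.leaf 0x1f6))) (.node 2 (.node 1 (.leaf 0x1f1) (.leaf 0x1f0)) (.node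 1 (.leaf 0x1f3) (.leaf 0x1f2))))))) (.node 32 (.node 16 (.node 8 (.node 4 (.node 2 (.node 1 (.leaf 0x1ed) (.leaf 0x1ec)) (.node 1 (.leaf 0x1ef) (.leaf 0x1ee))) (.node 2 (.node 1 (.leaf 0x1e9) (.leaf 0x1e8)) (.node 1 (.leaf 0x1eb) (.leaf 0x1ea)))) (.node 4 (.node 2 (.node 1 (.leaf 0x1e5) (.leaf 0x1e4)) (.node 1 (.leaf 0x1e7) (.leaf 0x1e6))) (.node 2 (.node 1 (.leaf 0x1e1) (.leaf 0x1e0)) (.node 1 (.leaf 0x1e3) (.leaf 0x1e2))))) (.node 8 (.node 4 (.node 2 (.node 1 (.leaf 0x1d1) (.leaf 0x1d0)) (.node 1 (.leaf 0x1d3) (.leaf 0x1d2))) (.node 2 (.node 1 (.leaf 0x1d5) (.leaf 0x1d4)) (.node 1 (.leaf 0x1d7) (.leaf 0x1d6)))) (.node 4 (.node 2 (.node 1 (.leaf 0x1d9) (.leaf 0x1d8)) (.node 1 (.leaf 0x1db) (.leaf 0x1da))) (.node 2 (.node 1 (.leaf 0x1dd) (.leaf 0x1dc)) (.node 1 (.leaf 0x1df) (.leaf 0x1de)))))) (.node 16 (.node 8 (.node 4 (.node 2 (.node 1 (.leaf 0x1cd) (.leaf 0x1cc)) (.node 1 (.leaf 0x1cf) (.leaf 0x1ce))) (.node 2 (.node 1 (.leaf 0x1c9)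 (.leaf 0x1c8)) (.node 1 (.leaf 0x1cb) (.leaf 0x1ca)))) (.node 4 (.node 2 (.node 1 (.leaf 0x1c5) (.leaf 0x1c4)) (.node 1 (.leaf 0x1c7) (.leaf 0x1c6))) (.node 2 (.node 1 (.leaf 0x1c1) (.leaf 0x1c0)) (.node 1 (.leaf 0x1c3) (.leaf 0x1c2))))) (.node 8 (.node 4 (.node 2 (.node 1 (.leaf 0x1bd) (.leaf 0x1bc)) (.node 1 (.leaf 0x1bf) (.leaf 0x1be))) (.node 2 (.node 1 (.leaf 0x1b9) (.leaf 0x1b8)) (.node 1 (.leaf 0x1bb) (.leaf 0x1ba)))) (.node 4 (.node 2 (.node 1 (.leaf 0x1b5) (.leaf 0x1b4)) (.node 1 (.leaf 0x1b7) (.leaf 0x1b6))) (.node 2 (.node 1 (.leaf 0x1b1) (.leaf 0x1b0)) (.node 1 (.leaf 0x1b3) (.leaf 0x1b2)))))))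

def mulH_12 : Tree :=
  .node 64 (.node 32 (.node 16 (.node 8 (.node 4 (.node 2 (.node 1 (.leaf 0x21) (.leaf 0x20)) (.node 1 (.leaf 0x22) (.leaf 0x23))) (.node 2 (.node 1 (.leaf 0x24) (.leaf 0x25)) (.node 1 (.leaf 0x26) (.leaf 0x27)))) (.node 4 (.node 2 (.node 1 (.leaf 0x28) (.leaf 0x29)) (.node 1 (.leaf 0x2a) (.leaf 0x2b))) (.node 2 (.node 1 (.leaf 0x2c) (.leaf 0x2d)) (.node 1 (.leaf 0x2e) (.leaf 0x2f))))) (.node 8 (.node 4 (.node 2 (.node 1 (.leaf 0x40) (.leaf 0x41)) (.node 1 (.leaf 0x42) (.leaf 0x43))) (.node 2 (.node 1 (.leaf 0x44) (.leaf 0x45)) (.node 1 (.leaf 0x46) (.leaf 0x47)))) (.node 4 (.node 2 (.node 1 (.leaf 0x48) (.leaf 0x49)) (.node 1 (.leaf 0x4a) (.leaf 0x4b))) (.node 2 (.node 1 (.leaf 0x4c) (.leaf 0x4d)) (.node 1 (.leaf 0x4e) (.leaf 0x4f)))))) (.node 16 (.node 8 (.node 4 (.node 2 (.node 1 (.leaf 0x1) (.leaf 0x0)) (.node 1 (.leaf 0x2) (.leaf 0x3))) (.node 2 (.node 1 (.leaf 0x4) (.leaf 0x5)) (.node 1 (.leaf 0x6) (.leaf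 0x7)))) (.node 4 (.node 2 (.node 1 (.leaf 0x8) (.leaf 0x9)) (.node 1 (.leaf 0xa) (.leaf 0xb))) (.node 2 (.node 1 (.leaf 0xc) (.leaf 0xd)) (.node 1 (.leaf 0xe) (.leaf 0xf))))) (.node 8 (.node 4 (.node 2 (.node 1 (.leaf 0x60) (.leaf 0x61)) (.node 1 (.leaf 0x62) (.leaf 0x63))) (.node 2 (.node 1 (.leaf 0x64) (.leaf 0x65)) (.node 1 (.leaf 0x66) (.leaf 0x67)))) (.node 4 (.node 2 (.node 1 (.leaf 0x68) (.leaf 0x69)) (.node 1 (.leaf 0x6a) (.leaf 0x6b))) (.node 2 (.node 1 (.leaf 0x6c) (.leaf 0x6d)) (.node 1 (.leaf 0x6e) (.leaf 0x6f))))))) (.node 32 (.node 16 (.node 8 (.node 4 (.node 2 (.node 1 (.leaf 0x10) (.leaf 0x11)) (.node 1 (.leaf 0x12) (.leaf 0x13))) (.node 2 (.node 1 (.leaf 0x14) (.leaf 0x15)) (.node 1 (.leaf 0x16) (.leaf 0x17)))) (.node 4 (.node 2 (.node 1 (.leaf 0x18) (.leaf 0x19)) (.node 1 (.leaf 0x1a) (.leaf 0x1b))) (.node 2 (.node 1 (.leaf 0x1c) (.leaf 0x1d)) (.node 1 (.leaf 0x1e) (.leaf 0x1f))))) (.node 8 (.node 4 (.node 2 (.node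 1 (.leaf 0x70) (.leaf 0x71)) (.node 1 (.leaf 0x72) (.leaf 0x73))) (.node 2 (.node 1 (.leaf 0x74) (.leaf 0x75)) (.node 1 (.leaf 0x76) (.leaf 0x77)))) (.node 4 (.node 2 (.node 1 (.leaf 0x78) (.leaf 0x79)) (.node 1 (.leaf 0x7a) (.leaf 0x7b))) (.node 2 (.node 1 (.leaf 0x7c) (.leaf 0x7d)) (.node 1 (.leaf 0x7e) (.leaf 0x7f)))))) (.node 16 (.node 8 (.node 4 (.node 2 (.node 1 (.leaf 0x30) (.leaf 0x31)) (.node 1 (.leaf 0x32) (.leaf 0x33))) (.node 2 (.node 1 (.leaf 0x34) (.leaf 0x35)) (.node 1 (.leaf 0x36) (.leaf 0x37)))) (.node 4 (.node 2 (.node 1 (.leaf 0x38) (.leaf 0x39)) (.node 1 (.leaf 0x3a) (.leaf 0x3b))) (.node 2 (.node 1 (.leaf 0x3c) (.leaf 0x3d)) (.node 1 (.leaf 0x3e) (.leaf 0x3f))))) (.node 8 (.node 4 (.node 2 (.node 1 (.leaf 0x50) (.leaf 0x51)) (.node 1 (.leaf 0x52) (.leaf 0x53))) (.node 2 (.node 1 (.leaf 0x54) (.leaf 0x55)) (.node 1 (.leaf 0x56) (.leaf 0x57)))) (.node 4 (.node 2 (.node 1 (.leaf 0x58) (.leaf 0x59)) (.node 1 (.leaf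 0x5a) (.leaf 0x5b))) (.node 2 (.node 1 (.leaf 0x5c) (.leaf 0x5d)) (.node 1 (.leaf 0x5e) (.leaf 0x5f)))))))

def mulH_13 : Tree :=
  .node 64 (.node 32 (.node 16 (.node 8 (.node 4 (.node 2 (.node 1 (.leaf 0xb0) (.leaf 0xb1)) (.node 1 (.leaf 0xb2) (.leaf 0xb3))) (.node 2 (.node 1 (.leaf 0xb4) (.leaf 0xb5)) (.node 1 (.leaf 0xb6) (.leaf 0xb7)))) (.node 4 (.node 2 (.node 1 (.leaf 0xb8) (.leaf 0xb9)) (.node 1 (.leaf 0xba) (.leaf 0xbb))) (.node 2 (.node 1 (.leaf 0xbc) (.leaf 0xbd)) (.node 1 (.leaf 0xbe) (.leaf 0xbf))))) (.node 8 (.node 4 (.node 2 (.node 1 (.leaf 0xc0) (.leaf 0xc1)) (.node 1 (.leaf 0xc2) (.leaf 0xc3))) (.node 2 (.node 1 (.leaf 0xc4) (.leaf 0xc5)) (.node 1 (.leaf 0xc6) (.leaf 0xc7)))) (.node 4 (.node 2 (.node 1 (.leaf 0xc8) (.leaf 0xc9)) (.node 1 (.leaf 0xca) (.leaf 0xcb))) (.node 2 (.node 1 (.leaf 0xcc) (.leaf 0xcd)) (.node 1 (.leaf 0xce) (.leaf 0xcf)))))) (.node 16 (.node 8 (.node 4 (.node 2 (.node 1 (.leaf 0xd0) (.leaf 0xd1))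 (.node 1 (.leaf 0xd2) (.leaf 0xd3))) (.node 2 (.node 1 (.leaf 0xd4) (.leaf 0xd5)) (.node 1 (.leaf 0xd6) (.leaf 0xd7)))) (.node 4 (.node 2 (.node 1 (.leaf 0xd8) (.leaf 0xd9)) (.node 1 (.leaf 0xda) (.leaf 0xdb))) (.node 2 (.node 1 (.leaf 0xdc) (.leaf 0xdd)) (.node 1 (.leaf 0xde) (.leaf 0xdf))))) (.node 8 (.node 4 (.node 2 (.node 1 (.leaf 0x80) (.leaf 0x81)) (.node 1 (.leaf 0x82) (.leaf 0x83))) (.node 2 (.node 1 (.leaf 0x84) (.leaf 0x85)) (.node 1 (.leaf 0x86) (.leaf 0x87)))) (.node 4 (.node 2 (.node 1 (.leaf 0x88) (.leaf 0x89)) (.node 1 (.leaf 0x8a) (.leaf 0x8b))) (.node 2 (.node 1 (.leaf 0x8c) (.leaf 0x8d)) (.node 1 (.leaf 0x8e) (.leaf 0x8f))))))) (.node 32 (.node 16 (.node 8 (.node 4 (.node 2 (.node 1 (.leaf 0x90) (.leaf 0x91)) (.node 1 (.leaf 0x92) (.leaf 0x93))) (.node 2 (.node 1 (.leaf 0x94) (.leaf 0x95)) (.node 1 (.leaf 0x96) (.leaf 0x97)))) (.node 4 (.node 2 (.node 1 (.leaf 0x98) (.leaf 0x99)) (.node 1 (.leaf 0x9a) (.leaf 0x9b)))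 (.node 2 (.node 1 (.leaf 0x9c) (.leaf 0x9d)) (.node 1 (.leaf 0x9e) (.leaf 0x9f))))) (.node 8 (.node 4 (.node 2 (.node 1 (.leaf 0xa0) (.leaf 0xa1)) (.node 1 (.leaf 0xa2) (.leaf 0xa3))) (.node 2 (.node 1 (.leaf 0xa4) (.leaf 0xa5)) (.node 1 (.leaf 0xa6) (.leaf 0xa7)))) (.node 4 (.node 2 (.node 1 (.leaf 0xa8) (.leaf 0xa9)) (.node 1 (.leaf 0xaa) (.leaf 0xab))) (.node 2 (.node 1 (.leaf 0xac) (.leaf 0xad)) (.node 1 (.leaf 0xae) (.leaf 0xaf)))))) (.node 16 (.node 8 (.node 4 (.node 2 (.node 1 (.leaf 0x130) (.leaf 0x131)) (.node 1 (.leaf 0x132) (.leaf 0x133))) (.node 2 (.node 1 (.leaf 0x134) (.leaf 0x135)) (.node 1 (.leaf 0x136) (.leaf 0x137)))) (.node 4 (.node 2 (.node 1 (.leaf 0x138) (.leaf 0x139)) (.node 1 (.leaf 0x13a) (.leaf 0x13b))) (.node 2 (.node 1 (.leaf 0x13c) (.leaf 0x13d)) (.node 1 (.leaf 0x13e) (.leaf 0x13f))))) (.node 8 (.node 4 (.node 2 (.node 1 (.leaf 0x140) (.leaf 0x141)) (.node 1 (.leaf 0x142) (.leaf 0x143))) (.node 2 (.node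 1 (.leaf 0x144) (.leaf 0x145)) (.node 1 (.leaf 0x146) (.leaf 0x147)))) (.node 4 (.node 2 (.node 1 (.leaf 0x148) (.leaf 0x149)) (.node 1 (.leaf 0x14a) (.leaf 0x14b))) (.node 2 (.node 1 (.leaf 0x14c) (.leaf 0x14d)) (.node 1 (.leaf 0x14e) (.leaf 0x14f)))))))

def mulH_14 : Tree :=
  .node 64 (.node 32 (.node 16 (.node 8 (.node 4 (.node 2 (.node 1 (.leaf 0x150) (.leaf 0x151)) (.node 1 (.leaf 0x152) (.leaf 0x153))) (.node 2 (.node 1 (.leaf 0x154) (.leaf 0x155)) (.node 1 (.leaf 0x156) (.leaf 0x157)))) (.node 4 (.node 2 (.node 1 (.leaf 0x158) (.leaf 0x159)) (.node 1 (.leaf 0x15a) (.leaf 0x15b))) (.node 2 (.node 1 (.leaf 0x15c) (.leaf 0x15d)) (.node 1 (.leaf 0x15e) (.leaf 0x15f))))) (.node 8 (.node 4 (.node 2 (.node 1 (.leaf 0x160) (.leaf 0x161)) (.node 1 (.leaf 0x162) (.leaf 0x163))) (.node 2 (.node 1 (.leaf 0x164) (.leaf 0x165)) (.node 1 (.leaf 0x166) (.leaf 0x167)))) (.node 4 (.node 2 (.node 1 (.leaf 0x168) (.leaf 0x169)) (.node 1 (.leaf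 0x16a) (.leaf 0x16b))) (.node 2 (.node 1 (.leaf 0x16c) (.leaf 0x16d)) (.node 1 (.leaf 0x16e) (.leaf 0x16f)))))) (.node 16 (.node 8 (.node 4 (.node 2 (.node 1 (.leaf 0x170) (.leaf 0x171)) (.node 1 (.leaf 0x172) (.leaf 0x173))) (.node 2 (.node 1 (.leaf 0x174) (.leaf 0x175)) (.node 1 (.leaf 0x176) (.leaf 0x177)))) (.node 4 (.node 2 (.node 1 (.leaf 0x178) (.leaf 0x179)) (.node 1 (.leaf 0x17a) (.leaf 0x17b))) (.node 2 (.node 1 (.leaf 0x17c) (.leaf 0x17d)) (.node 1 (.leaf 0x17e) (.leaf 0x17f))))) (.node 8 (.node 4 (.node 2 (.node 1 (.leaf 0xe0) (.leaf 0xe1)) (.node 1 (.leaf 0xe2) (.leaf 0xe3))) (.node 2 (.node 1 (.leaf 0xe4) (.leaf 0xe5)) (.node 1 (.leaf 0xe6) (.leaf 0xe7)))) (.node 4 (.node 2 (.node 1 (.leaf 0xe8) (.leaf 0xe9)) (.node 1 (.leaf 0xea) (.leaf 0xeb))) (.node 2 (.node 1 (.leaf 0xec) (.leaf 0xed)) (.node 1 (.leaf 0xee) (.leaf 0xef))))))) (.node 32 (.node 16 (.node 8 (.node 4 (.node 2 (.node 1 (.leaf 0xf0) (.leaf 0xf1)) (.node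 1 (.leaf 0xf2) (.leaf 0xf3))) (.node 2 (.node 1 (.leaf 0xf4) (.leaf 0xf5)) (.node 1 (.leaf 0xf6) (.leaf 0xf7)))) (.node 4 (.node 2 (.node 1 (.leaf 0xf8) (.leaf 0xf9)) (.node 1 (.leaf 0xfa) (.leaf 0xfb))) (.node 2 (.node 1 (.leaf 0xfc) (.leaf 0xfd)) (.node 1 (.leaf 0xfe) (.leaf 0xff))))) (.node 8 (.node 4 (.node 2 (.node 1 (.leaf 0x100) (.leaf 0x101)) (.node 1 (.leaf 0x102) (.leaf 0x103))) (.node 2 (.node 1 (.leaf 0x104) (.leaf 0x105)) (.node 1 (.leaf 0x106) (.leaf 0x107)))) (.node 4 (.node 2 (.node 1 (.leaf 0x108) (.leaf 0x109)) (.node 1 (.leaf 0x10a) (.leaf 0x10b))) (.node 2 (.node 1 (.leaf 0x10c) (.leaf 0x10d)) (.node 1 (.leaf 0x10e) (.leaf 0x10f)))))) (.node 16 (.node 8 (.node 4 (.node 2 (.node 1 (.leaf 0x110) (.leaf 0x111)) (.node 1 (.leaf 0x112) (.leaf 0x113))) (.node 2 (.node 1 (.leaf 0x114) (.leaf 0x115)) (.node 1 (.leaf 0x116) (.leaf 0x117)))) (.node 4 (.node 2 (.node 1 (.leaf 0x118) (.leaf 0x119)) (.node 1 (.leaf 0x11a) (.leaf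 0x11b))) (.node 2 (.node 1 (.leaf 0x11c) (.leaf 0x11d)) (.node 1 (.leaf 0x11e) (.leaf 0x11f))))) (.node 8 (.node 4 (.node 2 (.node 1 (.leaf 0x120) (.leaf 0x121)) (.node 1 (.leaf 0x122) (.leaf 0x123))) (.node 2 (.node 1 (.leaf 0x124) (.leaf 0x125)) (.node 1 (.leaf 0x126) (.leaf 0x127)))) (.node 4 (.node 2 (.node 1 (.leaf 0x128) (.leaf 0x129)) (.node 1 (.leaf 0x12a) (.leaf 0x12b))) (.node 2 (.node 1 (.leaf 0x12c) (.leaf 0x12d)) (.node 1 (.leaf 0x12e) (.leaf 0x12f)))))))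

def mulH_15 : Tree :=
  .node 64 (.node 32 (.node 16 (.node 8 (.node 4 (.node 2 (.node 1 (.leaf 0x190) (.leaf 0x191)) (.node 1 (.leaf 0x192) (.leaf 0x193))) (.node 2 (.node 1 (.leaf 0x194) (.leaf 0x195)) (.node 1 (.leaf 0x196) (.leaf 0x197)))) (.node 4 (.node 2 (.node 1 (.leaf 0x198) (.leaf 0x199)) (.node 1 (.leaf 0x19a) (.leaf 0x19b))) (.node 2 (.node 1 (.leaf 0x19c) (.leaf 0x19d)) (.node 1 (.leaf 0x19e) (.leaf 0x19f))))) (.node 8 (.node 4 (.node 2 (.node 1 (.leaf 0x180) (.leaf 0x181)) (.node 1 (.leaf 0x182) (.leaf 0x183))) (.node 2 (.node 1 (.leaf 0x184) (.leaf 0x185)) (.node 1 (.leaf 0x186) (.leaf 0x187)))) (.node 4 (.node 2 (.node 1 (.leaf 0x188) (.leaf 0x189)) (.node 1 (.leaf 0x18a) (.leaf 0x18b))) (.node 2 (.node 1 (.leaf 0x18c) (.leaf 0x18d)) (.node 1 (.leaf 0x18e) (.leaf 0x18f)))))) (.node 16 (.node 8 (.node 4 (.node 2 (.node 1 (.leaf 0x1d0) (.leaf 0x1d1)) (.node 1 (.leaf 0x1d2) (.leaf 0x1d3))) (.node 2 (.node 1 (.leaf 0x1d4)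 (.leaf 0x1d5)) (.node 1 (.leaf 0x1d6) (.leaf 0x1d7)))) (.node 4 (.node 2 (.node 1 (.leaf 0x1d8) (.leaf 0x1d9)) (.node 1 (.leaf 0x1da) (.leaf 0x1db))) (.node 2 (.node 1 (.leaf 0x1dc) (.leaf 0x1dd)) (.node 1 (.leaf 0x1de) (.leaf 0x1df))))) (.node 8 (.node 4 (.node 2 (.node 1 (.leaf 0x1f0) (.leaf 0x1f1)) (.node 1 (.leaf 0x1f2) (.leaf 0x1f3))) (.node 2 (.node 1 (.leaf 0x1f4) (.leaf 0x1f5)) (.node 1 (.leaf 0x1f6) (.leaf 0x1f7)))) (.node 4 (.node 2 (.node 1 (.leaf 0x1f8) (.leaf 0x1f9)) (.node 1 (.leaf 0x1fa) (.leaf 0x1fb))) (.node 2 (.node 1 (.leaf 0x1fc) (.leaf 0x1fd)) (.node 1 (.leaf 0x1fe) (.leaf 0x1ff))))))) (.node 32 (.node 16 (.node 8 (.node 4 (.node 2 (.node 1 (.leaf 0x1e0) (.leaf 0x1e1)) (.node 1 (.leaf 0x1e2) (.leaf 0x1e3))) (.node 2 (.node 1 (.leaf 0x1e4) (.leaf 0x1e5)) (.node 1 (.leaf 0x1e6) (.leaf 0x1e7)))) (.node 4 (.node 2 (.node 1 (.leaf 0x1e8) (.leaf 0x1e9)) (.node 1 (.leaf 0x1ea) (.leaf 0x1eb))) (.node 2 (.node 1 (.leaf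 0x1ec) (.leaf 0x1ed)) (.node 1 (.leaf 0x1ee) (.leaf 0x1ef))))) (.node 8 (.node 4 (.node 2 (.node 1 (.leaf 0x1a0) (.leaf 0x1a1)) (.node 1 (.leaf 0x1a2) (.leaf 0x1a3))) (.node 2 (.node 1 (.leaf 0x1a4) (.leaf 0x1a5)) (.node 1 (.leaf 0x1a6) (.leaf 0x1a7)))) (.node 4 (.node 2 (.node 1 (.leaf 0x1a8) (.leaf 0x1a9)) (.node 1 (.leaf 0x1aa) (.leaf 0x1ab))) (.node 2 (.node 1 (.leaf 0x1ac) (.leaf 0x1ad)) (.node 1 (.leaf 0x1ae) (.leaf 0x1af)))))) (.node 16 (.node 8 (.node 4 (.node 2 (.node 1 (.leaf 0x1c0) (.leaf 0x1c1)) (.node 1 (.leaf 0x1c2) (.leaf 0x1c3))) (.node 2 (.node 1 (.leaf 0x1c4) (.leaf 0x1c5)) (.node 1 (.leaf 0x1c6) (.leaf 0x1c7)))) (.node 4 (.node 2 (.node 1 (.leaf 0x1c8) (.leaf 0x1c9)) (.node 1 (.leaf 0x1ca) (.leaf 0x1cb))) (.node 2 (.node 1 (.leaf 0x1cc) (.leaf 0x1cd)) (.node 1 (.leaf 0x1ce) (.leaf 0x1cf))))) (.node 8 (.node 4 (.node 2 (.node 1 (.leaf 0x1b0) (.leaf 0x1b1)) (.node 1 (.leaf 0x1b2) (.leaf 0x1b3))) (.node 2 (.node 1 (.leaf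 0x1b4) (.leaf 0x1b5)) (.node 1 (.leaf 0x1b6) (.leaf 0x1b7)))) (.node 4 (.node 2 (.node 1 (.leaf 0x1b8) (.leaf 0x1b9)) (.node 1 (.leaf 0x1ba) (.leaf 0x1bb))) (.node 2 (.node 1 (.leaf 0x1bc) (.leaf 0x1bd)) (.node 1 (.leaf 0x1be) (.leaf 0x1bf)))))))

def mulH_16 : Tree :=
  .node 64 (.node 32 (.node 16 (.node 8 (.node 4 (.node 2 (.node 1 (.leaf 0x9) (.leaf 0x8)) (.node 1 (.leaf 0xb) (.leaf 0xa))) (.node 2 (.node 1 (.leaf 0xc) (.leaf 0xd)) (.node 1 (.leaf 0xf) (.leaf 0xe)))) (.node 4 (.node 2 (.node 1 (.leaf 0x1) (.leaf 0x0)) (.node 1 (.leaf 0x3) (.leaf 0x2))) (.node 2 (.node 1 (.leaf 0x4) (.leaf 0x5)) (.node 1 (.leaf 0x7) (.leaf 0x6))))) (.node 8 (.node 4 (.node 2 (.node 1 (.leaf 0x14) (.leaf 0x15)) (.node 1 (.leaf 0x17) (.leaf 0x16))) (.node 2 (.node 1 (.leaf 0x10) (.leaf 0x11)) (.node 1 (.leaf 0x13) (.leaf 0x12)))) (.node 4 (.node 2 (.node 1 (.leaf 0x1c) (.leaf 0x1d)) (.node 1 (.leaf 0x1f) (.leaf 0x1e))) (.node 2 (.node 1 (.leaf 0x18)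 (.leaf 0x19)) (.node 1 (.leaf 0x1b) (.leaf 0x1a)))))) (.node 16 (.node 8 (.node 4 (.node 2 (.node 1 (.leaf 0x28) (.leaf 0x29)) (.node 1 (.leaf 0x2b) (.leaf 0x2a))) (.node 2 (.node 1 (.leaf 0x2c) (.leaf 0x2d)) (.node 1 (.leaf 0x2f) (.leaf 0x2e)))) (.node 4 (.node 2 (.node 1 (.leaf 0x20) (.leaf 0x21)) (.node 1 (.leaf 0x23) (.leaf 0x22))) (.node 2 (.node 1 (.leaf 0x24) (.leaf 0x25)) (.node 1 (.leaf 0x27) (.leaf 0x26))))) (.node 8 (.node 4 (.node 2 (.node 1 (.leaf 0x38) (.leaf 0x39)) (.node 1 (.leaf 0x3b) (.leaf 0x3a))) (.node 2 (.node 1 (.leaf 0x3c) (.leaf 0x3d)) (.node 1 (.leaf 0x3f) (.leaf 0x3e)))) (.node 4 (.node 2 (.node 1 (.leaf 0x30) (.leaf 0x31)) (.node 1 (.leaf 0x33) (.leaf 0x32))) (.node 2 (.node 1 (.leaf 0x34) (.leaf 0x35)) (.node 1 (.leaf 0x37) (.leaf 0x36))))))) (.node 32 (.node 16 (.node 8 (.node 4 (.node 2 (.node 1 (.leaf 0x44) (.leaf 0x45)) (.node 1 (.leaf 0x47) (.leaf 0x46))) (.node 2 (.node 1 (.leaf 0x40) (.leaf 0x41))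 (.node 1 (.leaf 0x43) (.leaf 0x42)))) (.node 4 (.node 2 (.node 1 (.leaf 0x4c) (.leaf 0x4d)) (.node 1 (.leaf 0x4f) (.leaf 0x4e))) (.node 2 (.node 1 (.leaf 0x48) (.leaf 0x49)) (.node 1 (.leaf 0x4b) (.leaf 0x4a))))) (.node 8 (.node 4 (.node 2 (.node 1 (.leaf 0x54) (.leaf 0x55)) (.node 1 (.leaf 0x57) (.leaf 0x56))) (.node 2 (.node 1 (.leaf 0x50) (.leaf 0x51)) (.node 1 (.leaf 0x53) (.leaf 0x52)))) (.node 4 (.node 2 (.node 1 (.leaf 0x5c) (.leaf 0x5d)) (.node 1 (.leaf 0x5f) (.leaf 0x5e))) (.node 2 (.node 1 (.leaf 0x58) (.leaf 0x59)) (.node 1 (.leaf 0x5b) (.leaf 0x5a)))))) (.node 16 (.node 8 (.node 4 (.node 2 (.node 1 (.leaf 0x68) (.leaf 0x69)) (.node 1 (.leaf 0x6b) (.leaf 0x6a))) (.node 2 (.node 1 (.leaf 0x6c) (.leaf 0x6d)) (.node 1 (.leaf 0x6f) (.leaf 0x6e)))) (.node 4 (.node 2 (.node 1 (.leaf 0x60) (.leaf 0x61)) (.node 1 (.leaf 0x63) (.leaf 0x62))) (.node 2 (.node 1 (.leaf 0x64) (.leaf 0x65)) (.node 1 (.leaf 0x67) (.leaf 0x66))))) (.node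 8 (.node 4 (.node 2 (.node 1 (.leaf 0x74) (.leaf 0x75)) (.node 1 (.leaf 0x77) (.leaf 0x76))) (.node 2 (.node 1 (.leaf 0x70) (.leaf 0x71)) (.node 1 (.leaf 0x73) (.leaf 0x72)))) (.node 4 (.node 2 (.node 1 (.leaf 0x7c) (.leaf 0x7d)) (.node 1 (.leaf 0x7f) (.leaf 0x7e))) (.node 2 (.node 1 (.leaf 0x78) (.leaf 0x79)) (.node 1 (.leaf 0x7b) (.leaf 0x7a)))))))

def mulH_17 : Tree :=
  .node 64 (.node 32 (.node 16 (.node 8 (.node 4 (.node 2 (.node 1 (.leaf 0xf8) (.leaf 0xf9)) (.node 1 (.leaf 0xfb) (.leaf 0xfa))) (.node 2 (.node 1 (.leaf 0xfc) (.leaf 0xfd)) (.node 1 (.leaf 0xff) (.leaf 0xfe)))) (.node 4 (.node 2 (.node 1 (.leaf 0xf0) (.leaf 0xf1)) (.node 1 (.leaf 0xf3) (.leaf 0xf2))) (.node 2 (.node 1 (.leaf 0xf4) (.leaf 0xf5)) (.node 1 (.leaf 0xf7) (.leaf 0xf6))))) (.node 8 (.node 4 (.node 2 (.node 1 (.leaf 0x158) (.leaf 0x159)) (.node 1 (.leaf 0x15b) (.leaf 0x15a))) (.node 2 (.node 1 (.leaf 0x15c) (.leaf 0x15d)) (.node 1 (.leaf 0x15f) (.leaf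 0x15e)))) (.node 4 (.node 2 (.node 1 (.leaf 0x150) (.leaf 0x151)) (.node 1 (.leaf 0x153) (.leaf 0x152))) (.node 2 (.node 1 (.leaf 0x154) (.leaf 0x155)) (.node 1 (.leaf 0x157) (.leaf 0x156)))))) (.node 16 (.node 8 (.node 4 (.node 2 (.node 1 (.leaf 0x164) (.leaf 0x165)) (.node 1 (.leaf 0x167) (.leaf 0x166))) (.node 2 (.node 1 (.leaf 0x160) (.leaf 0x161)) (.node 1 (.leaf 0x163) (.leaf 0x162)))) (.node 4 (.node 2 (.node 1 (.leaf 0x16c) (.leaf 0x16d)) (.node 1 (.leaf 0x16f) (.leaf 0x16e))) (.node 2 (.node 1 (.leaf 0x168) (.leaf 0x169)) (.node 1 (.leaf 0x16b) (.leaf 0x16a))))) (.node 8 (.node 4 (.node 2 (.node 1 (.leaf 0x148) (.leaf 0x149)) (.node 1 (.leaf 0x14b) (.leaf 0x14a))) (.node 2 (.node 1 (.leaf 0x14c) (.leaf 0x14d)) (.node 1 (.leaf 0x14f) (.leaf 0x14e)))) (.node 4 (.node 2 (.node 1 (.leaf 0x140) (.leaf 0x141)) (.node 1 (.leaf 0x143) (.leaf 0x142))) (.node 2 (.node 1 (.leaf 0x144) (.leaf 0x145)) (.node 1 (.leaf 0x147) (.leaf 0x146)))))))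 (.node 32 (.node 16 (.node 8 (.node 4 (.node 2 (.node 1 (.leaf 0x108) (.leaf 0x109)) (.node 1 (.leaf 0x10b) (.leaf 0x10a))) (.node 2 (.node 1 (.leaf 0x10c) (.leaf 0x10d)) (.node 1 (.leaf 0x10f) (.leaf 0x10e)))) (.node 4 (.node 2 (.node 1 (.leaf 0x100) (.leaf 0x101)) (.node 1 (.leaf 0x103) (.leaf 0x102))) (.node 2 (.node 1 (.leaf 0x104) (.leaf 0x105)) (.node 1 (.leaf 0x107) (.leaf 0x106))))) (.node 8 (.node 4 (.node 2 (.node 1 (.leaf 0x114) (.leaf 0x115)) (.node 1 (.leaf 0x117) (.leaf 0x116))) (.node 2 (.node 1 (.leaf 0x110) (.leaf 0x111)) (.node 1 (.leaf 0x113) (.leaf 0x112)))) (.node 4 (.node 2 (.node 1 (.leaf 0x11c) (.leaf 0x11d)) (.node 1 (.leaf 0x11f) (.leaf 0x11e))) (.node 2 (.node 1 (.leaf 0x118) (.leaf 0x119)) (.node 1 (.leaf 0x11b) (.leaf 0x11a)))))) (.node 16 (.node 8 (.node 4 (.node 2 (.node 1 (.leaf 0x124) (.leaf 0x125)) (.node 1 (.leaf 0x127) (.leaf 0x126))) (.node 2 (.node 1 (.leaf 0x120) (.leaf 0x121)) (.node 1 (.leaf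 0x123) (.leaf 0x122)))) (.node 4 (.node 2 (.node 1 (.leaf 0x12c) (.leaf 0x12d)) (.node 1 (.leaf 0x12f) (.leaf 0x12e))) (.node 2 (.node 1 (.leaf 0x128) (.leaf 0x129)) (.node 1 (.leaf 0x12b) (.leaf 0x12a))))) (.node 8 (.node 4 (.node 2 (.node 1 (.leaf 0x88) (.leaf 0x89)) (.node 1 (.leaf 0x8b) (.leaf 0x8a))) (.node 2 (.node 1 (.leaf 0x8c) (.leaf 0x8d)) (.node 1 (.leaf 0x8f) (.leaf 0x8e)))) (.node 4 (.node 2 (.node 1 (.leaf 0x80) (.leaf 0x81)) (.node 1 (.leaf 0x83) (.leaf 0x82))) (.node 2 (.node 1 (.leaf 0x84) (.leaf 0x85)) (.node 1 (.leaf 0x87) (.leaf 0x86)))))))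

def mulH_18 : Tree :=
  .node 64 (.node 32 (.node 16 (.node 8 (.node 4 (.node 2 (.node 1 (.leaf 0xc8) (.leaf 0xc9)) (.node 1 (.leaf 0xcb) (.leaf 0xca))) (.node 2 (.node 1 (.leaf 0xcc) (.leaf 0xcd)) (.node 1 (.leaf 0xcf) (.leaf 0xce)))) (.node 4 (.node 2 (.node 1 (.leaf 0xc0) (.leaf 0xc1)) (.node 1 (.leaf 0xc3) (.leaf 0xc2))) (.node 2 (.node 1 (.leaf 0xc4) (.leaf 0xc5)) (.node 1 (.leaf 0xc7) (.leaf 0xc6))))) (.node 8 (.node 4 (.node 2 (.node 1 (.leaf 0xd4) (.leaf 0xd5)) (.node 1 (.leaf 0xd7) (.leaf 0xd6))) (.node 2 (.node 1 (.leaf 0xd0) (.leaf 0xd1)) (.node 1 (.leaf 0xd3) (.leaf 0xd2)))) (.node 4 (.node 2 (.node 1 (.leaf 0xdc) (.leaf 0xdd)) (.node 1 (.leaf 0xdf) (.leaf 0xde))) (.node 2 (.node 1 (.leaf 0xd8) (.leaf 0xd9)) (.node 1 (.leaf 0xdb) (.leaf 0xda)))))) (.node 16 (.node 8 (.node 4 (.node 2 (.node 1 (.leaf 0xe4) (.leaf 0xe5)) (.node 1 (.leaf 0xe7) (.leaf 0xe6))) (.node 2 (.node 1 (.leaf 0xe0) (.leaf 0xe1)) (.node 1 (.leaf 0xe3)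 (.leaf 0xe2)))) (.node 4 (.node 2 (.node 1 (.leaf 0xec) (.leaf 0xed)) (.node 1 (.leaf 0xef) (.leaf 0xee))) (.node 2 (.node 1 (.leaf 0xe8) (.leaf 0xe9)) (.node 1 (.leaf 0xeb) (.leaf 0xea))))) (.node 8 (.node 4 (.node 2 (.node 1 (.leaf 0x174) (.leaf 0x175)) (.node 1 (.leaf 0x177) (.leaf 0x176))) (.node 2 (.node 1 (.leaf 0x170) (.leaf 0x171)) (.node 1 (.leaf 0x173) (.leaf 0x172)))) (.node 4 (.node 2 (.node 1 (.leaf 0x17c) (.leaf 0x17d)) (.node 1 (.leaf 0x17f) (.leaf 0x17e))) (.node 2 (.node 1 (.leaf 0x178) (.leaf 0x179)) (.node 1 (.leaf 0x17b) (.leaf 0x17a))))))) (.node 32 (.node 16 (.node 8 (.node 4 (.node 2 (.node 1 (.leaf 0xb8) (.leaf 0xb9)) (.node 1 (.leaf 0xbb) (.leaf 0xba))) (.node 2 (.node 1 (.leaf 0xbc) (.leaf 0xbd)) (.node 1 (.leaf 0xbf) (.leaf 0xbe)))) (.node 4 (.node 2 (.node 1 (.leaf 0xb0) (.leaf 0xb1)) (.node 1 (.leaf 0xb3) (.leaf 0xb2))) (.node 2 (.node 1 (.leaf 0xb4) (.leaf 0xb5)) (.node 1 (.leaf 0xb7) (.leaf 0xb6)))))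 (.node 8 (.node 4 (.node 2 (.node 1 (.leaf 0x98) (.leaf 0x99)) (.node 1 (.leaf 0x9b) (.leaf 0x9a))) (.node 2 (.node 1 (.leaf 0x9c) (.leaf 0x9d)) (.node 1 (.leaf 0x9f) (.leaf 0x9e)))) (.node 4 (.node 2 (.node 1 (.leaf 0x90) (.leaf 0x91)) (.node 1 (.leaf 0x93) (.leaf 0x92))) (.node 2 (.node 1 (.leaf 0x94) (.leaf 0x95)) (.node 1 (.leaf 0x97) (.leaf 0x96)))))) (.node 16 (.node 8 (.node 4 (.node 2 (.node 1 (.leaf 0xa4) (.leaf 0xa5)) (.node 1 (.leaf 0xa7) (.leaf 0xa6))) (.node 2 (.node 1 (.leaf 0xa0) (.leaf 0xa1)) (.node 1 (.leaf 0xa3) (.leaf 0xa2)))) (.node 4 (.node 2 (.node 1 (.leaf 0xac) (.leaf 0xad)) (.node 1 (.leaf 0xaf) (.leaf 0xae))) (.node 2 (.node 1 (.leaf 0xa8) (.leaf 0xa9)) (.node 1 (.leaf 0xab) (.leaf 0xaa))))) (.node 8 (.node 4 (.node 2 (.node 1 (.leaf 0x134) (.leaf 0x135)) (.node 1 (.leaf 0x137) (.leaf 0x136))) (.node 2 (.node 1 (.leaf 0x130) (.leaf 0x131)) (.node 1 (.leaf 0x133) (.leaf 0x132)))) (.node 4 (.node 2 (.node 1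 (.leaf 0x13c) (.leaf 0x13d)) (.node 1 (.leaf 0x13f) (.leaf 0x13e))) (.node 2 (.node 1 (.leaf 0x138) (.leaf 0x139)) (.node 1 (.leaf 0x13b) (.leaf 0x13a)))))))

def mulH_19 : Tree :=
  .node 64 (.node 32 (.node 16 (.node 8 (.node 4 (.node 2 (.node 1 (.leaf 0x198) (.leaf 0x199)) (.node 1 (.leaf 0x19b) (.leaf 0x19a))) (.node 2 (.node 1 (.leaf 0x19c) (.leaf 0x19d)) (.node 1 (.leaf 0x19f) (.leaf 0x19e)))) (.node 4 (.node 2 (.node 1 (.leaf 0x190) (.leaf 0x191)) (.node 1 (.leaf 0x193) (.leaf 0x192))) (.node 2 (.node 1 (.leaf 0x194) (.leaf 0x195)) (.node 1 (.leaf 0x197) (.leaf 0x196))))) (.node 8 (.node 4 (.node 2 (.node 1 (.leaf 0x188) (.leaf 0x189)) (.node 1 (.leaf 0x18b) (.leaf 0x18a))) (.node 2 (.node 1 (.leaf 0x18c) (.leaf 0x18d)) (.node 1 (.leaf 0x18f) (.leaf 0x18e)))) (.node 4 (.node 2 (.node 1 (.leaf 0x180) (.leaf 0x181)) (.node 1 (.leaf 0x183) (.leaf 0x182))) (.node 2 (.node 1 (.leaf 0x184) (.leaf 0x185)) (.node 1 (.leaf 0x187) (.leaf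 0x186)))))) (.node 16 (.node 8 (.node 4 (.node 2 (.node 1 (.leaf 0x1d4) (.leaf 0x1d5)) (.node 1 (.leaf 0x1d7) (.leaf 0x1d6))) (.node 2 (.node 1 (.leaf 0x1d0) (.leaf 0x1d1)) (.node 1 (.leaf 0x1d3) (.leaf 0x1d2)))) (.node 4 (.node 2 (.node 1 (.leaf 0x1dc) (.leaf 0x1dd)) (.node 1 (.leaf 0x1df) (.leaf 0x1de))) (.node 2 (.node 1 (.leaf 0x1d8) (.leaf 0x1d9)) (.node 1 (.leaf 0x1db) (.leaf 0x1da))))) (.node 8 (.node 4 (.node 2 (.node 1 (.leaf 0x1f4) (.leaf 0x1f5)) (.node 1 (.leaf 0x1f7) (.leaf 0x1f6))) (.node 2 (.node 1 (.leaf 0x1f0) (.leaf 0x1f1)) (.node 1 (.leaf 0x1f3) (.leaf 0x1f2)))) (.node 4 (.node 2 (.node 1 (.leaf 0x1fc) (.leaf 0x1fd)) (.node 1 (.leaf 0x1ff) (.leaf 0x1fe))) (.node 2 (.node 1 (.leaf 0x1f8) (.leaf 0x1f9)) (.node 1 (.leaf 0x1fb) (.leaf 0x1fa))))))) (.node 32 (.node 16 (.node 8 (.node 4 (.node 2 (.node 1 (.leaf 0x1e8) (.leaf 0x1e9)) (.node 1 (.leaf 0x1eb) (.leaf 0x1ea))) (.node 2 (.node 1 (.leaf 0x1ec) (.leaf 0x1ed)) (.node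 1 (.leaf 0x1ef) (.leaf 0x1ee)))) (.node 4 (.node 2 (.node 1 (.leaf 0x1e0) (.leaf 0x1e1)) (.node 1 (.leaf 0x1e3) (.leaf 0x1e2))) (.node 2 (.node 1 (.leaf 0x1e4) (.leaf 0x1e5)) (.node 1 (.leaf 0x1e7) (.leaf 0x1e6))))) (.node 8 (.node 4 (.node 2 (.node 1 (.leaf 0x1a4) (.leaf 0x1a5)) (.node 1 (.leaf 0x1a7) (.leaf 0x1a6))) (.node 2 (.node 1 (.leaf 0x1a0) (.leaf 0x1a1)) (.node 1 (.leaf 0x1a3) (.leaf 0x1a2)))) (.node 4 (.node 2 (.node 1 (.leaf 0x1ac) (.leaf 0x1ad)) (.node 1 (.leaf 0x1af) (.leaf 0x1ae))) (.node 2 (.node 1 (.leaf 0x1a8) (.leaf 0x1a9)) (.node 1 (.leaf 0x1ab) (.leaf 0x1aa)))))) (.node 16 (.node 8 (.node 4 (.node 2 (.node 1 (.leaf 0x1c8) (.leaf 0x1c9)) (.node 1 (.leaf 0x1cb) (.leaf 0x1ca))) (.node 2 (.node 1 (.leaf 0x1cc) (.leaf 0x1cd)) (.node 1 (.leaf 0x1cf) (.leaf 0x1ce)))) (.node 4 (.node 2 (.node 1 (.leaf 0x1c0) (.leaf 0x1c1)) (.node 1 (.leaf 0x1c3) (.leaf 0x1c2))) (.node 2 (.node 1 (.leaf 0x1c4) (.leaf 0x1c5)) (.node 1 (.leaf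 0x1c7) (.leaf 0x1c6))))) (.node 8 (.node 4 (.node 2 (.node 1 (.leaf 0x1b4) (.leaf 0x1b5)) (.node 1 (.leaf 0x1b7) (.leaf 0x1b6))) (.node 2 (.node 1 (.leaf 0x1b0) (.leaf 0x1b1)) (.node 1 (.leaf 0x1b3) (.leaf 0x1b2)))) (.node 4 (.node 2 (.node 1 (.leaf 0x1bc) (.leaf 0x1bd)) (.node 1 (.leaf 0x1bf) (.leaf 0x1be))) (.node 2 (.node 1 (.leaf 0x1b8) (.leaf 0x1b9)) (.node 1 (.leaf 0x1bb) (.leaf 0x1ba)))))))

def mulH_20 : Tree :=
  .node 64 (.node 32 (.node 16 (.node 8 (.node 4 (.node 2 (.node 1 (.leaf 0x10d) (.leaf 0x10c)) (.node 1 (.leaf 0x10e) (.leaf 0x10f))) (.node 2 (.node 1 (.leaf 0x108) (.leaf 0x109)) (.node 1 (.leaf 0x10a) (.leaf 0x10b)))) (.node 4 (.node 2 (.node 1 (.leaf 0x104) (.leaf 0x105)) (.node 1 (.leaf 0x106) (.leaf 0x107))) (.node 2 (.node 1 (.leaf 0x100) (.leaf 0x101)) (.node 1 (.leaf 0x102) (.leaf 0x103))))) (.node 8 (.node 4 (.node 2 (.node 1 (.leaf 0xac) (.leaf 0xad)) (.node 1 (.leaf 0xae) (.leaf 0xaf))) (.node 2 (.node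 1 (.leaf 0xa8) (.leaf 0xa9)) (.node 1 (.leaf 0xaa) (.leaf 0xab)))) (.node 4 (.node 2 (.node 1 (.leaf 0xa4) (.leaf 0xa5)) (.node 1 (.leaf 0xa6) (.leaf 0xa7))) (.node 2 (.node 1 (.leaf 0xa0) (.leaf 0xa1)) (.node 1 (.leaf 0xa2) (.leaf 0xa3)))))) (.node 16 (.node 8 (.node 4 (.node 2 (.node 1 (.leaf 0x15c) (.leaf 0x15d)) (.node 1 (.leaf 0x15e) (.leaf 0x15f))) (.node 2 (.node 1 (.leaf 0x158) (.leaf 0x159)) (.node 1 (.leaf 0x15a) (.leaf 0x15b)))) (.node 4 (.node 2 (.node 1 (.leaf 0x154) (.leaf 0x155)) (.node 1 (.leaf 0x156) (.leaf 0x157))) (.node 2 (.node 1 (.leaf 0x150) (.leaf 0x151)) (.node 1 (.leaf 0x152) (.leaf 0x153))))) (.node 8 (.node 4 (.node 2 (.node 1 (.leaf 0x9c) (.leaf 0x9d)) (.node 1 (.leaf 0x9e) (.leaf 0x9f))) (.node 2 (.node 1 (.leaf 0x98) (.leaf 0x99)) (.node 1 (.leaf 0x9a) (.leaf 0x9b)))) (.node 4 (.node 2 (.node 1 (.leaf 0x94) (.leaf 0x95)) (.node 1 (.leaf 0x96) (.leaf 0x97))) (.node 2 (.node 1 (.leaf 0x90) (.leaf 0x91))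 (.node 1 (.leaf 0x92) (.leaf 0x93))))))) (.node 32 (.node 16 (.node 8 (.node 4 (.node 2 (.node 1 (.leaf 0xdc) (.leaf 0xdd)) (.node 1 (.leaf 0xde) (.leaf 0xdf))) (.node 2 (.node 1 (.leaf 0xd8) (.leaf 0xd9)) (.node 1 (.leaf 0xda) (.leaf 0xdb)))) (.node 4 (.node 2 (.node 1 (.leaf 0xd4) (.leaf 0xd5)) (.node 1 (.leaf 0xd6) (.leaf 0xd7))) (.node 2 (.node 1 (.leaf 0xd0) (.leaf 0xd1)) (.node 1 (.leaf 0xd2) (.leaf 0xd3))))) (.node 8 (.node 4 (.node 2 (.node 1 (.leaf 0x11c) (.leaf 0x11d)) (.node 1 (.leaf 0x11e) (.leaf 0x11f))) (.node 2 (.node 1 (.leaf 0x118) (.leaf 0x119)) (.node 1 (.leaf 0x11a) (.leaf 0x11b)))) (.node 4 (.node 2 (.node 1 (.leaf 0x114) (.leaf 0x115)) (.node 1 (.leaf 0x116) (.leaf 0x117))) (.node 2 (.node 1 (.leaf 0x110) (.leaf 0x111)) (.node 1 (.leaf 0x112) (.leaf 0x113)))))) (.node 16 (.node 8 (.node 4 (.node 2 (.node 1 (.leaf 0xcc) (.leaf 0xcd)) (.node 1 (.leaf 0xce) (.leaf 0xcf))) (.node 2 (.node 1 (.leaf 0xc8) (.leaf 0xc9))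 (.node 1 (.leaf 0xca) (.leaf 0xcb)))) (.node 4 (.node 2 (.node 1 (.leaf 0xc4) (.leaf 0xc5)) (.node 1 (.leaf 0xc6) (.leaf 0xc7))) (.node 2 (.node 1 (.leaf 0xc0) (.leaf 0xc1)) (.node 1 (.leaf 0xc2) (.leaf 0xc3))))) (.node 8 (.node 4 (.node 2 (.node 1 (.leaf 0x16c) (.leaf 0x16d)) (.node 1 (.leaf 0x16e) (.leaf 0x16f))) (.node 2 (.node 1 (.leaf 0x168) (.leaf 0x169)) (.node 1 (.leaf 0x16a) (.leaf 0x16b)))) (.node 4 (.node 2 (.node 1 (.leaf 0x164) (.leaf 0x165)) (.node 1 (.leaf 0x166) (.leaf 0x167))) (.node 2 (.node 1 (.leaf 0x160) (.leaf 0x161)) (.node 1 (.leaf 0x162) (.leaf 0x163)))))))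

def mulH_21 : Tree :=
  .node 64 (.node 32 (.node 16 (.node 8 (.node 4 (.node 2 (.node 1 (.leaf 0x19c) (.leaf 0x19d)) (.node 1 (.leaf 0x19e) (.leaf 0x19f))) (.node 2 (.node 1 (.leaf 0x198) (.leaf 0x199)) (.node 1 (.leaf 0x19a) (.leaf 0x19b)))) (.node 4 (.node 2 (.node 1 (.leaf 0x194) (.leaf 0x195)) (.node 1 (.leaf 0x196) (.leaf 0x197))) (.node 2 (.node 1 (.leaf 0x190) (.leaf 0x191)) (.node 1 (.leaf 0x192) (.leaf 0x193))))) (.node 8 (.node 4 (.node 2 (.node 1 (.leaf 0x3c) (.leaf 0x3d)) (.node 1 (.leaf 0x3e) (.leaf 0x3f))) (.node 2 (.node 1 (.leaf 0x38) (.leaf 0x39)) (.node 1 (.leaf 0x3a) (.leaf 0x3b)))) (.node 4 (.node 2 (.node 1 (.leaf 0x34) (.leaf 0x35)) (.node 1 (.leaf 0x36) (.leaf 0x37))) (.node 2 (.node 1 (.leaf 0x30) (.leaf 0x31)) (.node 1 (.leaf 0x32) (.leaf 0x33)))))) (.node 16 (.node 8 (.node 4 (.node 2 (.node 1 (.leaf 0x1c) (.leaf 0x1d)) (.node 1 (.leaf 0x1e) (.leaf 0x1f))) (.node 2 (.node 1 (.leaf 0x18) (.leaf 0x19)) (.node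 1 (.leaf 0x1a) (.leaf 0x1b)))) (.node 4 (.node 2 (.node 1 (.leaf 0x14) (.leaf 0x15)) (.node 1 (.leaf 0x16) (.leaf 0x17))) (.node 2 (.node 1 (.leaf 0x10) (.leaf 0x11)) (.node 1 (.leaf 0x12) (.leaf 0x13))))) (.node 8 (.node 4 (.node 2 (.node 1 (.leaf 0x18c) (.leaf 0x18d)) (.node 1 (.leaf 0x18e) (.leaf 0x18f))) (.node 2 (.node 1 (.leaf 0x188) (.leaf 0x189)) (.node 1 (.leaf 0x18a) (.leaf 0x18b)))) (.node 4 (.node 2 (.node 1 (.leaf 0x184) (.leaf 0x185)) (.node 1 (.leaf 0x186) (.leaf 0x187))) (.node 2 (.node 1 (.leaf 0x180) (.leaf 0x181)) (.node 1 (.leaf 0x182) (.leaf 0x183))))))) (.node 32 (.node 16 (.node 8 (.node 4 (.node 2 (.node 1 (.leaf 0x6c) (.leaf 0x6d)) (.node 1 (.leaf 0x6e) (.leaf 0x6f))) (.node 2 (.node 1 (.leaf 0x68) (.leaf 0x69)) (.node 1 (.leaf 0x6a) (.leaf 0x6b)))) (.node 4 (.node 2 (.node 1 (.leaf 0x64) (.leaf 0x65)) (.node 1 (.leaf 0x66) (.leaf 0x67))) (.node 2 (.node 1 (.leaf 0x60) (.leaf 0x61)) (.node 1 (.leaf 0x62) (.leaf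 0x63))))) (.node 8 (.node 4 (.node 2 (.node 1 (.leaf 0x4c) (.leaf 0x4d)) (.node 1 (.leaf 0x4e) (.leaf 0x4f))) (.node 2 (.node 1 (.leaf 0x48) (.leaf 0x49)) (.node 1 (.leaf 0x4a) (.leaf 0x4b)))) (.node 4 (.node 2 (.node 1 (.leaf 0x44) (.leaf 0x45)) (.node 1 (.leaf 0x46) (.leaf 0x47))) (.node 2 (.node 1 (.leaf 0x40) (.leaf 0x41)) (.node 1 (.leaf 0x42) (.leaf 0x43)))))) (.node 16 (.node 8 (.node 4 (.node 2 (.node 1 (.leaf 0x1dc) (.leaf 0x1dd)) (.node 1 (.leaf 0x1de) (.leaf 0x1df))) (.node 2 (.node 1 (.leaf 0x1d8) (.leaf 0x1d9)) (.node 1 (.leaf 0x1da) (.leaf 0x1db)))) (.node 4 (.node 2 (.node 1 (.leaf 0x1d4) (.leaf 0x1d5)) (.node 1 (.leaf 0x1d6) (.leaf 0x1d7))) (.node 2 (.node 1 (.leaf 0x1d0) (.leaf 0x1d1)) (.node 1 (.leaf 0x1d2) (.leaf 0x1d3))))) (.node 8 (.node 4 (.node 2 (.node 1 (.leaf 0x1ec) (.leaf 0x1ed)) (.node 1 (.leaf 0x1ee) (.leaf 0x1ef))) (.node 2 (.node 1 (.leaf 0x1e8) (.leaf 0x1e9)) (.node 1 (.leaf 0x1ea) (.leaf 0x1eb)))) (.node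 4 (.node 2 (.node 1 (.leaf 0x1e4) (.leaf 0x1e5)) (.node 1 (.leaf 0x1e6) (.leaf 0x1e7))) (.node 2 (.node 1 (.leaf 0x1e0) (.leaf 0x1e1)) (.node 1 (.leaf 0x1e2) (.leaf 0x1e3)))))))

def mulH_22 : Tree :=
  .node 64 (.node 32 (.node 16 (.node 8 (.node 4 (.node 2 (.node 1 (.leaf 0xc) (.leaf 0xd)) (.node 1 (.leaf 0xe) (.leaf 0xf))) (.node 2 (.node 1 (.leaf 0x8) (.leaf 0x9)) (.node 1 (.leaf 0xa) (.leaf 0xb)))) (.node 4 (.node 2 (.node 1 (.leaf 0x4) (.leaf 0x5)) (.node 1 (.leaf 0x6) (.leaf 0x7))) (.node 2 (.node 1 (.leaf 0x1) (.leaf 0x0)) (.node 1 (.leaf 0x2) (.leaf 0x3))))) (.node 8 (.node 4 (.node 2 (.node 1 (.leaf 0x5c) (.leaf 0x5d)) (.node 1 (.leaf 0x5e) (.leaf 0x5f))) (.node 2 (.node 1 (.leaf 0x58) (.leaf 0x59)) (.node 1 (.leaf 0x5a) (.leaf 0x5b)))) (.node 4 (.node 2 (.node 1 (.leaf 0x54) (.leaf 0x55)) (.node 1 (.leaf 0x56) (.leaf 0x57))) (.node 2 (.node 1 (.leaf 0x50) (.leaf 0x51)) (.node 1 (.leaf 0x52) (.leaf 0x53)))))) (.node 16 (.node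 8 (.node 4 (.node 2 (.node 1 (.leaf 0x1bc) (.leaf 0x1bd)) (.node 1 (.leaf 0x1be) (.leaf 0x1bf))) (.node 2 (.node 1 (.leaf 0x1b8) (.leaf 0x1b9)) (.node 1 (.leaf 0x1ba) (.leaf 0x1bb)))) (.node 4 (.node 2 (.node 1 (.leaf 0x1b4) (.leaf 0x1b5)) (.node 1 (.leaf 0x1b6) (.leaf 0x1b7))) (.node 2 (.node 1 (.leaf 0x1b0) (.leaf 0x1b1)) (.node 1 (.leaf 0x1b2) (.leaf 0x1b3))))) (.node 8 (.node 4 (.node 2 (.node 1 (.leaf 0x1ac) (.leaf 0x1ad)) (.node 1 (.leaf 0x1ae) (.leaf 0x1af))) (.node 2 (.node 1 (.leaf 0x1a8) (.leaf 0x1a9)) (.node 1 (.leaf 0x1aa) (.leaf 0x1ab)))) (.node 4 (.node 2 (.node 1 (.leaf 0x1a4) (.leaf 0x1a5)) (.node 1 (.leaf 0x1a6) (.leaf 0x1a7))) (.node 2 (.node 1 (.leaf 0x1a0) (.leaf 0x1a1)) (.node 1 (.leaf 0x1a2) (.leaf 0x1a3))))))) (.node 32 (.node 16 (.node 8 (.node 4 (.node 2 (.node 1 (.leaf 0x1cc) (.leaf 0x1cd)) (.node 1 (.leaf 0x1ce) (.leaf 0x1cf))) (.node 2 (.node 1 (.leaf 0x1c8) (.leaf 0x1c9)) (.node 1 (.leaf 0x1ca) (.leaf 0x1cb))))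 (.node 4 (.node 2 (.node 1 (.leaf 0x1c4) (.leaf 0x1c5)) (.node 1 (.leaf 0x1c6) (.leaf 0x1c7))) (.node 2 (.node 1 (.leaf 0x1c0) (.leaf 0x1c1)) (.node 1 (.leaf 0x1c2) (.leaf 0x1c3))))) (.node 8 (.node 4 (.node 2 (.node 1 (.leaf 0x2c) (.leaf 0x2d)) (.node 1 (.leaf 0x2e) (.leaf 0x2f))) (.node 2 (.node 1 (.leaf 0x28) (.leaf 0x29)) (.node 1 (.leaf 0x2a) (.leaf 0x2b)))) (.node 4 (.node 2 (.node 1 (.leaf 0x24) (.leaf 0x25)) (.node 1 (.leaf 0x26) (.leaf 0x27))) (.node 2 (.node 1 (.leaf 0x20) (.leaf 0x21)) (.node 1 (.leaf 0x22) (.leaf 0x23)))))) (.node 16 (.node 8 (.node 4 (.node 2 (.node 1 (.leaf 0x7c) (.leaf 0x7d)) (.node 1 (.leaf 0x7e) (.leaf 0x7f))) (.node 2 (.node 1 (.leaf 0x78) (.leaf 0x79)) (.node 1 (.leaf 0x7a) (.leaf 0x7b)))) (.node 4 (.node 2 (.node 1 (.leaf 0x74) (.leaf 0x75)) (.node 1 (.leaf 0x76) (.leaf 0x77))) (.node 2 (.node 1 (.leaf 0x70) (.leaf 0x71)) (.node 1 (.leaf 0x72) (.leaf 0x73))))) (.node 8 (.node 4 (.node 2 (.node 1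 (.leaf 0x1fc) (.leaf 0x1fd)) (.node 1 (.leaf 0x1fe) (.leaf 0x1ff))) (.node 2 (.node 1 (.leaf 0x1f8) (.leaf 0x1f9)) (.node 1 (.leaf 0x1fa) (.leaf 0x1fb)))) (.node 4 (.node 2 (.node 1 (.leaf 0x1f4) (.leaf 0x1f5)) (.node 1 (.leaf 0x1f6) (.leaf 0x1f7))) (.node 2 (.node 1 (.leaf 0x1f0) (.leaf 0x1f1)) (.node 1 (.leaf 0x1f2) (.leaf 0x1f3)))))))

def mulH_23 : Tree :=
  .node 64 (.node 32 (.node 16 (.node 8 (.node 4 (.node 2 (.node 1 (.leaf 0xbc) (.leaf 0xbd)) (.node 1 (.leaf 0xbe) (.leaf 0xbf))) (.node 2 (.node 1 (.leaf 0xb8) (.leaf 0xb9)) (.node 1 (.leaf 0xba) (.leaf 0xbb)))) (.node 4 (.node 2 (.node 1 (.leaf 0xb4) (.leaf 0xb5)) (.node 1 (.leaf 0xb6) (.leaf 0xb7))) (.node 2 (.node 1 (.leaf 0xb0) (.leaf 0xb1)) (.node 1 (.leaf 0xb2) (.leaf 0xb3))))) (.node 8 (.node 4 (.node 2 (.node 1 (.leaf 0x8c) (.leaf 0x8d)) (.node 1 (.leaf 0x8e) (.leaf 0x8f))) (.node 2 (.node 1 (.leaf 0x88) (.leaf 0x89)) (.node 1 (.leaf 0x8a) (.leaf 0x8b)))) (.node 4 (.node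 2 (.node 1 (.leaf 0x84) (.leaf 0x85)) (.node 1 (.leaf 0x86) (.leaf 0x87))) (.node 2 (.node 1 (.leaf 0x80) (.leaf 0x81)) (.node 1 (.leaf 0x82) (.leaf 0x83)))))) (.node 16 (.node 8 (.node 4 (.node 2 (.node 1 (.leaf 0x13c) (.leaf 0x13d)) (.node 1 (.leaf 0x13e) (.leaf 0x13f))) (.node 2 (.node 1 (.leaf 0x138) (.leaf 0x139)) (.node 1 (.leaf 0x13a) (.leaf 0x13b)))) (.node 4 (.node 2 (.node 1 (.leaf 0x134) (.leaf 0x135)) (.node 1 (.leaf 0x136) (.leaf 0x137))) (.node 2 (.node 1 (.leaf 0x130) (.leaf 0x131)) (.node 1 (.leaf 0x132) (.leaf 0x133))))) (.node 8 (.node 4 (.node 2 (.node 1 (.leaf 0x12c) (.leaf 0x12d)) (.node 1 (.leaf 0x12e) (.leaf 0x12f))) (.node 2 (.node 1 (.leaf 0x128) (.leaf 0x129)) (.node 1 (.leaf 0x12a) (.leaf 0x12b)))) (.node 4 (.node 2 (.node 1 (.leaf 0x124) (.leaf 0x125)) (.node 1 (.leaf 0x126) (.leaf 0x127))) (.node 2 (.node 1 (.leaf 0x120) (.leaf 0x121)) (.node 1 (.leaf 0x122) (.leaf 0x123))))))) (.node 32 (.node 16 (.node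 8 (.node 4 (.node 2 (.node 1 (.leaf 0x14c) (.leaf 0x14d)) (.node 1 (.leaf 0x14e) (.leaf 0x14f))) (.node 2 (.node 1 (.leaf 0x148) (.leaf 0x149)) (.node 1 (.leaf 0x14a) (.leaf 0x14b)))) (.node 4 (.node 2 (.node 1 (.leaf 0x144) (.leaf 0x145)) (.node 1 (.leaf 0x146) (.leaf 0x147))) (.node 2 (.node 1 (.leaf 0x140) (.leaf 0x141)) (.node 1 (.leaf 0x142) (.leaf 0x143))))) (.node 8 (.node 4 (.node 2 (.node 1 (.leaf 0xec) (.leaf 0xed)) (.node 1 (.leaf 0xee) (.leaf 0xef))) (.node 2 (.node 1 (.leaf 0xe8) (.leaf 0xe9)) (.node 1 (.leaf 0xea) (.leaf 0xeb)))) (.node 4 (.node 2 (.node 1 (.leaf 0xe4) (.leaf 0xe5)) (.node 1 (.leaf 0xe6) (.leaf 0xe7))) (.node 2 (.node 1 (.leaf 0xe0) (.leaf 0xe1)) (.node 1 (.leaf 0xe2) (.leaf 0xe3)))))) (.node 16 (.node 8 (.node 4 (.node 2 (.node 1 (.leaf 0xfc) (.leaf 0xfd)) (.node 1 (.leaf 0xfe) (.leaf 0xff))) (.node 2 (.node 1 (.leaf 0xf8) (.leaf 0xf9)) (.node 1 (.leaf 0xfa) (.leaf 0xfb)))) (.node 4 (.node 2 (.node 1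 (.leaf 0xf4) (.leaf 0xf5)) (.node 1 (.leaf 0xf6) (.leaf 0xf7))) (.node 2 (.node 1 (.leaf 0xf0) (.leaf 0xf1)) (.node 1 (.leaf 0xf2) (.leaf 0xf3))))) (.node 8 (.node 4 (.node 2 (.node 1 (.leaf 0x17c) (.leaf 0x17d)) (.node 1 (.leaf 0x17e) (.leaf 0x17f))) (.node 2 (.node 1 (.leaf 0x178) (.leaf 0x179)) (.node 1 (.leaf 0x17a) (.leaf 0x17b)))) (.node 4 (.node 2 (.node 1 (.leaf 0x174) (.leaf 0x175)) (.node 1 (.leaf 0x176) (.leaf 0x177))) (.node 2 (.node 1 (.leaf 0x170) (.leaf 0x171)) (.node 1 (.leaf 0x172) (.leaf 0x173)))))))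

def mulH_24 : Tree :=
  .node 64 (.node 32 (.node 16 (.node 8 (.node 4 (.node 2 (.node 1 (.leaf 0x183) (.leaf 0x182)) (.node 1 (.leaf 0x180) (.leaf 0x181))) (.node 2 (.node 1 (.leaf 0x186) (.leaf 0x187)) (.node 1 (.leaf 0x184) (.leaf 0x185)))) (.node 4 (.node 2 (.node 1 (.leaf 0x18a) (.leaf 0x18b)) (.node 1 (.leaf 0x188) (.leaf 0x189))) (.node 2 (.node 1 (.leaf 0x18e) (.leaf 0x18f)) (.node 1 (.leaf 0x18c) (.leaf 0x18d))))) (.node 8 (.node 4 (.node 2 (.node 1 (.leaf 0x1a2) (.leaf 0x1a3)) (.node 1 (.leaf 0x1a0) (.leaf 0x1a1))) (.node 2 (.node 1 (.leaf 0x1a6) (.leaf 0x1a7)) (.node 1 (.leaf 0x1a4) (.leaf 0x1a5)))) (.node 4 (.node 2 (.node 1 (.leaf 0x1aa) (.leaf 0x1ab)) (.node 1 (.leaf 0x1a8) (.leaf 0x1a9))) (.node 2 (.node 1 (.leaf 0x1ae) (.leaf 0x1af)) (.node 1 (.leaf 0x1ac) (.leaf 0x1ad)))))) (.node 16 (.node 8 (.node 4 (.node 2 (.node 1 (.leaf 0x192) (.leaf 0x193)) (.node 1 (.leaf 0x190) (.leaf 0x191))) (.node 2 (.node 1 (.leaf 0x196)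 (.leaf 0x197)) (.node 1 (.leaf 0x194) (.leaf 0x195)))) (.node 4 (.node 2 (.node 1 (.leaf 0x19a) (.leaf 0x19b)) (.node 1 (.leaf 0x198) (.leaf 0x199))) (.node 2 (.node 1 (.leaf 0x19e) (.leaf 0x19f)) (.node 1 (.leaf 0x19c) (.leaf 0x19d))))) (.node 8 (.node 4 (.node 2 (.node 1 (.leaf 0x72) (.leaf 0x73)) (.node 1 (.leaf 0x70) (.leaf 0x71))) (.node 2 (.node 1 (.leaf 0x76) (.leaf 0x77)) (.node 1 (.leaf 0x74) (.leaf 0x75)))) (.node 4 (.node 2 (.node 1 (.leaf 0x7a) (.leaf 0x7b)) (.node 1 (.leaf 0x78) (.leaf 0x79))) (.node 2 (.node 1 (.leaf 0x7e) (.leaf 0x7f)) (.node 1 (.leaf 0x7c) (.leaf 0x7d))))))) (.node 32 (.node 16 (.node 8 (.node 4 (.node 2 (.node 1 (.leaf 0x1d2) (.leaf 0x1d3)) (.node 1 (.leaf 0x1d0) (.leaf 0x1d1))) (.node 2 (.node 1 (.leaf 0x1d6) (.leaf 0x1d7)) (.node 1 (.leaf 0x1d4) (.leaf 0x1d5)))) (.node 4 (.node 2 (.node 1 (.leaf 0x1da) (.leaf 0x1db)) (.node 1 (.leaf 0x1d8) (.leaf 0x1d9))) (.node 2 (.node 1 (.leaf 0x1de) (.leaf 0x1df))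 (.node 1 (.leaf 0x1dc) (.leaf 0x1dd))))) (.node 8 (.node 4 (.node 2 (.node 1 (.leaf 0x62) (.leaf 0x63)) (.node 1 (.leaf 0x60) (.leaf 0x61))) (.node 2 (.node 1 (.leaf 0x66) (.leaf 0x67)) (.node 1 (.leaf 0x64) (.leaf 0x65)))) (.node 4 (.node 2 (.node 1 (.leaf 0x6a) (.leaf 0x6b)) (.node 1 (.leaf 0x68) (.leaf 0x69))) (.node 2 (.node 1 (.leaf 0x6e) (.leaf 0x6f)) (.node 1 (.leaf 0x6c) (.leaf 0x6d)))))) (.node 16 (.node 8 (.node 4 (.node 2 (.node 1 (.leaf 0x52) (.leaf 0x53)) (.node 1 (.leaf 0x50) (.leaf 0x51))) (.node 2 (.node 1 (.leaf 0x56) (.leaf 0x57)) (.node 1 (.leaf 0x54) (.leaf 0x55)))) (.node 4 (.node 2 (.node 1 (.leaf 0x5a) (.leaf 0x5b)) (.node 1 (.leaf 0x58) (.leaf 0x59))) (.node 2 (.node 1 (.leaf 0x5e) (.leaf 0x5f)) (.node 1 (.leaf 0x5c) (.leaf 0x5d))))) (.node 8 (.node 4 (.node 2 (.node 1 (.leaf 0x32) (.leaf 0x33)) (.node 1 (.leaf 0x30) (.leaf 0x31))) (.node 2 (.node 1 (.leaf 0x36) (.leaf 0x37)) (.node 1 (.leaf 0x34) (.leaf 0x35))))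 (.node 4 (.node 2 (.node 1 (.leaf 0x3a) (.leaf 0x3b)) (.node 1 (.leaf 0x38) (.leaf 0x39))) (.node 2 (.node 1 (.leaf 0x3e) (.leaf 0x3f)) (.node 1 (.leaf 0x3c) (.leaf 0x3d)))))))

def mulH_25 : Tree :=
  .node 64 (.node 32 (.node 16 (.node 8 (.node 4 (.node 2 (.node 1 (.leaf 0xae) (.leaf 0xaf)) (.node 1 (.leaf 0xac) (.leaf 0xad))) (.node 2 (.node 1 (.leaf 0xaa) (.leaf 0xab)) (.node 1 (.leaf 0xa8) (.leaf 0xa9)))) (.node 4 (.node 2 (.node 1 (.leaf 0xa6) (.leaf 0xa7)) (.node 1 (.leaf 0xa4) (.leaf 0xa5))) (.node 2 (.node 1 (.leaf 0xa2) (.leaf 0xa3)) (.node 1 (.leaf 0xa0) (.leaf 0xa1))))) (.node 8 (.node 4 (.node 2 (.node 1 (.leaf 0x9e) (.leaf 0x9f)) (.node 1 (.leaf 0x9c) (.leaf 0x9d))) (.node 2 (.node 1 (.leaf 0x9a) (.leaf 0x9b)) (.node 1 (.leaf 0x98) (.leaf 0x99)))) (.node 4 (.node 2 (.node 1 (.leaf 0x96) (.leaf 0x97)) (.node 1 (.leaf 0x94) (.leaf 0x95))) (.node 2 (.node 1 (.leaf 0x92) (.leaf 0x93)) (.node 1 (.leaf 0x90) (.leaf 0x91))))))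 (.node 16 (.node 8 (.node 4 (.node 2 (.node 1 (.leaf 0x8e) (.leaf 0x8f)) (.node 1 (.leaf 0x8c) (.leaf 0x8d))) (.node 2 (.node 1 (.leaf 0x8a) (.leaf 0x8b)) (.node 1 (.leaf 0x88) (.leaf 0x89)))) (.node 4 (.node 2 (.node 1 (.leaf 0x86) (.leaf 0x87)) (.node 1 (.leaf 0x84) (.leaf 0x85))) (.node 2 (.node 1 (.leaf 0x82) (.leaf 0x83)) (.node 1 (.leaf 0x80) (.leaf 0x81))))) (.node 8 (.node 4 (.node 2 (.node 1 (.leaf 0xde) (.leaf 0xdf)) (.node 1 (.leaf 0xdc) (.leaf 0xdd))) (.node 2 (.node 1 (.leaf 0xda) (.leaf 0xdb)) (.node 1 (.leaf 0xd8) (.leaf 0xd9)))) (.node 4 (.node 2 (.node 1 (.leaf 0xd6) (.leaf 0xd7)) (.node 1 (.leaf 0xd4) (.leaf 0xd5))) (.node 2 (.node 1 (.leaf 0xd2) (.leaf 0xd3)) (.node 1 (.leaf 0xd0) (.leaf 0xd1))))))) (.node 32 (.node 16 (.node 8 (.node 4 (.node 2 (.node 1 (.leaf 0xce) (.leaf 0xcf)) (.node 1 (.leaf 0xcc) (.leaf 0xcd))) (.node 2 (.node 1 (.leaf 0xca) (.leaf 0xcb)) (.node 1 (.leaf 0xc8) (.leaf 0xc9)))) (.node 4 (.node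 2 (.node 1 (.leaf 0xc6) (.leaf 0xc7)) (.node 1 (.leaf 0xc4) (.leaf 0xc5))) (.node 2 (.node 1 (.leaf 0xc2) (.leaf 0xc3)) (.node 1 (.leaf 0xc0) (.leaf 0xc1))))) (.node 8 (.node 4 (.node 2 (.node 1 (.leaf 0xbe) (.leaf 0xbf)) (.node 1 (.leaf 0xbc) (.leaf 0xbd))) (.node 2 (.node 1 (.leaf 0xba) (.leaf 0xbb)) (.node 1 (.leaf 0xb8) (.leaf 0xb9)))) (.node 4 (.node 2 (.node 1 (.leaf 0xb6) (.leaf 0xb7)) (.node 1 (.leaf 0xb4) (.leaf 0xb5))) (.node 2 (.node 1 (.leaf 0xb2) (.leaf 0xb3)) (.node 1 (.leaf 0xb0) (.leaf 0xb1)))))) (.node 16 (.node 8 (.node 4 (.node 2 (.node 1 (.leaf 0x10e) (.leaf 0x10f)) (.node 1 (.leaf 0x10c) (.leaf 0x10d))) (.node 2 (.node 1 (.leaf 0x10a) (.leaf 0x10b)) (.node 1 (.leaf 0x108) (.leaf 0x109)))) (.node 4 (.node 2 (.node 1 (.leaf 0x106) (.leaf 0x107)) (.node 1 (.leaf 0x104) (.leaf 0x105))) (.node 2 (.node 1 (.leaf 0x102) (.leaf 0x103)) (.node 1 (.leaf 0x100) (.leaf 0x101))))) (.node 8 (.node 4 (.node 2 (.node 1 (.leaf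 0xfe) (.leaf 0xff)) (.node 1 (.leaf 0xfc) (.leaf 0xfd))) (.node 2 (.node 1 (.leaf 0xfa) (.leaf 0xfb)) (.node 1 (.leaf 0xf8) (.leaf 0xf9)))) (.node 4 (.node 2 (.node 1 (.leaf 0xf6) (.leaf 0xf7)) (.node 1 (.leaf 0xf4) (.leaf 0xf5))) (.node 2 (.node 1 (.leaf 0xf2) (.leaf 0xf3)) (.node 1 (.leaf 0xf0) (.leaf 0xf1)))))))

def mulH_26 : Tree :=
  .node 64 (.node 32 (.node 16 (.node 8 (.node 4 (.node 2 (.node 1 (.leaf 0xee) (.leaf 0xef)) (.node 1 (.leaf 0xec) (.leaf 0xed))) (.node 2 (.node 1 (.leaf 0xea) (.leaf 0xeb)) (.node 1 (.leaf 0xe8) (.leaf 0xe9)))) (.node 4 (.node 2 (.node 1 (.leaf 0xe6) (.leaf 0xe7)) (.node 1 (.leaf 0xe4) (.leaf 0xe5))) (.node 2 (.node 1 (.leaf 0xe2) (.leaf 0xe3)) (.node 1 (.leaf 0xe0) (.leaf 0xe1))))) (.node 8 (.node 4 (.node 2 (.node 1 (.leaf 0x11e) (.leaf 0x11f)) (.node 1 (.leaf 0x11c) (.leaf 0x11d))) (.node 2 (.node 1 (.leaf 0x11a) (.leaf 0x11b)) (.node 1 (.leaf 0x118) (.leaf 0x119)))) (.node 4 (.node 2 (.node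 1 (.leaf 0x116) (.leaf 0x117)) (.node 1 (.leaf 0x114) (.leaf 0x115))) (.node 2 (.node 1 (.leaf 0x112) (.leaf 0x113)) (.node 1 (.leaf 0x110) (.leaf 0x111)))))) (.node 16 (.node 8 (.node 4 (.node 2 (.node 1 (.leaf 0x12e) (.leaf 0x12f)) (.node 1 (.leaf 0x12c) (.leaf 0x12d))) (.node 2 (.node 1 (.leaf 0x12a) (.leaf 0x12b)) (.node 1 (.leaf 0x128) (.leaf 0x129)))) (.node 4 (.node 2 (.node 1 (.leaf 0x126) (.leaf 0x127)) (.node 1 (.leaf 0x124) (.leaf 0x125))) (.node 2 (.node 1 (.leaf 0x122) (.leaf 0x123)) (.node 1 (.leaf 0x120) (.leaf 0x121))))) (.node 8 (.node 4 (.node 2 (.node 1 (.leaf 0x15e) (.leaf 0x15f)) (.node 1 (.leaf 0x15c) (.leaf 0x15d))) (.node 2 (.node 1 (.leaf 0x15a) (.leaf 0x15b)) (.node 1 (.leaf 0x158) (.leaf 0x159)))) (.node 4 (.node 2 (.node 1 (.leaf 0x156) (.leaf 0x157)) (.node 1 (.leaf 0x154) (.leaf 0x155))) (.node 2 (.node 1 (.leaf 0x152) (.leaf 0x153)) (.node 1 (.leaf 0x150) (.leaf 0x151))))))) (.node 32 (.node 16 (.node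 8 (.node 4 (.node 2 (.node 1 (.leaf 0x14e) (.leaf 0x14f)) (.node 1 (.leaf 0x14c) (.leaf 0x14d))) (.node 2 (.node 1 (.leaf 0x14a) (.leaf 0x14b)) (.node 1 (.leaf 0x148) (.leaf 0x149)))) (.node 4 (.node 2 (.node 1 (.leaf 0x146) (.leaf 0x147)) (.node 1 (.leaf 0x144) (.leaf 0x145))) (.node 2 (.node 1 (.leaf 0x142) (.leaf 0x143)) (.node 1 (.leaf 0x140) (.leaf 0x141))))) (.node 8 (.node 4 (.node 2 (.node 1 (.leaf 0x13e) (.leaf 0x13f)) (.node 1 (.leaf 0x13c) (.leaf 0x13d))) (.node 2 (.node 1 (.leaf 0x13a) (.leaf 0x13b)) (.node 1 (.leaf 0x138) (.leaf 0x139)))) (.node 4 (.node 2 (.node 1 (.leaf 0x136) (.leaf 0x137)) (.node 1 (.leaf 0x134) (.leaf 0x135))) (.node 2 (.node 1 (.leaf 0x132) (.leaf 0x133)) (.node 1 (.leaf 0x130) (.leaf 0x131)))))) (.node 16 (.node 8 (.node 4 (.node 2 (.node 1 (.leaf 0x16e) (.leaf 0x16f)) (.node 1 (.leaf 0x16c) (.leaf 0x16d))) (.node 2 (.node 1 (.leaf 0x16a) (.leaf 0x16b)) (.node 1 (.leaf 0x168) (.leaf 0x169)))) (.node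 4 (.node 2 (.node 1 (.leaf 0x166) (.leaf 0x167)) (.node 1 (.leaf 0x164) (.leaf 0x165))) (.node 2 (.node 1 (.leaf 0x162) (.leaf 0x163)) (.node 1 (.leaf 0x160) (.leaf 0x161))))) (.node 8 (.node 4 (.node 2 (.node 1 (.leaf 0x17e) (.leaf 0x17f)) (.node 1 (.leaf 0x17c) (.leaf 0x17d))) (.node 2 (.node 1 (.leaf 0x17a) (.leaf 0x17b)) (.node 1 (.leaf 0x178) (.leaf 0x179)))) (.node 4 (.node 2 (.node 1 (.leaf 0x176) (.leaf 0x177)) (.node 1 (.leaf 0x174) (.leaf 0x175))) (.node 2 (.node 1 (.leaf 0x172) (.leaf 0x173)) (.node 1 (.leaf 0x170) (.leaf 0x171)))))))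

def mulH_27 : Tree :=
  .node 64 (.node 32 (.node 16 (.node 8 (.node 4 (.node 2 (.node 1 (.leaf 0x2) (.leaf 0x3)) (.node 1 (.leaf 0x1) (.leaf 0x0))) (.node 2 (.node 1 (.leaf 0x6) (.leaf 0x7)) (.node 1 (.leaf 0x4) (.leaf 0x5)))) (.node 4 (.node 2 (.node 1 (.leaf 0xa) (.leaf 0xb)) (.node 1 (.leaf 0x8) (.leaf 0x9))) (.node 2 (.node 1 (.leaf 0xe) (.leaf 0xf)) (.node 1 (.leaf 0xc) (.leaf 0xd))))) (.node 8 (.node 4 (.node 2 (.node 1 (.leaf 0x22) (.leaf 0x23)) (.node 1 (.leaf 0x20) (.leaf 0x21))) (.node 2 (.node 1 (.leaf 0x26) (.leaf 0x27)) (.node 1 (.leaf 0x24) (.leaf 0x25)))) (.node 4 (.node 2 (.node 1 (.leaf 0x2a) (.leaf 0x2b)) (.node 1 (.leaf 0x28) (.leaf 0x29))) (.node 2 (.node 1 (.leaf 0x2e) (.leaf 0x2f)) (.node 1 (.leaf 0x2c) (.leaf 0x2d)))))) (.node 16 (.node 8 (.node 4 (.node 2 (.node 1 (.leaf 0x12) (.leaf 0x13)) (.node 1 (.leaf 0x10) (.leaf 0x11))) (.node 2 (.node 1 (.leaf 0x16) (.leaf 0x17)) (.node 1 (.leaf 0x14) (.leaf 0x15))))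 (.node 4 (.node 2 (.node 1 (.leaf 0x1a) (.leaf 0x1b)) (.node 1 (.leaf 0x18) (.leaf 0x19))) (.node 2 (.node 1 (.leaf 0x1e) (.leaf 0x1f)) (.node 1 (.leaf 0x1c) (.leaf 0x1d))))) (.node 8 (.node 4 (.node 2 (.node 1 (.leaf 0x1c2) (.leaf 0x1c3)) (.node 1 (.leaf 0x1c0) (.leaf 0x1c1))) (.node 2 (.node 1 (.leaf 0x1c6) (.leaf 0x1c7)) (.node 1 (.leaf 0x1c4) (.leaf 0x1c5)))) (.node 4 (.node 2 (.node 1 (.leaf 0x1ca) (.leaf 0x1cb)) (.node 1 (.leaf 0x1c8) (.leaf 0x1c9))) (.node 2 (.node 1 (.leaf 0x1ce) (.leaf 0x1cf)) (.node 1 (.leaf 0x1cc) (.leaf 0x1cd))))))) (.node 32 (.node 16 (.node 8 (.node 4 (.node 2 (.node 1 (.leaf 0x1b2) (.leaf 0x1b3)) (.node 1 (.leaf 0x1b0) (.leaf 0x1b1))) (.node 2 (.node 1 (.leaf 0x1b6) (.leaf 0x1b7)) (.node 1 (.leaf 0x1b4) (.leaf 0x1b5)))) (.node 4 (.node 2 (.node 1 (.leaf 0x1ba) (.leaf 0x1bb)) (.node 1 (.leaf 0x1b8) (.leaf 0x1b9))) (.node 2 (.node 1 (.leaf 0x1be) (.leaf 0x1bf)) (.node 1 (.leaf 0x1bc) (.leaf 0x1bd)))))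 (.node 8 (.node 4 (.node 2 (.node 1 (.leaf 0x42) (.leaf 0x43)) (.node 1 (.leaf 0x40) (.leaf 0x41))) (.node 2 (.node 1 (.leaf 0x46) (.leaf 0x47)) (.node 1 (.leaf 0x44) (.leaf 0x45)))) (.node 4 (.node 2 (.node 1 (.leaf 0x4a) (.leaf 0x4b)) (.node 1 (.leaf 0x48) (.leaf 0x49))) (.node 2 (.node 1 (.leaf 0x4e) (.leaf 0x4f)) (.node 1 (.leaf 0x4c) (.leaf 0x4d)))))) (.node 16 (.node 8 (.node 4 (.node 2 (.node 1 (.leaf 0x1f2) (.leaf 0x1f3)) (.node 1 (.leaf 0x1f0) (.leaf 0x1f1))) (.node 2 (.node 1 (.leaf 0x1f6) (.leaf 0x1f7)) (.node 1 (.leaf 0x1f4) (.leaf 0x1f5)))) (.node 4 (.node 2 (.node 1 (.leaf 0x1fa) (.leaf 0x1fb)) (.node 1 (.leaf 0x1f8) (.leaf 0x1f9))) (.node 2 (.node 1 (.leaf 0x1fe) (.leaf 0x1ff)) (.node 1 (.leaf 0x1fc) (.leaf 0x1fd))))) (.node 8 (.node 4 (.node 2 (.node 1 (.leaf 0x1e2) (.leaf 0x1e3)) (.node 1 (.leaf 0x1e0) (.leaf 0x1e1))) (.node 2 (.node 1 (.leaf 0x1e6) (.leaf 0x1e7)) (.node 1 (.leaf 0x1e4) (.leaf 0x1e5)))) (.node 4 (.node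 2 (.node 1 (.leaf 0x1ea) (.leaf 0x1eb)) (.node 1 (.leaf 0x1e8) (.leaf 0x1e9))) (.node 2 (.node 1 (.leaf 0x1ee) (.leaf 0x1ef)) (.node 1 (.leaf 0x1ec) (.leaf 0x1ed)))))))

def mulH : Tree :=
  .node 1792 (.node 896 (.node 384 (.node 128 (mulH_0) (.node 128 (mulH_1) (mulH_2))) (.node 256 (.node 128 (mulH_3) (mulH_4)) (.node 128 (mulH_5) (mulH_6)))) (.node 384 (.node 128 (mulH_7) (.node 128 (mulH_8) (mulH_9))) (.node 256 (.node 128 (mulH_10) (mulH_11)) (.node 128 (mulH_12) (mulH_13))))) (.node 896 (.node 384 (.node 128 (mulH_14) (.node 128 (mulH_15) (mulH_16))) (.node 256 (.node 128 (mulH_17) (mulH_18)) (.node 128 (mulH_19) (mulH_20)))) (.node 384 (.node 128 (mulH_21) (.node 128 (mulH_22) (mulH_23))) (.node 256 (.node 128 (mulH_24) (mulH_25)) (.node 128 (mulH_26) (mulH_27)))))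

def mulP_0 : Tree :=
  .node 64 (.node 32 (.node 16 (.node 8 (.node 4 (.node 2 (.node 1 (.leaf 0xc1) (.leaf 0x21)) (.node 1 (.leaf 0x22) (.leaf 0x23))) (.node 2 (.node 1 (.leaf 0x24) (.leaf 0x25)) (.node 1 (.leaf 0x26) (.leaf 0x27)))) (.node 4 (.node 2 (.node 1 (.leaf 0x28) (.leaf 0x29)) (.node 1 (.leaf 0x2a) (.leaf 0x2b))) (.node 2 (.node 1 (.leaf 0x2c) (.leaf 0x2d)) (.node 1 (.leaf 0x2e) (.leaf 0x2f))))) (.node 8 (.node 4 (.node 2 (.node 1 (.leaf 0x30) (.leaf 0x51)) (.node 1 (.leaf 0x52) (.leaf 0x53))) (.node 2 (.node 1 (.leaf 0x54) (.leaf 0x55)) (.node 1 (.leaf 0x56) (.leaf 0x57)))) (.node 4 (.node 2 (.node 1 (.leaf 0x58) (.leaf 0x59)) (.node 1 (.leaf 0x5a) (.leaf 0x5b))) (.node 2 (.node 1 (.leaf 0x5c) (.leaf 0x5d)) (.node 1 (.leaf 0x5e) (.leaf 0x5f)))))) (.node 16 (.node 8 (.node 4 (.node 2 (.node 1 (.leaf 0x60) (.leaf 0x1)) (.node 1 (.leaf 0x2) (.leaf 0x3))) (.node 2 (.node 1 (.leaf 0x4) (.leaf 0x5)) (.node 1 (.leaf 0x6) (.leaf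 0x7)))) (.node 4 (.node 2 (.node 1 (.leaf 0x8) (.leaf 0x9)) (.node 1 (.leaf 0xa) (.leaf 0xb))) (.node 2 (.node 1 (.leaf 0xc) (.leaf 0xd)) (.node 1 (.leaf 0xe) (.leaf 0xf))))) (.node 8 (.node 4 (.node 2 (.node 1 (.leaf 0x10) (.leaf 0x90)) (.node 1 (.leaf 0x91) (.leaf 0x92))) (.node 2 (.node 1 (.leaf 0x93) (.leaf 0x94)) (.node 1 (.leaf 0x95) (.leaf 0x96)))) (.node 4 (.node 2 (.node 1 (.leaf 0x97) (.leaf 0x98)) (.node 1 (.leaf 0x99) (.leaf 0x9a))) (.node 2 (.node 1 (.leaf 0x9b) (.leaf 0x9c)) (.node 1 (.leaf 0x9d) (.leaf 0x9e))))))) (.node 32 (.node 16 (.node 8 (.node 4 (.node 2 (.node 1 (.leaf 0x9f) (.leaf 0xa0)) (.node 1 (.leaf 0xa1) (.leaf 0xa2))) (.node 2 (.node 1 (.leaf 0xa3) (.leaf 0xa4)) (.node 1 (.leaf 0xa5) (.leaf 0xa6)))) (.node 4 (.node 2 (.node 1 (.leaf 0xa7) (.leaf 0xa8)) (.node 1 (.leaf 0xa9) (.leaf 0xaa))) (.node 2 (.node 1 (.leaf 0xab) (.leaf 0xac)) (.node 1 (.leaf 0xad) (.leaf 0xae))))) (.node 8 (.node 4 (.node 2 (.node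 1 (.leaf 0xaf) (.leaf 0x11)) (.node 1 (.leaf 0x12) (.leaf 0x13))) (.node 2 (.node 1 (.leaf 0x14) (.leaf 0x15)) (.node 1 (.leaf 0x16) (.leaf 0x17)))) (.node 4 (.node 2 (.node 1 (.leaf 0x18) (.leaf 0x19)) (.node 1 (.leaf 0x1a) (.leaf 0x1b))) (.node 2 (.node 1 (.leaf 0x1c) (.leaf 0x1d)) (.node 1 (.leaf 0x1e) (.leaf 0x1f)))))) (.node 16 (.node 8 (.node 4 (.node 2 (.node 1 (.leaf 0x20) (.leaf 0xd0)) (.node 1 (.leaf 0xd1) (.leaf 0xd2))) (.node 2 (.node 1 (.leaf 0xd3) (.leaf 0xd4)) (.node 1 (.leaf 0xd5) (.leaf 0xd6)))) (.node 4 (.node 2 (.node 1 (.leaf 0xd7) (.leaf 0xd8)) (.node 1 (.leaf 0xd9) (.leaf 0xda))) (.node 2 (.node 1 (.leaf 0xdb) (.leaf 0xdc)) (.node 1 (.leaf 0xdd) (.leaf 0xde))))) (.node 8 (.node 4 (.node 2 (.node 1 (.leaf 0xdf) (.leaf 0xe0)) (.node 1 (.leaf 0xe1) (.leaf 0xe2))) (.node 2 (.node 1 (.leaf 0xe3) (.leaf 0xe4)) (.node 1 (.leaf 0xe5) (.leaf 0xe6)))) (.node 4 (.node 2 (.node 1 (.leaf 0xe7) (.leaf 0xe8)) (.node 1 (.leaf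 0xe9) (.leaf 0xea))) (.node 2 (.node 1 (.leaf 0xeb) (.leaf 0xec)) (.node 1 (.leaf 0xed) (.leaf 0xee)))))))

def mulP_1 : Tree :=
  .node 64 (.node 32 (.node 16 (.node 8 (.node 4 (.node 2 (.node 1 (.leaf 0xef) (.leaf 0xc0)) (.node 1 (.leaf 0xc2) (.leaf 0xc3))) (.node 2 (.node 1 (.leaf 0xc4) (.leaf 0xc5)) (.node 1 (.leaf 0xc6) (.leaf 0xc7)))) (.node 4 (.node 2 (.node 1 (.leaf 0xc8) (.leaf 0xc9)) (.node 1 (.leaf 0xca) (.leaf 0xcb))) (.node 2 (.node 1 (.leaf 0xcc) (.leaf 0xcd)) (.node 1 (.leaf 0xce) (.leaf 0xcf))))) (.node 8 (.node 4 (.node 2 (.node 1 (.leaf 0x31) (.leaf 0x32)) (.node 1 (.leaf 0x33) (.leaf 0x34))) (.node 2 (.node 1 (.leaf 0x35) (.leaf 0x36)) (.node 1 (.leaf 0x37) (.leaf 0x38)))) (.node 4 (.node 2 (.node 1 (.leaf 0x39) (.leaf 0x3a)) (.node 1 (.leaf 0x3b) (.leaf 0x3c))) (.node 2 (.node 1 (.leaf 0x3d) (.leaf 0x3e)) (.node 1 (.leaf 0x3f) (.leaf 0x40)))))) (.node 16 (.node 8 (.node 4 (.node 2 (.node 1 (.leaf 0x41) (.leaf 0x42))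 (.node 1 (.leaf 0x43) (.leaf 0x44))) (.node 2 (.node 1 (.leaf 0x45) (.leaf 0x46)) (.node 1 (.leaf 0x47) (.leaf 0x48)))) (.node 4 (.node 2 (.node 1 (.leaf 0x49) (.leaf 0x4a)) (.node 1 (.leaf 0x4b) (.leaf 0x4c))) (.node 2 (.node 1 (.leaf 0x4d) (.leaf 0x4e)) (.node 1 (.leaf 0x4f) (.leaf 0x50))))) (.node 8 (.node 4 (.node 2 (.node 1 (.leaf 0x120) (.leaf 0x121)) (.node 1 (.leaf 0x122) (.leaf 0x123))) (.node 2 (.node 1 (.leaf 0x124) (.leaf 0x125)) (.node 1 (.leaf 0x126) (.leaf 0x127)))) (.node 4 (.node 2 (.node 1 (.leaf 0x128) (.leaf 0x129)) (.node 1 (.leaf 0x12a) (.leaf 0x12b))) (.node 2 (.node 1 (.leaf 0x12c) (.leaf 0x12d)) (.node 1 (.leaf 0x12e) (.leaf 0x12f))))))) (.node 32 (.node 16 (.node 8 (.node 4 (.node 2 (.node 1 (.leaf 0x81) (.leaf 0x0)) (.node 1 (.leaf 0x82) (.leaf 0x83))) (.node 2 (.node 1 (.leaf 0x84) (.leaf 0x85)) (.node 1 (.leaf 0x86) (.leaf 0x87)))) (.node 4 (.node 2 (.node 1 (.leaf 0x88) (.leaf 0x89)) (.node 1 (.leaf 0x8a)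 (.leaf 0x8b))) (.node 2 (.node 1 (.leaf 0x8c) (.leaf 0x8d)) (.node 1 (.leaf 0x8e) (.leaf 0x8f))))) (.node 8 (.node 4 (.node 2 (.node 1 (.leaf 0x61) (.leaf 0x62)) (.node 1 (.leaf 0x63) (.leaf 0x64))) (.node 2 (.node 1 (.leaf 0x65) (.leaf 0x66)) (.node 1 (.leaf 0x67) (.leaf 0x68)))) (.node 4 (.node 2 (.node 1 (.leaf 0x69) (.leaf 0x6a)) (.node 1 (.leaf 0x6b) (.leaf 0x6c))) (.node 2 (.node 1 (.leaf 0x6d) (.leaf 0x6e)) (.node 1 (.leaf 0x6f) (.leaf 0x70)))))) (.node 16 (.node 8 (.node 4 (.node 2 (.node 1 (.leaf 0x71) (.leaf 0x72)) (.node 1 (.leaf 0x73) (.leaf 0x74))) (.node 2 (.node 1 (.leaf 0x75) (.leaf 0x76)) (.node 1 (.leaf 0x77) (.leaf 0x78)))) (.node 4 (.node 2 (.node 1 (.leaf 0x79) (.leaf 0x7a)) (.node 1 (.leaf 0x7b) (.leaf 0x7c))) (.node 2 (.node 1 (.leaf 0x7d) (.leaf 0x7e)) (.node 1 (.leaf 0x7f) (.leaf 0x80))))) (.node 8 (.node 4 (.node 2 (.node 1 (.leaf 0x150) (.leaf 0x151)) (.node 1 (.leaf 0x152) (.leaf 0x153))) (.node 2 (.node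 1 (.leaf 0x154) (.leaf 0x155)) (.node 1 (.leaf 0x156) (.leaf 0x157)))) (.node 4 (.node 2 (.node 1 (.leaf 0x158) (.leaf 0x159)) (.node 1 (.leaf 0x15a) (.leaf 0x15b))) (.node 2 (.node 1 (.leaf 0x15c) (.leaf 0x15d)) (.node 1 (.leaf 0x15e) (.leaf 0x15f)))))))

def mulP_2 : Tree :=
  .node 64 (.node 32 (.node 16 (.node 8 (.node 4 (.node 2 (.node 1 (.leaf 0x130) (.leaf 0x131)) (.node 1 (.leaf 0x132) (.leaf 0x133))) (.node 2 (.node 1 (.leaf 0x134) (.leaf 0x135)) (.node 1 (.leaf 0x136) (.leaf 0x137)))) (.node 4 (.node 2 (.node 1 (.leaf 0x138) (.leaf 0x139)) (.node 1 (.leaf 0x13a) (.leaf 0x13b))) (.node 2 (.node 1 (.leaf 0x13c) (.leaf 0x13d)) (.node 1 (.leaf 0x13e) (.leaf 0x13f))))) (.node 8 (.node 4 (.node 2 (.node 1 (.leaf 0x140) (.leaf 0x141)) (.node 1 (.leaf 0x142) (.leaf 0x143))) (.node 2 (.node 1 (.leaf 0x144) (.leaf 0x145)) (.node 1 (.leaf 0x146) (.leaf 0x147)))) (.node 4 (.node 2 (.node 1 (.leaf 0x148) (.leaf 0x149)) (.node 1 (.leaf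 0x14a) (.leaf 0x14b))) (.node 2 (.node 1 (.leaf 0x14c) (.leaf 0x14d)) (.node 1 (.leaf 0x14e) (.leaf 0x14f)))))) (.node 16 (.node 8 (.node 4 (.node 2 (.node 1 (.leaf 0xb0) (.leaf 0xb1)) (.node 1 (.leaf 0xb2) (.leaf 0xb3))) (.node 2 (.node 1 (.leaf 0xb4) (.leaf 0xb5)) (.node 1 (.leaf 0xb6) (.leaf 0xb7)))) (.node 4 (.node 2 (.node 1 (.leaf 0xb8) (.leaf 0xb9)) (.node 1 (.leaf 0xba) (.leaf 0xbb))) (.node 2 (.node 1 (.leaf 0xbc) (.leaf 0xbd)) (.node 1 (.leaf 0xbe) (.leaf 0xbf))))) (.node 8 (.node 4 (.node 2 (.node 1 (.leaf 0x100) (.leaf 0x101)) (.node 1 (.leaf 0x102) (.leaf 0x103))) (.node 2 (.node 1 (.leaf 0x104) (.leaf 0x105)) (.node 1 (.leaf 0x106) (.leaf 0x107)))) (.node 4 (.node 2 (.node 1 (.leaf 0x108) (.leaf 0x109)) (.node 1 (.leaf 0x10a) (.leaf 0x10b))) (.node 2 (.node 1 (.leaf 0x10c) (.leaf 0x10d)) (.node 1 (.leaf 0x10e) (.leaf 0x10f))))))) (.node 32 (.node 16 (.node 8 (.node 4 (.node 2 (.node 1 (.leaf 0x110) (.leaf 0x111)) (.node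 1 (.leaf 0x112) (.leaf 0x113))) (.node 2 (.node 1 (.leaf 0x114) (.leaf 0x115)) (.node 1 (.leaf 0x116) (.leaf 0x117)))) (.node 4 (.node 2 (.node 1 (.leaf 0x118) (.leaf 0x119)) (.node 1 (.leaf 0x11a) (.leaf 0x11b))) (.node 2 (.node 1 (.leaf 0x11c) (.leaf 0x11d)) (.node 1 (.leaf 0x11e) (.leaf 0x11f))))) (.node 8 (.node 4 (.node 2 (.node 1 (.leaf 0xf0) (.leaf 0xf1)) (.node 1 (.leaf 0xf2) (.leaf 0xf3))) (.node 2 (.node 1 (.leaf 0xf4) (.leaf 0xf5)) (.node 1 (.leaf 0xf6) (.leaf 0xf7)))) (.node 4 (.node 2 (.node 1 (.leaf 0xf8) (.leaf 0xf9)) (.node 1 (.leaf 0xfa) (.leaf 0xfb))) (.node 2 (.node 1 (.leaf 0xfc) (.leaf 0xfd)) (.node 1 (.leaf 0xfe) (.leaf 0xff)))))) (.node 16 (.node 8 (.node 4 (.node 2 (.node 1 (.leaf 0x170) (.leaf 0x171)) (.node 1 (.leaf 0x172) (.leaf 0x173))) (.node 2 (.node 1 (.leaf 0x174) (.leaf 0x175)) (.node 1 (.leaf 0x176) (.leaf 0x177)))) (.node 4 (.node 2 (.node 1 (.leaf 0x178) (.leaf 0x179)) (.node 1 (.leaf 0x17a) (.leaf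 0x17b))) (.node 2 (.node 1 (.leaf 0x17c) (.leaf 0x17d)) (.node 1 (.leaf 0x17e) (.leaf 0x17f))))) (.node 8 (.node 4 (.node 2 (.node 1 (.leaf 0x160) (.leaf 0x161)) (.node 1 (.leaf 0x162) (.leaf 0x163))) (.node 2 (.node 1 (.leaf 0x164) (.leaf 0x165)) (.node 1 (.leaf 0x166) (.leaf 0x167)))) (.node 4 (.node 2 (.node 1 (.leaf 0x168) (.leaf 0x169)) (.node 1 (.leaf 0x16a) (.leaf 0x16b))) (.node 2 (.node 1 (.leaf 0x16c) (.leaf 0x16d)) (.node 1 (.leaf 0x16e) (.leaf 0x16f)))))))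

def mulP_3 : Tree :=
  .node 64 (.node 32 (.node 16 (.node 8 (.node 4 (.node 2 (.node 1 (.leaf 0x1b0) (.leaf 0x1b1)) (.node 1 (.leaf 0x1b2) (.leaf 0x1b3))) (.node 2 (.node 1 (.leaf 0x1b4) (.leaf 0x1b5)) (.node 1 (.leaf 0x1b6) (.leaf 0x1b7)))) (.node 4 (.node 2 (.node 1 (.leaf 0x1b8) (.leaf 0x1b9)) (.node 1 (.leaf 0x1ba) (.leaf 0x1bb))) (.node 2 (.node 1 (.leaf 0x1bc) (.leaf 0x1bd)) (.node 1 (.leaf 0x1be) (.leaf 0x1bf))))) (.node 8 (.node 4 (.node 2 (.node 1 (.leaf 0x1d0) (.leaf 0x1d1)) (.node 1 (.leaf 0x1d2) (.leaf 0x1d3))) (.node 2 (.node 1 (.leaf 0x1d4) (.leaf 0x1d5)) (.node 1 (.leaf 0x1d6) (.leaf 0x1d7)))) (.node 4 (.node 2 (.node 1 (.leaf 0x1d8) (.leaf 0x1d9)) (.node 1 (.leaf 0x1da) (.leaf 0x1db))) (.node 2 (.node 1 (.leaf 0x1dc) (.leaf 0x1dd)) (.node 1 (.leaf 0x1de) (.leaf 0x1df)))))) (.node 16 (.node 8 (.node 4 (.node 2 (.node 1 (.leaf 0x220) (.leaf 0x221)) (.node 1 (.leaf 0x222) (.leaf 0x223))) (.node 2 (.node 1 (.leaf 0x224)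 (.leaf 0x225)) (.node 1 (.leaf 0x226) (.leaf 0x227)))) (.node 4 (.node 2 (.node 1 (.leaf 0x228) (.leaf 0x229)) (.node 1 (.leaf 0x22a) (.leaf 0x22b))) (.node 2 (.node 1 (.leaf 0x22c) (.leaf 0x22d)) (.node 1 (.leaf 0x22e) (.leaf 0x22f))))) (.node 8 (.node 4 (.node 2 (.node 1 (.leaf 0x180) (.leaf 0x181)) (.node 1 (.leaf 0x182) (.leaf 0x183))) (.node 2 (.node 1 (.leaf 0x184) (.leaf 0x185)) (.node 1 (.leaf 0x186) (.leaf 0x187)))) (.node 4 (.node 2 (.node 1 (.leaf 0x188) (.leaf 0x189)) (.node 1 (.leaf 0x18a) (.leaf 0x18b))) (.node 2 (.node 1 (.leaf 0x18c) (.leaf 0x18d)) (.node 1 (.leaf 0x18e) (.leaf 0x18f))))))) (.node 32 (.node 16 (.node 8 (.node 4 (.node 2 (.node 1 (.leaf 0x240) (.leaf 0x241)) (.node 1 (.leaf 0x242) (.leaf 0x243))) (.node 2 (.node 1 (.leaf 0x244) (.leaf 0x245)) (.node 1 (.leaf 0x246) (.leaf 0x247)))) (.node 4 (.node 2 (.node 1 (.leaf 0x248) (.leaf 0x249)) (.node 1 (.leaf 0x24a) (.leaf 0x24b))) (.node 2 (.node 1 (.leaf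 0x24c) (.leaf 0x24d)) (.node 1 (.leaf 0x24e) (.leaf 0x24f))))) (.node 8 (.node 4 (.node 2 (.node 1 (.leaf 0x190) (.leaf 0x191)) (.node 1 (.leaf 0x192) (.leaf 0x193))) (.node 2 (.node 1 (.leaf 0x194) (.leaf 0x195)) (.node 1 (.leaf 0x196) (.leaf 0x197)))) (.node 4 (.node 2 (.node 1 (.leaf 0x198) (.leaf 0x199)) (.node 1 (.leaf 0x19a) (.leaf 0x19b))) (.node 2 (.node 1 (.leaf 0x19c) (.leaf 0x19d)) (.node 1 (.leaf 0x19e) (.leaf 0x19f)))))) (.node 16 (.node 8 (.node 4 (.node 2 (.node 1 (.leaf 0x230) (.leaf 0x231)) (.node 1 (.leaf 0x232) (.leaf 0x233))) (.node 2 (.node 1 (.leaf 0x234) (.leaf 0x235)) (.node 1 (.leaf 0x236) (.leaf 0x237)))) (.node 4 (.node 2 (.node 1 (.leaf 0x238) (.leaf 0x239)) (.node 1 (.leaf 0x23a) (.leaf 0x23b))) (.node 2 (.node 1 (.leaf 0x23c) (.leaf 0x23d)) (.node 1 (.leaf 0x23e) (.leaf 0x23f))))) (.node 8 (.node 4 (.node 2 (.node 1 (.leaf 0x250) (.leaf 0x251)) (.node 1 (.leaf 0x252) (.leaf 0x253))) (.node 2 (.node 1 (.leaf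 0x254) (.leaf 0x255)) (.node 1 (.leaf 0x256) (.leaf 0x257)))) (.node 4 (.node 2 (.node 1 (.leaf 0x258) (.leaf 0x259)) (.node 1 (.leaf 0x25a) (.leaf 0x25b))) (.node 2 (.node 1 (.leaf 0x25c) (.leaf 0x25d)) (.node 1 (.leaf 0x25e) (.leaf 0x25f)))))))

def mulP_4 : Tree :=
  .node 64 (.node 32 (.node 16 (.node 8 (.node 4 (.node 2 (.node 1 (.leaf 0x270) (.leaf 0x271)) (.node 1 (.leaf 0x272) (.leaf 0x273))) (.node 2 (.node 1 (.leaf 0x274) (.leaf 0x275)) (.node 1 (.leaf 0x276) (.leaf 0x277)))) (.node 4 (.node 2 (.node 1 (.leaf 0x278) (.leaf 0x279)) (.node 1 (.leaf 0x27a) (.leaf 0x27b))) (.node 2 (.node 1 (.leaf 0x27c) (.leaf 0x27d)) (.node 1 (.leaf 0x27e) (.leaf 0x27f))))) (.node 8 (.node 4 (.node 2 (.node 1 (.leaf 0x260) (.leaf 0x261)) (.node 1 (.leaf 0x262) (.leaf 0x263))) (.node 2 (.node 1 (.leaf 0x264) (.leaf 0x265)) (.node 1 (.leaf 0x266) (.leaf 0x267)))) (.node 4 (.node 2 (.node 1 (.leaf 0x268) (.leaf 0x269)) (.node 1 (.leaf 0x26a) (.leaf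 0x26b))) (.node 2 (.node 1 (.leaf 0x26c) (.leaf 0x26d)) (.node 1 (.leaf 0x26e) (.leaf 0x26f)))))) (.node 16 (.node 8 (.node 4 (.node 2 (.node 1 (.leaf 0x1a0) (.leaf 0x1a1)) (.node 1 (.leaf 0x1a2) (.leaf 0x1a3))) (.node 2 (.node 1 (.leaf 0x1a4) (.leaf 0x1a5)) (.node 1 (.leaf 0x1a6) (.leaf 0x1a7)))) (.node 4 (.node 2 (.node 1 (.leaf 0x1a8) (.leaf 0x1a9)) (.node 1 (.leaf 0x1aa) (.leaf 0x1ab))) (.node 2 (.node 1 (.leaf 0x1ac) (.leaf 0x1ad)) (.node 1 (.leaf 0x1ae) (.leaf 0x1af))))) (.node 8 (.node 4 (.node 2 (.node 1 (.leaf 0x1e0) (.leaf 0x1e1)) (.node 1 (.leaf 0x1e2) (.leaf 0x1e3))) (.node 2 (.node 1 (.leaf 0x1e4) (.leaf 0x1e5)) (.node 1 (.leaf 0x1e6) (.leaf 0x1e7)))) (.node 4 (.node 2 (.node 1 (.leaf 0x1e8) (.leaf 0x1e9)) (.node 1 (.leaf 0x1ea) (.leaf 0x1eb))) (.node 2 (.node 1 (.leaf 0x1ec) (.leaf 0x1ed)) (.node 1 (.leaf 0x1ee) (.leaf 0x1ef))))))) (.node 32 (.node 16 (.node 8 (.node 4 (.node 2 (.node 1 (.leaf 0x1c0) (.leaf 0x1c1)) (.node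 1 (.leaf 0x1c2) (.leaf 0x1c3))) (.node 2 (.node 1 (.leaf 0x1c4) (.leaf 0x1c5)) (.node 1 (.leaf 0x1c6) (.leaf 0x1c7)))) (.node 4 (.node 2 (.node 1 (.leaf 0x1c8) (.leaf 0x1c9)) (.node 1 (.leaf 0x1ca) (.leaf 0x1cb))) (.node 2 (.node 1 (.leaf 0x1cc) (.leaf 0x1cd)) (.node 1 (.leaf 0x1ce) (.leaf 0x1cf))))) (.node 8 (.node 4 (.node 2 (.node 1 (.leaf 0x1f0) (.leaf 0x1f1)) (.node 1 (.leaf 0x1f2) (.leaf 0x1f3))) (.node 2 (.node 1 (.leaf 0x1f4) (.leaf 0x1f5)) (.node 1 (.leaf 0x1f6) (.leaf 0x1f7)))) (.node 4 (.node 2 (.node 1 (.leaf 0x1f8) (.leaf 0x1f9)) (.node 1 (.leaf 0x1fa) (.leaf 0x1fb))) (.node 2 (.node 1 (.leaf 0x1fc) (.leaf 0x1fd)) (.node 1 (.leaf 0x1fe) (.leaf 0x1ff)))))) (.node 16 (.node 8 (.node 4 (.node 2 (.node 1 (.leaf 0x210) (.leaf 0x211)) (.node 1 (.leaf 0x212) (.leaf 0x213))) (.node 2 (.node 1 (.leaf 0x214) (.leaf 0x215)) (.node 1 (.leaf 0x216) (.leaf 0x217)))) (.node 4 (.node 2 (.node 1 (.leaf 0x218) (.leaf 0x219)) (.node 1 (.leaf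 0x21a) (.leaf 0x21b))) (.node 2 (.node 1 (.leaf 0x21c) (.leaf 0x21d)) (.node 1 (.leaf 0x21e) (.leaf 0x21f))))) (.node 8 (.node 4 (.node 2 (.node 1 (.leaf 0x200) (.leaf 0x201)) (.node 1 (.leaf 0x202) (.leaf 0x203))) (.node 2 (.node 1 (.leaf 0x204) (.leaf 0x205)) (.node 1 (.leaf 0x206) (.leaf 0x207)))) (.node 4 (.node 2 (.node 1 (.leaf 0x208) (.leaf 0x209)) (.node 1 (.leaf 0x20a) (.leaf 0x20b))) (.node 2 (.node 1 (.leaf 0x20c) (.leaf 0x20d)) (.node 1 (.leaf 0x20e) (.leaf 0x20f)))))))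

def mulP_5 : Tree :=
  .node 64 (.node 32 (.node 16 (.node 8 (.node 4 (.node 2 (.node 1 (.leaf 0x2e0) (.leaf 0x2e1)) (.node 1 (.leaf 0x2e2) (.leaf 0x2e3))) (.node 2 (.node 1 (.leaf 0x2e4) (.leaf 0x2e5)) (.node 1 (.leaf 0x2e6) (.leaf 0x2e7)))) (.node 4 (.node 2 (.node 1 (.leaf 0x2e8) (.leaf 0x2e9)) (.node 1 (.leaf 0x2ea) (.leaf 0x2eb))) (.node 2 (.node 1 (.leaf 0x2ec) (.leaf 0x2ed)) (.node 1 (.leaf 0x2ee) (.leaf 0x2ef))))) (.node 8 (.node 4 (.node 2 (.node 1 (.leaf 0x310) (.leaf 0x311)) (.node 1 (.leaf 0x312) (.leaf 0x313))) (.node 2 (.node 1 (.leaf 0x314) (.leaf 0x315)) (.node 1 (.leaf 0x316) (.leaf 0x317)))) (.node 4 (.node 2 (.node 1 (.leaf 0x318) (.leaf 0x319)) (.node 1 (.leaf 0x31a) (.leaf 0x31b))) (.node 2 (.node 1 (.leaf 0x31c) (.leaf 0x31d)) (.node 1 (.leaf 0x31e) (.leaf 0x31f)))))) (.node 16 (.node 8 (.node 4 (.node 2 (.node 1 (.leaf 0x300) (.leaf 0x301)) (.node 1 (.leaf 0x302) (.leaf 0x303))) (.node 2 (.node 1 (.leaf 0x304)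 (.leaf 0x305)) (.node 1 (.leaf 0x306) (.leaf 0x307)))) (.node 4 (.node 2 (.node 1 (.leaf 0x308) (.leaf 0x309)) (.node 1 (.leaf 0x30a) (.leaf 0x30b))) (.node 2 (.node 1 (.leaf 0x30c) (.leaf 0x30d)) (.node 1 (.leaf 0x30e) (.leaf 0x30f))))) (.node 8 (.node 4 (.node 2 (.node 1 (.leaf 0x330) (.leaf 0x331)) (.node 1 (.leaf 0x332) (.leaf 0x333))) (.node 2 (.node 1 (.leaf 0x334) (.leaf 0x335)) (.node 1 (.leaf 0x336) (.leaf 0x337)))) (.node 4 (.node 2 (.node 1 (.leaf 0x338) (.leaf 0x339)) (.node 1 (.leaf 0x33a) (.leaf 0x33b))) (.node 2 (.node 1 (.leaf 0x33c) (.leaf 0x33d)) (.node 1 (.leaf 0x33e) (.leaf 0x33f))))))) (.node 32 (.node 16 (.node 8 (.node 4 (.node 2 (.node 1 (.leaf 0x360) (.leaf 0x361)) (.node 1 (.leaf 0x362) (.leaf 0x363))) (.node 2 (.node 1 (.leaf 0x364) (.leaf 0x365)) (.node 1 (.leaf 0x366) (.leaf 0x367)))) (.node 4 (.node 2 (.node 1 (.leaf 0x368) (.leaf 0x369)) (.node 1 (.leaf 0x36a) (.leaf 0x36b))) (.node 2 (.node 1 (.leaf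 0x36c) (.leaf 0x36d)) (.node 1 (.leaf 0x36e) (.leaf 0x36f))))) (.node 8 (.node 4 (.node 2 (.node 1 (.leaf 0x350) (.leaf 0x351)) (.node 1 (.leaf 0x352) (.leaf 0x353))) (.node 2 (.node 1 (.leaf 0x354) (.leaf 0x355)) (.node 1 (.leaf 0x356) (.leaf 0x357)))) (.node 4 (.node 2 (.node 1 (.leaf 0x358) (.leaf 0x359)) (.node 1 (.leaf 0x35a) (.leaf 0x35b))) (.node 2 (.node 1 (.leaf 0x35c) (.leaf 0x35d)) (.node 1 (.leaf 0x35e) (.leaf 0x35f)))))) (.node 16 (.node 8 (.node 4 (.node 2 (.node 1 (.leaf 0x280) (.leaf 0x281)) (.node 1 (.leaf 0x282) (.leaf 0x283))) (.node 2 (.node 1 (.leaf 0x284) (.leaf 0x285)) (.node 1 (.leaf 0x286) (.leaf 0x287)))) (.node 4 (.node 2 (.node 1 (.leaf 0x288) (.leaf 0x289)) (.node 1 (.leaf 0x28a) (.leaf 0x28b))) (.node 2 (.node 1 (.leaf 0x28c) (.leaf 0x28d)) (.node 1 (.leaf 0x28e) (.leaf 0x28f))))) (.node 8 (.node 4 (.node 2 (.node 1 (.leaf 0x320) (.leaf 0x321)) (.node 1 (.leaf 0x322) (.leaf 0x323))) (.node 2 (.node 1 (.leaf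 0x324) (.leaf 0x325)) (.node 1 (.leaf 0x326) (.leaf 0x327)))) (.node 4 (.node 2 (.node 1 (.leaf 0x328) (.leaf 0x329)) (.node 1 (.leaf 0x32a) (.leaf 0x32b))) (.node 2 (.node 1 (.leaf 0x32c) (.leaf 0x32d)) (.node 1 (.leaf 0x32e) (.leaf 0x32f)))))))

def mulP_6 : Tree :=
  .node 64 (.node 32 (.node 16 (.node 8 (.node 4 (.node 2 (.node 1 (.leaf 0x2a0) (.leaf 0x2a1)) (.node 1 (.leaf 0x2a2) (.leaf 0x2a3))) (.node 2 (.node 1 (.leaf 0x2a4) (.leaf 0x2a5)) (.node 1 (.leaf 0x2a6) (.leaf 0x2a7)))) (.node 4 (.node 2 (.node 1 (.leaf 0x2a8) (.leaf 0x2a9)) (.node 1 (.leaf 0x2aa) (.leaf 0x2ab))) (.node 2 (.node 1 (.leaf 0x2ac) (.leaf 0x2ad)) (.node 1 (.leaf 0x2ae) (.leaf 0x2af))))) (.node 8 (.node 4 (.node 2 (.node 1 (.leaf 0x290) (.leaf 0x291)) (.node 1 (.leaf 0x292) (.leaf 0x293))) (.node 2 (.node 1 (.leaf 0x294) (.leaf 0x295)) (.node 1 (.leaf 0x296) (.leaf 0x297)))) (.node 4 (.node 2 (.node 1 (.leaf 0x298) (.leaf 0x299)) (.node 1 (.leaf 0x29a) (.leaf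 0x29b))) (.node 2 (.node 1 (.leaf 0x29c) (.leaf 0x29d)) (.node 1 (.leaf 0x29e) (.leaf 0x29f)))))) (.node 16 (.node 8 (.node 4 (.node 2 (.node 1 (.leaf 0x2f0) (.leaf 0x2f1)) (.node 1 (.leaf 0x2f2) (.leaf 0x2f3))) (.node 2 (.node 1 (.leaf 0x2f4) (.leaf 0x2f5)) (.node 1 (.leaf 0x2f6) (.leaf 0x2f7)))) (.node 4 (.node 2 (.node 1 (.leaf 0x2f8) (.leaf 0x2f9)) (.node 1 (.leaf 0x2fa) (.leaf 0x2fb))) (.node 2 (.node 1 (.leaf 0x2fc) (.leaf 0x2fd)) (.node 1 (.leaf 0x2fe) (.leaf 0x2ff))))) (.node 8 (.node 4 (.node 2 (.node 1 (.leaf 0x2b0) (.leaf 0x2b1)) (.node 1 (.leaf 0x2b2) (.leaf 0x2b3))) (.node 2 (.node 1 (.leaf 0x2b4) (.leaf 0x2b5)) (.node 1 (.leaf 0x2b6) (.leaf 0x2b7)))) (.node 4 (.node 2 (.node 1 (.leaf 0x2b8) (.leaf 0x2b9)) (.node 1 (.leaf 0x2ba) (.leaf 0x2bb))) (.node 2 (.node 1 (.leaf 0x2bc) (.leaf 0x2bd)) (.node 1 (.leaf 0x2be) (.leaf 0x2bf))))))) (.node 32 (.node 16 (.node 8 (.node 4 (.node 2 (.node 1 (.leaf 0x370) (.leaf 0x371)) (.node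 1 (.leaf 0x372) (.leaf 0x373))) (.node 2 (.node 1 (.leaf 0x374) (.leaf 0x375)) (.node 1 (.leaf 0x376) (.leaf 0x377)))) (.node 4 (.node 2 (.node 1 (.leaf 0x378) (.leaf 0x379)) (.node 1 (.leaf 0x37a) (.leaf 0x37b))) (.node 2 (.node 1 (.leaf 0x37c) (.leaf 0x37d)) (.node 1 (.leaf 0x37e) (.leaf 0x37f))))) (.node 8 (.node 4 (.node 2 (.node 1 (.leaf 0x2d0) (.leaf 0x2d1)) (.node 1 (.leaf 0x2d2) (.leaf 0x2d3))) (.node 2 (.node 1 (.leaf 0x2d4) (.leaf 0x2d5)) (.node 1 (.leaf 0x2d6) (.leaf 0x2d7)))) (.node 4 (.node 2 (.node 1 (.leaf 0x2d8) (.leaf 0x2d9)) (.node 1 (.leaf 0x2da) (.leaf 0x2db))) (.node 2 (.node 1 (.leaf 0x2dc) (.leaf 0x2dd)) (.node 1 (.leaf 0x2de) (.leaf 0x2df)))))) (.node 16 (.node 8 (.node 4 (.node 2 (.node 1 (.leaf 0x2c0) (.leaf 0x2c1)) (.node 1 (.leaf 0x2c2) (.leaf 0x2c3))) (.node 2 (.node 1 (.leaf 0x2c4) (.leaf 0x2c5)) (.node 1 (.leaf 0x2c6) (.leaf 0x2c7)))) (.node 4 (.node 2 (.node 1 (.leaf 0x2c8) (.leaf 0x2c9)) (.node 1 (.leaf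 0x2ca) (.leaf 0x2cb))) (.node 2 (.node 1 (.leaf 0x2cc) (.leaf 0x2cd)) (.node 1 (.leaf 0x2ce) (.leaf 0x2cf))))) (.node 8 (.node 4 (.node 2 (.node 1 (.leaf 0x340) (.leaf 0x341)) (.node 1 (.leaf 0x342) (.leaf 0x343))) (.node 2 (.node 1 (.leaf 0x344) (.leaf 0x345)) (.node 1 (.leaf 0x346) (.leaf 0x347)))) (.node 4 (.node 2 (.node 1 (.leaf 0x348) (.leaf 0x349)) (.node 1 (.leaf 0x34a) (.leaf 0x34b))) (.node 2 (.node 1 (.leaf 0x34c) (.leaf 0x34d)) (.node 1 (.leaf 0x34e) (.leaf 0x34f)))))))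

def mulP_7 : Tree :=
  .node 64 (.node 32 (.node 16 (.node 8 (.node 4 (.node 2 (.node 1 (.leaf 0x3a0) (.leaf 0x3a1)) (.node 1 (.leaf 0x3a2) (.leaf 0x3a3))) (.node 2 (.node 1 (.leaf 0x3a4) (.leaf 0x3a5)) (.node 1 (.leaf 0x3a6) (.leaf 0x3a7)))) (.node 4 (.node 2 (.node 1 (.leaf 0x3a8) (.leaf 0x3a9)) (.node 1 (.leaf 0x3aa) (.leaf 0x3ab))) (.node 2 (.node 1 (.leaf 0x3ac) (.leaf 0x3ad)) (.node 1 (.leaf 0x3ae) (.leaf 0x3af))))) (.node 8 (.node 4 (.node 2 (.node 1 (.leaf 0x3d0) (.leaf 0x3d1)) (.node 1 (.leaf 0x3d2) (.leaf 0x3d3))) (.node 2 (.node 1 (.leaf 0x3d4) (.leaf 0x3d5)) (.node 1 (.leaf 0x3d6) (.leaf 0x3d7)))) (.node 4 (.node 2 (.node 1 (.leaf 0x3d8) (.leaf 0x3d9)) (.node 1 (.leaf 0x3da) (.leaf 0x3db))) (.node 2 (.node 1 (.leaf 0x3dc) (.leaf 0x3dd)) (.node 1 (.leaf 0x3de) (.leaf 0x3df)))))) (.node 16 (.node 8 (.node 4 (.node 2 (.node 1 (.leaf 0x380) (.leaf 0x381)) (.node 1 (.leaf 0x382) (.leaf 0x383))) (.node 2 (.node 1 (.leaf 0x384)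 (.leaf 0x385)) (.node 1 (.leaf 0x386) (.leaf 0x387)))) (.node 4 (.node 2 (.node 1 (.leaf 0x388) (.leaf 0x389)) (.node 1 (.leaf 0x38a) (.leaf 0x38b))) (.node 2 (.node 1 (.leaf 0x38c) (.leaf 0x38d)) (.node 1 (.leaf 0x38e) (.leaf 0x38f))))) (.node 8 (.node 4 (.node 2 (.node 1 (.leaf 0x3e0) (.leaf 0x3e1)) (.node 1 (.leaf 0x3e2) (.leaf 0x3e3))) (.node 2 (.node 1 (.leaf 0x3e4) (.leaf 0x3e5)) (.node 1 (.leaf 0x3e6) (.leaf 0x3e7)))) (.node 4 (.node 2 (.node 1 (.leaf 0x3e8) (.leaf 0x3e9)) (.node 1 (.leaf 0x3ea) (.leaf 0x3eb))) (.node 2 (.node 1 (.leaf 0x3ec) (.leaf 0x3ed)) (.node 1 (.leaf 0x3ee) (.leaf 0x3ef))))))) (.node 32 (.node 16 (.node 8 (.node 4 (.node 2 (.node 1 (.leaf 0x3f0) (.leaf 0x3f1)) (.node 1 (.leaf 0x3f2) (.leaf 0x3f3))) (.node 2 (.node 1 (.leaf 0x3f4) (.leaf 0x3f5)) (.node 1 (.leaf 0x3f6) (.leaf 0x3f7)))) (.node 4 (.node 2 (.node 1 (.leaf 0x3f8) (.leaf 0x3f9)) (.node 1 (.leaf 0x3fa) (.leaf 0x3fb))) (.node 2 (.node 1 (.leaf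 0x3fc) (.leaf 0x3fd)) (.node 1 (.leaf 0x3fe) (.leaf 0x3ff))))) (.node 8 (.node 4 (.node 2 (.node 1 (.leaf 0x390) (.leaf 0x391)) (.node 1 (.leaf 0x392) (.leaf 0x393))) (.node 2 (.node 1 (.leaf 0x394) (.leaf 0x395)) (.node 1 (.leaf 0x396) (.leaf 0x397)))) (.node 4 (.node 2 (.node 1 (.leaf 0x398) (.leaf 0x399)) (.node 1 (.leaf 0x39a) (.leaf 0x39b))) (.node 2 (.node 1 (.leaf 0x39c) (.leaf 0x39d)) (.node 1 (.leaf 0x39e) (.leaf 0x39f)))))) (.node 16 (.node 8 (.node 4 (.node 2 (.node 1 (.leaf 0x3b0) (.leaf 0x3b1)) (.node 1 (.leaf 0x3b2) (.leaf 0x3b3))) (.node 2 (.node 1 (.leaf 0x3b4) (.leaf 0x3b5)) (.node 1 (.leaf 0x3b6) (.leaf 0x3b7)))) (.node 4 (.node 2 (.node 1 (.leaf 0x3b8) (.leaf 0x3b9)) (.node 1 (.leaf 0x3ba) (.leaf 0x3bb))) (.node 2 (.node 1 (.leaf 0x3bc) (.leaf 0x3bd)) (.node 1 (.leaf 0x3be) (.leaf 0x3bf))))) (.node 8 (.node 4 (.node 2 (.node 1 (.leaf 0x3c0) (.leaf 0x3c1)) (.node 1 (.leaf 0x3c2) (.leaf 0x3c3))) (.node 2 (.node 1 (.leaf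 0x3c4) (.leaf 0x3c5)) (.node 1 (.leaf 0x3c6) (.leaf 0x3c7)))) (.node 4 (.node 2 (.node 1 (.leaf 0x3c8) (.leaf 0x3c9)) (.node 1 (.leaf 0x3ca) (.leaf 0x3cb))) (.node 2 (.node 1 (.leaf 0x3cc) (.leaf 0x3cd)) (.node 1 (.leaf 0x3ce) (.leaf 0x3cf)))))))

def mulP_8 : Tree :=
  .node 64 (.node 32 (.node 16 (.node 8 (.node 4 (.node 2 (.node 1 (.leaf 0x111) (.leaf 0x41)) (.node 1 (.leaf 0x42) (.leaf 0x43))) (.node 2 (.node 1 (.leaf 0x44) (.leaf 0x45)) (.node 1 (.leaf 0x46) (.leaf 0x47)))) (.node 4 (.node 2 (.node 1 (.leaf 0x48) (.leaf 0x49)) (.node 1 (.leaf 0x4a) (.leaf 0x4b))) (.node 2 (.node 1 (.leaf 0x4c) (.leaf 0x4d)) (.node 1 (.leaf 0x4e) (.leaf 0x4f))))) (.node 8 (.node 4 (.node 2 (.node 1 (.leaf 0x50) (.leaf 0x71)) (.node 1 (.leaf 0x72) (.leaf 0x73))) (.node 2 (.node 1 (.leaf 0x74) (.leaf 0x75)) (.node 1 (.leaf 0x76) (.leaf 0x77)))) (.node 4 (.node 2 (.node 1 (.leaf 0x78) (.leaf 0x79)) (.node 1 (.leaf 0x7a) (.leaf 0x7b))) (.node 2 (.node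 1 (.leaf 0x7c) (.leaf 0x7d)) (.node 1 (.leaf 0x7e) (.leaf 0x7f)))))) (.node 16 (.node 8 (.node 4 (.node 2 (.node 1 (.leaf 0x80) (.leaf 0xa0)) (.node 1 (.leaf 0xa1) (.leaf 0xa2))) (.node 2 (.node 1 (.leaf 0xa3) (.leaf 0xa4)) (.node 1 (.leaf 0xa5) (.leaf 0xa6)))) (.node 4 (.node 2 (.node 1 (.leaf 0xa7) (.leaf 0xa8)) (.node 1 (.leaf 0xa9) (.leaf 0xaa))) (.node 2 (.node 1 (.leaf 0xab) (.leaf 0xac)) (.node 1 (.leaf 0xad) (.leaf 0xae))))) (.node 8 (.node 4 (.node 2 (.node 1 (.leaf 0xaf) (.leaf 0xb0)) (.node 1 (.leaf 0xb1) (.leaf 0xb2))) (.node 2 (.node 1 (.leaf 0xb3) (.leaf 0xb4)) (.node 1 (.leaf 0xb5) (.leaf 0xb6)))) (.node 4 (.node 2 (.node 1 (.leaf 0xb7) (.leaf 0xb8)) (.node 1 (.leaf 0xb9) (.leaf 0xba))) (.node 2 (.node 1 (.leaf 0xbb) (.leaf 0xbc)) (.node 1 (.leaf 0xbd) (.leaf 0xbe))))))) (.node 32 (.node 16 (.node 8 (.node 4 (.node 2 (.node 1 (.leaf 0xbf) (.leaf 0x1)) (.node 1 (.leaf 0x2) (.leaf 0x3))) (.node 2 (.node 1 (.leaf 0x4) (.leaf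 0x5)) (.node 1 (.leaf 0x6) (.leaf 0x7)))) (.node 4 (.node 2 (.node 1 (.leaf 0x8) (.leaf 0x9)) (.node 1 (.leaf 0xa) (.leaf 0xb))) (.node 2 (.node 1 (.leaf 0xc) (.leaf 0xd)) (.node 1 (.leaf 0xe) (.leaf 0xf))))) (.node 8 (.node 4 (.node 2 (.node 1 (.leaf 0x10) (.leaf 0xe0)) (.node 1 (.leaf 0xe1) (.leaf 0xe2))) (.node 2 (.node 1 (.leaf 0xe3) (.leaf 0xe4)) (.node 1 (.leaf 0xe5) (.leaf 0xe6)))) (.node 4 (.node 2 (.node 1 (.leaf 0xe7) (.leaf 0xe8)) (.node 1 (.leaf 0xe9) (.leaf 0xea))) (.node 2 (.node 1 (.leaf 0xeb) (.leaf 0xec)) (.node 1 (.leaf 0xed) (.leaf 0xee)))))) (.node 16 (.node 8 (.node 4 (.node 2 (.node 1 (.leaf 0xef) (.leaf 0xf0)) (.node 1 (.leaf 0xf1) (.leaf 0xf2))) (.node 2 (.node 1 (.leaf 0xf3) (.leaf 0xf4)) (.node 1 (.leaf 0xf5) (.leaf 0xf6)))) (.node 4 (.node 2 (.node 1 (.leaf 0xf7) (.leaf 0xf8)) (.node 1 (.leaf 0xf9) (.leaf 0xfa))) (.node 2 (.node 1 (.leaf 0xfb) (.leaf 0xfc)) (.node 1 (.leaf 0xfd) (.leaf 0xfe))))) (.node 8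 (.node 4 (.node 2 (.node 1 (.leaf 0xff) (.leaf 0x11)) (.node 1 (.leaf 0x12) (.leaf 0x13))) (.node 2 (.node 1 (.leaf 0x14) (.leaf 0x15)) (.node 1 (.leaf 0x16) (.leaf 0x17)))) (.node 4 (.node 2 (.node 1 (.leaf 0x18) (.leaf 0x19)) (.node 1 (.leaf 0x1a) (.leaf 0x1b))) (.node 2 (.node 1 (.leaf 0x1c) (.leaf 0x1d)) (.node 1 (.leaf 0x1e) (.leaf 0x1f)))))))

def mulP_9 : Tree :=
  .node 64 (.node 32 (.node 16 (.node 8 (.node 4 (.node 2 (.node 1 (.leaf 0x20) (.leaf 0x110)) (.node 1 (.leaf 0x112) (.leaf 0x113))) (.node 2 (.node 1 (.leaf 0x114) (.leaf 0x115)) (.node 1 (.leaf 0x116) (.leaf 0x117)))) (.node 4 (.node 2 (.node 1 (.leaf 0x118) (.leaf 0x119)) (.node 1 (.leaf 0x11a) (.leaf 0x11b))) (.node 2 (.node 1 (.leaf 0x11c) (.leaf 0x11d)) (.node 1 (.leaf 0x11e) (.leaf 0x11f))))) (.node 8 (.node 4 (.node 2 (.node 1 (.leaf 0x120) (.leaf 0x121)) (.node 1 (.leaf 0x122) (.leaf 0x123))) (.node 2 (.node 1 (.leaf 0x124) (.leaf 0x125)) (.node 1 (.leaf 0x126)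 (.leaf 0x127)))) (.node 4 (.node 2 (.node 1 (.leaf 0x128) (.leaf 0x129)) (.node 1 (.leaf 0x12a) (.leaf 0x12b))) (.node 2 (.node 1 (.leaf 0x12c) (.leaf 0x12d)) (.node 1 (.leaf 0x12e) (.leaf 0x12f)))))) (.node 16 (.node 8 (.node 4 (.node 2 (.node 1 (.leaf 0x21) (.leaf 0x22)) (.node 1 (.leaf 0x23) (.leaf 0x24))) (.node 2 (.node 1 (.leaf 0x25) (.leaf 0x26)) (.node 1 (.leaf 0x27) (.leaf 0x28)))) (.node 4 (.node 2 (.node 1 (.leaf 0x29) (.leaf 0x2a)) (.node 1 (.leaf 0x2b) (.leaf 0x2c))) (.node 2 (.node 1 (.leaf 0x2d) (.leaf 0x2e)) (.node 1 (.leaf 0x2f) (.leaf 0x30))))) (.node 8 (.node 4 (.node 2 (.node 1 (.leaf 0x31) (.leaf 0x32)) (.node 1 (.leaf 0x33) (.leaf 0x34))) (.node 2 (.node 1 (.leaf 0x35) (.leaf 0x36)) (.node 1 (.leaf 0x37) (.leaf 0x38)))) (.node 4 (.node 2 (.node 1 (.leaf 0x39) (.leaf 0x3a)) (.node 1 (.leaf 0x3b) (.leaf 0x3c))) (.node 2 (.node 1 (.leaf 0x3d) (.leaf 0x3e)) (.node 1 (.leaf 0x3f) (.leaf 0x40))))))) (.node 32 (.node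 16 (.node 8 (.node 4 (.node 2 (.node 1 (.leaf 0x140) (.leaf 0x141)) (.node 1 (.leaf 0x142) (.leaf 0x143))) (.node 2 (.node 1 (.leaf 0x144) (.leaf 0x145)) (.node 1 (.leaf 0x146) (.leaf 0x147)))) (.node 4 (.node 2 (.node 1 (.leaf 0x148) (.leaf 0x149)) (.node 1 (.leaf 0x14a) (.leaf 0x14b))) (.node 2 (.node 1 (.leaf 0x14c) (.leaf 0x14d)) (.node 1 (.leaf 0x14e) (.leaf 0x14f))))) (.node 8 (.node 4 (.node 2 (.node 1 (.leaf 0x150) (.leaf 0x151)) (.node 1 (.leaf 0x152) (.leaf 0x153))) (.node 2 (.node 1 (.leaf 0x154) (.leaf 0x155)) (.node 1 (.leaf 0x156) (.leaf 0x157)))) (.node 4 (.node 2 (.node 1 (.leaf 0x158) (.leaf 0x159)) (.node 1 (.leaf 0x15a) (.leaf 0x15b))) (.node 2 (.node 1 (.leaf 0x15c) (.leaf 0x15d)) (.node 1 (.leaf 0x15e) (.leaf 0x15f)))))) (.node 16 (.node 8 (.node 4 (.node 2 (.node 1 (.leaf 0x51) (.leaf 0x52)) (.node 1 (.leaf 0x53) (.leaf 0x54))) (.node 2 (.node 1 (.leaf 0x55) (.leaf 0x56)) (.node 1 (.leaf 0x57) (.leaf 0x58))))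 (.node 4 (.node 2 (.node 1 (.leaf 0x59) (.leaf 0x5a)) (.node 1 (.leaf 0x5b) (.leaf 0x5c))) (.node 2 (.node 1 (.leaf 0x5d) (.leaf 0x5e)) (.node 1 (.leaf 0x5f) (.leaf 0x60))))) (.node 8 (.node 4 (.node 2 (.node 1 (.leaf 0x61) (.leaf 0x62)) (.node 1 (.leaf 0x63) (.leaf 0x64))) (.node 2 (.node 1 (.leaf 0x65) (.leaf 0x66)) (.node 1 (.leaf 0x67) (.leaf 0x68)))) (.node 4 (.node 2 (.node 1 (.leaf 0x69) (.leaf 0x6a)) (.node 1 (.leaf 0x6b) (.leaf 0x6c))) (.node 2 (.node 1 (.leaf 0x6d) (.leaf 0x6e)) (.node 1 (.leaf 0x6f) (.leaf 0x70)))))))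

def mulP_10 : Tree :=
  .node 64 (.node 32 (.node 16 (.node 8 (.node 4 (.node 2 (.node 1 (.leaf 0x160) (.leaf 0x161)) (.node 1 (.leaf 0x162) (.leaf 0x163))) (.node 2 (.node 1 (.leaf 0x164) (.leaf 0x165)) (.node 1 (.leaf 0x166) (.leaf 0x167)))) (.node 4 (.node 2 (.node 1 (.leaf 0x168) (.leaf 0x169)) (.node 1 (.leaf 0x16a) (.leaf 0x16b))) (.node 2 (.node 1 (.leaf 0x16c) (.leaf 0x16d)) (.node 1 (.leaf 0x16e) (.leaf 0x16f))))) (.node 8 (.node 4 (.node 2 (.node 1 (.leaf 0x81) (.leaf 0x0)) (.node 1 (.leaf 0x82) (.leaf 0x83))) (.node 2 (.node 1 (.leaf 0x84) (.leaf 0x85)) (.node 1 (.leaf 0x86) (.leaf 0x87)))) (.node 4 (.node 2 (.node 1 (.leaf 0x88) (.leaf 0x89)) (.node 1 (.leaf 0x8a) (.leaf 0x8b))) (.node 2 (.node 1 (.leaf 0x8c) (.leaf 0x8d)) (.node 1 (.leaf 0x8e) (.leaf 0x8f)))))) (.node 16 (.node 8 (.node 4 (.node 2 (.node 1 (.leaf 0x90) (.leaf 0x91)) (.node 1 (.leaf 0x92) (.leaf 0x93))) (.node 2 (.node 1 (.leaf 0x94) (.leaf 0x95)) (.node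 1 (.leaf 0x96) (.leaf 0x97)))) (.node 4 (.node 2 (.node 1 (.leaf 0x98) (.leaf 0x99)) (.node 1 (.leaf 0x9a) (.leaf 0x9b))) (.node 2 (.node 1 (.leaf 0x9c) (.leaf 0x9d)) (.node 1 (.leaf 0x9e) (.leaf 0x9f))))) (.node 8 (.node 4 (.node 2 (.node 1 (.leaf 0x170) (.leaf 0x171)) (.node 1 (.leaf 0x172) (.leaf 0x173))) (.node 2 (.node 1 (.leaf 0x174) (.leaf 0x175)) (.node 1 (.leaf 0x176) (.leaf 0x177)))) (.node 4 (.node 2 (.node 1 (.leaf 0x178) (.leaf 0x179)) (.node 1 (.leaf 0x17a) (.leaf 0x17b))) (.node 2 (.node 1 (.leaf 0x17c) (.leaf 0x17d)) (.node 1 (.leaf 0x17e) (.leaf 0x17f))))))) (.node 32 (.node 16 (.node 8 (.node 4 (.node 2 (.node 1 (.leaf 0xc0) (.leaf 0xc1)) (.node 1 (.leaf 0xc2) (.leaf 0xc3))) (.node 2 (.node 1 (.leaf 0xc4) (.leaf 0xc5)) (.node 1 (.leaf 0xc6) (.leaf 0xc7)))) (.node 4 (.node 2 (.node 1 (.leaf 0xc8) (.leaf 0xc9)) (.node 1 (.leaf 0xca) (.leaf 0xcb))) (.node 2 (.node 1 (.leaf 0xcc) (.leaf 0xcd)) (.node 1 (.leaf 0xce) (.leaf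 0xcf))))) (.node 8 (.node 4 (.node 2 (.node 1 (.leaf 0xd0) (.leaf 0xd1)) (.node 1 (.leaf 0xd2) (.leaf 0xd3))) (.node 2 (.node 1 (.leaf 0xd4) (.leaf 0xd5)) (.node 1 (.leaf 0xd6) (.leaf 0xd7)))) (.node 4 (.node 2 (.node 1 (.leaf 0xd8) (.leaf 0xd9)) (.node 1 (.leaf 0xda) (.leaf 0xdb))) (.node 2 (.node 1 (.leaf 0xdc) (.leaf 0xdd)) (.node 1 (.leaf 0xde) (.leaf 0xdf)))))) (.node 16 (.node 8 (.node 4 (.node 2 (.node 1 (.leaf 0x100) (.leaf 0x101)) (.node 1 (.leaf 0x102) (.leaf 0x103))) (.node 2 (.node 1 (.leaf 0x104) (.leaf 0x105)) (.node 1 (.leaf 0x106) (.leaf 0x107)))) (.node 4 (.node 2 (.node 1 (.leaf 0x108) (.leaf 0x109)) (.node 1 (.leaf 0x10a) (.leaf 0x10b))) (.node 2 (.node 1 (.leaf 0x10c) (.leaf 0x10d)) (.node 1 (.leaf 0x10e) (.leaf 0x10f))))) (.node 8 (.node 4 (.node 2 (.node 1 (.leaf 0x130) (.leaf 0x131)) (.node 1 (.leaf 0x132) (.leaf 0x133))) (.node 2 (.node 1 (.leaf 0x134) (.leaf 0x135)) (.node 1 (.leaf 0x136) (.leaf 0x137)))) (.node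 4 (.node 2 (.node 1 (.leaf 0x138) (.leaf 0x139)) (.node 1 (.leaf 0x13a) (.leaf 0x13b))) (.node 2 (.node 1 (.leaf 0x13c) (.leaf 0x13d)) (.node 1 (.leaf 0x13e) (.leaf 0x13f)))))))

def mulP_11 : Tree :=
  .node 64 (.node 32 (.node 16 (.node 8 (.node 4 (.node 2 (.node 1 (.leaf 0x1a8) (.leaf 0x1a9)) (.node 1 (.leaf 0x1aa) (.leaf 0x1ab))) (.node 2 (.node 1 (.leaf 0x1ac) (.leaf 0x1ad)) (.node 1 (.leaf 0x1ae) (.leaf 0x1af)))) (.node 4 (.node 2 (.node 1 (.leaf 0x1a0) (.leaf 0x1a1)) (.node 1 (.leaf 0x1a2) (.leaf 0x1a3))) (.node 2 (.node 1 (.leaf 0x1a4) (.leaf 0x1a5)) (.node 1 (.leaf 0x1a6) (.leaf 0x1a7))))) (.node 8 (.node 4 (.node 2 (.node 1 (.leaf 0x214) (.leaf 0x215)) (.node 1 (.leaf 0x216) (.leaf 0x217))) (.node 2 (.node 1 (.leaf 0x210) (.leaf 0x211)) (.node 1 (.leaf 0x212) (.leaf 0x213)))) (.node 4 (.node 2 (.node 1 (.leaf 0x21c) (.leaf 0x21d)) (.node 1 (.leaf 0x21e) (.leaf 0x21f))) (.node 2 (.node 1 (.leaf 0x218) (.leaf 0x219)) (.node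 1 (.leaf 0x21a) (.leaf 0x21b)))))) (.node 16 (.node 8 (.node 4 (.node 2 (.node 1 (.leaf 0x188) (.leaf 0x189)) (.node 1 (.leaf 0x18a) (.leaf 0x18b))) (.node 2 (.node 1 (.leaf 0x18c) (.leaf 0x18d)) (.node 1 (.leaf 0x18e) (.leaf 0x18f)))) (.node 4 (.node 2 (.node 1 (.leaf 0x180) (.leaf 0x181)) (.node 1 (.leaf 0x182) (.leaf 0x183))) (.node 2 (.node 1 (.leaf 0x184) (.leaf 0x185)) (.node 1 (.leaf 0x186) (.leaf 0x187))))) (.node 8 (.node 4 (.node 2 (.node 1 (.leaf 0x228) (.leaf 0x229)) (.node 1 (.leaf 0x22a) (.leaf 0x22b))) (.node 2 (.node 1 (.leaf 0x22c) (.leaf 0x22d)) (.node 1 (.leaf 0x22e) (.leaf 0x22f)))) (.node 4 (.node 2 (.node 1 (.leaf 0x220) (.leaf 0x221)) (.node 1 (.leaf 0x222) (.leaf 0x223))) (.node 2 (.node 1 (.leaf 0x224) (.leaf 0x225)) (.node 1 (.leaf 0x226) (.leaf 0x227))))))) (.node 32 (.node 16 (.node 8 (.node 4 (.node 2 (.node 1 (.leaf 0x208) (.leaf 0x209)) (.node 1 (.leaf 0x20a) (.leaf 0x20b))) (.node 2 (.node 1 (.leaf 0x20c)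 (.leaf 0x20d)) (.node 1 (.leaf 0x20e) (.leaf 0x20f)))) (.node 4 (.node 2 (.node 1 (.leaf 0x200) (.leaf 0x201)) (.node 1 (.leaf 0x202) (.leaf 0x203))) (.node 2 (.node 1 (.leaf 0x204) (.leaf 0x205)) (.node 1 (.leaf 0x206) (.leaf 0x207))))) (.node 8 (.node 4 (.node 2 (.node 1 (.leaf 0x264) (.leaf 0x265)) (.node 1 (.leaf 0x266) (.leaf 0x267))) (.node 2 (.node 1 (.leaf 0x260) (.leaf 0x261)) (.node 1 (.leaf 0x262) (.leaf 0x263)))) (.node 4 (.node 2 (.node 1 (.leaf 0x26c) (.leaf 0x26d)) (.node 1 (.leaf 0x26e) (.leaf 0x26f))) (.node 2 (.node 1 (.leaf 0x268) (.leaf 0x269)) (.node 1 (.leaf 0x26a) (.leaf 0x26b)))))) (.node 16 (.node 8 (.node 4 (.node 2 (.node 1 (.leaf 0x1f4) (.leaf 0x1f5)) (.node 1 (.leaf 0x1f6) (.leaf 0x1f7))) (.node 2 (.node 1 (.leaf 0x1f0) (.leaf 0x1f1)) (.node 1 (.leaf 0x1f2) (.leaf 0x1f3)))) (.node 4 (.node 2 (.node 1 (.leaf 0x1fc) (.leaf 0x1fd)) (.node 1 (.leaf 0x1fe) (.leaf 0x1ff))) (.node 2 (.node 1 (.leaf 0x1f8) (.leaf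 0x1f9)) (.node 1 (.leaf 0x1fa) (.leaf 0x1fb))))) (.node 8 (.node 4 (.node 2 (.node 1 (.leaf 0x1e4) (.leaf 0x1e5)) (.node 1 (.leaf 0x1e6) (.leaf 0x1e7))) (.node 2 (.node 1 (.leaf 0x1e0) (.leaf 0x1e1)) (.node 1 (.leaf 0x1e2) (.leaf 0x1e3)))) (.node 4 (.node 2 (.node 1 (.leaf 0x1ec) (.leaf 0x1ed)) (.node 1 (.leaf 0x1ee) (.leaf 0x1ef))) (.node 2 (.node 1 (.leaf 0x1e8) (.leaf 0x1e9)) (.node 1 (.leaf 0x1ea) (.leaf 0x1eb)))))))

def mulP_12 : Tree :=
  .node 64 (.node 32 (.node 16 (.node 8 (.node 4 (.node 2 (.node 1 (.leaf 0x1c8) (.leaf 0x1c9)) (.node 1 (.leaf 0x1ca) (.leaf 0x1cb))) (.node 2 (.node 1 (.leaf 0x1cc) (.leaf 0x1cd)) (.node 1 (.leaf 0x1ce) (.leaf 0x1cf)))) (.node 4 (.node 2 (.node 1 (.leaf 0x1c0) (.leaf 0x1c1)) (.node 1 (.leaf 0x1c2) (.leaf 0x1c3))) (.node 2 (.node 1 (.leaf 0x1c4) (.leaf 0x1c5)) (.node 1 (.leaf 0x1c6) (.leaf 0x1c7))))) (.node 8 (.node 4 (.node 2 (.node 1 (.leaf 0x194) (.leaf 0x195)) (.node 1 (.leaf 0x196) (.leaf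 0x197))) (.node 2 (.node 1 (.leaf 0x190) (.leaf 0x191)) (.node 1 (.leaf 0x192) (.leaf 0x193)))) (.node 4 (.node 2 (.node 1 (.leaf 0x19c) (.leaf 0x19d)) (.node 1 (.leaf 0x19e) (.leaf 0x19f))) (.node 2 (.node 1 (.leaf 0x198) (.leaf 0x199)) (.node 1 (.leaf 0x19a) (.leaf 0x19b)))))) (.node 16 (.node 8 (.node 4 (.node 2 (.node 1 (.leaf 0x1b8) (.leaf 0x1b9)) (.node 1 (.leaf 0x1ba) (.leaf 0x1bb))) (.node 2 (.node 1 (.leaf 0x1bc) (.leaf 0x1bd)) (.node 1 (.leaf 0x1be) (.leaf 0x1bf)))) (.node 4 (.node 2 (.node 1 (.leaf 0x1b0) (.leaf 0x1b1)) (.node 1 (.leaf 0x1b2) (.leaf 0x1b3))) (.node 2 (.node 1 (.leaf 0x1b4) (.leaf 0x1b5)) (.node 1 (.leaf 0x1b6) (.leaf 0x1b7))))) (.node 8 (.node 4 (.node 2 (.node 1 (.leaf 0x254) (.leaf 0x255)) (.node 1 (.leaf 0x256) (.leaf 0x257))) (.node 2 (.node 1 (.leaf 0x250) (.leaf 0x251)) (.node 1 (.leaf 0x252) (.leaf 0x253)))) (.node 4 (.node 2 (.node 1 (.leaf 0x25c) (.leaf 0x25d)) (.node 1 (.leaf 0x25e) (.leaf 0x25f)))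 (.node 2 (.node 1 (.leaf 0x258) (.leaf 0x259)) (.node 1 (.leaf 0x25a) (.leaf 0x25b))))))) (.node 32 (.node 16 (.node 8 (.node 4 (.node 2 (.node 1 (.leaf 0x278) (.leaf 0x279)) (.node 1 (.leaf 0x27a) (.leaf 0x27b))) (.node 2 (.node 1 (.leaf 0x27c) (.leaf 0x27d)) (.node 1 (.leaf 0x27e) (.leaf 0x27f)))) (.node 4 (.node 2 (.node 1 (.leaf 0x270) (.leaf 0x271)) (.node 1 (.leaf 0x272) (.leaf 0x273))) (.node 2 (.node 1 (.leaf 0x274) (.leaf 0x275)) (.node 1 (.leaf 0x276) (.leaf 0x277))))) (.node 8 (.node 4 (.node 2 (.node 1 (.leaf 0x234) (.leaf 0x235)) (.node 1 (.leaf 0x236) (.leaf 0x237))) (.node 2 (.node 1 (.leaf 0x230) (.leaf 0x231)) (.node 1 (.leaf 0x232) (.leaf 0x233)))) (.node 4 (.node 2 (.node 1 (.leaf 0x23c) (.leaf 0x23d)) (.node 1 (.leaf 0x23e) (.leaf 0x23f))) (.node 2 (.node 1 (.leaf 0x238) (.leaf 0x239)) (.node 1 (.leaf 0x23a) (.leaf 0x23b)))))) (.node 16 (.node 8 (.node 4 (.node 2 (.node 1 (.leaf 0x1d4) (.leaf 0x1d5)) (.node 1 (.leaf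 0x1d6) (.leaf 0x1d7))) (.node 2 (.node 1 (.leaf 0x1d0) (.leaf 0x1d1)) (.node 1 (.leaf 0x1d2) (.leaf 0x1d3)))) (.node 4 (.node 2 (.node 1 (.leaf 0x1dc) (.leaf 0x1dd)) (.node 1 (.leaf 0x1de) (.leaf 0x1df))) (.node 2 (.node 1 (.leaf 0x1d8) (.leaf 0x1d9)) (.node 1 (.leaf 0x1da) (.leaf 0x1db))))) (.node 8 (.node 4 (.node 2 (.node 1 (.leaf 0x248) (.leaf 0x249)) (.node 1 (.leaf 0x24a) (.leaf 0x24b))) (.node 2 (.node 1 (.leaf 0x24c) (.leaf 0x24d)) (.node 1 (.leaf 0x24e) (.leaf 0x24f)))) (.node 4 (.node 2 (.node 1 (.leaf 0x240) (.leaf 0x241)) (.node 1 (.leaf 0x242) (.leaf 0x243))) (.node 2 (.node 1 (.leaf 0x244) (.leaf 0x245)) (.node 1 (.leaf 0x246) (.leaf 0x247)))))))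

def mulP_13 : Tree :=
  .node 64 (.node 32 (.node 16 (.node 8 (.node 4 (.node 2 (.node 1 (.leaf 0x2f0) (.leaf 0x2f1)) (.node 1 (.leaf 0x2f2) (.leaf 0x2f3))) (.node 2 (.node 1 (.leaf 0x2f4) (.leaf 0x2f5)) (.node 1 (.leaf 0x2f6) (.leaf 0x2f7)))) (.node 4 (.node 2 (.node 1 (.leaf 0x2f8) (.leaf 0x2f9)) (.node 1 (.leaf 0x2fa) (.leaf 0x2fb))) (.node 2 (.node 1 (.leaf 0x2fc) (.leaf 0x2fd)) (.node 1 (.leaf 0x2fe) (.leaf 0x2ff))))) (.node 8 (.node 4 (.node 2 (.node 1 (.leaf 0x300) (.leaf 0x301)) (.node 1 (.leaf 0x302) (.leaf 0x303))) (.node 2 (.node 1 (.leaf 0x304) (.leaf 0x305)) (.node 1 (.leaf 0x306) (.leaf 0x307)))) (.node 4 (.node 2 (.node 1 (.leaf 0x308) (.leaf 0x309)) (.node 1 (.leaf 0x30a) (.leaf 0x30b))) (.node 2 (.node 1 (.leaf 0x30c) (.leaf 0x30d)) (.node 1 (.leaf 0x30e) (.leaf 0x30f)))))) (.node 16 (.node 8 (.node 4 (.node 2 (.node 1 (.leaf 0x310) (.leaf 0x311)) (.node 1 (.leaf 0x312) (.leaf 0x313))) (.node 2 (.node 1 (.leaf 0x314)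 (.leaf 0x315)) (.node 1 (.leaf 0x316) (.leaf 0x317)))) (.node 4 (.node 2 (.node 1 (.leaf 0x318) (.leaf 0x319)) (.node 1 (.leaf 0x31a) (.leaf 0x31b))) (.node 2 (.node 1 (.leaf 0x31c) (.leaf 0x31d)) (.node 1 (.leaf 0x31e) (.leaf 0x31f))))) (.node 8 (.node 4 (.node 2 (.node 1 (.leaf 0x340) (.leaf 0x341)) (.node 1 (.leaf 0x342) (.leaf 0x343))) (.node 2 (.node 1 (.leaf 0x344) (.leaf 0x345)) (.node 1 (.leaf 0x346) (.leaf 0x347)))) (.node 4 (.node 2 (.node 1 (.leaf 0x348) (.leaf 0x349)) (.node 1 (.leaf 0x34a) (.leaf 0x34b))) (.node 2 (.node 1 (.leaf 0x34c) (.leaf 0x34d)) (.node 1 (.leaf 0x34e) (.leaf 0x34f))))))) (.node 32 (.node 16 (.node 8 (.node 4 (.node 2 (.node 1 (.leaf 0x350) (.leaf 0x351)) (.node 1 (.leaf 0x352) (.leaf 0x353))) (.node 2 (.node 1 (.leaf 0x354) (.leaf 0x355)) (.node 1 (.leaf 0x356) (.leaf 0x357)))) (.node 4 (.node 2 (.node 1 (.leaf 0x358) (.leaf 0x359)) (.node 1 (.leaf 0x35a) (.leaf 0x35b))) (.node 2 (.node 1 (.leaf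 0x35c) (.leaf 0x35d)) (.node 1 (.leaf 0x35e) (.leaf 0x35f))))) (.node 8 (.node 4 (.node 2 (.node 1 (.leaf 0x360) (.leaf 0x361)) (.node 1 (.leaf 0x362) (.leaf 0x363))) (.node 2 (.node 1 (.leaf 0x364) (.leaf 0x365)) (.node 1 (.leaf 0x366) (.leaf 0x367)))) (.node 4 (.node 2 (.node 1 (.leaf 0x368) (.leaf 0x369)) (.node 1 (.leaf 0x36a) (.leaf 0x36b))) (.node 2 (.node 1 (.leaf 0x36c) (.leaf 0x36d)) (.node 1 (.leaf 0x36e) (.leaf 0x36f)))))) (.node 16 (.node 8 (.node 4 (.node 2 (.node 1 (.leaf 0x320) (.leaf 0x321)) (.node 1 (.leaf 0x322) (.leaf 0x323))) (.node 2 (.node 1 (.leaf 0x324) (.leaf 0x325)) (.node 1 (.leaf 0x326) (.leaf 0x327)))) (.node 4 (.node 2 (.node 1 (.leaf 0x328) (.leaf 0x329)) (.node 1 (.leaf 0x32a) (.leaf 0x32b))) (.node 2 (.node 1 (.leaf 0x32c) (.leaf 0x32d)) (.node 1 (.leaf 0x32e) (.leaf 0x32f))))) (.node 8 (.node 4 (.node 2 (.node 1 (.leaf 0x280) (.leaf 0x281)) (.node 1 (.leaf 0x282) (.leaf 0x283))) (.node 2 (.node 1 (.leaf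 0x284) (.leaf 0x285)) (.node 1 (.leaf 0x286) (.leaf 0x287)))) (.node 4 (.node 2 (.node 1 (.leaf 0x288) (.leaf 0x289)) (.node 1 (.leaf 0x28a) (.leaf 0x28b))) (.node 2 (.node 1 (.leaf 0x28c) (.leaf 0x28d)) (.node 1 (.leaf 0x28e) (.leaf 0x28f)))))))

def mulP_14 : Tree :=
  .node 64 (.node 32 (.node 16 (.node 8 (.node 4 (.node 2 (.node 1 (.leaf 0x290) (.leaf 0x291)) (.node 1 (.leaf 0x292) (.leaf 0x293))) (.node 2 (.node 1 (.leaf 0x294) (.leaf 0x295)) (.node 1 (.leaf 0x296) (.leaf 0x297)))) (.node 4 (.node 2 (.node 1 (.leaf 0x298) (.leaf 0x299)) (.node 1 (.leaf 0x29a) (.leaf 0x29b))) (.node 2 (.node 1 (.leaf 0x29c) (.leaf 0x29d)) (.node 1 (.leaf 0x29e) (.leaf 0x29f))))) (.node 8 (.node 4 (.node 2 (.node 1 (.leaf 0x2a0) (.leaf 0x2a1)) (.node 1 (.leaf 0x2a2) (.leaf 0x2a3))) (.node 2 (.node 1 (.leaf 0x2a4) (.leaf 0x2a5)) (.node 1 (.leaf 0x2a6) (.leaf 0x2a7)))) (.node 4 (.node 2 (.node 1 (.leaf 0x2a8) (.leaf 0x2a9)) (.node 1 (.leaf 0x2aa)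 (.leaf 0x2ab))) (.node 2 (.node 1 (.leaf 0x2ac) (.leaf 0x2ad)) (.node 1 (.leaf 0x2ae) (.leaf 0x2af)))))) (.node 16 (.node 8 (.node 4 (.node 2 (.node 1 (.leaf 0x2e0) (.leaf 0x2e1)) (.node 1 (.leaf 0x2e2) (.leaf 0x2e3))) (.node 2 (.node 1 (.leaf 0x2e4) (.leaf 0x2e5)) (.node 1 (.leaf 0x2e6) (.leaf 0x2e7)))) (.node 4 (.node 2 (.node 1 (.leaf 0x2e8) (.leaf 0x2e9)) (.node 1 (.leaf 0x2ea) (.leaf 0x2eb))) (.node 2 (.node 1 (.leaf 0x2ec) (.leaf 0x2ed)) (.node 1 (.leaf 0x2ee) (.leaf 0x2ef))))) (.node 8 (.node 4 (.node 2 (.node 1 (.leaf 0x370) (.leaf 0x371)) (.node 1 (.leaf 0x372) (.leaf 0x373))) (.node 2 (.node 1 (.leaf 0x374) (.leaf 0x375)) (.node 1 (.leaf 0x376) (.leaf 0x377)))) (.node 4 (.node 2 (.node 1 (.leaf 0x378) (.leaf 0x379)) (.node 1 (.leaf 0x37a) (.leaf 0x37b))) (.node 2 (.node 1 (.leaf 0x37c) (.leaf 0x37d)) (.node 1 (.leaf 0x37e) (.leaf 0x37f))))))) (.node 32 (.node 16 (.node 8 (.node 4 (.node 2 (.node 1 (.leaf 0x2b0) (.leaf 0x2b1))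 (.node 1 (.leaf 0x2b2) (.leaf 0x2b3))) (.node 2 (.node 1 (.leaf 0x2b4) (.leaf 0x2b5)) (.node 1 (.leaf 0x2b6) (.leaf 0x2b7)))) (.node 4 (.node 2 (.node 1 (.leaf 0x2b8) (.leaf 0x2b9)) (.node 1 (.leaf 0x2ba) (.leaf 0x2bb))) (.node 2 (.node 1 (.leaf 0x2bc) (.leaf 0x2bd)) (.node 1 (.leaf 0x2be) (.leaf 0x2bf))))) (.node 8 (.node 4 (.node 2 (.node 1 (.leaf 0x2c0) (.leaf 0x2c1)) (.node 1 (.leaf 0x2c2) (.leaf 0x2c3))) (.node 2 (.node 1 (.leaf 0x2c4) (.leaf 0x2c5)) (.node 1 (.leaf 0x2c6) (.leaf 0x2c7)))) (.node 4 (.node 2 (.node 1 (.leaf 0x2c8) (.leaf 0x2c9)) (.node 1 (.leaf 0x2ca) (.leaf 0x2cb))) (.node 2 (.node 1 (.leaf 0x2cc) (.leaf 0x2cd)) (.node 1 (.leaf 0x2ce) (.leaf 0x2cf)))))) (.node 16 (.node 8 (.node 4 (.node 2 (.node 1 (.leaf 0x2d0) (.leaf 0x2d1)) (.node 1 (.leaf 0x2d2) (.leaf 0x2d3))) (.node 2 (.node 1 (.leaf 0x2d4) (.leaf 0x2d5)) (.node 1 (.leaf 0x2d6) (.leaf 0x2d7)))) (.node 4 (.node 2 (.node 1 (.leaf 0x2d8) (.leaf 0x2d9)) (.node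 1 (.leaf 0x2da) (.leaf 0x2db))) (.node 2 (.node 1 (.leaf 0x2dc) (.leaf 0x2dd)) (.node 1 (.leaf 0x2de) (.leaf 0x2df))))) (.node 8 (.node 4 (.node 2 (.node 1 (.leaf 0x330) (.leaf 0x331)) (.node 1 (.leaf 0x332) (.leaf 0x333))) (.node 2 (.node 1 (.leaf 0x334) (.leaf 0x335)) (.node 1 (.leaf 0x336) (.leaf 0x337)))) (.node 4 (.node 2 (.node 1 (.leaf 0x338) (.leaf 0x339)) (.node 1 (.leaf 0x33a) (.leaf 0x33b))) (.node 2 (.node 1 (.leaf 0x33c) (.leaf 0x33d)) (.node 1 (.leaf 0x33e) (.leaf 0x33f)))))))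

def mulP_15 : Tree :=
  .node 64 (.node 32 (.node 16 (.node 8 (.node 4 (.node 2 (.node 1 (.leaf 0x3c0) (.leaf 0x3c1)) (.node 1 (.leaf 0x3c2) (.leaf 0x3c3))) (.node 2 (.node 1 (.leaf 0x3c4) (.leaf 0x3c5)) (.node 1 (.leaf 0x3c6) (.leaf 0x3c7)))) (.node 4 (.node 2 (.node 1 (.leaf 0x3c8) (.leaf 0x3c9)) (.node 1 (.leaf 0x3ca) (.leaf 0x3cb))) (.node 2 (.node 1 (.leaf 0x3cc) (.leaf 0x3cd)) (.node 1 (.leaf 0x3ce) (.leaf 0x3cf))))) (.node 8 (.node 4 (.node 2 (.node 1 (.leaf 0x3e0) (.leaf 0x3e1)) (.node 1 (.leaf 0x3e2) (.leaf 0x3e3))) (.node 2 (.node 1 (.leaf 0x3e4) (.leaf 0x3e5)) (.node 1 (.leaf 0x3e6) (.leaf 0x3e7)))) (.node 4 (.node 2 (.node 1 (.leaf 0x3e8) (.leaf 0x3e9)) (.node 1 (.leaf 0x3ea) (.leaf 0x3eb))) (.node 2 (.node 1 (.leaf 0x3ec) (.leaf 0x3ed)) (.node 1 (.leaf 0x3ee) (.leaf 0x3ef)))))) (.node 16 (.node 8 (.node 4 (.node 2 (.node 1 (.leaf 0x3f0) (.leaf 0x3f1)) (.node 1 (.leaf 0x3f2) (.leaf 0x3f3))) (.node 2 (.node 1 (.leaf 0x3f4)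 (.leaf 0x3f5)) (.node 1 (.leaf 0x3f6) (.leaf 0x3f7)))) (.node 4 (.node 2 (.node 1 (.leaf 0x3f8) (.leaf 0x3f9)) (.node 1 (.leaf 0x3fa) (.leaf 0x3fb))) (.node 2 (.node 1 (.leaf 0x3fc) (.leaf 0x3fd)) (.node 1 (.leaf 0x3fe) (.leaf 0x3ff))))) (.node 8 (.node 4 (.node 2 (.node 1 (.leaf 0x3d0) (.leaf 0x3d1)) (.node 1 (.leaf 0x3d2) (.leaf 0x3d3))) (.node 2 (.node 1 (.leaf 0x3d4) (.leaf 0x3d5)) (.node 1 (.leaf 0x3d6) (.leaf 0x3d7)))) (.node 4 (.node 2 (.node 1 (.leaf 0x3d8) (.leaf 0x3d9)) (.node 1 (.leaf 0x3da) (.leaf 0x3db))) (.node 2 (.node 1 (.leaf 0x3dc) (.leaf 0x3dd)) (.node 1 (.leaf 0x3de) (.leaf 0x3df))))))) (.node 32 (.node 16 (.node 8 (.node 4 (.node 2 (.node 1 (.leaf 0x380) (.leaf 0x381)) (.node 1 (.leaf 0x382) (.leaf 0x383))) (.node 2 (.node 1 (.leaf 0x384) (.leaf 0x385)) (.node 1 (.leaf 0x386) (.leaf 0x387)))) (.node 4 (.node 2 (.node 1 (.leaf 0x388) (.leaf 0x389)) (.node 1 (.leaf 0x38a) (.leaf 0x38b))) (.node 2 (.node 1 (.leaf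 0x38c) (.leaf 0x38d)) (.node 1 (.leaf 0x38e) (.leaf 0x38f))))) (.node 8 (.node 4 (.node 2 (.node 1 (.leaf 0x3b0) (.leaf 0x3b1)) (.node 1 (.leaf 0x3b2) (.leaf 0x3b3))) (.node 2 (.node 1 (.leaf 0x3b4) (.leaf 0x3b5)) (.node 1 (.leaf 0x3b6) (.leaf 0x3b7)))) (.node 4 (.node 2 (.node 1 (.leaf 0x3b8) (.leaf 0x3b9)) (.node 1 (.leaf 0x3ba) (.leaf 0x3bb))) (.node 2 (.node 1 (.leaf 0x3bc) (.leaf 0x3bd)) (.node 1 (.leaf 0x3be) (.leaf 0x3bf)))))) (.node 16 (.node 8 (.node 4 (.node 2 (.node 1 (.leaf 0x390) (.leaf 0x391)) (.node 1 (.leaf 0x392) (.leaf 0x393))) (.node 2 (.node 1 (.leaf 0x394) (.leaf 0x395)) (.node 1 (.leaf 0x396) (.leaf 0x397)))) (.node 4 (.node 2 (.node 1 (.leaf 0x398) (.leaf 0x399)) (.node 1 (.leaf 0x39a) (.leaf 0x39b))) (.node 2 (.node 1 (.leaf 0x39c) (.leaf 0x39d)) (.node 1 (.leaf 0x39e) (.leaf 0x39f))))) (.node 8 (.node 4 (.node 2 (.node 1 (.leaf 0x3a0) (.leaf 0x3a1)) (.node 1 (.leaf 0x3a2) (.leaf 0x3a3))) (.node 2 (.node 1 (.leaf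 0x3a4) (.leaf 0x3a5)) (.node 1 (.leaf 0x3a6) (.leaf 0x3a7)))) (.node 4 (.node 2 (.node 1 (.leaf 0x3a8) (.leaf 0x3a9)) (.node 1 (.leaf 0x3aa) (.leaf 0x3ab))) (.node 2 (.node 1 (.leaf 0x3ac) (.leaf 0x3ad)) (.node 1 (.leaf 0x3ae) (.leaf 0x3af)))))))

def mulP_16 : Tree :=
  .node 64 (.node 32 (.node 16 (.node 8 (.node 4 (.node 2 (.node 1 (.leaf 0x81) (.leaf 0x2)) (.node 1 (.leaf 0x1) (.leaf 0x4))) (.node 2 (.node 1 (.leaf 0x3) (.leaf 0x6)) (.node 1 (.leaf 0x5) (.leaf 0x8)))) (.node 4 (.node 2 (.node 1 (.leaf 0x7) (.leaf 0xa)) (.node 1 (.leaf 0x9) (.leaf 0xc))) (.node 2 (.node 1 (.leaf 0xb) (.leaf 0xe)) (.node 1 (.leaf 0xd) (.leaf 0x10))))) (.node 8 (.node 4 (.node 2 (.node 1 (.leaf 0xf) (.leaf 0x12)) (.node 1 (.leaf 0x11) (.leaf 0x14))) (.node 2 (.node 1 (.leaf 0x13) (.leaf 0x16)) (.node 1 (.leaf 0x15) (.leaf 0x18)))) (.node 4 (.node 2 (.node 1 (.leaf 0x17) (.leaf 0x1a)) (.node 1 (.leaf 0x19) (.leaf 0x1c))) (.node 2 (.node 1 (.leaf 0x1b)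 (.leaf 0x1e)) (.node 1 (.leaf 0x1d) (.leaf 0x20)))))) (.node 16 (.node 8 (.node 4 (.node 2 (.node 1 (.leaf 0x1f) (.leaf 0x22)) (.node 1 (.leaf 0x21) (.leaf 0x24))) (.node 2 (.node 1 (.leaf 0x23) (.leaf 0x26)) (.node 1 (.leaf 0x25) (.leaf 0x28)))) (.node 4 (.node 2 (.node 1 (.leaf 0x27) (.leaf 0x2a)) (.node 1 (.leaf 0x29) (.leaf 0x2c))) (.node 2 (.node 1 (.leaf 0x2b) (.leaf 0x2e)) (.node 1 (.leaf 0x2d) (.leaf 0x30))))) (.node 8 (.node 4 (.node 2 (.node 1 (.leaf 0x2f) (.leaf 0x32)) (.node 1 (.leaf 0x31) (.leaf 0x34))) (.node 2 (.node 1 (.leaf 0x33) (.leaf 0x36)) (.node 1 (.leaf 0x35) (.leaf 0x38)))) (.node 4 (.node 2 (.node 1 (.leaf 0x37) (.leaf 0x3a)) (.node 1 (.leaf 0x39) (.leaf 0x3c))) (.node 2 (.node 1 (.leaf 0x3b) (.leaf 0x3e)) (.node 1 (.leaf 0x3d) (.leaf 0x40))))))) (.node 32 (.node 16 (.node 8 (.node 4 (.node 2 (.node 1 (.leaf 0x3f) (.leaf 0xbd)) (.node 1 (.leaf 0xbc) (.leaf 0xbf))) (.node 2 (.node 1 (.leaf 0xbe) (.leaf 0xb9))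 (.node 1 (.leaf 0xb8) (.leaf 0xbb)))) (.node 4 (.node 2 (.node 1 (.leaf 0xba) (.leaf 0xb5)) (.node 1 (.leaf 0xb4) (.leaf 0xb7))) (.node 2 (.node 1 (.leaf 0xb6) (.leaf 0xb1)) (.node 1 (.leaf 0xb0) (.leaf 0xb3))))) (.node 8 (.node 4 (.node 2 (.node 1 (.leaf 0xb2) (.leaf 0x52)) (.node 1 (.leaf 0x51) (.leaf 0x54))) (.node 2 (.node 1 (.leaf 0x53) (.leaf 0x56)) (.node 1 (.leaf 0x55) (.leaf 0x58)))) (.node 4 (.node 2 (.node 1 (.leaf 0x57) (.leaf 0x5a)) (.node 1 (.leaf 0x59) (.leaf 0x5c))) (.node 2 (.node 1 (.leaf 0x5b) (.leaf 0x5e)) (.node 1 (.leaf 0x5d) (.leaf 0x60)))))) (.node 16 (.node 8 (.node 4 (.node 2 (.node 1 (.leaf 0x5f) (.leaf 0x62)) (.node 1 (.leaf 0x61) (.leaf 0x64))) (.node 2 (.node 1 (.leaf 0x63) (.leaf 0x66)) (.node 1 (.leaf 0x65) (.leaf 0x68)))) (.node 4 (.node 2 (.node 1 (.leaf 0x67) (.leaf 0x6a)) (.node 1 (.leaf 0x69) (.leaf 0x6c))) (.node 2 (.node 1 (.leaf 0x6b) (.leaf 0x6e)) (.node 1 (.leaf 0x6d) (.leaf 0x70))))) (.node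 8 (.node 4 (.node 2 (.node 1 (.leaf 0x6f) (.leaf 0xfd)) (.node 1 (.leaf 0xfc) (.leaf 0xff))) (.node 2 (.node 1 (.leaf 0xfe) (.leaf 0xf9)) (.node 1 (.leaf 0xf8) (.leaf 0xfb)))) (.node 4 (.node 2 (.node 1 (.leaf 0xfa) (.leaf 0xf5)) (.node 1 (.leaf 0xf4) (.leaf 0xf7))) (.node 2 (.node 1 (.leaf 0xf6) (.leaf 0xf1)) (.node 1 (.leaf 0xf0) (.leaf 0xf3)))))))

def mulP_17 : Tree :=
  .node 64 (.node 32 (.node 16 (.node 8 (.node 4 (.node 2 (.node 1 (.leaf 0xf2) (.leaf 0x0)) (.node 1 (.leaf 0x83) (.leaf 0x82))) (.node 2 (.node 1 (.leaf 0x85) (.leaf 0x84)) (.node 1 (.leaf 0x87) (.leaf 0x86)))) (.node 4 (.node 2 (.node 1 (.leaf 0x89) (.leaf 0x88)) (.node 1 (.leaf 0x8b) (.leaf 0x8a))) (.node 2 (.node 1 (.leaf 0x8d) (.leaf 0x8c)) (.node 1 (.leaf 0x8f) (.leaf 0x8e))))) (.node 8 (.node 4 (.node 2 (.node 1 (.leaf 0x91) (.leaf 0x90)) (.node 1 (.leaf 0x93) (.leaf 0x92))) (.node 2 (.node 1 (.leaf 0x95) (.leaf 0x94)) (.node 1 (.leaf 0x97) (.leaf 0x96))))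 (.node 4 (.node 2 (.node 1 (.leaf 0x99) (.leaf 0x98)) (.node 1 (.leaf 0x9b) (.leaf 0x9a))) (.node 2 (.node 1 (.leaf 0x9d) (.leaf 0x9c)) (.node 1 (.leaf 0x9f) (.leaf 0x9e)))))) (.node 16 (.node 8 (.node 4 (.node 2 (.node 1 (.leaf 0x12d) (.leaf 0x12c)) (.node 1 (.leaf 0x12f) (.leaf 0x12e))) (.node 2 (.node 1 (.leaf 0x129) (.leaf 0x128)) (.node 1 (.leaf 0x12b) (.leaf 0x12a)))) (.node 4 (.node 2 (.node 1 (.leaf 0x125) (.leaf 0x124)) (.node 1 (.leaf 0x127) (.leaf 0x126))) (.node 2 (.node 1 (.leaf 0x121) (.leaf 0x120)) (.node 1 (.leaf 0x123) (.leaf 0x122))))) (.node 8 (.node 4 (.node 2 (.node 1 (.leaf 0x4e) (.leaf 0x4d)) (.node 1 (.leaf 0x50) (.leaf 0x4f))) (.node 2 (.node 1 (.leaf 0x4a) (.leaf 0x49)) (.node 1 (.leaf 0x4c) (.leaf 0x4b)))) (.node 4 (.node 2 (.node 1 (.leaf 0x46) (.leaf 0x45)) (.node 1 (.leaf 0x48) (.leaf 0x47))) (.node 2 (.node 1 (.leaf 0x42) (.leaf 0x41)) (.node 1 (.leaf 0x44) (.leaf 0x43))))))) (.node 32 (.node 16 (.node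 8 (.node 4 (.node 2 (.node 1 (.leaf 0xc1) (.leaf 0xc0)) (.node 1 (.leaf 0xc3) (.leaf 0xc2))) (.node 2 (.node 1 (.leaf 0xc5) (.leaf 0xc4)) (.node 1 (.leaf 0xc7) (.leaf 0xc6)))) (.node 4 (.node 2 (.node 1 (.leaf 0xc9) (.leaf 0xc8)) (.node 1 (.leaf 0xcb) (.leaf 0xca))) (.node 2 (.node 1 (.leaf 0xcd) (.leaf 0xcc)) (.node 1 (.leaf 0xcf) (.leaf 0xce))))) (.node 8 (.node 4 (.node 2 (.node 1 (.leaf 0xd1) (.leaf 0xd0)) (.node 1 (.leaf 0xd3) (.leaf 0xd2))) (.node 2 (.node 1 (.leaf 0xd5) (.leaf 0xd4)) (.node 1 (.leaf 0xd7) (.leaf 0xd6)))) (.node 4 (.node 2 (.node 1 (.leaf 0xd9) (.leaf 0xd8)) (.node 1 (.leaf 0xdb) (.leaf 0xda))) (.node 2 (.node 1 (.leaf 0xdd) (.leaf 0xdc)) (.node 1 (.leaf 0xdf) (.leaf 0xde)))))) (.node 16 (.node 8 (.node 4 (.node 2 (.node 1 (.leaf 0x15d) (.leaf 0x15c)) (.node 1 (.leaf 0x15f) (.leaf 0x15e))) (.node 2 (.node 1 (.leaf 0x159) (.leaf 0x158)) (.node 1 (.leaf 0x15b) (.leaf 0x15a)))) (.node 4 (.node 2 (.node 1 (.leaf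 0x155) (.leaf 0x154)) (.node 1 (.leaf 0x157) (.leaf 0x156))) (.node 2 (.node 1 (.leaf 0x151) (.leaf 0x150)) (.node 1 (.leaf 0x153) (.leaf 0x152))))) (.node 8 (.node 4 (.node 2 (.node 1 (.leaf 0x7e) (.leaf 0x7d)) (.node 1 (.leaf 0x80) (.leaf 0x7f))) (.node 2 (.node 1 (.leaf 0x7a) (.leaf 0x79)) (.node 1 (.leaf 0x7c) (.leaf 0x7b)))) (.node 4 (.node 2 (.node 1 (.leaf 0x76) (.leaf 0x75)) (.node 1 (.leaf 0x78) (.leaf 0x77))) (.node 2 (.node 1 (.leaf 0x72) (.leaf 0x71)) (.node 1 (.leaf 0x74) (.leaf 0x73)))))))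

def mulP_18 : Tree :=
  .node 64 (.node 32 (.node 16 (.node 8 (.node 4 (.node 2 (.node 1 (.leaf 0x101) (.leaf 0x100)) (.node 1 (.leaf 0x103) (.leaf 0x102))) (.node 2 (.node 1 (.leaf 0x105) (.leaf 0x104)) (.node 1 (.leaf 0x107) (.leaf 0x106)))) (.node 4 (.node 2 (.node 1 (.leaf 0x109) (.leaf 0x108)) (.node 1 (.leaf 0x10b) (.leaf 0x10a))) (.node 2 (.node 1 (.leaf 0x10d) (.leaf 0x10c)) (.node 1 (.leaf 0x10f) (.leaf 0x10e))))) (.node 8 (.node 4 (.node 2 (.node 1 (.leaf 0x16d) (.leaf 0x16c)) (.node 1 (.leaf 0x16f) (.leaf 0x16e))) (.node 2 (.node 1 (.leaf 0x169) (.leaf 0x168)) (.node 1 (.leaf 0x16b) (.leaf 0x16a)))) (.node 4 (.node 2 (.node 1 (.leaf 0x165) (.leaf 0x164)) (.node 1 (.leaf 0x167) (.leaf 0x166))) (.node 2 (.node 1 (.leaf 0x161) (.leaf 0x160)) (.node 1 (.leaf 0x163) (.leaf 0x162)))))) (.node 16 (.node 8 (.node 4 (.node 2 (.node 1 (.leaf 0xad) (.leaf 0xac)) (.node 1 (.leaf 0xaf) (.leaf 0xae))) (.node 2 (.node 1 (.leaf 0xa9) (.leaf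 0xa8)) (.node 1 (.leaf 0xab) (.leaf 0xaa)))) (.node 4 (.node 2 (.node 1 (.leaf 0xa5) (.leaf 0xa4)) (.node 1 (.leaf 0xa7) (.leaf 0xa6))) (.node 2 (.node 1 (.leaf 0xa1) (.leaf 0xa0)) (.node 1 (.leaf 0xa3) (.leaf 0xa2))))) (.node 8 (.node 4 (.node 2 (.node 1 (.leaf 0x131) (.leaf 0x130)) (.node 1 (.leaf 0x133) (.leaf 0x132))) (.node 2 (.node 1 (.leaf 0x135) (.leaf 0x134)) (.node 1 (.leaf 0x137) (.leaf 0x136)))) (.node 4 (.node 2 (.node 1 (.leaf 0x139) (.leaf 0x138)) (.node 1 (.leaf 0x13b) (.leaf 0x13a))) (.node 2 (.node 1 (.leaf 0x13d) (.leaf 0x13c)) (.node 1 (.leaf 0x13f) (.leaf 0x13e))))))) (.node 32 (.node 16 (.node 8 (.node 4 (.node 2 (.node 1 (.leaf 0x17d) (.leaf 0x17c)) (.node 1 (.leaf 0x17f) (.leaf 0x17e))) (.node 2 (.node 1 (.leaf 0x179) (.leaf 0x178)) (.node 1 (.leaf 0x17b) (.leaf 0x17a)))) (.node 4 (.node 2 (.node 1 (.leaf 0x175) (.leaf 0x174)) (.node 1 (.leaf 0x177) (.leaf 0x176))) (.node 2 (.node 1 (.leaf 0x171) (.leaf 0x170))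 (.node 1 (.leaf 0x173) (.leaf 0x172))))) (.node 8 (.node 4 (.node 2 (.node 1 (.leaf 0xed) (.leaf 0xec)) (.node 1 (.leaf 0xef) (.leaf 0xee))) (.node 2 (.node 1 (.leaf 0xe9) (.leaf 0xe8)) (.node 1 (.leaf 0xeb) (.leaf 0xea)))) (.node 4 (.node 2 (.node 1 (.leaf 0xe5) (.leaf 0xe4)) (.node 1 (.leaf 0xe7) (.leaf 0xe6))) (.node 2 (.node 1 (.leaf 0xe1) (.leaf 0xe0)) (.node 1 (.leaf 0xe3) (.leaf 0xe2)))))) (.node 16 (.node 8 (.node 4 (.node 2 (.node 1 (.leaf 0x11d) (.leaf 0x11c)) (.node 1 (.leaf 0x11f) (.leaf 0x11e))) (.node 2 (.node 1 (.leaf 0x119) (.leaf 0x118)) (.node 1 (.leaf 0x11b) (.leaf 0x11a)))) (.node 4 (.node 2 (.node 1 (.leaf 0x115) (.leaf 0x114)) (.node 1 (.leaf 0x117) (.leaf 0x116))) (.node 2 (.node 1 (.leaf 0x111) (.leaf 0x110)) (.node 1 (.leaf 0x113) (.leaf 0x112))))) (.node 8 (.node 4 (.node 2 (.node 1 (.leaf 0x14d) (.leaf 0x14c)) (.node 1 (.leaf 0x14f) (.leaf 0x14e))) (.node 2 (.node 1 (.leaf 0x149) (.leaf 0x148)) (.node 1 (.leaf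 0x14b) (.leaf 0x14a)))) (.node 4 (.node 2 (.node 1 (.leaf 0x145) (.leaf 0x144)) (.node 1 (.leaf 0x147) (.leaf 0x146))) (.node 2 (.node 1 (.leaf 0x141) (.leaf 0x140)) (.node 1 (.leaf 0x143) (.leaf 0x142)))))))

def mulP_19 : Tree :=
  .node 64 (.node 32 (.node 16 (.node 8 (.node 4 (.node 2 (.node 1 (.leaf 0x1d1) (.leaf 0x1d0)) (.node 1 (.leaf 0x1d3) (.leaf 0x1d2))) (.node 2 (.node 1 (.leaf 0x1d5) (.leaf 0x1d4)) (.node 1 (.leaf 0x1d7) (.leaf 0x1d6)))) (.node 4 (.node 2 (.node 1 (.leaf 0x1d9) (.leaf 0x1d8)) (.node 1 (.leaf 0x1db) (.leaf 0x1da))) (.node 2 (.node 1 (.leaf 0x1dd) (.leaf 0x1dc)) (.node 1 (.leaf 0x1df) (.leaf 0x1de))))) (.node 8 (.node 4 (.node 2 (.node 1 (.leaf 0x1b1) (.leaf 0x1b0)) (.node 1 (.leaf 0x1b3) (.leaf 0x1b2))) (.node 2 (.node 1 (.leaf 0x1b5) (.leaf 0x1b4)) (.node 1 (.leaf 0x1b7) (.leaf 0x1b6)))) (.node 4 (.node 2 (.node 1 (.leaf 0x1b9) (.leaf 0x1b8)) (.node 1 (.leaf 0x1bb) (.leaf 0x1ba))) (.node 2 (.node 1 (.leaf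 0x1bd) (.leaf 0x1bc)) (.node 1 (.leaf 0x1bf) (.leaf 0x1be)))))) (.node 16 (.node 8 (.node 4 (.node 2 (.node 1 (.leaf 0x231) (.leaf 0x230)) (.node 1 (.leaf 0x233) (.leaf 0x232))) (.node 2 (.node 1 (.leaf 0x235) (.leaf 0x234)) (.node 1 (.leaf 0x237) (.leaf 0x236)))) (.node 4 (.node 2 (.node 1 (.leaf 0x239) (.leaf 0x238)) (.node 1 (.leaf 0x23b) (.leaf 0x23a))) (.node 2 (.node 1 (.leaf 0x23d) (.leaf 0x23c)) (.node 1 (.leaf 0x23f) (.leaf 0x23e))))) (.node 8 (.node 4 (.node 2 (.node 1 (.leaf 0x191) (.leaf 0x190)) (.node 1 (.leaf 0x193) (.leaf 0x192))) (.node 2 (.node 1 (.leaf 0x195) (.leaf 0x194)) (.node 1 (.leaf 0x197) (.leaf 0x196)))) (.node 4 (.node 2 (.node 1 (.leaf 0x199) (.leaf 0x198)) (.node 1 (.leaf 0x19b) (.leaf 0x19a))) (.node 2 (.node 1 (.leaf 0x19d) (.leaf 0x19c)) (.node 1 (.leaf 0x19f) (.leaf 0x19e))))))) (.node 32 (.node 16 (.node 8 (.node 4 (.node 2 (.node 1 (.leaf 0x251) (.leaf 0x250)) (.node 1 (.leaf 0x253) (.leaf 0x252)))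 (.node 2 (.node 1 (.leaf 0x255) (.leaf 0x254)) (.node 1 (.leaf 0x257) (.leaf 0x256)))) (.node 4 (.node 2 (.node 1 (.leaf 0x259) (.leaf 0x258)) (.node 1 (.leaf 0x25b) (.leaf 0x25a))) (.node 2 (.node 1 (.leaf 0x25d) (.leaf 0x25c)) (.node 1 (.leaf 0x25f) (.leaf 0x25e))))) (.node 8 (.node 4 (.node 2 (.node 1 (.leaf 0x181) (.leaf 0x180)) (.node 1 (.leaf 0x183) (.leaf 0x182))) (.node 2 (.node 1 (.leaf 0x185) (.leaf 0x184)) (.node 1 (.leaf 0x187) (.leaf 0x186)))) (.node 4 (.node 2 (.node 1 (.leaf 0x189) (.leaf 0x188)) (.node 1 (.leaf 0x18b) (.leaf 0x18a))) (.node 2 (.node 1 (.leaf 0x18d) (.leaf 0x18c)) (.node 1 (.leaf 0x18f) (.leaf 0x18e)))))) (.node 16 (.node 8 (.node 4 (.node 2 (.node 1 (.leaf 0x221) (.leaf 0x220)) (.node 1 (.leaf 0x223) (.leaf 0x222))) (.node 2 (.node 1 (.leaf 0x225) (.leaf 0x224)) (.node 1 (.leaf 0x227) (.leaf 0x226)))) (.node 4 (.node 2 (.node 1 (.leaf 0x229) (.leaf 0x228)) (.node 1 (.leaf 0x22b) (.leaf 0x22a))) (.node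 2 (.node 1 (.leaf 0x22d) (.leaf 0x22c)) (.node 1 (.leaf 0x22f) (.leaf 0x22e))))) (.node 8 (.node 4 (.node 2 (.node 1 (.leaf 0x241) (.leaf 0x240)) (.node 1 (.leaf 0x243) (.leaf 0x242))) (.node 2 (.node 1 (.leaf 0x245) (.leaf 0x244)) (.node 1 (.leaf 0x247) (.leaf 0x246)))) (.node 4 (.node 2 (.node 1 (.leaf 0x249) (.leaf 0x248)) (.node 1 (.leaf 0x24b) (.leaf 0x24a))) (.node 2 (.node 1 (.leaf 0x24d) (.leaf 0x24c)) (.node 1 (.leaf 0x24f) (.leaf 0x24e)))))))

def mulP_20 : Tree :=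
  .node 64 (.node 32 (.node 16 (.node 8 (.node 4 (.node 2 (.node 1 (.leaf 0x261) (.leaf 0x260)) (.node 1 (.leaf 0x263) (.leaf 0x262))) (.node 2 (.node 1 (.leaf 0x265) (.leaf 0x264)) (.node 1 (.leaf 0x267) (.leaf 0x266)))) (.node 4 (.node 2 (.node 1 (.leaf 0x269) (.leaf 0x268)) (.node 1 (.leaf 0x26b) (.leaf 0x26a))) (.node 2 (.node 1 (.leaf 0x26d) (.leaf 0x26c)) (.node 1 (.leaf 0x26f) (.leaf 0x26e))))) (.node 8 (.node 4 (.node 2 (.node 1 (.leaf 0x271) (.leaf 0x270)) (.node 1 (.leaf 0x273) (.leaf 0x272))) (.node 2 (.node 1 (.leaf 0x275) (.leaf 0x274)) (.node 1 (.leaf 0x277) (.leaf 0x276)))) (.node 4 (.node 2 (.node 1 (.leaf 0x279) (.leaf 0x278)) (.node 1 (.leaf 0x27b) (.leaf 0x27a))) (.node 2 (.node 1 (.leaf 0x27d) (.leaf 0x27c)) (.node 1 (.leaf 0x27f) (.leaf 0x27e)))))) (.node 16 (.node 8 (.node 4 (.node 2 (.node 1 (.leaf 0x1e1) (.leaf 0x1e0)) (.node 1 (.leaf 0x1e3) (.leaf 0x1e2))) (.node 2 (.node 1 (.leaf 0x1e5) (.leaf 0x1e4)) (.node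 1 (.leaf 0x1e7) (.leaf 0x1e6)))) (.node 4 (.node 2 (.node 1 (.leaf 0x1e9) (.leaf 0x1e8)) (.node 1 (.leaf 0x1eb) (.leaf 0x1ea))) (.node 2 (.node 1 (.leaf 0x1ed) (.leaf 0x1ec)) (.node 1 (.leaf 0x1ef) (.leaf 0x1ee))))) (.node 8 (.node 4 (.node 2 (.node 1 (.leaf 0x1a1) (.leaf 0x1a0)) (.node 1 (.leaf 0x1a3) (.leaf 0x1a2))) (.node 2 (.node 1 (.leaf 0x1a5) (.leaf 0x1a4)) (.node 1 (.leaf 0x1a7) (.leaf 0x1a6)))) (.node 4 (.node 2 (.node 1 (.leaf 0x1a9) (.leaf 0x1a8)) (.node 1 (.leaf 0x1ab) (.leaf 0x1aa))) (.node 2 (.node 1 (.leaf 0x1ad) (.leaf 0x1ac)) (.node 1 (.leaf 0x1af) (.leaf 0x1ae))))))) (.node 32 (.node 16 (.node 8 (.node 4 (.node 2 (.node 1 (.leaf 0x1f1) (.leaf 0x1f0)) (.node 1 (.leaf 0x1f3) (.leaf 0x1f2))) (.node 2 (.node 1 (.leaf 0x1f5) (.leaf 0x1f4)) (.node 1 (.leaf 0x1f7) (.leaf 0x1f6)))) (.node 4 (.node 2 (.node 1 (.leaf 0x1f9) (.leaf 0x1f8)) (.node 1 (.leaf 0x1fb) (.leaf 0x1fa))) (.node 2 (.node 1 (.leaf 0x1fd) (.leaf 0x1fc))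 (.node 1 (.leaf 0x1ff) (.leaf 0x1fe))))) (.node 8 (.node 4 (.node 2 (.node 1 (.leaf 0x1c1) (.leaf 0x1c0)) (.node 1 (.leaf 0x1c3) (.leaf 0x1c2))) (.node 2 (.node 1 (.leaf 0x1c5) (.leaf 0x1c4)) (.node 1 (.leaf 0x1c7) (.leaf 0x1c6)))) (.node 4 (.node 2 (.node 1 (.leaf 0x1c9) (.leaf 0x1c8)) (.node 1 (.leaf 0x1cb) (.leaf 0x1ca))) (.node 2 (.node 1 (.leaf 0x1cd) (.leaf 0x1cc)) (.node 1 (.leaf 0x1cf) (.leaf 0x1ce)))))) (.node 16 (.node 8 (.node 4 (.node 2 (.node 1 (.leaf 0x201) (.leaf 0x200)) (.node 1 (.leaf 0x203) (.leaf 0x202))) (.node 2 (.node 1 (.leaf 0x205) (.leaf 0x204)) (.node 1 (.leaf 0x207) (.leaf 0x206)))) (.node 4 (.node 2 (.node 1 (.leaf 0x209) (.leaf 0x208)) (.node 1 (.leaf 0x20b) (.leaf 0x20a))) (.node 2 (.node 1 (.leaf 0x20d) (.leaf 0x20c)) (.node 1 (.leaf 0x20f) (.leaf 0x20e))))) (.node 8 (.node 4 (.node 2 (.node 1 (.leaf 0x211) (.leaf 0x210)) (.node 1 (.leaf 0x213) (.leaf 0x212))) (.node 2 (.node 1 (.leaf 0x215) (.leaf 0x214))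 (.node 1 (.leaf 0x217) (.leaf 0x216)))) (.node 4 (.node 2 (.node 1 (.leaf 0x219) (.leaf 0x218)) (.node 1 (.leaf 0x21b) (.leaf 0x21a))) (.node 2 (.node 1 (.leaf 0x21d) (.leaf 0x21c)) (.node 1 (.leaf 0x21f) (.leaf 0x21e)))))))

def mulP_21 : Tree :=
  .node 64 (.node 32 (.node 16 (.node 8 (.node 4 (.node 2 (.node 1 (.leaf 0x2d1) (.leaf 0x2d0)) (.node 1 (.leaf 0x2d3) (.leaf 0x2d2))) (.node 2 (.node 1 (.leaf 0x2d5) (.leaf 0x2d4)) (.node 1 (.leaf 0x2d7) (.leaf 0x2d6)))) (.node 4 (.node 2 (.node 1 (.leaf 0x2d9) (.leaf 0x2d8)) (.node 1 (.leaf 0x2db) (.leaf 0x2da))) (.node 2 (.node 1 (.leaf 0x2dd) (.leaf 0x2dc)) (.node 1 (.leaf 0x2df) (.leaf 0x2de))))) (.node 8 (.node 4 (.node 2 (.node 1 (.leaf 0x32d) (.leaf 0x32c)) (.node 1 (.leaf 0x32f) (.leaf 0x32e))) (.node 2 (.node 1 (.leaf 0x329) (.leaf 0x328)) (.node 1 (.leaf 0x32b) (.leaf 0x32a)))) (.node 4 (.node 2 (.node 1 (.leaf 0x325) (.leaf 0x324)) (.node 1 (.leaf 0x327) (.leaf 0x326))) (.node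 2 (.node 1 (.leaf 0x321) (.leaf 0x320)) (.node 1 (.leaf 0x323) (.leaf 0x322)))))) (.node 16 (.node 8 (.node 4 (.node 2 (.node 1 (.leaf 0x2b1) (.leaf 0x2b0)) (.node 1 (.leaf 0x2b3) (.leaf 0x2b2))) (.node 2 (.node 1 (.leaf 0x2b5) (.leaf 0x2b4)) (.node 1 (.leaf 0x2b7) (.leaf 0x2b6)))) (.node 4 (.node 2 (.node 1 (.leaf 0x2b9) (.leaf 0x2b8)) (.node 1 (.leaf 0x2bb) (.leaf 0x2ba))) (.node 2 (.node 1 (.leaf 0x2bd) (.leaf 0x2bc)) (.node 1 (.leaf 0x2bf) (.leaf 0x2be))))) (.node 8 (.node 4 (.node 2 (.node 1 (.leaf 0x2a1) (.leaf 0x2a0)) (.node 1 (.leaf 0x2a3) (.leaf 0x2a2))) (.node 2 (.node 1 (.leaf 0x2a5) (.leaf 0x2a4)) (.node 1 (.leaf 0x2a7) (.leaf 0x2a6)))) (.node 4 (.node 2 (.node 1 (.leaf 0x2a9) (.leaf 0x2a8)) (.node 1 (.leaf 0x2ab) (.leaf 0x2aa))) (.node 2 (.node 1 (.leaf 0x2ad) (.leaf 0x2ac)) (.node 1 (.leaf 0x2af) (.leaf 0x2ae))))))) (.node 32 (.node 16 (.node 8 (.node 4 (.node 2 (.node 1 (.leaf 0x37d) (.leaf 0x37c)) (.node 1 (.leaf 0x37f)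 (.leaf 0x37e))) (.node 2 (.node 1 (.leaf 0x379) (.leaf 0x378)) (.node 1 (.leaf 0x37b) (.leaf 0x37a)))) (.node 4 (.node 2 (.node 1 (.leaf 0x375) (.leaf 0x374)) (.node 1 (.leaf 0x377) (.leaf 0x376))) (.node 2 (.node 1 (.leaf 0x371) (.leaf 0x370)) (.node 1 (.leaf 0x373) (.leaf 0x372))))) (.node 8 (.node 4 (.node 2 (.node 1 (.leaf 0x281) (.leaf 0x280)) (.node 1 (.leaf 0x283) (.leaf 0x282))) (.node 2 (.node 1 (.leaf 0x285) (.leaf 0x284)) (.node 1 (.leaf 0x287) (.leaf 0x286)))) (.node 4 (.node 2 (.node 1 (.leaf 0x289) (.leaf 0x288)) (.node 1 (.leaf 0x28b) (.leaf 0x28a))) (.node 2 (.node 1 (.leaf 0x28d) (.leaf 0x28c)) (.node 1 (.leaf 0x28f) (.leaf 0x28e)))))) (.node 16 (.node 8 (.node 4 (.node 2 (.node 1 (.leaf 0x351) (.leaf 0x350)) (.node 1 (.leaf 0x353) (.leaf 0x352))) (.node 2 (.node 1 (.leaf 0x355) (.leaf 0x354)) (.node 1 (.leaf 0x357) (.leaf 0x356)))) (.node 4 (.node 2 (.node 1 (.leaf 0x359) (.leaf 0x358)) (.node 1 (.leaf 0x35b) (.leaf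 0x35a))) (.node 2 (.node 1 (.leaf 0x35d) (.leaf 0x35c)) (.node 1 (.leaf 0x35f) (.leaf 0x35e))))) (.node 8 (.node 4 (.node 2 (.node 1 (.leaf 0x31d) (.leaf 0x31c)) (.node 1 (.leaf 0x31f) (.leaf 0x31e))) (.node 2 (.node 1 (.leaf 0x319) (.leaf 0x318)) (.node 1 (.leaf 0x31b) (.leaf 0x31a)))) (.node 4 (.node 2 (.node 1 (.leaf 0x315) (.leaf 0x314)) (.node 1 (.leaf 0x317) (.leaf 0x316))) (.node 2 (.node 1 (.leaf 0x311) (.leaf 0x310)) (.node 1 (.leaf 0x313) (.leaf 0x312)))))))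

def mulP_22 : Tree :=
  .node 64 (.node 32 (.node 16 (.node 8 (.node 4 (.node 2 (.node 1 (.leaf 0x331) (.leaf 0x330)) (.node 1 (.leaf 0x333) (.leaf 0x332))) (.node 2 (.node 1 (.leaf 0x335) (.leaf 0x334)) (.node 1 (.leaf 0x337) (.leaf 0x336)))) (.node 4 (.node 2 (.node 1 (.leaf 0x339) (.leaf 0x338)) (.node 1 (.leaf 0x33b) (.leaf 0x33a))) (.node 2 (.node 1 (.leaf 0x33d) (.leaf 0x33c)) (.node 1 (.leaf 0x33f) (.leaf 0x33e))))) (.node 8 (.node 4 (.node 2 (.node 1 (.leaf 0x2fd) (.leaf 0x2fc)) (.node 1 (.leaf 0x2ff) (.leaf 0x2fe))) (.node 2 (.node 1 (.leaf 0x2f9) (.leaf 0x2f8)) (.node 1 (.leaf 0x2fb) (.leaf 0x2fa)))) (.node 4 (.node 2 (.node 1 (.leaf 0x2f5) (.leaf 0x2f4)) (.node 1 (.leaf 0x2f7) (.leaf 0x2f6))) (.node 2 (.node 1 (.leaf 0x2f1) (.leaf 0x2f0)) (.node 1 (.leaf 0x2f3) (.leaf 0x2f2)))))) (.node 16 (.node 8 (.node 4 (.node 2 (.node 1 (.leaf 0x29d) (.leaf 0x29c)) (.node 1 (.leaf 0x29f) (.leaf 0x29e))) (.node 2 (.node 1 (.leaf 0x299)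 (.leaf 0x298)) (.node 1 (.leaf 0x29b) (.leaf 0x29a)))) (.node 4 (.node 2 (.node 1 (.leaf 0x295) (.leaf 0x294)) (.node 1 (.leaf 0x297) (.leaf 0x296))) (.node 2 (.node 1 (.leaf 0x291) (.leaf 0x290)) (.node 1 (.leaf 0x293) (.leaf 0x292))))) (.node 8 (.node 4 (.node 2 (.node 1 (.leaf 0x301) (.leaf 0x300)) (.node 1 (.leaf 0x303) (.leaf 0x302))) (.node 2 (.node 1 (.leaf 0x305) (.leaf 0x304)) (.node 1 (.leaf 0x307) (.leaf 0x306)))) (.node 4 (.node 2 (.node 1 (.leaf 0x309) (.leaf 0x308)) (.node 1 (.leaf 0x30b) (.leaf 0x30a))) (.node 2 (.node 1 (.leaf 0x30d) (.leaf 0x30c)) (.node 1 (.leaf 0x30f) (.leaf 0x30e))))))) (.node 32 (.node 16 (.node 8 (.node 4 (.node 2 (.node 1 (.leaf 0x36d) (.leaf 0x36c)) (.node 1 (.leaf 0x36f) (.leaf 0x36e))) (.node 2 (.node 1 (.leaf 0x369) (.leaf 0x368)) (.node 1 (.leaf 0x36b) (.leaf 0x36a)))) (.node 4 (.node 2 (.node 1 (.leaf 0x365) (.leaf 0x364)) (.node 1 (.leaf 0x367) (.leaf 0x366))) (.node 2 (.node 1 (.leaf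 0x361) (.leaf 0x360)) (.node 1 (.leaf 0x363) (.leaf 0x362))))) (.node 8 (.node 4 (.node 2 (.node 1 (.leaf 0x2e1) (.leaf 0x2e0)) (.node 1 (.leaf 0x2e3) (.leaf 0x2e2))) (.node 2 (.node 1 (.leaf 0x2e5) (.leaf 0x2e4)) (.node 1 (.leaf 0x2e7) (.leaf 0x2e6)))) (.node 4 (.node 2 (.node 1 (.leaf 0x2e9) (.leaf 0x2e8)) (.node 1 (.leaf 0x2eb) (.leaf 0x2ea))) (.node 2 (.node 1 (.leaf 0x2ed) (.leaf 0x2ec)) (.node 1 (.leaf 0x2ef) (.leaf 0x2ee)))))) (.node 16 (.node 8 (.node 4 (.node 2 (.node 1 (.leaf 0x34d) (.leaf 0x34c)) (.node 1 (.leaf 0x34f) (.leaf 0x34e))) (.node 2 (.node 1 (.leaf 0x349) (.leaf 0x348)) (.node 1 (.leaf 0x34b) (.leaf 0x34a)))) (.node 4 (.node 2 (.node 1 (.leaf 0x345) (.leaf 0x344)) (.node 1 (.leaf 0x347) (.leaf 0x346))) (.node 2 (.node 1 (.leaf 0x341) (.leaf 0x340)) (.node 1 (.leaf 0x343) (.leaf 0x342))))) (.node 8 (.node 4 (.node 2 (.node 1 (.leaf 0x2cd) (.leaf 0x2cc)) (.node 1 (.leaf 0x2cf) (.leaf 0x2ce))) (.node 2 (.node 1 (.leaf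 0x2c9) (.leaf 0x2c8)) (.node 1 (.leaf 0x2cb) (.leaf 0x2ca)))) (.node 4 (.node 2 (.node 1 (.leaf 0x2c5) (.leaf 0x2c4)) (.node 1 (.leaf 0x2c7) (.leaf 0x2c6))) (.node 2 (.node 1 (.leaf 0x2c1) (.leaf 0x2c0)) (.node 1 (.leaf 0x2c3) (.leaf 0x2c2)))))))

def mulP_23 : Tree :=
  .node 64 (.node 32 (.node 16 (.node 8 (.node 4 (.node 2 (.node 1 (.leaf 0x381) (.leaf 0x380)) (.node 1 (.leaf 0x383) (.leaf 0x382))) (.node 2 (.node 1 (.leaf 0x385) (.leaf 0x384)) (.node 1 (.leaf 0x387) (.leaf 0x386)))) (.node 4 (.node 2 (.node 1 (.leaf 0x389) (.leaf 0x388)) (.node 1 (.leaf 0x38b) (.leaf 0x38a))) (.node 2 (.node 1 (.leaf 0x38d) (.leaf 0x38c)) (.node 1 (.leaf 0x38f) (.leaf 0x38e))))) (.node 8 (.node 4 (.node 2 (.node 1 (.leaf 0x391) (.leaf 0x390)) (.node 1 (.leaf 0x393) (.leaf 0x392))) (.node 2 (.node 1 (.leaf 0x395) (.leaf 0x394)) (.node 1 (.leaf 0x397) (.leaf 0x396)))) (.node 4 (.node 2 (.node 1 (.leaf 0x399) (.leaf 0x398)) (.node 1 (.leaf 0x39b)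 (.leaf 0x39a))) (.node 2 (.node 1 (.leaf 0x39d) (.leaf 0x39c)) (.node 1 (.leaf 0x39f) (.leaf 0x39e)))))) (.node 16 (.node 8 (.node 4 (.node 2 (.node 1 (.leaf 0x3a1) (.leaf 0x3a0)) (.node 1 (.leaf 0x3a3) (.leaf 0x3a2))) (.node 2 (.node 1 (.leaf 0x3a5) (.leaf 0x3a4)) (.node 1 (.leaf 0x3a7) (.leaf 0x3a6)))) (.node 4 (.node 2 (.node 1 (.leaf 0x3a9) (.leaf 0x3a8)) (.node 1 (.leaf 0x3ab) (.leaf 0x3aa))) (.node 2 (.node 1 (.leaf 0x3ad) (.leaf 0x3ac)) (.node 1 (.leaf 0x3af) (.leaf 0x3ae))))) (.node 8 (.node 4 (.node 2 (.node 1 (.leaf 0x3fd) (.leaf 0x3fc)) (.node 1 (.leaf 0x3ff) (.leaf 0x3fe))) (.node 2 (.node 1 (.leaf 0x3f9) (.leaf 0x3f8)) (.node 1 (.leaf 0x3fb) (.leaf 0x3fa)))) (.node 4 (.node 2 (.node 1 (.leaf 0x3f5) (.leaf 0x3f4)) (.node 1 (.leaf 0x3f7) (.leaf 0x3f6))) (.node 2 (.node 1 (.leaf 0x3f1) (.leaf 0x3f0)) (.node 1 (.leaf 0x3f3) (.leaf 0x3f2))))))) (.node 32 (.node 16 (.node 8 (.node 4 (.node 2 (.node 1 (.leaf 0x3ed) (.leaf 0x3ec))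 (.node 1 (.leaf 0x3ef) (.leaf 0x3ee))) (.node 2 (.node 1 (.leaf 0x3e9) (.leaf 0x3e8)) (.node 1 (.leaf 0x3eb) (.leaf 0x3ea)))) (.node 4 (.node 2 (.node 1 (.leaf 0x3e5) (.leaf 0x3e4)) (.node 1 (.leaf 0x3e7) (.leaf 0x3e6))) (.node 2 (.node 1 (.leaf 0x3e1) (.leaf 0x3e0)) (.node 1 (.leaf 0x3e3) (.leaf 0x3e2))))) (.node 8 (.node 4 (.node 2 (.node 1 (.leaf 0x3d1) (.leaf 0x3d0)) (.node 1 (.leaf 0x3d3) (.leaf 0x3d2))) (.node 2 (.node 1 (.leaf 0x3d5) (.leaf 0x3d4)) (.node 1 (.leaf 0x3d7) (.leaf 0x3d6)))) (.node 4 (.node 2 (.node 1 (.leaf 0x3d9) (.leaf 0x3d8)) (.node 1 (.leaf 0x3db) (.leaf 0x3da))) (.node 2 (.node 1 (.leaf 0x3dd) (.leaf 0x3dc)) (.node 1 (.leaf 0x3df) (.leaf 0x3de)))))) (.node 16 (.node 8 (.node 4 (.node 2 (.node 1 (.leaf 0x3cd) (.leaf 0x3cc)) (.node 1 (.leaf 0x3cf) (.leaf 0x3ce))) (.node 2 (.node 1 (.leaf 0x3c9) (.leaf 0x3c8)) (.node 1 (.leaf 0x3cb) (.leaf 0x3ca)))) (.node 4 (.node 2 (.node 1 (.leaf 0x3c5) (.leaf 0x3c4)) (.node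 1 (.leaf 0x3c7) (.leaf 0x3c6))) (.node 2 (.node 1 (.leaf 0x3c1) (.leaf 0x3c0)) (.node 1 (.leaf 0x3c3) (.leaf 0x3c2))))) (.node 8 (.node 4 (.node 2 (.node 1 (.leaf 0x3bd) (.leaf 0x3bc)) (.node 1 (.leaf 0x3bf) (.leaf 0x3be))) (.node 2 (.node 1 (.leaf 0x3b9) (.leaf 0x3b8)) (.node 1 (.leaf 0x3bb) (.leaf 0x3ba)))) (.node 4 (.node 2 (.node 1 (.leaf 0x3b5) (.leaf 0x3b4)) (.node 1 (.leaf 0x3b7) (.leaf 0x3b6))) (.node 2 (.node 1 (.leaf 0x3b1) (.leaf 0x3b0)) (.node 1 (.leaf 0x3b3) (.leaf 0x3b2)))))))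

def mulP_24 : Tree :=
  .node 64 (.node 32 (.node 16 (.node 8 (.node 4 (.node 2 (.node 1 (.leaf 0x101) (.leaf 0xd)) (.node 1 (.leaf 0xe) (.leaf 0xf))) (.node 2 (.node 1 (.leaf 0x10) (.leaf 0x9)) (.node 1 (.leaf 0xa) (.leaf 0xb)))) (.node 4 (.node 2 (.node 1 (.leaf 0xc) (.leaf 0x5)) (.node 1 (.leaf 0x6) (.leaf 0x7))) (.node 2 (.node 1 (.leaf 0x8) (.leaf 0x1)) (.node 1 (.leaf 0x2) (.leaf 0x3))))) (.node 8 (.node 4 (.node 2 (.node 1 (.leaf 0x4) (.leaf 0x1d)) (.node 1 (.leaf 0x1e) (.leaf 0x1f))) (.node 2 (.node 1 (.leaf 0x20) (.leaf 0x19)) (.node 1 (.leaf 0x1a) (.leaf 0x1b)))) (.node 4 (.node 2 (.node 1 (.leaf 0x1c) (.leaf 0x15)) (.node 1 (.leaf 0x16) (.leaf 0x17))) (.node 2 (.node 1 (.leaf 0x18) (.leaf 0x11)) (.node 1 (.leaf 0x12) (.leaf 0x13)))))) (.node 16 (.node 8 (.node 4 (.node 2 (.node 1 (.leaf 0x14) (.leaf 0x2d)) (.node 1 (.leaf 0x2e) (.leaf 0x2f))) (.node 2 (.node 1 (.leaf 0x30) (.leaf 0x29)) (.node 1 (.leaf 0x2a) (.leaf 0x2b))))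 (.node 4 (.node 2 (.node 1 (.leaf 0x2c) (.leaf 0x25)) (.node 1 (.leaf 0x26) (.leaf 0x27))) (.node 2 (.node 1 (.leaf 0x28) (.leaf 0x21)) (.node 1 (.leaf 0x22) (.leaf 0x23))))) (.node 8 (.node 4 (.node 2 (.node 1 (.leaf 0x24) (.leaf 0x3d)) (.node 1 (.leaf 0x3e) (.leaf 0x3f))) (.node 2 (.node 1 (.leaf 0x40) (.leaf 0x39)) (.node 1 (.leaf 0x3a) (.leaf 0x3b)))) (.node 4 (.node 2 (.node 1 (.leaf 0x3c) (.leaf 0x35)) (.node 1 (.leaf 0x36) (.leaf 0x37))) (.node 2 (.node 1 (.leaf 0x38) (.leaf 0x31)) (.node 1 (.leaf 0x32) (.leaf 0x33))))))) (.node 32 (.node 16 (.node 8 (.node 4 (.node 2 (.node 1 (.leaf 0x34) (.leaf 0x4d)) (.node 1 (.leaf 0x4e) (.leaf 0x4f))) (.node 2 (.node 1 (.leaf 0x50) (.leaf 0x49)) (.node 1 (.leaf 0x4a) (.leaf 0x4b)))) (.node 4 (.node 2 (.node 1 (.leaf 0x4c) (.leaf 0x45)) (.node 1 (.leaf 0x46) (.leaf 0x47))) (.node 2 (.node 1 (.leaf 0x48) (.leaf 0x41)) (.node 1 (.leaf 0x42) (.leaf 0x43))))) (.node 8 (.node 4 (.node 2 (.node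 1 (.leaf 0x44) (.leaf 0x5d)) (.node 1 (.leaf 0x5e) (.leaf 0x5f))) (.node 2 (.node 1 (.leaf 0x60) (.leaf 0x59)) (.node 1 (.leaf 0x5a) (.leaf 0x5b)))) (.node 4 (.node 2 (.node 1 (.leaf 0x5c) (.leaf 0x55)) (.node 1 (.leaf 0x56) (.leaf 0x57))) (.node 2 (.node 1 (.leaf 0x58) (.leaf 0x51)) (.node 1 (.leaf 0x52) (.leaf 0x53)))))) (.node 16 (.node 8 (.node 4 (.node 2 (.node 1 (.leaf 0x54) (.leaf 0x6d)) (.node 1 (.leaf 0x6e) (.leaf 0x6f))) (.node 2 (.node 1 (.leaf 0x70) (.leaf 0x69)) (.node 1 (.leaf 0x6a) (.leaf 0x6b)))) (.node 4 (.node 2 (.node 1 (.leaf 0x6c) (.leaf 0x65)) (.node 1 (.leaf 0x66) (.leaf 0x67))) (.node 2 (.node 1 (.leaf 0x68) (.leaf 0x61)) (.node 1 (.leaf 0x62) (.leaf 0x63))))) (.node 8 (.node 4 (.node 2 (.node 1 (.leaf 0x64) (.leaf 0x7d)) (.node 1 (.leaf 0x7e) (.leaf 0x7f))) (.node 2 (.node 1 (.leaf 0x80) (.leaf 0x79)) (.node 1 (.leaf 0x7a) (.leaf 0x7b)))) (.node 4 (.node 2 (.node 1 (.leaf 0x7c) (.leaf 0x75)) (.node 1 (.leaf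 0x76) (.leaf 0x77))) (.node 2 (.node 1 (.leaf 0x78) (.leaf 0x71)) (.node 1 (.leaf 0x72) (.leaf 0x73)))))))

def mulP_25 : Tree :=
  .node 64 (.node 32 (.node 16 (.node 8 (.node 4 (.node 2 (.node 1 (.leaf 0x74) (.leaf 0x100)) (.node 1 (.leaf 0x102) (.leaf 0x103))) (.node 2 (.node 1 (.leaf 0x104) (.leaf 0x105)) (.node 1 (.leaf 0x106) (.leaf 0x107)))) (.node 4 (.node 2 (.node 1 (.leaf 0x108) (.leaf 0x109)) (.node 1 (.leaf 0x10a) (.leaf 0x10b))) (.node 2 (.node 1 (.leaf 0x10c) (.leaf 0x10d)) (.node 1 (.leaf 0x10e) (.leaf 0x10f))))) (.node 8 (.node 4 (.node 2 (.node 1 (.leaf 0x9c) (.leaf 0x9d)) (.node 1 (.leaf 0x9e) (.leaf 0x9f))) (.node 2 (.node 1 (.leaf 0x98) (.leaf 0x99)) (.node 1 (.leaf 0x9a) (.leaf 0x9b)))) (.node 4 (.node 2 (.node 1 (.leaf 0x94) (.leaf 0x95)) (.node 1 (.leaf 0x96) (.leaf 0x97))) (.node 2 (.node 1 (.leaf 0x90) (.leaf 0x91)) (.node 1 (.leaf 0x92) (.leaf 0x93)))))) (.node 16 (.node 8 (.node 4 (.node 2 (.node 1 (.leaf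 0xac) (.leaf 0xad)) (.node 1 (.leaf 0xae) (.leaf 0xaf))) (.node 2 (.node 1 (.leaf 0xa8) (.leaf 0xa9)) (.node 1 (.leaf 0xaa) (.leaf 0xab)))) (.node 4 (.node 2 (.node 1 (.leaf 0xa4) (.leaf 0xa5)) (.node 1 (.leaf 0xa6) (.leaf 0xa7))) (.node 2 (.node 1 (.leaf 0xa0) (.leaf 0xa1)) (.node 1 (.leaf 0xa2) (.leaf 0xa3))))) (.node 8 (.node 4 (.node 2 (.node 1 (.leaf 0xbc) (.leaf 0xbd)) (.node 1 (.leaf 0xbe) (.leaf 0xbf))) (.node 2 (.node 1 (.leaf 0xb8) (.leaf 0xb9)) (.node 1 (.leaf 0xba) (.leaf 0xbb)))) (.node 4 (.node 2 (.node 1 (.leaf 0xb4) (.leaf 0xb5)) (.node 1 (.leaf 0xb6) (.leaf 0xb7))) (.node 2 (.node 1 (.leaf 0xb0) (.leaf 0xb1)) (.node 1 (.leaf 0xb2) (.leaf 0xb3))))))) (.node 32 (.node 16 (.node 8 (.node 4 (.node 2 (.node 1 (.leaf 0x130) (.leaf 0x131)) (.node 1 (.leaf 0x132) (.leaf 0x133))) (.node 2 (.node 1 (.leaf 0x134) (.leaf 0x135)) (.node 1 (.leaf 0x136) (.leaf 0x137)))) (.node 4 (.node 2 (.node 1 (.leaf 0x138) (.leaf 0x139)) (.node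 1 (.leaf 0x13a) (.leaf 0x13b))) (.node 2 (.node 1 (.leaf 0x13c) (.leaf 0x13d)) (.node 1 (.leaf 0x13e) (.leaf 0x13f))))) (.node 8 (.node 4 (.node 2 (.node 1 (.leaf 0xdc) (.leaf 0xdd)) (.node 1 (.leaf 0xde) (.leaf 0xdf))) (.node 2 (.node 1 (.leaf 0xd8) (.leaf 0xd9)) (.node 1 (.leaf 0xda) (.leaf 0xdb)))) (.node 4 (.node 2 (.node 1 (.leaf 0xd4) (.leaf 0xd5)) (.node 1 (.leaf 0xd6) (.leaf 0xd7))) (.node 2 (.node 1 (.leaf 0xd0) (.leaf 0xd1)) (.node 1 (.leaf 0xd2) (.leaf 0xd3)))))) (.node 16 (.node 8 (.node 4 (.node 2 (.node 1 (.leaf 0xec) (.leaf 0xed)) (.node 1 (.leaf 0xee) (.leaf 0xef))) (.node 2 (.node 1 (.leaf 0xe8) (.leaf 0xe9)) (.node 1 (.leaf 0xea) (.leaf 0xeb)))) (.node 4 (.node 2 (.node 1 (.leaf 0xe4) (.leaf 0xe5)) (.node 1 (.leaf 0xe6) (.leaf 0xe7))) (.node 2 (.node 1 (.leaf 0xe0) (.leaf 0xe1)) (.node 1 (.leaf 0xe2) (.leaf 0xe3))))) (.node 8 (.node 4 (.node 2 (.node 1 (.leaf 0xfc) (.leaf 0xfd)) (.node 1 (.leaf 0xfe) (.leaf 0xff)))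 (.node 2 (.node 1 (.leaf 0xf8) (.leaf 0xf9)) (.node 1 (.leaf 0xfa) (.leaf 0xfb)))) (.node 4 (.node 2 (.node 1 (.leaf 0xf4) (.leaf 0xf5)) (.node 1 (.leaf 0xf6) (.leaf 0xf7))) (.node 2 (.node 1 (.leaf 0xf0) (.leaf 0xf1)) (.node 1 (.leaf 0xf2) (.leaf 0xf3)))))))

def mulP_26 : Tree :=
  .node 64 (.node 32 (.node 16 (.node 8 (.node 4 (.node 2 (.node 1 (.leaf 0x81) (.leaf 0x0)) (.node 1 (.leaf 0x82) (.leaf 0x83))) (.node 2 (.node 1 (.leaf 0x84) (.leaf 0x85)) (.node 1 (.leaf 0x86) (.leaf 0x87)))) (.node 4 (.node 2 (.node 1 (.leaf 0x88) (.leaf 0x89)) (.node 1 (.leaf 0x8a) (.leaf 0x8b))) (.node 2 (.node 1 (.leaf 0x8c) (.leaf 0x8d)) (.node 1 (.leaf 0x8e) (.leaf 0x8f))))) (.node 8 (.node 4 (.node 2 (.node 1 (.leaf 0x160) (.leaf 0x161)) (.node 1 (.leaf 0x162) (.leaf 0x163))) (.node 2 (.node 1 (.leaf 0x164) (.leaf 0x165)) (.node 1 (.leaf 0x166) (.leaf 0x167)))) (.node 4 (.node 2 (.node 1 (.leaf 0x168) (.leaf 0x169)) (.node 1 (.leaf 0x16a) (.leaf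 0x16b))) (.node 2 (.node 1 (.leaf 0x16c) (.leaf 0x16d)) (.node 1 (.leaf 0x16e) (.leaf 0x16f)))))) (.node 16 (.node 8 (.node 4 (.node 2 (.node 1 (.leaf 0x12c) (.leaf 0x12d)) (.node 1 (.leaf 0x12e) (.leaf 0x12f))) (.node 2 (.node 1 (.leaf 0x128) (.leaf 0x129)) (.node 1 (.leaf 0x12a) (.leaf 0x12b)))) (.node 4 (.node 2 (.node 1 (.leaf 0x124) (.leaf 0x125)) (.node 1 (.leaf 0x126) (.leaf 0x127))) (.node 2 (.node 1 (.leaf 0x120) (.leaf 0x121)) (.node 1 (.leaf 0x122) (.leaf 0x123))))) (.node 8 (.node 4 (.node 2 (.node 1 (.leaf 0xc0) (.leaf 0xc1)) (.node 1 (.leaf 0xc2) (.leaf 0xc3))) (.node 2 (.node 1 (.leaf 0xc4) (.leaf 0xc5)) (.node 1 (.leaf 0xc6) (.leaf 0xc7)))) (.node 4 (.node 2 (.node 1 (.leaf 0xc8) (.leaf 0xc9)) (.node 1 (.leaf 0xca) (.leaf 0xcb))) (.node 2 (.node 1 (.leaf 0xcc) (.leaf 0xcd)) (.node 1 (.leaf 0xce) (.leaf 0xcf))))))) (.node 32 (.node 16 (.node 8 (.node 4 (.node 2 (.node 1 (.leaf 0x170) (.leaf 0x171)) (.node 1 (.leaf 0x172)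 (.leaf 0x173))) (.node 2 (.node 1 (.leaf 0x174) (.leaf 0x175)) (.node 1 (.leaf 0x176) (.leaf 0x177)))) (.node 4 (.node 2 (.node 1 (.leaf 0x178) (.leaf 0x179)) (.node 1 (.leaf 0x17a) (.leaf 0x17b))) (.node 2 (.node 1 (.leaf 0x17c) (.leaf 0x17d)) (.node 1 (.leaf 0x17e) (.leaf 0x17f))))) (.node 8 (.node 4 (.node 2 (.node 1 (.leaf 0x15c) (.leaf 0x15d)) (.node 1 (.leaf 0x15e) (.leaf 0x15f))) (.node 2 (.node 1 (.leaf 0x158) (.leaf 0x159)) (.node 1 (.leaf 0x15a) (.leaf 0x15b)))) (.node 4 (.node 2 (.node 1 (.leaf 0x154) (.leaf 0x155)) (.node 1 (.leaf 0x156) (.leaf 0x157))) (.node 2 (.node 1 (.leaf 0x150) (.leaf 0x151)) (.node 1 (.leaf 0x152) (.leaf 0x153)))))) (.node 16 (.node 8 (.node 4 (.node 2 (.node 1 (.leaf 0x110) (.leaf 0x111)) (.node 1 (.leaf 0x112) (.leaf 0x113))) (.node 2 (.node 1 (.leaf 0x114) (.leaf 0x115)) (.node 1 (.leaf 0x116) (.leaf 0x117)))) (.node 4 (.node 2 (.node 1 (.leaf 0x118) (.leaf 0x119)) (.node 1 (.leaf 0x11a) (.leaf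 0x11b))) (.node 2 (.node 1 (.leaf 0x11c) (.leaf 0x11d)) (.node 1 (.leaf 0x11e) (.leaf 0x11f))))) (.node 8 (.node 4 (.node 2 (.node 1 (.leaf 0x140) (.leaf 0x141)) (.node 1 (.leaf 0x142) (.leaf 0x143))) (.node 2 (.node 1 (.leaf 0x144) (.leaf 0x145)) (.node 1 (.leaf 0x146) (.leaf 0x147)))) (.node 4 (.node 2 (.node 1 (.leaf 0x148) (.leaf 0x149)) (.node 1 (.leaf 0x14a) (.leaf 0x14b))) (.node 2 (.node 1 (.leaf 0x14c) (.leaf 0x14d)) (.node 1 (.leaf 0x14e) (.leaf 0x14f)))))))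

def mulP_27 : Tree :=
  .node 64 (.node 32 (.node 16 (.node 8 (.node 4 (.node 2 (.node 1 (.leaf 0x18c) (.leaf 0x18d)) (.node 1 (.leaf 0x18e) (.leaf 0x18f))) (.node 2 (.node 1 (.leaf 0x188) (.leaf 0x189)) (.node 1 (.leaf 0x18a) (.leaf 0x18b)))) (.node 4 (.node 2 (.node 1 (.leaf 0x184) (.leaf 0x185)) (.node 1 (.leaf 0x186) (.leaf 0x187))) (.node 2 (.node 1 (.leaf 0x180) (.leaf 0x181)) (.node 1 (.leaf 0x182) (.leaf 0x183))))) (.node 8 (.node 4 (.node 2 (.node 1 (.leaf 0x19c) (.leaf 0x19d)) (.node 1 (.leaf 0x19e) (.leaf 0x19f))) (.node 2 (.node 1 (.leaf 0x198) (.leaf 0x199)) (.node 1 (.leaf 0x19a) (.leaf 0x19b)))) (.node 4 (.node 2 (.node 1 (.leaf 0x194) (.leaf 0x195)) (.node 1 (.leaf 0x196) (.leaf 0x197))) (.node 2 (.node 1 (.leaf 0x190) (.leaf 0x191)) (.node 1 (.leaf 0x192) (.leaf 0x193)))))) (.node 16 (.node 8 (.node 4 (.node 2 (.node 1 (.leaf 0x1ac) (.leaf 0x1ad)) (.node 1 (.leaf 0x1ae) (.leaf 0x1af))) (.node 2 (.node 1 (.leaf 0x1a8)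 (.leaf 0x1a9)) (.node 1 (.leaf 0x1aa) (.leaf 0x1ab)))) (.node 4 (.node 2 (.node 1 (.leaf 0x1a4) (.leaf 0x1a5)) (.node 1 (.leaf 0x1a6) (.leaf 0x1a7))) (.node 2 (.node 1 (.leaf 0x1a0) (.leaf 0x1a1)) (.node 1 (.leaf 0x1a2) (.leaf 0x1a3))))) (.node 8 (.node 4 (.node 2 (.node 1 (.leaf 0x1bc) (.leaf 0x1bd)) (.node 1 (.leaf 0x1be) (.leaf 0x1bf))) (.node 2 (.node 1 (.leaf 0x1b8) (.leaf 0x1b9)) (.node 1 (.leaf 0x1ba) (.leaf 0x1bb)))) (.node 4 (.node 2 (.node 1 (.leaf 0x1b4) (.leaf 0x1b5)) (.node 1 (.leaf 0x1b6) (.leaf 0x1b7))) (.node 2 (.node 1 (.leaf 0x1b0) (.leaf 0x1b1)) (.node 1 (.leaf 0x1b2) (.leaf 0x1b3))))))) (.node 32 (.node 16 (.node 8 (.node 4 (.node 2 (.node 1 (.leaf 0x1cc) (.leaf 0x1cd)) (.node 1 (.leaf 0x1ce) (.leaf 0x1cf))) (.node 2 (.node 1 (.leaf 0x1c8) (.leaf 0x1c9)) (.node 1 (.leaf 0x1ca) (.leaf 0x1cb)))) (.node 4 (.node 2 (.node 1 (.leaf 0x1c4) (.leaf 0x1c5)) (.node 1 (.leaf 0x1c6) (.leaf 0x1c7))) (.node 2 (.node 1 (.leaf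 0x1c0) (.leaf 0x1c1)) (.node 1 (.leaf 0x1c2) (.leaf 0x1c3))))) (.node 8 (.node 4 (.node 2 (.node 1 (.leaf 0x1dc) (.leaf 0x1dd)) (.node 1 (.leaf 0x1de) (.leaf 0x1df))) (.node 2 (.node 1 (.leaf 0x1d8) (.leaf 0x1d9)) (.node 1 (.leaf 0x1da) (.leaf 0x1db)))) (.node 4 (.node 2 (.node 1 (.leaf 0x1d4) (.leaf 0x1d5)) (.node 1 (.leaf 0x1d6) (.leaf 0x1d7))) (.node 2 (.node 1 (.leaf 0x1d0) (.leaf 0x1d1)) (.node 1 (.leaf 0x1d2) (.leaf 0x1d3)))))) (.node 16 (.node 8 (.node 4 (.node 2 (.node 1 (.leaf 0x1ec) (.leaf 0x1ed)) (.node 1 (.leaf 0x1ee) (.leaf 0x1ef))) (.node 2 (.node 1 (.leaf 0x1e8) (.leaf 0x1e9)) (.node 1 (.leaf 0x1ea) (.leaf 0x1eb)))) (.node 4 (.node 2 (.node 1 (.leaf 0x1e4) (.leaf 0x1e5)) (.node 1 (.leaf 0x1e6) (.leaf 0x1e7))) (.node 2 (.node 1 (.leaf 0x1e0) (.leaf 0x1e1)) (.node 1 (.leaf 0x1e2) (.leaf 0x1e3))))) (.node 8 (.node 4 (.node 2 (.node 1 (.leaf 0x1fc) (.leaf 0x1fd)) (.node 1 (.leaf 0x1fe) (.leaf 0x1ff))) (.node 2 (.node 1 (.leaf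 0x1f8) (.leaf 0x1f9)) (.node 1 (.leaf 0x1fa) (.leaf 0x1fb)))) (.node 4 (.node 2 (.node 1 (.leaf 0x1f4) (.leaf 0x1f5)) (.node 1 (.leaf 0x1f6) (.leaf 0x1f7))) (.node 2 (.node 1 (.leaf 0x1f0) (.leaf 0x1f1)) (.node 1 (.leaf 0x1f2) (.leaf 0x1f3)))))))

def mulP_28 : Tree :=
  .node 64 (.node 32 (.node 16 (.node 8 (.node 4 (.node 2 (.node 1 (.leaf 0x20c) (.leaf 0x20d)) (.node 1 (.leaf 0x20e) (.leaf 0x20f))) (.node 2 (.node 1 (.leaf 0x208) (.leaf 0x209)) (.node 1 (.leaf 0x20a) (.leaf 0x20b)))) (.node 4 (.node 2 (.node 1 (.leaf 0x204) (.leaf 0x205)) (.node 1 (.leaf 0x206) (.leaf 0x207))) (.node 2 (.node 1 (.leaf 0x200) (.leaf 0x201)) (.node 1 (.leaf 0x202) (.leaf 0x203))))) (.node 8 (.node 4 (.node 2 (.node 1 (.leaf 0x21c) (.leaf 0x21d)) (.node 1 (.leaf 0x21e) (.leaf 0x21f))) (.node 2 (.node 1 (.leaf 0x218) (.leaf 0x219)) (.node 1 (.leaf 0x21a) (.leaf 0x21b)))) (.node 4 (.node 2 (.node 1 (.leaf 0x214) (.leaf 0x215)) (.node 1 (.leaf 0x216)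 (.leaf 0x217))) (.node 2 (.node 1 (.leaf 0x210) (.leaf 0x211)) (.node 1 (.leaf 0x212) (.leaf 0x213)))))) (.node 16 (.node 8 (.node 4 (.node 2 (.node 1 (.leaf 0x22c) (.leaf 0x22d)) (.node 1 (.leaf 0x22e) (.leaf 0x22f))) (.node 2 (.node 1 (.leaf 0x228) (.leaf 0x229)) (.node 1 (.leaf 0x22a) (.leaf 0x22b)))) (.node 4 (.node 2 (.node 1 (.leaf 0x224) (.leaf 0x225)) (.node 1 (.leaf 0x226) (.leaf 0x227))) (.node 2 (.node 1 (.leaf 0x220) (.leaf 0x221)) (.node 1 (.leaf 0x222) (.leaf 0x223))))) (.node 8 (.node 4 (.node 2 (.node 1 (.leaf 0x23c) (.leaf 0x23d)) (.node 1 (.leaf 0x23e) (.leaf 0x23f))) (.node 2 (.node 1 (.leaf 0x238) (.leaf 0x239)) (.node 1 (.leaf 0x23a) (.leaf 0x23b)))) (.node 4 (.node 2 (.node 1 (.leaf 0x234) (.leaf 0x235)) (.node 1 (.leaf 0x236) (.leaf 0x237))) (.node 2 (.node 1 (.leaf 0x230) (.leaf 0x231)) (.node 1 (.leaf 0x232) (.leaf 0x233))))))) (.node 32 (.node 16 (.node 8 (.node 4 (.node 2 (.node 1 (.leaf 0x24c) (.leaf 0x24d))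 (.node 1 (.leaf 0x24e) (.leaf 0x24f))) (.node 2 (.node 1 (.leaf 0x248) (.leaf 0x249)) (.node 1 (.leaf 0x24a) (.leaf 0x24b)))) (.node 4 (.node 2 (.node 1 (.leaf 0x244) (.leaf 0x245)) (.node 1 (.leaf 0x246) (.leaf 0x247))) (.node 2 (.node 1 (.leaf 0x240) (.leaf 0x241)) (.node 1 (.leaf 0x242) (.leaf 0x243))))) (.node 8 (.node 4 (.node 2 (.node 1 (.leaf 0x25c) (.leaf 0x25d)) (.node 1 (.leaf 0x25e) (.leaf 0x25f))) (.node 2 (.node 1 (.leaf 0x258) (.leaf 0x259)) (.node 1 (.leaf 0x25a) (.leaf 0x25b)))) (.node 4 (.node 2 (.node 1 (.leaf 0x254) (.leaf 0x255)) (.node 1 (.leaf 0x256) (.leaf 0x257))) (.node 2 (.node 1 (.leaf 0x250) (.leaf 0x251)) (.node 1 (.leaf 0x252) (.leaf 0x253)))))) (.node 16 (.node 8 (.node 4 (.node 2 (.node 1 (.leaf 0x26c) (.leaf 0x26d)) (.node 1 (.leaf 0x26e) (.leaf 0x26f))) (.node 2 (.node 1 (.leaf 0x268) (.leaf 0x269)) (.node 1 (.leaf 0x26a) (.leaf 0x26b)))) (.node 4 (.node 2 (.node 1 (.leaf 0x264) (.leaf 0x265)) (.node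 1 (.leaf 0x266) (.leaf 0x267))) (.node 2 (.node 1 (.leaf 0x260) (.leaf 0x261)) (.node 1 (.leaf 0x262) (.leaf 0x263))))) (.node 8 (.node 4 (.node 2 (.node 1 (.leaf 0x27c) (.leaf 0x27d)) (.node 1 (.leaf 0x27e) (.leaf 0x27f))) (.node 2 (.node 1 (.leaf 0x278) (.leaf 0x279)) (.node 1 (.leaf 0x27a) (.leaf 0x27b)))) (.node 4 (.node 2 (.node 1 (.leaf 0x274) (.leaf 0x275)) (.node 1 (.leaf 0x276) (.leaf 0x277))) (.node 2 (.node 1 (.leaf 0x270) (.leaf 0x271)) (.node 1 (.leaf 0x272) (.leaf 0x273)))))))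

def mulP_29 : Tree :=
  .node 64 (.node 32 (.node 16 (.node 8 (.node 4 (.node 2 (.node 1 (.leaf 0x2b0) (.leaf 0x2b1)) (.node 1 (.leaf 0x2b2) (.leaf 0x2b3))) (.node 2 (.node 1 (.leaf 0x2b4) (.leaf 0x2b5)) (.node 1 (.leaf 0x2b6) (.leaf 0x2b7)))) (.node 4 (.node 2 (.node 1 (.leaf 0x2b8) (.leaf 0x2b9)) (.node 1 (.leaf 0x2ba) (.leaf 0x2bb))) (.node 2 (.node 1 (.leaf 0x2bc) (.leaf 0x2bd)) (.node 1 (.leaf 0x2be) (.leaf 0x2bf))))) (.node 8 (.node 4 (.node 2 (.node 1 (.leaf 0x2c0) (.leaf 0x2c1)) (.node 1 (.leaf 0x2c2) (.leaf 0x2c3))) (.node 2 (.node 1 (.leaf 0x2c4) (.leaf 0x2c5)) (.node 1 (.leaf 0x2c6) (.leaf 0x2c7)))) (.node 4 (.node 2 (.node 1 (.leaf 0x2c8) (.leaf 0x2c9)) (.node 1 (.leaf 0x2ca) (.leaf 0x2cb))) (.node 2 (.node 1 (.leaf 0x2cc) (.leaf 0x2cd)) (.node 1 (.leaf 0x2ce) (.leaf 0x2cf)))))) (.node 16 (.node 8 (.node 4 (.node 2 (.node 1 (.leaf 0x2d0) (.leaf 0x2d1)) (.node 1 (.leaf 0x2d2) (.leaf 0x2d3))) (.node 2 (.node 1 (.leaf 0x2d4)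 (.leaf 0x2d5)) (.node 1 (.leaf 0x2d6) (.leaf 0x2d7)))) (.node 4 (.node 2 (.node 1 (.leaf 0x2d8) (.leaf 0x2d9)) (.node 1 (.leaf 0x2da) (.leaf 0x2db))) (.node 2 (.node 1 (.leaf 0x2dc) (.leaf 0x2dd)) (.node 1 (.leaf 0x2de) (.leaf 0x2df))))) (.node 8 (.node 4 (.node 2 (.node 1 (.leaf 0x280) (.leaf 0x281)) (.node 1 (.leaf 0x282) (.leaf 0x283))) (.node 2 (.node 1 (.leaf 0x284) (.leaf 0x285)) (.node 1 (.leaf 0x286) (.leaf 0x287)))) (.node 4 (.node 2 (.node 1 (.leaf 0x288) (.leaf 0x289)) (.node 1 (.leaf 0x28a) (.leaf 0x28b))) (.node 2 (.node 1 (.leaf 0x28c) (.leaf 0x28d)) (.node 1 (.leaf 0x28e) (.leaf 0x28f))))))) (.node 32 (.node 16 (.node 8 (.node 4 (.node 2 (.node 1 (.leaf 0x290) (.leaf 0x291)) (.node 1 (.leaf 0x292) (.leaf 0x293))) (.node 2 (.node 1 (.leaf 0x294) (.leaf 0x295)) (.node 1 (.leaf 0x296) (.leaf 0x297)))) (.node 4 (.node 2 (.node 1 (.leaf 0x298) (.leaf 0x299)) (.node 1 (.leaf 0x29a) (.leaf 0x29b))) (.node 2 (.node 1 (.leaf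 0x29c) (.leaf 0x29d)) (.node 1 (.leaf 0x29e) (.leaf 0x29f))))) (.node 8 (.node 4 (.node 2 (.node 1 (.leaf 0x2a0) (.leaf 0x2a1)) (.node 1 (.leaf 0x2a2) (.leaf 0x2a3))) (.node 2 (.node 1 (.leaf 0x2a4) (.leaf 0x2a5)) (.node 1 (.leaf 0x2a6) (.leaf 0x2a7)))) (.node 4 (.node 2 (.node 1 (.leaf 0x2a8) (.leaf 0x2a9)) (.node 1 (.leaf 0x2aa) (.leaf 0x2ab))) (.node 2 (.node 1 (.leaf 0x2ac) (.leaf 0x2ad)) (.node 1 (.leaf 0x2ae) (.leaf 0x2af)))))) (.node 16 (.node 8 (.node 4 (.node 2 (.node 1 (.leaf 0x330) (.leaf 0x331)) (.node 1 (.leaf 0x332) (.leaf 0x333))) (.node 2 (.node 1 (.leaf 0x334) (.leaf 0x335)) (.node 1 (.leaf 0x336) (.leaf 0x337)))) (.node 4 (.node 2 (.node 1 (.leaf 0x338) (.leaf 0x339)) (.node 1 (.leaf 0x33a) (.leaf 0x33b))) (.node 2 (.node 1 (.leaf 0x33c) (.leaf 0x33d)) (.node 1 (.leaf 0x33e) (.leaf 0x33f))))) (.node 8 (.node 4 (.node 2 (.node 1 (.leaf 0x340) (.leaf 0x341)) (.node 1 (.leaf 0x342) (.leaf 0x343))) (.node 2 (.node 1 (.leaf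 0x344) (.leaf 0x345)) (.node 1 (.leaf 0x346) (.leaf 0x347)))) (.node 4 (.node 2 (.node 1 (.leaf 0x348) (.leaf 0x349)) (.node 1 (.leaf 0x34a) (.leaf 0x34b))) (.node 2 (.node 1 (.leaf 0x34c) (.leaf 0x34d)) (.node 1 (.leaf 0x34e) (.leaf 0x34f)))))))

def mulP_30 : Tree :=
  .node 64 (.node 32 (.node 16 (.node 8 (.node 4 (.node 2 (.node 1 (.leaf 0x350) (.leaf 0x351)) (.node 1 (.leaf 0x352) (.leaf 0x353))) (.node 2 (.node 1 (.leaf 0x354) (.leaf 0x355)) (.node 1 (.leaf 0x356) (.leaf 0x357)))) (.node 4 (.node 2 (.node 1 (.leaf 0x358) (.leaf 0x359)) (.node 1 (.leaf 0x35a) (.leaf 0x35b))) (.node 2 (.node 1 (.leaf 0x35c) (.leaf 0x35d)) (.node 1 (.leaf 0x35e) (.leaf 0x35f))))) (.node 8 (.node 4 (.node 2 (.node 1 (.leaf 0x360) (.leaf 0x361)) (.node 1 (.leaf 0x362) (.leaf 0x363))) (.node 2 (.node 1 (.leaf 0x364) (.leaf 0x365)) (.node 1 (.leaf 0x366) (.leaf 0x367)))) (.node 4 (.node 2 (.node 1 (.leaf 0x368) (.leaf 0x369)) (.node 1 (.leaf 0x36a)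 (.leaf 0x36b))) (.node 2 (.node 1 (.leaf 0x36c) (.leaf 0x36d)) (.node 1 (.leaf 0x36e) (.leaf 0x36f)))))) (.node 16 (.node 8 (.node 4 (.node 2 (.node 1 (.leaf 0x370) (.leaf 0x371)) (.node 1 (.leaf 0x372) (.leaf 0x373))) (.node 2 (.node 1 (.leaf 0x374) (.leaf 0x375)) (.node 1 (.leaf 0x376) (.leaf 0x377)))) (.node 4 (.node 2 (.node 1 (.leaf 0x378) (.leaf 0x379)) (.node 1 (.leaf 0x37a) (.leaf 0x37b))) (.node 2 (.node 1 (.leaf 0x37c) (.leaf 0x37d)) (.node 1 (.leaf 0x37e) (.leaf 0x37f))))) (.node 8 (.node 4 (.node 2 (.node 1 (.leaf 0x2e0) (.leaf 0x2e1)) (.node 1 (.leaf 0x2e2) (.leaf 0x2e3))) (.node 2 (.node 1 (.leaf 0x2e4) (.leaf 0x2e5)) (.node 1 (.leaf 0x2e6) (.leaf 0x2e7)))) (.node 4 (.node 2 (.node 1 (.leaf 0x2e8) (.leaf 0x2e9)) (.node 1 (.leaf 0x2ea) (.leaf 0x2eb))) (.node 2 (.node 1 (.leaf 0x2ec) (.leaf 0x2ed)) (.node 1 (.leaf 0x2ee) (.leaf 0x2ef))))))) (.node 32 (.node 16 (.node 8 (.node 4 (.node 2 (.node 1 (.leaf 0x2f0) (.leaf 0x2f1))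 (.node 1 (.leaf 0x2f2) (.leaf 0x2f3))) (.node 2 (.node 1 (.leaf 0x2f4) (.leaf 0x2f5)) (.node 1 (.leaf 0x2f6) (.leaf 0x2f7)))) (.node 4 (.node 2 (.node 1 (.leaf 0x2f8) (.leaf 0x2f9)) (.node 1 (.leaf 0x2fa) (.leaf 0x2fb))) (.node 2 (.node 1 (.leaf 0x2fc) (.leaf 0x2fd)) (.node 1 (.leaf 0x2fe) (.leaf 0x2ff))))) (.node 8 (.node 4 (.node 2 (.node 1 (.leaf 0x300) (.leaf 0x301)) (.node 1 (.leaf 0x302) (.leaf 0x303))) (.node 2 (.node 1 (.leaf 0x304) (.leaf 0x305)) (.node 1 (.leaf 0x306) (.leaf 0x307)))) (.node 4 (.node 2 (.node 1 (.leaf 0x308) (.leaf 0x309)) (.node 1 (.leaf 0x30a) (.leaf 0x30b))) (.node 2 (.node 1 (.leaf 0x30c) (.leaf 0x30d)) (.node 1 (.leaf 0x30e) (.leaf 0x30f)))))) (.node 16 (.node 8 (.node 4 (.node 2 (.node 1 (.leaf 0x310) (.leaf 0x311)) (.node 1 (.leaf 0x312) (.leaf 0x313))) (.node 2 (.node 1 (.leaf 0x314) (.leaf 0x315)) (.node 1 (.leaf 0x316) (.leaf 0x317)))) (.node 4 (.node 2 (.node 1 (.leaf 0x318) (.leaf 0x319)) (.node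 1 (.leaf 0x31a) (.leaf 0x31b))) (.node 2 (.node 1 (.leaf 0x31c) (.leaf 0x31d)) (.node 1 (.leaf 0x31e) (.leaf 0x31f))))) (.node 8 (.node 4 (.node 2 (.node 1 (.leaf 0x320) (.leaf 0x321)) (.node 1 (.leaf 0x322) (.leaf 0x323))) (.node 2 (.node 1 (.leaf 0x324) (.leaf 0x325)) (.node 1 (.leaf 0x326) (.leaf 0x327)))) (.node 4 (.node 2 (.node 1 (.leaf 0x328) (.leaf 0x329)) (.node 1 (.leaf 0x32a) (.leaf 0x32b))) (.node 2 (.node 1 (.leaf 0x32c) (.leaf 0x32d)) (.node 1 (.leaf 0x32e) (.leaf 0x32f)))))))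

def mulP_31 : Tree :=
  .node 64 (.node 32 (.node 16 (.node 8 (.node 4 (.node 2 (.node 1 (.leaf 0x390) (.leaf 0x391)) (.node 1 (.leaf 0x392) (.leaf 0x393))) (.node 2 (.node 1 (.leaf 0x394) (.leaf 0x395)) (.node 1 (.leaf 0x396) (.leaf 0x397)))) (.node 4 (.node 2 (.node 1 (.leaf 0x398) (.leaf 0x399)) (.node 1 (.leaf 0x39a) (.leaf 0x39b))) (.node 2 (.node 1 (.leaf 0x39c) (.leaf 0x39d)) (.node 1 (.leaf 0x39e) (.leaf 0x39f))))) (.node 8 (.node 4 (.node 2 (.node 1 (.leaf 0x380) (.leaf 0x381)) (.node 1 (.leaf 0x382) (.leaf 0x383))) (.node 2 (.node 1 (.leaf 0x384) (.leaf 0x385)) (.node 1 (.leaf 0x386) (.leaf 0x387)))) (.node 4 (.node 2 (.node 1 (.leaf 0x388) (.leaf 0x389)) (.node 1 (.leaf 0x38a) (.leaf 0x38b))) (.node 2 (.node 1 (.leaf 0x38c) (.leaf 0x38d)) (.node 1 (.leaf 0x38e) (.leaf 0x38f)))))) (.node 16 (.node 8 (.node 4 (.node 2 (.node 1 (.leaf 0x3d0) (.leaf 0x3d1)) (.node 1 (.leaf 0x3d2) (.leaf 0x3d3))) (.node 2 (.node 1 (.leaf 0x3d4)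 (.leaf 0x3d5)) (.node 1 (.leaf 0x3d6) (.leaf 0x3d7)))) (.node 4 (.node 2 (.node 1 (.leaf 0x3d8) (.leaf 0x3d9)) (.node 1 (.leaf 0x3da) (.leaf 0x3db))) (.node 2 (.node 1 (.leaf 0x3dc) (.leaf 0x3dd)) (.node 1 (.leaf 0x3de) (.leaf 0x3df))))) (.node 8 (.node 4 (.node 2 (.node 1 (.leaf 0x3f0) (.leaf 0x3f1)) (.node 1 (.leaf 0x3f2) (.leaf 0x3f3))) (.node 2 (.node 1 (.leaf 0x3f4) (.leaf 0x3f5)) (.node 1 (.leaf 0x3f6) (.leaf 0x3f7)))) (.node 4 (.node 2 (.node 1 (.leaf 0x3f8) (.leaf 0x3f9)) (.node 1 (.leaf 0x3fa) (.leaf 0x3fb))) (.node 2 (.node 1 (.leaf 0x3fc) (.leaf 0x3fd)) (.node 1 (.leaf 0x3fe) (.leaf 0x3ff))))))) (.node 32 (.node 16 (.node 8 (.node 4 (.node 2 (.node 1 (.leaf 0x3e0) (.leaf 0x3e1)) (.node 1 (.leaf 0x3e2) (.leaf 0x3e3))) (.node 2 (.node 1 (.leaf 0x3e4) (.leaf 0x3e5)) (.node 1 (.leaf 0x3e6) (.leaf 0x3e7)))) (.node 4 (.node 2 (.node 1 (.leaf 0x3e8) (.leaf 0x3e9)) (.node 1 (.leaf 0x3ea) (.leaf 0x3eb))) (.node 2 (.node 1 (.leaf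 0x3ec) (.leaf 0x3ed)) (.node 1 (.leaf 0x3ee) (.leaf 0x3ef))))) (.node 8 (.node 4 (.node 2 (.node 1 (.leaf 0x3a0) (.leaf 0x3a1)) (.node 1 (.leaf 0x3a2) (.leaf 0x3a3))) (.node 2 (.node 1 (.leaf 0x3a4) (.leaf 0x3a5)) (.node 1 (.leaf 0x3a6) (.leaf 0x3a7)))) (.node 4 (.node 2 (.node 1 (.leaf 0x3a8) (.leaf 0x3a9)) (.node 1 (.leaf 0x3aa) (.leaf 0x3ab))) (.node 2 (.node 1 (.leaf 0x3ac) (.leaf 0x3ad)) (.node 1 (.leaf 0x3ae) (.leaf 0x3af)))))) (.node 16 (.node 8 (.node 4 (.node 2 (.node 1 (.leaf 0x3c0) (.leaf 0x3c1)) (.node 1 (.leaf 0x3c2) (.leaf 0x3c3))) (.node 2 (.node 1 (.leaf 0x3c4) (.leaf 0x3c5)) (.node 1 (.leaf 0x3c6) (.leaf 0x3c7)))) (.node 4 (.node 2 (.node 1 (.leaf 0x3c8) (.leaf 0x3c9)) (.node 1 (.leaf 0x3ca) (.leaf 0x3cb))) (.node 2 (.node 1 (.leaf 0x3cc) (.leaf 0x3cd)) (.node 1 (.leaf 0x3ce) (.leaf 0x3cf))))) (.node 8 (.node 4 (.node 2 (.node 1 (.leaf 0x3b0) (.leaf 0x3b1)) (.node 1 (.leaf 0x3b2) (.leaf 0x3b3))) (.node 2 (.node 1 (.leaf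 0x3b4) (.leaf 0x3b5)) (.node 1 (.leaf 0x3b6) (.leaf 0x3b7)))) (.node 4 (.node 2 (.node 1 (.leaf 0x3b8) (.leaf 0x3b9)) (.node 1 (.leaf 0x3ba) (.leaf 0x3bb))) (.node 2 (.node 1 (.leaf 0x3bc) (.leaf 0x3bd)) (.node 1 (.leaf 0x3be) (.leaf 0x3bf)))))))

def mulP_32 : Tree :=
  .node 64 (.node 32 (.node 16 (.node 8 (.node 4 (.node 2 (.node 1 (.leaf 0x89) (.leaf 0x5)) (.node 1 (.leaf 0x6) (.leaf 0x8))) (.node 2 (.node 1 (.leaf 0x7) (.leaf 0x1)) (.node 1 (.leaf 0x2) (.leaf 0x4)))) (.node 4 (.node 2 (.node 1 (.leaf 0x3) (.leaf 0xd)) (.node 1 (.leaf 0xe) (.leaf 0x10))) (.node 2 (.node 1 (.leaf 0xf) (.leaf 0x9)) (.node 1 (.leaf 0xa) (.leaf 0xc))))) (.node 8 (.node 4 (.node 2 (.node 1 (.leaf 0xb) (.leaf 0x19)) (.node 1 (.leaf 0x1a) (.leaf 0x1c))) (.node 2 (.node 1 (.leaf 0x1b) (.leaf 0x1d)) (.node 1 (.leaf 0x1e) (.leaf 0x20)))) (.node 4 (.node 2 (.node 1 (.leaf 0x1f) (.leaf 0x11)) (.node 1 (.leaf 0x12) (.leaf 0x14))) (.node 2 (.node 1 (.leaf 0x13)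 (.leaf 0x15)) (.node 1 (.leaf 0x16) (.leaf 0x18)))))) (.node 16 (.node 8 (.node 4 (.node 2 (.node 1 (.leaf 0x17) (.leaf 0x94)) (.node 1 (.leaf 0x95) (.leaf 0x97))) (.node 2 (.node 1 (.leaf 0x96) (.leaf 0x90)) (.node 1 (.leaf 0x91) (.leaf 0x93)))) (.node 4 (.node 2 (.node 1 (.leaf 0x92) (.leaf 0x9c)) (.node 1 (.leaf 0x9d) (.leaf 0x9f))) (.node 2 (.node 1 (.leaf 0x9e) (.leaf 0x98)) (.node 1 (.leaf 0x99) (.leaf 0x9b))))) (.node 8 (.node 4 (.node 2 (.node 1 (.leaf 0x9a) (.leaf 0x35)) (.node 1 (.leaf 0x36) (.leaf 0x38))) (.node 2 (.node 1 (.leaf 0x37) (.leaf 0x31)) (.node 1 (.leaf 0x32) (.leaf 0x34)))) (.node 4 (.node 2 (.node 1 (.leaf 0x33) (.leaf 0x3d)) (.node 1 (.leaf 0x3e) (.leaf 0x40))) (.node 2 (.node 1 (.leaf 0x3f) (.leaf 0x39)) (.node 1 (.leaf 0x3a) (.leaf 0x3c))))))) (.node 32 (.node 16 (.node 8 (.node 4 (.node 2 (.node 1 (.leaf 0x3b) (.leaf 0x45)) (.node 1 (.leaf 0x46) (.leaf 0x48))) (.node 2 (.node 1 (.leaf 0x47) (.leaf 0x41))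 (.node 1 (.leaf 0x42) (.leaf 0x44)))) (.node 4 (.node 2 (.node 1 (.leaf 0x43) (.leaf 0x4d)) (.node 1 (.leaf 0x4e) (.leaf 0x50))) (.node 2 (.node 1 (.leaf 0x4f) (.leaf 0x49)) (.node 1 (.leaf 0x4a) (.leaf 0x4c))))) (.node 8 (.node 4 (.node 2 (.node 1 (.leaf 0x4b) (.leaf 0xd8)) (.node 1 (.leaf 0xd9) (.leaf 0xdb))) (.node 2 (.node 1 (.leaf 0xda) (.leaf 0xdc)) (.node 1 (.leaf 0xdd) (.leaf 0xdf)))) (.node 4 (.node 2 (.node 1 (.leaf 0xde) (.leaf 0xd0)) (.node 1 (.leaf 0xd1) (.leaf 0xd3))) (.node 2 (.node 1 (.leaf 0xd2) (.leaf 0xd4)) (.node 1 (.leaf 0xd5) (.leaf 0xd7)))))) (.node 16 (.node 8 (.node 4 (.node 2 (.node 1 (.leaf 0xd6) (.leaf 0x69)) (.node 1 (.leaf 0x6a) (.leaf 0x6c))) (.node 2 (.node 1 (.leaf 0x6b) (.leaf 0x6d)) (.node 1 (.leaf 0x6e) (.leaf 0x70)))) (.node 4 (.node 2 (.node 1 (.leaf 0x6f) (.leaf 0x61)) (.node 1 (.leaf 0x62) (.leaf 0x64))) (.node 2 (.node 1 (.leaf 0x63) (.leaf 0x65)) (.node 1 (.leaf 0x66) (.leaf 0x68))))) (.node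 8 (.node 4 (.node 2 (.node 1 (.leaf 0x67) (.leaf 0x79)) (.node 1 (.leaf 0x7a) (.leaf 0x7c))) (.node 2 (.node 1 (.leaf 0x7b) (.leaf 0x7d)) (.node 1 (.leaf 0x7e) (.leaf 0x80)))) (.node 4 (.node 2 (.node 1 (.leaf 0x7f) (.leaf 0x71)) (.node 1 (.leaf 0x72) (.leaf 0x74))) (.node 2 (.node 1 (.leaf 0x73) (.leaf 0x75)) (.node 1 (.leaf 0x76) (.leaf 0x78)))))))

def mulP_33 : Tree :=
  .node 64 (.node 32 (.node 16 (.node 8 (.node 4 (.node 2 (.node 1 (.leaf 0x77) (.leaf 0x88)) (.node 1 (.leaf 0x8b) (.leaf 0x8a))) (.node 2 (.node 1 (.leaf 0x8c) (.leaf 0x8d)) (.node 1 (.leaf 0x8f) (.leaf 0x8e)))) (.node 4 (.node 2 (.node 1 (.leaf 0x81) (.leaf 0x0)) (.node 1 (.leaf 0x83) (.leaf 0x82))) (.node 2 (.node 1 (.leaf 0x84) (.leaf 0x85)) (.node 1 (.leaf 0x87) (.leaf 0x86))))) (.node 8 (.node 4 (.node 2 (.node 1 (.leaf 0x25) (.leaf 0x26)) (.node 1 (.leaf 0x28) (.leaf 0x27))) (.node 2 (.node 1 (.leaf 0x21) (.leaf 0x22)) (.node 1 (.leaf 0x24) (.leaf 0x23))))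 (.node 4 (.node 2 (.node 1 (.leaf 0x2d) (.leaf 0x2e)) (.node 1 (.leaf 0x30) (.leaf 0x2f))) (.node 2 (.node 1 (.leaf 0x29) (.leaf 0x2a)) (.node 1 (.leaf 0x2c) (.leaf 0x2b)))))) (.node 16 (.node 8 (.node 4 (.node 2 (.node 1 (.leaf 0x124) (.leaf 0x125)) (.node 1 (.leaf 0x127) (.leaf 0x126))) (.node 2 (.node 1 (.leaf 0x120) (.leaf 0x121)) (.node 1 (.leaf 0x123) (.leaf 0x122)))) (.node 4 (.node 2 (.node 1 (.leaf 0x12c) (.leaf 0x12d)) (.node 1 (.leaf 0x12f) (.leaf 0x12e))) (.node 2 (.node 1 (.leaf 0x128) (.leaf 0x129)) (.node 1 (.leaf 0x12b) (.leaf 0x12a))))) (.node 8 (.node 4 (.node 2 (.node 1 (.leaf 0xb4) (.leaf 0xb5)) (.node 1 (.leaf 0xb7) (.leaf 0xb6))) (.node 2 (.node 1 (.leaf 0xb0) (.leaf 0xb1)) (.node 1 (.leaf 0xb3) (.leaf 0xb2)))) (.node 4 (.node 2 (.node 1 (.leaf 0xbc) (.leaf 0xbd)) (.node 1 (.leaf 0xbf) (.leaf 0xbe))) (.node 2 (.node 1 (.leaf 0xb8) (.leaf 0xb9)) (.node 1 (.leaf 0xbb) (.leaf 0xba))))))) (.node 32 (.node 16 (.node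 8 (.node 4 (.node 2 (.node 1 (.leaf 0xc4) (.leaf 0xc5)) (.node 1 (.leaf 0xc7) (.leaf 0xc6))) (.node 2 (.node 1 (.leaf 0xc0) (.leaf 0xc1)) (.node 1 (.leaf 0xc3) (.leaf 0xc2)))) (.node 4 (.node 2 (.node 1 (.leaf 0xcc) (.leaf 0xcd)) (.node 1 (.leaf 0xcf) (.leaf 0xce))) (.node 2 (.node 1 (.leaf 0xc8) (.leaf 0xc9)) (.node 1 (.leaf 0xcb) (.leaf 0xca))))) (.node 8 (.node 4 (.node 2 (.node 1 (.leaf 0x59) (.leaf 0x5a)) (.node 1 (.leaf 0x5c) (.leaf 0x5b))) (.node 2 (.node 1 (.leaf 0x5d) (.leaf 0x5e)) (.node 1 (.leaf 0x60) (.leaf 0x5f)))) (.node 4 (.node 2 (.node 1 (.leaf 0x51) (.leaf 0x52)) (.node 1 (.leaf 0x54) (.leaf 0x53))) (.node 2 (.node 1 (.leaf 0x55) (.leaf 0x56)) (.node 1 (.leaf 0x58) (.leaf 0x57)))))) (.node 16 (.node 8 (.node 4 (.node 2 (.node 1 (.leaf 0x158) (.leaf 0x159)) (.node 1 (.leaf 0x15b) (.leaf 0x15a))) (.node 2 (.node 1 (.leaf 0x15c) (.leaf 0x15d)) (.node 1 (.leaf 0x15f) (.leaf 0x15e)))) (.node 4 (.node 2 (.node 1 (.leaf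 0x150) (.leaf 0x151)) (.node 1 (.leaf 0x153) (.leaf 0x152))) (.node 2 (.node 1 (.leaf 0x154) (.leaf 0x155)) (.node 1 (.leaf 0x157) (.leaf 0x156))))) (.node 8 (.node 4 (.node 2 (.node 1 (.leaf 0xf8) (.leaf 0xf9)) (.node 1 (.leaf 0xfb) (.leaf 0xfa))) (.node 2 (.node 1 (.leaf 0xfc) (.leaf 0xfd)) (.node 1 (.leaf 0xff) (.leaf 0xfe)))) (.node 4 (.node 2 (.node 1 (.leaf 0xf0) (.leaf 0xf1)) (.node 1 (.leaf 0xf3) (.leaf 0xf2))) (.node 2 (.node 1 (.leaf 0xf4) (.leaf 0xf5)) (.node 1 (.leaf 0xf7) (.leaf 0xf6)))))))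

def mulP_34 : Tree :=
  .node 64 (.node 32 (.node 16 (.node 8 (.node 4 (.node 2 (.node 1 (.leaf 0x108) (.leaf 0x109)) (.node 1 (.leaf 0x10b) (.leaf 0x10a))) (.node 2 (.node 1 (.leaf 0x10c) (.leaf 0x10d)) (.node 1 (.leaf 0x10f) (.leaf 0x10e)))) (.node 4 (.node 2 (.node 1 (.leaf 0x100) (.leaf 0x101)) (.node 1 (.leaf 0x103) (.leaf 0x102))) (.node 2 (.node 1 (.leaf 0x104) (.leaf 0x105)) (.node 1 (.leaf 0x107) (.leaf 0x106))))) (.node 8 (.node 4 (.node 2 (.node 1 (.leaf 0x118) (.leaf 0x119)) (.node 1 (.leaf 0x11b) (.leaf 0x11a))) (.node 2 (.node 1 (.leaf 0x11c) (.leaf 0x11d)) (.node 1 (.leaf 0x11f) (.leaf 0x11e)))) (.node 4 (.node 2 (.node 1 (.leaf 0x110) (.leaf 0x111)) (.node 1 (.leaf 0x113) (.leaf 0x112))) (.node 2 (.node 1 (.leaf 0x114) (.leaf 0x115)) (.node 1 (.leaf 0x117) (.leaf 0x116)))))) (.node 16 (.node 8 (.node 4 (.node 2 (.node 1 (.leaf 0xa4) (.leaf 0xa5)) (.node 1 (.leaf 0xa7) (.leaf 0xa6))) (.node 2 (.node 1 (.leaf 0xa0) (.leaf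 0xa1)) (.node 1 (.leaf 0xa3) (.leaf 0xa2)))) (.node 4 (.node 2 (.node 1 (.leaf 0xac) (.leaf 0xad)) (.node 1 (.leaf 0xaf) (.leaf 0xae))) (.node 2 (.node 1 (.leaf 0xa8) (.leaf 0xa9)) (.node 1 (.leaf 0xab) (.leaf 0xaa))))) (.node 8 (.node 4 (.node 2 (.node 1 (.leaf 0x134) (.leaf 0x135)) (.node 1 (.leaf 0x137) (.leaf 0x136))) (.node 2 (.node 1 (.leaf 0x130) (.leaf 0x131)) (.node 1 (.leaf 0x133) (.leaf 0x132)))) (.node 4 (.node 2 (.node 1 (.leaf 0x13c) (.leaf 0x13d)) (.node 1 (.leaf 0x13f) (.leaf 0x13e))) (.node 2 (.node 1 (.leaf 0x138) (.leaf 0x139)) (.node 1 (.leaf 0x13b) (.leaf 0x13a))))))) (.node 32 (.node 16 (.node 8 (.node 4 (.node 2 (.node 1 (.leaf 0x144) (.leaf 0x145)) (.node 1 (.leaf 0x147) (.leaf 0x146))) (.node 2 (.node 1 (.leaf 0x140) (.leaf 0x141)) (.node 1 (.leaf 0x143) (.leaf 0x142)))) (.node 4 (.node 2 (.node 1 (.leaf 0x14c) (.leaf 0x14d)) (.node 1 (.leaf 0x14f) (.leaf 0x14e))) (.node 2 (.node 1 (.leaf 0x148) (.leaf 0x149))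 (.node 1 (.leaf 0x14b) (.leaf 0x14a))))) (.node 8 (.node 4 (.node 2 (.node 1 (.leaf 0xe8) (.leaf 0xe9)) (.node 1 (.leaf 0xeb) (.leaf 0xea))) (.node 2 (.node 1 (.leaf 0xec) (.leaf 0xed)) (.node 1 (.leaf 0xef) (.leaf 0xee)))) (.node 4 (.node 2 (.node 1 (.leaf 0xe0) (.leaf 0xe1)) (.node 1 (.leaf 0xe3) (.leaf 0xe2))) (.node 2 (.node 1 (.leaf 0xe4) (.leaf 0xe5)) (.node 1 (.leaf 0xe7) (.leaf 0xe6)))))) (.node 16 (.node 8 (.node 4 (.node 2 (.node 1 (.leaf 0x168) (.leaf 0x169)) (.node 1 (.leaf 0x16b) (.leaf 0x16a))) (.node 2 (.node 1 (.leaf 0x16c) (.leaf 0x16d)) (.node 1 (.leaf 0x16f) (.leaf 0x16e)))) (.node 4 (.node 2 (.node 1 (.leaf 0x160) (.leaf 0x161)) (.node 1 (.leaf 0x163) (.leaf 0x162))) (.node 2 (.node 1 (.leaf 0x164) (.leaf 0x165)) (.node 1 (.leaf 0x167) (.leaf 0x166))))) (.node 8 (.node 4 (.node 2 (.node 1 (.leaf 0x174) (.leaf 0x175)) (.node 1 (.leaf 0x177) (.leaf 0x176))) (.node 2 (.node 1 (.leaf 0x170) (.leaf 0x171)) (.node 1 (.leaf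 0x173) (.leaf 0x172)))) (.node 4 (.node 2 (.node 1 (.leaf 0x17c) (.leaf 0x17d)) (.node 1 (.leaf 0x17f) (.leaf 0x17e))) (.node 2 (.node 1 (.leaf 0x178) (.leaf 0x179)) (.node 1 (.leaf 0x17b) (.leaf 0x17a)))))))

def mulP_35 : Tree :=
  .node 64 (.node 32 (.node 16 (.node 8 (.node 4 (.node 2 (.node 1 (.leaf 0x1a0) (.leaf 0x1a1)) (.node 1 (.leaf 0x1a3) (.leaf 0x1a2))) (.node 2 (.node 1 (.leaf 0x1a4) (.leaf 0x1a5)) (.node 1 (.leaf 0x1a7) (.leaf 0x1a6)))) (.node 4 (.node 2 (.node 1 (.leaf 0x1a8) (.leaf 0x1a9)) (.node 1 (.leaf 0x1ab) (.leaf 0x1aa))) (.node 2 (.node 1 (.leaf 0x1ac) (.leaf 0x1ad)) (.node 1 (.leaf 0x1af) (.leaf 0x1ae))))) (.node 8 (.node 4 (.node 2 (.node 1 (.leaf 0x210) (.leaf 0x211)) (.node 1 (.leaf 0x213) (.leaf 0x212))) (.node 2 (.node 1 (.leaf 0x214) (.leaf 0x215)) (.node 1 (.leaf 0x217) (.leaf 0x216)))) (.node 4 (.node 2 (.node 1 (.leaf 0x218) (.leaf 0x219)) (.node 1 (.leaf 0x21b) (.leaf 0x21a))) (.node 2 (.node 1 (.leaf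 0x21c) (.leaf 0x21d)) (.node 1 (.leaf 0x21f) (.leaf 0x21e)))))) (.node 16 (.node 8 (.node 4 (.node 2 (.node 1 (.leaf 0x180) (.leaf 0x181)) (.node 1 (.leaf 0x183) (.leaf 0x182))) (.node 2 (.node 1 (.leaf 0x184) (.leaf 0x185)) (.node 1 (.leaf 0x187) (.leaf 0x186)))) (.node 4 (.node 2 (.node 1 (.leaf 0x188) (.leaf 0x189)) (.node 1 (.leaf 0x18b) (.leaf 0x18a))) (.node 2 (.node 1 (.leaf 0x18c) (.leaf 0x18d)) (.node 1 (.leaf 0x18f) (.leaf 0x18e))))) (.node 8 (.node 4 (.node 2 (.node 1 (.leaf 0x270) (.leaf 0x271)) (.node 1 (.leaf 0x273) (.leaf 0x272))) (.node 2 (.node 1 (.leaf 0x274) (.leaf 0x275)) (.node 1 (.leaf 0x277) (.leaf 0x276)))) (.node 4 (.node 2 (.node 1 (.leaf 0x278) (.leaf 0x279)) (.node 1 (.leaf 0x27b) (.leaf 0x27a))) (.node 2 (.node 1 (.leaf 0x27c) (.leaf 0x27d)) (.node 1 (.leaf 0x27f) (.leaf 0x27e))))))) (.node 32 (.node 16 (.node 8 (.node 4 (.node 2 (.node 1 (.leaf 0x200) (.leaf 0x201)) (.node 1 (.leaf 0x203) (.leaf 0x202)))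 (.node 2 (.node 1 (.leaf 0x204) (.leaf 0x205)) (.node 1 (.leaf 0x207) (.leaf 0x206)))) (.node 4 (.node 2 (.node 1 (.leaf 0x208) (.leaf 0x209)) (.node 1 (.leaf 0x20b) (.leaf 0x20a))) (.node 2 (.node 1 (.leaf 0x20c) (.leaf 0x20d)) (.node 1 (.leaf 0x20f) (.leaf 0x20e))))) (.node 8 (.node 4 (.node 2 (.node 1 (.leaf 0x230) (.leaf 0x231)) (.node 1 (.leaf 0x233) (.leaf 0x232))) (.node 2 (.node 1 (.leaf 0x234) (.leaf 0x235)) (.node 1 (.leaf 0x237) (.leaf 0x236)))) (.node 4 (.node 2 (.node 1 (.leaf 0x238) (.leaf 0x239)) (.node 1 (.leaf 0x23b) (.leaf 0x23a))) (.node 2 (.node 1 (.leaf 0x23c) (.leaf 0x23d)) (.node 1 (.leaf 0x23f) (.leaf 0x23e)))))) (.node 16 (.node 8 (.node 4 (.node 2 (.node 1 (.leaf 0x1f0) (.leaf 0x1f1)) (.node 1 (.leaf 0x1f3) (.leaf 0x1f2))) (.node 2 (.node 1 (.leaf 0x1f4) (.leaf 0x1f5)) (.node 1 (.leaf 0x1f7) (.leaf 0x1f6)))) (.node 4 (.node 2 (.node 1 (.leaf 0x1f8) (.leaf 0x1f9)) (.node 1 (.leaf 0x1fb) (.leaf 0x1fa))) (.node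 2 (.node 1 (.leaf 0x1fc) (.leaf 0x1fd)) (.node 1 (.leaf 0x1ff) (.leaf 0x1fe))))) (.node 8 (.node 4 (.node 2 (.node 1 (.leaf 0x1e0) (.leaf 0x1e1)) (.node 1 (.leaf 0x1e3) (.leaf 0x1e2))) (.node 2 (.node 1 (.leaf 0x1e4) (.leaf 0x1e5)) (.node 1 (.leaf 0x1e7) (.leaf 0x1e6)))) (.node 4 (.node 2 (.node 1 (.leaf 0x1e8) (.leaf 0x1e9)) (.node 1 (.leaf 0x1eb) (.leaf 0x1ea))) (.node 2 (.node 1 (.leaf 0x1ec) (.leaf 0x1ed)) (.node 1 (.leaf 0x1ef) (.leaf 0x1ee)))))))

def mulP_36 : Tree :=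
  .node 64 (.node 32 (.node 16 (.node 8 (.node 4 (.node 2 (.node 1 (.leaf 0x1c0) (.leaf 0x1c1)) (.node 1 (.leaf 0x1c3) (.leaf 0x1c2))) (.node 2 (.node 1 (.leaf 0x1c4) (.leaf 0x1c5)) (.node 1 (.leaf 0x1c7) (.leaf 0x1c6)))) (.node 4 (.node 2 (.node 1 (.leaf 0x1c8) (.leaf 0x1c9)) (.node 1 (.leaf 0x1cb) (.leaf 0x1ca))) (.node 2 (.node 1 (.leaf 0x1cc) (.leaf 0x1cd)) (.node 1 (.leaf 0x1cf) (.leaf 0x1ce))))) (.node 8 (.node 4 (.node 2 (.node 1 (.leaf 0x190) (.leaf 0x191)) (.node 1 (.leaf 0x193) (.leaf 0x192))) (.node 2 (.node 1 (.leaf 0x194) (.leaf 0x195)) (.node 1 (.leaf 0x197) (.leaf 0x196)))) (.node 4 (.node 2 (.node 1 (.leaf 0x198) (.leaf 0x199)) (.node 1 (.leaf 0x19b) (.leaf 0x19a))) (.node 2 (.node 1 (.leaf 0x19c) (.leaf 0x19d)) (.node 1 (.leaf 0x19f) (.leaf 0x19e)))))) (.node 16 (.node 8 (.node 4 (.node 2 (.node 1 (.leaf 0x240) (.leaf 0x241)) (.node 1 (.leaf 0x243) (.leaf 0x242))) (.node 2 (.node 1 (.leaf 0x244) (.leaf 0x245)) (.node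 1 (.leaf 0x247) (.leaf 0x246)))) (.node 4 (.node 2 (.node 1 (.leaf 0x248) (.leaf 0x249)) (.node 1 (.leaf 0x24b) (.leaf 0x24a))) (.node 2 (.node 1 (.leaf 0x24c) (.leaf 0x24d)) (.node 1 (.leaf 0x24f) (.leaf 0x24e))))) (.node 8 (.node 4 (.node 2 (.node 1 (.leaf 0x1d0) (.leaf 0x1d1)) (.node 1 (.leaf 0x1d3) (.leaf 0x1d2))) (.node 2 (.node 1 (.leaf 0x1d4) (.leaf 0x1d5)) (.node 1 (.leaf 0x1d7) (.leaf 0x1d6)))) (.node 4 (.node 2 (.node 1 (.leaf 0x1d8) (.leaf 0x1d9)) (.node 1 (.leaf 0x1db) (.leaf 0x1da))) (.node 2 (.node 1 (.leaf 0x1dc) (.leaf 0x1dd)) (.node 1 (.leaf 0x1df) (.leaf 0x1de))))))) (.node 32 (.node 16 (.node 8 (.node 4 (.node 2 (.node 1 (.leaf 0x220) (.leaf 0x221)) (.node 1 (.leaf 0x223) (.leaf 0x222))) (.node 2 (.node 1 (.leaf 0x224) (.leaf 0x225)) (.node 1 (.leaf 0x227) (.leaf 0x226)))) (.node 4 (.node 2 (.node 1 (.leaf 0x228) (.leaf 0x229)) (.node 1 (.leaf 0x22b) (.leaf 0x22a))) (.node 2 (.node 1 (.leaf 0x22c) (.leaf 0x22d))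 (.node 1 (.leaf 0x22f) (.leaf 0x22e))))) (.node 8 (.node 4 (.node 2 (.node 1 (.leaf 0x260) (.leaf 0x261)) (.node 1 (.leaf 0x263) (.leaf 0x262))) (.node 2 (.node 1 (.leaf 0x264) (.leaf 0x265)) (.node 1 (.leaf 0x267) (.leaf 0x266)))) (.node 4 (.node 2 (.node 1 (.leaf 0x268) (.leaf 0x269)) (.node 1 (.leaf 0x26b) (.leaf 0x26a))) (.node 2 (.node 1 (.leaf 0x26c) (.leaf 0x26d)) (.node 1 (.leaf 0x26f) (.leaf 0x26e)))))) (.node 16 (.node 8 (.node 4 (.node 2 (.node 1 (.leaf 0x250) (.leaf 0x251)) (.node 1 (.leaf 0x253) (.leaf 0x252))) (.node 2 (.node 1 (.leaf 0x254) (.leaf 0x255)) (.node 1 (.leaf 0x257) (.leaf 0x256)))) (.node 4 (.node 2 (.node 1 (.leaf 0x258) (.leaf 0x259)) (.node 1 (.leaf 0x25b) (.leaf 0x25a))) (.node 2 (.node 1 (.leaf 0x25c) (.leaf 0x25d)) (.node 1 (.leaf 0x25f) (.leaf 0x25e))))) (.node 8 (.node 4 (.node 2 (.node 1 (.leaf 0x1b0) (.leaf 0x1b1)) (.node 1 (.leaf 0x1b3) (.leaf 0x1b2))) (.node 2 (.node 1 (.leaf 0x1b4) (.leaf 0x1b5))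 (.node 1 (.leaf 0x1b7) (.leaf 0x1b6)))) (.node 4 (.node 2 (.node 1 (.leaf 0x1b8) (.leaf 0x1b9)) (.node 1 (.leaf 0x1bb) (.leaf 0x1ba))) (.node 2 (.node 1 (.leaf 0x1bc) (.leaf 0x1bd)) (.node 1 (.leaf 0x1bf) (.leaf 0x1be)))))))

def mulP_37 : Tree :=
  .node 64 (.node 32 (.node 16 (.node 8 (.node 4 (.node 2 (.node 1 (.leaf 0x2f8) (.leaf 0x2f9)) (.node 1 (.leaf 0x2fb) (.leaf 0x2fa))) (.node 2 (.node 1 (.leaf 0x2fc) (.leaf 0x2fd)) (.node 1 (.leaf 0x2ff) (.leaf 0x2fe)))) (.node 4 (.node 2 (.node 1 (.leaf 0x2f0) (.leaf 0x2f1)) (.node 1 (.leaf 0x2f3) (.leaf 0x2f2))) (.node 2 (.node 1 (.leaf 0x2f4) (.leaf 0x2f5)) (.node 1 (.leaf 0x2f7) (.leaf 0x2f6))))) (.node 8 (.node 4 (.node 2 (.node 1 (.leaf 0x358) (.leaf 0x359)) (.node 1 (.leaf 0x35b) (.leaf 0x35a))) (.node 2 (.node 1 (.leaf 0x35c) (.leaf 0x35d)) (.node 1 (.leaf 0x35f) (.leaf 0x35e)))) (.node 4 (.node 2 (.node 1 (.leaf 0x350) (.leaf 0x351)) (.node 1 (.leaf 0x353) (.leaf 0x352))) (.node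 2 (.node 1 (.leaf 0x354) (.leaf 0x355)) (.node 1 (.leaf 0x357) (.leaf 0x356)))))) (.node 16 (.node 8 (.node 4 (.node 2 (.node 1 (.leaf 0x364) (.leaf 0x365)) (.node 1 (.leaf 0x367) (.leaf 0x366))) (.node 2 (.node 1 (.leaf 0x360) (.leaf 0x361)) (.node 1 (.leaf 0x363) (.leaf 0x362)))) (.node 4 (.node 2 (.node 1 (.leaf 0x36c) (.leaf 0x36d)) (.node 1 (.leaf 0x36f) (.leaf 0x36e))) (.node 2 (.node 1 (.leaf 0x368) (.leaf 0x369)) (.node 1 (.leaf 0x36b) (.leaf 0x36a))))) (.node 8 (.node 4 (.node 2 (.node 1 (.leaf 0x348) (.leaf 0x349)) (.node 1 (.leaf 0x34b) (.leaf 0x34a))) (.node 2 (.node 1 (.leaf 0x34c) (.leaf 0x34d)) (.node 1 (.leaf 0x34f) (.leaf 0x34e)))) (.node 4 (.node 2 (.node 1 (.leaf 0x340) (.leaf 0x341)) (.node 1 (.leaf 0x343) (.leaf 0x342))) (.node 2 (.node 1 (.leaf 0x344) (.leaf 0x345)) (.node 1 (.leaf 0x347) (.leaf 0x346))))))) (.node 32 (.node 16 (.node 8 (.node 4 (.node 2 (.node 1 (.leaf 0x308) (.leaf 0x309)) (.node 1 (.leaf 0x30b)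 (.leaf 0x30a))) (.node 2 (.node 1 (.leaf 0x30c) (.leaf 0x30d)) (.node 1 (.leaf 0x30f) (.leaf 0x30e)))) (.node 4 (.node 2 (.node 1 (.leaf 0x300) (.leaf 0x301)) (.node 1 (.leaf 0x303) (.leaf 0x302))) (.node 2 (.node 1 (.leaf 0x304) (.leaf 0x305)) (.node 1 (.leaf 0x307) (.leaf 0x306))))) (.node 8 (.node 4 (.node 2 (.node 1 (.leaf 0x314) (.leaf 0x315)) (.node 1 (.leaf 0x317) (.leaf 0x316))) (.node 2 (.node 1 (.leaf 0x310) (.leaf 0x311)) (.node 1 (.leaf 0x313) (.leaf 0x312)))) (.node 4 (.node 2 (.node 1 (.leaf 0x31c) (.leaf 0x31d)) (.node 1 (.leaf 0x31f) (.leaf 0x31e))) (.node 2 (.node 1 (.leaf 0x318) (.leaf 0x319)) (.node 1 (.leaf 0x31b) (.leaf 0x31a)))))) (.node 16 (.node 8 (.node 4 (.node 2 (.node 1 (.leaf 0x324) (.leaf 0x325)) (.node 1 (.leaf 0x327) (.leaf 0x326))) (.node 2 (.node 1 (.leaf 0x320) (.leaf 0x321)) (.node 1 (.leaf 0x323) (.leaf 0x322)))) (.node 4 (.node 2 (.node 1 (.leaf 0x32c) (.leaf 0x32d)) (.node 1 (.leaf 0x32f) (.leaf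 0x32e))) (.node 2 (.node 1 (.leaf 0x328) (.leaf 0x329)) (.node 1 (.leaf 0x32b) (.leaf 0x32a))))) (.node 8 (.node 4 (.node 2 (.node 1 (.leaf 0x288) (.leaf 0x289)) (.node 1 (.leaf 0x28b) (.leaf 0x28a))) (.node 2 (.node 1 (.leaf 0x28c) (.leaf 0x28d)) (.node 1 (.leaf 0x28f) (.leaf 0x28e)))) (.node 4 (.node 2 (.node 1 (.leaf 0x280) (.leaf 0x281)) (.node 1 (.leaf 0x283) (.leaf 0x282))) (.node 2 (.node 1 (.leaf 0x284) (.leaf 0x285)) (.node 1 (.leaf 0x287) (.leaf 0x286)))))))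

def mulP_38 : Tree :=
  .node 64 (.node 32 (.node 16 (.node 8 (.node 4 (.node 2 (.node 1 (.leaf 0x2c8) (.leaf 0x2c9)) (.node 1 (.leaf 0x2cb) (.leaf 0x2ca))) (.node 2 (.node 1 (.leaf 0x2cc) (.leaf 0x2cd)) (.node 1 (.leaf 0x2cf) (.leaf 0x2ce)))) (.node 4 (.node 2 (.node 1 (.leaf 0x2c0) (.leaf 0x2c1)) (.node 1 (.leaf 0x2c3) (.leaf 0x2c2))) (.node 2 (.node 1 (.leaf 0x2c4) (.leaf 0x2c5)) (.node 1 (.leaf 0x2c7) (.leaf 0x2c6))))) (.node 8 (.node 4 (.node 2 (.node 1 (.leaf 0x2d4) (.leaf 0x2d5)) (.node 1 (.leaf 0x2d7) (.leaf 0x2d6))) (.node 2 (.node 1 (.leaf 0x2d0) (.leaf 0x2d1)) (.node 1 (.leaf 0x2d3) (.leaf 0x2d2)))) (.node 4 (.node 2 (.node 1 (.leaf 0x2dc) (.leaf 0x2dd)) (.node 1 (.leaf 0x2df) (.leaf 0x2de))) (.node 2 (.node 1 (.leaf 0x2d8) (.leaf 0x2d9)) (.node 1 (.leaf 0x2db) (.leaf 0x2da)))))) (.node 16 (.node 8 (.node 4 (.node 2 (.node 1 (.leaf 0x2e4) (.leaf 0x2e5)) (.node 1 (.leaf 0x2e7) (.leaf 0x2e6))) (.node 2 (.node 1 (.leaf 0x2e0)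 (.leaf 0x2e1)) (.node 1 (.leaf 0x2e3) (.leaf 0x2e2)))) (.node 4 (.node 2 (.node 1 (.leaf 0x2ec) (.leaf 0x2ed)) (.node 1 (.leaf 0x2ef) (.leaf 0x2ee))) (.node 2 (.node 1 (.leaf 0x2e8) (.leaf 0x2e9)) (.node 1 (.leaf 0x2eb) (.leaf 0x2ea))))) (.node 8 (.node 4 (.node 2 (.node 1 (.leaf 0x374) (.leaf 0x375)) (.node 1 (.leaf 0x377) (.leaf 0x376))) (.node 2 (.node 1 (.leaf 0x370) (.leaf 0x371)) (.node 1 (.leaf 0x373) (.leaf 0x372)))) (.node 4 (.node 2 (.node 1 (.leaf 0x37c) (.leaf 0x37d)) (.node 1 (.leaf 0x37f) (.leaf 0x37e))) (.node 2 (.node 1 (.leaf 0x378) (.leaf 0x379)) (.node 1 (.leaf 0x37b) (.leaf 0x37a))))))) (.node 32 (.node 16 (.node 8 (.node 4 (.node 2 (.node 1 (.leaf 0x2b8) (.leaf 0x2b9)) (.node 1 (.leaf 0x2bb) (.leaf 0x2ba))) (.node 2 (.node 1 (.leaf 0x2bc) (.leaf 0x2bd)) (.node 1 (.leaf 0x2bf) (.leaf 0x2be)))) (.node 4 (.node 2 (.node 1 (.leaf 0x2b0) (.leaf 0x2b1)) (.node 1 (.leaf 0x2b3) (.leaf 0x2b2))) (.node 2 (.node 1 (.leaf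 0x2b4) (.leaf 0x2b5)) (.node 1 (.leaf 0x2b7) (.leaf 0x2b6))))) (.node 8 (.node 4 (.node 2 (.node 1 (.leaf 0x298) (.leaf 0x299)) (.node 1 (.leaf 0x29b) (.leaf 0x29a))) (.node 2 (.node 1 (.leaf 0x29c) (.leaf 0x29d)) (.node 1 (.leaf 0x29f) (.leaf 0x29e)))) (.node 4 (.node 2 (.node 1 (.leaf 0x290) (.leaf 0x291)) (.node 1 (.leaf 0x293) (.leaf 0x292))) (.node 2 (.node 1 (.leaf 0x294) (.leaf 0x295)) (.node 1 (.leaf 0x297) (.leaf 0x296)))))) (.node 16 (.node 8 (.node 4 (.node 2 (.node 1 (.leaf 0x2a4) (.leaf 0x2a5)) (.node 1 (.leaf 0x2a7) (.leaf 0x2a6))) (.node 2 (.node 1 (.leaf 0x2a0) (.leaf 0x2a1)) (.node 1 (.leaf 0x2a3) (.leaf 0x2a2)))) (.node 4 (.node 2 (.node 1 (.leaf 0x2ac) (.leaf 0x2ad)) (.node 1 (.leaf 0x2af) (.leaf 0x2ae))) (.node 2 (.node 1 (.leaf 0x2a8) (.leaf 0x2a9)) (.node 1 (.leaf 0x2ab) (.leaf 0x2aa))))) (.node 8 (.node 4 (.node 2 (.node 1 (.leaf 0x334) (.leaf 0x335)) (.node 1 (.leaf 0x337) (.leaf 0x336))) (.node 2 (.node 1 (.leaf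 0x330) (.leaf 0x331)) (.node 1 (.leaf 0x333) (.leaf 0x332)))) (.node 4 (.node 2 (.node 1 (.leaf 0x33c) (.leaf 0x33d)) (.node 1 (.leaf 0x33f) (.leaf 0x33e))) (.node 2 (.node 1 (.leaf 0x338) (.leaf 0x339)) (.node 1 (.leaf 0x33b) (.leaf 0x33a)))))))

def mulP_39 : Tree :=
  .node 64 (.node 32 (.node 16 (.node 8 (.node 4 (.node 2 (.node 1 (.leaf 0x398) (.leaf 0x399)) (.node 1 (.leaf 0x39b) (.leaf 0x39a))) (.node 2 (.node 1 (.leaf 0x39c) (.leaf 0x39d)) (.node 1 (.leaf 0x39f) (.leaf 0x39e)))) (.node 4 (.node 2 (.node 1 (.leaf 0x390) (.leaf 0x391)) (.node 1 (.leaf 0x393) (.leaf 0x392))) (.node 2 (.node 1 (.leaf 0x394) (.leaf 0x395)) (.node 1 (.leaf 0x397) (.leaf 0x396))))) (.node 8 (.node 4 (.node 2 (.node 1 (.leaf 0x388) (.leaf 0x389)) (.node 1 (.leaf 0x38b) (.leaf 0x38a))) (.node 2 (.node 1 (.leaf 0x38c) (.leaf 0x38d)) (.node 1 (.leaf 0x38f) (.leaf 0x38e)))) (.node 4 (.node 2 (.node 1 (.leaf 0x380) (.leaf 0x381)) (.node 1 (.leaf 0x383)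 (.leaf 0x382))) (.node 2 (.node 1 (.leaf 0x384) (.leaf 0x385)) (.node 1 (.leaf 0x387) (.leaf 0x386)))))) (.node 16 (.node 8 (.node 4 (.node 2 (.node 1 (.leaf 0x3d4) (.leaf 0x3d5)) (.node 1 (.leaf 0x3d7) (.leaf 0x3d6))) (.node 2 (.node 1 (.leaf 0x3d0) (.leaf 0x3d1)) (.node 1 (.leaf 0x3d3) (.leaf 0x3d2)))) (.node 4 (.node 2 (.node 1 (.leaf 0x3dc) (.leaf 0x3dd)) (.node 1 (.leaf 0x3df) (.leaf 0x3de))) (.node 2 (.node 1 (.leaf 0x3d8) (.leaf 0x3d9)) (.node 1 (.leaf 0x3db) (.leaf 0x3da))))) (.node 8 (.node 4 (.node 2 (.node 1 (.leaf 0x3f4) (.leaf 0x3f5)) (.node 1 (.leaf 0x3f7) (.leaf 0x3f6))) (.node 2 (.node 1 (.leaf 0x3f0) (.leaf 0x3f1)) (.node 1 (.leaf 0x3f3) (.leaf 0x3f2)))) (.node 4 (.node 2 (.node 1 (.leaf 0x3fc) (.leaf 0x3fd)) (.node 1 (.leaf 0x3ff) (.leaf 0x3fe))) (.node 2 (.node 1 (.leaf 0x3f8) (.leaf 0x3f9)) (.node 1 (.leaf 0x3fb) (.leaf 0x3fa))))))) (.node 32 (.node 16 (.node 8 (.node 4 (.node 2 (.node 1 (.leaf 0x3e8) (.leaf 0x3e9))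 (.node 1 (.leaf 0x3eb) (.leaf 0x3ea))) (.node 2 (.node 1 (.leaf 0x3ec) (.leaf 0x3ed)) (.node 1 (.leaf 0x3ef) (.leaf 0x3ee)))) (.node 4 (.node 2 (.node 1 (.leaf 0x3e0) (.leaf 0x3e1)) (.node 1 (.leaf 0x3e3) (.leaf 0x3e2))) (.node 2 (.node 1 (.leaf 0x3e4) (.leaf 0x3e5)) (.node 1 (.leaf 0x3e7) (.leaf 0x3e6))))) (.node 8 (.node 4 (.node 2 (.node 1 (.leaf 0x3a4) (.leaf 0x3a5)) (.node 1 (.leaf 0x3a7) (.leaf 0x3a6))) (.node 2 (.node 1 (.leaf 0x3a0) (.leaf 0x3a1)) (.node 1 (.leaf 0x3a3) (.leaf 0x3a2)))) (.node 4 (.node 2 (.node 1 (.leaf 0x3ac) (.leaf 0x3ad)) (.node 1 (.leaf 0x3af) (.leaf 0x3ae))) (.node 2 (.node 1 (.leaf 0x3a8) (.leaf 0x3a9)) (.node 1 (.leaf 0x3ab) (.leaf 0x3aa)))))) (.node 16 (.node 8 (.node 4 (.node 2 (.node 1 (.leaf 0x3c8) (.leaf 0x3c9)) (.node 1 (.leaf 0x3cb) (.leaf 0x3ca))) (.node 2 (.node 1 (.leaf 0x3cc) (.leaf 0x3cd)) (.node 1 (.leaf 0x3cf) (.leaf 0x3ce)))) (.node 4 (.node 2 (.node 1 (.leaf 0x3c0) (.leaf 0x3c1)) (.node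 1 (.leaf 0x3c3) (.leaf 0x3c2))) (.node 2 (.node 1 (.leaf 0x3c4) (.leaf 0x3c5)) (.node 1 (.leaf 0x3c7) (.leaf 0x3c6))))) (.node 8 (.node 4 (.node 2 (.node 1 (.leaf 0x3b4) (.leaf 0x3b5)) (.node 1 (.leaf 0x3b7) (.leaf 0x3b6))) (.node 2 (.node 1 (.leaf 0x3b0) (.leaf 0x3b1)) (.node 1 (.leaf 0x3b3) (.leaf 0x3b2)))) (.node 4 (.node 2 (.node 1 (.leaf 0x3bc) (.leaf 0x3bd)) (.node 1 (.leaf 0x3bf) (.leaf 0x3be))) (.node 2 (.node 1 (.leaf 0x3b8) (.leaf 0x3b9)) (.node 1 (.leaf 0x3bb) (.leaf 0x3ba)))))))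

def mulP_40 : Tree :=
  .node 64 (.node 32 (.node 16 (.node 8 (.node 4 (.node 2 (.node 1 (.leaf 0x30d) (.leaf 0x184)) (.node 1 (.leaf 0x185) (.leaf 0x186))) (.node 2 (.node 1 (.leaf 0x187) (.leaf 0x180)) (.node 1 (.leaf 0x181) (.leaf 0x182)))) (.node 4 (.node 2 (.node 1 (.leaf 0x183) (.leaf 0x18c)) (.node 1 (.leaf 0x18d) (.leaf 0x18e))) (.node 2 (.node 1 (.leaf 0x18f) (.leaf 0x188)) (.node 1 (.leaf 0x189) (.leaf 0x18a))))) (.node 8 (.node 4 (.node 2 (.node 1 (.leaf 0x18b) (.leaf 0x198)) (.node 1 (.leaf 0x199) (.leaf 0x19a))) (.node 2 (.node 1 (.leaf 0x19b) (.leaf 0x19c)) (.node 1 (.leaf 0x19d) (.leaf 0x19e)))) (.node 4 (.node 2 (.node 1 (.leaf 0x19f) (.leaf 0x190)) (.node 1 (.leaf 0x191) (.leaf 0x192))) (.node 2 (.node 1 (.leaf 0x193) (.leaf 0x194)) (.node 1 (.leaf 0x195) (.leaf 0x196)))))) (.node 16 (.node 8 (.node 4 (.node 2 (.node 1 (.leaf 0x197) (.leaf 0x1b4)) (.node 1 (.leaf 0x1b5) (.leaf 0x1b6))) (.node 2 (.node 1 (.leaf 0x1b7)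 (.leaf 0x1b0)) (.node 1 (.leaf 0x1b1) (.leaf 0x1b2)))) (.node 4 (.node 2 (.node 1 (.leaf 0x1b3) (.leaf 0x1bc)) (.node 1 (.leaf 0x1bd) (.leaf 0x1be))) (.node 2 (.node 1 (.leaf 0x1bf) (.leaf 0x1b8)) (.node 1 (.leaf 0x1b9) (.leaf 0x1ba))))) (.node 8 (.node 4 (.node 2 (.node 1 (.leaf 0x1bb) (.leaf 0x1c4)) (.node 1 (.leaf 0x1c5) (.leaf 0x1c6))) (.node 2 (.node 1 (.leaf 0x1c7) (.leaf 0x1c0)) (.node 1 (.leaf 0x1c1) (.leaf 0x1c2)))) (.node 4 (.node 2 (.node 1 (.leaf 0x1c3) (.leaf 0x1cc)) (.node 1 (.leaf 0x1cd) (.leaf 0x1ce))) (.node 2 (.node 1 (.leaf 0x1cf) (.leaf 0x1c8)) (.node 1 (.leaf 0x1c9) (.leaf 0x1ca))))))) (.node 32 (.node 16 (.node 8 (.node 4 (.node 2 (.node 1 (.leaf 0x1cb) (.leaf 0x1ac)) (.node 1 (.leaf 0x1ad) (.leaf 0x1ae))) (.node 2 (.node 1 (.leaf 0x1af) (.leaf 0x1a8)) (.node 1 (.leaf 0x1a9) (.leaf 0x1aa)))) (.node 4 (.node 2 (.node 1 (.leaf 0x1ab) (.leaf 0x1a4)) (.node 1 (.leaf 0x1a5) (.leaf 0x1a6))) (.node 2 (.node 1 (.leaf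 0x1a7) (.leaf 0x1a0)) (.node 1 (.leaf 0x1a1) (.leaf 0x1a2))))) (.node 8 (.node 4 (.node 2 (.node 1 (.leaf 0x1a3) (.leaf 0x1d8)) (.node 1 (.leaf 0x1d9) (.leaf 0x1da))) (.node 2 (.node 1 (.leaf 0x1db) (.leaf 0x1dc)) (.node 1 (.leaf 0x1dd) (.leaf 0x1de)))) (.node 4 (.node 2 (.node 1 (.leaf 0x1df) (.leaf 0x1d0)) (.node 1 (.leaf 0x1d1) (.leaf 0x1d2))) (.node 2 (.node 1 (.leaf 0x1d3) (.leaf 0x1d4)) (.node 1 (.leaf 0x1d5) (.leaf 0x1d6)))))) (.node 16 (.node 8 (.node 4 (.node 2 (.node 1 (.leaf 0x1d7) (.leaf 0x1f8)) (.node 1 (.leaf 0x1f9) (.leaf 0x1fa))) (.node 2 (.node 1 (.leaf 0x1fb) (.leaf 0x1fc)) (.node 1 (.leaf 0x1fd) (.leaf 0x1fe)))) (.node 4 (.node 2 (.node 1 (.leaf 0x1ff) (.leaf 0x1f0)) (.node 1 (.leaf 0x1f1) (.leaf 0x1f2))) (.node 2 (.node 1 (.leaf 0x1f3) (.leaf 0x1f4)) (.node 1 (.leaf 0x1f5) (.leaf 0x1f6))))) (.node 8 (.node 4 (.node 2 (.node 1 (.leaf 0x1f7) (.leaf 0x21c)) (.node 1 (.leaf 0x21d) (.leaf 0x21e))) (.node 2 (.node 1 (.leaf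 0x21f) (.leaf 0x218)) (.node 1 (.leaf 0x219) (.leaf 0x21a)))) (.node 4 (.node 2 (.node 1 (.leaf 0x21b) (.leaf 0x214)) (.node 1 (.leaf 0x215) (.leaf 0x216))) (.node 2 (.node 1 (.leaf 0x217) (.leaf 0x210)) (.node 1 (.leaf 0x211) (.leaf 0x212)))))))

def mulP_41 : Tree :=
  .node 64 (.node 32 (.node 16 (.node 8 (.node 4 (.node 2 (.node 1 (.leaf 0x213) (.leaf 0x30c)) (.node 1 (.leaf 0x30e) (.leaf 0x30f))) (.node 2 (.node 1 (.leaf 0x308) (.leaf 0x309)) (.node 1 (.leaf 0x30a) (.leaf 0x30b)))) (.node 4 (.node 2 (.node 1 (.leaf 0x304) (.leaf 0x305)) (.node 1 (.leaf 0x306) (.leaf 0x307))) (.node 2 (.node 1 (.leaf 0x300) (.leaf 0x301)) (.node 1 (.leaf 0x302) (.leaf 0x303))))) (.node 8 (.node 4 (.node 2 (.node 1 (.leaf 0x244) (.leaf 0x245)) (.node 1 (.leaf 0x246) (.leaf 0x247))) (.node 2 (.node 1 (.leaf 0x240) (.leaf 0x241)) (.node 1 (.leaf 0x242) (.leaf 0x243)))) (.node 4 (.node 2 (.node 1 (.leaf 0x24c) (.leaf 0x24d)) (.node 1 (.leaf 0x24e)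 (.leaf 0x24f))) (.node 2 (.node 1 (.leaf 0x248) (.leaf 0x249)) (.node 1 (.leaf 0x24a) (.leaf 0x24b)))))) (.node 16 (.node 8 (.node 4 (.node 2 (.node 1 (.leaf 0x22c) (.leaf 0x22d)) (.node 1 (.leaf 0x22e) (.leaf 0x22f))) (.node 2 (.node 1 (.leaf 0x228) (.leaf 0x229)) (.node 1 (.leaf 0x22a) (.leaf 0x22b)))) (.node 4 (.node 2 (.node 1 (.leaf 0x224) (.leaf 0x225)) (.node 1 (.leaf 0x226) (.leaf 0x227))) (.node 2 (.node 1 (.leaf 0x220) (.leaf 0x221)) (.node 1 (.leaf 0x222) (.leaf 0x223))))) (.node 8 (.node 4 (.node 2 (.node 1 (.leaf 0x20c) (.leaf 0x20d)) (.node 1 (.leaf 0x20e) (.leaf 0x20f))) (.node 2 (.node 1 (.leaf 0x208) (.leaf 0x209)) (.node 1 (.leaf 0x20a) (.leaf 0x20b)))) (.node 4 (.node 2 (.node 1 (.leaf 0x204) (.leaf 0x205)) (.node 1 (.leaf 0x206) (.leaf 0x207))) (.node 2 (.node 1 (.leaf 0x200) (.leaf 0x201)) (.node 1 (.leaf 0x202) (.leaf 0x203))))))) (.node 32 (.node 16 (.node 8 (.node 4 (.node 2 (.node 1 (.leaf 0x2ac) (.leaf 0x2ad))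 (.node 1 (.leaf 0x2ae) (.leaf 0x2af))) (.node 2 (.node 1 (.leaf 0x2a8) (.leaf 0x2a9)) (.node 1 (.leaf 0x2aa) (.leaf 0x2ab)))) (.node 4 (.node 2 (.node 1 (.leaf 0x2a4) (.leaf 0x2a5)) (.node 1 (.leaf 0x2a6) (.leaf 0x2a7))) (.node 2 (.node 1 (.leaf 0x2a0) (.leaf 0x2a1)) (.node 1 (.leaf 0x2a2) (.leaf 0x2a3))))) (.node 8 (.node 4 (.node 2 (.node 1 (.leaf 0x258) (.leaf 0x259)) (.node 1 (.leaf 0x25a) (.leaf 0x25b))) (.node 2 (.node 1 (.leaf 0x25c) (.leaf 0x25d)) (.node 1 (.leaf 0x25e) (.leaf 0x25f)))) (.node 4 (.node 2 (.node 1 (.leaf 0x250) (.leaf 0x251)) (.node 1 (.leaf 0x252) (.leaf 0x253))) (.node 2 (.node 1 (.leaf 0x254) (.leaf 0x255)) (.node 1 (.leaf 0x256) (.leaf 0x257)))))) (.node 16 (.node 8 (.node 4 (.node 2 (.node 1 (.leaf 0x26c) (.leaf 0x26d)) (.node 1 (.leaf 0x26e) (.leaf 0x26f))) (.node 2 (.node 1 (.leaf 0x268) (.leaf 0x269)) (.node 1 (.leaf 0x26a) (.leaf 0x26b)))) (.node 4 (.node 2 (.node 1 (.leaf 0x264) (.leaf 0x265)) (.node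 1 (.leaf 0x266) (.leaf 0x267))) (.node 2 (.node 1 (.leaf 0x260) (.leaf 0x261)) (.node 1 (.leaf 0x262) (.leaf 0x263))))) (.node 8 (.node 4 (.node 2 (.node 1 (.leaf 0x1ec) (.leaf 0x1ed)) (.node 1 (.leaf 0x1ee) (.leaf 0x1ef))) (.node 2 (.node 1 (.leaf 0x1e8) (.leaf 0x1e9)) (.node 1 (.leaf 0x1ea) (.leaf 0x1eb)))) (.node 4 (.node 2 (.node 1 (.leaf 0x1e4) (.leaf 0x1e5)) (.node 1 (.leaf 0x1e6) (.leaf 0x1e7))) (.node 2 (.node 1 (.leaf 0x1e0) (.leaf 0x1e1)) (.node 1 (.leaf 0x1e2) (.leaf 0x1e3)))))))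

def mulP_42 : Tree :=
  .node 64 (.node 32 (.node 16 (.node 8 (.node 4 (.node 2 (.node 1 (.leaf 0x35c) (.leaf 0x35d)) (.node 1 (.leaf 0x35e) (.leaf 0x35f))) (.node 2 (.node 1 (.leaf 0x358) (.leaf 0x359)) (.node 1 (.leaf 0x35a) (.leaf 0x35b)))) (.node 4 (.node 2 (.node 1 (.leaf 0x354) (.leaf 0x355)) (.node 1 (.leaf 0x356) (.leaf 0x357))) (.node 2 (.node 1 (.leaf 0x350) (.leaf 0x351)) (.node 1 (.leaf 0x352) (.leaf 0x353))))) (.node 8 (.node 4 (.node 2 (.node 1 (.leaf 0x29c) (.leaf 0x29d)) (.node 1 (.leaf 0x29e) (.leaf 0x29f))) (.node 2 (.node 1 (.leaf 0x298) (.leaf 0x299)) (.node 1 (.leaf 0x29a) (.leaf 0x29b)))) (.node 4 (.node 2 (.node 1 (.leaf 0x294) (.leaf 0x295)) (.node 1 (.leaf 0x296) (.leaf 0x297))) (.node 2 (.node 1 (.leaf 0x290) (.leaf 0x291)) (.node 1 (.leaf 0x292) (.leaf 0x293)))))) (.node 16 (.node 8 (.node 4 (.node 2 (.node 1 (.leaf 0x27c) (.leaf 0x27d)) (.node 1 (.leaf 0x27e) (.leaf 0x27f))) (.node 2 (.node 1 (.leaf 0x278)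 (.leaf 0x279)) (.node 1 (.leaf 0x27a) (.leaf 0x27b)))) (.node 4 (.node 2 (.node 1 (.leaf 0x274) (.leaf 0x275)) (.node 1 (.leaf 0x276) (.leaf 0x277))) (.node 2 (.node 1 (.leaf 0x270) (.leaf 0x271)) (.node 1 (.leaf 0x272) (.leaf 0x273))))) (.node 8 (.node 4 (.node 2 (.node 1 (.leaf 0x2dc) (.leaf 0x2dd)) (.node 1 (.leaf 0x2de) (.leaf 0x2df))) (.node 2 (.node 1 (.leaf 0x2d8) (.leaf 0x2d9)) (.node 1 (.leaf 0x2da) (.leaf 0x2db)))) (.node 4 (.node 2 (.node 1 (.leaf 0x2d4) (.leaf 0x2d5)) (.node 1 (.leaf 0x2d6) (.leaf 0x2d7))) (.node 2 (.node 1 (.leaf 0x2d0) (.leaf 0x2d1)) (.node 1 (.leaf 0x2d2) (.leaf 0x2d3))))))) (.node 32 (.node 16 (.node 8 (.node 4 (.node 2 (.node 1 (.leaf 0x31c) (.leaf 0x31d)) (.node 1 (.leaf 0x31e) (.leaf 0x31f))) (.node 2 (.node 1 (.leaf 0x318) (.leaf 0x319)) (.node 1 (.leaf 0x31a) (.leaf 0x31b)))) (.node 4 (.node 2 (.node 1 (.leaf 0x314) (.leaf 0x315)) (.node 1 (.leaf 0x316) (.leaf 0x317))) (.node 2 (.node 1 (.leaf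 0x310) (.leaf 0x311)) (.node 1 (.leaf 0x312) (.leaf 0x313))))) (.node 8 (.node 4 (.node 2 (.node 1 (.leaf 0x23c) (.leaf 0x23d)) (.node 1 (.leaf 0x23e) (.leaf 0x23f))) (.node 2 (.node 1 (.leaf 0x238) (.leaf 0x239)) (.node 1 (.leaf 0x23a) (.leaf 0x23b)))) (.node 4 (.node 2 (.node 1 (.leaf 0x234) (.leaf 0x235)) (.node 1 (.leaf 0x236) (.leaf 0x237))) (.node 2 (.node 1 (.leaf 0x230) (.leaf 0x231)) (.node 1 (.leaf 0x232) (.leaf 0x233)))))) (.node 16 (.node 8 (.node 4 (.node 2 (.node 1 (.leaf 0x2cc) (.leaf 0x2cd)) (.node 1 (.leaf 0x2ce) (.leaf 0x2cf))) (.node 2 (.node 1 (.leaf 0x2c8) (.leaf 0x2c9)) (.node 1 (.leaf 0x2ca) (.leaf 0x2cb)))) (.node 4 (.node 2 (.node 1 (.leaf 0x2c4) (.leaf 0x2c5)) (.node 1 (.leaf 0x2c6) (.leaf 0x2c7))) (.node 2 (.node 1 (.leaf 0x2c0) (.leaf 0x2c1)) (.node 1 (.leaf 0x2c2) (.leaf 0x2c3))))) (.node 8 (.node 4 (.node 2 (.node 1 (.leaf 0x36c) (.leaf 0x36d)) (.node 1 (.leaf 0x36e) (.leaf 0x36f))) (.node 2 (.node 1 (.leaf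 0x368) (.leaf 0x369)) (.node 1 (.leaf 0x36a) (.leaf 0x36b)))) (.node 4 (.node 2 (.node 1 (.leaf 0x364) (.leaf 0x365)) (.node 1 (.leaf 0x366) (.leaf 0x367))) (.node 2 (.node 1 (.leaf 0x360) (.leaf 0x361)) (.node 1 (.leaf 0x362) (.leaf 0x363)))))))

def mulP_43 : Tree :=
  .node 64 (.node 32 (.node 16 (.node 8 (.node 4 (.node 2 (.node 1 (.leaf 0x5) (.leaf 0x6)) (.node 1 (.leaf 0x7) (.leaf 0x8))) (.node 2 (.node 1 (.leaf 0x1) (.leaf 0x2)) (.node 1 (.leaf 0x3) (.leaf 0x4)))) (.node 4 (.node 2 (.node 1 (.leaf 0xd) (.leaf 0xe)) (.node 1 (.leaf 0xf) (.leaf 0x10))) (.node 2 (.node 1 (.leaf 0x9) (.leaf 0xa)) (.node 1 (.leaf 0xb) (.leaf 0xc))))) (.node 8 (.node 4 (.node 2 (.node 1 (.leaf 0x19) (.leaf 0x1a)) (.node 1 (.leaf 0x1b) (.leaf 0x1c))) (.node 2 (.node 1 (.leaf 0x1d) (.leaf 0x1e)) (.node 1 (.leaf 0x1f) (.leaf 0x20)))) (.node 4 (.node 2 (.node 1 (.leaf 0x11) (.leaf 0x12)) (.node 1 (.leaf 0x13) (.leaf 0x14))) (.node 2 (.node 1 (.leaf 0x15)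 (.leaf 0x16)) (.node 1 (.leaf 0x17) (.leaf 0x18)))))) (.node 16 (.node 8 (.node 4 (.node 2 (.node 1 (.leaf 0x4d) (.leaf 0x4e)) (.node 1 (.leaf 0x4f) (.leaf 0x50))) (.node 2 (.node 1 (.leaf 0x49) (.leaf 0x4a)) (.node 1 (.leaf 0x4b) (.leaf 0x4c)))) (.node 4 (.node 2 (.node 1 (.leaf 0x45) (.leaf 0x46)) (.node 1 (.leaf 0x47) (.leaf 0x48))) (.node 2 (.node 1 (.leaf 0x41) (.leaf 0x42)) (.node 1 (.leaf 0x43) (.leaf 0x44))))) (.node 8 (.node 4 (.node 2 (.node 1 (.leaf 0x25) (.leaf 0x26)) (.node 1 (.leaf 0x27) (.leaf 0x28))) (.node 2 (.node 1 (.leaf 0x21) (.leaf 0x22)) (.node 1 (.leaf 0x23) (.leaf 0x24)))) (.node 4 (.node 2 (.node 1 (.leaf 0x2d) (.leaf 0x2e)) (.node 1 (.leaf 0x2f) (.leaf 0x30))) (.node 2 (.node 1 (.leaf 0x29) (.leaf 0x2a)) (.node 1 (.leaf 0x2b) (.leaf 0x2c))))))) (.node 32 (.node 16 (.node 8 (.node 4 (.node 2 (.node 1 (.leaf 0x35) (.leaf 0x36)) (.node 1 (.leaf 0x37) (.leaf 0x38))) (.node 2 (.node 1 (.leaf 0x31) (.leaf 0x32))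 (.node 1 (.leaf 0x33) (.leaf 0x34)))) (.node 4 (.node 2 (.node 1 (.leaf 0x3d) (.leaf 0x3e)) (.node 1 (.leaf 0x3f) (.leaf 0x40))) (.node 2 (.node 1 (.leaf 0x39) (.leaf 0x3a)) (.node 1 (.leaf 0x3b) (.leaf 0x3c))))) (.node 8 (.node 4 (.node 2 (.node 1 (.leaf 0x59) (.leaf 0x5a)) (.node 1 (.leaf 0x5b) (.leaf 0x5c))) (.node 2 (.node 1 (.leaf 0x5d) (.leaf 0x5e)) (.node 1 (.leaf 0x5f) (.leaf 0x60)))) (.node 4 (.node 2 (.node 1 (.leaf 0x51) (.leaf 0x52)) (.node 1 (.leaf 0x53) (.leaf 0x54))) (.node 2 (.node 1 (.leaf 0x55) (.leaf 0x56)) (.node 1 (.leaf 0x57) (.leaf 0x58)))))) (.node 16 (.node 8 (.node 4 (.node 2 (.node 1 (.leaf 0xfc) (.leaf 0xfd)) (.node 1 (.leaf 0xfe) (.leaf 0xff))) (.node 2 (.node 1 (.leaf 0xf8) (.leaf 0xf9)) (.node 1 (.leaf 0xfa) (.leaf 0xfb)))) (.node 4 (.node 2 (.node 1 (.leaf 0xf4) (.leaf 0xf5)) (.node 1 (.leaf 0xf6) (.leaf 0xf7))) (.node 2 (.node 1 (.leaf 0xf0) (.leaf 0xf1)) (.node 1 (.leaf 0xf2) (.leaf 0xf3))))) (.node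 8 (.node 4 (.node 2 (.node 1 (.leaf 0x69) (.leaf 0x6a)) (.node 1 (.leaf 0x6b) (.leaf 0x6c))) (.node 2 (.node 1 (.leaf 0x6d) (.leaf 0x6e)) (.node 1 (.leaf 0x6f) (.leaf 0x70)))) (.node 4 (.node 2 (.node 1 (.leaf 0x61) (.leaf 0x62)) (.node 1 (.leaf 0x63) (.leaf 0x64))) (.node 2 (.node 1 (.leaf 0x65) (.leaf 0x66)) (.node 1 (.leaf 0x67) (.leaf 0x68)))))))

def mulP_44 : Tree :=
  .node 64 (.node 32 (.node 16 (.node 8 (.node 4 (.node 2 (.node 1 (.leaf 0xbc) (.leaf 0xbd)) (.node 1 (.leaf 0xbe) (.leaf 0xbf))) (.node 2 (.node 1 (.leaf 0xb8) (.leaf 0xb9)) (.node 1 (.leaf 0xba) (.leaf 0xbb)))) (.node 4 (.node 2 (.node 1 (.leaf 0xb4) (.leaf 0xb5)) (.node 1 (.leaf 0xb6) (.leaf 0xb7))) (.node 2 (.node 1 (.leaf 0xb0) (.leaf 0xb1)) (.node 1 (.leaf 0xb2) (.leaf 0xb3))))) (.node 8 (.node 4 (.node 2 (.node 1 (.leaf 0x7d) (.leaf 0x7e)) (.node 1 (.leaf 0x7f) (.leaf 0x80))) (.node 2 (.node 1 (.leaf 0x79) (.leaf 0x7a)) (.node 1 (.leaf 0x7b) (.leaf 0x7c))))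 (.node 4 (.node 2 (.node 1 (.leaf 0x75) (.leaf 0x76)) (.node 1 (.leaf 0x77) (.leaf 0x78))) (.node 2 (.node 1 (.leaf 0x71) (.leaf 0x72)) (.node 1 (.leaf 0x73) (.leaf 0x74)))))) (.node 16 (.node 8 (.node 4 (.node 2 (.node 1 (.leaf 0xac) (.leaf 0xad)) (.node 1 (.leaf 0xae) (.leaf 0xaf))) (.node 2 (.node 1 (.leaf 0xa8) (.leaf 0xa9)) (.node 1 (.leaf 0xaa) (.leaf 0xab)))) (.node 4 (.node 2 (.node 1 (.leaf 0xa4) (.leaf 0xa5)) (.node 1 (.leaf 0xa6) (.leaf 0xa7))) (.node 2 (.node 1 (.leaf 0xa0) (.leaf 0xa1)) (.node 1 (.leaf 0xa2) (.leaf 0xa3))))) (.node 8 (.node 4 (.node 2 (.node 1 (.leaf 0x15c) (.leaf 0x15d)) (.node 1 (.leaf 0x15e) (.leaf 0x15f))) (.node 2 (.node 1 (.leaf 0x158) (.leaf 0x159)) (.node 1 (.leaf 0x15a) (.leaf 0x15b)))) (.node 4 (.node 2 (.node 1 (.leaf 0x154) (.leaf 0x155)) (.node 1 (.leaf 0x156) (.leaf 0x157))) (.node 2 (.node 1 (.leaf 0x150) (.leaf 0x151)) (.node 1 (.leaf 0x152) (.leaf 0x153))))))) (.node 32 (.node 16 (.node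 8 (.node 4 (.node 2 (.node 1 (.leaf 0x94) (.leaf 0x95)) (.node 1 (.leaf 0x96) (.leaf 0x97))) (.node 2 (.node 1 (.leaf 0x90) (.leaf 0x91)) (.node 1 (.leaf 0x92) (.leaf 0x93)))) (.node 4 (.node 2 (.node 1 (.leaf 0x9c) (.leaf 0x9d)) (.node 1 (.leaf 0x9e) (.leaf 0x9f))) (.node 2 (.node 1 (.leaf 0x98) (.leaf 0x99)) (.node 1 (.leaf 0x9a) (.leaf 0x9b))))) (.node 8 (.node 4 (.node 2 (.node 1 (.leaf 0xd8) (.leaf 0xd9)) (.node 1 (.leaf 0xda) (.leaf 0xdb))) (.node 2 (.node 1 (.leaf 0xdc) (.leaf 0xdd)) (.node 1 (.leaf 0xde) (.leaf 0xdf)))) (.node 4 (.node 2 (.node 1 (.leaf 0xd0) (.leaf 0xd1)) (.node 1 (.leaf 0xd2) (.leaf 0xd3))) (.node 2 (.node 1 (.leaf 0xd4) (.leaf 0xd5)) (.node 1 (.leaf 0xd6) (.leaf 0xd7)))))) (.node 16 (.node 8 (.node 4 (.node 2 (.node 1 (.leaf 0xec) (.leaf 0xed)) (.node 1 (.leaf 0xee) (.leaf 0xef))) (.node 2 (.node 1 (.leaf 0xe8) (.leaf 0xe9)) (.node 1 (.leaf 0xea) (.leaf 0xeb)))) (.node 4 (.node 2 (.node 1 (.leaf 0xe4) (.leaf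 0xe5)) (.node 1 (.leaf 0xe6) (.leaf 0xe7))) (.node 2 (.node 1 (.leaf 0xe0) (.leaf 0xe1)) (.node 1 (.leaf 0xe2) (.leaf 0xe3))))) (.node 8 (.node 4 (.node 2 (.node 1 (.leaf 0x12c) (.leaf 0x12d)) (.node 1 (.leaf 0x12e) (.leaf 0x12f))) (.node 2 (.node 1 (.leaf 0x128) (.leaf 0x129)) (.node 1 (.leaf 0x12a) (.leaf 0x12b)))) (.node 4 (.node 2 (.node 1 (.leaf 0x124) (.leaf 0x125)) (.node 1 (.leaf 0x126) (.leaf 0x127))) (.node 2 (.node 1 (.leaf 0x120) (.leaf 0x121)) (.node 1 (.leaf 0x122) (.leaf 0x123)))))))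

def mulP_45 : Tree :=
  .node 64 (.node 32 (.node 16 (.node 8 (.node 4 (.node 2 (.node 1 (.leaf 0x39c) (.leaf 0x39d)) (.node 1 (.leaf 0x39e) (.leaf 0x39f))) (.node 2 (.node 1 (.leaf 0x398) (.leaf 0x399)) (.node 1 (.leaf 0x39a) (.leaf 0x39b)))) (.node 4 (.node 2 (.node 1 (.leaf 0x394) (.leaf 0x395)) (.node 1 (.leaf 0x396) (.leaf 0x397))) (.node 2 (.node 1 (.leaf 0x390) (.leaf 0x391)) (.node 1 (.leaf 0x392) (.leaf 0x393))))) (.node 8 (.node 4 (.node 2 (.node 1 (.leaf 0x11c) (.leaf 0x11d)) (.node 1 (.leaf 0x11e) (.leaf 0x11f))) (.node 2 (.node 1 (.leaf 0x118) (.leaf 0x119)) (.node 1 (.leaf 0x11a) (.leaf 0x11b)))) (.node 4 (.node 2 (.node 1 (.leaf 0x114) (.leaf 0x115)) (.node 1 (.leaf 0x116) (.leaf 0x117))) (.node 2 (.node 1 (.leaf 0x110) (.leaf 0x111)) (.node 1 (.leaf 0x112) (.leaf 0x113)))))) (.node 16 (.node 8 (.node 4 (.node 2 (.node 1 (.leaf 0xcc) (.leaf 0xcd)) (.node 1 (.leaf 0xce) (.leaf 0xcf))) (.node 2 (.node 1 (.leaf 0xc8) (.leaf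 0xc9)) (.node 1 (.leaf 0xca) (.leaf 0xcb)))) (.node 4 (.node 2 (.node 1 (.leaf 0xc4) (.leaf 0xc5)) (.node 1 (.leaf 0xc6) (.leaf 0xc7))) (.node 2 (.node 1 (.leaf 0xc0) (.leaf 0xc1)) (.node 1 (.leaf 0xc2) (.leaf 0xc3))))) (.node 8 (.node 4 (.node 2 (.node 1 (.leaf 0x38c) (.leaf 0x38d)) (.node 1 (.leaf 0x38e) (.leaf 0x38f))) (.node 2 (.node 1 (.leaf 0x388) (.leaf 0x389)) (.node 1 (.leaf 0x38a) (.leaf 0x38b)))) (.node 4 (.node 2 (.node 1 (.leaf 0x384) (.leaf 0x385)) (.node 1 (.leaf 0x386) (.leaf 0x387))) (.node 2 (.node 1 (.leaf 0x380) (.leaf 0x381)) (.node 1 (.leaf 0x382) (.leaf 0x383))))))) (.node 32 (.node 16 (.node 8 (.node 4 (.node 2 (.node 1 (.leaf 0x16c) (.leaf 0x16d)) (.node 1 (.leaf 0x16e) (.leaf 0x16f))) (.node 2 (.node 1 (.leaf 0x168) (.leaf 0x169)) (.node 1 (.leaf 0x16a) (.leaf 0x16b)))) (.node 4 (.node 2 (.node 1 (.leaf 0x164) (.leaf 0x165)) (.node 1 (.leaf 0x166) (.leaf 0x167))) (.node 2 (.node 1 (.leaf 0x160) (.leaf 0x161))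 (.node 1 (.leaf 0x162) (.leaf 0x163))))) (.node 8 (.node 4 (.node 2 (.node 1 (.leaf 0x13c) (.leaf 0x13d)) (.node 1 (.leaf 0x13e) (.leaf 0x13f))) (.node 2 (.node 1 (.leaf 0x138) (.leaf 0x139)) (.node 1 (.leaf 0x13a) (.leaf 0x13b)))) (.node 4 (.node 2 (.node 1 (.leaf 0x134) (.leaf 0x135)) (.node 1 (.leaf 0x136) (.leaf 0x137))) (.node 2 (.node 1 (.leaf 0x130) (.leaf 0x131)) (.node 1 (.leaf 0x132) (.leaf 0x133)))))) (.node 16 (.node 8 (.node 4 (.node 2 (.node 1 (.leaf 0x3dc) (.leaf 0x3dd)) (.node 1 (.leaf 0x3de) (.leaf 0x3df))) (.node 2 (.node 1 (.leaf 0x3d8) (.leaf 0x3d9)) (.node 1 (.leaf 0x3da) (.leaf 0x3db)))) (.node 4 (.node 2 (.node 1 (.leaf 0x3d4) (.leaf 0x3d5)) (.node 1 (.leaf 0x3d6) (.leaf 0x3d7))) (.node 2 (.node 1 (.leaf 0x3d0) (.leaf 0x3d1)) (.node 1 (.leaf 0x3d2) (.leaf 0x3d3))))) (.node 8 (.node 4 (.node 2 (.node 1 (.leaf 0x3ec) (.leaf 0x3ed)) (.node 1 (.leaf 0x3ee) (.leaf 0x3ef))) (.node 2 (.node 1 (.leaf 0x3e8) (.leaf 0x3e9))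 (.node 1 (.leaf 0x3ea) (.leaf 0x3eb)))) (.node 4 (.node 2 (.node 1 (.leaf 0x3e4) (.leaf 0x3e5)) (.node 1 (.leaf 0x3e6) (.leaf 0x3e7))) (.node 2 (.node 1 (.leaf 0x3e0) (.leaf 0x3e1)) (.node 1 (.leaf 0x3e2) (.leaf 0x3e3)))))))

def mulP_46 : Tree :=
  .node 64 (.node 32 (.node 16 (.node 8 (.node 4 (.node 2 (.node 1 (.leaf 0x8c) (.leaf 0x8d)) (.node 1 (.leaf 0x8e) (.leaf 0x8f))) (.node 2 (.node 1 (.leaf 0x88) (.leaf 0x89)) (.node 1 (.leaf 0x8a) (.leaf 0x8b)))) (.node 4 (.node 2 (.node 1 (.leaf 0x84) (.leaf 0x85)) (.node 1 (.leaf 0x86) (.leaf 0x87))) (.node 2 (.node 1 (.leaf 0x81) (.leaf 0x0)) (.node 1 (.leaf 0x82) (.leaf 0x83))))) (.node 8 (.node 4 (.node 2 (.node 1 (.leaf 0x14c) (.leaf 0x14d)) (.node 1 (.leaf 0x14e) (.leaf 0x14f))) (.node 2 (.node 1 (.leaf 0x148) (.leaf 0x149)) (.node 1 (.leaf 0x14a) (.leaf 0x14b)))) (.node 4 (.node 2 (.node 1 (.leaf 0x144) (.leaf 0x145)) (.node 1 (.leaf 0x146) (.leaf 0x147))) (.node 2 (.node 1 (.leaf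 0x140) (.leaf 0x141)) (.node 1 (.leaf 0x142) (.leaf 0x143)))))) (.node 16 (.node 8 (.node 4 (.node 2 (.node 1 (.leaf 0x3bc) (.leaf 0x3bd)) (.node 1 (.leaf 0x3be) (.leaf 0x3bf))) (.node 2 (.node 1 (.leaf 0x3b8) (.leaf 0x3b9)) (.node 1 (.leaf 0x3ba) (.leaf 0x3bb)))) (.node 4 (.node 2 (.node 1 (.leaf 0x3b4) (.leaf 0x3b5)) (.node 1 (.leaf 0x3b6) (.leaf 0x3b7))) (.node 2 (.node 1 (.leaf 0x3b0) (.leaf 0x3b1)) (.node 1 (.leaf 0x3b2) (.leaf 0x3b3))))) (.node 8 (.node 4 (.node 2 (.node 1 (.leaf 0x3ac) (.leaf 0x3ad)) (.node 1 (.leaf 0x3ae) (.leaf 0x3af))) (.node 2 (.node 1 (.leaf 0x3a8) (.leaf 0x3a9)) (.node 1 (.leaf 0x3aa) (.leaf 0x3ab)))) (.node 4 (.node 2 (.node 1 (.leaf 0x3a4) (.leaf 0x3a5)) (.node 1 (.leaf 0x3a6) (.leaf 0x3a7))) (.node 2 (.node 1 (.leaf 0x3a0) (.leaf 0x3a1)) (.node 1 (.leaf 0x3a2) (.leaf 0x3a3))))))) (.node 32 (.node 16 (.node 8 (.node 4 (.node 2 (.node 1 (.leaf 0x3cc) (.leaf 0x3cd)) (.node 1 (.leaf 0x3ce) (.leaf 0x3cf)))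 (.node 2 (.node 1 (.leaf 0x3c8) (.leaf 0x3c9)) (.node 1 (.leaf 0x3ca) (.leaf 0x3cb)))) (.node 4 (.node 2 (.node 1 (.leaf 0x3c4) (.leaf 0x3c5)) (.node 1 (.leaf 0x3c6) (.leaf 0x3c7))) (.node 2 (.node 1 (.leaf 0x3c0) (.leaf 0x3c1)) (.node 1 (.leaf 0x3c2) (.leaf 0x3c3))))) (.node 8 (.node 4 (.node 2 (.node 1 (.leaf 0x10c) (.leaf 0x10d)) (.node 1 (.leaf 0x10e) (.leaf 0x10f))) (.node 2 (.node 1 (.leaf 0x108) (.leaf 0x109)) (.node 1 (.leaf 0x10a) (.leaf 0x10b)))) (.node 4 (.node 2 (.node 1 (.leaf 0x104) (.leaf 0x105)) (.node 1 (.leaf 0x106) (.leaf 0x107))) (.node 2 (.node 1 (.leaf 0x100) (.leaf 0x101)) (.node 1 (.leaf 0x102) (.leaf 0x103)))))) (.node 16 (.node 8 (.node 4 (.node 2 (.node 1 (.leaf 0x17c) (.leaf 0x17d)) (.node 1 (.leaf 0x17e) (.leaf 0x17f))) (.node 2 (.node 1 (.leaf 0x178) (.leaf 0x179)) (.node 1 (.leaf 0x17a) (.leaf 0x17b)))) (.node 4 (.node 2 (.node 1 (.leaf 0x174) (.leaf 0x175)) (.node 1 (.leaf 0x176) (.leaf 0x177))) (.node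 2 (.node 1 (.leaf 0x170) (.leaf 0x171)) (.node 1 (.leaf 0x172) (.leaf 0x173))))) (.node 8 (.node 4 (.node 2 (.node 1 (.leaf 0x3fc) (.leaf 0x3fd)) (.node 1 (.leaf 0x3fe) (.leaf 0x3ff))) (.node 2 (.node 1 (.leaf 0x3f8) (.leaf 0x3f9)) (.node 1 (.leaf 0x3fa) (.leaf 0x3fb)))) (.node 4 (.node 2 (.node 1 (.leaf 0x3f4) (.leaf 0x3f5)) (.node 1 (.leaf 0x3f6) (.leaf 0x3f7))) (.node 2 (.node 1 (.leaf 0x3f0) (.leaf 0x3f1)) (.node 1 (.leaf 0x3f2) (.leaf 0x3f3)))))))

def mulP_47 : Tree :=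
  .node 64 (.node 32 (.node 16 (.node 8 (.node 4 (.node 2 (.node 1 (.leaf 0x2bc) (.leaf 0x2bd)) (.node 1 (.leaf 0x2be) (.leaf 0x2bf))) (.node 2 (.node 1 (.leaf 0x2b8) (.leaf 0x2b9)) (.node 1 (.leaf 0x2ba) (.leaf 0x2bb)))) (.node 4 (.node 2 (.node 1 (.leaf 0x2b4) (.leaf 0x2b5)) (.node 1 (.leaf 0x2b6) (.leaf 0x2b7))) (.node 2 (.node 1 (.leaf 0x2b0) (.leaf 0x2b1)) (.node 1 (.leaf 0x2b2) (.leaf 0x2b3))))) (.node 8 (.node 4 (.node 2 (.node 1 (.leaf 0x28c) (.leaf 0x28d)) (.node 1 (.leaf 0x28e) (.leaf 0x28f))) (.node 2 (.node 1 (.leaf 0x288) (.leaf 0x289)) (.node 1 (.leaf 0x28a) (.leaf 0x28b)))) (.node 4 (.node 2 (.node 1 (.leaf 0x284) (.leaf 0x285)) (.node 1 (.leaf 0x286) (.leaf 0x287))) (.node 2 (.node 1 (.leaf 0x280) (.leaf 0x281)) (.node 1 (.leaf 0x282) (.leaf 0x283)))))) (.node 16 (.node 8 (.node 4 (.node 2 (.node 1 (.leaf 0x33c) (.leaf 0x33d)) (.node 1 (.leaf 0x33e) (.leaf 0x33f))) (.node 2 (.node 1 (.leaf 0x338) (.leaf 0x339)) (.node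 1 (.leaf 0x33a) (.leaf 0x33b)))) (.node 4 (.node 2 (.node 1 (.leaf 0x334) (.leaf 0x335)) (.node 1 (.leaf 0x336) (.leaf 0x337))) (.node 2 (.node 1 (.leaf 0x330) (.leaf 0x331)) (.node 1 (.leaf 0x332) (.leaf 0x333))))) (.node 8 (.node 4 (.node 2 (.node 1 (.leaf 0x32c) (.leaf 0x32d)) (.node 1 (.leaf 0x32e) (.leaf 0x32f))) (.node 2 (.node 1 (.leaf 0x328) (.leaf 0x329)) (.node 1 (.leaf 0x32a) (.leaf 0x32b)))) (.node 4 (.node 2 (.node 1 (.leaf 0x324) (.leaf 0x325)) (.node 1 (.leaf 0x326) (.leaf 0x327))) (.node 2 (.node 1 (.leaf 0x320) (.leaf 0x321)) (.node 1 (.leaf 0x322) (.leaf 0x323))))))) (.node 32 (.node 16 (.node 8 (.node 4 (.node 2 (.node 1 (.leaf 0x34c) (.leaf 0x34d)) (.node 1 (.leaf 0x34e) (.leaf 0x34f))) (.node 2 (.node 1 (.leaf 0x348) (.leaf 0x349)) (.node 1 (.leaf 0x34a) (.leaf 0x34b)))) (.node 4 (.node 2 (.node 1 (.leaf 0x344) (.leaf 0x345)) (.node 1 (.leaf 0x346) (.leaf 0x347))) (.node 2 (.node 1 (.leaf 0x340) (.leaf 0x341))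 (.node 1 (.leaf 0x342) (.leaf 0x343))))) (.node 8 (.node 4 (.node 2 (.node 1 (.leaf 0x2ec) (.leaf 0x2ed)) (.node 1 (.leaf 0x2ee) (.leaf 0x2ef))) (.node 2 (.node 1 (.leaf 0x2e8) (.leaf 0x2e9)) (.node 1 (.leaf 0x2ea) (.leaf 0x2eb)))) (.node 4 (.node 2 (.node 1 (.leaf 0x2e4) (.leaf 0x2e5)) (.node 1 (.leaf 0x2e6) (.leaf 0x2e7))) (.node 2 (.node 1 (.leaf 0x2e0) (.leaf 0x2e1)) (.node 1 (.leaf 0x2e2) (.leaf 0x2e3)))))) (.node 16 (.node 8 (.node 4 (.node 2 (.node 1 (.leaf 0x2fc) (.leaf 0x2fd)) (.node 1 (.leaf 0x2fe) (.leaf 0x2ff))) (.node 2 (.node 1 (.leaf 0x2f8) (.leaf 0x2f9)) (.node 1 (.leaf 0x2fa) (.leaf 0x2fb)))) (.node 4 (.node 2 (.node 1 (.leaf 0x2f4) (.leaf 0x2f5)) (.node 1 (.leaf 0x2f6) (.leaf 0x2f7))) (.node 2 (.node 1 (.leaf 0x2f0) (.leaf 0x2f1)) (.node 1 (.leaf 0x2f2) (.leaf 0x2f3))))) (.node 8 (.node 4 (.node 2 (.node 1 (.leaf 0x37c) (.leaf 0x37d)) (.node 1 (.leaf 0x37e) (.leaf 0x37f))) (.node 2 (.node 1 (.leaf 0x378) (.leaf 0x379))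 (.node 1 (.leaf 0x37a) (.leaf 0x37b)))) (.node 4 (.node 2 (.node 1 (.leaf 0x374) (.leaf 0x375)) (.node 1 (.leaf 0x376) (.leaf 0x377))) (.node 2 (.node 1 (.leaf 0x370) (.leaf 0x371)) (.node 1 (.leaf 0x372) (.leaf 0x373)))))))

def mulP_48 : Tree :=
  .node 64 (.node 32 (.node 16 (.node 8 (.node 4 (.node 2 (.node 1 (.leaf 0x383) (.leaf 0x63)) (.node 1 (.leaf 0x64) (.leaf 0x61))) (.node 2 (.node 1 (.leaf 0x62) (.leaf 0x67)) (.node 1 (.leaf 0x68) (.leaf 0x65)))) (.node 4 (.node 2 (.node 1 (.leaf 0x66) (.leaf 0x6b)) (.node 1 (.leaf 0x6c) (.leaf 0x69))) (.node 2 (.node 1 (.leaf 0x6a) (.leaf 0x6f)) (.node 1 (.leaf 0x70) (.leaf 0x6d))))) (.node 8 (.node 4 (.node 2 (.node 1 (.leaf 0x6e) (.leaf 0x33)) (.node 1 (.leaf 0x34) (.leaf 0x31))) (.node 2 (.node 1 (.leaf 0x32) (.leaf 0x37)) (.node 1 (.leaf 0x38) (.leaf 0x35)))) (.node 4 (.node 2 (.node 1 (.leaf 0x36) (.leaf 0x3b)) (.node 1 (.leaf 0x3c) (.leaf 0x39))) (.node 2 (.node 1 (.leaf 0x3a) (.leaf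 0x3f)) (.node 1 (.leaf 0x40) (.leaf 0x3d)))))) (.node 16 (.node 8 (.node 4 (.node 2 (.node 1 (.leaf 0x3e) (.leaf 0xd2)) (.node 1 (.leaf 0xd3) (.leaf 0xd0))) (.node 2 (.node 1 (.leaf 0xd1) (.leaf 0xd6)) (.node 1 (.leaf 0xd7) (.leaf 0xd4)))) (.node 4 (.node 2 (.node 1 (.leaf 0xd5) (.leaf 0xda)) (.node 1 (.leaf 0xdb) (.leaf 0xd8))) (.node 2 (.node 1 (.leaf 0xd9) (.leaf 0xde)) (.node 1 (.leaf 0xdf) (.leaf 0xdc))))) (.node 8 (.node 4 (.node 2 (.node 1 (.leaf 0xdd) (.leaf 0x13)) (.node 1 (.leaf 0x14) (.leaf 0x11))) (.node 2 (.node 1 (.leaf 0x12) (.leaf 0x17)) (.node 1 (.leaf 0x18) (.leaf 0x15)))) (.node 4 (.node 2 (.node 1 (.leaf 0x16) (.leaf 0x1b)) (.node 1 (.leaf 0x1c) (.leaf 0x19))) (.node 2 (.node 1 (.leaf 0x1a) (.leaf 0x1f)) (.node 1 (.leaf 0x20) (.leaf 0x1d))))))) (.node 32 (.node 16 (.node 8 (.node 4 (.node 2 (.node 1 (.leaf 0x1e) (.leaf 0x122)) (.node 1 (.leaf 0x123) (.leaf 0x120))) (.node 2 (.node 1 (.leaf 0x121) (.leaf 0x126))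 (.node 1 (.leaf 0x127) (.leaf 0x124)))) (.node 4 (.node 2 (.node 1 (.leaf 0x125) (.leaf 0x12a)) (.node 1 (.leaf 0x12b) (.leaf 0x128))) (.node 2 (.node 1 (.leaf 0x129) (.leaf 0x12e)) (.node 1 (.leaf 0x12f) (.leaf 0x12c))))) (.node 8 (.node 4 (.node 2 (.node 1 (.leaf 0x12d) (.leaf 0x92)) (.node 1 (.leaf 0x93) (.leaf 0x90))) (.node 2 (.node 1 (.leaf 0x91) (.leaf 0x96)) (.node 1 (.leaf 0x97) (.leaf 0x94)))) (.node 4 (.node 2 (.node 1 (.leaf 0x95) (.leaf 0x9a)) (.node 1 (.leaf 0x9b) (.leaf 0x98))) (.node 2 (.node 1 (.leaf 0x99) (.leaf 0x9e)) (.node 1 (.leaf 0x9f) (.leaf 0x9c)))))) (.node 16 (.node 8 (.node 4 (.node 2 (.node 1 (.leaf 0x9d) (.leaf 0x3)) (.node 1 (.leaf 0x4) (.leaf 0x1))) (.node 2 (.node 1 (.leaf 0x2) (.leaf 0x7)) (.node 1 (.leaf 0x8) (.leaf 0x5)))) (.node 4 (.node 2 (.node 1 (.leaf 0x6) (.leaf 0xb)) (.node 1 (.leaf 0xc) (.leaf 0x9))) (.node 2 (.node 1 (.leaf 0xa) (.leaf 0xf)) (.node 1 (.leaf 0x10) (.leaf 0xd))))) (.node 8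 (.node 4 (.node 2 (.node 1 (.leaf 0xe) (.leaf 0x152)) (.node 1 (.leaf 0x153) (.leaf 0x150))) (.node 2 (.node 1 (.leaf 0x151) (.leaf 0x156)) (.node 1 (.leaf 0x157) (.leaf 0x154)))) (.node 4 (.node 2 (.node 1 (.leaf 0x155) (.leaf 0x15a)) (.node 1 (.leaf 0x15b) (.leaf 0x158))) (.node 2 (.node 1 (.leaf 0x159) (.leaf 0x15e)) (.node 1 (.leaf 0x15f) (.leaf 0x15c)))))))

def mulP_49 : Tree :=
  .node 64 (.node 32 (.node 16 (.node 8 (.node 4 (.node 2 (.node 1 (.leaf 0x15d) (.leaf 0x382)) (.node 1 (.leaf 0x380) (.leaf 0x381))) (.node 2 (.node 1 (.leaf 0x386) (.leaf 0x387)) (.node 1 (.leaf 0x384) (.leaf 0x385)))) (.node 4 (.node 2 (.node 1 (.leaf 0x38a) (.leaf 0x38b)) (.node 1 (.leaf 0x388) (.leaf 0x389))) (.node 2 (.node 1 (.leaf 0x38e) (.leaf 0x38f)) (.node 1 (.leaf 0x38c) (.leaf 0x38d))))) (.node 8 (.node 4 (.node 2 (.node 1 (.leaf 0x53) (.leaf 0x54)) (.node 1 (.leaf 0x51) (.leaf 0x52))) (.node 2 (.node 1 (.leaf 0x57) (.leaf 0x58)) (.node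 1 (.leaf 0x55) (.leaf 0x56)))) (.node 4 (.node 2 (.node 1 (.leaf 0x5b) (.leaf 0x5c)) (.node 1 (.leaf 0x59) (.leaf 0x5a))) (.node 2 (.node 1 (.leaf 0x5f) (.leaf 0x60)) (.node 1 (.leaf 0x5d) (.leaf 0x5e)))))) (.node 16 (.node 8 (.node 4 (.node 2 (.node 1 (.leaf 0xb2) (.leaf 0xb3)) (.node 1 (.leaf 0xb0) (.leaf 0xb1))) (.node 2 (.node 1 (.leaf 0xb6) (.leaf 0xb7)) (.node 1 (.leaf 0xb4) (.leaf 0xb5)))) (.node 4 (.node 2 (.node 1 (.leaf 0xba) (.leaf 0xbb)) (.node 1 (.leaf 0xb8) (.leaf 0xb9))) (.node 2 (.node 1 (.leaf 0xbe) (.leaf 0xbf)) (.node 1 (.leaf 0xbc) (.leaf 0xbd))))) (.node 8 (.node 4 (.node 2 (.node 1 (.leaf 0xa2) (.leaf 0xa3)) (.node 1 (.leaf 0xa0) (.leaf 0xa1))) (.node 2 (.node 1 (.leaf 0xa6) (.leaf 0xa7)) (.node 1 (.leaf 0xa4) (.leaf 0xa5)))) (.node 4 (.node 2 (.node 1 (.leaf 0xaa) (.leaf 0xab)) (.node 1 (.leaf 0xa8) (.leaf 0xa9))) (.node 2 (.node 1 (.leaf 0xae) (.leaf 0xaf)) (.node 1 (.leaf 0xac) (.leaf 0xad))))))) (.node 32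 (.node 16 (.node 8 (.node 4 (.node 2 (.node 1 (.leaf 0x3a2) (.leaf 0x3a3)) (.node 1 (.leaf 0x3a0) (.leaf 0x3a1))) (.node 2 (.node 1 (.leaf 0x3a6) (.leaf 0x3a7)) (.node 1 (.leaf 0x3a4) (.leaf 0x3a5)))) (.node 4 (.node 2 (.node 1 (.leaf 0x3aa) (.leaf 0x3ab)) (.node 1 (.leaf 0x3a8) (.leaf 0x3a9))) (.node 2 (.node 1 (.leaf 0x3ae) (.leaf 0x3af)) (.node 1 (.leaf 0x3ac) (.leaf 0x3ad))))) (.node 8 (.node 4 (.node 2 (.node 1 (.leaf 0x23) (.leaf 0x24)) (.node 1 (.leaf 0x21) (.leaf 0x22))) (.node 2 (.node 1 (.leaf 0x27) (.leaf 0x28)) (.node 1 (.leaf 0x25) (.leaf 0x26)))) (.node 4 (.node 2 (.node 1 (.leaf 0x2b) (.leaf 0x2c)) (.node 1 (.leaf 0x29) (.leaf 0x2a))) (.node 2 (.node 1 (.leaf 0x2f) (.leaf 0x30)) (.node 1 (.leaf 0x2d) (.leaf 0x2e)))))) (.node 16 (.node 8 (.node 4 (.node 2 (.node 1 (.leaf 0xf2) (.leaf 0xf3)) (.node 1 (.leaf 0xf0) (.leaf 0xf1))) (.node 2 (.node 1 (.leaf 0xf6) (.leaf 0xf7)) (.node 1 (.leaf 0xf4) (.leaf 0xf5)))) (.node 4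 (.node 2 (.node 1 (.leaf 0xfa) (.leaf 0xfb)) (.node 1 (.leaf 0xf8) (.leaf 0xf9))) (.node 2 (.node 1 (.leaf 0xfe) (.leaf 0xff)) (.node 1 (.leaf 0xfc) (.leaf 0xfd))))) (.node 8 (.node 4 (.node 2 (.node 1 (.leaf 0xe2) (.leaf 0xe3)) (.node 1 (.leaf 0xe0) (.leaf 0xe1))) (.node 2 (.node 1 (.leaf 0xe6) (.leaf 0xe7)) (.node 1 (.leaf 0xe4) (.leaf 0xe5)))) (.node 4 (.node 2 (.node 1 (.leaf 0xea) (.leaf 0xeb)) (.node 1 (.leaf 0xe8) (.leaf 0xe9))) (.node 2 (.node 1 (.leaf 0xee) (.leaf 0xef)) (.node 1 (.leaf 0xec) (.leaf 0xed)))))))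

def mulP_50 : Tree :=
  .node 64 (.node 32 (.node 16 (.node 8 (.node 4 (.node 2 (.node 1 (.leaf 0x392) (.leaf 0x393)) (.node 1 (.leaf 0x390) (.leaf 0x391))) (.node 2 (.node 1 (.leaf 0x396) (.leaf 0x397)) (.node 1 (.leaf 0x394) (.leaf 0x395)))) (.node 4 (.node 2 (.node 1 (.leaf 0x39a) (.leaf 0x39b)) (.node 1 (.leaf 0x398) (.leaf 0x399))) (.node 2 (.node 1 (.leaf 0x39e) (.leaf 0x39f)) (.node 1 (.leaf 0x39c) (.leaf 0x39d))))) (.node 8 (.node 4 (.node 2 (.node 1 (.leaf 0x172) (.leaf 0x173)) (.node 1 (.leaf 0x170) (.leaf 0x171))) (.node 2 (.node 1 (.leaf 0x176) (.leaf 0x177)) (.node 1 (.leaf 0x174) (.leaf 0x175)))) (.node 4 (.node 2 (.node 1 (.leaf 0x17a) (.leaf 0x17b)) (.node 1 (.leaf 0x178) (.leaf 0x179))) (.node 2 (.node 1 (.leaf 0x17e) (.leaf 0x17f)) (.node 1 (.leaf 0x17c) (.leaf 0x17d)))))) (.node 16 (.node 8 (.node 4 (.node 2 (.node 1 (.leaf 0x43) (.leaf 0x44)) (.node 1 (.leaf 0x41) (.leaf 0x42))) (.node 2 (.node 1 (.leaf 0x47) (.leaf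 0x48)) (.node 1 (.leaf 0x45) (.leaf 0x46)))) (.node 4 (.node 2 (.node 1 (.leaf 0x4b) (.leaf 0x4c)) (.node 1 (.leaf 0x49) (.leaf 0x4a))) (.node 2 (.node 1 (.leaf 0x4f) (.leaf 0x50)) (.node 1 (.leaf 0x4d) (.leaf 0x4e))))) (.node 8 (.node 4 (.node 2 (.node 1 (.leaf 0x3d2) (.leaf 0x3d3)) (.node 1 (.leaf 0x3d0) (.leaf 0x3d1))) (.node 2 (.node 1 (.leaf 0x3d6) (.leaf 0x3d7)) (.node 1 (.leaf 0x3d4) (.leaf 0x3d5)))) (.node 4 (.node 2 (.node 1 (.leaf 0x3da) (.leaf 0x3db)) (.node 1 (.leaf 0x3d8) (.leaf 0x3d9))) (.node 2 (.node 1 (.leaf 0x3de) (.leaf 0x3df)) (.node 1 (.leaf 0x3dc) (.leaf 0x3dd))))))) (.node 32 (.node 16 (.node 8 (.node 4 (.node 2 (.node 1 (.leaf 0x162) (.leaf 0x163)) (.node 1 (.leaf 0x160) (.leaf 0x161))) (.node 2 (.node 1 (.leaf 0x166) (.leaf 0x167)) (.node 1 (.leaf 0x164) (.leaf 0x165)))) (.node 4 (.node 2 (.node 1 (.leaf 0x16a) (.leaf 0x16b)) (.node 1 (.leaf 0x168) (.leaf 0x169))) (.node 2 (.node 1 (.leaf 0x16e) (.leaf 0x16f))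 (.node 1 (.leaf 0x16c) (.leaf 0x16d))))) (.node 8 (.node 4 (.node 2 (.node 1 (.leaf 0x73) (.leaf 0x74)) (.node 1 (.leaf 0x71) (.leaf 0x72))) (.node 2 (.node 1 (.leaf 0x77) (.leaf 0x78)) (.node 1 (.leaf 0x75) (.leaf 0x76)))) (.node 4 (.node 2 (.node 1 (.leaf 0x7b) (.leaf 0x7c)) (.node 1 (.leaf 0x79) (.leaf 0x7a))) (.node 2 (.node 1 (.leaf 0x7f) (.leaf 0x80)) (.node 1 (.leaf 0x7d) (.leaf 0x7e)))))) (.node 16 (.node 8 (.node 4 (.node 2 (.node 1 (.leaf 0x142) (.leaf 0x143)) (.node 1 (.leaf 0x140) (.leaf 0x141))) (.node 2 (.node 1 (.leaf 0x146) (.leaf 0x147)) (.node 1 (.leaf 0x144) (.leaf 0x145)))) (.node 4 (.node 2 (.node 1 (.leaf 0x14a) (.leaf 0x14b)) (.node 1 (.leaf 0x148) (.leaf 0x149))) (.node 2 (.node 1 (.leaf 0x14e) (.leaf 0x14f)) (.node 1 (.leaf 0x14c) (.leaf 0x14d))))) (.node 8 (.node 4 (.node 2 (.node 1 (.leaf 0x112) (.leaf 0x113)) (.node 1 (.leaf 0x110) (.leaf 0x111))) (.node 2 (.node 1 (.leaf 0x116) (.leaf 0x117)) (.node 1 (.leaf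 0x114) (.leaf 0x115)))) (.node 4 (.node 2 (.node 1 (.leaf 0x11a) (.leaf 0x11b)) (.node 1 (.leaf 0x118) (.leaf 0x119))) (.node 2 (.node 1 (.leaf 0x11e) (.leaf 0x11f)) (.node 1 (.leaf 0x11c) (.leaf 0x11d)))))))

def mulP_51 : Tree :=
  .node 64 (.node 32 (.node 16 (.node 8 (.node 4 (.node 2 (.node 1 (.leaf 0x1d2) (.leaf 0x1d3)) (.node 1 (.leaf 0x1d0) (.leaf 0x1d1))) (.node 2 (.node 1 (.leaf 0x1d6) (.leaf 0x1d7)) (.node 1 (.leaf 0x1d4) (.leaf 0x1d5)))) (.node 4 (.node 2 (.node 1 (.leaf 0x1da) (.leaf 0x1db)) (.node 1 (.leaf 0x1d8) (.leaf 0x1d9))) (.node 2 (.node 1 (.leaf 0x1de) (.leaf 0x1df)) (.node 1 (.leaf 0x1dc) (.leaf 0x1dd))))) (.node 8 (.node 4 (.node 2 (.node 1 (.leaf 0x1b2) (.leaf 0x1b3)) (.node 1 (.leaf 0x1b0) (.leaf 0x1b1))) (.node 2 (.node 1 (.leaf 0x1b6) (.leaf 0x1b7)) (.node 1 (.leaf 0x1b4) (.leaf 0x1b5)))) (.node 4 (.node 2 (.node 1 (.leaf 0x1ba) (.leaf 0x1bb)) (.node 1 (.leaf 0x1b8) (.leaf 0x1b9))) (.node 2 (.node 1 (.leaf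 0x1be) (.leaf 0x1bf)) (.node 1 (.leaf 0x1bc) (.leaf 0x1bd)))))) (.node 16 (.node 8 (.node 4 (.node 2 (.node 1 (.leaf 0x1ae) (.leaf 0x1af)) (.node 1 (.leaf 0x1ac) (.leaf 0x1ad))) (.node 2 (.node 1 (.leaf 0x1aa) (.leaf 0x1ab)) (.node 1 (.leaf 0x1a8) (.leaf 0x1a9)))) (.node 4 (.node 2 (.node 1 (.leaf 0x1a6) (.leaf 0x1a7)) (.node 1 (.leaf 0x1a4) (.leaf 0x1a5))) (.node 2 (.node 1 (.leaf 0x1a2) (.leaf 0x1a3)) (.node 1 (.leaf 0x1a0) (.leaf 0x1a1))))) (.node 8 (.node 4 (.node 2 (.node 1 (.leaf 0x192) (.leaf 0x193)) (.node 1 (.leaf 0x190) (.leaf 0x191))) (.node 2 (.node 1 (.leaf 0x196) (.leaf 0x197)) (.node 1 (.leaf 0x194) (.leaf 0x195)))) (.node 4 (.node 2 (.node 1 (.leaf 0x19a) (.leaf 0x19b)) (.node 1 (.leaf 0x198) (.leaf 0x199))) (.node 2 (.node 1 (.leaf 0x19e) (.leaf 0x19f)) (.node 1 (.leaf 0x19c) (.leaf 0x19d))))))) (.node 32 (.node 16 (.node 8 (.node 4 (.node 2 (.node 1 (.leaf 0x252) (.leaf 0x253)) (.node 1 (.leaf 0x250) (.leaf 0x251)))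 (.node 2 (.node 1 (.leaf 0x256) (.leaf 0x257)) (.node 1 (.leaf 0x254) (.leaf 0x255)))) (.node 4 (.node 2 (.node 1 (.leaf 0x25a) (.leaf 0x25b)) (.node 1 (.leaf 0x258) (.leaf 0x259))) (.node 2 (.node 1 (.leaf 0x25e) (.leaf 0x25f)) (.node 1 (.leaf 0x25c) (.leaf 0x25d))))) (.node 8 (.node 4 (.node 2 (.node 1 (.leaf 0x182) (.leaf 0x183)) (.node 1 (.leaf 0x180) (.leaf 0x181))) (.node 2 (.node 1 (.leaf 0x186) (.leaf 0x187)) (.node 1 (.leaf 0x184) (.leaf 0x185)))) (.node 4 (.node 2 (.node 1 (.leaf 0x18a) (.leaf 0x18b)) (.node 1 (.leaf 0x188) (.leaf 0x189))) (.node 2 (.node 1 (.leaf 0x18e) (.leaf 0x18f)) (.node 1 (.leaf 0x18c) (.leaf 0x18d)))))) (.node 16 (.node 8 (.node 4 (.node 2 (.node 1 (.leaf 0x1ee) (.leaf 0x1ef)) (.node 1 (.leaf 0x1ec) (.leaf 0x1ed))) (.node 2 (.node 1 (.leaf 0x1ea) (.leaf 0x1eb)) (.node 1 (.leaf 0x1e8) (.leaf 0x1e9)))) (.node 4 (.node 2 (.node 1 (.leaf 0x1e6) (.leaf 0x1e7)) (.node 1 (.leaf 0x1e4) (.leaf 0x1e5))) (.node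 2 (.node 1 (.leaf 0x1e2) (.leaf 0x1e3)) (.node 1 (.leaf 0x1e0) (.leaf 0x1e1))))) (.node 8 (.node 4 (.node 2 (.node 1 (.leaf 0x242) (.leaf 0x243)) (.node 1 (.leaf 0x240) (.leaf 0x241))) (.node 2 (.node 1 (.leaf 0x246) (.leaf 0x247)) (.node 1 (.leaf 0x244) (.leaf 0x245)))) (.node 4 (.node 2 (.node 1 (.leaf 0x24a) (.leaf 0x24b)) (.node 1 (.leaf 0x248) (.leaf 0x249))) (.node 2 (.node 1 (.leaf 0x24e) (.leaf 0x24f)) (.node 1 (.leaf 0x24c) (.leaf 0x24d)))))))

def mulP_52 : Tree :=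
  .node 64 (.node 32 (.node 16 (.node 8 (.node 4 (.node 2 (.node 1 (.leaf 0x20e) (.leaf 0x20f)) (.node 1 (.leaf 0x20c) (.leaf 0x20d))) (.node 2 (.node 1 (.leaf 0x20a) (.leaf 0x20b)) (.node 1 (.leaf 0x208) (.leaf 0x209)))) (.node 4 (.node 2 (.node 1 (.leaf 0x206) (.leaf 0x207)) (.node 1 (.leaf 0x204) (.leaf 0x205))) (.node 2 (.node 1 (.leaf 0x202) (.leaf 0x203)) (.node 1 (.leaf 0x200) (.leaf 0x201))))) (.node 8 (.node 4 (.node 2 (.node 1 (.leaf 0x21e) (.leaf 0x21f)) (.node 1 (.leaf 0x21c) (.leaf 0x21d))) (.node 2 (.node 1 (.leaf 0x21a) (.leaf 0x21b)) (.node 1 (.leaf 0x218) (.leaf 0x219)))) (.node 4 (.node 2 (.node 1 (.leaf 0x216) (.leaf 0x217)) (.node 1 (.leaf 0x214) (.leaf 0x215))) (.node 2 (.node 1 (.leaf 0x212) (.leaf 0x213)) (.node 1 (.leaf 0x210) (.leaf 0x211)))))) (.node 16 (.node 8 (.node 4 (.node 2 (.node 1 (.leaf 0x22e) (.leaf 0x22f)) (.node 1 (.leaf 0x22c) (.leaf 0x22d))) (.node 2 (.node 1 (.leaf 0x22a) (.leaf 0x22b)) (.node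 1 (.leaf 0x228) (.leaf 0x229)))) (.node 4 (.node 2 (.node 1 (.leaf 0x226) (.leaf 0x227)) (.node 1 (.leaf 0x224) (.leaf 0x225))) (.node 2 (.node 1 (.leaf 0x222) (.leaf 0x223)) (.node 1 (.leaf 0x220) (.leaf 0x221))))) (.node 8 (.node 4 (.node 2 (.node 1 (.leaf 0x23e) (.leaf 0x23f)) (.node 1 (.leaf 0x23c) (.leaf 0x23d))) (.node 2 (.node 1 (.leaf 0x23a) (.leaf 0x23b)) (.node 1 (.leaf 0x238) (.leaf 0x239)))) (.node 4 (.node 2 (.node 1 (.leaf 0x236) (.leaf 0x237)) (.node 1 (.leaf 0x234) (.leaf 0x235))) (.node 2 (.node 1 (.leaf 0x232) (.leaf 0x233)) (.node 1 (.leaf 0x230) (.leaf 0x231))))))) (.node 32 (.node 16 (.node 8 (.node 4 (.node 2 (.node 1 (.leaf 0x1f2) (.leaf 0x1f3)) (.node 1 (.leaf 0x1f0) (.leaf 0x1f1))) (.node 2 (.node 1 (.leaf 0x1f6) (.leaf 0x1f7)) (.node 1 (.leaf 0x1f4) (.leaf 0x1f5)))) (.node 4 (.node 2 (.node 1 (.leaf 0x1fa) (.leaf 0x1fb)) (.node 1 (.leaf 0x1f8) (.leaf 0x1f9))) (.node 2 (.node 1 (.leaf 0x1fe) (.leaf 0x1ff))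 (.node 1 (.leaf 0x1fc) (.leaf 0x1fd))))) (.node 8 (.node 4 (.node 2 (.node 1 (.leaf 0x1c2) (.leaf 0x1c3)) (.node 1 (.leaf 0x1c0) (.leaf 0x1c1))) (.node 2 (.node 1 (.leaf 0x1c6) (.leaf 0x1c7)) (.node 1 (.leaf 0x1c4) (.leaf 0x1c5)))) (.node 4 (.node 2 (.node 1 (.leaf 0x1ca) (.leaf 0x1cb)) (.node 1 (.leaf 0x1c8) (.leaf 0x1c9))) (.node 2 (.node 1 (.leaf 0x1ce) (.leaf 0x1cf)) (.node 1 (.leaf 0x1cc) (.leaf 0x1cd)))))) (.node 16 (.node 8 (.node 4 (.node 2 (.node 1 (.leaf 0x26e) (.leaf 0x26f)) (.node 1 (.leaf 0x26c) (.leaf 0x26d))) (.node 2 (.node 1 (.leaf 0x26a) (.leaf 0x26b)) (.node 1 (.leaf 0x268) (.leaf 0x269)))) (.node 4 (.node 2 (.node 1 (.leaf 0x266) (.leaf 0x267)) (.node 1 (.leaf 0x264) (.leaf 0x265))) (.node 2 (.node 1 (.leaf 0x262) (.leaf 0x263)) (.node 1 (.leaf 0x260) (.leaf 0x261))))) (.node 8 (.node 4 (.node 2 (.node 1 (.leaf 0x27e) (.leaf 0x27f)) (.node 1 (.leaf 0x27c) (.leaf 0x27d))) (.node 2 (.node 1 (.leaf 0x27a) (.leaf 0x27b))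 (.node 1 (.leaf 0x278) (.leaf 0x279)))) (.node 4 (.node 2 (.node 1 (.leaf 0x276) (.leaf 0x277)) (.node 1 (.leaf 0x274) (.leaf 0x275))) (.node 2 (.node 1 (.leaf 0x272) (.leaf 0x273)) (.node 1 (.leaf 0x270) (.leaf 0x271)))))))

def mulP_53 : Tree :=
  .node 64 (.node 32 (.node 16 (.node 8 (.node 4 (.node 2 (.node 1 (.leaf 0x2ae) (.leaf 0x2af)) (.node 1 (.leaf 0x2ac) (.leaf 0x2ad))) (.node 2 (.node 1 (.leaf 0x2aa) (.leaf 0x2ab)) (.node 1 (.leaf 0x2a8) (.leaf 0x2a9)))) (.node 4 (.node 2 (.node 1 (.leaf 0x2a6) (.leaf 0x2a7)) (.node 1 (.leaf 0x2a4) (.leaf 0x2a5))) (.node 2 (.node 1 (.leaf 0x2a2) (.leaf 0x2a3)) (.node 1 (.leaf 0x2a0) (.leaf 0x2a1))))) (.node 8 (.node 4 (.node 2 (.node 1 (.leaf 0x29e) (.leaf 0x29f)) (.node 1 (.leaf 0x29c) (.leaf 0x29d))) (.node 2 (.node 1 (.leaf 0x29a) (.leaf 0x29b)) (.node 1 (.leaf 0x298) (.leaf 0x299)))) (.node 4 (.node 2 (.node 1 (.leaf 0x296) (.leaf 0x297)) (.node 1 (.leaf 0x294) (.leaf 0x295))) (.node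 2 (.node 1 (.leaf 0x292) (.leaf 0x293)) (.node 1 (.leaf 0x290) (.leaf 0x291)))))) (.node 16 (.node 8 (.node 4 (.node 2 (.node 1 (.leaf 0x28e) (.leaf 0x28f)) (.node 1 (.leaf 0x28c) (.leaf 0x28d))) (.node 2 (.node 1 (.leaf 0x28a) (.leaf 0x28b)) (.node 1 (.leaf 0x288) (.leaf 0x289)))) (.node 4 (.node 2 (.node 1 (.leaf 0x286) (.leaf 0x287)) (.node 1 (.leaf 0x284) (.leaf 0x285))) (.node 2 (.node 1 (.leaf 0x282) (.leaf 0x283)) (.node 1 (.leaf 0x280) (.leaf 0x281))))) (.node 8 (.node 4 (.node 2 (.node 1 (.leaf 0x2de) (.leaf 0x2df)) (.node 1 (.leaf 0x2dc) (.leaf 0x2dd))) (.node 2 (.node 1 (.leaf 0x2da) (.leaf 0x2db)) (.node 1 (.leaf 0x2d8) (.leaf 0x2d9)))) (.node 4 (.node 2 (.node 1 (.leaf 0x2d6) (.leaf 0x2d7)) (.node 1 (.leaf 0x2d4) (.leaf 0x2d5))) (.node 2 (.node 1 (.leaf 0x2d2) (.leaf 0x2d3)) (.node 1 (.leaf 0x2d0) (.leaf 0x2d1))))))) (.node 32 (.node 16 (.node 8 (.node 4 (.node 2 (.node 1 (.leaf 0x2ce) (.leaf 0x2cf)) (.node 1 (.leaf 0x2cc)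 (.leaf 0x2cd))) (.node 2 (.node 1 (.leaf 0x2ca) (.leaf 0x2cb)) (.node 1 (.leaf 0x2c8) (.leaf 0x2c9)))) (.node 4 (.node 2 (.node 1 (.leaf 0x2c6) (.leaf 0x2c7)) (.node 1 (.leaf 0x2c4) (.leaf 0x2c5))) (.node 2 (.node 1 (.leaf 0x2c2) (.leaf 0x2c3)) (.node 1 (.leaf 0x2c0) (.leaf 0x2c1))))) (.node 8 (.node 4 (.node 2 (.node 1 (.leaf 0x2be) (.leaf 0x2bf)) (.node 1 (.leaf 0x2bc) (.leaf 0x2bd))) (.node 2 (.node 1 (.leaf 0x2ba) (.leaf 0x2bb)) (.node 1 (.leaf 0x2b8) (.leaf 0x2b9)))) (.node 4 (.node 2 (.node 1 (.leaf 0x2b6) (.leaf 0x2b7)) (.node 1 (.leaf 0x2b4) (.leaf 0x2b5))) (.node 2 (.node 1 (.leaf 0x2b2) (.leaf 0x2b3)) (.node 1 (.leaf 0x2b0) (.leaf 0x2b1)))))) (.node 16 (.node 8 (.node 4 (.node 2 (.node 1 (.leaf 0x30e) (.leaf 0x30f)) (.node 1 (.leaf 0x30c) (.leaf 0x30d))) (.node 2 (.node 1 (.leaf 0x30a) (.leaf 0x30b)) (.node 1 (.leaf 0x308) (.leaf 0x309)))) (.node 4 (.node 2 (.node 1 (.leaf 0x306) (.leaf 0x307)) (.node 1 (.leaf 0x304) (.leaf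 0x305))) (.node 2 (.node 1 (.leaf 0x302) (.leaf 0x303)) (.node 1 (.leaf 0x300) (.leaf 0x301))))) (.node 8 (.node 4 (.node 2 (.node 1 (.leaf 0x2fe) (.leaf 0x2ff)) (.node 1 (.leaf 0x2fc) (.leaf 0x2fd))) (.node 2 (.node 1 (.leaf 0x2fa) (.leaf 0x2fb)) (.node 1 (.leaf 0x2f8) (.leaf 0x2f9)))) (.node 4 (.node 2 (.node 1 (.leaf 0x2f6) (.leaf 0x2f7)) (.node 1 (.leaf 0x2f4) (.leaf 0x2f5))) (.node 2 (.node 1 (.leaf 0x2f2) (.leaf 0x2f3)) (.node 1 (.leaf 0x2f0) (.leaf 0x2f1)))))))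

def mulP_54 : Tree :=
  .node 64 (.node 32 (.node 16 (.node 8 (.node 4 (.node 2 (.node 1 (.leaf 0x2ee) (.leaf 0x2ef)) (.node 1 (.leaf 0x2ec) (.leaf 0x2ed))) (.node 2 (.node 1 (.leaf 0x2ea) (.leaf 0x2eb)) (.node 1 (.leaf 0x2e8) (.leaf 0x2e9)))) (.node 4 (.node 2 (.node 1 (.leaf 0x2e6) (.leaf 0x2e7)) (.node 1 (.leaf 0x2e4) (.leaf 0x2e5))) (.node 2 (.node 1 (.leaf 0x2e2) (.leaf 0x2e3)) (.node 1 (.leaf 0x2e0) (.leaf 0x2e1))))) (.node 8 (.node 4 (.node 2 (.node 1 (.leaf 0x31e) (.leaf 0x31f)) (.node 1 (.leaf 0x31c) (.leaf 0x31d))) (.node 2 (.node 1 (.leaf 0x31a) (.leaf 0x31b)) (.node 1 (.leaf 0x318) (.leaf 0x319)))) (.node 4 (.node 2 (.node 1 (.leaf 0x316) (.leaf 0x317)) (.node 1 (.leaf 0x314) (.leaf 0x315))) (.node 2 (.node 1 (.leaf 0x312) (.leaf 0x313)) (.node 1 (.leaf 0x310) (.leaf 0x311)))))) (.node 16 (.node 8 (.node 4 (.node 2 (.node 1 (.leaf 0x32e) (.leaf 0x32f)) (.node 1 (.leaf 0x32c) (.leaf 0x32d))) (.node 2 (.node 1 (.leaf 0x32a)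 (.leaf 0x32b)) (.node 1 (.leaf 0x328) (.leaf 0x329)))) (.node 4 (.node 2 (.node 1 (.leaf 0x326) (.leaf 0x327)) (.node 1 (.leaf 0x324) (.leaf 0x325))) (.node 2 (.node 1 (.leaf 0x322) (.leaf 0x323)) (.node 1 (.leaf 0x320) (.leaf 0x321))))) (.node 8 (.node 4 (.node 2 (.node 1 (.leaf 0x35e) (.leaf 0x35f)) (.node 1 (.leaf 0x35c) (.leaf 0x35d))) (.node 2 (.node 1 (.leaf 0x35a) (.leaf 0x35b)) (.node 1 (.leaf 0x358) (.leaf 0x359)))) (.node 4 (.node 2 (.node 1 (.leaf 0x356) (.leaf 0x357)) (.node 1 (.leaf 0x354) (.leaf 0x355))) (.node 2 (.node 1 (.leaf 0x352) (.leaf 0x353)) (.node 1 (.leaf 0x350) (.leaf 0x351))))))) (.node 32 (.node 16 (.node 8 (.node 4 (.node 2 (.node 1 (.leaf 0x34e) (.leaf 0x34f)) (.node 1 (.leaf 0x34c) (.leaf 0x34d))) (.node 2 (.node 1 (.leaf 0x34a) (.leaf 0x34b)) (.node 1 (.leaf 0x348) (.leaf 0x349)))) (.node 4 (.node 2 (.node 1 (.leaf 0x346) (.leaf 0x347)) (.node 1 (.leaf 0x344) (.leaf 0x345))) (.node 2 (.node 1 (.leaf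 0x342) (.leaf 0x343)) (.node 1 (.leaf 0x340) (.leaf 0x341))))) (.node 8 (.node 4 (.node 2 (.node 1 (.leaf 0x33e) (.leaf 0x33f)) (.node 1 (.leaf 0x33c) (.leaf 0x33d))) (.node 2 (.node 1 (.leaf 0x33a) (.leaf 0x33b)) (.node 1 (.leaf 0x338) (.leaf 0x339)))) (.node 4 (.node 2 (.node 1 (.leaf 0x336) (.leaf 0x337)) (.node 1 (.leaf 0x334) (.leaf 0x335))) (.node 2 (.node 1 (.leaf 0x332) (.leaf 0x333)) (.node 1 (.leaf 0x330) (.leaf 0x331)))))) (.node 16 (.node 8 (.node 4 (.node 2 (.node 1 (.leaf 0x36e) (.leaf 0x36f)) (.node 1 (.leaf 0x36c) (.leaf 0x36d))) (.node 2 (.node 1 (.leaf 0x36a) (.leaf 0x36b)) (.node 1 (.leaf 0x368) (.leaf 0x369)))) (.node 4 (.node 2 (.node 1 (.leaf 0x366) (.leaf 0x367)) (.node 1 (.leaf 0x364) (.leaf 0x365))) (.node 2 (.node 1 (.leaf 0x362) (.leaf 0x363)) (.node 1 (.leaf 0x360) (.leaf 0x361))))) (.node 8 (.node 4 (.node 2 (.node 1 (.leaf 0x37e) (.leaf 0x37f)) (.node 1 (.leaf 0x37c) (.leaf 0x37d))) (.node 2 (.node 1 (.leaf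 0x37a) (.leaf 0x37b)) (.node 1 (.leaf 0x378) (.leaf 0x379)))) (.node 4 (.node 2 (.node 1 (.leaf 0x376) (.leaf 0x377)) (.node 1 (.leaf 0x374) (.leaf 0x375))) (.node 2 (.node 1 (.leaf 0x372) (.leaf 0x373)) (.node 1 (.leaf 0x370) (.leaf 0x371)))))))

def mulP_55 : Tree :=
  .node 64 (.node 32 (.node 16 (.node 8 (.node 4 (.node 2 (.node 1 (.leaf 0x82) (.leaf 0x83)) (.node 1 (.leaf 0x81) (.leaf 0x0))) (.node 2 (.node 1 (.leaf 0x86) (.leaf 0x87)) (.node 1 (.leaf 0x84) (.leaf 0x85)))) (.node 4 (.node 2 (.node 1 (.leaf 0x8a) (.leaf 0x8b)) (.node 1 (.leaf 0x88) (.leaf 0x89))) (.node 2 (.node 1 (.leaf 0x8e) (.leaf 0x8f)) (.node 1 (.leaf 0x8c) (.leaf 0x8d))))) (.node 8 (.node 4 (.node 2 (.node 1 (.leaf 0x102) (.leaf 0x103)) (.node 1 (.leaf 0x100) (.leaf 0x101))) (.node 2 (.node 1 (.leaf 0x106) (.leaf 0x107)) (.node 1 (.leaf 0x104) (.leaf 0x105)))) (.node 4 (.node 2 (.node 1 (.leaf 0x10a) (.leaf 0x10b)) (.node 1 (.leaf 0x108) (.leaf 0x109))) (.node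 2 (.node 1 (.leaf 0x10e) (.leaf 0x10f)) (.node 1 (.leaf 0x10c) (.leaf 0x10d)))))) (.node 16 (.node 8 (.node 4 (.node 2 (.node 1 (.leaf 0xc2) (.leaf 0xc3)) (.node 1 (.leaf 0xc0) (.leaf 0xc1))) (.node 2 (.node 1 (.leaf 0xc6) (.leaf 0xc7)) (.node 1 (.leaf 0xc4) (.leaf 0xc5)))) (.node 4 (.node 2 (.node 1 (.leaf 0xca) (.leaf 0xcb)) (.node 1 (.leaf 0xc8) (.leaf 0xc9))) (.node 2 (.node 1 (.leaf 0xce) (.leaf 0xcf)) (.node 1 (.leaf 0xcc) (.leaf 0xcd))))) (.node 8 (.node 4 (.node 2 (.node 1 (.leaf 0x3c2) (.leaf 0x3c3)) (.node 1 (.leaf 0x3c0) (.leaf 0x3c1))) (.node 2 (.node 1 (.leaf 0x3c6) (.leaf 0x3c7)) (.node 1 (.leaf 0x3c4) (.leaf 0x3c5)))) (.node 4 (.node 2 (.node 1 (.leaf 0x3ca) (.leaf 0x3cb)) (.node 1 (.leaf 0x3c8) (.leaf 0x3c9))) (.node 2 (.node 1 (.leaf 0x3ce) (.leaf 0x3cf)) (.node 1 (.leaf 0x3cc) (.leaf 0x3cd))))))) (.node 32 (.node 16 (.node 8 (.node 4 (.node 2 (.node 1 (.leaf 0x3b2) (.leaf 0x3b3)) (.node 1 (.leaf 0x3b0) (.leaf 0x3b1)))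 (.node 2 (.node 1 (.leaf 0x3b6) (.leaf 0x3b7)) (.node 1 (.leaf 0x3b4) (.leaf 0x3b5)))) (.node 4 (.node 2 (.node 1 (.leaf 0x3ba) (.leaf 0x3bb)) (.node 1 (.leaf 0x3b8) (.leaf 0x3b9))) (.node 2 (.node 1 (.leaf 0x3be) (.leaf 0x3bf)) (.node 1 (.leaf 0x3bc) (.leaf 0x3bd))))) (.node 8 (.node 4 (.node 2 (.node 1 (.leaf 0x132) (.leaf 0x133)) (.node 1 (.leaf 0x130) (.leaf 0x131))) (.node 2 (.node 1 (.leaf 0x136) (.leaf 0x137)) (.node 1 (.leaf 0x134) (.leaf 0x135)))) (.node 4 (.node 2 (.node 1 (.leaf 0x13a) (.leaf 0x13b)) (.node 1 (.leaf 0x138) (.leaf 0x139))) (.node 2 (.node 1 (.leaf 0x13e) (.leaf 0x13f)) (.node 1 (.leaf 0x13c) (.leaf 0x13d)))))) (.node 16 (.node 8 (.node 4 (.node 2 (.node 1 (.leaf 0x3f2) (.leaf 0x3f3)) (.node 1 (.leaf 0x3f0) (.leaf 0x3f1))) (.node 2 (.node 1 (.leaf 0x3f6) (.leaf 0x3f7)) (.node 1 (.leaf 0x3f4) (.leaf 0x3f5)))) (.node 4 (.node 2 (.node 1 (.leaf 0x3fa) (.leaf 0x3fb)) (.node 1 (.leaf 0x3f8) (.leaf 0x3f9))) (.node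 2 (.node 1 (.leaf 0x3fe) (.leaf 0x3ff)) (.node 1 (.leaf 0x3fc) (.leaf 0x3fd))))) (.node 8 (.node 4 (.node 2 (.node 1 (.leaf 0x3e2) (.leaf 0x3e3)) (.node 1 (.leaf 0x3e0) (.leaf 0x3e1))) (.node 2 (.node 1 (.leaf 0x3e6) (.leaf 0x3e7)) (.node 1 (.leaf 0x3e4) (.leaf 0x3e5)))) (.node 4 (.node 2 (.node 1 (.leaf 0x3ea) (.leaf 0x3eb)) (.node 1 (.leaf 0x3e8) (.leaf 0x3e9))) (.node 2 (.node 1 (.leaf 0x3ee) (.leaf 0x3ef)) (.node 1 (.leaf 0x3ec) (.leaf 0x3ed)))))))

def mulP_56 : Tree :=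
  .node 64 (.node 32 (.node 16 (.node 8 (.node 4 (.node 2 (.node 1 (.leaf 0x1a) (.leaf 0xc4)) (.node 1 (.leaf 0xc5) (.leaf 0xc7))) (.node 2 (.node 1 (.leaf 0xc6) (.leaf 0xc0)) (.node 1 (.leaf 0xc1) (.leaf 0xc3)))) (.node 4 (.node 2 (.node 1 (.leaf 0xc2) (.leaf 0xcc)) (.node 1 (.leaf 0xcd) (.leaf 0xcf))) (.node 2 (.node 1 (.leaf 0xce) (.leaf 0xc8)) (.node 1 (.leaf 0xc9) (.leaf 0xcb))))) (.node 8 (.node 4 (.node 2 (.node 1 (.leaf 0xca) (.leaf 0x88)) (.node 1 (.leaf 0x89) (.leaf 0x8b))) (.node 2 (.node 1 (.leaf 0x8a) (.leaf 0x8c)) (.node 1 (.leaf 0x8d) (.leaf 0x8f)))) (.node 4 (.node 2 (.node 1 (.leaf 0x8e) (.leaf 0x81)) (.node 1 (.leaf 0x0) (.leaf 0x83))) (.node 2 (.node 1 (.leaf 0x82) (.leaf 0x84)) (.node 1 (.leaf 0x85) (.leaf 0x87)))))) (.node 16 (.node 8 (.node 4 (.node 2 (.node 1 (.leaf 0x86) (.leaf 0x3a4)) (.node 1 (.leaf 0x3a5) (.leaf 0x3a7))) (.node 2 (.node 1 (.leaf 0x3a6) (.leaf 0x3a0)) (.node 1 (.leaf 0x3a1) (.leaf 0x3a3))))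 (.node 4 (.node 2 (.node 1 (.leaf 0x3a2) (.leaf 0x3ac)) (.node 1 (.leaf 0x3ad) (.leaf 0x3af))) (.node 2 (.node 1 (.leaf 0x3ae) (.leaf 0x3a8)) (.node 1 (.leaf 0x3a9) (.leaf 0x3ab))))) (.node 8 (.node 4 (.node 2 (.node 1 (.leaf 0x3aa) (.leaf 0x134)) (.node 1 (.leaf 0x135) (.leaf 0x137))) (.node 2 (.node 1 (.leaf 0x136) (.leaf 0x130)) (.node 1 (.leaf 0x131) (.leaf 0x133)))) (.node 4 (.node 2 (.node 1 (.leaf 0x132) (.leaf 0x13c)) (.node 1 (.leaf 0x13d) (.leaf 0x13f))) (.node 2 (.node 1 (.leaf 0x13e) (.leaf 0x138)) (.node 1 (.leaf 0x139) (.leaf 0x13b))))))) (.node 32 (.node 16 (.node 8 (.node 4 (.node 2 (.node 1 (.leaf 0x13a) (.leaf 0x178)) (.node 1 (.leaf 0x179) (.leaf 0x17b))) (.node 2 (.node 1 (.leaf 0x17a) (.leaf 0x17c)) (.node 1 (.leaf 0x17d) (.leaf 0x17f)))) (.node 4 (.node 2 (.node 1 (.leaf 0x17e) (.leaf 0x170)) (.node 1 (.leaf 0x171) (.leaf 0x173))) (.node 2 (.node 1 (.leaf 0x172) (.leaf 0x174)) (.node 1 (.leaf 0x175) (.leaf 0x177)))))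 (.node 8 (.node 4 (.node 2 (.node 1 (.leaf 0x176) (.leaf 0x388)) (.node 1 (.leaf 0x389) (.leaf 0x38b))) (.node 2 (.node 1 (.leaf 0x38a) (.leaf 0x38c)) (.node 1 (.leaf 0x38d) (.leaf 0x38f)))) (.node 4 (.node 2 (.node 1 (.leaf 0x38e) (.leaf 0x380)) (.node 1 (.leaf 0x381) (.leaf 0x383))) (.node 2 (.node 1 (.leaf 0x382) (.leaf 0x384)) (.node 1 (.leaf 0x385) (.leaf 0x387)))))) (.node 16 (.node 8 (.node 4 (.node 2 (.node 1 (.leaf 0x386) (.leaf 0x108)) (.node 1 (.leaf 0x109) (.leaf 0x10b))) (.node 2 (.node 1 (.leaf 0x10a) (.leaf 0x10c)) (.node 1 (.leaf 0x10d) (.leaf 0x10f)))) (.node 4 (.node 2 (.node 1 (.leaf 0x10e) (.leaf 0x100)) (.node 1 (.leaf 0x101) (.leaf 0x103))) (.node 2 (.node 1 (.leaf 0x102) (.leaf 0x104)) (.node 1 (.leaf 0x105) (.leaf 0x107))))) (.node 8 (.node 4 (.node 2 (.node 1 (.leaf 0x106) (.leaf 0x164)) (.node 1 (.leaf 0x165) (.leaf 0x167))) (.node 2 (.node 1 (.leaf 0x166) (.leaf 0x160)) (.node 1 (.leaf 0x161) (.leaf 0x163))))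 (.node 4 (.node 2 (.node 1 (.leaf 0x162) (.leaf 0x16c)) (.node 1 (.leaf 0x16d) (.leaf 0x16f))) (.node 2 (.node 1 (.leaf 0x16e) (.leaf 0x168)) (.node 1 (.leaf 0x169) (.leaf 0x16b)))))))

def mulP_57 : Tree :=
  .node 64 (.node 32 (.node 16 (.node 8 (.node 4 (.node 2 (.node 1 (.leaf 0x16a) (.leaf 0x19)) (.node 1 (.leaf 0x1c) (.leaf 0x1b))) (.node 2 (.node 1 (.leaf 0x1d) (.leaf 0x1e)) (.node 1 (.leaf 0x20) (.leaf 0x1f)))) (.node 4 (.node 2 (.node 1 (.leaf 0x11) (.leaf 0x12)) (.node 1 (.leaf 0x14) (.leaf 0x13))) (.node 2 (.node 1 (.leaf 0x15) (.leaf 0x16)) (.node 1 (.leaf 0x18) (.leaf 0x17))))) (.node 8 (.node 4 (.node 2 (.node 1 (.leaf 0x3d4) (.leaf 0x3d5)) (.node 1 (.leaf 0x3d7) (.leaf 0x3d6))) (.node 2 (.node 1 (.leaf 0x3d0) (.leaf 0x3d1)) (.node 1 (.leaf 0x3d3) (.leaf 0x3d2)))) (.node 4 (.node 2 (.node 1 (.leaf 0x3dc) (.leaf 0x3dd)) (.node 1 (.leaf 0x3df) (.leaf 0x3de))) (.node 2 (.node 1 (.leaf 0x3d8) (.leaf 0x3d9)) (.node 1 (.leaf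 0x3db) (.leaf 0x3da)))))) (.node 16 (.node 8 (.node 4 (.node 2 (.node 1 (.leaf 0x3b8) (.leaf 0x3b9)) (.node 1 (.leaf 0x3bb) (.leaf 0x3ba))) (.node 2 (.node 1 (.leaf 0x3bc) (.leaf 0x3bd)) (.node 1 (.leaf 0x3bf) (.leaf 0x3be)))) (.node 4 (.node 2 (.node 1 (.leaf 0x3b0) (.leaf 0x3b1)) (.node 1 (.leaf 0x3b3) (.leaf 0x3b2))) (.node 2 (.node 1 (.leaf 0x3b4) (.leaf 0x3b5)) (.node 1 (.leaf 0x3b7) (.leaf 0x3b6))))) (.node 8 (.node 4 (.node 2 (.node 1 (.leaf 0x148) (.leaf 0x149)) (.node 1 (.leaf 0x14b) (.leaf 0x14a))) (.node 2 (.node 1 (.leaf 0x14c) (.leaf 0x14d)) (.node 1 (.leaf 0x14f) (.leaf 0x14e)))) (.node 4 (.node 2 (.node 1 (.leaf 0x140) (.leaf 0x141)) (.node 1 (.leaf 0x143) (.leaf 0x142))) (.node 2 (.node 1 (.leaf 0x144) (.leaf 0x145)) (.node 1 (.leaf 0x147) (.leaf 0x146))))))) (.node 32 (.node 16 (.node 8 (.node 4 (.node 2 (.node 1 (.leaf 0x5) (.leaf 0x6)) (.node 1 (.leaf 0x8) (.leaf 0x7))) (.node 2 (.node 1 (.leaf 0x1) (.leaf 0x2))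 (.node 1 (.leaf 0x4) (.leaf 0x3)))) (.node 4 (.node 2 (.node 1 (.leaf 0xd) (.leaf 0xe)) (.node 1 (.leaf 0x10) (.leaf 0xf))) (.node 2 (.node 1 (.leaf 0x9) (.leaf 0xa)) (.node 1 (.leaf 0xc) (.leaf 0xb))))) (.node 8 (.node 4 (.node 2 (.node 1 (.leaf 0x398) (.leaf 0x399)) (.node 1 (.leaf 0x39b) (.leaf 0x39a))) (.node 2 (.node 1 (.leaf 0x39c) (.leaf 0x39d)) (.node 1 (.leaf 0x39f) (.leaf 0x39e)))) (.node 4 (.node 2 (.node 1 (.leaf 0x390) (.leaf 0x391)) (.node 1 (.leaf 0x393) (.leaf 0x392))) (.node 2 (.node 1 (.leaf 0x394) (.leaf 0x395)) (.node 1 (.leaf 0x397) (.leaf 0x396)))))) (.node 16 (.node 8 (.node 4 (.node 2 (.node 1 (.leaf 0x3e4) (.leaf 0x3e5)) (.node 1 (.leaf 0x3e7) (.leaf 0x3e6))) (.node 2 (.node 1 (.leaf 0x3e0) (.leaf 0x3e1)) (.node 1 (.leaf 0x3e3) (.leaf 0x3e2)))) (.node 4 (.node 2 (.node 1 (.leaf 0x3ec) (.leaf 0x3ed)) (.node 1 (.leaf 0x3ef) (.leaf 0x3ee))) (.node 2 (.node 1 (.leaf 0x3e8) (.leaf 0x3e9)) (.node 1 (.leaf 0x3eb)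 (.leaf 0x3ea))))) (.node 8 (.node 4 (.node 2 (.node 1 (.leaf 0x114) (.leaf 0x115)) (.node 1 (.leaf 0x117) (.leaf 0x116))) (.node 2 (.node 1 (.leaf 0x110) (.leaf 0x111)) (.node 1 (.leaf 0x113) (.leaf 0x112)))) (.node 4 (.node 2 (.node 1 (.leaf 0x11c) (.leaf 0x11d)) (.node 1 (.leaf 0x11f) (.leaf 0x11e))) (.node 2 (.node 1 (.leaf 0x118) (.leaf 0x119)) (.node 1 (.leaf 0x11b) (.leaf 0x11a)))))))

def mulP_58 : Tree :=
  .node 64 (.node 32 (.node 16 (.node 8 (.node 4 (.node 2 (.node 1 (.leaf 0x69) (.leaf 0x6a)) (.node 1 (.leaf 0x6c) (.leaf 0x6b))) (.node 2 (.node 1 (.leaf 0x6d) (.leaf 0x6e)) (.node 1 (.leaf 0x70) (.leaf 0x6f)))) (.node 4 (.node 2 (.node 1 (.leaf 0x61) (.leaf 0x62)) (.node 1 (.leaf 0x64) (.leaf 0x63))) (.node 2 (.node 1 (.leaf 0x65) (.leaf 0x66)) (.node 1 (.leaf 0x68) (.leaf 0x67))))) (.node 8 (.node 4 (.node 2 (.node 1 (.leaf 0xf4) (.leaf 0xf5)) (.node 1 (.leaf 0xf7) (.leaf 0xf6))) (.node 2 (.node 1 (.leaf 0xf0) (.leaf 0xf1))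 (.node 1 (.leaf 0xf3) (.leaf 0xf2)))) (.node 4 (.node 2 (.node 1 (.leaf 0xfc) (.leaf 0xfd)) (.node 1 (.leaf 0xff) (.leaf 0xfe))) (.node 2 (.node 1 (.leaf 0xf8) (.leaf 0xf9)) (.node 1 (.leaf 0xfb) (.leaf 0xfa)))))) (.node 16 (.node 8 (.node 4 (.node 2 (.node 1 (.leaf 0x3f8) (.leaf 0x3f9)) (.node 1 (.leaf 0x3fb) (.leaf 0x3fa))) (.node 2 (.node 1 (.leaf 0x3fc) (.leaf 0x3fd)) (.node 1 (.leaf 0x3ff) (.leaf 0x3fe)))) (.node 4 (.node 2 (.node 1 (.leaf 0x3f0) (.leaf 0x3f1)) (.node 1 (.leaf 0x3f3) (.leaf 0x3f2))) (.node 2 (.node 1 (.leaf 0x3f4) (.leaf 0x3f5)) (.node 1 (.leaf 0x3f7) (.leaf 0x3f6))))) (.node 8 (.node 4 (.node 2 (.node 1 (.leaf 0x35) (.leaf 0x36)) (.node 1 (.leaf 0x38) (.leaf 0x37))) (.node 2 (.node 1 (.leaf 0x31) (.leaf 0x32)) (.node 1 (.leaf 0x34) (.leaf 0x33)))) (.node 4 (.node 2 (.node 1 (.leaf 0x3d) (.leaf 0x3e)) (.node 1 (.leaf 0x40) (.leaf 0x3f))) (.node 2 (.node 1 (.leaf 0x39) (.leaf 0x3a)) (.node 1 (.leaf 0x3c) (.leaf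 0x3b))))))) (.node 32 (.node 16 (.node 8 (.node 4 (.node 2 (.node 1 (.leaf 0xb8) (.leaf 0xb9)) (.node 1 (.leaf 0xbb) (.leaf 0xba))) (.node 2 (.node 1 (.leaf 0xbc) (.leaf 0xbd)) (.node 1 (.leaf 0xbf) (.leaf 0xbe)))) (.node 4 (.node 2 (.node 1 (.leaf 0xb0) (.leaf 0xb1)) (.node 1 (.leaf 0xb3) (.leaf 0xb2))) (.node 2 (.node 1 (.leaf 0xb4) (.leaf 0xb5)) (.node 1 (.leaf 0xb7) (.leaf 0xb6))))) (.node 8 (.node 4 (.node 2 (.node 1 (.leaf 0x3c4) (.leaf 0x3c5)) (.node 1 (.leaf 0x3c7) (.leaf 0x3c6))) (.node 2 (.node 1 (.leaf 0x3c0) (.leaf 0x3c1)) (.node 1 (.leaf 0x3c3) (.leaf 0x3c2)))) (.node 4 (.node 2 (.node 1 (.leaf 0x3cc) (.leaf 0x3cd)) (.node 1 (.leaf 0x3cf) (.leaf 0x3ce))) (.node 2 (.node 1 (.leaf 0x3c8) (.leaf 0x3c9)) (.node 1 (.leaf 0x3cb) (.leaf 0x3ca)))))) (.node 16 (.node 8 (.node 4 (.node 2 (.node 1 (.leaf 0x75) (.leaf 0x76)) (.node 1 (.leaf 0x78) (.leaf 0x77))) (.node 2 (.node 1 (.leaf 0x71) (.leaf 0x72)) (.node 1 (.leaf 0x74) (.leaf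 0x73)))) (.node 4 (.node 2 (.node 1 (.leaf 0x7d) (.leaf 0x7e)) (.node 1 (.leaf 0x80) (.leaf 0x7f))) (.node 2 (.node 1 (.leaf 0x79) (.leaf 0x7a)) (.node 1 (.leaf 0x7c) (.leaf 0x7b))))) (.node 8 (.node 4 (.node 2 (.node 1 (.leaf 0x49) (.leaf 0x4a)) (.node 1 (.leaf 0x4c) (.leaf 0x4b))) (.node 2 (.node 1 (.leaf 0x4d) (.leaf 0x4e)) (.node 1 (.leaf 0x50) (.leaf 0x4f)))) (.node 4 (.node 2 (.node 1 (.leaf 0x41) (.leaf 0x42)) (.node 1 (.leaf 0x44) (.leaf 0x43))) (.node 2 (.node 1 (.leaf 0x45) (.leaf 0x46)) (.node 1 (.leaf 0x48) (.leaf 0x47)))))))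

def mulP_59 : Tree :=
  .node 64 (.node 32 (.node 16 (.node 8 (.node 4 (.node 2 (.node 1 (.leaf 0x2ac) (.leaf 0x2ad)) (.node 1 (.leaf 0x2af) (.leaf 0x2ae))) (.node 2 (.node 1 (.leaf 0x2a8) (.leaf 0x2a9)) (.node 1 (.leaf 0x2ab) (.leaf 0x2aa)))) (.node 4 (.node 2 (.node 1 (.leaf 0x2a4) (.leaf 0x2a5)) (.node 1 (.leaf 0x2a7) (.leaf 0x2a6))) (.node 2 (.node 1 (.leaf 0x2a0) (.leaf 0x2a1)) (.node 1 (.leaf 0x2a3) (.leaf 0x2a2))))) (.node 8 (.node 4 (.node 2 (.node 1 (.leaf 0x30c) (.leaf 0x30d)) (.node 1 (.leaf 0x30f) (.leaf 0x30e))) (.node 2 (.node 1 (.leaf 0x308) (.leaf 0x309)) (.node 1 (.leaf 0x30b) (.leaf 0x30a)))) (.node 4 (.node 2 (.node 1 (.leaf 0x304) (.leaf 0x305)) (.node 1 (.leaf 0x307) (.leaf 0x306))) (.node 2 (.node 1 (.leaf 0x300) (.leaf 0x301)) (.node 1 (.leaf 0x303) (.leaf 0x302)))))) (.node 16 (.node 8 (.node 4 (.node 2 (.node 1 (.leaf 0x368) (.leaf 0x369)) (.node 1 (.leaf 0x36b) (.leaf 0x36a))) (.node 2 (.node 1 (.leaf 0x36c)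 (.leaf 0x36d)) (.node 1 (.leaf 0x36f) (.leaf 0x36e)))) (.node 4 (.node 2 (.node 1 (.leaf 0x360) (.leaf 0x361)) (.node 1 (.leaf 0x363) (.leaf 0x362))) (.node 2 (.node 1 (.leaf 0x364) (.leaf 0x365)) (.node 1 (.leaf 0x367) (.leaf 0x366))))) (.node 8 (.node 4 (.node 2 (.node 1 (.leaf 0x33c) (.leaf 0x33d)) (.node 1 (.leaf 0x33f) (.leaf 0x33e))) (.node 2 (.node 1 (.leaf 0x338) (.leaf 0x339)) (.node 1 (.leaf 0x33b) (.leaf 0x33a)))) (.node 4 (.node 2 (.node 1 (.leaf 0x334) (.leaf 0x335)) (.node 1 (.leaf 0x337) (.leaf 0x336))) (.node 2 (.node 1 (.leaf 0x330) (.leaf 0x331)) (.node 1 (.leaf 0x333) (.leaf 0x332))))))) (.node 32 (.node 16 (.node 8 (.node 4 (.node 2 (.node 1 (.leaf 0x2dc) (.leaf 0x2dd)) (.node 1 (.leaf 0x2df) (.leaf 0x2de))) (.node 2 (.node 1 (.leaf 0x2d8) (.leaf 0x2d9)) (.node 1 (.leaf 0x2db) (.leaf 0x2da)))) (.node 4 (.node 2 (.node 1 (.leaf 0x2d4) (.leaf 0x2d5)) (.node 1 (.leaf 0x2d7) (.leaf 0x2d6))) (.node 2 (.node 1 (.leaf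 0x2d0) (.leaf 0x2d1)) (.node 1 (.leaf 0x2d3) (.leaf 0x2d2))))) (.node 8 (.node 4 (.node 2 (.node 1 (.leaf 0x2bc) (.leaf 0x2bd)) (.node 1 (.leaf 0x2bf) (.leaf 0x2be))) (.node 2 (.node 1 (.leaf 0x2b8) (.leaf 0x2b9)) (.node 1 (.leaf 0x2bb) (.leaf 0x2ba)))) (.node 4 (.node 2 (.node 1 (.leaf 0x2b4) (.leaf 0x2b5)) (.node 1 (.leaf 0x2b7) (.leaf 0x2b6))) (.node 2 (.node 1 (.leaf 0x2b0) (.leaf 0x2b1)) (.node 1 (.leaf 0x2b3) (.leaf 0x2b2)))))) (.node 16 (.node 8 (.node 4 (.node 2 (.node 1 (.leaf 0x294) (.leaf 0x295)) (.node 1 (.leaf 0x297) (.leaf 0x296))) (.node 2 (.node 1 (.leaf 0x290) (.leaf 0x291)) (.node 1 (.leaf 0x293) (.leaf 0x292)))) (.node 4 (.node 2 (.node 1 (.leaf 0x29c) (.leaf 0x29d)) (.node 1 (.leaf 0x29f) (.leaf 0x29e))) (.node 2 (.node 1 (.leaf 0x298) (.leaf 0x299)) (.node 1 (.leaf 0x29b) (.leaf 0x29a))))) (.node 8 (.node 4 (.node 2 (.node 1 (.leaf 0x35c) (.leaf 0x35d)) (.node 1 (.leaf 0x35f) (.leaf 0x35e))) (.node 2 (.node 1 (.leaf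 0x358) (.leaf 0x359)) (.node 1 (.leaf 0x35b) (.leaf 0x35a)))) (.node 4 (.node 2 (.node 1 (.leaf 0x354) (.leaf 0x355)) (.node 1 (.leaf 0x357) (.leaf 0x356))) (.node 2 (.node 1 (.leaf 0x350) (.leaf 0x351)) (.node 1 (.leaf 0x353) (.leaf 0x352)))))))

def mulP_60 : Tree :=
  .node 64 (.node 32 (.node 16 (.node 8 (.node 4 (.node 2 (.node 1 (.leaf 0x318) (.leaf 0x319)) (.node 1 (.leaf 0x31b) (.leaf 0x31a))) (.node 2 (.node 1 (.leaf 0x31c) (.leaf 0x31d)) (.node 1 (.leaf 0x31f) (.leaf 0x31e)))) (.node 4 (.node 2 (.node 1 (.leaf 0x310) (.leaf 0x311)) (.node 1 (.leaf 0x313) (.leaf 0x312))) (.node 2 (.node 1 (.leaf 0x314) (.leaf 0x315)) (.node 1 (.leaf 0x317) (.leaf 0x316))))) (.node 8 (.node 4 (.node 2 (.node 1 (.leaf 0x2c4) (.leaf 0x2c5)) (.node 1 (.leaf 0x2c7) (.leaf 0x2c6))) (.node 2 (.node 1 (.leaf 0x2c0) (.leaf 0x2c1)) (.node 1 (.leaf 0x2c3) (.leaf 0x2c2)))) (.node 4 (.node 2 (.node 1 (.leaf 0x2cc) (.leaf 0x2cd)) (.node 1 (.leaf 0x2cf)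 (.leaf 0x2ce))) (.node 2 (.node 1 (.leaf 0x2c8) (.leaf 0x2c9)) (.node 1 (.leaf 0x2cb) (.leaf 0x2ca)))))) (.node 16 (.node 8 (.node 4 (.node 2 (.node 1 (.leaf 0x328) (.leaf 0x329)) (.node 1 (.leaf 0x32b) (.leaf 0x32a))) (.node 2 (.node 1 (.leaf 0x32c) (.leaf 0x32d)) (.node 1 (.leaf 0x32f) (.leaf 0x32e)))) (.node 4 (.node 2 (.node 1 (.leaf 0x320) (.leaf 0x321)) (.node 1 (.leaf 0x323) (.leaf 0x322))) (.node 2 (.node 1 (.leaf 0x324) (.leaf 0x325)) (.node 1 (.leaf 0x327) (.leaf 0x326))))) (.node 8 (.node 4 (.node 2 (.node 1 (.leaf 0x344) (.leaf 0x345)) (.node 1 (.leaf 0x347) (.leaf 0x346))) (.node 2 (.node 1 (.leaf 0x340) (.leaf 0x341)) (.node 1 (.leaf 0x343) (.leaf 0x342)))) (.node 4 (.node 2 (.node 1 (.leaf 0x34c) (.leaf 0x34d)) (.node 1 (.leaf 0x34f) (.leaf 0x34e))) (.node 2 (.node 1 (.leaf 0x348) (.leaf 0x349)) (.node 1 (.leaf 0x34b) (.leaf 0x34a))))))) (.node 32 (.node 16 (.node 8 (.node 4 (.node 2 (.node 1 (.leaf 0x2ec) (.leaf 0x2ed))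 (.node 1 (.leaf 0x2ef) (.leaf 0x2ee))) (.node 2 (.node 1 (.leaf 0x2e8) (.leaf 0x2e9)) (.node 1 (.leaf 0x2eb) (.leaf 0x2ea)))) (.node 4 (.node 2 (.node 1 (.leaf 0x2e4) (.leaf 0x2e5)) (.node 1 (.leaf 0x2e7) (.leaf 0x2e6))) (.node 2 (.node 1 (.leaf 0x2e0) (.leaf 0x2e1)) (.node 1 (.leaf 0x2e3) (.leaf 0x2e2))))) (.node 8 (.node 4 (.node 2 (.node 1 (.leaf 0x28c) (.leaf 0x28d)) (.node 1 (.leaf 0x28f) (.leaf 0x28e))) (.node 2 (.node 1 (.leaf 0x288) (.leaf 0x289)) (.node 1 (.leaf 0x28b) (.leaf 0x28a)))) (.node 4 (.node 2 (.node 1 (.leaf 0x284) (.leaf 0x285)) (.node 1 (.leaf 0x287) (.leaf 0x286))) (.node 2 (.node 1 (.leaf 0x280) (.leaf 0x281)) (.node 1 (.leaf 0x283) (.leaf 0x282)))))) (.node 16 (.node 8 (.node 4 (.node 2 (.node 1 (.leaf 0x2f4) (.leaf 0x2f5)) (.node 1 (.leaf 0x2f7) (.leaf 0x2f6))) (.node 2 (.node 1 (.leaf 0x2f0) (.leaf 0x2f1)) (.node 1 (.leaf 0x2f3) (.leaf 0x2f2)))) (.node 4 (.node 2 (.node 1 (.leaf 0x2fc) (.leaf 0x2fd)) (.node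 1 (.leaf 0x2ff) (.leaf 0x2fe))) (.node 2 (.node 1 (.leaf 0x2f8) (.leaf 0x2f9)) (.node 1 (.leaf 0x2fb) (.leaf 0x2fa))))) (.node 8 (.node 4 (.node 2 (.node 1 (.leaf 0x378) (.leaf 0x379)) (.node 1 (.leaf 0x37b) (.leaf 0x37a))) (.node 2 (.node 1 (.leaf 0x37c) (.leaf 0x37d)) (.node 1 (.leaf 0x37f) (.leaf 0x37e)))) (.node 4 (.node 2 (.node 1 (.leaf 0x370) (.leaf 0x371)) (.node 1 (.leaf 0x373) (.leaf 0x372))) (.node 2 (.node 1 (.leaf 0x374) (.leaf 0x375)) (.node 1 (.leaf 0x377) (.leaf 0x376)))))))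

def mulP_61 : Tree :=
  .node 64 (.node 32 (.node 16 (.node 8 (.node 4 (.node 2 (.node 1 (.leaf 0x25c) (.leaf 0x25d)) (.node 1 (.leaf 0x25f) (.leaf 0x25e))) (.node 2 (.node 1 (.leaf 0x258) (.leaf 0x259)) (.node 1 (.leaf 0x25b) (.leaf 0x25a)))) (.node 4 (.node 2 (.node 1 (.leaf 0x254) (.leaf 0x255)) (.node 1 (.leaf 0x257) (.leaf 0x256))) (.node 2 (.node 1 (.leaf 0x250) (.leaf 0x251)) (.node 1 (.leaf 0x253) (.leaf 0x252))))) (.node 8 (.node 4 (.node 2 (.node 1 (.leaf 0x1e4) (.leaf 0x1e5)) (.node 1 (.leaf 0x1e7) (.leaf 0x1e6))) (.node 2 (.node 1 (.leaf 0x1e0) (.leaf 0x1e1)) (.node 1 (.leaf 0x1e3) (.leaf 0x1e2)))) (.node 4 (.node 2 (.node 1 (.leaf 0x1ec) (.leaf 0x1ed)) (.node 1 (.leaf 0x1ef) (.leaf 0x1ee))) (.node 2 (.node 1 (.leaf 0x1e8) (.leaf 0x1e9)) (.node 1 (.leaf 0x1eb) (.leaf 0x1ea)))))) (.node 16 (.node 8 (.node 4 (.node 2 (.node 1 (.leaf 0x18c) (.leaf 0x18d)) (.node 1 (.leaf 0x18f) (.leaf 0x18e))) (.node 2 (.node 1 (.leaf 0x188)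 (.leaf 0x189)) (.node 1 (.leaf 0x18b) (.leaf 0x18a)))) (.node 4 (.node 2 (.node 1 (.leaf 0x184) (.leaf 0x185)) (.node 1 (.leaf 0x187) (.leaf 0x186))) (.node 2 (.node 1 (.leaf 0x180) (.leaf 0x181)) (.node 1 (.leaf 0x183) (.leaf 0x182))))) (.node 8 (.node 4 (.node 2 (.node 1 (.leaf 0x1dc) (.leaf 0x1dd)) (.node 1 (.leaf 0x1df) (.leaf 0x1de))) (.node 2 (.node 1 (.leaf 0x1d8) (.leaf 0x1d9)) (.node 1 (.leaf 0x1db) (.leaf 0x1da)))) (.node 4 (.node 2 (.node 1 (.leaf 0x1d4) (.leaf 0x1d5)) (.node 1 (.leaf 0x1d7) (.leaf 0x1d6))) (.node 2 (.node 1 (.leaf 0x1d0) (.leaf 0x1d1)) (.node 1 (.leaf 0x1d3) (.leaf 0x1d2))))))) (.node 32 (.node 16 (.node 8 (.node 4 (.node 2 (.node 1 (.leaf 0x214) (.leaf 0x215)) (.node 1 (.leaf 0x217) (.leaf 0x216))) (.node 2 (.node 1 (.leaf 0x210) (.leaf 0x211)) (.node 1 (.leaf 0x213) (.leaf 0x212)))) (.node 4 (.node 2 (.node 1 (.leaf 0x21c) (.leaf 0x21d)) (.node 1 (.leaf 0x21f) (.leaf 0x21e))) (.node 2 (.node 1 (.leaf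 0x218) (.leaf 0x219)) (.node 1 (.leaf 0x21b) (.leaf 0x21a))))) (.node 8 (.node 4 (.node 2 (.node 1 (.leaf 0x1cc) (.leaf 0x1cd)) (.node 1 (.leaf 0x1cf) (.leaf 0x1ce))) (.node 2 (.node 1 (.leaf 0x1c8) (.leaf 0x1c9)) (.node 1 (.leaf 0x1cb) (.leaf 0x1ca)))) (.node 4 (.node 2 (.node 1 (.leaf 0x1c4) (.leaf 0x1c5)) (.node 1 (.leaf 0x1c7) (.leaf 0x1c6))) (.node 2 (.node 1 (.leaf 0x1c0) (.leaf 0x1c1)) (.node 1 (.leaf 0x1c3) (.leaf 0x1c2)))))) (.node 16 (.node 8 (.node 4 (.node 2 (.node 1 (.leaf 0x24c) (.leaf 0x24d)) (.node 1 (.leaf 0x24f) (.leaf 0x24e))) (.node 2 (.node 1 (.leaf 0x248) (.leaf 0x249)) (.node 1 (.leaf 0x24b) (.leaf 0x24a)))) (.node 4 (.node 2 (.node 1 (.leaf 0x244) (.leaf 0x245)) (.node 1 (.leaf 0x247) (.leaf 0x246))) (.node 2 (.node 1 (.leaf 0x240) (.leaf 0x241)) (.node 1 (.leaf 0x243) (.leaf 0x242))))) (.node 8 (.node 4 (.node 2 (.node 1 (.leaf 0x264) (.leaf 0x265)) (.node 1 (.leaf 0x267) (.leaf 0x266))) (.node 2 (.node 1 (.leaf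 0x260) (.leaf 0x261)) (.node 1 (.leaf 0x263) (.leaf 0x262)))) (.node 4 (.node 2 (.node 1 (.leaf 0x26c) (.leaf 0x26d)) (.node 1 (.leaf 0x26f) (.leaf 0x26e))) (.node 2 (.node 1 (.leaf 0x268) (.leaf 0x269)) (.node 1 (.leaf 0x26b) (.leaf 0x26a)))))))

def mulP_62 : Tree :=
  .node 64 (.node 32 (.node 16 (.node 8 (.node 4 (.node 2 (.node 1 (.leaf 0x19c) (.leaf 0x19d)) (.node 1 (.leaf 0x19f) (.leaf 0x19e))) (.node 2 (.node 1 (.leaf 0x198) (.leaf 0x199)) (.node 1 (.leaf 0x19b) (.leaf 0x19a)))) (.node 4 (.node 2 (.node 1 (.leaf 0x194) (.leaf 0x195)) (.node 1 (.leaf 0x197) (.leaf 0x196))) (.node 2 (.node 1 (.leaf 0x190) (.leaf 0x191)) (.node 1 (.leaf 0x193) (.leaf 0x192))))) (.node 8 (.node 4 (.node 2 (.node 1 (.leaf 0x208) (.leaf 0x209)) (.node 1 (.leaf 0x20b) (.leaf 0x20a))) (.node 2 (.node 1 (.leaf 0x20c) (.leaf 0x20d)) (.node 1 (.leaf 0x20f) (.leaf 0x20e)))) (.node 4 (.node 2 (.node 1 (.leaf 0x200) (.leaf 0x201)) (.node 1 (.leaf 0x203)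 (.leaf 0x202))) (.node 2 (.node 1 (.leaf 0x204) (.leaf 0x205)) (.node 1 (.leaf 0x207) (.leaf 0x206)))))) (.node 16 (.node 8 (.node 4 (.node 2 (.node 1 (.leaf 0x228) (.leaf 0x229)) (.node 1 (.leaf 0x22b) (.leaf 0x22a))) (.node 2 (.node 1 (.leaf 0x22c) (.leaf 0x22d)) (.node 1 (.leaf 0x22f) (.leaf 0x22e)))) (.node 4 (.node 2 (.node 1 (.leaf 0x220) (.leaf 0x221)) (.node 1 (.leaf 0x223) (.leaf 0x222))) (.node 2 (.node 1 (.leaf 0x224) (.leaf 0x225)) (.node 1 (.leaf 0x227) (.leaf 0x226))))) (.node 8 (.node 4 (.node 2 (.node 1 (.leaf 0x1bc) (.leaf 0x1bd)) (.node 1 (.leaf 0x1bf) (.leaf 0x1be))) (.node 2 (.node 1 (.leaf 0x1b8) (.leaf 0x1b9)) (.node 1 (.leaf 0x1bb) (.leaf 0x1ba)))) (.node 4 (.node 2 (.node 1 (.leaf 0x1b4) (.leaf 0x1b5)) (.node 1 (.leaf 0x1b7) (.leaf 0x1b6))) (.node 2 (.node 1 (.leaf 0x1b0) (.leaf 0x1b1)) (.node 1 (.leaf 0x1b3) (.leaf 0x1b2))))))) (.node 32 (.node 16 (.node 8 (.node 4 (.node 2 (.node 1 (.leaf 0x234) (.leaf 0x235))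 (.node 1 (.leaf 0x237) (.leaf 0x236))) (.node 2 (.node 1 (.leaf 0x230) (.leaf 0x231)) (.node 1 (.leaf 0x233) (.leaf 0x232)))) (.node 4 (.node 2 (.node 1 (.leaf 0x23c) (.leaf 0x23d)) (.node 1 (.leaf 0x23f) (.leaf 0x23e))) (.node 2 (.node 1 (.leaf 0x238) (.leaf 0x239)) (.node 1 (.leaf 0x23b) (.leaf 0x23a))))) (.node 8 (.node 4 (.node 2 (.node 1 (.leaf 0x1fc) (.leaf 0x1fd)) (.node 1 (.leaf 0x1ff) (.leaf 0x1fe))) (.node 2 (.node 1 (.leaf 0x1f8) (.leaf 0x1f9)) (.node 1 (.leaf 0x1fb) (.leaf 0x1fa)))) (.node 4 (.node 2 (.node 1 (.leaf 0x1f4) (.leaf 0x1f5)) (.node 1 (.leaf 0x1f7) (.leaf 0x1f6))) (.node 2 (.node 1 (.leaf 0x1f0) (.leaf 0x1f1)) (.node 1 (.leaf 0x1f3) (.leaf 0x1f2)))))) (.node 16 (.node 8 (.node 4 (.node 2 (.node 1 (.leaf 0x1a8) (.leaf 0x1a9)) (.node 1 (.leaf 0x1ab) (.leaf 0x1aa))) (.node 2 (.node 1 (.leaf 0x1ac) (.leaf 0x1ad)) (.node 1 (.leaf 0x1af) (.leaf 0x1ae)))) (.node 4 (.node 2 (.node 1 (.leaf 0x1a0) (.leaf 0x1a1)) (.node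 1 (.leaf 0x1a3) (.leaf 0x1a2))) (.node 2 (.node 1 (.leaf 0x1a4) (.leaf 0x1a5)) (.node 1 (.leaf 0x1a7) (.leaf 0x1a6))))) (.node 8 (.node 4 (.node 2 (.node 1 (.leaf 0x278) (.leaf 0x279)) (.node 1 (.leaf 0x27b) (.leaf 0x27a))) (.node 2 (.node 1 (.leaf 0x27c) (.leaf 0x27d)) (.node 1 (.leaf 0x27f) (.leaf 0x27e)))) (.node 4 (.node 2 (.node 1 (.leaf 0x270) (.leaf 0x271)) (.node 1 (.leaf 0x273) (.leaf 0x272))) (.node 2 (.node 1 (.leaf 0x274) (.leaf 0x275)) (.node 1 (.leaf 0x277) (.leaf 0x276)))))))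

def mulP_63 : Tree :=
  .node 64 (.node 32 (.node 16 (.node 8 (.node 4 (.node 2 (.node 1 (.leaf 0x59) (.leaf 0x5a)) (.node 1 (.leaf 0x5c) (.leaf 0x5b))) (.node 2 (.node 1 (.leaf 0x5d) (.leaf 0x5e)) (.node 1 (.leaf 0x60) (.leaf 0x5f)))) (.node 4 (.node 2 (.node 1 (.leaf 0x51) (.leaf 0x52)) (.node 1 (.leaf 0x54) (.leaf 0x53))) (.node 2 (.node 1 (.leaf 0x55) (.leaf 0x56)) (.node 1 (.leaf 0x58) (.leaf 0x57))))) (.node 8 (.node 4 (.node 2 (.node 1 (.leaf 0xd8) (.leaf 0xd9)) (.node 1 (.leaf 0xdb) (.leaf 0xda))) (.node 2 (.node 1 (.leaf 0xdc) (.leaf 0xdd)) (.node 1 (.leaf 0xdf) (.leaf 0xde)))) (.node 4 (.node 2 (.node 1 (.leaf 0xd0) (.leaf 0xd1)) (.node 1 (.leaf 0xd3) (.leaf 0xd2))) (.node 2 (.node 1 (.leaf 0xd4) (.leaf 0xd5)) (.node 1 (.leaf 0xd7) (.leaf 0xd6)))))) (.node 16 (.node 8 (.node 4 (.node 2 (.node 1 (.leaf 0x25) (.leaf 0x26)) (.node 1 (.leaf 0x28) (.leaf 0x27))) (.node 2 (.node 1 (.leaf 0x21) (.leaf 0x22)) (.node 1 (.leaf 0x24)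 (.leaf 0x23)))) (.node 4 (.node 2 (.node 1 (.leaf 0x2d) (.leaf 0x2e)) (.node 1 (.leaf 0x30) (.leaf 0x2f))) (.node 2 (.node 1 (.leaf 0x29) (.leaf 0x2a)) (.node 1 (.leaf 0x2c) (.leaf 0x2b))))) (.node 8 (.node 4 (.node 2 (.node 1 (.leaf 0xa8) (.leaf 0xa9)) (.node 1 (.leaf 0xab) (.leaf 0xaa))) (.node 2 (.node 1 (.leaf 0xac) (.leaf 0xad)) (.node 1 (.leaf 0xaf) (.leaf 0xae)))) (.node 4 (.node 2 (.node 1 (.leaf 0xa0) (.leaf 0xa1)) (.node 1 (.leaf 0xa3) (.leaf 0xa2))) (.node 2 (.node 1 (.leaf 0xa4) (.leaf 0xa5)) (.node 1 (.leaf 0xa7) (.leaf 0xa6))))))) (.node 32 (.node 16 (.node 8 (.node 4 (.node 2 (.node 1 (.leaf 0x154) (.leaf 0x155)) (.node 1 (.leaf 0x157) (.leaf 0x156))) (.node 2 (.node 1 (.leaf 0x150) (.leaf 0x151)) (.node 1 (.leaf 0x153) (.leaf 0x152)))) (.node 4 (.node 2 (.node 1 (.leaf 0x15c) (.leaf 0x15d)) (.node 1 (.leaf 0x15f) (.leaf 0x15e))) (.node 2 (.node 1 (.leaf 0x158) (.leaf 0x159)) (.node 1 (.leaf 0x15b) (.leaf 0x15a)))))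 (.node 8 (.node 4 (.node 2 (.node 1 (.leaf 0x94) (.leaf 0x95)) (.node 1 (.leaf 0x97) (.leaf 0x96))) (.node 2 (.node 1 (.leaf 0x90) (.leaf 0x91)) (.node 1 (.leaf 0x93) (.leaf 0x92)))) (.node 4 (.node 2 (.node 1 (.leaf 0x9c) (.leaf 0x9d)) (.node 1 (.leaf 0x9f) (.leaf 0x9e))) (.node 2 (.node 1 (.leaf 0x98) (.leaf 0x99)) (.node 1 (.leaf 0x9b) (.leaf 0x9a)))))) (.node 16 (.node 8 (.node 4 (.node 2 (.node 1 (.leaf 0xe4) (.leaf 0xe5)) (.node 1 (.leaf 0xe7) (.leaf 0xe6))) (.node 2 (.node 1 (.leaf 0xe0) (.leaf 0xe1)) (.node 1 (.leaf 0xe3) (.leaf 0xe2)))) (.node 4 (.node 2 (.node 1 (.leaf 0xec) (.leaf 0xed)) (.node 1 (.leaf 0xef) (.leaf 0xee))) (.node 2 (.node 1 (.leaf 0xe8) (.leaf 0xe9)) (.node 1 (.leaf 0xeb) (.leaf 0xea))))) (.node 8 (.node 4 (.node 2 (.node 1 (.leaf 0x128) (.leaf 0x129)) (.node 1 (.leaf 0x12b) (.leaf 0x12a))) (.node 2 (.node 1 (.leaf 0x12c) (.leaf 0x12d)) (.node 1 (.leaf 0x12f) (.leaf 0x12e)))) (.node 4 (.node 2 (.node 1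 (.leaf 0x120) (.leaf 0x121)) (.node 1 (.leaf 0x123) (.leaf 0x122))) (.node 2 (.node 1 (.leaf 0x124) (.leaf 0x125)) (.node 1 (.leaf 0x127) (.leaf 0x126)))))))

def mulP : Tree :=
  .node 4096 (.node 2048 (.node 1024 (.node 512 (.node 256 (.node 128 (mulP_0) (mulP_1)) (.node 128 (mulP_2) (mulP_3))) (.node 256 (.node 128 (mulP_4) (mulP_5)) (.node 128 (mulP_6) (mulP_7)))) (.node 512 (.node 256 (.node 128 (mulP_8) (mulP_9)) (.node 128 (mulP_10) (mulP_11))) (.node 256 (.node 128 (mulP_12) (mulP_13)) (.node 128 (mulP_14) (mulP_15))))) (.node 1024 (.node 512 (.node 256 (.node 128 (mulP_16) (mulP_17)) (.node 128 (mulP_18) (mulP_19))) (.node 256 (.node 128 (mulP_20) (mulP_21)) (.node 128 (mulP_22) (mulP_23)))) (.node 512 (.node 256 (.node 128 (mulP_24) (mulP_25)) (.node 128 (mulP_26) (mulP_27))) (.node 256 (.node 128 (mulP_28) (mulP_29)) (.node 128 (mulP_30) (mulP_31)))))) (.node 2048 (.node 1024 (.node 512 (.node 256 (.node 128 (mulP_32) (mulP_33))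 (.node 128 (mulP_34) (mulP_35))) (.node 256 (.node 128 (mulP_36) (mulP_37)) (.node 128 (mulP_38) (mulP_39)))) (.node 512 (.node 256 (.node 128 (mulP_40) (mulP_41)) (.node 128 (mulP_42) (mulP_43))) (.node 256 (.node 128 (mulP_44) (mulP_45)) (.node 128 (mulP_46) (mulP_47))))) (.node 1024 (.node 512 (.node 256 (.node 128 (mulP_48) (mulP_49)) (.node 128 (mulP_50) (mulP_51))) (.node 256 (.node 128 (mulP_52) (mulP_53)) (.node 128 (mulP_54) (mulP_55)))) (.node 512 (.node 256 (.node 128 (mulP_56) (mulP_57)) (.node 128 (mulP_58) (mulP_59))) (.node 256 (.node 128 (mulP_60) (mulP_61)) (.node 128 (mulP_62) (mulP_63))))))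

def orbATree_0 : Tree :=
  .node 21 (.node 10 (.node 5 (.node 2 (.node 1 (.leaf 0x728672) (.leaf 0x7428672)) (.node 1 (.leaf 0x72872) (.node 1 (.leaf 0x2782) (.leaf 0x827582)))) (.node 2 (.node 1 (.leaf 0x28672) (.leaf 0x582)) (.node 1 (.leaf 0x42) (.node 1 (.leaf 0x5842) (.leaf 0x2))))) (.node 5 (.node 2 (.node 1 (.leaf 0x2842) (.leaf 0x27672)) (.node 1 (.leaf 0x742872) (.node 1 (.leaf 0x8427582) (.leaf 0x42782)))) (.node 3 (.node 1 (.leaf 0x428672) (.node 1 (.leaf 0x2872) (.leaf 0x82782))) (.node 1 (.leaf 0x27582) (.node 1 (.leaf 0x52842) (.leaf 0x0)))))) (.node 10 (.node 5 (.node 2 (.node 1 (.leaf 0x842) (.leaf 0x7672)) (.node 1 (.leaf 0x82) (.node 1 (.leaf 0x76742) (.leaf 0x672)))) (.node 2 (.node 1 (.leaf 0x6742) (.leaf 0x2742)) (.node 1 (.leaf 0x42872) (.node 1 (.leaf 0x427582) (.leaf 0x842782))))) (.node 5 (.node 2 (.node 1 (.leaf 0x62742) (.leaf 0x742)) (.node 1 (.leaf 0x72) (.node 1 (.leaf 0x72842) (.leaf 0x782)))) (.node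 3 (.node 1 (.leaf 0x872) (.node 1 (.leaf 0x82742) (.leaf 0x752842))) (.node 1 (.leaf 0x862742) (.node 1 (.leaf 0x8672) (.leaf 0x7582))))))

def orbATree : Tree :=
  orbATree_0

def orbA (i : ℕ) : List ℕ := decode 1000 (orbATree.get i)

def orbETree_0 : Tree :=
  .node 64 (.node 32 (.node 16 (.node 8 (.node 4 (.node 2 (.node 1 (.leaf 0x92329) (.leaf 0x69769)) (.node 1 (.leaf 0x9329) (.leaf 0x629719))) (.node 2 (.node 1 (.leaf 0x695719) (.leaf 0x519329)) (.node 1 (.leaf 0x1979729) (.leaf 0x19329)))) (.node 4 (.node 2 (.node 1 (.leaf 0x96329) (.leaf 0x936519)) (.node 1 (.leaf 0x936969) (.leaf 0x239))) (.node 2 (.node 1 (.leaf 0x3239) (.leaf 0x27519)) (.node 1 (.leaf 0x7239) (.leaf 0x292329))))) (.node 8 (.node 4 (.node 2 (.node 1 (.leaf 0x0) (.leaf 0x919319)) (.node 1 (.leaf 0x29719) (.leaf 0x329))) (.node 2 (.node 1 (.leaf 0x729) (.leaf 0x29)) (.node 1 (.leaf 0x7329) (.leaf 0x1519)))) (.node 4 (.node 2 (.node 1 (.leaf 0x93239) (.leaf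 0x969219)) (.node 1 (.leaf 0x921969) (.leaf 0x239239))) (.node 2 (.node 1 (.leaf 0x393239) (.leaf 0x39239)) (.node 1 (.leaf 0x2329) (.leaf 0x519)))))) (.node 16 (.node 8 (.node 4 (.node 2 (.node 1 (.leaf 0x6739) (.leaf 0x7629)) (.node 1 (.leaf 0x9) (.leaf 0x79679))) (.node 2 (.node 1 (.leaf 0x9239) (.leaf 0x39)) (.node 1 (.leaf 0x1969) (.leaf 0x51969)))) (.node 4 (.node 2 (.node 1 (.leaf 0x5319) (.leaf 0x6719)) (.node 1 (.leaf 0x5769) (.leaf 0x69219))) (.node 2 (.node 1 (.leaf 0x51919) (.leaf 0x21969)) (.node 1 (.leaf 0x29329) (.leaf 0x329329))))) (.node 8 (.node 4 (.node 2 (.node 1 (.leaf 0x5219) (.leaf 0x19629)) (.node 1 (.leaf 0x21919) (.leaf 0x79729))) (.node 2 (.node 1 (.leaf 0x579729) (.leaf 0x319629)) (.node 1 (.leaf 0x69639) (.leaf 0x6279)))) (.node 4 (.node 2 (.node 1 (.leaf 0x7369) (.leaf 0x19)) (.node 1 (.leaf 0x51979) (.leaf 0x9719629))) (.node 2 (.node 1 (.leaf 0x9519) (.leaf 0x67969)) (.node 1 (.leaf 0x19739) (.leaf 0x1979)))))))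 (.node 32 (.node 16 (.node 8 (.node 4 (.node 2 (.node 1 (.leaf 0x219) (.leaf 0x2319)) (.node 1 (.leaf 0x3679) (.leaf 0x3219))) (.node 2 (.node 1 (.leaf 0x769) (.leaf 0x319)) (.node 1 (.leaf 0x56719) (.leaf 0x9769)))) (.node 4 (.node 2 (.node 1 (.leaf 0x29369) (.leaf 0x97239)) (.node 1 (.leaf 0x29629) (.leaf 0x739219))) (.node 2 (.node 1 (.leaf 0x927519) (.leaf 0x2969)) (.node 1 (.leaf 0x697329) (.leaf 0x67919))))) (.node 8 (.node 4 (.node 2 (.node 1 (.leaf 0x319239) (.leaf 0x92739)) (.node 1 (.leaf 0x219329) (.leaf 0x69329))) (.node 2 (.node 1 (.leaf 0x29319) (.leaf 0x95769)) (.node 1 (.leaf 0x793629) (.leaf 0x1919)))) (.node 4 (.node 2 (.node 1 (.leaf 0x639) (.leaf 0x7697629)) (.node 1 (.leaf 0x39519) (.leaf 0x69729))) (.node 2 (.node 1 (.leaf 0x96279) (.leaf 0x536919)) (.node 1 (.leaf 0x56919) (.leaf 0x579619)))))) (.node 16 (.node 8 (.node 4 (.node 2 (.node 1 (.leaf 0x96739) (.leaf 0x36919)) (.node 1 (.leaf 0x2769) (.leaf 0x76979)))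 (.node 2 (.node 1 (.leaf 0x19239) (.leaf 0x629319)) (.node 1 (.leaf 0x3219329) (.leaf 0x679)))) (.node 4 (.node 2 (.node 1 (.leaf 0x567919) (.leaf 0x9279)) (.node 1 (.leaf 0x2319239) (.leaf 0x295679))) (.node 2 (.node 1 (.leaf 0x239219) (.leaf 0x36979)) (.node 1 (.leaf 0x29519) (.leaf 0x19769))))) (.node 8 (.node 4 (.node 2 (.node 1 (.leaf 0x1979219) (.leaf 0x36519)) (.node 1 (.leaf 0x579219) (.leaf 0x797629))) (.node 2 (.node 1 (.leaf 0x9739) (.leaf 0x9619)) (.node 1 (.leaf 0x6519) (.leaf 0x61919)))) (.node 4 (.node 2 (.node 1 (.leaf 0x195679) (.leaf 0x56979)) (.node 1 (.leaf 0x93629) (.leaf 0x796739))) (.node 2 (.node 1 (.leaf 0x6329) (.leaf 0x79219)) (.node 1 (.leaf 0x3927519) (.leaf 0x979)))))))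

def orbETree_1 : Tree :=
  .node 64 (.node 32 (.node 16 (.node 8 (.node 4 (.node 2 (.node 1 (.leaf 0x19679) (.leaf 0x63919)) (.node 1 (.leaf 0x29219) (.leaf 0x975219))) (.node 2 (.node 1 (.leaf 0x9629) (.leaf 0x79769)) (.node 1 (.leaf 0x329319) (.leaf 0x39629)))) (.node 4 (.node 2 (.node 1 (.leaf 0x629329) (.leaf 0x2919)) (.node 1 (.leaf 0x395769) (.leaf 0x72979))) (.node 2 (.node 1 (.leaf 0x972919) (.leaf 0x57979)) (.node 1 (.leaf 0x397629) (.leaf 0x95219))))) (.node 8 (.node 4 (.node 2 (.node 1 (.leaf 0x69629) (.leaf 0x39619)) (.node 1 (.leaf 0x31919) (.leaf 0x396739))) (.node 2 (.node 1 (.leaf 0x696329) (.leaf 0x5679)) (.node 1 (.leaf 0x1975219) (.leaf 0x57619)))) (.node 4 (.node 2 (.node 1 (.leaf 0x95319) (.leaf 0x6729)) (.node 1 (.leaf 0x1927519) (.leaf 0x7619))) (.node 2 (.node 1 (.leaf 0x979219) (.leaf 0x619)) (.node 1 (.leaf 0x15719) (.leaf 0x621919)))))) (.node 16 (.node 8 (.node 4 (.node 2 (.node 1 (.leaf 0x9739219) (.leaf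 0x19319)) (.node 1 (.leaf 0x739619) (.leaf 0x6919))) (.node 2 (.node 1 (.leaf 0x927979) (.leaf 0x919)) (.node 1 (.leaf 0x639319) (.leaf 0x795619)))) (.node 4 (.node 2 (.node 1 (.leaf 0x196739) (.leaf 0x71519)) (.node 1 (.leaf 0x729219) (.leaf 0x39279))) (.node 2 (.node 1 (.leaf 0x519239) (.leaf 0x57969)) (.node 1 (.leaf 0x9219329) (.leaf 0x2936519))))) (.node 8 (.node 4 (.node 2 (.node 1 (.leaf 0x7639) (.leaf 0x969639)) (.node 1 (.leaf 0x5619) (.leaf 0x67979))) (.node 2 (.node 1 (.leaf 0x69679) (.leaf 0x961519)) (.node 1 (.leaf 0x6979) (.leaf 0x279219)))) (.node 4 (.node 2 (.node 1 (.leaf 0x79629) (.leaf 0x29739)) (.node 1 (.leaf 0x369319) (.leaf 0x9369))) (.node 2 (.node 1 (.leaf 0x76969) (.leaf 0x6219)) (.node 1 (.leaf 0x39369) (.leaf 0x967919))))))) (.node 32 (.node 16 (.node 8 (.node 4 (.node 2 (.node 1 (.leaf 0x36969) (.leaf 0x19729)) (.node 1 (.leaf 0x751919) (.leaf 0x195769))) (.node 2 (.node 1 (.leaf 0x3969) (.leaf 0x76919))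 (.node 1 (.leaf 0x969) (.leaf 0x2979)))) (.node 4 (.node 2 (.node 1 (.leaf 0x7969) (.leaf 0x72919)) (.node 1 (.leaf 0x79739) (.leaf 0x97629))) (.node 2 (.node 1 (.leaf 0x63969) (.leaf 0x297629)) (.node 1 (.leaf 0x193279) (.leaf 0x3296329))))) (.node 8 (.node 4 (.node 2 (.node 1 (.leaf 0x9679) (.leaf 0x919219)) (.node 1 (.leaf 0x29639) (.leaf 0x79619))) (.node 2 (.node 1 (.leaf 0x95619) (.leaf 0x693279)) (.node 1 (.leaf 0x95679) (.leaf 0x79369)))) (.node 4 (.node 2 (.node 1 (.leaf 0x27969) (.leaf 0x792369)) (.node 1 (.leaf 0x296329) (.leaf 0x569319))) (.node 2 (.node 1 (.leaf 0x976919) (.leaf 0x79239)) (.node 1 (.leaf 0x19639) (.leaf 0x57919)))))) (.node 16 (.node 8 (.node 4 (.node 2 (.node 1 (.leaf 0x697629) (.leaf 0x6239)) (.node 1 (.leaf 0x9319239) (.leaf 0x3919))) (.node 2 (.node 1 (.leaf 0x97969) (.leaf 0x3693279)) (.node 1 (.leaf 0x739239) (.leaf 0x9695719)))) (.node 4 (.node 2 (.node 1 (.leaf 0x65319) (.leaf 0x7519)) (.node 1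 (.leaf 0x629) (.leaf 0x619739))) (.node 2 (.node 1 (.leaf 0x9795619) (.leaf 0x69319)) (.node 1 (.leaf 0x971519) (.leaf 0x576919))))) (.node 8 (.node 4 (.node 2 (.node 1 (.leaf 0x71919) (.leaf 0x79639)) (.node 1 (.leaf 0x2739) (.leaf 0x965319))) (.node 2 (.node 1 (.leaf 0x6969) (.leaf 0x7979)) (.node 1 (.leaf 0x9219) (.leaf 0x192369)))) (.node 4 (.node 2 (.node 1 (.leaf 0x96979) (.leaf 0x39319)) (.node 1 (.leaf 0x93279) (.leaf 0x197239))) (.node 2 (.node 1 (.leaf 0x96239) (.leaf 0x19219)) (.node 1 (.leaf 0x731919) (.leaf 0x793279)))))))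

def orbETree_2 : Tree :=
  .node 29 (.node 14 (.node 7 (.node 3 (.node 1 (.leaf 0x739) (.node 1 (.leaf 0x9319) (.leaf 0x7969319))) (.node 2 (.node 1 (.leaf 0x7692369) (.leaf 0x79)) (.node 1 (.leaf 0x69739) (.leaf 0x1969319)))) (.node 3 (.node 1 (.leaf 0x7919) (.node 1 (.leaf 0x963919) (.leaf 0x72969))) (.node 2 (.node 1 (.leaf 0x97369) (.leaf 0x39219)) (.node 1 (.leaf 0x969319) (.leaf 0x692369))))) (.node 7 (.node 3 (.node 1 (.leaf 0x393279) (.node 1 (.leaf 0x15619) (.leaf 0x369))) (.node 2 (.node 1 (.leaf 0x719) (.leaf 0x197629)) (.node 1 (.leaf 0x2369) (.leaf 0x69)))) (.node 4 (.node 2 (.node 1 (.leaf 0x7319) (.leaf 0x796239)) (.node 1 (.leaf 0x75219) (.leaf 0x651919))) (.node 2 (.node 1 (.leaf 0x292369) (.leaf 0x73919)) (.node 1 (.leaf 0x61519) (.leaf 0x3629)))))) (.node 15 (.node 7 (.node 3 (.node 1 (.leaf 0x5719) (.node 1 (.leaf 0x2196329) (.leaf 0x7197629))) (.node 2 (.node 1 (.leaf 0x979729) (.leaf 0x196329)) (.node 1 (.leaf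 0x569719) (.leaf 0x1936519)))) (.node 4 (.node 2 (.node 1 (.leaf 0x6979219) (.leaf 0x69719)) (.node 1 (.leaf 0x9639) (.leaf 0x56969))) (.node 2 (.node 1 (.leaf 0x62919) (.leaf 0x29279)) (.node 1 (.leaf 0x92369) (.leaf 0x9729))))) (.node 7 (.node 3 (.node 1 (.leaf 0x397329) (.node 1 (.leaf 0x279) (.leaf 0x39729))) (.node 2 (.node 1 (.leaf 0x97329) (.leaf 0x692329)) (.node 1 (.leaf 0x9719) (.leaf 0x3279)))) (.node 4 (.node 2 (.node 1 (.leaf 0x793239) (.leaf 0x719629)) (.node 1 (.leaf 0x27919) (.leaf 0x527919))) (.node 2 (.node 1 (.leaf 0x27979) (.leaf 0x95719)) (.node 1 (.leaf 0x979739) (.leaf 0x969629))))))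

def orbETree : Tree :=
  .node 128 (orbETree_0) (.node 128 (orbETree_1) (orbETree_2))

def orbE (i : ℕ) : List ℕ := decode 1000 (orbETree.get i)

def classATree_0 : Tree :=
  .node 64 (.node 32 (.node 16 (.node 8 (.node 4 (.node 2 (.node 1 (.leaf 0x7346341234643432) (.leaf 0x7534634234643432)) (.node 1 (.leaf 0x41234743432) (.leaf 0x634341234643432))) (.node 2 (.node 1 (.leaf 0x623476432) (.leaf 0x23423475432)) (.node 1 (.leaf 0x341234743432) (.leaf 0x7123432)))) (.node 4 (.node 2 (.node 1 (.leaf 0x654734234643432) (.leaf 0x46434234743432)) (.node 1 (.leaf 0x43423464342346423432) (.leaf 0x53423474342347423432))) (.node 2 (.node 1 (.leaf 0x7623434523434723432) (.leaf 0x2343475432)) (.node 1 (.leaf 0x653434234643432) (.leaf 0x4674634234723432))))) (.node 8 (.node 4 (.node 2 (.node 1 (.leaf 0x7623434234534723432) (.leaf 0x67423475234234723432)) (.node 1 (.leaf 0x67423472345234723432) (.leaf 0x75423467432))) (.node 2 (.node 1 (.leaf 0x62347643452347643432)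 (.leaf 0x6534342346423432)) (.node 1 (.leaf 0x7434654234623432) (.leaf 0x465434754234723432)))) (.node 4 (.node 2 (.node 1 (.leaf 0x546746341234643432) (.leaf 0x476347542347123432)) (.node 1 (.leaf 0x65476434234743432) (.leaf 0x4347454234723432))) (.node 2 (.node 1 (.leaf 0x643434234643432) (.leaf 0x64123476432)) (.node 1 (.leaf 0x464123423475432) (.leaf 0x62347643423476453432)))))) (.node 16 (.node 8 (.node 4 (.node 2 (.node 1 (.leaf 0x74123467432) (.leaf 0x434234634346123432)) (.node 1 (.leaf 0x4674634234643432) (.leaf 0x463476452343423432))) (.node 2 (.node 1 (.leaf 0x4346234346423432) (.leaf 0x75434234743432)) (.node 1 (.leaf 0x543476452343423432) (.leaf 0x46347542347123432)))) (.node 4 (.node 2 (.node 1 (.leaf 0x54347542347123432) (.leaf 0x63453423464123432)) (.node 1 (.leaf 0x65423476432) (.leaf 0x546423423475432))) (.node 2 (.node 1 (.leaf 0x74341234743432) (.leaf 0x453467452343423432)) (.node 1 (.leaf 0x6423473423465432) (.leaf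 0x543461234346423432))))) (.node 8 (.node 4 (.node 2 (.node 1 (.leaf 0x34123474342347423432) (.leaf 0x34623473434234623432)) (.node 1 (.leaf 0x346341234643432) (.leaf 0x534634234643432))) (.node 2 (.node 1 (.leaf 0x612343452343423465432) (.leaf 0x612343423453423465432)) (.node 1 (.leaf 0x641234643432) (.leaf 0x6341234643432)))) (.node 4 (.node 2 (.node 1 (.leaf 0x123432) (.leaf 0x647434234643432)) (.node 1 (.leaf 0x746434234743432) (.leaf 0x743423464342346423432))) (.node 2 (.node 1 (.leaf 0x643423474342347423432) (.leaf 0x467342347123432)) (.node 1 (.leaf 0x623434523434723432) (.leaf 0x12343475432))))))) (.node 32 (.node 16 (.node 8 (.node 4 (.node 2 (.node 1 (.leaf 0x476341234723432) (.leaf 0x74674634234723432)) (.node 1 (.leaf 0x123423475432) (.leaf 0x6123476432))) (.node 2 (.node 1 (.leaf 0x6734342346423432) (.leaf 0x64746434234743432)) (.node 1 (.leaf 0x74347454234723432) (.leaf 0x7643434234643432)))) (.node 4 (.node 2 (.node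 1 (.leaf 0x623434234534723432) (.leaf 0x4123464743423467432)) (.node 1 (.leaf 0x64523472342347123432) (.leaf 0x64346543423463432))) (.node 2 (.node 1 (.leaf 0x434623473434623432) (.leaf 0x43474543423473432)) (.node 1 (.leaf 0x674674341234743432) (.leaf 0x4746347542347123432))))) (.node 8 (.node 4 (.node 2 (.node 1 (.leaf 0x65423475234234723432) (.leaf 0x4341234743432)) (.node 1 (.leaf 0x43464542346423432) (.leaf 0x3423462343423463432))) (.node 2 (.node 1 (.leaf 0x5434234743432) (.leaf 0x54346541234623432)) (.node 1 (.leaf 0x5423467432) (.leaf 0x4123467432)))) (.node 4 (.node 2 (.node 1 (.leaf 0x76423473423465432) (.leaf 0x43475463423463432)) (.node 1 (.leaf 0x434654234623432) (.leaf 0x67453434234643432))) (.node 2 (.node 1 (.leaf 0x74346234346423432) (.leaf 0x746347542347123432)) (.node 1 (.leaf 0x764123476432) (.leaf 0x123434723465432)))))) (.node 16 (.node 8 (.node 4 (.node 2 (.node 1 (.leaf 0x523434723465432) (.leaf 0x67423476432))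 (.node 1 (.leaf 0x74674634234643432) (.leaf 0x7463476452343423432))) (.node 2 (.node 1 (.leaf 0x734123474342347423432) (.leaf 0x634123464342346423432)) (.node 1 (.leaf 0x12343423453423475432) (.leaf 0x12343452343423475432)))) (.node 4 (.node 2 (.node 1 (.leaf 0x4234634723465432) (.leaf 0x452343423475432)) (.node 1 (.leaf 0x4623453423475432) (.leaf 0x12346434723465432))) (.node 2 (.node 1 (.leaf 0x67423423423475432) (.leaf 0x5472343423467432)) (.node 1 (.leaf 0x34674234234623432) (.leaf 0x523473432))))) (.node 8 (.node 4 (.node 2 (.node 1 (.leaf 0x674634234643432) (.leaf 0x67423432)) (.node 1 (.leaf 0x52347343423467432) (.leaf 0x6347542347123432))) (.node 2 (.node 1 (.leaf 0x3476453423432) (.leaf 0x346743423432)) (.node 1 (.leaf 0x34746453423463432) (.leaf 0x764347454234723432)))) (.node 4 (.node 2 (.node 1 (.leaf 0x734674234234623432) (.leaf 0x5234743432)) (.node 1 (.leaf 0x654234234234753432) (.leaf 0x76347542347123432))) (.node 2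 (.node 1 (.leaf 0x546434234643432) (.leaf 0x65423432)) (.node 1 (.leaf 0x3476453423463432) (.leaf 0x64347454234723432)))))))

def classATree_1 : Tree :=
  .node 64 (.node 32 (.node 16 (.node 8 (.node 4 (.node 2 (.node 1 (.leaf 0x5346543423432) (.leaf 0x6347543423432)) (.node 1 (.leaf 0x674341234743432) (.leaf 0x547423432))) (.node 2 (.node 1 (.leaf 0x6423473432) (.leaf 0x634754347123432)) (.node 1 (.leaf 0x5347643423463432) (.leaf 0x64346234346423432)))) (.node 4 (.node 2 (.node 1 (.leaf 0x3464543423432) (.leaf 0x63475463423463432)) (.node 1 (.leaf 0x73467434234623432) (.leaf 0x654341234743432))) (.node 2 (.node 1 (.leaf 0x54723432) (.leaf 0x5423463432)) (.node 1 (.leaf 0x6453476434123432) (.leaf 0x5347643423432))))) (.node 8 (.node 4 (.node 2 (.node 1 (.leaf 0x63474543423473432) (.leaf 0x3467434234623432)) (.node 1 (.leaf 0x53474643423463432) (.leaf 0x764346234346423432))) (.node 2 (.node 1 (.leaf 0x4654723423465432) (.leaf 0x54723423465432))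 (.node 1 (.leaf 0x547423423465432) (.leaf 0x34634523434623432)))) (.node 4 (.node 2 (.node 1 (.leaf 0x34234634723465432) (.leaf 0x3423453423475432)) (.node 1 (.leaf 0x3423453423476432) (.leaf 0x74643423473432))) (.node 2 (.node 1 (.leaf 0x6534234634234623432) (.leaf 0x534234734123463432)) (.node 1 (.leaf 0x6547543423463432) (.leaf 0x74643423432)))))) (.node 16 (.node 8 (.node 4 (.node 2 (.node 1 (.leaf 0x64543423463432) (.leaf 0x5342347345234723432)) (.node 1 (.leaf 0x7534674342347423432) (.leaf 0x34342342347423432))) (.node 2 (.node 1 (.leaf 0x6474543423463432) (.leaf 0x4643423432)) (.node 1 (.leaf 0x67453423463432) (.leaf 0x4643423473432)))) (.node 4 (.node 2 (.node 1 (.leaf 0x534674342347423432) (.leaf 0x6734234634234623432)) (.node 1 (.leaf 0x346743473423463432) (.leaf 0x75342347345234723432))) (.node 2 (.node 1 (.leaf 0x234342342347423432) (.leaf 0x34234534123476432)) (.node 1 (.leaf 0x53423432) (.leaf 0x64743423463432))))) (.node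 8 (.node 4 (.node 2 (.node 1 (.leaf 0x53423473432) (.leaf 0x53423473423465432)) (.node 1 (.leaf 0x53423473423463432) (.leaf 0x7643423463432))) (.node 2 (.node 1 (.leaf 0x634753434234623432) (.leaf 0x5342347342347123432)) (.node 1 (.leaf 0x534234734234723432) (.leaf 0x653423463432)))) (.node 4 (.node 2 (.node 1 (.leaf 0x7534234734234723432) (.leaf 0x753423432)) (.node 1 (.leaf 0x65473423463432) (.leaf 0x534764734234643432))) (.node 2 (.node 1 (.leaf 0x643423463432) (.leaf 0x7634753434234623432)) (.node 1 (.leaf 0x753423473423463432) (.leaf 0x6434234634234623432))))))) (.node 32 (.node 16 (.node 8 (.node 4 (.node 2 (.node 1 (.leaf 0x65342346343423473432) (.leaf 0x53423473423474123432)) (.node 1 (.leaf 0x52342347342347123432) (.leaf 0x64234234634234623432))) (.node 2 (.node 1 (.leaf 0x65342346342346423432) (.leaf 0x75342347342347423432)) (.node 1 (.leaf 0x5342347342347423432) (.leaf 0x5234234734234723432)))) (.node 4 (.node 2 (.node 1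 (.leaf 0x3453464342346123432) (.leaf 0x64346434234643432)) (.node 1 (.leaf 0x34654723423465432) (.leaf 0x4634234534623432))) (.node 2 (.node 1 (.leaf 0x52342346434234643432) (.leaf 0x763423464534234623432)) (.node 1 (.leaf 0x41234634723465432) (.leaf 0x423453423475432))))) (.node 8 (.node 4 (.node 2 (.node 1 (.leaf 0x4752343423465432) (.leaf 0x47452343423465432)) (.node 1 (.leaf 0x64523423423475432) (.leaf 0x4712343423467432))) (.node 2 (.node 1 (.leaf 0x123473432) (.leaf 0x7464341234643432)) (.node 1 (.leaf 0x764123432) (.leaf 0x634754234723432)))) (.node 4 (.node 2 (.node 1 (.leaf 0x34746434123463432) (.leaf 0x4764346542346423432)) (.node 1 (.leaf 0x3476434123432) (.leaf 0x641234234234753432))) (.node 2 (.node 1 (.leaf 0x34674234123432) (.leaf 0x464341234643432)) (.node 1 (.leaf 0x1234743432) (.leaf 0x64123432)))))) (.node 16 (.node 8 (.node 4 (.node 2 (.node 1 (.leaf 0x7634754234723432) (.leaf 0x34746434123432)) (.node 1 (.leaf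 0x3476434123463432) (.leaf 0x6543461234346423432))) (.node 2 (.node 1 (.leaf 0x12347343423467432) (.leaf 0x53467434123432)) (.node 1 (.leaf 0x474123432) (.leaf 0x76434234743432)))) (.node 4 (.node 2 (.node 1 (.leaf 0x74123463432) (.leaf 0x634745434723432)) (.node 1 (.leaf 0x47123423465423432) (.leaf 0x3465434123432))) (.node 2 (.node 1 (.leaf 0x423453423463423432) (.leaf 0x654347542347123432)) (.node 1 (.leaf 0x763475434123473432) (.leaf 0x123473423465423432))))) (.node 8 (.node 4 (.node 2 (.node 1 (.leaf 0x47123432) (.leaf 0x4123463432)) (.node 1 (.leaf 0x6434234743432) (.leaf 0x346434346423432))) (.node 2 (.node 1 (.leaf 0x43464723434123432) (.leaf 0x47523463423467432)) (.node 1 (.leaf 0x674347542347123432) (.leaf 0x73465434123432)))) (.node 4 (.node 2 (.node 1 (.leaf 0x63475434123473432) (.leaf 0x346742341234623432)) (.node 1 (.leaf 0x474123423465432) (.leaf 0x34634234534623432))) (.node 2 (.node 1 (.leaf 0x47123423465432) (.leaf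 0x46547123423465432)) (.node 1 (.leaf 0x3423473452343423432) (.leaf 0x623475234234723432)))))))

def classATree_2 : Tree :=
  .node 64 (.node 32 (.node 16 (.node 8 (.node 4 (.node 2 (.node 1 (.leaf 0x54745341234723432) (.leaf 0x42342346745343423432)) (.node 1 (.leaf 0x5474342347123432) (.leaf 0x42346743423467432))) (.node 2 (.node 1 (.leaf 0x4634234743432) (.leaf 0x4346542346123432)) (.node 1 (.leaf 0x53465434123463432) (.leaf 0x547434234643432)))) (.node 4 (.node 2 (.node 1 (.leaf 0x754346542346423432) (.leaf 0x4634754634123463432)) (.node 1 (.leaf 0x6434234643432) (.leaf 0x46423432))) (.node 2 (.node 1 (.leaf 0x23463423475432) (.leaf 0x65475434234643432)) (.node 1 (.leaf 0x34234643412346423432) (.leaf 0x73423464342346423432))))) (.node 8 (.node 4 (.node 2 (.node 1 (.leaf 0x47345234723432) (.leaf 0x23463432)) (.node 1 (.leaf 0x47534234723432) (.leaf 0x7623472342347123432))) (.node 2 (.node 1 (.leaf 0x74654734234643432) (.leaf 0x7346543423463432))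 (.node 1 (.leaf 0x46423423475432) (.leaf 0x6423476432)))) (.node 4 (.node 2 (.node 1 (.leaf 0x67346543423463432) (.leaf 0x2346343423476453432)) (.node 1 (.leaf 0x465434234743432) (.leaf 0x34654234123463432))) (.node 2 (.node 1 (.leaf 0x634123474342347423432) (.leaf 0x2346343452347643432)) (.node 1 (.leaf 0x723453476432) (.leaf 0x234234234643432)))))) (.node 16 (.node 8 (.node 4 (.node 2 (.node 1 (.leaf 0x472343465432) (.leaf 0x534123464342346423432)) (.node 1 (.leaf 0x74674342347123432) (.leaf 0x54674345234723432))) (.node 2 (.node 1 (.leaf 0x423467432) (.leaf 0x754346454234623432)) (.node 1 (.leaf 0x43465412346423432) (.leaf 0x7467434234643432)))) (.node 4 (.node 2 (.node 1 (.leaf 0x7343474342347423432) (.leaf 0x5423463423475432)) (.node 1 (.leaf 0x3463474343423463432) (.leaf 0x465423467432))) (.node 2 (.node 1 (.leaf 0x4623434723465432) (.leaf 0x4754123476432)) (.node 1 (.leaf 0x72346341234643432) (.leaf 0x2346341234643432))))) (.node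 8 (.node 4 (.node 2 (.node 1 (.leaf 0x67432) (.leaf 0x73462347543423432)) (.node 1 (.leaf 0x23476452343423432) (.leaf 0x65432))) (.node 2 (.node 1 (.leaf 0x653423475432) (.leaf 0x7643423476434123432)) (.node 1 (.leaf 0x6453423475432) (.leaf 0x3462347543423432)))) (.node 4 (.node 2 (.node 1 (.leaf 0x6473423464543423432) (.leaf 0x63423475432)) (.node 1 (.leaf 0x346342347643423432) (.leaf 0x23476432))) (.node 2 (.node 1 (.leaf 0x76434234754123432) (.leaf 0x67453423475423432)) (.node 1 (.leaf 0x64543423475432) (.leaf 0x5346743432))))))) (.node 32 (.node 16 (.node 8 (.node 4 (.node 2 (.node 1 (.leaf 0x3467453432) (.leaf 0x6543423475432)) (.node 1 (.leaf 0x643423476434123432) (.leaf 0x643423475432))) (.node 2 (.node 1 (.leaf 0x53423467434123432) (.leaf 0x123476432)) (.node 1 (.leaf 0x2346743432) (.leaf 0x234762343423432)))) (.node 4 (.node 2 (.node 1 (.leaf 0x3465234346123432) (.leaf 0x62347543432)) (.node 1 (.leaf 0x46434523434623432) (.leaf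 0x46434234534623432))) (.node 2 (.node 1 (.leaf 0x54346343423476432) (.leaf 0x547341234234653432)) (.node 1 (.leaf 0x6473434623476432) (.leaf 0x647434234754123432))))) (.node 8 (.node 4 (.node 2 (.node 1 (.leaf 0x43474534123476432) (.leaf 0x473434234734123432)) (.node 1 (.leaf 0x54347453423476432) (.leaf 0x34234534623432))) (.node 2 (.node 1 (.leaf 0x34523434623432) (.leaf 0x63473423475423432)) (.node 1 (.leaf 0x653423475423432) (.leaf 0x634523475423432)))) (.node 4 (.node 2 (.node 1 (.leaf 0x6453434623476432) (.leaf 0x6434234754123432)) (.node 1 (.leaf 0x6475432) (.leaf 0x32))) (.node 2 (.node 1 (.leaf 0x3412346745343423432) (.leaf 0x3412347645343423432)) (.node 1 (.leaf 0x53476432) (.leaf 0x3452347643423432)))))) (.node 16 (.node 8 (.node 4 (.node 2 (.node 1 (.leaf 0x3476432) (.leaf 0x623423475432)) (.node 1 (.leaf 0x2346234346423432) (.leaf 0x34523476434123432))) (.node 2 (.node 1 (.leaf 0x23462343464123432) (.leaf 0x6123423475432))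 (.node 1 (.leaf 0x643452346543423432) (.leaf 0x643423474543423432)))) (.node 4 (.node 2 (.node 1 (.leaf 0x465434523434723432) (.leaf 0x465434234534723432)) (.node 1 (.leaf 0x76432) (.leaf 0x23467452343423432))) (.node 2 (.node 1 (.leaf 0x63472346543423432) (.leaf 0x6454342347643423432)) (.node 1 (.leaf 0x6745342347643423432) (.leaf 0x6432))))) (.node 8 (.node 4 (.node 2 (.node 1 (.leaf 0x346743432) (.leaf 0x4642347542347123432)) (.node 1 (.leaf 0x67434723465434123432) (.leaf 0x5342346743423432))) (.node 2 (.node 1 (.leaf 0x34623475434123432) (.leaf 0x6347543432)) (.node 1 (.leaf 0x64123423475432) (.leaf 0x6423423475432)))) (.node 4 (.node 2 (.node 1 (.leaf 0x54342345347123432) (.leaf 0x54345234347123432)) (.node 1 (.leaf 0x76473423463432) (.leaf 0x7647543423463432))) (.node 2 (.node 1 (.leaf 0x3423473423463432) (.leaf 0x54643423432)) (.node 1 (.leaf 0x6543423463432) (.leaf 0x734234734234653432)))))))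

def classATree_3 : Tree :=
  .node 64 (.node 32 (.node 16 (.node 8 (.node 4 (.node 2 (.node 1 (.leaf 0x4345423423473423432) (.leaf 0x34234734234653432)) (.node 1 (.leaf 0x647543423463432) (.leaf 0x46453423432))) (.node 2 (.node 1 (.leaf 0x6743423463432) (.leaf 0x6473423463432)) (.node 1 (.leaf 0x73423473423463432) (.leaf 0x534342342347423432)))) (.node 4 (.node 2 (.node 1 (.leaf 0x3423473432) (.leaf 0x3423432)) (.node 1 (.leaf 0x67463423473432) (.leaf 0x34234734123463432))) (.node 2 (.node 1 (.leaf 0x76453423463432) (.leaf 0x3423473423465432)) (.node 1 (.leaf 0x34674342347423432) (.leaf 0x654123423475432))))) (.node 8 (.node 4 (.node 2 (.node 1 (.leaf 0x52346743432) (.leaf 0x23467453432)) (.node 1 (.leaf 0x65423423475432) (.leaf 0x346523434623432))) (.node 2 (.node 1 (.leaf 0x2347623434123432) (.leaf 0x764734523475423432)) (.node 1 (.leaf 0x47434234234653432) (.leaf 0x6534234754123432)))) (.node 4 (.node 2 (.node 1 (.leaf 0x63434623476432)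 (.leaf 0x64734523475423432)) (.node 1 (.leaf 0x4342345347123432) (.leaf 0x342345346123432))) (.node 2 (.node 1 (.leaf 0x4734234234653432) (.leaf 0x4345234347123432)) (.node 1 (.leaf 0x345234346123432) (.leaf 0x73423432)))))) (.node 16 (.node 8 (.node 4 (.node 2 (.node 1 (.leaf 0x63423463432) (.leaf 0x34764734234643432)) (.node 1 (.leaf 0x54643423473432) (.leaf 0x6453423463432))) (.node 2 (.node 1 (.leaf 0x734234734123463432) (.leaf 0x734674342347423432)) (.node 1 (.leaf 0x347612343423432) (.leaf 0x473465434123463432)))) (.node 4 (.node 2 (.node 1 (.leaf 0x3462343464123432) (.leaf 0x423474534123476432)) (.node 1 (.leaf 0x7647234523475423432) (.leaf 0x34623472342347123432))) (.node 2 (.node 1 (.leaf 0x3467452343423432) (.leaf 0x3474612343423432)) (.node 1 (.leaf 0x647234523475423432) (.leaf 0x5342347643423467432))))) (.node 8 (.node 4 (.node 2 (.node 1 (.leaf 0x542347453423476432) (.leaf 0x6423423476434123432)) (.node 1 (.leaf 0x3461234346423432)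 (.leaf 0x73467452343423432))) (.node 2 (.node 1 (.leaf 0x34762343423432) (.leaf 0x47346543423463432)) (.node 1 (.leaf 0x7346234346423432) (.leaf 0x64723434623476432)))) (.node 4 (.node 2 (.node 1 (.leaf 0x3467423453423432) (.leaf 0x474342346743423476432)) (.node 1 (.leaf 0x474234234234653432) (.leaf 0x47234234234653432))) (.node 2 (.node 1 (.leaf 0x546434762343423432) (.leaf 0x347462343423432)) (.node 1 (.leaf 0x47342346743423476432) (.leaf 0x474346543423463432))))))) (.node 32 (.node 16 (.node 8 (.node 4 (.node 2 (.node 1 (.leaf 0x346234346423432) (.leaf 0x73467423453423432)) (.node 1 (.leaf 0x464347542347123432) (.leaf 0x5464347623434123432))) (.node 2 (.node 1 (.leaf 0x472342346743423476432) (.leaf 0x347623434123432)) (.node 1 (.leaf 0x64234234754123432) (.leaf 0x34723463434723432)))) (.node 4 (.node 2 (.node 1 (.leaf 0x3476423453423432) (.leaf 0x623434623476432)) (.node 1 (.leaf 0x34763452343423432) (.leaf 0x5347346434234723432)))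 (.node 2 (.node 1 (.leaf 0x53423476434123467432) (.leaf 0x542346343423476432)) (.node 1 (.leaf 0x346423473434623432) (.leaf 0x34746452343423432))))) (.node 8 (.node 4 (.node 2 (.node 1 (.leaf 0x5472341234234653432) (.leaf 0x3467234234123432)) (.node 1 (.leaf 0x464347454234723432) (.leaf 0x63434754234623432))) (.node 2 (.node 1 (.leaf 0x3476452343423432) (.leaf 0x347234634347123432)) (.node 1 (.leaf 0x34234723434234643432) (.leaf 0x3474623434123432)))) (.node 4 (.node 2 (.node 1 (.leaf 0x34763423453423432) (.leaf 0x7464347542347123432)) (.node 1 (.leaf 0x6746347623434123432) (.leaf 0x4734654234623432))) (.node 2 (.node 1 (.leaf 0x347423463434723432) (.leaf 0x464342347643423467432)) (.node 1 (.leaf 0x6412346434234643432) (.leaf 0x63475432)))))) (.node 16 (.node 8 (.node 4 (.node 2 (.node 1 (.leaf 0x2) (.leaf 0x47423465432)) (.node 1 (.leaf 0x412346745343423432) (.leaf 0x412347645343423432))) (.node 2 (.node 1 (.leaf 0x4723465432) (.leaf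 0x6543475432)) (.node 1 (.leaf 0x23475434723432) (.leaf 0x643475432)))) (.node 4 (.node 2 (.node 1 (.leaf 0x47543423465432) (.leaf 0x234745434723432)) (.node 1 (.leaf 0x234754347123432) (.leaf 0x62343475432))) (.node 2 (.node 1 (.leaf 0x474543423465432) (.leaf 0x2347454347123432)) (.node 1 (.leaf 0x612343475432) (.leaf 0x42347343473423432))))) (.node 8 (.node 4 (.node 2 (.node 1 (.leaf 0x47234654346423432) (.leaf 0x623434753432)) (.node 1 (.leaf 0x475423467432) (.leaf 0x47643465423467432))) (.node 2 (.node 1 (.leaf 0x476434623453476432) (.leaf 0x47543465423467432)) (.node 1 (.leaf 0x475434623453476432) (.leaf 0x23475432)))) (.node 4 (.node 2 (.node 1 (.leaf 0x4623434643432) (.leaf 0x434234234743432)) (.node 1 (.leaf 0x476473423465432) (.leaf 0x46423475432))) (.node 2 (.node 1 (.leaf 0x547543423465432) (.leaf 0x23434643432)) (.node 1 (.leaf 0x4634234234743432) (.leaf 0x423476453432)))))))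

def classATree_4 : Tree :=
  .node 64 (.node 32 (.node 16 (.node 8 (.node 4 (.node 2 (.node 1 (.leaf 0x452347643432) (.leaf 0x634754234523473432)) (.node 1 (.leaf 0x6347454234234753432) (.leaf 0x7234123423465432))) (.node 2 (.node 1 (.leaf 0x2343464534234623432) (.leaf 0x746434123473432)) (.node 1 (.leaf 0x65475434123463432) (.leaf 0x2346743412347423432)))) (.node 4 (.node 2 (.node 1 (.leaf 0x746434123432) (.leaf 0x654234123463432)) (.node 1 (.leaf 0x75346743412347423432) (.leaf 0x43434234347423432))) (.node 2 (.node 1 (.leaf 0x64754234123463432) (.leaf 0x46434123432)) (.node 1 (.leaf 0x674234123463432) (.leaf 0x46434123473432))))) (.node 8 (.node 4 (.node 2 (.node 1 (.leaf 0x5346743412347423432) (.leaf 0x463434674234623432)) (.node 1 (.leaf 0x743434234347423432) (.leaf 0x234123432))) (.node 2 (.node 1 (.leaf 0x647434123463432) (.leaf 0x234123473432)) (.node 1 (.leaf 0x76434123463432) (.leaf 0x534123473423463432)))) (.node 4 (.node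 2 (.node 1 (.leaf 0x53476434234743432) (.leaf 0x634754343423463432)) (.node 1 (.leaf 0x6234123463432) (.leaf 0x7234123432))) (.node 2 (.node 1 (.leaf 0x654734123463432) (.leaf 0x23476434234743432)) (.node 1 (.leaf 0x6434123463432) (.leaf 0x7534123473423463432)))))) (.node 16 (.node 8 (.node 4 (.node 2 (.node 1 (.leaf 0x7634754343423463432) (.leaf 0x723412347342347123432)) (.node 1 (.leaf 0x23412347345234723432) (.leaf 0x23412347342347123432))) (.node 2 (.node 1 (.leaf 0x72341234734234723432) (.leaf 0x23412347341234723432)) (.node 1 (.leaf 0x62341234634234623432) (.leaf 0x2341234734234723432)))) (.node 4 (.node 2 (.node 1 (.leaf 0x641234234634234623432) (.leaf 0x346343454234723432)) (.node 1 (.leaf 0x753467434234643432) (.leaf 0x5423423423465432))) (.node 2 (.node 1 (.leaf 0x234123423465432) (.leaf 0x463434764234723432)) (.node 1 (.leaf 0x53467434234643432) (.leaf 0x43423463423467432))))) (.node 8 (.node 4 (.node 2 (.node 1 (.leaf 0x5347643412346423432)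 (.leaf 0x34754123472343423432)) (.node 1 (.leaf 0x64234534234653432) (.leaf 0x463434523463432))) (.node 2 (.node 1 (.leaf 0x34341234743432) (.leaf 0x234234753432)) (.node 1 (.leaf 0x347434234523473432) (.leaf 0x653473423465423432)))) (.node 4 (.node 2 (.node 1 (.leaf 0x23462347342347123432) (.leaf 0x34623476432)) (.node 1 (.leaf 0x723434123476432) (.leaf 0x5462343423476432))) (.node 2 (.node 1 (.leaf 0x23434123476432) (.leaf 0x723453423476432)) (.node 1 (.leaf 0x34654343423473432) (.leaf 0x7463434764234723432))))))) (.node 32 (.node 16 (.node 8 (.node 4 (.node 2 (.node 1 (.leaf 0x7643465412346423432) (.leaf 0x743423463423467432)) (.node 1 (.leaf 0x234523473423463432) (.leaf 0x23473462343423432))) (.node 2 (.node 1 (.leaf 0x764734234623432) (.leaf 0x234764234123476432)) (.node 1 (.leaf 0x2346743462343423432) (.leaf 0x23434234674123432)))) (.node 4 (.node 2 (.node 1 (.leaf 0x342346534123476432) (.leaf 0x65434523463432)) (.node 1 (.leaf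 0x64543465423432) (.leaf 0x23473463423467432))) (.node 2 (.node 1 (.leaf 0x674342346234123432) (.leaf 0x6547534123476432)) (.node 1 (.leaf 0x546453423467432) (.leaf 0x3472346343423463432))))) (.node 8 (.node 4 (.node 2 (.node 1 (.leaf 0x7645342346123432) (.leaf 0x653473453423463432)) (.node 1 (.leaf 0x34234653423476432) (.leaf 0x2347643423467432))) (.node 2 (.node 1 (.leaf 0x6475434234623432) (.leaf 0x234341234643432)) (.node 1 (.leaf 0x53423467432) (.leaf 0x64734123476432)))) (.node 4 (.node 2 (.node 1 (.leaf 0x2346734612343423432) (.leaf 0x64345423463432)) (.node 1 (.leaf 0x6234734523465423432) (.leaf 0x7634123476432))) (.node 2 (.node 1 (.leaf 0x6746234234723432) (.leaf 0x4643423467432)) (.node 1 (.leaf 0x64745342346123432) (.leaf 0x643473453423463432)))))) (.node 16 (.node 8 (.node 4 (.node 2 (.node 1 (.leaf 0x643465423432) (.leaf 0x3476434234643432)) (.node 1 (.leaf 0x34234653432) (.leaf 0x34723463434123463432))) (.node 2 (.node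 1 (.leaf 0x34746423432) (.leaf 0x653475343423463432)) (.node 1 (.leaf 0x67434234623432) (.leaf 0x6343463472343423432)))) (.node 4 (.node 2 (.node 1 (.leaf 0x54634534234753432) (.leaf 0x234523473432)) (.node 1 (.leaf 0x3475434764234723432) (.leaf 0x63473434723467432))) (.node 2 (.node 1 (.leaf 0x34734234523473432) (.leaf 0x523475423432)) (.node 1 (.leaf 0x7463434523463432) (.leaf 0x734341234743432))))) (.node 8 (.node 4 (.node 2 (.node 1 (.leaf 0x6723432) (.leaf 0x41234643432)) (.node 1 (.leaf 0x634234743432) (.leaf 0x45346712343423432))) (.node 2 (.node 1 (.leaf 0x347645343423432) (.leaf 0x76434754234723432)) (.node 1 (.leaf 0x654347543423473432) (.leaf 0x543476234234123432)))) (.node 4 (.node 2 (.node 1 (.leaf 0x746347543423432) (.leaf 0x4523423423465432)) (.node 1 (.leaf 0x546423453423476432) (.leaf 0x23453423476432))) (.node 2 (.node 1 (.leaf 0x74523423423465432) (.leaf 0x64234643432)) (.node 1 (.leaf 0x634234643432) (.leaf 0x23432)))))))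

def classATree_5 : Tree :=
  .node 64 (.node 32 (.node 16 (.node 8 (.node 4 (.node 2 (.node 1 (.leaf 0x674634234743432) (.leaf 0x742347434234723432)) (.node 1 (.leaf 0x642346434234623432) (.leaf 0x764734234643432))) (.node 2 (.node 1 (.leaf 0x234634234643432) (.leaf 0x234342346745343423432)) (.node 1 (.leaf 0x234342347645343423432) (.leaf 0x643465412346423432)))) (.node 4 (.node 2 (.node 1 (.leaf 0x345347341234723432) (.leaf 0x434347542347123432)) (.node 1 (.leaf 0x23475434234743432) (.leaf 0x6523434523463432))) (.node 2 (.node 1 (.leaf 0x34723463423467432) (.leaf 0x643473423465423432)) (.node 1 (.leaf 0x634764234234723432) (.leaf 0x643423476453432))))) (.node 8 (.node 4 (.node 2 (.node 1 (.leaf 0x345347643423473432) (.leaf 0x6746342346123432)) (.node 1 (.leaf 0x64523467423432) (.leaf 0x3454341234623432))) (.node 2 (.node 1 (.leaf 0x6345234764234623432) (.leaf 0x47534347123432)) (.node 1 (.leaf 0x67434523463432) (.leaf 0x234743462343423432))))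 (.node 4 (.node 2 (.node 1 (.leaf 0x534234234234623432) (.leaf 0x234743463423467432)) (.node 1 (.leaf 0x64754342346123432) (.leaf 0x64734234623432))) (.node 2 (.node 1 (.leaf 0x462347234234723432) (.leaf 0x1234734234234723432)) (.node 1 (.leaf 0x645342346123432) (.leaf 0x347623434234723432)))))) (.node 16 (.node 8 (.node 4 (.node 2 (.node 1 (.leaf 0x6474534123476432) (.leaf 0x674653423467432)) (.node 1 (.leaf 0x46452342347123432) (.leaf 0x4674342346123432))) (.node 2 (.node 1 (.leaf 0x734234653423476432) (.leaf 0x23474643423467432)) (.node 1 (.leaf 0x464123472343423432) (.leaf 0x76234734523465423432)))) (.node 4 (.node 2 (.node 1 (.leaf 0x764345423463432) (.leaf 0x753423467432)) (.node 1 (.leaf 0x764734123476432) (.leaf 0x346423423475432))) (.node 2 (.node 1 (.leaf 0x634123476432) (.leaf 0x74643423467432)) (.node 1 (.leaf 0x5464234234723432) (.leaf 0x3476423432))))) (.node 8 (.node 4 (.node 2 (.node 1 (.leaf 0x65434234623432) (.leaf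 0x634745343423463432)) (.node 1 (.leaf 0x34746434234643432) (.leaf 0x734234653432))) (.node 2 (.node 1 (.leaf 0x23464543423463423432) (.leaf 0x6412346742347123432)) (.node 1 (.leaf 0x3467343423432) (.leaf 0x4654734234623432)))) (.node 4 (.node 2 (.node 1 (.leaf 0x64341234623432) (.leaf 0x23465434234634123432)) (.node 1 (.leaf 0x7343474634234753432) (.leaf 0x73465423432))) (.node 2 (.node 1 (.leaf 0x7346542342346423432) (.leaf 0x6543454234623432)) (.node 1 (.leaf 0x5465473462343423432) (.leaf 0x6734234653432))))))) (.node 32 (.node 16 (.node 8 (.node 4 (.node 2 (.node 1 (.leaf 0x5234734234234723432) (.leaf 0x341234643432)) (.node 1 (.leaf 0x64234743432) (.leaf 0x6123432))) (.node 2 (.node 1 (.leaf 0x6434754234723432) (.leaf 0x61234234234753432)) (.node 1 (.leaf 0x543467434123432) (.leaf 0x46347543423432)))) (.node 4 (.node 2 (.node 1 (.leaf 0x61234234523473432) (.leaf 0x475434654234623432)) (.node 1 (.leaf 0x464523434123476432) (.leaf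 0x4234743432))) (.node 2 (.node 1 (.leaf 0x2343423476432) (.leaf 0x67434623432)) (.node 1 (.leaf 0x234347423432) (.leaf 0x234612342346123432))))) (.node 8 (.node 4 (.node 2 (.node 1 (.leaf 0x2346347234346123432) (.leaf 0x4123472343423463432)) (.node 1 (.leaf 0x23473423474123432) (.leaf 0x734642343423463432))) (.node 2 (.node 1 (.leaf 0x34746434234753432) (.leaf 0x34234743432)) (.node 1 (.leaf 0x723432) (.leaf 0x546434234743432)))) (.node 4 (.node 2 (.node 1 (.leaf 0x42347434234723432) (.leaf 0x423474341234723432)) (.node 1 (.leaf 0x64734234643432) (.leaf 0x434123464342346423432))) (.node 2 (.node 1 (.leaf 0x7234634234643432) (.leaf 0x534123474342347423432)) (.node 1 (.leaf 0x465434634234753432) (.leaf 0x43475434123473432)))))) (.node 16 (.node 8 (.node 4 (.node 2 (.node 1 (.leaf 0x74347541234723432) (.leaf 0x434534234723432)) (.node 1 (.leaf 0x674346454234623432) (.leaf 0x434753423475423432))) (.node 2 (.node 1 (.leaf 0x6723434523463432)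 (.leaf 0x347423463423467432)) (.node 1 (.leaf 0x7345347643423473432) (.leaf 0x7643423476453432)))) (.node 4 (.node 2 (.node 1 (.leaf 0x54346343423467432) (.leaf 0x6723463423475423432)) (.node 1 (.leaf 0x541234743423432) (.leaf 0x5464342346123432))) (.node 2 (.node 1 (.leaf 0x73454341234623432) (.leaf 0x64743465423432)) (.node 1 (.leaf 0x3423412347423432) (.leaf 0x6523423472343423432))))) (.node 8 (.node 4 (.node 2 (.node 1 (.leaf 0x74123472345234723432) (.leaf 0x474534612343423432)) (.node 1 (.leaf 0x76342346123432) (.leaf 0x734234534234753432))) (.node 2 (.node 1 (.leaf 0x723467434123467432) (.leaf 0x764534234623432)) (.node 1 (.leaf 0x634234623432) (.leaf 0x5423475234234723432)))) (.node 4 (.node 2 (.node 1 (.leaf 0x74346434234723432) (.leaf 0x53423476423432)) (.node 1 (.leaf 0x67434123476432) (.leaf 0x234234723432))) (.node 2 (.node 1 (.leaf 0x474534234623432) (.leaf 0x23473453423467432)) (.node 1 (.leaf 0x34654712343423432) (.leaf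 0x543463423432)))))))

def classATree_6 : Tree :=
  .node 64 (.node 32 (.node 16 (.node 8 (.node 4 (.node 2 (.node 1 (.leaf 0x3423453465423432) (.leaf 0x547342346123432)) (.node 1 (.leaf 0x234712343423432) (.leaf 0x6475434523463432))) (.node 2 (.node 1 (.leaf 0x234745343423467432) (.leaf 0x654342346123432)) (.node 1 (.leaf 0x6434764123432) (.leaf 0x34234345423473432)))) (.node 4 (.node 2 (.node 1 (.leaf 0x347123434723432) (.leaf 0x64534123476432)) (.node 1 (.leaf 0x74643423476423432) (.leaf 0x72342347123432))) (.node 2 (.node 1 (.leaf 0x76475434123476432) (.leaf 0x46473423467432)) (.node 1 (.leaf 0x547346123434123432) (.leaf 0x23467453423467432))))) (.node 8 (.node 4 (.node 2 (.node 1 (.leaf 0x64734523463432) (.leaf 0x72343465432)) (.node 1 (.leaf 0x764341234623432) (.leaf 0x64342346234234623432))) (.node 2 (.node 1 (.leaf 0x343474634234753432) (.leaf 0x534764341234643432)) (.node 1 (.leaf 0x345423463432) (.leaf 0x52347434234234723432))))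 (.node 4 (.node 2 (.node 1 (.leaf 0x3465423432) (.leaf 0x346542342346423432)) (.node 1 (.leaf 0x6743454234623432) (.leaf 0x74641234234723432))) (.node 2 (.node 1 (.leaf 0x65473423476432) (.leaf 0x546434123467432)) (.node 1 (.leaf 0x34123467432) (.leaf 0x23434234643432)))))) (.node 16 (.node 8 (.node 4 (.node 2 (.node 1 (.leaf 0x64753423476432) (.leaf 0x673423476432)) (.node 1 (.leaf 0x67462341234723432) (.leaf 0x464234123476432))) (.node 2 (.node 1 (.leaf 0x46341234643432) (.leaf 0x7467434234743432)) (.node 1 (.leaf 0x2347643432) (.leaf 0x74123423465432)))) (.node 4 (.node 2 (.node 1 (.leaf 0x3475234347123432) (.leaf 0x234672343423432)) (.node 1 (.leaf 0x34764342346423432) (.leaf 0x4634754234723432))) (.node 2 (.node 1 (.leaf 0x3464542346423432) (.leaf 0x34534234623432)) (.node 1 (.leaf 0x72343423476432) (.leaf 0x43423463434234723432))))) (.node 8 (.node 4 (.node 2 (.node 1 (.leaf 0x234623434234743432) (.leaf 0x5423467453423476432))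 (.node 1 (.leaf 0x6542346423432) (.leaf 0x65434623432))) (.node 2 (.node 1 (.leaf 0x23462343423473432) (.leaf 0x34642343423463432)) (.node 1 (.leaf 0x3476434234753432) (.leaf 0x64341234643432)))) (.node 4 (.node 2 (.node 1 (.leaf 0x464123432) (.leaf 0x67434234643432)) (.node 1 (.leaf 0x12346341234623432) (.leaf 0x1234634234623432))) (.node 2 (.node 1 (.leaf 0x6742346434234643432) (.leaf 0x76475434234643432)) (.node 1 (.leaf 0x34723463434234723432) (.leaf 0x734123464342346423432))))))) (.node 32 (.node 16 (.node 8 (.node 4 (.node 2 (.node 1 (.leaf 0x53434234743432) (.leaf 0x647643412347423432)) (.node 1 (.leaf 0x6454347642346423432) (.leaf 0x547346234346423432))) (.node 2 (.node 1 (.leaf 0x4347541234723432) (.leaf 0x67434764234623432)) (.node 1 (.leaf 0x754347634234753432) (.leaf 0x723434653432)))) (.node 4 (.node 2 (.node 1 (.leaf 0x65343472343423432) (.leaf 0x674523423473423432)) (.node 1 (.leaf 0x63434712343423432) (.leaf 0x7434534234723432)))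 (.node 2 (.node 1 (.leaf 0x4723463423463432) (.leaf 0x654346454234623432)) (.node 1 (.leaf 0x3465434234723432) (.leaf 0x7464347123434623432))))) (.node 8 (.node 4 (.node 2 (.node 1 (.leaf 0x6746347234346123432) (.leaf 0x674345423473432)) (.node 1 (.leaf 0x3476343423432) (.leaf 0x2343474234234623432))) (.node 2 (.node 1 (.leaf 0x6434745434234753432) (.leaf 0x76434523473432)) (.node 1 (.leaf 0x46534346123432) (.leaf 0x3467423432)))) (.node 4 (.node 2 (.node 1 (.leaf 0x634234753432) (.leaf 0x634754634234643432)) (.node 1 (.leaf 0x65423467423432) (.leaf 0x534342341234723432))) (.node 2 (.node 1 (.leaf 0x5464234234753432) (.leaf 0x123463423475423432)) (.node 1 (.leaf 0x347234634123467432) (.leaf 0x434647434523463432)))))) (.node 16 (.node 8 (.node 4 (.node 2 (.node 1 (.leaf 0x7464534234623432) (.leaf 0x534342346123432)) (.node 1 (.leaf 0x6123434234653432) (.leaf 0x7434647434523463432))) (.node 2 (.node 1 (.leaf 0x6746234234753432) (.leaf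 0x42347434123432)) (.node 1 (.leaf 0x347343475423467432) (.leaf 0x42347343423476432)))) (.node 4 (.node 2 (.node 1 (.leaf 0x4347412343423473432) (.leaf 0x464534234623432)) (.node 1 (.leaf 0x7534342346123432) (.leaf 0x76123434234653432))) (.node 2 (.node 1 (.leaf 0x234753432) (.leaf 0x6746341234643432)) (.node 1 (.leaf 0x674123432) (.leaf 0x34764234123432))))) (.node 8 (.node 4 (.node 2 (.node 1 (.leaf 0x623453423423475432) (.leaf 0x6347454234723432)) (.node 1 (.leaf 0x3467434123432) (.leaf 0x347464234123463432))) (.node 2 (.node 1 (.leaf 0x764347542347123432) (.leaf 0x546534342347123432)) (.node 1 (.leaf 0x3453474643423463432) (.leaf 0x343452342347123432)))) (.node 4 (.node 2 (.node 1 (.leaf 0x643475423467432) (.leaf 0x34764234234723432)) (.node 1 (.leaf 0x3434534234347423432) (.leaf 0x434534234753432))) (.node 2 (.node 1 (.leaf 0x46423475423432) (.leaf 0x734234623432)) (.node 1 (.leaf 0x5463434234653432) (.leaf 0x6342346123432)))))))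

def classATree_7 : Tree :=
  .node 64 (.node 32 (.node 16 (.node 8 (.node 4 (.node 2 (.node 1 (.leaf 0x64534234623432) (.leaf 0x47534612343423432)) (.node 1 (.leaf 0x4123472345234723432) (.leaf 0x6723423472343423432))) (.node 2 (.node 1 (.leaf 0x23467434123467432) (.leaf 0x65473465423432)) (.node 1 (.leaf 0x5464734234653432) (.leaf 0x34234534234753432)))) (.node 4 (.node 2 (.node 1 (.leaf 0x75423475234234723432) (.leaf 0x7634234623432)) (.node 1 (.leaf 0x4346434234723432) (.leaf 0x47534234623432))) (.node 2 (.node 1 (.leaf 0x2342345346423432) (.leaf 0x234743453423467432)) (.node 1 (.leaf 0x7234234723432) (.leaf 0x65434123476432))))) (.node 8 (.node 4 (.node 2 (.node 1 (.leaf 0x753423476423432) (.leaf 0x5474342346123432)) (.node 1 (.leaf 0x7543463423432) (.leaf 0x34764712343423432))) (.node 2 (.node 1 (.leaf 0x434643423432) (.leaf 0x674342346123432)) (.node 1 (.leaf 0x53473434234753432) (.leaf 0x2347123434123432)))) (.node 4 (.node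 2 (.node 1 (.leaf 0x76475434523463432) (.leaf 0x23475343423467432)) (.node 1 (.leaf 0x342342347423432) (.leaf 0x346743412346423432))) (.node 2 (.node 1 (.leaf 0x542347234234723432) (.leaf 0x534234764123432)) (.node 1 (.leaf 0x2342347123432) (.leaf 0x6475434123476432)))))) (.node 16 (.node 8 (.node 4 (.node 2 (.node 1 (.leaf 0x764534123476432) (.leaf 0x634234653423432)) (.node 1 (.leaf 0x4643423476423432) (.leaf 0x2343465432))) (.node 2 (.node 1 (.leaf 0x753434234743432) (.leaf 0x3474642341234723432)) (.node 1 (.leaf 0x4734654342347423432) (.leaf 0x43463434123467432)))) (.node 4 (.node 2 (.node 1 (.leaf 0x2342342346423432) (.leaf 0x4234743423432)) (.node 1 (.leaf 0x743467434234653432) (.leaf 0x342346123432))) (.node 2 (.node 1 (.leaf 0x746345341234723432) (.leaf 0x7345343423473432)) (.node 1 (.leaf 0x623475342346123432) (.leaf 0x4534634234753432))))) (.node 8 (.node 4 (.node 2 (.node 1 (.leaf 0x54347634234753432) (.leaf 0x6723434234653432))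 (.node 1 (.leaf 0x723423465432) (.leaf 0x23467432))) (.node 2 (.node 1 (.leaf 0x76453423465423432) (.leaf 0x67434234654123432)) (.node 1 (.leaf 0x6476434234643432) (.leaf 0x654764341234643432)))) (.node 4 (.node 2 (.node 1 (.leaf 0x3423463423475432) (.leaf 0x46347543423473432)) (.node 1 (.leaf 0x6474346542346123432) (.leaf 0x472343472343423432))) (.node 2 (.node 1 (.leaf 0x6543475423432) (.leaf 0x654345423473432)) (.node 1 (.leaf 0x5234734234234653432) (.leaf 0x6434523473432))))))) (.node 32 (.node 16 (.node 8 (.node 4 (.node 2 (.node 1 (.leaf 0x65234734523475423432) (.leaf 0x6453475423432)) (.node 1 (.leaf 0x7634234753432) (.leaf 0x634754341234743432))) (.node 2 (.node 1 (.leaf 0x63475423432) (.leaf 0x674634123467432)) (.node 1 (.leaf 0x64743423476432) (.leaf 0x4641234234723432)))) (.node 4 (.node 2 (.node 1 (.leaf 0x734123467432) (.leaf 0x764753423476432)) (.node 1 (.leaf 0x723434234643432) (.leaf 0x653423476432))) (.node 2 (.node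 1 (.leaf 0x7464234123476432) (.leaf 0x64345234634123432)) (.node 1 (.leaf 0x234612342346423432) (.leaf 0x343423412346423432))))) (.node 8 (.node 4 (.node 2 (.node 1 (.leaf 0x54234643452346423432) (.leaf 0x234534123476432)) (.node 1 (.leaf 0x2346347423432) (.leaf 0x764534623432))) (.node 2 (.node 1 (.leaf 0x234634723434623432) (.leaf 0x734623434234623432)) (.node 1 (.leaf 0x23465234234623432) (.leaf 0x43412347423432)))) (.node 4 (.node 2 (.node 1 (.leaf 0x2347434542347423432) (.leaf 0x634234643423473432)) (.node 1 (.leaf 0x346423432) (.leaf 0x6453462343423463432))) (.node 2 (.node 1 (.leaf 0x23462341234623432) (.leaf 0x2346234234623432)) (.node 1 (.leaf 0x234623432) (.leaf 0x23474342347423432)))))) (.node 16 (.node 8 (.node 4 (.node 2 (.node 1 (.leaf 0x723423423465432) (.leaf 0x643476423464123432)) (.node 1 (.leaf 0x746341234643432) (.leaf 0x467434234743432))) (.node 2 (.node 1 (.leaf 0x4123423465432) (.leaf 0x4723467432)) (.node 1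 (.leaf 0x6345423465423432) (.leaf 0x63423465423432)))) (.node 4 (.node 2 (.node 1 (.leaf 0x347464342346423432) (.leaf 0x74634754234723432)) (.node 1 (.leaf 0x6734654234623432) (.leaf 0x47234234234623432))) (.node 2 (.node 1 (.leaf 0x734534234623432) (.leaf 0x6543475423464123432)) (.node 1 (.leaf 0x764341234643432) (.leaf 0x65434234643432))))) (.node 8 (.node 4 (.node 2 (.node 1 (.leaf 0x546423432) (.leaf 0x52346341234623432)) (.node 1 (.leaf 0x5234634234623432) (.leaf 0x6475434234643432))) (.node 2 (.node 1 (.leaf 0x434234123423465432) (.leaf 0x347423463434234723432)) (.node 1 (.leaf 0x34123464342346423432) (.leaf 0x452346743432)))) (.node 4 (.node 2 (.node 1 (.leaf 0x76434234347423432) (.leaf 0x5434542347423432)) (.node 1 (.leaf 0x63423474342347423432) (.leaf 0x654347642346123432))) (.node 2 (.node 1 (.leaf 0x47463434234623432) (.leaf 0x64345234623432)) (.node 1 (.leaf 0x65341234623432) (.leaf 0x4734623434123432)))))))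

def classATree_8 : Tree :=
  .node 64 (.node 32 (.node 16 (.node 8 (.node 4 (.node 2 (.node 1 (.leaf 0x674234674234723432) (.leaf 0x2346743423467432)) (.node 1 (.leaf 0x4523472342347123432) (.leaf 0x6543476423432))) (.node 2 (.node 1 (.leaf 0x654734234653432) (.leaf 0x34734342347123432)) (.node 1 (.leaf 0x6745347642346423432) (.leaf 0x3434743423432)))) (.node 4 (.node 2 (.node 1 (.leaf 0x647434234653432) (.leaf 0x47434623434123432)) (.node 1 (.leaf 0x543464341234723432) (.leaf 0x67341234623432))) (.node 2 (.node 1 (.leaf 0x74523472342347123432) (.leaf 0x3473434523473432)) (.node 1 (.leaf 0x764345234623432) (.leaf 0x72346743423467432))))) (.node 8 (.node 4 (.node 2 (.node 1 (.leaf 0x5423472345234723432) (.leaf 0x63454234623432)) (.node 1 (.leaf 0x2347643462343423432) (.leaf 0x54753462343423432))) (.node 2 (.node 1 (.leaf 0x234674234123476432) (.leaf 0x647534234653432)) (.node 1 (.leaf 0x6454341234623432) (.leaf 0x6453476423432))))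 (.node 4 (.node 2 (.node 1 (.leaf 0x347345434234723432) (.leaf 0x3452343423467423432)) (.node 1 (.leaf 0x23453423467423432) (.leaf 0x23476434123467432))) (.node 2 (.node 1 (.leaf 0x346734342347123432) (.leaf 0x6434234653432)) (.node 1 (.leaf 0x6234734234654123432) (.leaf 0x6474341234623432)))))) (.node 16 (.node 8 (.node 4 (.node 2 (.node 1 (.leaf 0x7645234674234723432) (.leaf 0x6434746423432)) (.node 1 (.leaf 0x74534634234753432) (.leaf 0x645423423473423432))) (.node 2 (.node 1 (.leaf 0x6523434234653432) (.leaf 0x346347434234623432)) (.node 1 (.leaf 0x423463423476432) (.leaf 0x453434234753432)))) (.node 4 (.node 2 (.node 1 (.leaf 0x65434764234623432) (.leaf 0x54634234643432)) (.node 1 (.leaf 0x75423423465432) (.leaf 0x467467434234643432))) (.node 2 (.node 1 (.leaf 0x23476453432) (.leaf 0x2346723434123432)) (.node 1 (.leaf 0x347523434723432) (.leaf 0x63476423453423432))))) (.node 8 (.node 4 (.node 2 (.node 1 (.leaf 0x3465412346423432)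 (.leaf 0x34234634234753432)) (.node 1 (.leaf 0x23434653432) (.leaf 0x234534234674123432))) (.node 2 (.node 1 (.leaf 0x34723462343423432) (.leaf 0x67343472343423432)) (.node 1 (.leaf 0x47423463423463432) (.leaf 0x47643463423463432)))) (.node 4 (.node 2 (.node 1 (.leaf 0x4634345423473432) (.leaf 0x674534234347423432)) (.node 1 (.leaf 0x763434712343423432) (.leaf 0x346347642346423432))) (.node 2 (.node 1 (.leaf 0x6123434523463432) (.leaf 0x3434734342347423432)) (.node 1 (.leaf 0x647634534234623432) (.leaf 0x654346541234623432))))))) (.node 32 (.node 16 (.node 8 (.node 4 (.node 2 (.node 1 (.leaf 0x6434234347423432) (.leaf 0x645434234347423432)) (.node 1 (.leaf 0x67234345423463432) (.leaf 0x464347123434623432))) (.node 2 (.node 1 (.leaf 0x5464347234346123432) (.leaf 0x7434643423473423432)) (.node 1 (.leaf 0x23473432) (.leaf 0x746434234643432)))) (.node 4 (.node 2 (.node 1 (.leaf 0x76423432) (.leaf 0x6347541234723432)) (.node 1 (.leaf 0x3474643423463432)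 (.leaf 0x674346234346423432))) (.node 2 (.node 1 (.leaf 0x64234234234753432) (.leaf 0x3467453423432)) (.node 1 (.leaf 0x347643423432) (.leaf 0x46434234643432))))) (.node 8 (.node 4 (.node 2 (.node 1 (.leaf 0x234743432) (.leaf 0x6423432)) (.node 1 (.leaf 0x3462343463423432) (.leaf 0x3474643423432))) (.node 2 (.node 1 (.leaf 0x347643423463432) (.leaf 0x654346234346423432)) (.node 1 (.leaf 0x2347343423467432) (.leaf 0x5346743423432)))) (.node 4 (.node 2 (.node 1 (.leaf 0x64347642346423432) (.leaf 0x7453434234753432)) (.node 1 (.leaf 0x75463434234653432) (.leaf 0x54623434734234723432))) (.node 2 (.node 1 (.leaf 0x723462342346423432) (.leaf 0x2347453432)) (.node 1 (.leaf 0x5464341234643432) (.leaf 0x654123432)))))) (.node 16 (.node 8 (.node 4 (.node 2 (.node 1 (.leaf 0x234734543423467432) (.leaf 0x3464234346423432)) (.node 1 (.leaf 0x34764234123463432) (.leaf 0x64347542347123432))) (.node 2 (.node 1 (.leaf 0x53465434123432) (.leaf 0x63475434123432))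 (.node 1 (.leaf 0x43463473423463432) (.leaf 0x2347434634123467432)))) (.node 4 (.node 2 (.node 1 (.leaf 0x54674345234623432) (.leaf 0x467453462343423432)) (.node 1 (.leaf 0x345342343423463432) (.leaf 0x67434654123432))) (.node 2 (.node 1 (.leaf 0x674534234653432) (.leaf 0x473434234743432)) (.node 1 (.leaf 0x423472341234723432) (.leaf 0x3476434723434123432))))) (.node 8 (.node 4 (.node 2 (.node 1 (.leaf 0x5434742343423473432) (.leaf 0x73434534234347423432)) (.node 1 (.leaf 0x547346343423467432) (.leaf 0x3423434234643432))) (.node 2 (.node 1 (.leaf 0x347464234234723432) (.leaf 0x123434643423432)) (.node 1 (.leaf 0x34234623432) (.leaf 0x7434534234753432)))) (.node 4 (.node 2 (.node 1 (.leaf 0x74234743423432) (.leaf 0x34534234234723432)) (.node 1 (.leaf 0x6543452347643432) (.leaf 0x347642341234723432))) (.node 2 (.node 1 (.leaf 0x43467434234653432) (.leaf 0x3453423423473423432)) (.node 1 (.leaf 0x7342346123432) (.leaf 0x46345341234723432)))))))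

def classATree_9 : Tree :=
  .node 64 (.node 32 (.node 16 (.node 8 (.node 4 (.node 2 (.node 1 (.leaf 0x345343423473432) (.leaf 0x67434234743432)) (.node 1 (.leaf 0x647423432) (.leaf 0x64123473432))) (.node 2 (.node 1 (.leaf 0x63475434723432) (.leaf 0x53476434123463432)) (.node 1 (.leaf 0x643461234346423432) (.leaf 0x34654234123432)))) (.node 4 (.node 2 (.node 1 (.leaf 0x634754634123463432) (.leaf 0x543464723434123432)) (.node 1 (.leaf 0x234734542347423432) (.leaf 0x3467434634123473432))) (.node 2 (.node 1 (.leaf 0x2347342347423432) (.leaf 0x2346123432)) (.node 1 (.leaf 0x7346423432) (.leaf 0x23461234234623432))))) (.node 8 (.node 4 (.node 2 (.node 1 (.leaf 0x64347454342346423432) (.leaf 0x72346234234623432)) (.node 1 (.leaf 0x23423423465432) (.leaf 0x523475434234643432))) (.node 2 (.node 1 (.leaf 0x647123423465432) (.leaf 0x754341234643432)) (.node 1 (.leaf 0x64123467432) (.leaf 0x54743463423467432)))) (.node 4 (.node 2 (.node 1 (.leaf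 0x647434523465423432) (.leaf 0x54647434234643432)) (.node 1 (.leaf 0x674346542346423432) (.leaf 0x75434754234723432))) (.node 2 (.node 1 (.leaf 0x6123434764234723432) (.leaf 0x647464341234643432)) (.node 1 (.leaf 0x23423465432) (.leaf 0x723467432)))))) (.node 16 (.node 8 (.node 4 (.node 2 (.node 1 (.leaf 0x6434523465423432) (.leaf 0x6453423465423432)) (.node 1 (.leaf 0x76476434234643432) (.leaf 0x6547346542346123432))) (.node 2 (.node 1 (.leaf 0x73423463423475432) (.leaf 0x647346542346423432)) (.node 1 (.leaf 0x47234634123463432) (.leaf 0x234734523434123432)))) (.node 4 (.node 2 (.node 1 (.leaf 0x4723463434623476432) (.leaf 0x1234342345346123432)) (.node 1 (.leaf 0x7343474543423463432) (.leaf 0x4723434623432))) (.node 2 (.node 1 (.leaf 0x647234342346123432) (.leaf 0x345347543423463432)) (.node 1 (.leaf 0x546434234623432) (.leaf 0x65434234743432))))) (.node 8 (.node 4 (.node 2 (.node 1 (.leaf 0x547123432) (.leaf 0x54123463432)) (.node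 1 (.leaf 0x53476434123432) (.leaf 0x645347643423432))) (.node 2 (.node 1 (.leaf 0x534746434123463432) (.leaf 0x643475463423463432)) (.node 1 (.leaf 0x634754234123473432) (.leaf 0x34674341234623432)))) (.node 4 (.node 2 (.node 1 (.leaf 0x4723432) (.leaf 0x64341234743432)) (.node 1 (.leaf 0x423463432) (.leaf 0x346343463423432))) (.node 2 (.node 1 (.leaf 0x4723434723467432) (.leaf 0x47234653423467432)) (.node 1 (.leaf 0x674347454234723432) (.leaf 0x6347543423473432))))))) (.node 32 (.node 16 (.node 8 (.node 4 (.node 2 (.node 1 (.leaf 0x7346543423432) (.leaf 0x5234346343423476432)) (.node 1 (.leaf 0x67434234753432) (.leaf 0x67434647423432))) (.node 2 (.node 1 (.leaf 0x6434754123432) (.leaf 0x434534623432)) (.node 1 (.leaf 0x643475434234743432) (.leaf 0x64534234753432)))) (.node 4 (.node 2 (.node 1 (.leaf 0x76475434234753432) (.leaf 0x63475434234753432)) (.node 1 (.leaf 0x234734342347423432) (.leaf 0x647234534234623432))) (.node 2 (.node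 1 (.leaf 0x34345234623432) (.leaf 0x234623434123473432)) (.node 1 (.leaf 0x34764345423473432) (.leaf 0x7234534123476432))))) (.node 8 (.node 4 (.node 2 (.node 1 (.leaf 0x6452346423432) (.leaf 0x6423473434234623432)) (.node 1 (.leaf 0x723465234234623432) (.leaf 0x7234634723434623432))) (.node 2 (.node 1 (.leaf 0x34623434234623432) (.leaf 0x64534623432)) (.node 1 (.leaf 0x123463432) (.leaf 0x523463432)))) (.node 4 (.node 2 (.node 1 (.leaf 0x743412347423432) (.leaf 0x53423464342346423432)) (.node 1 (.leaf 0x54712343423473432) (.leaf 0x234734612343423432))) (.node 2 (.node 1 (.leaf 0x4743434234743432) (.leaf 0x23434523467423432)) (.node 1 (.leaf 0x345423463423476432) (.leaf 0x23476453423467432)))))) (.node 16 (.node 8 (.node 4 (.node 2 (.node 1 (.leaf 0x743463473423463432) (.leaf 0x645434234653432)) (.node 1 (.leaf 0x65434654123432) (.leaf 0x234734634123467432))) (.node 2 (.node 1 (.leaf 0x7643476423464123432) (.leaf 0x46534345423463432))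 (.node 1 (.leaf 0x2341234734123432) (.leaf 0x47343454234623432)))) (.node 4 (.node 2 (.node 1 (.leaf 0x734345234623432) (.leaf 0x46534345234723432)) (.node 1 (.leaf 0x6743475423464123432) (.leaf 0x674347642346123432))) (.node 2 (.node 1 (.leaf 0x23453463432) (.leaf 0x3453434743423463432)) (.node 1 (.leaf 0x75434542347423432) (.leaf 0x43423474342347423432))))) (.node 8 (.node 4 (.node 2 (.node 1 (.leaf 0x634764234623432) (.leaf 0x34654234623432)) (.node 1 (.leaf 0x534623453423432) (.leaf 0x73454234623432))) (.node 2 (.node 1 (.leaf 0x4763434234623432) (.leaf 0x67345234623432)) (.node 1 (.leaf 0x75423472345234723432) (.leaf 0x4534645342347123432)))) (.node 4 (.node 2 (.node 1 (.leaf 0x4734643423432) (.leaf 0x6745341234623432)) (.node 1 (.leaf 0x647234674234723432) (.leaf 0x7647534234653432))) (.node 2 (.node 1 (.leaf 0x547453462343423432) (.leaf 0x423474643423467432)) (.node 1 (.leaf 0x341234234234623432) (.leaf 0x46745341234623432)))))))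

def classATree_10 : Tree :=
  .node 64 (.node 32 (.node 16 (.node 8 (.node 4 (.node 2 (.node 1 (.leaf 0x234746434123467432) (.leaf 0x647623472343423432)) (.node 1 (.leaf 0x76234734234654123432) (.leaf 0x76434234653432))) (.node 2 (.node 1 (.leaf 0x645234674234723432) (.leaf 0x76434746423432)) (.node 1 (.leaf 0x6547341234623432) (.leaf 0x723452342346123432)))) (.node 4 (.node 2 (.node 1 (.leaf 0x2345346534234623432) (.leaf 0x534746434523473432)) (.node 1 (.leaf 0x23434764534234623432) (.leaf 0x2345347423432))) (.node 2 (.node 1 (.leaf 0x764346123432) (.leaf 0x423463473423476432)) (.node 1 (.leaf 0x6342346434234753432) (.leaf 0x23462345234623432))))) (.node 8 (.node 4 (.node 2 (.node 1 (.leaf 0x76423423423465432) (.leaf 0x6423423467434123432)) (.node 1 (.leaf 0x647346454234623432) (.leaf 0x76347642346123432))) (.node 2 (.node 1 (.leaf 0x2342347643423432) (.leaf 0x23452342346123432)) (.node 1 (.leaf 0x467453434234623432) (.leaf 0x764347642346423432))))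 (.node 4 (.node 2 (.node 1 (.leaf 0x342341234723432) (.leaf 0x4743423467432)) (.node 1 (.leaf 0x34674534123476432) (.leaf 0x4746234234123432))) (.node 2 (.node 1 (.leaf 0x74346534234623432) (.leaf 0x23473423473423432)) (.node 1 (.leaf 0x23423473423432) (.leaf 0x347643472343423432)))))) (.node 16 (.node 8 (.node 4 (.node 2 (.node 1 (.leaf 0x74346534234753432) (.leaf 0x643475434234643432)) (.node 1 (.leaf 0x547453434234623432) (.leaf 0x7534623453423432))) (.node 2 (.node 1 (.leaf 0x2347423453423432) (.leaf 0x4723434234723432)) (.node 1 (.leaf 0x346542346123432) (.leaf 0x7623473463423473432)))) (.node 4 (.node 2 (.node 1 (.leaf 0x67423467432) (.leaf 0x23434623475432)) (.node 1 (.leaf 0x64734234654123432) (.leaf 0x4734634123467432))) (.node 2 (.node 1 (.leaf 0x434234643432) (.leaf 0x74674634234743432)) (.node 1 (.leaf 0x4342346434123467432) (.leaf 0x43462343464123432))))) (.node 8 (.node 4 (.node 2 (.node 1 (.leaf 0x64346542346123432)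 (.leaf 0x754634234643432)) (.node 1 (.leaf 0x5423423465432) (.leaf 0x54674341234743432))) (.node 2 (.node 1 (.leaf 0x52346543432) (.leaf 0x634234654123432)) (.node 1 (.leaf 0x653434723467432) (.leaf 0x23423474543423432)))) (.node 4 (.node 2 (.node 1 (.leaf 0x534653434234723432) (.leaf 0x67346542346123432)) (.node 1 (.leaf 0x472343423432) (.leaf 0x634523476423432))) (.node 2 (.node 1 (.leaf 0x734645343423476432) (.leaf 0x734234634123432)) (.node 1 (.leaf 0x453464345234623432) (.leaf 0x4763423467432))))))) (.node 32 (.node 16 (.node 8 (.node 4 (.node 2 (.node 1 (.leaf 0x7234234234623432) (.leaf 0x734652343423432)) (.node 1 (.leaf 0x76342345347423432) (.leaf 0x423476432))) (.node 2 (.node 1 (.leaf 0x4234754234523463432) (.leaf 0x2341234234623432)) (.node 1 (.leaf 0x4612343423476432) (.leaf 0x6745346123432)))) (.node 4 (.node 2 (.node 1 (.leaf 0x2343474123432) (.leaf 0x2347634723434623432)) (.node 1 (.leaf 0x23462342346123432) (.leaf 0x234346342346123432)))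 (.node 2 (.node 1 (.leaf 0x5434342347346423432) (.leaf 0x634754342346423432)) (.node 1 (.leaf 0x67462347342347423432) (.leaf 0x643476452343423432))))) (.node 8 (.node 4 (.node 2 (.node 1 (.leaf 0x7346542346123432) (.leaf 0x72341234234623432)) (.node 1 (.leaf 0x64754123423465432) (.leaf 0x5465434234643432))) (.node 2 (.node 1 (.leaf 0x523434753432) (.leaf 0x74654341234643432)) (.node 1 (.leaf 0x47345234234753432) (.leaf 0x6473423465423432)))) (.node 4 (.node 2 (.node 1 (.leaf 0x74346543423463432) (.leaf 0x6434654234623432)) (.node 1 (.leaf 0x534634734234723432) (.leaf 0x234743452347423432))) (.node 2 (.node 1 (.leaf 0x6452347343423463432) (.leaf 0x546434723434623432)) (.node 1 (.leaf 0x47423432) (.leaf 0x23473423465432)))))) (.node 16 (.node 8 (.node 4 (.node 2 (.node 1 (.leaf 0x7423463432) (.leaf 0x6347454347123432)) (.node 1 (.leaf 0x4723423465423432) (.leaf 0x346543423432))) (.node 2 (.node 1 (.leaf 0x53476453423463432) (.leaf 0x654347454234723432))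 (.node 1 (.leaf 0x76347543423473432) (.leaf 0x674634723434623432)))) (.node 4 (.node 2 (.node 1 (.leaf 0x23474543432) (.leaf 0x434643423473423432)) (.node 1 (.leaf 0x2346434734123476432) (.leaf 0x2347346234234123432))) (.node 2 (.node 1 (.leaf 0x743465434234643432) (.leaf 0x61234346542347123432)) (.node 1 (.leaf 0x23463423476432) (.leaf 0x2343465423467432))))) (.node 8 (.node 4 (.node 2 (.node 1 (.leaf 0x67465434234653432) (.leaf 0x743473454234623432)) (.node 1 (.leaf 0x54764345234723432) (.leaf 0x63475423464123432))) (.node 2 (.node 1 (.leaf 0x2347543432) (.leaf 0x464123473423474123432)) (.node 1 (.leaf 0x23473412347423432) (.leaf 0x23462342346423432)))) (.node 4 (.node 2 (.node 1 (.leaf 0x347234346123432) (.leaf 0x34723434623432)) (.node 1 (.leaf 0x61234346454234723432) (.leaf 0x743423453475423432))) (.node 2 (.node 1 (.leaf 0x67234634234754123432) (.leaf 0x47645341234723432)) (.node 1 (.leaf 0x23434623453476432) (.leaf 0x7465434234653432)))))))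

def classATree_11 : Tree :=
  .node 64 (.node 32 (.node 16 (.node 8 (.node 4 (.node 2 (.node 1 (.leaf 0x2346534123476432) (.leaf 0x74234634234654123432)) (.node 1 (.leaf 0x712346343423463432) (.leaf 0x123434753432))) (.node 2 (.node 1 (.leaf 0x4654341234643432) (.leaf 0x76473423465423432)) (.node 1 (.leaf 0x54734234523473432) (.leaf 0x65475423423465432)))) (.node 4 (.node 2 (.node 1 (.leaf 0x75465434234643432) (.leaf 0x4346543423463432)) (.node 1 (.leaf 0x345434734234723432) (.leaf 0x76434654234623432))) (.node 2 (.node 1 (.leaf 0x4543463423476432) (.leaf 0x72343423467423432)) (.node 1 (.leaf 0x7465347343423473432) (.leaf 0x63423462343423432))))) (.node 8 (.node 4 (.node 2 (.node 1 (.leaf 0x34746434123476432) (.leaf 0x7343423476423432)) (.node 1 (.leaf 0x4734234764123432) (.leaf 0x7234674347123432))) (.node 2 (.node 1 (.leaf 0x64345423476423432) (.leaf 0x734634723434123432)) (.node 1 (.leaf 0x47543453423463432) (.leaf 0x6412347343423463432))))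 (.node 4 (.node 2 (.node 1 (.leaf 0x46123434734234723432) (.leaf 0x53476434523473432)) (.node 1 (.leaf 0x42347643423476432) (.leaf 0x452346743423476432))) (.node 2 (.node 1 (.leaf 0x3476453434234723432) (.leaf 0x64346123432)) (.node 1 (.leaf 0x6412346423432) (.leaf 0x6423423423465432)))))) (.node 16 (.node 8 (.node 4 (.node 2 (.node 1 (.leaf 0x743423412347423432) (.leaf 0x547454341234723432)) (.node 1 (.leaf 0x4673453472343423432) (.leaf 0x5476434234346423432))) (.node 2 (.node 1 (.leaf 0x62345346341234723432) (.leaf 0x234634234674123432)) (.node 1 (.leaf 0x123463423476423432) (.leaf 0x23423464543423473432)))) (.node 4 (.node 2 (.node 1 (.leaf 0x5234653473423463432) (.leaf 0x462343475432)) (.node 1 (.leaf 0x654734523465423432) (.leaf 0x5473463423467432))) (.node 2 (.node 1 (.leaf 0x54341234643432) (.leaf 0x234234234743432)) (.node 1 (.leaf 0x67467434234643432) (.leaf 0x654346542346423432))))) (.node 8 (.node 4 (.node 2 (.node 1 (.leaf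 0x5434754234723432) (.leaf 0x2347543462343423432)) (.node 1 (.leaf 0x4643434234743432) (.leaf 0x474234634123463432))) (.node 2 (.node 1 (.leaf 0x234734234234123432) (.leaf 0x4723463423475423432)) (.node 1 (.leaf 0x1234345234346123432) (.leaf 0x343474543423463432)))) (.node 4 (.node 2 (.node 1 (.leaf 0x47234346123432) (.leaf 0x7345347543423463432)) (.node 1 (.leaf 0x674634234623432) (.leaf 0x547123463423463432))) (.node 2 (.node 1 (.leaf 0x2341234723432) (.leaf 0x67453423476432)) (.node 1 (.leaf 0x34523476423432) (.leaf 0x72345234723432))))))) (.node 32 (.node 16 (.node 8 (.node 4 (.node 2 (.node 1 (.leaf 0x6547543423476432) (.leaf 0x347423465423432)) (.node 1 (.leaf 0x5347234347123432) (.leaf 0x643423476432))) (.node 2 (.node 1 (.leaf 0x64754634123467432) (.leaf 0x64234734234754123432)) (.node 1 (.leaf 0x65434647423432) (.leaf 0x65434234753432)))) (.node 4 (.node 2 (.node 1 (.leaf 0x763475434234753432) (.leaf 0x6475434234753432)) (.node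 1 (.leaf 0x453434623432) (.leaf 0x76434754123432))) (.node 2 (.node 1 (.leaf 0x643475434523473432) (.leaf 0x764534234753432)) (.node 1 (.leaf 0x23423476434123432) (.leaf 0x47234345234234623432))))) (.node 8 (.node 4 (.node 2 (.node 1 (.leaf 0x54754342347123432) (.leaf 0x4763434723434123432)) (.node 1 (.leaf 0x47645342347123432) (.leaf 0x7452347643423476432))) (.node 2 (.node 1 (.leaf 0x4542347643423473432) (.leaf 0x4534342346423432)) (.node 1 (.leaf 0x45234634723434623432) (.leaf 0x534634345234723432)))) (.node 4 (.node 2 (.node 1 (.leaf 0x2343423467423432) (.leaf 0x465347343423473432)) (.node 1 (.leaf 0x3476434123476432) (.leaf 0x34673423463423432))) (.node 2 (.node 1 (.leaf 0x234674347123432) (.leaf 0x47434234764123432)) (.node 1 (.leaf 0x343423476423432) (.leaf 0x34634723434123432)))))) (.node 16 (.node 8 (.node 4 (.node 2 (.node 1 (.leaf 0x763423462343423432) (.leaf 0x7423476432)) (.node 1 (.leaf 0x72341234723432) (.leaf 0x64543423476432)))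 (.node 2 (.node 1 (.leaf 0x734523476423432) (.leaf 0x7643423476432)) (.node 1 (.leaf 0x534723434723432) (.leaf 0x674634723465423432)))) (.node 4 (.node 2 (.node 1 (.leaf 0x2345234723432) (.leaf 0x34723465423432)) (.node 1 (.leaf 0x6474543423476432) (.leaf 0x6723423473423432))) (.node 2 (.node 1 (.leaf 0x753423464342346423432) (.leaf 0x64534764234623432)) (.node 1 (.leaf 0x764534764234623432) (.leaf 0x7634764234623432))))) (.node 8 (.node 4 (.node 2 (.node 1 (.leaf 0x23473434623434123432) (.leaf 0x4234346453423463432)) (.node 1 (.leaf 0x46452343423476432) (.leaf 0x734674345234723432))) (.node 2 (.node 1 (.leaf 0x647542346423432) (.leaf 0x6723434523434623432)) (.node 1 (.leaf 0x6475434623432) (.leaf 0x6123434234534623432)))) (.node 4 (.node 2 (.node 1 (.leaf 0x34674534234723432) (.leaf 0x7234123473423432)) (.node 1 (.leaf 0x47345234623432) (.leaf 0x2345234346423432))) (.node 2 (.node 1 (.leaf 0x2347434234123476432) (.leaf 0x434634123432))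 (.node 1 (.leaf 0x234623434623432) (.leaf 0x3472343465423432)))))))

def classATree_12 : Tree :=
  .node 64 (.node 32 (.node 16 (.node 8 (.node 4 (.node 2 (.node 1 (.leaf 0x34764234723432) (.leaf 0x65475434234653432)) (.node 1 (.leaf 0x234753434123467432) (.leaf 0x3454234623432))) (.node 2 (.node 1 (.leaf 0x54753434234623432) (.leaf 0x4641234234234623432)) (.node 1 (.leaf 0x6347642346123432) (.leaf 0x734654234623432)))) (.node 4 (.node 2 (.node 1 (.leaf 0x234723453423432) (.leaf 0x3423474342347423432)) (.node 1 (.leaf 0x75341234623432) (.leaf 0x5341234623432))) (.node 2 (.node 1 (.leaf 0x7645347642346123432) (.leaf 0x54123476432)) (.node 1 (.leaf 0x7342343423463432) (.leaf 0x543464534234623432))))) (.node 8 (.node 4 (.node 2 (.node 1 (.leaf 0x76342346347423432) (.leaf 0x734643453423476432)) (.node 1 (.leaf 0x73423463423432) (.leaf 0x547123434123432))) (.node 2 (.node 1 (.leaf 0x634723465423432) (.leaf 0x54673423467432)) (.node 1 (.leaf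 0x7346523434123432) (.leaf 0x6423423473423432)))) (.node 4 (.node 2 (.node 1 (.leaf 0x34234764346123432) (.leaf 0x76423423473423432)) (.node 1 (.leaf 0x7643464542346423432) (.leaf 0x234734623434123432))) (.node 2 (.node 1 (.leaf 0x34234347423432) (.leaf 0x547453423467432)) (.node 1 (.leaf 0x34234234723432) (.leaf 0x7454346345234623432)))))) (.node 16 (.node 8 (.node 4 (.node 2 (.node 1 (.leaf 0x3434723434723432) (.leaf 0x6745347641234623432)) (.node 1 (.leaf 0x346743423476432) (.leaf 0x754672343423432))) (.node 2 (.node 1 (.leaf 0x4346534123476432) (.leaf 0x4674634123467432)) (.node 1 (.leaf 0x7342341234723432) (.leaf 0x4346534234623432)))) (.node 4 (.node 2 (.node 1 (.leaf 0x734674534123476432) (.leaf 0x476234234123432)) (.node 1 (.leaf 0x473423467432) (.leaf 0x723423473423432))) (.node 2 (.node 1 (.leaf 0x64347645234623432) (.leaf 0x4346534234753432)) (.node 1 (.leaf 0x634534723434123432) (.leaf 0x4723434123473432))))) (.node 8 (.node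 4 (.node 2 (.node 1 (.leaf 0x54764343423463432) (.leaf 0x642347434234623432)) (.node 1 (.leaf 0x5434347434234653432) (.leaf 0x3463423463423432))) (.node 2 (.node 1 (.leaf 0x74654753423467432) (.leaf 0x34345423476423432)) (.node 1 (.leaf 0x54123463423476432) (.leaf 0x3476453423476432)))) (.node 4 (.node 2 (.node 1 (.leaf 0x234674534723432) (.leaf 0x623473463423473432)) (.node 1 (.leaf 0x654723423465432) (.leaf 0x65423467432))) (.node 2 (.node 1 (.leaf 0x7434234643432) (.leaf 0x4674634234743432)) (.node 1 (.leaf 0x47434634123467432) (.leaf 0x764734234654123432))))))) (.node 32 (.node 16 (.node 8 (.node 4 (.node 2 (.node 1 (.leaf 0x4634123463423467432) (.leaf 0x54347543423473432)) (.node 1 (.leaf 0x764346542346123432) (.leaf 0x547464343423463432))) (.node 2 (.node 1 (.leaf 0x647123423473423432) (.leaf 0x4723434647423432)) (.node 1 (.leaf 0x634234612343423432) (.leaf 0x46454346534234623432)))) (.node 4 (.node 2 (.node 1 (.leaf 0x34764734123467432)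 (.leaf 0x4654753423467432)) (.node 1 (.leaf 0x73463423463423432) (.leaf 0x34746453423476432))) (.node 2 (.node 1 (.leaf 0x47463423467432) (.leaf 0x34645343423476432)) (.node 1 (.leaf 0x34234634123432) (.leaf 0x4723434123432))))) (.node 8 (.node 4 (.node 2 (.node 1 (.leaf 0x434645341234623432) (.leaf 0x46734123467432)) (.node 1 (.leaf 0x234234234623432) (.leaf 0x34652343423432))) (.node 2 (.node 1 (.leaf 0x6342345347423432) (.leaf 0x4234634234674123432)) (.node 1 (.leaf 0x474345234623432) (.leaf 0x234734234123476432)))) (.node 4 (.node 2 (.node 1 (.leaf 0x34723434654123432) (.leaf 0x23472343423432)) (.node 1 (.leaf 0x64745434234653432) (.leaf 0x2347453434123467432))) (.node 2 (.node 1 (.leaf 0x7434634123432) (.leaf 0x2345234734123432)) (.node 1 (.leaf 0x23452343464123432) (.leaf 0x3423476434623432)))))) (.node 16 (.node 8 (.node 4 (.node 2 (.node 1 (.leaf 0x4123423423465432) (.leaf 0x723462342346123432)) (.node 1 (.leaf 0x65423464123432)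 (.leaf 0x23474634723434623432))) (.node 2 (.node 1 (.leaf 0x6454346123432) (.leaf 0x534764534234753432)) (.node 1 (.leaf 0x7634754342346423432) (.leaf 0x7234346342346123432)))) (.node 4 (.node 2 (.node 1 (.leaf 0x54642347342347423432) (.leaf 0x643464542346423432)) (.node 1 (.leaf 0x346543452343423465432) (.leaf 0x6452343423475432))) (.node 2 (.node 1 (.leaf 0x652343423475432) (.leaf 0x62343423475432)) (.node 1 (.leaf 0x347541234723432) (.leaf 0x42347453423476432))))) (.node 8 (.node 4 (.node 2 (.node 1 (.leaf 0x6746347542347123432) (.leaf 0x5347623434123432)) (.node 1 (.leaf 0x3452346743423467432) (.leaf 0x412346343423476432))) (.node 2 (.node 1 (.leaf 0x53476423453423432) (.leaf 0x3423473423474123432)) (.node 1 (.leaf 0x467434654234623432) (.leaf 0x6234234754123432)))) (.node 4 (.node 2 (.node 1 (.leaf 0x347542347123432) (.leaf 0x34123476434123467432)) (.node 1 (.leaf 0x742347453423476432) (.leaf 0x464347623434123432))) (.node 2 (.node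 1 (.leaf 0x34234734347123432) (.leaf 0x6123423475423432)) (.node 1 (.leaf 0x674234234754123432) (.leaf 0x3434634342346423432)))))))

def classATree_13 : Tree :=
  .node 64 (.node 32 (.node 16 (.node 8 (.node 4 (.node 2 (.node 1 (.leaf 0x2342346743423432) (.leaf 0x6474234523475423432)) (.node 1 (.leaf 0x2342346745343423432) (.leaf 0x43471234346454234723432))) (.node 2 (.node 1 (.leaf 0x5347612343423432) (.leaf 0x6476347542347123432)) (.node 1 (.leaf 0x6547234523475423432) (.leaf 0x634234654347423432)))) (.node 4 (.node 2 (.node 1 (.leaf 0x3452346452343423476432) (.leaf 0x64234523475423432)) (.node 1 (.leaf 0x53467452343423432) (.leaf 0x6342346343423473432))) (.node 2 (.node 1 (.leaf 0x234234734234723432) (.leaf 0x6342346342346423432)) (.node 1 (.leaf 0x346543423453423465432) (.leaf 0x6423453423475432))))) (.node 8 (.node 4 (.node 2 (.node 1 (.leaf 0x623453423475432) (.leaf 0x612343423475432)) (.node 1 (.leaf 0x46434762343423432) (.leaf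 0x6723434623476432))) (.node 2 (.node 1 (.leaf 0x34754234723432) (.leaf 0x53476452343423432)) (.node 1 (.leaf 0x43461234347454234623432) (.leaf 0x42346343423476432)))) (.node 4 (.node 2 (.node 1 (.leaf 0x347346434234723432) (.leaf 0x534762343423432)) (.node 1 (.leaf 0x547234234234653432) (.leaf 0x643464234346423432))) (.node 2 (.node 1 (.leaf 0x6342346543474123432) (.leaf 0x64523423475423432)) (.node 1 (.leaf 0x53467423453423432) (.leaf 0x34523467434123467432)))))) (.node 16 (.node 8 (.node 4 (.node 2 (.node 1 (.leaf 0x534763452343423432) (.leaf 0x3412347643423467432)) (.node 1 (.leaf 0x623423475423432) (.leaf 0x2342347645343423432))) (.node 2 (.node 1 (.leaf 0x547346543423463432) (.leaf 0x423474234234623432)) (.node 1 (.leaf 0x3423473434723432) (.leaf 0x72342347342347123432)))) (.node 4 (.node 2 (.node 1 (.leaf 0x6523434623476432) (.leaf 0x4723452347643423476432)) (.node 1 (.leaf 0x4643476452343423432) (.leaf 0x472341234234653432)))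 (.node 2 (.node 1 (.leaf 0x347454234723432) (.leaf 0x746434762343423432)) (.node 1 (.leaf 0x23423467434123432) (.leaf 0x7342347342347423432))))) (.node 8 (.node 4 (.node 2 (.node 1 (.leaf 0x342347342347423432) (.leaf 0x2342347342347123432)) (.node 1 (.leaf 0x23473452347423432) (.leaf 0x762347343423463432))) (.node 2 (.node 1 (.leaf 0x76452347343423463432) (.leaf 0x64234346542347123432)) (.node 1 (.leaf 0x4743463453423473432) (.leaf 0x54347543423463432)))) (.node 4 (.node 2 (.node 1 (.leaf 0x34347543423463432) (.leaf 0x523434643423473432)) (.node 1 (.leaf 0x743412343423473432) (.leaf 0x67467434523463432))) (.node 2 (.node 1 (.leaf 0x4754345234723432) (.leaf 0x47234634523475423432)) (.node 1 (.leaf 0x453434743423476432) (.leaf 0x754123476432))))))) (.node 32 (.node 16 (.node 8 (.node 4 (.node 2 (.node 1 (.leaf 0x734342346423432) (.leaf 0x4734534712343423432)) (.node 1 (.leaf 0x4723462342346123432) (.leaf 0x53423464342346123432))) (.node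 2 (.node 1 (.leaf 0x7342347343423467432) (.leaf 0x634346434123463432)) (.node 1 (.leaf 0x54746434234723432) (.leaf 0x474234634234754123432)))) (.node 4 (.node 2 (.node 1 (.leaf 0x475434234723432) (.leaf 0x3423473434234623432)) (.node 1 (.leaf 0x12346434523475423432) (.leaf 0x523463434123463432))) (.node 2 (.node 1 (.leaf 0x43465434234643432) (.leaf 0x723463423476432)) (.node 1 (.leaf 0x67234346542347123432) (.leaf 0x43473454234623432))))) (.node 8 (.node 4 (.node 2 (.node 1 (.leaf 0x46454341234723432) (.leaf 0x4654345423463432)) (.node 1 (.leaf 0x72343465423467432) (.leaf 0x47464341234723432))) (.node 2 (.node 1 (.leaf 0x4523476434123476432) (.leaf 0x123434123463423432)) (.node 1 (.leaf 0x54234123473423432) (.leaf 0x2346523473423463432)))) (.node 4 (.node 2 (.node 1 (.leaf 0x23475434123467432) (.leaf 0x64764534234653432)) (.node 1 (.leaf 0x423474345234723432) (.leaf 0x653434643423463432))) (.node 2 (.node 1 (.leaf 0x6347542346423432)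 (.leaf 0x234743412347423432)) (.node 1 (.leaf 0x4234623434723432) (.leaf 0x54123474342347123432)))))) (.node 16 (.node 8 (.node 4 (.node 2 (.node 1 (.leaf 0x4123423473423432) (.leaf 0x4234623434234743432)) (.node 1 (.leaf 0x7234234643423473432) (.leaf 0x65476434234653432))) (.node 2 (.node 1 (.leaf 0x63476434234653432) (.leaf 0x46543434234643432)) (.node 1 (.leaf 0x734634342347123432) (.leaf 0x4234645343423476432)))) (.node 4 (.node 2 (.node 1 (.leaf 0x54654345234723432) (.leaf 0x72346534123476432)) (.node 1 (.leaf 0x4234634234654123432) (.leaf 0x23475463452343423432))) (.node 2 (.node 1 (.leaf 0x43423453475423432) (.leaf 0x12346343423463432)) (.node 1 (.leaf 0x465434234653432) (.leaf 0x723434623453476432))))) (.node 8 (.node 4 (.node 2 (.node 1 (.leaf 0x472343423473432) (.leaf 0x7642341234734123432)) (.node 1 (.leaf 0x654342346347423432) (.leaf 0x4723453475423432))) (.node 2 (.node 1 (.leaf 0x4654346342346123432) (.leaf 0x4654734123467432))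 (.node 1 (.leaf 0x7543473423467432) (.leaf 0x76476473423467432)))) (.node 4 (.node 2 (.node 1 (.leaf 0x53474643423476432) (.leaf 0x62347343423463432)) (.node 1 (.leaf 0x23453465343423463432) (.leaf 0x74234346453423463432))) (.node 2 (.node 1 (.leaf 0x746452343423476432) (.leaf 0x34674345234723432)) (.node 1 (.leaf 0x6475423464123432) (.leaf 0x6723434234534623432)))))))

def classATree_14 : Tree :=
  .node 64 (.node 32 (.node 16 (.node 8 (.node 4 (.node 2 (.node 1 (.leaf 0x76475434623432) (.leaf 0x6123434523434623432)) (.node 1 (.leaf 0x534674342347123432) (.leaf 0x4742343423473432))) (.node 2 (.node 1 (.leaf 0x642341234734123432) (.leaf 0x54346347234234123432)) (.node 1 (.leaf 0x74654734123467432) (.leaf 0x543473423467432)))) (.node 4 (.node 2 (.node 1 (.leaf 0x6476473423467432) (.leaf 0x674342346347423432)) (.node 1 (.leaf 0x5347643423476432) (.leaf 0x2346745347123432))) (.node 2 (.node 1 (.leaf 0x752346343423463432) (.leaf 0x75234634523465423432))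 (.node 1 (.leaf 0x23475434234734123432) (.leaf 0x234634123476432))))) (.node 8 (.node 4 (.node 2 (.node 1 (.leaf 0x4234764345423473432) (.leaf 0x234734123467432)) (.node 1 (.leaf 0x754345423463432) (.leaf 0x746534734234623432))) (.node 2 (.node 1 (.leaf 0x7543454234723432) (.leaf 0x4674123432)) (.node 1 (.leaf 0x654234753432) (.leaf 0x6475434234743432)))) (.node 4 (.node 2 (.node 1 (.leaf 0x4346723434123432) (.leaf 0x6743464543423432)) (.node 1 (.leaf 0x643475434123473432) (.leaf 0x4346743423432))) (.node 2 (.node 1 (.leaf 0x65234234234753432) (.leaf 0x543467452343423432)) (.node 1 (.leaf 0x45342341234623432) (.leaf 0x346434234674123432)))))) (.node 16 (.node 8 (.node 4 (.node 2 (.node 1 (.leaf 0x5434674612343423432) (.leaf 0x463454234723432)) (.node 1 (.leaf 0x23474234123476432) (.leaf 0x74234623473423476432))) (.node 2 (.node 1 (.leaf 0x4534234653432) (.leaf 0x3465434234653432)) (.node 1 (.leaf 0x723434754123476432) (.leaf 0x7423462341234623432))))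 (.node 4 (.node 2 (.node 1 (.leaf 0x234743452343423432) (.leaf 0x2343475423476432)) (.node 1 (.leaf 0x673465434234653432) (.leaf 0x4234764534234753432))) (.node 2 (.node 1 (.leaf 0x7546341234723432) (.leaf 0x234647434123476432)) (.node 1 (.leaf 0x453463434234653432) (.leaf 0x23473423453423432))))) (.node 8 (.node 4 (.node 2 (.node 1 (.leaf 0x23473423467432) (.leaf 0x75434234653432)) (.node 1 (.leaf 0x46453423463423432) (.leaf 0x6434234764123432))) (.node 2 (.node 1 (.leaf 0x45346342346123432) (.leaf 0x46712343423432)) (.node 1 (.leaf 0x753467434123476432) (.leaf 0x47234123476432)))) (.node 4 (.node 2 (.node 1 (.leaf 0x4645342343423463432) (.leaf 0x453423474123432)) (.node 1 (.leaf 0x6234734234623432) (.leaf 0x43423412347423432))) (.node 2 (.node 1 (.leaf 0x6347346723434123432) (.leaf 0x54754341234723432)) (.node 1 (.leaf 0x5423452342347123432) (.leaf 0x672343452343465423432))))))) (.node 32 (.node 16 (.node 8 (.node 4 (.node 2 (.node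 1 (.leaf 0x234653423467423432) (.leaf 0x23475463423467432)) (.node 1 (.leaf 0x47542346743423476432) (.leaf 0x1234653473423463432))) (.node 2 (.node 1 (.leaf 0x342343423463432) (.leaf 0x6342346347423432)) (.node 1 (.leaf 0x4543464342346123432) (.leaf 0x346523434123432)))) (.node 4 (.node 2 (.node 1 (.leaf 0x54712343423432) (.leaf 0x754673423467432)) (.node 1 (.leaf 0x3423463423432) (.leaf 0x543462343475432))) (.node 2 (.node 1 (.leaf 0x34643453423476432) (.leaf 0x423476453423473432)) (.node 1 (.leaf 0x453434234643432) (.leaf 0x4647434234653432))))) (.node 8 (.node 4 (.node 2 (.node 1 (.leaf 0x54342343423473432) (.leaf 0x76234534634234723432)) (.node 1 (.leaf 0x12343423463423432) (.leaf 0x5423423473423432))) (.node 2 (.node 1 (.leaf 0x4523464234234623432) (.leaf 0x423474342347123432)) (.node 1 (.leaf 0x4654342341234623432) (.leaf 0x34234743412347423432)))) (.node 4 (.node 2 (.node 1 (.leaf 0x7464345234623432) (.leaf 0x54645341234623432))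 (.node 1 (.leaf 0x464345234623432) (.leaf 0x2343463453423463432))) (.node 2 (.node 1 (.leaf 0x5434234234623432) (.leaf 0x5476453423473423432)) (.node 1 (.leaf 0x4341234234623432) (.leaf 0x74534634123476432)))))) (.node 16 (.node 8 (.node 4 (.node 2 (.node 1 (.leaf 0x4723434234534623432) (.leaf 0x2343465434234653432)) (.node 1 (.leaf 0x4647434234723432) (.leaf 0x64746434234723432))) (.node 2 (.node 1 (.leaf 0x452347643423476432) (.leaf 0x74534342346423432)) (.node 1 (.leaf 0x4653473463423473432) (.leaf 0x745234634723434623432)))) (.node 4 (.node 2 (.node 1 (.leaf 0x673463434234753432) (.leaf 0x6534346343423463432)) (.node 1 (.leaf 0x34342346423432) (.leaf 0x6742346743423476432))) (.node 2 (.node 1 (.leaf 0x342347343423467432) (.leaf 0x4347346542346123432)) (.node 1 (.leaf 0x5476434234723432) (.leaf 0x6452346743423476432))))) (.node 8 (.node 4 (.node 2 (.node 1 (.leaf 0x4745434234723432) (.leaf 0x47234634234754123432)) (.node 1 (.leaf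 0x47543423473423432) (.leaf 0x654123423473423432))) (.node 2 (.node 1 (.leaf 0x73464234234623432) (.leaf 0x234347434234643432)) (.node 1 (.leaf 0x453473434123473432) (.leaf 0x47454343423463432)))) (.node 4 (.node 2 (.node 1 (.leaf 0x43434723434723432) (.leaf 0x463473423467432)) (.node 1 (.leaf 0x546743423467432) (.leaf 0x23473434723432))) (.node 2 (.node 1 (.leaf 0x234123473423432) (.leaf 0x645347642346123432)) (.node 1 (.leaf 0x743467463423476432) (.leaf 0x34534734523463432)))))))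

def classATree_15 : Tree :=
  .node 64 (.node 32 (.node 16 (.node 8 (.node 4 (.node 2 (.node 1 (.leaf 0x734234347423432) (.leaf 0x423463453423473432)) (.node 1 (.leaf 0x54672343423432) (.leaf 0x454346345234623432))) (.node 2 (.node 1 (.leaf 0x65434523476423432) (.leaf 0x734234234723432)) (.node 1 (.leaf 0x54753423467432) (.leaf 0x7346743423476432)))) (.node 4 (.node 2 (.node 1 (.leaf 0x73423474342347423432) (.leaf 0x7464341234623432)) (.node 1 (.leaf 0x234734634234743432) (.leaf 0x4734534234347423432))) (.node 2 (.node 1 (.leaf 0x43467463423476432) (.leaf 0x4534643423476432)) (.node 1 (.leaf 0x4534634123476432) (.leaf 0x543473434234743432))))) (.node 8 (.node 4 (.node 2 (.node 1 (.leaf 0x4341234723432) (.leaf 0x434523463432)) (.node 1 (.leaf 0x2347453423467432) (.leaf 0x34342347643423467432))) (.node 2 (.node 1 (.leaf 0x643465434234653432) (.leaf 0x7234653423476432)) (.node 1 (.leaf 0x123463434123463432) (.leaf 0x4523474643423476432))))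 (.node 4 (.node 2 (.node 1 (.leaf 0x476434234734123432) (.leaf 0x7453434234643432)) (.node 1 (.leaf 0x3465347342347123432) (.leaf 0x74647434234653432))) (.node 2 (.node 1 (.leaf 0x754342343423473432) (.leaf 0x6234534634234723432)) (.node 1 (.leaf 0x46347543423463432) (.leaf 0x75423423473423432)))))) (.node 16 (.node 8 (.node 4 (.node 2 (.node 1 (.leaf 0x74523464234234623432) (.leaf 0x7423474342347123432)) (.node 1 (.leaf 0x64523473432) (.leaf 0x76475434234743432))) (.node 2 (.node 1 (.leaf 0x5467423432) (.leaf 0x453476452343423432)) (.node 1 (.leaf 0x74346723434123432) (.leaf 0x343473434723432)))) (.node 4 (.node 2 (.node 1 (.leaf 0x674347541234723432) (.leaf 0x45434672343423432)) (.node 1 (.leaf 0x74346743423432) (.leaf 0x7423463423464123432))) (.node 2 (.node 1 (.leaf 0x2347543412347423432) (.leaf 0x463434234643432)) (.node 1 (.leaf 0x74534234653432) (.leaf 0x2347234123476432))))) (.node 8 (.node 4 (.node 2 (.node 1 (.leaf 0x4234623473423476432)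 (.leaf 0x23434754123476432)) (.node 1 (.leaf 0x73465434234653432) (.leaf 0x23473452343423432))) (.node 2 (.node 1 (.leaf 0x423462341234623432) (.leaf 0x546341234723432)) (.node 1 (.leaf 0x7234647434123476432) (.leaf 0x434612343475423432)))) (.node 4 (.node 2 (.node 1 (.leaf 0x34654345423463432) (.leaf 0x72343475423476432)) (.node 1 (.leaf 0x47234342347346423432) (.leaf 0x234743423453423432))) (.node 2 (.node 1 (.leaf 0x234743423467432) (.leaf 0x5434234653432)) (.node 1 (.leaf 0x54342347423432) (.leaf 0x5464234234234623432))))))) (.node 32 (.node 16 (.node 8 (.node 4 (.node 2 (.node 1 (.leaf 0x546723434123432) (.leaf 0x346743423467423432)) (.node 1 (.leaf 0x543465341234623432) (.leaf 0x546434234634123432))) (.node 2 (.node 1 (.leaf 0x5467463423467432) (.leaf 0x54734123467432)) (.node 1 (.leaf 0x23473434234743432) (.leaf 0x234634523467423432)))) (.node 4 (.node 2 (.node 1 (.leaf 0x43475434123463432) (.leaf 0x4234623434234623432)) (.node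 1 (.leaf 0x473463453423473432) (.leaf 0x54647434523463432))) (.node 2 (.node 1 (.leaf 0x43412343423473432) (.leaf 0x123434643423473432)) (.node 1 (.leaf 0x474234634523475423432) (.leaf 0x47543454234723432))))) (.node 8 (.node 4 (.node 2 (.node 1 (.leaf 0x654341234347423432) (.leaf 0x7645342345347423432)) (.node 1 (.leaf 0x343473434234653432) (.leaf 0x23467434723432))) (.node 2 (.node 1 (.leaf 0x45347234123476432) (.leaf 0x34534743423467432)) (.node 1 (.leaf 0x7643423476423432) (.leaf 0x643461234234623432)))) (.node 4 (.node 2 (.node 1 (.leaf 0x674654342347423432) (.leaf 0x23434743423476432)) (.node 1 (.leaf 0x645342345347423432) (.leaf 0x4346234723434623432))) (.node 2 (.node 1 (.leaf 0x645346452343423432) (.leaf 0x43476423463423432)) (.node 1 (.leaf 0x53476473423467432) (.leaf 0x723467434723432)))))) (.node 16 (.node 8 (.node 4 (.node 2 (.node 1 (.leaf 0x643423476423432) (.leaf 0x3465434623475423432)) (.node 1 (.leaf 0x34723463423453423432)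 (.leaf 0x42346123434723432))) (.node 2 (.node 1 (.leaf 0x74342346534234623432) (.leaf 0x4534234347423432)) (.node 1 (.leaf 0x42346123434234623432) (.leaf 0x434234723434623432)))) (.node 4 (.node 2 (.node 1 (.leaf 0x543434234643432) (.leaf 0x546474534234653432)) (.node 1 (.leaf 0x45234234234723432) (.leaf 0x34642347343423463432))) (.node 2 (.node 1 (.leaf 0x5434653423476432) (.leaf 0x23473465423474123432)) (.node 1 (.leaf 0x476347543423463432) (.leaf 0x754234123473423432))))) (.node 8 (.node 4 (.node 2 (.node 1 (.leaf 0x4523462343423463432) (.leaf 0x4764341234723432)) (.node 1 (.leaf 0x74523476434123476432) (.leaf 0x346345434234723432))) (.node 2 (.node 1 (.leaf 0x234754234123476432) (.leaf 0x764764534234653432)) (.node 1 (.leaf 0x7423474345234723432) (.leaf 0x74634234234623432)))) (.node 4 (.node 2 (.node 1 (.leaf 0x4634234234623432) (.leaf 0x64123473434123463432)) (.node 1 (.leaf 0x51234346342346123432) (.leaf 0x72343463453423463432)))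 (.node 2 (.node 1 (.leaf 0x23472346234347123432) (.leaf 0x74234623434723432)) (.node 1 (.leaf 0x74123423473423432) (.leaf 0x74234623434234743432)))))))

def classATree_16 : Tree :=
  .node 64 (.node 32 (.node 16 (.node 8 (.node 4 (.node 2 (.node 1 (.leaf 0x234234643423473432) (.leaf 0x2347543423467432)) (.node 1 (.leaf 0x6476434523463432) (.leaf 0x34634342347123432))) (.node 2 (.node 1 (.leaf 0x64764341234723432) (.leaf 0x4754341234734123432)) (.node 1 (.leaf 0x7467453423467432) (.leaf 0x467434123467432)))) (.node 4 (.node 2 (.node 1 (.leaf 0x623434653423432) (.leaf 0x54634734123467432)) (.node 1 (.leaf 0x34642341234623432) (.leaf 0x454347343423473432))) (.node 2 (.node 1 (.leaf 0x764234123473423432) (.leaf 0x2346234734123463432)) (.node 1 (.leaf 0x46474342347423432) (.leaf 0x475463423473423432))))) (.node 8 (.node 4 (.node 2 (.node 1 (.leaf 0x7434523463432) (.leaf 0x2345346345234623432)) (.node 1 (.leaf 0x74341234723432) (.leaf 0x234753423467432)))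 (.node 2 (.node 1 (.leaf 0x23453467434234653432) (.leaf 0x234653423476432)) (.node 1 (.leaf 0x7643465434234653432) (.leaf 0x2347534623453423432)))) (.node 4 (.node 2 (.node 1 (.leaf 0x5234634234234623432) (.leaf 0x7467434123467432)) (.node 1 (.leaf 0x464534234234723432) (.leaf 0x467453423467432))) (.node 2 (.node 1 (.leaf 0x7454347343423473432) (.leaf 0x642343465423432)) (.node 1 (.leaf 0x734642341234623432) (.leaf 0x64234123473423432)))))) (.node 16 (.node 8 (.node 4 (.node 2 (.node 1 (.leaf 0x2347534634234743432) (.leaf 0x746474342347423432)) (.node 1 (.leaf 0x64234634234754123432) (.leaf 0x7234634123476432))) (.node 2 (.node 1 (.leaf 0x52346343423463432) (.leaf 0x5234634523465423432)) (.node 1 (.leaf 0x74234764345423473432) (.leaf 0x2347434123467432)))) (.node 4 (.node 2 (.node 1 (.leaf 0x54345423463432) (.leaf 0x543454234723432)) (.node 1 (.leaf 0x46534734234623432) (.leaf 0x476434123473423432))) (.node 2 (.node 1 (.leaf 0x754342347423432)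 (.leaf 0x6746234234234623432)) (.node 1 (.leaf 0x7546723434123432) (.leaf 0x547434123467432))))) (.node 8 (.node 4 (.node 2 (.node 1 (.leaf 0x34542342347123432) (.leaf 0x7543465341234623432)) (.node 1 (.leaf 0x67453423476423432) (.leaf 0x53467453423476432))) (.node 2 (.node 1 (.leaf 0x674342345347423432) (.leaf 0x4346453423476432)) (.node 1 (.leaf 0x5341234234723432) (.leaf 0x746712343423432)))) (.node 4 (.node 2 (.node 1 (.leaf 0x474234123476432) (.leaf 0x53467434123476432)) (.node 1 (.leaf 0x745346342346123432) (.leaf 0x76434234764123432))) (.node 2 (.node 1 (.leaf 0x4234634523467423432) (.leaf 0x7453423474123432)) (.node 1 (.leaf 0x76234734234623432) (.leaf 0x4723434523434623432))))))) (.node 32 (.node 16 (.node 8 (.node 4 (.node 2 (.node 1 (.leaf 0x4342346534234623432) (.leaf 0x742346123434723432)) (.node 1 (.leaf 0x74534234347423432) (.leaf 0x62343465342347123432))) (.node 2 (.node 1 (.leaf 0x7543434234643432) (.leaf 0x346347534234723432))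 (.node 1 (.leaf 0x745234234234723432) (.leaf 0x674674534234653432)))) (.node 4 (.node 2 (.node 1 (.leaf 0x63423464342346423432) (.leaf 0x234754342347423432)) (.node 1 (.leaf 0x74634234723432) (.leaf 0x1234634234234623432))) (.node 2 (.node 1 (.leaf 0x7423476423464123432) (.leaf 0x67234634523475423432)) (.node 1 (.leaf 0x4764342347123432) (.leaf 0x472346234234623432))))) (.node 8 (.node 4 (.node 2 (.node 1 (.leaf 0x234346534234623432) (.leaf 0x75434234723432)) (.node 1 (.leaf 0x474543423473423432) (.leaf 0x41234643423476432))) (.node 2 (.node 1 (.leaf 0x3464234234623432) (.leaf 0x234623473423463432)) (.node 1 (.leaf 0x434734543423473432) (.leaf 0x4754343423463432)))) (.node 4 (.node 2 (.node 1 (.leaf 0x54674234123476432) (.leaf 0x234734347123432)) (.node 1 (.leaf 0x7546743423467432) (.leaf 0x6347543423467432))) (.node 2 (.node 1 (.leaf 0x464341234623432) (.leaf 0x7234643473423476432)) (.node 1 (.leaf 0x45342347123432) (.leaf 0x5465347341234623432))))))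 (.node 16 (.node 8 (.node 4 (.node 2 (.node 1 (.leaf 0x43467462343423432) (.leaf 0x5465342347123432)) (.node 1 (.leaf 0x723464743423476432) (.leaf 0x4654342347123432))) (.node 2 (.node 1 (.leaf 0x45347341234623432) (.leaf 0x2347543423473423432)) (.node 1 (.leaf 0x234734346123434123432) (.leaf 0x3423474343423463432)))) (.node 4 (.node 2 (.node 1 (.leaf 0x423463423464123432) (.leaf 0x2347346542347423432)) (.node 1 (.leaf 0x234643473423476432) (.leaf 0x2345346342346123432))) (.node 2 (.node 1 (.leaf 0x745342347123432) (.leaf 0x4754634234723432)) (.node 1 (.leaf 0x23464743423476432) (.leaf 0x743467462343423432))))) (.node 8 (.node 4 (.node 2 (.node 1 (.leaf 0x745347341234623432) (.leaf 0x74654342347123432)) (.node 1 (.leaf 0x23474543423473423432) (.leaf 0x4634234723432))) (.node 2 (.node 1 (.leaf 0x543462343475423432) (.leaf 0x23475463423473423432)) (.node 1 (.leaf 0x423476423464123432) (.leaf 0x52346434523475423432)))) (.node 4 (.node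 2 (.node 1 (.leaf 0x47464342347123432) (.leaf 0x4742346234234623432)) (.node 1 (.leaf 0x5434234723432) (.leaf 0x463475342346123432))) (.node 2 (.node 1 (.leaf 0x2346343454234723432) (.leaf 0x634347641234723432)) (.node 1 (.leaf 0x764734123463432) (.leaf 0x7341234734234723432)))))))

def classATree_17 : Tree :=
  .node 64 (.node 32 (.node 16 (.node 8 (.node 4 (.node 2 (.node 1 (.leaf 0x76475434123463432) (.leaf 0x546434123432)) (.node 1 (.leaf 0x34123473423463432) (.leaf 0x65434123463432))) (.node 2 (.node 1 (.leaf 0x3412347342347123432) (.leaf 0x7341234734234653432)) (.node 1 (.leaf 0x7423434234347423432) (.leaf 0x6475434123463432)))) (.node 4 (.node 2 (.node 1 (.leaf 0x464234123432) (.leaf 0x67434123463432)) (.node 1 (.leaf 0x64734123463432) (.leaf 0x341234734234653432))) (.node 2 (.node 1 (.leaf 0x341234734234723432) (.leaf 0x734123473423463432)) (.node 1 (.leaf 0x73412347342347123432) (.leaf 0x423434234347423432))))) (.node 8 (.node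 4 (.node 2 (.node 1 (.leaf 0x34123473432) (.leaf 0x34123432)) (.node 1 (.leaf 0x674634123473432) (.leaf 0x341234734123463432))) (.node 2 (.node 1 (.leaf 0x764234123463432) (.leaf 0x3476434234743432)) (.node 1 (.leaf 0x346743412347423432) (.leaf 0x3412347341234723432)))) (.node 4 (.node 2 (.node 1 (.leaf 0x3412347345234723432) (.leaf 0x734123432)) (.node 1 (.leaf 0x634123463432) (.leaf 0x6341234634234623432))) (.node 2 (.node 1 (.leaf 0x546434123473432) (.leaf 0x34746434234743432)) (.node 1 (.leaf 0x64234123463432) (.leaf 0x5463434674234623432)))))) (.node 16 (.node 8 (.node 4 (.node 2 (.node 1 (.leaf 0x7346743412347423432) (.leaf 0x73412347345234723432)) (.node 1 (.leaf 0x341234634723465432) (.leaf 0x3452343423475432))) (.node 2 (.node 1 (.leaf 0x3452343423476432) (.leaf 0x34523434123476432)) (.node 1 (.leaf 0x712342347342347123432) (.leaf 0x12342347342347123432)))) (.node 4 (.node 2 (.node 1 (.leaf 0x73412347342347423432) (.leaf 0x3412347342347423432))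 (.node 1 (.leaf 0x34123473423474123432) (.leaf 0x63412346343423473432))) (.node 2 (.node 1 (.leaf 0x63412346342346423432) (.leaf 0x1234234734234723432)) (.node 1 (.leaf 0x734647434234643432) (.leaf 0x123467434234643432))))) (.node 8 (.node 4 (.node 2 (.node 1 (.leaf 0x343464534234623432) (.leaf 0x764346434234643432)) (.node 1 (.leaf 0x46543452343423465432) (.leaf 0x46543423453423465432))) (.node 2 (.node 1 (.leaf 0x546347623434123432) (.leaf 0x62347234234623432)) (.node 1 (.leaf 0x467434523434623432) (.leaf 0x4634523434623432)))) (.node 4 (.node 2 (.node 1 (.leaf 0x34623434723465432) (.leaf 0x3465423467432)) (.node 1 (.leaf 0x34754123476432) (.leaf 0x64542343423463432))) (.node 2 (.node 1 (.leaf 0x6534734234643432) (.leaf 0x5234734234643432)) (.node 1 (.leaf 0x54634734234643432) (.leaf 0x546347342347123432))))))) (.node 32 (.node 16 (.node 8 (.node 4 (.node 2 (.node 1 (.leaf 0x523473412347423432) (.leaf 0x346743463423473432)) (.node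 1 (.leaf 0x12347342347423432) (.leaf 0x5346423432))) (.node 2 (.node 1 (.leaf 0x6434623434123463432) (.leaf 0x5234623432)) (.node 1 (.leaf 0x46534734234643432) (.leaf 0x746347345234723432)))) (.node 4 (.node 2 (.node 1 (.leaf 0x64234234123463432) (.leaf 0x23475434234643432)) (.node 1 (.leaf 0x47412346342346123432) (.leaf 0x763473452346423432))) (.node 2 (.node 1 (.leaf 0x63475463423467432) (.leaf 0x54742346345234623432)) (.node 1 (.leaf 0x54753434234723432) (.leaf 0x7346434234623432))))) (.node 8 (.node 4 (.node 2 (.node 1 (.leaf 0x547234347123432) (.leaf 0x47645234234653432)) (.node 1 (.leaf 0x5463473423463432) (.leaf 0x53475343423473432))) (.node 2 (.node 1 (.leaf 0x53464341234623432) (.leaf 0x47343454234723432)) (.node 1 (.leaf 0x763475342346423432) (.leaf 0x74346434234743432)))) (.node 4 (.node 2 (.node 1 (.leaf 0x76423463423467432) (.leaf 0x674123473423476432)) (.node 1 (.leaf 0x467343423463423432) (.leaf 0x623473434234623432)))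 (.node 2 (.node 1 (.leaf 0x5423463423467432) (.leaf 0x47123434723432)) (.node 1 (.leaf 0x54764234234653432) (.leaf 0x5472346342346123432)))))) (.node 16 (.node 8 (.node 4 (.node 2 (.node 1 (.leaf 0x53473453423473432) (.leaf 0x4712346345234623432)) (.node 1 (.leaf 0x41234634123467432) (.leaf 0x523474342347423432))) (.node 2 (.node 1 (.leaf 0x74123463423467432) (.leaf 0x6423473423476432)) (.node 1 (.leaf 0x2346474534234723432) (.leaf 0x2346474345234723432)))) (.node 4 (.node 2 (.node 1 (.leaf 0x12342346434234643432) (.leaf 0x63423464534234623432)) (.node 1 (.leaf 0x434634723465432) (.leaf 0x45346234234643432))) (.node 2 (.node 1 (.leaf 0x534734123463432) (.leaf 0x4764534712343423432)) (.node 1 (.leaf 0x234346434234643432) (.leaf 0x64523464342346123432))))) (.node 8 (.node 4 (.node 2 (.node 1 (.leaf 0x3423473423453423432) (.leaf 0x234723434234643432)) (.node 1 (.leaf 0x742346743423467432) (.leaf 0x753465434123463432))) (.node 2 (.node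 1 (.leaf 0x6475346543423463432) (.leaf 0x54734234643432)) (.node 1 (.leaf 0x54346542346423432) (.leaf 0x474345234723432)))) (.node 4 (.node 2 (.node 1 (.leaf 0x474534234723432) (.leaf 0x5475341234723432)) (.node 1 (.leaf 0x4654734234643432) (.leaf 0x346543423463432))) (.node 2 (.node 1 (.leaf 0x5463474543423473432) (.leaf 0x234653432)) (.node 1 (.leaf 0x547342347123432) (.leaf 0x623472342347123432)))))))

def classATree_18 : Tree :=
  .node 64 (.node 32 (.node 16 (.node 8 (.node 4 (.node 2 (.node 1 (.leaf 0x64123472342347123432) (.leaf 0x54234734234234723432)) (.node 1 (.leaf 0x74634234743432) (.leaf 0x74346542346123432))) (.node 2 (.node 1 (.leaf 0x76434234643432) (.leaf 0x64754341234643432)) (.node 1 (.leaf 0x654341234643432) (.leaf 0x746423432)))) (.node 4 (.node 2 (.node 1 (.leaf 0x734234643412346423432) (.leaf 0x3423464342346423432)) (.node 1 (.leaf 0x434123474342347423432) (.leaf 0x7465434234743432))) (.node 2 (.node 1 (.leaf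 0x734654234123463432) (.leaf 0x54346454234623432)) (.node 1 (.leaf 0x654123476432) (.leaf 0x7234234234643432))))) (.node 8 (.node 4 (.node 2 (.node 1 (.leaf 0x23434723465432) (.leaf 0x76423476432)) (.node 1 (.leaf 0x53464543423463432) (.leaf 0x346423473434234623432))) (.node 2 (.node 1 (.leaf 0x743465412346423432) (.leaf 0x467434234643432)) (.node 1 (.leaf 0x343474342347423432) (.leaf 0x46745341234723432)))) (.node 4 (.node 2 (.node 1 (.leaf 0x75423463423475432) (.leaf 0x6473464543423463432)) (.node 1 (.leaf 0x7423467432) (.leaf 0x23453476432))) (.node 2 (.node 1 (.leaf 0x4674342347123432) (.leaf 0x475423476432)) (.node 1 (.leaf 0x46123434723465432) (.leaf 0x4623453476432)))))) (.node 16 (.node 8 (.node 4 (.node 2 (.node 1 (.leaf 0x623475432) (.leaf 0x0)) (.node 1 (.leaf 0x4743465432) (.leaf 0x473465432))) (.node 2 (.node 1 (.leaf 0x65423475432) (.leaf 0x6423475432)) (.node 1 (.leaf 0x43476453432) (.leaf 0x45347643432)))) (.node 4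 (.node 2 (.node 1 (.leaf 0x5475423423465432) (.leaf 0x46234234234743432)) (.node 1 (.leaf 0x4234234234743432) (.leaf 0x4764723423465432))) (.node 2 (.node 1 (.leaf 0x47643475423476432) (.leaf 0x476434754123476432)) (.node 1 (.leaf 0x47543475423476432) (.leaf 0x475434754123476432))))) (.node 8 (.node 4 (.node 2 (.node 1 (.leaf 0x3475432) (.leaf 0x463434643432)) (.node 1 (.leaf 0x65343475432) (.leaf 0x6343475432))) (.node 2 (.node 1 (.leaf 0x4643475432) (.leaf 0x3434643432)) (.node 1 (.leaf 0x63434753432) (.leaf 0x47543467432)))) (.node 4 (.node 2 (.node 1 (.leaf 0x475423423465432) (.leaf 0x4754123423465432)) (.node 1 (.leaf 0x547643475423476432) (.leaf 0x5476434754123476432))) (.node 2 (.node 1 (.leaf 0x34754347123432) (.leaf 0x347454347123432)) (.node 1 (.leaf 0x3475434723432) (.leaf 0x34745434723432))))))) (.node 32 (.node 16 (.node 8 (.node 4 (.node 2 (.node 1 (.leaf 0x54346745343423432) (.leaf 0x4347343473423432)) (.node 1 (.leaf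 0x54347645343423432) (.leaf 0x4734654346423432))) (.node 2 (.node 1 (.leaf 0x475432) (.leaf 0x3463434643432)) (.node 1 (.leaf 0x5476432) (.leaf 0x476432)))) (.node 4 (.node 2 (.node 1 (.leaf 0x453476434123432) (.leaf 0x346343464123432)) (.node 1 (.leaf 0x4734645434623432) (.leaf 0x4346745343423432))) (.node 2 (.node 1 (.leaf 0x45347643423432) (.leaf 0x4347645343423432)) (.node 1 (.leaf 0x47346454346123432) (.leaf 0x34634346423432))))) (.node 8 (.node 4 (.node 2 (.node 1 (.leaf 0x75467432) (.leaf 0x6473465432)) (.node 1 (.leaf 0x5423465432) (.leaf 0x4347543423473432))) (.node 2 (.node 1 (.leaf 0x7234634723465432) (.leaf 0x4674346542346123432)) (.node 1 (.leaf 0x7463475463423463432) (.leaf 0x3453434643423473432)))) (.node 4 (.node 2 (.node 1 (.leaf 0x674346542346123432) (.leaf 0x5467234623434723432)) (.node 1 (.leaf 0x4745346543423463432) (.leaf 0x7452343423476423432))) (.node 2 (.node 1 (.leaf 0x34754653423463432) (.leaf 0x5472346234347123432))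 (.node 1 (.leaf 0x54123473432) (.leaf 0x67467434234743432)))))) (.node 16 (.node 8 (.node 4 (.node 2 (.node 1 (.leaf 0x743464234346423432) (.leaf 0x754123432)) (.node 1 (.leaf 0x54746434234743432) (.leaf 0x75465423423475432))) (.node 2 (.node 1 (.leaf 0x73465434623432) (.leaf 0x34734234534723432)) (.node 1 (.leaf 0x34346543474123432) (.leaf 0x745346743423432)))) (.node 4 (.node 2 (.node 1 (.leaf 0x64723423465432) (.leaf 0x75434234643432)) (.node 1 (.leaf 0x6423467432) (.leaf 0x54674634234743432))) (.node 2 (.node 1 (.leaf 0x754347541234723432) (.leaf 0x745346543423463432)) (.node 1 (.leaf 0x746347454234723432) (.leaf 0x54234753432))))) (.node 8 (.node 4 (.node 2 (.node 1 (.leaf 0x75467434234643432) (.leaf 0x7463474543423473432)) (.node 1 (.leaf 0x74123476432) (.leaf 0x475434234643432))) (.node 2 (.node 1 (.leaf 0x4754123432) (.leaf 0x67467453423476432)) (.node 1 (.leaf 0x3434754346423432) (.leaf 0x745423473423467432)))) (.node 4 (.node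 2 (.node 1 (.leaf 0x12343423475432) (.leaf 0x347543423473432)) (.node 1 (.leaf 0x67467463423476432) (.leaf 0x7434674534234623432))) (.node 2 (.node 1 (.leaf 0x6534347123432) (.leaf 0x6345347123432)) (.node 1 (.leaf 0x67467434123476432) (.leaf 0x63473423473423432)))))))

def classATree_19 : Tree :=
  .node 64 (.node 32 (.node 16 (.node 8 (.node 4 (.node 2 (.node 1 (.leaf 0x7465432) (.leaf 0x73465432)) (.node 1 (.leaf 0x23465432) (.leaf 0x734654341234643432))) (.node 2 (.node 1 (.leaf 0x753465434234643432) (.leaf 0x7647346542346123432)) (.node 1 (.leaf 0x712343465432) (.leaf 0x75346543423463432)))) (.node 4 (.node 2 (.node 1 (.leaf 0x7123423465432) (.leaf 0x123467432)) (.node 1 (.leaf 0x64764341234643432) (.leaf 0x65476434234643432))) (.node 2 (.node 1 (.leaf 0x463475434123473432) (.leaf 0x5346347434234623432)) (.node 1 (.leaf 0x75465434234743432) (.leaf 0x73465434123463432))))) (.node 8 (.node 4 (.node 2 (.node 1 (.leaf 0x474346454234623432)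 (.leaf 0x72343423465432)) (.node 1 (.leaf 0x476434754234723432) (.leaf 0x723453423465432))) (.node 2 (.node 1 (.leaf 0x474346542346423432) (.leaf 0x673465434123463432)) (.node 1 (.leaf 0x546347543423473432) (.leaf 0x7423423467434123432)))) (.node 4 (.node 2 (.node 1 (.leaf 0x7465423423475432) (.leaf 0x734645434623432)) (.node 1 (.leaf 0x7453467434123432) (.leaf 0x23465434723465432))) (.node 2 (.node 1 (.leaf 0x734654346123432) (.leaf 0x74654341234743432)) (.node 1 (.leaf 0x73464543423463432) (.leaf 0x5476434234643432)))))) (.node 16 (.node 8 (.node 4 (.node 2 (.node 1 (.leaf 0x7465423432) (.leaf 0x734654346423432)) (.node 1 (.leaf 0x4347346343423463432) (.leaf 0x674234653432))) (.node 2 (.node 1 (.leaf 0x343465434523473432) (.leaf 0x453434723432)) (.node 1 (.leaf 0x74234653432) (.leaf 0x434534723432)))) (.node 4 (.node 2 (.node 1 (.leaf 0x746543423476432) (.leaf 0x4764341234643432)) (.node 1 (.leaf 0x476423432) (.leaf 0x75465434123476432)))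 (.node 2 (.node 1 (.leaf 0x2346543452347643432) (.leaf 0x7467434234346423432)) (.node 1 (.leaf 0x6746543423476432) (.leaf 0x74645434123476432))))) (.node 8 (.node 4 (.node 2 (.node 1 (.leaf 0x345234734123463432) (.leaf 0x7634347641234723432)) (.node 1 (.leaf 0x653434764234723432) (.leaf 0x234653434234723432))) (.node 2 (.node 1 (.leaf 0x4623434764234723432) (.leaf 0x753423463423473432)) (.node 1 (.leaf 0x34647434234643432) (.leaf 0x673423463423475432)))) (.node 4 (.node 2 (.node 1 (.leaf 0x63452343423475432) (.leaf 0x63423453423475432)) (.node 1 (.leaf 0x23472346341234643432) (.leaf 0x23475234634234643432))) (.node 2 (.node 1 (.leaf 0x734123423465432) (.leaf 0x753423423465432)) (.node 1 (.leaf 0x47523434623476432) (.leaf 0x645346743423473432))))))) (.node 32 (.node 16 (.node 8 (.node 4 (.node 2 (.node 1 (.leaf 0x75434523434723432) (.leaf 0x64534634234743432)) (.node 1 (.leaf 0x6434754123476432) (.leaf 0x643465423467432))) (.node 2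 (.node 1 (.leaf 0x634347123434123432) (.leaf 0x467345342347123432)) (.node 1 (.leaf 0x7453412346423432) (.leaf 0x746534734234723432)))) (.node 4 (.node 2 (.node 1 (.leaf 0x674234634123473432) (.leaf 0x347234234234723432)) (.node 1 (.leaf 0x4534634234743432) (.leaf 0x473463423473432))) (.node 2 (.node 1 (.leaf 0x47647343423473432) (.leaf 0x434745342346123432)) (.node 1 (.leaf 0x5234743452347423432) (.leaf 0x34764534234753432))))) (.node 8 (.node 4 (.node 2 (.node 1 (.leaf 0x64123473434234623432) (.leaf 0x6423464123432)) (.node 1 (.leaf 0x346123434234623432) (.leaf 0x645346123432))) (.node 2 (.node 1 (.leaf 0x654752346342346123432) (.leaf 0x4754346472343423432)) (.node 1 (.leaf 0x4734634234654123432) (.leaf 0x62343454234623432)))) (.node 4 (.node 2 (.node 1 (.leaf 0x4734634234623432) (.leaf 0x542347434123463432)) (.node 1 (.leaf 0x453463423473432) (.leaf 0x45347534234723432))) (.node 2 (.node 1 (.leaf 0x674234634123432) (.leaf 0x4754234523463432))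 (.node 1 (.leaf 0x4642347342347423432) (.leaf 0x12346434123467432)))))) (.node 16 (.node 8 (.node 4 (.node 2 (.node 1 (.leaf 0x42347234234623432) (.leaf 0x42346434123467432)) (.node 1 (.leaf 0x6123473423476432) (.leaf 0x7634345234346423432))) (.node 2 (.node 1 (.leaf 0x347643465423476432) (.leaf 0x52346434123432)) (.node 1 (.leaf 0x473434123463423432) (.leaf 0x1234234643423476432)))) (.node 4 (.node 2 (.node 1 (.leaf 0x7643475423464123432) (.leaf 0x6434534752343423432)) (.node 1 (.leaf 0x5423463452343423432) (.leaf 0x3472346743423476432))) (.node 2 (.node 1 (.leaf 0x6742346345234623432) (.leaf 0x1234342347346423432)) (.node 1 (.leaf 0x645234674342347123432) (.leaf 0x6423473434123463432))))) (.node 8 (.node 4 (.node 2 (.node 1 (.leaf 0x7546347623434123432) (.leaf 0x762347234234623432)) (.node 1 (.leaf 0x547234523475423432) (.leaf 0x623471234234623432))) (.node 2 (.node 1 (.leaf 0x3475423476432) (.leaf 0x34623453476432)) (.node 1 (.leaf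 0x476434523434723432) (.leaf 0x6347434234643432)))) (.node 4 (.node 2 (.node 1 (.leaf 0x346434234743432) (.leaf 0x3464523473423463432)) (.node 1 (.leaf 0x5234743412347423432) (.leaf 0x3464123432))) (.node 2 (.node 1 (.leaf 0x4734534634234723432) (.leaf 0x123474342347423432)) (.node 1 (.leaf 0x1234623432) (.leaf 0x4634734123463432)))))))

def classATree_20 : Tree :=
  .node 64 (.node 32 (.node 16 (.node 8 (.node 4 (.node 2 (.node 1 (.leaf 0x46347345234723432) (.leaf 0x4754343423473432)) (.node 1 (.leaf 0x547345342347123432) (.leaf 0x63473452346423432))) (.node 2 (.node 1 (.leaf 0x647343472343423432) (.leaf 0x45434643423473432)) (.node 1 (.leaf 0x347543472343423432) (.leaf 0x5472346345234623432)))) (.node 4 (.node 2 (.node 1 (.leaf 0x6423453423463432) (.leaf 0x346434234623432)) (.node 1 (.leaf 0x634743423464123432) (.leaf 0x4346434234743432))) (.node 2 (.node 1 (.leaf 0x6423463423467432) (.leaf 0x654123473423476432)) (.node 1 (.leaf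 0x4712346342346123432) (.leaf 0x75463473423463432))))) (.node 8 (.node 4 (.node 2 (.node 1 (.leaf 0x54723434723432) (.leaf 0x47641234234653432)) (.node 1 (.leaf 0x54742346342346123432) (.leaf 0x63475342346423432))) (.node 2 (.node 1 (.leaf 0x476347341234623432) (.leaf 0x23423473462343423432)) (.node 1 (.leaf 0x64523434234623432) (.leaf 0x67346341234623432)))) (.node 4 (.node 2 (.node 1 (.leaf 0x673463423476423432) (.leaf 0x741234634123467432)) (.node 1 (.leaf 0x2346474342347123432) (.leaf 0x346434723465423432))) (.node 2 (.node 1 (.leaf 0x123473412347423432) (.leaf 0x75423463423467432)) (.node 1 (.leaf 0x23464745341234723432) (.leaf 0x64234653423432)))))) (.node 16 (.node 8 (.node 4 (.node 2 (.node 1 (.leaf 0x6347543423476432) (.leaf 0x4123463423467432)) (.node 1 (.leaf 0x64234734123476432) (.leaf 0x52347342347423432))) (.node 2 (.node 1 (.leaf 0x654346743423473432) (.leaf 0x74523473423476432)) (.node 1 (.leaf 0x45343423475432) (.leaf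 0x43453423475432)))) (.node 4 (.node 2 (.node 1 (.leaf 0x47343463423463432) (.leaf 0x474534634234643432)) (.node 1 (.leaf 0x43453423467432) (.leaf 0x45343423467432))) (.node 2 (.node 1 (.leaf 0x47423462343423432) (.leaf 0x3473423463432)) (.node 1 (.leaf 0x2346534234623432) (.leaf 0x43452347342347123432))))) (.node 8 (.node 4 (.node 2 (.node 1 (.leaf 0x5347434123463432) (.leaf 0x547123462343423432)) (.node 1 (.leaf 0x476434723434123432) (.leaf 0x34634123473432))) (.node 2 (.node 1 (.leaf 0x7234346434234643432) (.leaf 0x2343464341234643432)) (.node 1 (.leaf 0x474543472343423432) (.leaf 0x46453473423463432)))) (.node 4 (.node 2 (.node 1 (.leaf 0x4652343423475432) (.leaf 0x6234123423475432)) (.node 1 (.leaf 0x4723453423465432) (.leaf 0x23464234234643432))) (.node 2 (.node 1 (.leaf 0x2346434723465432) (.leaf 0x7623432)) (.node 1 (.leaf 0x4234643432) (.leaf 0x734234643432))))))) (.node 32 (.node 16 (.node 8 (.node 4 (.node 2 (.node 1 (.leaf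 0x4534672343423432) (.leaf 0x346745343423432)) (.node 1 (.leaf 0x6474346234346423432) (.leaf 0x54346723434123432))) (.node 2 (.node 1 (.leaf 0x647346543423432) (.leaf 0x743467452343423432)) (.node 1 (.leaf 0x34234643432) (.leaf 0x74234643432)))) (.node 4 (.node 2 (.node 1 (.leaf 0x623432) (.leaf 0x463475434123432)) (.node 1 (.leaf 0x43467452343423432) (.leaf 0x6234234234753432))) (.node 2 (.node 1 (.leaf 0x54346743423432) (.leaf 0x6234234523473432)) (.node 1 (.leaf 0x4543476452343423432) (.leaf 0x623423423475432))))) (.node 8 (.node 4 (.node 2 (.node 1 (.leaf 0x4723423465432) (.leaf 0x6234234234743432)) (.node 1 (.leaf 0x1234345234347123432) (.leaf 0x1234342345347123432))) (.node 2 (.node 1 (.leaf 0x47423423465432) (.leaf 0x547123423465432)) (.node 1 (.leaf 0x467423432) (.leaf 0x764234753432)))) (.node 4 (.node 2 (.node 1 (.leaf 0x64754341234743432) (.leaf 0x43476234234123432)) (.node 1 (.leaf 0x7643474543423432) (.leaf 0x64347543423473432)))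 (.node 2 (.node 1 (.leaf 0x43467434123432) (.leaf 0x62345234234753432)) (.node 1 (.leaf 0x65434754234723432) (.leaf 0x64234753432)))))) (.node 16 (.node 8 (.node 4 (.node 2 (.node 1 (.leaf 0x64754634234643432) (.leaf 0x6475423432)) (.node 1 (.leaf 0x67434754234723432) (.leaf 0x454346712343423432))) (.node 2 (.node 1 (.leaf 0x643462343464123432) (.leaf 0x64347643423432)) (.node 1 (.leaf 0x643474543423432) (.leaf 0x62341234234753432)))) (.node 4 (.node 2 (.node 1 (.leaf 0x64723465432) (.leaf 0x543465432)) (.node 1 (.leaf 0x5432) (.leaf 0x6453465434234643432))) (.node 2 (.node 1 (.leaf 0x54634234743432) (.leaf 0x543465412346423432)) (.node 1 (.leaf 0x7434234346423432) (.leaf 0x45347543423432))))) (.node 8 (.node 4 (.node 2 (.node 1 (.leaf 0x546123423475432) (.leaf 0x43474543423432)) (.node 1 (.leaf 0x5423423475432) (.leaf 0x34754234123432))) (.node 2 (.node 1 (.leaf 0x543465434234653432) (.leaf 0x34342343423463432)) (.node 1 (.leaf 0x5423432)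 (.leaf 0x5423473423465432)))) (.node 4 (.node 2 (.node 1 (.leaf 0x523434653432) (.leaf 0x65423463432)) (.node 1 (.leaf 0x7546341234643432) (.leaf 0x5467434234743432))) (.node 2 (.node 1 (.leaf 0x23464543432) (.leaf 0x54123423465432)) (.node 1 (.leaf 0x3423467434723432) (.leaf 0x7346542346423432)))))))

def classATree_21 : Tree :=
  .node 64 (.node 32 (.node 16 (.node 8 (.node 4 (.node 2 (.node 1 (.leaf 0x52343423465432) (.leaf 0x467346542346123432)) (.node 1 (.leaf 0x34234654347423432) (.leaf 0x543464542346423432))) (.node 2 (.node 1 (.leaf 0x47346542346123432) (.leaf 0x546123432)) (.node 1 (.leaf 0x4754634234643432) (.leaf 0x53475434123432)))) (.node 4 (.node 2 (.node 1 (.leaf 0x423453423465432) (.leaf 0x342347543464123432)) (.node 1 (.leaf 0x7346454234623432) (.leaf 0x543465423432))) (.node 2 (.node 1 (.leaf 0x5434654234623432) (.leaf 0x54341234743432)) (.node 1 (.leaf 0x23423464543423432) (.leaf 0x54346542346123432))))) (.node 8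 (.node 4 (.node 2 (.node 1 (.leaf 0x45434123476432) (.leaf 0x2346453432)) (.node 1 (.leaf 0x54653423476432) (.leaf 0x742341234634123432))) (.node 2 (.node 1 (.leaf 0x54634123476432) (.leaf 0x3454234234234623432)) (.node 1 (.leaf 0x543423476432) (.leaf 0x5434746423432)))) (.node 4 (.node 2 (.node 1 (.leaf 0x723465432) (.leaf 0x3465432)) (.node 1 (.leaf 0x465432) (.leaf 0x34654341234643432))) (.node 2 (.node 1 (.leaf 0x53465434234643432) (.leaf 0x5465434234743432)) (.node 1 (.leaf 0x3465434123463432) (.leaf 0x434723463434723432)))))) (.node 16 (.node 8 (.node 4 (.node 2 (.node 1 (.leaf 0x647346542346123432) (.leaf 0x12343465432)) (.node 1 (.leaf 0x5346543423463432) (.leaf 0x64746434234643432))) (.node 2 (.node 1 (.leaf 0x123423465432) (.leaf 0x7123467432)) (.node 1 (.leaf 0x764764341234643432) (.leaf 0x6473467452343423432)))) (.node 4 (.node 2 (.node 1 (.leaf 0x4647346542346123432) (.leaf 0x47346454234623432)) (.node 1 (.leaf 0x4654341234743432)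 (.leaf 0x3464543423463432))) (.node 2 (.node 1 (.leaf 0x47234234234643432) (.leaf 0x34654346123432)) (.node 1 (.leaf 0x34654346423432) (.leaf 0x453467434123432))))) (.node 8 (.node 4 (.node 2 (.node 1 (.leaf 0x465423423475432) (.leaf 0x34645434623432)) (.node 1 (.leaf 0x2343423465432) (.leaf 0x547346542346123432))) (.node 2 (.node 1 (.leaf 0x23453423465432) (.leaf 0x47346542346423432)) (.node 1 (.leaf 0x45423463432) (.leaf 0x465434654234623432)))) (.node 4 (.node 2 (.node 1 (.leaf 0x54746434234643432) (.leaf 0x465423432)) (.node 1 (.leaf 0x4634342343423463432) (.leaf 0x423423467434123432))) (.node 2 (.node 1 (.leaf 0x467434234346423432) (.leaf 0x5346343472343423432)) (.node 1 (.leaf 0x46742341234634123432) (.leaf 0x4234653432))))))) (.node 32 (.node 16 (.node 8 (.node 4 (.node 2 (.node 1 (.leaf 0x4746423432) (.leaf 0x47464341234643432)) (.node 1 (.leaf 0x46543423476432) (.leaf 0x4645434123476432))) (.node 2 (.node 1 (.leaf 0x5465434123476432)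 (.leaf 0x5464543423476432)) (.node 1 (.leaf 0x7453434723432) (.leaf 0x7434534723432)))) (.node 4 (.node 2 (.node 1 (.leaf 0x7423463423463432) (.leaf 0x743463423463432)) (.node 1 (.leaf 0x432) (.leaf 0x623434643432))) (.node 2 (.node 1 (.leaf 0x43465432) (.leaf 0x745423423463423432)) (.node 1 (.leaf 0x4734234643432) (.leaf 0x4346454234623432))))) (.node 8 (.node 4 (.node 2 (.node 1 (.leaf 0x4123423475432) (.leaf 0x347543423432)) (.node 1 (.leaf 0x4123432) (.leaf 0x476434234743432))) (.node 2 (.node 1 (.leaf 0x43464543423432) (.leaf 0x43465434523463432)) (.node 1 (.leaf 0x4623423475432) (.leaf 0x45346543423432)))) (.node 4 (.node 2 (.node 1 (.leaf 0x64123463432) (.leaf 0x434645434234653432)) (.node 1 (.leaf 0x4623432) (.leaf 0x4754341234743432))) (.node 2 (.node 1 (.leaf 0x434234743432) (.leaf 0x43465423464123432)) (.node 1 (.leaf 0x4674341234743432) (.leaf 0x74634234643432)))))) (.node 16 (.node 8 (.node 4 (.node 2 (.node 1 (.leaf 0x423423465432)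 (.leaf 0x2346543432)) (.node 1 (.leaf 0x34234674347123432) (.leaf 0x3472343473423432))) (.node 2 (.node 1 (.leaf 0x64734654234623432) (.leaf 0x123434653432)) (.node 1 (.leaf 0x342346543474123432) (.leaf 0x434234734347123432)))) (.node 4 (.node 2 (.node 1 (.leaf 0x234643432) (.leaf 0x7346541234623432)) (.node 1 (.leaf 0x3423452342346123432) (.leaf 0x452343423465432))) (.node 2 (.node 1 (.leaf 0x34234754346423432) (.leaf 0x12343423465432)) (.node 1 (.leaf 0x473467452343423432) (.leaf 0x3464743423432))))) (.node 8 (.node 4 (.node 2 (.node 1 (.leaf 0x434123476432) (.leaf 0x453465423432)) (.node 1 (.leaf 0x463423476432) (.leaf 0x674342343423473432))) (.node 2 (.node 1 (.leaf 0x4346541234623432) (.leaf 0x46534123476432)) (.node 1 (.leaf 0x754341234346423432) (.leaf 0x4346542346423432)))) (.node 4 (.node 2 (.node 1 (.leaf 0x453423476432) (.leaf 0x434654123432)) (.node 1 (.leaf 0x5467432) (.leaf 0x463475432))) (.node 2 (.node 1 (.leaf 0x75423465432)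 (.leaf 0x234634723465432)) (.node 1 (.leaf 0x473464543423463432) (.leaf 0x74347543423473432)))))))

def classATree_22 : Tree :=
  .node 64 (.node 32 (.node 16 (.node 8 (.node 4 (.node 2 (.node 1 (.leaf 0x463474543423463432) (.leaf 0x3475463423463432)) (.node 1 (.leaf 0x463475463423463432) (.leaf 0x475346543423463432))) (.node 2 (.node 1 (.leaf 0x5465423423475432) (.leaf 0x3465434623432)) (.node 1 (.leaf 0x475423473423467432) (.leaf 0x43464543423463432)))) (.node 4 (.node 2 (.node 1 (.leaf 0x4523434723465432) (.leaf 0x4346434346423432)) (.node 1 (.leaf 0x45346743423432) (.leaf 0x54123432))) (.node 2 (.node 1 (.leaf 0x5476434234743432) (.leaf 0x654123463432)) (.node 1 (.leaf 0x465347543423463432) (.leaf 0x54674634234643432))))) (.node 8 (.node 4 (.node 2 (.node 1 (.leaf 0x43464234346423432) (.leaf 0x4634745434723432)) (.node 1 (.leaf 0x452343423476423432) (.leaf 0x45423473432))) (.node 2 (.node 1 (.leaf 0x46347454234723432) (.leaf 0x23453423475432))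 (.node 1 (.leaf 0x3474543423473432) (.leaf 0x434674534234623432)))) (.node 4 (.node 2 (.node 1 (.leaf 0x6734347123432) (.leaf 0x4123476432)) (.node 1 (.leaf 0x76423467432) (.leaf 0x5434234643432))) (.node 2 (.node 1 (.leaf 0x764723423465432) (.leaf 0x67423463423475432)) (.node 1 (.leaf 0x45346543423463432) (.leaf 0x54347541234723432)))))) (.node 16 (.node 8 (.node 4 (.node 2 (.node 1 (.leaf 0x4754341234643432) (.leaf 0x475423432)) (.node 1 (.leaf 0x5467434234643432) (.leaf 0x463474543423473432))) (.node 2 (.node 1 (.leaf 0x54647453423476432) (.leaf 0x4346453423432)) (.node 1 (.leaf 0x45423473423467432) (.leaf 0x5434623475423432)))) (.node 4 (.node 2 (.node 1 (.leaf 0x45434234674123432) (.leaf 0x54647434123476432)) (.node 1 (.leaf 0x673434764234723432) (.leaf 0x534234634123473432))) (.node 2 (.node 1 (.leaf 0x34523473423463432) (.leaf 0x5347543462343423432)) (.node 1 (.leaf 0x734523473423463432) (.leaf 0x634523472343423432))))) (.node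 8 (.node 4 (.node 2 (.node 1 (.leaf 0x3475434612343423432) (.leaf 0x53423463423473432)) (.node 1 (.leaf 0x34123423465432) (.leaf 0x53423423465432))) (.node 2 (.node 1 (.leaf 0x3462347345234723432) (.leaf 0x6434534234653432)) (.node 1 (.leaf 0x3464742341234623432) (.leaf 0x346474234234623432)))) (.node 4 (.node 2 (.node 1 (.leaf 0x34647423432) (.leaf 0x6345343423463432)) (.node 1 (.leaf 0x34234753432) (.leaf 0x3462347342347123432))) (.node 2 (.node 1 (.leaf 0x234341234743432) (.leaf 0x2347123432)) (.node 1 (.leaf 0x6347423432) (.leaf 0x23423423475432))))))) (.node 32 (.node 16 (.node 8 (.node 4 (.node 2 (.node 1 (.leaf 0x23464341234643432) (.leaf 0x4523462343423473432)) (.node 1 (.leaf 0x2346454342347423432) (.leaf 0x5347452343423463432))) (.node 2 (.node 1 (.leaf 0x75434523473432) (.leaf 0x643476434234753432)) (.node 1 (.leaf 0x753465343423473432) (.leaf 0x634346743423473432)))) (.node 4 (.node 2 (.node 1 (.leaf 0x72342347123434123432)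 (.leaf 0x34234653423467432)) (.node 1 (.leaf 0x23465434234643432) (.leaf 0x234712343423473432))) (.node 2 (.node 1 (.leaf 0x474342347346423432) (.leaf 0x2347523463423463432)) (.node 1 (.leaf 0x74345423473432) (.leaf 0x753463453423473432))))) (.node 8 (.node 4 (.node 2 (.node 1 (.leaf 0x5434642343423463432) (.leaf 0x434745434234753432)) (.node 1 (.leaf 0x543475434234753432) (.leaf 0x723434764234723432))) (.node 2 (.node 1 (.leaf 0x34234753423476432) (.leaf 0x734347643423463432)) (.node 1 (.leaf 0x6234723452346423432) (.leaf 0x5434623434754123432)))) (.node 4 (.node 2 (.node 1 (.leaf 0x64345342347123432) (.leaf 0x34623473452347423432)) (.node 1 (.leaf 0x234643423474123432) (.leaf 0x645343423473432))) (.node 2 (.node 1 (.leaf 0x43475462343423432) (.leaf 0x34623473423474123432)) (.node 1 (.leaf 0x634742342347123432) (.leaf 0x634345234234723432)))))) (.node 16 (.node 8 (.node 4 (.node 2 (.node 1 (.leaf 0x723465342347123432) (.leaf 0x746523434123432))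 (.node 1 (.leaf 0x754623453423432) (.leaf 0x74345234346423432))) (.node 2 (.node 1 (.leaf 0x543423423465432) (.leaf 0x4643423423465432)) (.node 1 (.leaf 0x34523474345234723432) (.leaf 0x53423474534234723432)))) (.node 4 (.node 2 (.node 1 (.leaf 0x46534762343423432) (.leaf 0x634347642346423432)) (.node 1 (.leaf 0x7434234534723432) (.leaf 0x65434623453476432))) (.node 2 (.node 1 (.leaf 0x6543475423476432) (.leaf 0x45434734234643432)) (.node 1 (.leaf 0x4543475341234723432) (.leaf 0x12347434123463432))))) (.node 8 (.node 4 (.node 2 (.node 1 (.leaf 0x7454342346423432) (.leaf 0x347434634123473432)) (.node 1 (.leaf 0x54734634123473432) (.leaf 0x4623434743423463432))) (.node 2 (.node 1 (.leaf 0x1234347343423463432) (.leaf 0x64234743423463432)) (.node 1 (.leaf 0x3465434234346423432) (.leaf 0x1234743452347423432)))) (.node 4 (.node 2 (.node 1 (.leaf 0x47647234234653432) (.leaf 0x12346434123432)) (.node 1 (.leaf 0x6423474543423463432) (.leaf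 0x734534634123473432))) (.node 2 (.node 1 (.leaf 0x465434634234623432) (.leaf 0x45434634123473432)) (.node 1 (.leaf 0x6423463423432) (.leaf 0x47543423467453432)))))))

def classATree_23 : Tree :=
  .node 64 (.node 32 (.node 16 (.node 8 (.node 4 (.node 2 (.node 1 (.leaf 0x464543473423463432) (.leaf 0x642343423463432)) (.node 1 (.leaf 0x547343423463423432) (.leaf 0x7623423423473423432))) (.node 2 (.node 1 (.leaf 0x6734534723434123432) (.leaf 0x52346434123467432)) (.node 1 (.leaf 0x4234643423453423432) (.leaf 0x653434723434123432)))) (.node 4 (.node 2 (.node 1 (.leaf 0x746543412346423432) (.leaf 0x547346341234623432)) (.node 1 (.leaf 0x64542346423432) (.leaf 0x645434623432))) (.node 2 (.node 1 (.leaf 0x643462343423463432) (.leaf 0x534623434234623432)) (.node 1 (.leaf 0x71234346342346123432) (.leaf 0x64542347343423463432))))) (.node 8 (.node 4 (.node 2 (.node 1 (.leaf 0x474234234654123432) (.leaf 0x6523473423476432)) (.node 1 (.leaf 0x5234342347346423432)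 (.leaf 0x74234643452346423432))) (.node 2 (.node 1 (.leaf 0x4346743423473432) (.leaf 0x4534673452343423432)) (.node 1 (.leaf 0x6434534712343423432) (.leaf 0x723464345234623432)))) (.node 4 (.node 2 (.node 1 (.leaf 0x64234653423467432) (.leaf 0x123474346342346423432)) (.node 1 (.leaf 0x473434754234623432) (.leaf 0x434763423453423432))) (.node 2 (.node 1 (.leaf 0x434523434623432) (.leaf 0x7434234534623432)) (.node 1 (.leaf 0x5234734123463432) (.leaf 0x5434523434723432)))))) (.node 16 (.node 8 (.node 4 (.node 2 (.node 1 (.leaf 0x76434754123476432) (.leaf 0x7643465423467432)) (.node 1 (.leaf 0x523473452347423432) (.leaf 0x434342347346423432))) (.node 2 (.node 1 (.leaf 0x42345234643423463432) (.leaf 0x76423464123432)) (.node 1 (.leaf 0x7645346123432) (.leaf 0x6345347452343423432)))) (.node 4 (.node 2 (.node 1 (.leaf 0x7634347123434123432) (.leaf 0x54654342346423432)) (.node 1 (.leaf 0x453412346423432) (.leaf 0x46534734234723432))) (.node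 2 (.node 1 (.leaf 0x47643463423473432) (.leaf 0x4347534652343423432)) (.node 1 (.leaf 0x6234734123463432) (.leaf 0x623453423463423432))))) (.node 8 (.node 4 (.node 2 (.node 1 (.leaf 0x4347612343423432) (.leaf 0x473467434234623432)) (.node 1 (.leaf 0x6473463423476423432) (.leaf 0x45347534234653432))) (.node 2 (.node 1 (.leaf 0x4743463423473432) (.leaf 0x53473463423473432)) (.node 1 (.leaf 0x654234634123432) (.leaf 0x47541234234653432)))) (.node 4 (.node 2 (.node 1 (.leaf 0x45346234734234723432) (.leaf 0x634345234346423432)) (.node 1 (.leaf 0x454346723434123432) (.leaf 0x742347234234623432))) (.node 2 (.node 1 (.leaf 0x234645341234623432) (.leaf 0x745347534234723432)) (.node 1 (.leaf 0x7453463423473432) (.leaf 0x47643473423463432))))))) (.node 32 (.node 16 (.node 8 (.node 4 (.node 2 (.node 1 (.leaf 0x47343423463423432) (.leaf 0x23464234123432)) (.node 1 (.leaf 0x347647234234653432) (.leaf 0x67412343423463432))) (.node 2 (.node 1 (.leaf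 0x47434634234623432) (.leaf 0x6342347234346123432)) (.node 1 (.leaf 0x71234342347346423432) (.leaf 0x6743453472343423432)))) (.node 4 (.node 2 (.node 1 (.leaf 0x643475423464123432) (.leaf 0x74642347342347423432)) (.node 1 (.leaf 0x52347346342346423432) (.leaf 0x6542346345234623432))) (.node 2 (.node 1 (.leaf 0x5234346342346123432) (.leaf 0x54623473434123473432)) (.node 1 (.leaf 0x434234534723432) (.leaf 0x67434623453476432))))) (.node 8 (.node 4 (.node 2 (.node 1 (.leaf 0x6743475423476432) (.leaf 0x1234734123463432)) (.node 1 (.leaf 0x464234734123463432) (.leaf 0x34734634123473432))) (.node 2 (.node 1 (.leaf 0x4764734623434723432) (.leaf 0x74543475341234723432)) (.node 1 (.leaf 0x2346434123473432) (.leaf 0x645234734123463432)))) (.node 4 (.node 2 (.node 1 (.leaf 0x76423463423432) (.leaf 0x54754234234653432)) (.node 1 (.leaf 0x623423423473423432) (.leaf 0x6345434723434123432))) (.node 2 (.node 1 (.leaf 0x454342346423432) (.leaf 0x34534634123473432))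 (.node 1 (.leaf 0x7465434634234623432) (.leaf 0x347343423463423432)))))) (.node 16 (.node 8 (.node 4 (.node 2 (.node 1 (.leaf 0x42346534723453423432) (.leaf 0x673434723434123432)) (.node 1 (.leaf 0x46543412346423432) (.leaf 0x5474346341234623432))) (.node 2 (.node 1 (.leaf 0x54347534623453423432) (.leaf 0x764234743423463432)) (.node 1 (.leaf 0x2346434123432) (.leaf 0x47643465423476432)))) (.node 4 (.node 2 (.node 1 (.leaf 0x6412346345234623432) (.leaf 0x7642343423463432)) (.node 1 (.leaf 0x123473452347423432) (.leaf 0x745434634123473432))) (.node 2 (.node 1 (.leaf 0x75234342347346423432) (.leaf 0x674534623432)) (.node 1 (.leaf 0x12343474123432) (.leaf 0x5343423412346423432))))) (.node 8 (.node 4 (.node 2 (.node 1 (.leaf 0x1234346342346123432) (.leaf 0x6347543412346423432)) (.node 1 (.leaf 0x46234347342347123432) (.leaf 0x423473434123473432))) (.node 2 (.node 1 (.leaf 0x234641234234723432) (.leaf 0x74346743423473432)) (.node 1 (.leaf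 0x67234634123467432) (.leaf 0x4634523434234653432)))) (.node 4 (.node 2 (.node 1 (.leaf 0x12347346342346423432) (.leaf 0x623434234634123432)) (.node 1 (.leaf 0x47234234654123432) (.leaf 0x5434762343423432))) (.node 2 (.node 1 (.leaf 0x23464345234623432) (.leaf 0x4234643452346423432)) (.node 1 (.leaf 0x6434623453476432) (.leaf 0x643475423476432)))))))

def classATree_24 : Tree :=
  .node 64 (.node 32 (.node 16 (.node 8 (.node 4 (.node 2 (.node 1 (.leaf 0x75434234534723432) (.leaf 0x6434734234643432)) (.node 1 (.leaf 0x45347434234623432) (.leaf 0x743423464123432))) (.node 2 (.node 1 (.leaf 0x434734234643432) (.leaf 0x4347342347123432)) (.node 1 (.leaf 0x4534743423463432) (.leaf 0x673434712343423432)))) (.node 4 (.node 2 (.node 1 (.leaf 0x34234634523475423432) (.leaf 0x62345342346123432)) (.node 1 (.leaf 0x523462343423473432) (.leaf 0x67423463423432))) (.node 2 (.node 1 (.leaf 0x4754234234653432) (.leaf 0x7434734234723432)) (.node 1 (.leaf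 0x7434734234653432) (.leaf 0x54234743423463432))))) (.node 8 (.node 4 (.node 2 (.node 1 (.leaf 0x474346343423463432) (.leaf 0x4534634234234753432)) (.node 1 (.leaf 0x642347343423463432) (.leaf 0x4623434734234723432))) (.node 2 (.node 1 (.leaf 0x53476434234753432) (.leaf 0x642346423432)) (.node 1 (.leaf 0x534642343423463432) (.leaf 0x6434623432)))) (.node 4 (.node 2 (.node 1 (.leaf 0x61234734123476432) (.leaf 0x754346472343423432)) (.node 1 (.leaf 0x5234643423432) (.leaf 0x547643423467453432))) (.node 2 (.node 1 (.leaf 0x43473423463432) (.leaf 0x4763434234723432)) (.node 1 (.leaf 0x4534634234623432) (.leaf 0x6345434712343423432)))))) (.node 16 (.node 8 (.node 4 (.node 2 (.node 1 (.leaf 0x12343452343464123432) (.leaf 0x6434743452346423432)) (.node 1 (.leaf 0x723464534234623432) (.leaf 0x6742346342346123432))) (.node 2 (.node 1 (.leaf 0x1234643423467432) (.leaf 0x643463423476423432)) (.node 1 (.leaf 0x4234643423467432) (.leaf 0x67423463423473432))))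 (.node 4 (.node 2 (.node 1 (.leaf 0x75412347343423473432) (.leaf 0x643473423464123432)) (.node 1 (.leaf 0x5434673423453423432) (.leaf 0x123434234734123432))) (.node 2 (.node 1 (.leaf 0x47234623434234623432) (.leaf 0x46423474342347423432)) (.node 1 (.leaf 0x5474234523475423432) (.leaf 0x6734342345347423432))))) (.node 8 (.node 4 (.node 2 (.node 1 (.leaf 0x54234743423476432) (.leaf 0x54234753423476432)) (.node 1 (.leaf 0x45234734123476432) (.leaf 0x647234234523463432))) (.node 2 (.node 1 (.leaf 0x41234743423476432) (.leaf 0x4523473423476432)) (.node 1 (.leaf 0x745343423467432) (.leaf 0x743453423467432)))) (.node 4 (.node 2 (.node 1 (.leaf 0x65434643432) (.leaf 0x1234634234643432)) (.node 1 (.leaf 0x64743453423467432) (.leaf 0x64745343423467432))) (.node 2 (.node 1 (.leaf 0x47346341234643432) (.leaf 0x47534634234643432)) (.node 1 (.leaf 0x53463423473432) (.leaf 0x474234612343423432))))))) (.node 32 (.node 16 (.node 8 (.node 4 (.node 2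 (.node 1 (.leaf 0x2346342346123432) (.leaf 0x64123464345234623432)) (.node 1 (.leaf 0x4723462343423432) (.leaf 0x34743423463432))) (.node 2 (.node 1 (.leaf 0x72346534234623432) (.leaf 0x4623474343423473432)) (.node 1 (.leaf 0x72346342346123432) (.leaf 0x654723463452343423432)))) (.node 4 (.node 2 (.node 1 (.leaf 0x65423464342346123432) (.leaf 0x23465341234623432)) (.node 1 (.leaf 0x734634123473432) (.leaf 0x546723462343423432))) (.node 2 (.node 1 (.leaf 0x6434643423473432) (.leaf 0x4754347123434123432)) (.node 1 (.leaf 0x76434643423473432) (.leaf 0x346347345234723432))))) (.node 8 (.node 4 (.node 2 (.node 1 (.leaf 0x47543472343423432) (.leaf 0x746453473423463432)) (.node 1 (.leaf 0x43453423476432) (.leaf 0x45343423476432))) (.node 2 (.node 1 (.leaf 0x63434643432) (.leaf 0x423465432)) (.node 1 (.leaf 0x7467432) (.leaf 0x764346542346423432)))) (.node 4 (.node 2 (.node 1 (.leaf 0x7434754234723432) (.leaf 0x4234734234764123432)) (.node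 1 (.leaf 0x34754634123463432) (.leaf 0x42342347645343423432))) (.node 2 (.node 1 (.leaf 0x4764347542347123432) (.leaf 0x47234623434723432)) (.node 1 (.leaf 0x72346234234643432) (.leaf 0x4643475463423463432)))))) (.node 16 (.node 8 (.node 4 (.node 2 (.node 1 (.leaf 0x423473432) (.leaf 0x4754634234743432)) (.node 1 (.leaf 0x5475423432) (.leaf 0x7423432))) (.node 2 (.node 1 (.leaf 0x4764734234643432) (.leaf 0x52343423475432)) (.node 1 (.leaf 0x34754234123473432) (.leaf 0x6547123423465432)))) (.node 4 (.node 2 (.node 1 (.leaf 0x623453476432) (.leaf 0x4647434234643432)) (.node 1 (.leaf 0x74341234643432) (.leaf 0x474346234346423432))) (.node 2 (.node 1 (.leaf 0x764346454234623432) (.leaf 0x34734523434723432)) (.node 1 (.leaf 0x3434654347423432) (.leaf 0x347343473423432))))) (.node 8 (.node 4 (.node 2 (.node 1 (.leaf 0x472346123434723432) (.leaf 0x4523473432)) (.node 1 (.leaf 0x7423423476434123432) (.leaf 0x75423476432))) (.node 2 (.node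 1 (.leaf 0x4234734523476423432) (.leaf 0x746746341234643432)) (.node 1 (.leaf 0x7546347542347123432) (.leaf 0x74654123423475432)))) (.node 4 (.node 2 (.node 1 (.leaf 0x7346454346123432) (.leaf 0x74234753423467432)) (.node 1 (.leaf 0x34347543464123432) (.leaf 0x7464743423476432))) (.node 2 (.node 1 (.leaf 0x743423467423432) (.leaf 0x746474534123476432)) (.node 1 (.leaf 0x63434723432) (.leaf 0x7423463423475432)))))))

def classATree_25 : Tree :=
  .node 64 (.node 32 (.node 16 (.node 8 (.node 4 (.node 2 (.node 1 (.leaf 0x6343464342346423432) (.leaf 0x674234234234723432)) (.node 1 (.leaf 0x6345434723432) (.leaf 0x74234523476423432))) (.node 2 (.node 1 (.leaf 0x4623475432) (.leaf 0x7543465432)) (.node 1 (.leaf 0x75432) (.leaf 0x43476434123432)))) (.node 4 (.node 2 (.node 1 (.leaf 0x423423475432) (.leaf 0x3475434123432)) (.node 1 (.leaf 0x2343464234234723432) (.leaf 0x5234347343423467432))) (.node 2 (.node 1 (.leaf 0x6123434723465432) (.leaf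 0x473465434123432)) (.node 1 (.leaf 0x754634234743432) (.leaf 0x7543465412346423432))))) (.node 8 (.node 4 (.node 2 (.node 1 (.leaf 0x423467453432) (.leaf 0x434234346423432)) (.node 1 (.leaf 0x546341234643432) (.leaf 0x754123423465432))) (.node 2 (.node 1 (.leaf 0x75467434234743432) (.leaf 0x52347643432)) (.node 1 (.leaf 0x63476452343423432) (.leaf 0x346542346423432)))) (.node 4 (.node 2 (.node 1 (.leaf 0x474346542346123432) (.leaf 0x5423473432)) (.node 1 (.leaf 0x4543467452343423432) (.leaf 0x7423453423465432))) (.node 2 (.node 1 (.leaf 0x7342347543464123432) (.leaf 0x752343423465432)) (.node 1 (.leaf 0x7467346542346123432) (.leaf 0x34647434123432)))))) (.node 16 (.node 8 (.node 4 (.node 2 (.node 1 (.leaf 0x346234734346123432) (.leaf 0x75423432)) (.node 1 (.leaf 0x54764734234643432) (.leaf 0x43476434523463432))) (.node 2 (.node 1 (.leaf 0x54623432) (.leaf 0x47546341234643432)) (.node 1 (.leaf 0x5234643432) (.leaf 0x34234634346123432))))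 (.node 4 (.node 2 (.node 1 (.leaf 0x754341234743432) (.leaf 0x75434654234623432)) (.node 1 (.leaf 0x346454234623432) (.leaf 0x75434746423432))) (.node 2 (.node 1 (.leaf 0x754634123476432) (.leaf 0x745434123476432)) (.node 1 (.leaf 0x7543423476432) (.leaf 0x7543465423432))))) (.node 8 (.node 4 (.node 2 (.node 1 (.leaf 0x645234234234723432) (.leaf 0x754346542346123432)) (.node 1 (.leaf 0x754653423476432) (.leaf 0x42341234634123432))) (.node 2 (.node 1 (.leaf 0x423463423463432) (.leaf 0x43463423463432)) (.node 1 (.leaf 0x4723464543423463432) (.leaf 0x34634723465432)))) (.node 4 (.node 2 (.node 1 (.leaf 0x42347643423432) (.leaf 0x346342346123432)) (.node 1 (.leaf 0x523463452346423432) (.leaf 0x7345346452343423432))) (.node 2 (.node 1 (.leaf 0x734523467434523463432) (.leaf 0x47234653423463432)) (.node 1 (.leaf 0x42347453423432) (.leaf 0x4643452347423432))))))) (.node 32 (.node 16 (.node 8 (.node 4 (.node 2 (.node 1 (.leaf 0x7346234123476432)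 (.leaf 0x654342346345234623432)) (.node 1 (.leaf 0x1234654342346423432) (.leaf 0x6534234234623432))) (.node 2 (.node 1 (.leaf 0x347434123476432) (.leaf 0x734234764534234623432)) (.node 1 (.leaf 0x743465343423463432) (.leaf 0x1234534643423463432)))) (.node 4 (.node 2 (.node 1 (.leaf 0x643472343423463432) (.leaf 0x7534234234653432)) (.node 1 (.leaf 0x42347643423473432) (.leaf 0x6534342347346423432))) (.node 2 (.node 1 (.leaf 0x34347343423476432) (.leaf 0x534643423473423432)) (.node 1 (.leaf 0x654123472343423432) (.leaf 0x47453434123467432))))) (.node 8 (.node 4 (.node 2 (.node 1 (.leaf 0x474543462343423432) (.leaf 0x5473434634234623432)) (.node 1 (.leaf 0x643464345234623432) (.leaf 0x73454234234753432))) (.node 2 (.node 1 (.leaf 0x347234342347346423432) (.leaf 0x74346342346423432)) (.node 1 (.leaf 0x45347234634234623432) (.leaf 0x47234643423463432)))) (.node 4 (.node 2 (.node 1 (.leaf 0x7434347542346123432) (.leaf 0x3423474123432)) (.node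 1 (.leaf 0x54653473412347423432) (.leaf 0x4723453423432))) (.node 2 (.node 1 (.leaf 0x3463452346423432) (.leaf 0x34623453462343423432)) (.node 1 (.leaf 0x541234634234623432) (.leaf 0x3463434234653432)))))) (.node 16 (.node 8 (.node 4 (.node 2 (.node 1 (.leaf 0x6454347342347423432) (.leaf 0x4762343423432)) (.node 1 (.leaf 0x462343452343423465432) (.leaf 0x5342346343423476432))) (.node 2 (.node 1 (.leaf 0x34523464345234623432) (.leaf 0x4734543462343423432)) (.node 1 (.leaf 0x7432) (.leaf 0x23434743432)))) (.node 4 (.node 2 (.node 1 (.leaf 0x743465432) (.leaf 0x743464543423432)) (.node 1 (.leaf 0x45423423463423432) (.leaf 0x74623423475432))) (.node 2 (.node 1 (.leaf 0x54347643423432) (.leaf 0x4123473432)) (.node 1 (.leaf 0x47434234643432) (.leaf 0x74346454234623432))))) (.node 8 (.node 4 (.node 2 (.node 1 (.leaf 0x4634234643432) (.leaf 0x74674341234743432)) (.node 1 (.leaf 0x72346543432) (.leaf 0x7423423465432))) (.node 2 (.node 1 (.leaf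 0x34647452343423432) (.leaf 0x3465423464123432)) (.node 1 (.leaf 0x7434645434234653432) (.leaf 0x3423463434623432)))) (.node 4 (.node 2 (.node 1 (.leaf 0x465423476432) (.leaf 0x34623473434623432)) (.node 1 (.leaf 0x54123423475432) (.leaf 0x3474543423432))) (.node 2 (.node 1 (.leaf 0x743465434523463432) (.leaf 0x1234643432)) (.node 1 (.leaf 0x74123432) (.leaf 0x4746434234743432)))))))

def classATree_26 : Tree :=
  .node 64 (.node 32 (.node 16 (.node 8 (.node 4 (.node 2 (.node 1 (.leaf 0x346541234623432) (.leaf 0x712343423465432)) (.node 1 (.leaf 0x4743467452343423432) (.leaf 0x7452343423465432))) (.node 2 (.node 1 (.leaf 0x734234754346423432) (.leaf 0x464347543423473432)) (.node 1 (.leaf 0x46123432) (.leaf 0x475434234743432)))) (.node 4 (.node 2 (.node 1 (.leaf 0x7453465423432) (.leaf 0x7434234743432)) (.node 1 (.leaf 0x743465423464123432) (.leaf 0x43476452343423432))) (.node 2 (.node 1 (.leaf 0x465234734123467432) (.leaf 0x74346542346423432))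 (.node 1 (.leaf 0x7453423476432) (.leaf 0x46523473423467432))))) (.node 8 (.node 4 (.node 2 (.node 1 (.leaf 0x7434123476432) (.leaf 0x5347543423432)) (.node 1 (.leaf 0x7434654123432) (.leaf 0x746534123476432))) (.node 2 (.node 1 (.leaf 0x7463423476432) (.leaf 0x54341234346423432)) (.node 1 (.leaf 0x3434743432) (.leaf 0x7423465432)))) (.node 4 (.node 2 (.node 1 (.leaf 0x467432) (.leaf 0x64346542346423432)) (.node 1 (.leaf 0x434754234723432) (.leaf 0x47464347542347123432))) (.node 2 (.node 1 (.leaf 0x474234623434723432) (.leaf 0x2346234234643432)) (.node 1 (.leaf 0x3434643412346423432) (.leaf 0x4645434234346423432)))))) (.node 16 (.node 8 (.node 4 (.node 2 (.node 1 (.leaf 0x475434754234723432) (.leaf 0x423432)) (.node 1 (.leaf 0x423473423465432) (.leaf 0x674123467432))) (.node 2 (.node 1 (.leaf 0x123434623475432) (.leaf 0x4341234643432)) (.node 1 (.leaf 0x74647434234643432) (.leaf 0x47346234346423432)))) (.node 4 (.node 2 (.node 1 (.leaf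 0x64346454234623432) (.leaf 0x346543464123432)) (.node 1 (.leaf 0x343474342347123432) (.leaf 0x46474346542346123432))) (.node 2 (.node 1 (.leaf 0x4234753432) (.leaf 0x46746341234643432)) (.node 1 (.leaf 0x546347542347123432) (.leaf 0x46347454347123432))))) (.node 8 (.node 4 (.node 2 (.node 1 (.leaf 0x6423463432) (.leaf 0x5423476432)) (.node 1 (.leaf 0x4234234234643432) (.leaf 0x4346343463423432))) (.node 2 (.node 1 (.leaf 0x4654123423475432) (.leaf 0x346454346123432)) (.node 1 (.leaf 0x5475434234643432) (.leaf 0x4647423432)))) (.node 4 (.node 2 (.node 1 (.leaf 0x2343423475432) (.leaf 0x3475434123473432)) (.node 1 (.leaf 0x423463423475432) (.leaf 0x3434743412347423432))) (.node 2 (.node 1 (.leaf 0x4234753423467432) (.leaf 0x423423476434123432)) (.node 1 (.leaf 0x4654123423463423432) (.leaf 0x763434723432))))))) (.node 32 (.node 16 (.node 8 (.node 4 (.node 2 (.node 1 (.leaf 0x46474534123476432) (.leaf 0x6734534723432)) (.node 1 (.leaf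 0x464743423476432) (.leaf 0x42347234123476432))) (.node 2 (.node 1 (.leaf 0x43423467423432) (.leaf 0x4234523476423432)) (.node 1 (.leaf 0x2345347341234723432) (.leaf 0x234634734234723432)))) (.node 4 (.node 2 (.node 1 (.leaf 0x4234347542347123432) (.leaf 0x234534734234723432)) (.node 1 (.leaf 0x3475434234743432) (.leaf 0x464734234623432))) (.node 2 (.node 1 (.leaf 0x2347234634234643432) (.leaf 0x23471234634234643432)) (.node 1 (.leaf 0x73453423476432) (.leaf 0x75343423476432))))) (.node 8 (.node 4 (.node 2 (.node 1 (.leaf 0x1234652343423476432) (.leaf 0x1234623453423476432)) (.node 1 (.leaf 0x73434234743432) (.leaf 0x347546341234643432))) (.node 2 (.node 1 (.leaf 0x7647234234623432) (.leaf 0x3473462343423432)) (.node 1 (.leaf 0x74645342347123432) (.leaf 0x3434234674123432)))) (.node 4 (.node 2 (.node 1 (.leaf 0x7645346741234723432) (.leaf 0x3467434234743432)) (.node 1 (.leaf 0x34723467432) (.leaf 0x6423465423432))) (.node 2 (.node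 1 (.leaf 0x645423465423432) (.leaf 0x654234523463432)) (.node 1 (.leaf 0x346734612343423432) (.leaf 0x6523473453423463432)))))) (.node 16 (.node 8 (.node 4 (.node 2 (.node 1 (.leaf 0x653476434234623432) (.leaf 0x65434734523465423432)) (.node 1 (.leaf 0x654734123467432) (.leaf 0x546453423476432))) (.node 2 (.node 1 (.leaf 0x347643423467432) (.leaf 0x641234234653432)) (.node 1 (.leaf 0x6523475343423463432) (.leaf 0x234234653432)))) (.node 4 (.node 2 (.node 1 (.leaf 0x6734123467432) (.leaf 0x764342347234123432)) (.node 1 (.leaf 0x34341234643432) (.leaf 0x634734523465423432))) (.node 2 (.node 1 (.leaf 0x3473463423467432) (.leaf 0x346743462343423432)) (.node 1 (.leaf 0x4643423476432) (.leaf 0x53423476432))))) (.node 8 (.node 4 (.node 2 (.node 1 (.leaf 0x3434654234523473432) (.leaf 0x347643434234743432)) (.node 1 (.leaf 0x674234234623432) (.leaf 0x34764234123476432))) (.node 2 (.node 1 (.leaf 0x674634234723432) (.leaf 0x647234123476432))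 (.node 1 (.leaf 0x34734234734123432) (.leaf 0x34234723465423432)))) (.node 4 (.node 2 (.node 1 (.leaf 0x34534234723432) (.leaf 0x523465434234743432)) (.node 1 (.leaf 0x34345234723432) (.leaf 0x653476434234743432))) (.node 2 (.node 1 (.leaf 0x464534345234723432) (.leaf 0x123434612343423432)) (.node 1 (.leaf 0x63434674234623432) (.leaf 0x7434643423463432)))))))

def classATree_27 : Tree :=
  .node 64 (.node 32 (.node 16 (.node 8 (.node 4 (.node 2 (.node 1 (.leaf 0x52343462343423432) (.leaf 0x6342346123434123432)) (.node 1 (.leaf 0x5463434234753432) (.leaf 0x634723462343423432))) (.node 2 (.node 1 (.leaf 0x62343463472343423432) (.leaf 0x76434534234653432)) (.node 1 (.leaf 0x234734234523473432) (.leaf 0x623473434723467432)))) (.node 4 (.node 2 (.node 1 (.leaf 0x53475423432) (.leaf 0x76345343423463432)) (.node 1 (.leaf 0x34523473432) (.leaf 0x34612347342347123432))) (.node 2 (.node 1 (.leaf 0x7234341234743432) (.leaf 0x23474123432)) (.node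 1 (.leaf 0x5347123432) (.leaf 0x523423423475432))))) (.node 8 (.node 4 (.node 2 (.node 1 (.leaf 0x34652343423475432) (.leaf 0x6234734534234753432)) (.node 1 (.leaf 0x2347123434234723432) (.leaf 0x534752343423463432))) (.node 2 (.node 1 (.leaf 0x3465423423475432) (.leaf 0x234753423475423432)) (.node 1 (.leaf 0x23434764234723432) (.leaf 0x734234753423476432)))) (.node 4 (.node 2 (.node 1 (.leaf 0x34347643423463432) (.leaf 0x5434523473432)) (.node 1 (.leaf 0x6343474612343423432) (.leaf 0x53465343423473432))) (.node 2 (.node 1 (.leaf 0x234734523475423432) (.leaf 0x7634346743423473432)) (.node 1 (.leaf 0x523434234346423432) (.leaf 0x2342347123434123432)))))) (.node 16 (.node 8 (.node 4 (.node 2 (.node 1 (.leaf 0x47342347346423432) (.leaf 0x2347412343423473432)) (.node 1 (.leaf 0x6234753434234753432) (.leaf 0x4345423473432))) (.node 2 (.node 1 (.leaf 0x53463453423473432) (.leaf 0x3464234234754123432)) (.node 1 (.leaf 0x34523473434123463432)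 (.leaf 0x4674345234346423432)))) (.node 4 (.node 2 (.node 1 (.leaf 0x6746347341234623432) (.leaf 0x67434234123473432)) (.node 1 (.leaf 0x3452347343423463432) (.leaf 0x54623453423432))) (.node 2 (.node 1 (.leaf 0x7234643423474123432) (.leaf 0x7645343423473432)) (.node 1 (.leaf 0x743475462343423432) (.leaf 0x4345234346423432))))) (.node 8 (.node 4 (.node 2 (.node 1 (.leaf 0x46523434123432) (.leaf 0x653472342347123432)) (.node 1 (.leaf 0x54346743423467432) (.leaf 0x23465342347123432))) (.node 2 (.node 1 (.leaf 0x73434123476432) (.leaf 0x7345434123476432)) (.node 1 (.leaf 0x43423453423476432) (.leaf 0x43452343423476432)))) (.node 4 (.node 2 (.node 1 (.leaf 0x546343423476432) (.leaf 0x74643423423465432)) (.node 1 (.leaf 0x3434123476432) (.leaf 0x345434123476432))) (.node 2 (.node 1 (.leaf 0x67343472343465423432) (.leaf 0x734674341234743432)) (.node 1 (.leaf 0x723465423432) (.leaf 0x3465423476432))))))) (.node 32 (.node 16 (.node 8 (.node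 4 (.node 2 (.node 1 (.leaf 0x3465434234634123432) (.leaf 0x6475434674234723432)) (.node 1 (.leaf 0x6541234234623432) (.leaf 0x534734234234723432))) (.node 2 (.node 1 (.leaf 0x642341234623432) (.leaf 0x3464341234643432)) (.node 1 (.leaf 0x5234234653432) (.leaf 0x53467434234743432)))) (.node 4 (.node 2 (.node 1 (.leaf 0x234654123432) (.leaf 0x6734634234643432)) (.node 1 (.leaf 0x62343463423432) (.leaf 0x723434743423463432))) (.node 2 (.node 1 (.leaf 0x64764342346423432) (.leaf 0x623453473423463432)) (.node 1 (.leaf 0x764234346423432) (.leaf 0x2347453463423473432))))) (.node 8 (.node 4 (.node 2 (.node 1 (.leaf 0x7645346343423463432) (.leaf 0x62345347543423463432)) (.node 1 (.leaf 0x523475434523463432) (.leaf 0x47341234734234723432))) (.node 2 (.node 1 (.leaf 0x623475343423463432) (.leaf 0x464347643423467432)) (.node 1 (.leaf 0x764234234623432) (.leaf 0x623473453423463432)))) (.node 4 (.node 2 (.node 1 (.leaf 0x6434734523465423432) (.leaf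 0x67452342346123432)) (.node 1 (.leaf 0x45346343423463432) (.leaf 0x234347434123463432))) (.node 2 (.node 1 (.leaf 0x46453434234723432) (.leaf 0x547434234734234723432)) (.node 1 (.leaf 0x62343474543423463432) (.leaf 0x43475434523463432)))))) (.node 16 (.node 8 (.node 4 (.node 2 (.node 1 (.leaf 0x4764347534234723432) (.leaf 0x4234623473423474123432)) (.node 1 (.leaf 0x546543453423473432) (.leaf 0x623434743423463432))) (.node 2 (.node 1 (.leaf 0x5434634543423463432) (.leaf 0x54753463423464123432)) (.node 1 (.leaf 0x46342346345234623432) (.leaf 0x6343473453423473432)))) (.node 4 (.node 2 (.node 1 (.leaf 0x434634734234653432) (.leaf 0x34634347123434123432)) (.node 1 (.leaf 0x234623453423476432) (.leaf 0x2346234534123476432))) (.node 2 (.node 1 (.leaf 0x5234623453423476432) (.leaf 0x5234652343423476432)) (.node 1 (.leaf 0x65434754123476432) (.leaf 0x6543465423467432))))) (.node 8 (.node 4 (.node 2 (.node 1 (.leaf 0x7434523434723432) (.leaf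 0x1234743423463432)) (.node 1 (.leaf 0x623434234623432) (.leaf 0x454346341234623432))) (.node 2 (.node 1 (.leaf 0x612343423463432) (.leaf 0x65434634234623432)) (.node 1 (.leaf 0x5434634234743432) (.leaf 0x63453472343423432)))) (.node 4 (.node 2 (.node 1 (.leaf 0x7423472343423463432) (.leaf 0x65412346423432)) (.node 1 (.leaf 0x654346123432) (.leaf 0x3476434523473432))) (.node 2 (.node 1 (.leaf 0x346412343423463432) (.leaf 0x123462343423473432)) (.node 1 (.leaf 0x41234743423463432) (.leaf 0x3472341234234723432)))))))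

def classATree_28 : Tree :=
  .node 64 (.node 32 (.node 16 (.node 8 (.node 4 (.node 2 (.node 1 (.leaf 0x46543463423473432) (.leaf 0x746423473423474123432)) (.node 1 (.leaf 0x64234753423476432) (.leaf 0x7434672343423432))) (.node 2 (.node 1 (.leaf 0x47543465423476432) (.leaf 0x64234634123432)) (.node 1 (.leaf 0x742347343423473432) (.leaf 0x65473463423476423432)))) (.node 4 (.node 2 (.node 1 (.leaf 0x723464342346123432) (.leaf 0x54764343423473432)) (.node 1 (.leaf 0x743464712343423432) (.leaf 0x434673452343423432))) (.node 2 (.node 1 (.leaf 0x1234643423432) (.leaf 0x42342342347423432)) (.node 1 (.leaf 0x654347434234643432) (.leaf 0x7434634342346123432))))) (.node 8 (.node 4 (.node 2 (.node 1 (.leaf 0x76343472343423432) (.leaf 0x75343473423463432)) (.node 1 (.leaf 0x54347345234723432) (.leaf 0x5434734123463432))) (.node 2 (.node 1 (.leaf 0x65234734123476432) (.leaf 0x674347643423463432)) (.node 1 (.leaf 0x652347543423463432) (.leaf 0x4543474341234623432))))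 (.node 4 (.node 2 (.node 1 (.leaf 0x743463434234653432) (.leaf 0x4123434743423463432)) (.node 1 (.leaf 0x43423463434234743432) (.leaf 0x4234753463423473432))) (.node 2 (.node 1 (.leaf 0x74123463423464123432) (.leaf 0x52343452343464123432)) (.node 1 (.leaf 0x746534762343423432) (.leaf 0x4674234234754123432)))))) (.node 16 (.node 8 (.node 4 (.node 2 (.node 1 (.leaf 0x45347612343423432) (.leaf 0x346746234123463432)) (.node 1 (.leaf 0x64234643423473432) (.leaf 0x4654345234347123432))) (.node 2 (.node 1 (.leaf 0x434754234234753432) (.leaf 0x6475434754123476432)) (.node 1 (.leaf 0x4234674343423463432) (.leaf 0x743434643423463432)))) (.node 4 (.node 2 (.node 1 (.leaf 0x454234234234753432) (.leaf 0x6452346342346123432)) (.node 1 (.leaf 0x6347643423463432) (.leaf 0x4723434623476432))) (.node 2 (.node 1 (.leaf 0x547123434623476432) (.leaf 0x47234234234753432)) (.node 1 (.leaf 0x67423465341234623432) (.leaf 0x634346434123473432))))) (.node 8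 (.node 4 (.node 2 (.node 1 (.leaf 0x3463476434234743432) (.leaf 0x4674534734123463432)) (.node 1 (.leaf 0x65423473423463432) (.leaf 0x653434643423473432))) (.node 2 (.node 1 (.leaf 0x5463423464123432) (.leaf 0x4753463434234753432)) (.node 1 (.leaf 0x74234234523473432) (.leaf 0x7465342346423432)))) (.node 4 (.node 2 (.node 1 (.leaf 0x654234653423432) (.leaf 0x4764234523463432)) (.node 1 (.leaf 0x64723434234623432) (.leaf 0x54634734234723432))) (.node 2 (.node 1 (.leaf 0x1234346542347123432) (.leaf 0x6343473434234643432)) (.node 1 (.leaf 0x634754634123467432) (.leaf 0x46347341234723432))))))) (.node 32 (.node 16 (.node 8 (.node 4 (.node 2 (.node 1 (.leaf 0x463452346423432) (.leaf 0x64123473423463432)) (.node 1 (.leaf 0x64234642342346423432) (.leaf 0x41234346453423463432))) (.node 2 (.node 1 (.leaf 0x734674342347123432) (.leaf 0x6475412346423432)) (.node 1 (.leaf 0x64754346123432) (.leaf 0x346745341234723432)))) (.node 4 (.node 2 (.node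 1 (.leaf 0x63475412346423432) (.leaf 0x674234734123463432)) (.node 1 (.leaf 0x43423465342346423432) (.leaf 0x63475434123476432))) (.node 2 (.node 1 (.leaf 0x47234347123432) (.leaf 0x6542346534234623432)) (.node 1 (.leaf 0x34643423476423432) (.leaf 0x523473434623434123432))))) (.node 8 (.node 4 (.node 2 (.node 1 (.leaf 0x71234346454234723432) (.leaf 0x76452346345234623432)) (.node 1 (.leaf 0x75434523434623432) (.leaf 0x5434234534623432))) (.node 2 (.node 1 (.leaf 0x434234534623432) (.leaf 0x7434523434623432)) (.node 1 (.leaf 0x76434623453476432) (.leaf 0x7643475423476432)))) (.node 4 (.node 2 (.node 1 (.leaf 0x5434234534723432) (.leaf 0x523473423463432)) (.node 1 (.leaf 0x74534743423463432) (.leaf 0x64347542346423432))) (.node 2 (.node 1 (.leaf 0x745347434234623432) (.leaf 0x43423464123432)) (.node 1 (.leaf 0x623473423463432) (.leaf 0x74347342347123432)))))) (.node 16 (.node 8 (.node 4 (.node 2 (.node 1 (.leaf 0x534746434234753432)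 (.leaf 0x5423463423464123432)) (.node 1 (.leaf 0x74623434734234723432) (.leaf 0x7642346423432))) (.node 2 (.node 1 (.leaf 0x76434623432) (.leaf 0x673462343423463432)) (.node 1 (.leaf 0x65423463423432) (.leaf 0x47454234234653432)))) (.node 4 (.node 2 (.node 1 (.leaf 0x643475463423467432) (.leaf 0x5462347343423473432)) (.node 1 (.leaf 0x34734234347423432) (.leaf 0x754234743423463432))) (.node 2 (.node 1 (.leaf 0x47346343423463432) (.leaf 0x6542346342346123432)) (.node 1 (.leaf 0x523473423474123432) (.leaf 0x74234643423467432))))) (.node 8 (.node 4 (.node 2 (.node 1 (.leaf 0x62347543423463432) (.leaf 0x65423463423473432)) (.node 1 (.leaf 0x434734234723432) (.leaf 0x434734234653432))) (.node 2 (.node 1 (.leaf 0x6734534712343423432) (.leaf 0x4734634342347123432)) (.node 1 (.leaf 0x47463434234723432) (.leaf 0x74534634234623432)))) (.node 4 (.node 2 (.node 1 (.leaf 0x5412347343423473432) (.leaf 0x645347643423463432)) (.node 1 (.leaf 0x674523473423476432)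 (.leaf 0x64347543423476432))) (.node 2 (.node 1 (.leaf 0x2346453423432) (.leaf 0x45347623434123432)) (.node 1 (.leaf 0x54346472343423432) (.leaf 0x34342347342347123432)))))))

def classATree_29 : Tree :=
  .node 64 (.node 32 (.node 16 (.node 8 (.node 4 (.node 2 (.node 1 (.leaf 0x743473423463432) (.leaf 0x712343452343464123432)) (.node 1 (.leaf 0x543463434523463432) (.leaf 0x23464534234623432))) (.node 2 (.node 1 (.leaf 0x54346712343423432) (.leaf 0x12347346542347423432)) (.node 1 (.leaf 0x723453423423465432) (.leaf 0x74234234234653432)))) (.node 4 (.node 2 (.node 1 (.leaf 0x67434754123476432) (.leaf 0x6743465423467432)) (.node 1 (.leaf 0x123473423463432) (.leaf 0x434523434723432))) (.node 2 (.node 1 (.leaf 0x674346123432) (.leaf 0x1234347423432)) (.node 1 (.leaf 0x423472343423463432) (.leaf 0x6343474234234123432))))) (.node 8 (.node 4 (.node 2 (.node 1 (.leaf 0x34746434523473432) (.leaf 0x123473423474123432)) (.node 1 (.leaf 0x64523473423463432)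 (.leaf 0x5473463434123463432))) (.node 2 (.node 1 (.leaf 0x64752343423463432) (.leaf 0x7623434234623432)) (.node 1 (.leaf 0x7454346341234623432) (.leaf 0x234643423473432)))) (.node 4 (.node 2 (.node 1 (.leaf 0x543452346423432) (.leaf 0x67434634234623432)) (.node 1 (.leaf 0x46423473423463432) (.leaf 0x763453472343423432))) (.node 2 (.node 1 (.leaf 0x6343472343423432) (.leaf 0x741234743423463432)) (.node 1 (.leaf 0x46423473423474123432) (.leaf 0x434672343423432)))))) (.node 16 (.node 8 (.node 4 (.node 2 (.node 1 (.leaf 0x47234234523463432) (.leaf 0x47543452346743432)) (.node 1 (.leaf 0x64123463423432) (.leaf 0x623474543423463432))) (.node 2 (.node 1 (.leaf 0x42347343423473432) (.leaf 0x6452347543423463432)) (.node 1 (.leaf 0x754347345234723432) (.leaf 0x75434734123463432)))) (.node 4 (.node 2 (.node 1 (.leaf 0x23464342346123432) (.leaf 0x43464712343423432)) (.node 1 (.leaf 0x47643423467453432) (.leaf 0x234643423432))) (.node 2 (.node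 1 (.leaf 0x23464234234723432) (.leaf 0x62347434123476432)) (.node 1 (.leaf 0x654347643423463432) (.leaf 0x345434743423463432))))) (.node 8 (.node 4 (.node 2 (.node 1 (.leaf 0x5343473423463432) (.leaf 0x434634342346123432)) (.node 1 (.leaf 0x43463434234653432) (.leaf 0x23454346343423473432))) (.node 2 (.node 1 (.leaf 0x6412346342346123432) (.leaf 0x752343452343464123432)) (.node 1 (.leaf 0x4612347343423473432) (.leaf 0x4123463423464123432)))) (.node 4 (.node 2 (.node 1 (.leaf 0x463453423475432) (.leaf 0x465343423475432)) (.node 1 (.leaf 0x75434234534623432) (.leaf 0x5434523434623432))) (.node 2 (.node 1 (.leaf 0x634123423475432) (.leaf 0x653423423475432)) (.node 1 (.leaf 0x634723465432) (.leaf 0x434623475463423463432))))))) (.node 32 (.node 16 (.node 8 (.node 4 (.node 2 (.node 1 (.leaf 0x764347423465432) (.leaf 0x434752346543423463432)) (.node 1 (.leaf 0x53432) (.leaf 0x534347423465432))) (.node 2 (.node 1 (.leaf 0x534634234743432)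 (.leaf 0x5346341234643432)) (.node 1 (.leaf 0x534634123473432) (.leaf 0x53463452346423432)))) (.node 4 (.node 2 (.node 1 (.leaf 0x72345346452343423432) (.leaf 0x534123423475432)) (.node 1 (.leaf 0x53473423463432) (.leaf 0x534723423465432))) (.node 2 (.node 1 (.leaf 0x52347423432) (.leaf 0x534723432)) (.node 1 (.leaf 0x72343464234234123432) (.leaf 0x53465342346423432))))) (.node 8 (.node 4 (.node 2 (.node 1 (.leaf 0x34543423467432) (.leaf 0x5346734623434723432)) (.node 1 (.leaf 0x5347234234653432) (.leaf 0x5343464123432))) (.node 2 (.node 1 (.leaf 0x6741234723432) (.leaf 0x5343452346743432)) (.node 1 (.leaf 0x53434123467432) (.leaf 0x53472342347123432)))) (.node 4 (.node 2 (.node 1 (.leaf 0x543473463423467432) (.leaf 0x74346743423463432)) (.node 1 (.leaf 0x7642347123432) (.leaf 0x3454346423432))) (.node 2 (.node 1 (.leaf 0x43462343423473432) (.leaf 0x234647434523463432)) (.node 1 (.leaf 0x4347523463423463432) (.leaf 0x4234342346347423432))))))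 (.node 16 (.node 8 (.node 4 (.node 2 (.node 1 (.leaf 0x4645434674234723432) (.leaf 0x53472345234723432)) (.node 1 (.leaf 0x734534234346423432) (.leaf 0x654346434234623432))) (.node 2 (.node 1 (.leaf 0x2347643473423463432) (.leaf 0x75346343423473432)) (.node 1 (.leaf 0x53472341234723432) (.leaf 0x53463412346423432)))) (.node 4 (.node 2 (.node 1 (.leaf 0x75234234743423463432) (.leaf 0x523463473423463432)) (.node 1 (.leaf 0x5347234234723432) (.leaf 0x754347434234723432))) (.node 2 (.node 1 (.leaf 0x523465343423463432) (.leaf 0x523463453423463432)) (.node 1 (.leaf 0x647343463423463432) (.leaf 0x547434634234643432))))) (.node 8 (.node 4 (.node 2 (.node 1 (.leaf 0x653434123467432) (.leaf 0x634234123476432)) (.node 1 (.leaf 0x467434634234643432) (.leaf 0x6341234234234753432))) (.node 2 (.node 1 (.leaf 0x347634234753432) (.leaf 0x234645342347123432)) (.node 1 (.leaf 0x34347423465432) (.leaf 0x34342346745343423432)))) (.node 4 (.node 2 (.node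 1 (.leaf 0x3432) (.leaf 0x34346423475432)) (.node 1 (.leaf 0x6234234643432) (.leaf 0x34342347645343423432))) (.node 2 (.node 1 (.leaf 0x34634234643432) (.leaf 0x64346434234623432)) (.node 1 (.leaf 0x74347434234723432) (.leaf 0x3423423475432)))))))

def classATree_30 : Tree :=
  .node 64 (.node 32 (.node 16 (.node 8 (.node 4 (.node 2 (.node 1 (.leaf 0x12347423432) (.leaf 0x347123432)) (.node 1 (.leaf 0x34734234643432) (.leaf 0x347123423465432))) (.node 2 (.node 1 (.leaf 0x34734123463432) (.leaf 0x34234123476432)) (.node 1 (.leaf 0x347346423432) (.leaf 0x6745234723432)))) (.node 4 (.node 2 (.node 1 (.leaf 0x3463423473432) (.leaf 0x764234723432)) (.node 1 (.leaf 0x343423467432) (.leaf 0x34346423432))) (.node 2 (.node 1 (.leaf 0x3475234234723432) (.leaf 0x6234723434234723432)) (.node 1 (.leaf 0x34653412346423432) (.leaf 0x343423467453432))))) (.node 8 (.node 4 (.node 2 (.node 1 (.leaf 0x34634542346423432) (.leaf 0x742346454342347423432))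 (.node 1 (.leaf 0x6347234234723432) (.leaf 0x343465423476432))) (.node 2 (.node 1 (.leaf 0x6234742343423473432) (.leaf 0x34712342347123432)) (.node 1 (.leaf 0x3463423464123432) (.leaf 0x23476434734123463432)))) (.node 4 (.node 2 (.node 1 (.leaf 0x3471234234723432) (.leaf 0x346342346423432)) (.node 1 (.leaf 0x34734623434723432) (.leaf 0x3463475412346423432))) (.node 2 (.node 1 (.leaf 0x2343423412347423432) (.leaf 0x123465343423463432)) (.node 1 (.leaf 0x123463453423463432) (.leaf 0x5234634734123463432)))))) (.node 16 (.node 8 (.node 4 (.node 2 (.node 1 (.leaf 0x4753462342346423432) (.leaf 0x347346234347123432)) (.node 1 (.leaf 0x234647434234653432) (.leaf 0x753423423463423432))) (.node 2 (.node 1 (.leaf 0x123463473423463432) (.leaf 0x4342345342347123432)) (.node 1 (.leaf 0x3465434234743432) (.leaf 0x63476434234743432)))) (.node 4 (.node 2 (.node 1 (.leaf 0x5434743432) (.leaf 0x71234634234643432)) (.node 1 (.leaf 0x634543423467432) (.leaf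 0x6343423467432))) (.node 2 (.node 1 (.leaf 0x46743423423475432) (.leaf 0x54734234123476432)) (.node 1 (.leaf 0x673453423467432) (.leaf 0x76343423467432))))) (.node 8 (.node 4 (.node 2 (.node 1 (.leaf 0x4746342346123432) (.leaf 0x467341234623432)) (.node 1 (.leaf 0x6475434634234643432) (.leaf 0x123472343423467432))) (.node 2 (.node 1 (.leaf 0x64123464342346123432) (.leaf 0x2346345234623432)) (.node 1 (.leaf 0x753463423473432) (.leaf 0x47234612343423432)))) (.node 4 (.node 2 (.node 1 (.leaf 0x345346434234723432) (.leaf 0x547643472343423432)) (.node 1 (.leaf 0x6723463423453423432) (.leaf 0x1234643452343423432))) (.node 2 (.node 1 (.leaf 0x4623473434234723432) (.leaf 0x23463434234743432)) (.node 1 (.leaf 0x734634234743432) (.leaf 0x4754653472343423432))))))) (.node 32 (.node 16 (.node 8 (.node 4 (.node 2 (.node 1 (.leaf 0x72346345234623432) (.leaf 0x3423467453423476432)) (.node 1 (.leaf 0x5463453423476432) (.leaf 0x5465343423476432)))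 (.node 2 (.node 1 (.leaf 0x4234634123463432) (.leaf 0x4534653423463432)) (.node 1 (.leaf 0x4743463423467432) (.leaf 0x547643452347643432)))) (.node 4 (.node 2 (.node 1 (.leaf 0x74534653423463432) (.leaf 0x74234634123463432)) (.node 1 (.leaf 0x7342346542346123432) (.leaf 0x23434234734123463432))) (.node 2 (.node 1 (.leaf 0x523474234234623432) (.leaf 0x47534234653432)) (.node 1 (.leaf 0x47643423476453432) (.leaf 0x475346234234723432))))) (.node 8 (.node 4 (.node 2 (.node 1 (.leaf 0x346123472343423432) (.leaf 0x547634342346123432)) (.node 1 (.leaf 0x734634723465432) (.leaf 0x46742346542346123432))) (.node 2 (.node 1 (.leaf 0x742347643423432) (.leaf 0x7346342346123432)) (.node 1 (.leaf 0x4734653423463432) (.leaf 0x346234123476432)))) (.node 4 (.node 2 (.node 1 (.leaf 0x674342346345234623432) (.leaf 0x234764343423473432)) (.node 1 (.leaf 0x7523463452346423432) (.leaf 0x345346452343423432))) (.node 2 (.node 1 (.leaf 0x34523467434523463432)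 (.leaf 0x34734123476432)) (.node 1 (.leaf 0x61234346123432) (.leaf 0x3454234234753432)))))) (.node 16 (.node 8 (.node 4 (.node 2 (.node 1 (.leaf 0x34234764534234753432) (.leaf 0x4346342346423432)) (.node 1 (.leaf 0x46452347342347123432) (.leaf 0x74643452347423432))) (.node 2 (.node 1 (.leaf 0x63453465341234623432) (.leaf 0x43465343423463432)) (.node 1 (.leaf 0x6734234234623432) (.leaf 0x34234764534234623432)))) (.node 4 (.node 2 (.node 1 (.leaf 0x47462343423432) (.leaf 0x64734653423476432)) (.node 1 (.leaf 0x7541234634234623432) (.leaf 0x6123434523473432))) (.node 2 (.node 1 (.leaf 0x5234653434234653432) (.leaf 0x43474343423463432)) (.node 1 (.leaf 0x534234234653432) (.leaf 0x434743423464123432))))) (.node 8 (.node 4 (.node 2 (.node 1 (.leaf 0x6734342347346423432) (.leaf 0x47423453423432)) (.node 1 (.leaf 0x673463423473423432) (.leaf 0x4753434123467432))) (.node 2 (.node 1 (.leaf 0x674123472343423432) (.leaf 0x47543462343423432)) (.node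 1 (.leaf 0x5473463412346423432) (.leaf 0x7643464345234623432)))) (.node 4 (.node 2 (.node 1 (.leaf 0x4634347343423473432) (.leaf 0x641234623453423476432)) (.node 1 (.leaf 0x434347542346123432) (.leaf 0x73423474123432))) (.node 2 (.node 1 (.leaf 0x73463452346423432) (.leaf 0x64346234234754123432)) (.node 1 (.leaf 0x73463434234653432) (.leaf 0x6745347342347423432)))))))

def classATree_31 : Tree :=
  .node 64 (.node 32 (.node 16 (.node 8 (.node 4 (.node 2 (.node 1 (.leaf 0x34234645341234623432) (.leaf 0x473465342347423432)) (.node 1 (.leaf 0x547464234234753432) (.leaf 0x764734523465423432))) (.node 2 (.node 1 (.leaf 0x65476432) (.leaf 0x43475432)) (.node 1 (.leaf 0x5423475432) (.leaf 0x1234634723465432)))) (.node 4 (.node 2 (.node 1 (.leaf 0x4734654234123463432) (.leaf 0x74347643423432)) (.node 1 (.leaf 0x746123423475432) (.leaf 0x543476434123432))) (.node 2 (.node 1 (.leaf 0x54634234346423432) (.leaf 0x343463434623432)) (.node 1 (.leaf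 0x62341234234723432) (.leaf 0x4753465434123463432))))) (.node 8 (.node 4 (.node 2 (.node 1 (.leaf 0x75234634723465432) (.leaf 0x7343464342346423432)) (.node 1 (.leaf 0x754347454234723432) (.leaf 0x54623423475432))) (.node 2 (.node 1 (.leaf 0x434754234123432) (.leaf 0x4764347454234723432)) (.node 1 (.leaf 0x65434654234623432) (.leaf 0x754346543423463432)))) (.node 4 (.node 2 (.node 1 (.leaf 0x23434753432) (.leaf 0x465434234643432)) (.node 1 (.leaf 0x67465434234643432) (.leaf 0x76475423423465432))) (.node 2 (.node 1 (.leaf 0x43465434123463432) (.leaf 0x764346541234623432)) (.node 1 (.leaf 0x434754234123463432) (.leaf 0x4623476432)))))) (.node 16 (.node 8 (.node 4 (.node 2 (.node 1 (.leaf 0x4534634123432) (.leaf 0x54234653432)) (.node 1 (.leaf 0x76476434234743432) (.leaf 0x754346234346423432))) (.node 2 (.node 1 (.leaf 0x65423473423465432) (.leaf 0x4347542347123432)) (.node 1 (.leaf 0x547464341234643432) (.leaf 0x4654123432)))) (.node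 4 (.node 2 (.node 1 (.leaf 0x76476453423476432) (.leaf 0x6234234234723432)) (.node 1 (.leaf 0x476434234643432) (.leaf 0x4764123432))) (.node 2 (.node 1 (.leaf 0x74523463432) (.leaf 0x76476434123476432)) (.node 1 (.leaf 0x43461234346423432) (.leaf 0x453475434123463432))))) (.node 8 (.node 4 (.node 2 (.node 1 (.leaf 0x4346234123432) (.leaf 0x6547643423476432)) (.node 1 (.leaf 0x76342343423473432) (.leaf 0x43434623434623432))) (.node 2 (.node 1 (.leaf 0x423475432) (.leaf 0x543475432)) (.node 1 (.leaf 0x6476432) (.leaf 0x4347643423432)))) (.node 4 (.node 2 (.node 1 (.leaf 0x46523423463423432) (.leaf 0x5234634723465432)) (.node 1 (.leaf 0x343464342346423432) (.leaf 0x64723453423465432))) (.node 2 (.node 1 (.leaf 0x4674346454234623432) (.leaf 0x4674346542346423432)) (.node 1 (.leaf 0x5473464543423463432) (.leaf 0x623452342347123432))))))) (.node 32 (.node 16 (.node 8 (.node 4 (.node 2 (.node 1 (.leaf 0x46123423475432) (.leaf 0x64346743423432))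 (.node 1 (.leaf 0x623434723465432) (.leaf 0x47346543423432))) (.node 2 (.node 1 (.leaf 0x434654234123432) (.leaf 0x23453473432)) (.node 1 (.leaf 0x7465434234643432) (.leaf 0x6475423423465432)))) (.node 4 (.node 2 (.node 1 (.leaf 0x54654341234643432) (.leaf 0x743465434123463432)) (.node 1 (.leaf 0x64346541234623432) (.leaf 0x454347543423463432))) (.node 2 (.node 1 (.leaf 0x52347543432) (.leaf 0x64764734234643432)) (.node 1 (.leaf 0x74347542347123432) (.leaf 0x54347454234723432))))) (.node 8 (.node 4 (.node 2 (.node 1 (.leaf 0x67434654234623432) (.leaf 0x54764341234643432)) (.node 1 (.leaf 0x5476423432) (.leaf 0x754234653432))) (.node 2 (.node 1 (.leaf 0x6476453423476432) (.leaf 0x743461234346423432)) (.node 1 (.leaf 0x6476434234743432) (.leaf 0x54346234346423432)))) (.node 4 (.node 2 (.node 1 (.leaf 0x543474543423463432) (.leaf 0x5434653423432)) (.node 1 (.leaf 0x6474643423476432) (.leaf 0x54346543423463432))) (.node 2 (.node 1 (.leaf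 0x5465423432) (.leaf 0x4746434234643432)) (.node 1 (.leaf 0x6342343423473432) (.leaf 0x4523463432)))))) (.node 16 (.node 8 (.node 4 (.node 2 (.node 1 (.leaf 0x6476434123476432) (.leaf 0x4543463423432)) (.node 1 (.leaf 0x743434623434623432) (.leaf 0x46341234346423432))) (.node 2 (.node 1 (.leaf 0x543474234234723432) (.leaf 0x347234342346423432)) (.node 1 (.leaf 0x434653423465423432) (.leaf 0x234723432)))) (.node 4 (.node 2 (.node 1 (.leaf 0x347423432) (.leaf 0x23434234743432)) (.node 1 (.leaf 0x2346434234643432) (.leaf 0x734234743423476432))) (.node 2 (.node 1 (.leaf 0x234123423475432) (.leaf 0x23475423472343423432)) (.node 1 (.leaf 0x6453434234653432) (.leaf 0x3475423432))))) (.node 8 (.node 4 (.node 2 (.node 1 (.leaf 0x6434534234623432) (.leaf 0x345423473432)) (.node 1 (.leaf 0x64342346343423463432) (.leaf 0x7623473423465423432))) (.node 2 (.node 1 (.leaf 0x345423473423476432) (.leaf 0x7234523472343423432)) (.node 1 (.leaf 0x634234643423467432)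 (.leaf 0x43475434523473432)))) (.node 4 (.node 2 (.node 1 (.leaf 0x745434234753432) (.leaf 0x4346412343423463432)) (.node 1 (.leaf 0x343464734234653432) (.leaf 0x347542342347423432))) (.node 2 (.node 1 (.leaf 0x7434754634234643432) (.leaf 0x2347234653423463432)) (.node 1 (.leaf 0x346343465423476432) (.leaf 0x74652343423432)))))))

def classATree_32 : Tree :=
  .node 64 (.node 32 (.node 16 (.node 8 (.node 4 (.node 2 (.node 1 (.leaf 0x7234347641234723432) (.leaf 0x345423463423467432)) (.node 1 (.leaf 0x634763434234723432) (.leaf 0x23472343423473432))) (.node 2 (.node 1 (.leaf 0x7234634234723432) (.leaf 0x23463434234643432)) (.node 1 (.leaf 0x2347453463423463432) (.leaf 0x7434234753432)))) (.node 4 (.node 2 (.node 1 (.leaf 0x346423473423476432) (.leaf 0x234645342347423432)) (.node 1 (.leaf 0x643453423473432) (.leaf 0x46434734234623432))) (.node 2 (.node 1 (.leaf 0x234723434123473432) (.leaf 0x7346454342346423432)) (.node 1 (.leaf 0x234743453423432)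 (.leaf 0x234643452347423432))))) (.node 8 (.node 4 (.node 2 (.node 1 (.leaf 0x547342347342347423432) (.leaf 0x5434754612343423432)) (.node 1 (.leaf 0x6453434234723432) (.leaf 0x742342346342346123432))) (.node 2 (.node 1 (.leaf 0x34754341234743432) (.leaf 0x534341234743432)) (.node 1 (.leaf 0x453423423465432) (.leaf 0x434123423465432)))) (.node 4 (.node 2 (.node 1 (.leaf 0x34523474342347123432) (.leaf 0x23474234634234643432)) (.node 1 (.leaf 0x543423453423465432) (.leaf 0x543452343423465432))) (.node 2 (.node 1 (.leaf 0x3453423476432) (.leaf 0x5343423476432)) (.node 1 (.leaf 0x7453423423465432) (.leaf 0x463434123476432)))))) (.node 16 (.node 8 (.node 4 (.node 2 (.node 1 (.leaf 0x3434234743432) (.leaf 0x34754634234643432)) (.node 1 (.leaf 0x653434523463432) (.leaf 0x234723463423467432))) (.node 2 (.node 1 (.leaf 0x634753463423476432) (.leaf 0x53463434623476432)) (.node 1 (.leaf 0x6345341234623432) (.leaf 0x6453467423432)))) (.node 4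 (.node 2 (.node 1 (.leaf 0x464534234753432) (.leaf 0x2345347643423473432)) (.node 1 (.leaf 0x67462342346123432) (.leaf 0x72343423473423432))) (.node 2 (.node 1 (.leaf 0x645234723432) (.leaf 0x7123434123467432)) (.node 1 (.leaf 0x645347423432) (.leaf 0x434754343423463432))))) (.node 8 (.node 4 (.node 2 (.node 1 (.leaf 0x34347542347123432) (.leaf 0x534347542347123432)) (.node 1 (.leaf 0x5346434523465423432) (.leaf 0x641234634234643432))) (.node 2 (.node 1 (.leaf 0x7623473423467423432) (.leaf 0x3412346343423473432)) (.node 1 (.leaf 0x434523463434123473432) (.leaf 0x43462343423463432)))) (.node 4 (.node 2 (.node 1 (.leaf 0x64764345423473432) (.leaf 0x53463434523473432)) (.node 1 (.leaf 0x7523467434234653432) (.leaf 0x762347342347423432))) (.node 2 (.node 1 (.leaf 0x534634734234623432) (.leaf 0x523434654234623432)) (.node 1 (.leaf 0x47434346542347123432) (.leaf 0x467434234753432))))))) (.node 32 (.node 16 (.node 8 (.node 4 (.node 2 (.node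 1 (.leaf 0x7434647434234643432) (.leaf 0x723434234346423432)) (.node 1 (.leaf 0x6342341234734123432) (.leaf 0x2346534342347423432))) (.node 2 (.node 1 (.leaf 0x6743467453423463432) (.leaf 0x74123464342346423432)) (.node 1 (.leaf 0x423476434623432) (.leaf 0x534674234123463432)))) (.node 4 (.node 2 (.node 1 (.leaf 0x634234123473432) (.leaf 0x347341234623432)) (.node 1 (.leaf 0x43474234234723432) (.leaf 0x23465343423463432))) (.node 2 (.node 1 (.leaf 0x234543463423432) (.leaf 0x653434523434723432)) (.node 1 (.leaf 0x734347543423473432) (.leaf 0x623434623434123432))))) (.node 8 (.node 4 (.node 2 (.node 1 (.leaf 0x654343423473432) (.leaf 0x743463434234753432)) (.node 1 (.leaf 0x647234234623432) (.leaf 0x34743462343423432))) (.node 2 (.node 1 (.leaf 0x4645342347123432) (.leaf 0x73467434234743432)) (.node 1 (.leaf 0x23476423432) (.leaf 0x674234523463432)))) (.node 4 (.node 2 (.node 1 (.leaf 0x475234347123432) (.leaf 0x23467343423432)) (.node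 1 (.leaf 0x647634712343423432) (.leaf 0x647434123467432))) (.node 2 (.node 1 (.leaf 0x674653423476432) (.leaf 0x4346343452347643432)) (.node 1 (.leaf 0x534654342346123432) (.leaf 0x2347623434234723432)))))) (.node 16 (.node 8 (.node 4 (.node 2 (.node 1 (.leaf 0x3474643423467432) (.leaf 0x7641234234653432)) (.node 1 (.leaf 0x4734634734234623432) (.leaf 0x7234234653432))) (.node 2 (.node 1 (.leaf 0x73434234674123432) (.leaf 0x645346741234723432)) (.node 1 (.leaf 0x7647234123476432) (.leaf 0x546434234723432)))) (.node 4 (.node 2 (.node 1 (.leaf 0x3464543423463423432) (.leaf 0x46347234234723432)) (.node 1 (.leaf 0x654234234623432) (.leaf 0x473467463423473432))) (.node 2 (.node 1 (.leaf 0x74643423476432) (.leaf 0x47342342346123432)) (.node 1 (.leaf 0x6452342346123432) (.leaf 0x6234123476432))))) (.node 8 (.node 4 (.node 2 (.node 1 (.leaf 0x647634234723432) (.leaf 0x64342347234123432)) (.node 1 (.leaf 0x34743463423467432) (.leaf 0x7634734523465423432)))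 (.node 2 (.node 1 (.leaf 0x654346745234723432) (.leaf 0x753423476432)) (.node 1 (.leaf 0x734534234723432) (.leaf 0x53465434234743432)))) (.node 4 (.node 2 (.node 1 (.leaf 0x634746434234743432) (.leaf 0x234534234723432)) (.node 1 (.leaf 0x752343462343423432) (.leaf 0x3465434712343423432))) (.node 2 (.node 1 (.leaf 0x46734534234623432) (.leaf 0x75463434234753432)) (.node 1 (.leaf 0x234623472343423432) (.leaf 0x7123434612343423432)))))))

def classATree_33 : Tree :=
  .node 64 (.node 32 (.node 16 (.node 8 (.node 4 (.node 2 (.node 1 (.leaf 0x434643423463432) (.leaf 0x763434674234623432)) (.node 1 (.leaf 0x64123462345234623432) (.leaf 0x74543475423432))) (.node 2 (.node 1 (.leaf 0x54643453423476432) (.leaf 0x54645343423476432)) (.node 1 (.leaf 0x6234341234643432) (.leaf 0x523465434234643432)))) (.node 4 (.node 2 (.node 1 (.leaf 0x43452343423465432) (.leaf 0x43423453423465432)) (.node 1 (.leaf 0x673432) (.leaf 0x7462347543423432))) (.node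 2 (.node 1 (.leaf 0x2347645343423432) (.leaf 0x5434643432)) (.node 1 (.leaf 0x764234754234723432) (.leaf 0x6542347543423473432))))) (.node 8 (.node 4 (.node 2 (.node 1 (.leaf 0x54347523434723432) (.leaf 0x347423465432)) (.node 1 (.leaf 0x47634523465423432) (.leaf 0x234734234643432))) (.node 2 (.node 1 (.leaf 0x343423473423432) (.leaf 0x3472343465432)) (.node 1 (.leaf 0x123434234643432) (.leaf 0x3423467432)))) (.node 4 (.node 2 (.node 1 (.leaf 0x6734234523463432) (.leaf 0x3463423473423432)) (.node 1 (.leaf 0x47634234723432) (.leaf 0x4734342347423432))) (.node 2 (.node 1 (.leaf 0x7434634734123463432) (.leaf 0x3423467434234653432)) (.node 1 (.leaf 0x42342346423432) (.leaf 0x43474123432)))))) (.node 16 (.node 8 (.node 4 (.node 2 (.node 1 (.leaf 0x453464534234623432) (.leaf 0x647434234623432)) (.node 1 (.leaf 0x7642346745234723432) (.leaf 0x523473463423467432))) (.node 2 (.node 1 (.leaf 0x5434723434234723432) (.leaf 0x6712343462343423432))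 (.node 1 (.leaf 0x6542346343423463432) (.leaf 0x4763423475423432)))) (.node 4 (.node 2 (.node 1 (.leaf 0x634347434234623432) (.leaf 0x4347645343423463432)) (.node 1 (.leaf 0x74652347342347123432) (.leaf 0x546347423432))) (.node 2 (.node 1 (.leaf 0x476343423463432) (.leaf 0x543464345234623432)) (.node 1 (.leaf 0x434523434234653432) (.leaf 0x4123434234743432))))) (.node 8 (.node 4 (.node 2 (.node 1 (.leaf 0x5434634342346123432) (.leaf 0x4347434123467432)) (.node 1 (.leaf 0x4763472342347123432) (.leaf 0x43452342346123432))) (.node 2 (.node 1 (.leaf 0x47434653423476432) (.leaf 0x64743423463423432)) (.node 1 (.leaf 0x476347234234723432) (.leaf 0x5234342347423432)))) (.node 4 (.node 2 (.node 1 (.leaf 0x7546534123476432) (.leaf 0x74634123476432)) (.node 1 (.leaf 0x2346347623434123432) (.leaf 0x6534734234623432))) (.node 2 (.node 1 (.leaf 0x2346542342346423432) (.leaf 0x34674341234743432)) (.node 1 (.leaf 0x23465423432) (.leaf 0x1234234653432)))))))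 (.node 32 (.node 16 (.node 8 (.node 4 (.node 2 (.node 1 (.leaf 0x2343474634234753432) (.leaf 0x73465434234634123432)) (.node 1 (.leaf 0x5347434234234723432) (.leaf 0x6741234234623432))) (.node 2 (.node 1 (.leaf 0x7642341234623432) (.leaf 0x73464341234643432)) (.node 1 (.leaf 0x3423467453432) (.leaf 0x753467434234743432)))) (.node 4 (.node 2 (.node 1 (.leaf 0x523476423432) (.leaf 0x546454343423473432)) (.node 1 (.leaf 0x64234346423432) (.leaf 0x234753463423473432))) (.node 2 (.node 1 (.leaf 0x762343463423432) (.leaf 0x23434743423463432)) (.node 1 (.leaf 0x464345342347123432) (.leaf 0x4753434754234723432))))) (.node 8 (.node 4 (.node 2 (.node 1 (.leaf 0x347341234234723432) (.leaf 0x64234234623432)) (.node 1 (.leaf 0x5346434234643432) (.leaf 0x342346745341234723432))) (.node 2 (.node 1 (.leaf 0x645346343423463432) (.leaf 0x623434754234123463432)) (.node 1 (.leaf 0x123475434523463432) (.leaf 0x523475434234653432)))) (.node 4 (.node 2 (.node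 1 (.leaf 0x423474234234654123432) (.leaf 0x4543463434123463432)) (.node 1 (.leaf 0x6547643412346423432) (.leaf 0x7623434743423463432))) (.node 2 (.node 1 (.leaf 0x47645347342347123432) (.leaf 0x5473465342346423432)) (.node 1 (.leaf 0x7623473453423463432) (.leaf 0x64542342346123432)))))) (.node 16 (.node 8 (.node 4 (.node 2 (.node 1 (.leaf 0x3475342341234723432) (.leaf 0x34234674534234723432)) (.node 1 (.leaf 0x745346343423463432) (.leaf 0x7234347434123463432))) (.node 2 (.node 1 (.leaf 0x64234634234753432) (.leaf 0x7434634734234653432)) (.node 1 (.leaf 0x4753463452346423432) (.leaf 0x54734234734234723432)))) (.node 4 (.node 2 (.node 1 (.leaf 0x53463434723434123432) (.leaf 0x64342347342347123432)) (.node 1 (.leaf 0x234652343423476432) (.leaf 0x2346523434123476432))) (.node 2 (.node 1 (.leaf 0x43423453423467432) (.leaf 0x43452343423467432)) (.node 1 (.leaf 0x534674634123463432) (.leaf 0x4347623434123432))))) (.node 8 (.node 4 (.node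 2 (.node 1 (.leaf 0x467434634123473432) (.leaf 0x647543475423476432)) (.node 1 (.leaf 0x4347541234234753432) (.leaf 0x43434643423463432))) (.node 2 (.node 1 (.leaf 0x4654342345347123432) (.leaf 0x65423465341234623432)) (.node 1 (.leaf 0x642346434123473432) (.leaf 0x5346453473423463432)))) (.node 4 (.node 2 (.node 1 (.leaf 0x641234734123463432) (.leaf 0x46743473454234623432)) (.node 1 (.leaf 0x4346234234234753432) (.leaf 0x546347612343423432))) (.node 2 (.node 1 (.leaf 0x474234234234753432) (.leaf 0x472341234234753432)) (.node 1 (.leaf 0x76452346342346123432) (.leaf 0x465342346423432)))))))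

def classATree_34 : Tree :=
  .node 64 (.node 32 (.node 16 (.node 8 (.node 4 (.node 2 (.node 1 (.leaf 0x75463423464123432) (.leaf 0x4234234523473432)) (.node 1 (.leaf 0x76347643423463432) (.leaf 0x4634762343423432))) (.node 2 (.node 1 (.leaf 0x63474542346423432) (.leaf 0x5467343423463423432)) (.node 1 (.leaf 0x42345434643423463432) (.leaf 0x67423473423463432)))) (.node 4 (.node 2 (.node 1 (.leaf 0x673434643423473432) (.leaf 0x1234346454234723432)) (.node 1 (.leaf 0x52343463453423463432) (.leaf 0x234734234234234623432))) (.node 2 (.node 1 (.leaf 0x6474542346423432) (.leaf 0x34674342347123432)) (.node 1 (.leaf 0x64745434623432) (.leaf 0x534674345234723432))))) (.node 8 (.node 4 (.node 2 (.node 1 (.leaf 0x423467343423432) (.leaf 0x4764234234653432)) (.node 1 (.leaf 0x534346343423463432) (.leaf 0x6452346345234623432))) (.node 2 (.node 1 (.leaf 0x547641234234653432) (.leaf 0x4723434723432)) (.node 1 (.leaf 0x734643423476423432) (.leaf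 0x54653412346423432)))) (.node 4 (.node 2 (.node 1 (.leaf 0x45434734234723432) (.leaf 0x71234346542347123432)) (.node 1 (.leaf 0x45347341234723432) (.leaf 0x7463452346423432))) (.node 2 (.node 1 (.leaf 0x475434743423463432) (.leaf 0x654234734123463432)) (.node 1 (.leaf 0x64234734634234753432) (.leaf 0x6742346534234623432)))))) (.node 16 (.node 8 (.node 4 (.node 2 (.node 1 (.leaf 0x54723463423473432) (.leaf 0x5474643472343423432)) (.node 1 (.leaf 0x46234753423476432) (.leaf 0x45434762343423432))) (.node 2 (.node 1 (.leaf 0x62345234234653432) (.leaf 0x434746434234723432)) (.node 1 (.leaf 0x1234643423453423432) (.leaf 0x234634754234623432)))) (.node 4 (.node 2 (.node 1 (.leaf 0x2346343423476432) (.leaf 0x234634543423476432)) (.node 1 (.leaf 0x23453423423465432) (.leaf 0x4234234234653432))) (.node 2 (.node 1 (.leaf 0x475343423465432) (.leaf 0x473453423465432)) (.node 1 (.leaf 0x54643473423463432) (.leaf 0x4764534723434123432))))) (.node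 8 (.node 4 (.node 2 (.node 1 (.leaf 0x7463453423475432) (.leaf 0x346434723465432)) (.node 1 (.leaf 0x4745343423465432) (.leaf 0x3464234234643432))) (.node 2 (.node 1 (.leaf 0x746434734234643432) (.leaf 0x476434712343423432)) (.node 1 (.leaf 0x543467234234123432) (.leaf 0x3467463423463432)))) (.node 4 (.node 2 (.node 1 (.leaf 0x6743423423475432) (.leaf 0x64543423423475432)) (.node 1 (.leaf 0x2343423423465432) (.leaf 0x541234234234653432))) (.node 2 (.node 1 (.leaf 0x5234634234643432) (.leaf 0x6434643432)) (.node 1 (.leaf 0x34764343423473432) (.leaf 0x64534652343423432))))))) (.node 32 (.node 16 (.node 8 (.node 4 (.node 2 (.node 1 (.leaf 0x34623475432) (.leaf 0x34623475463423463432)) (.node 1 (.leaf 0x64347423465432) (.leaf 0x423423464342346423432))) (.node 2 (.node 1 (.leaf 0x753432) (.leaf 0x654346423475432)) (.node 1 (.leaf 0x7534634234743432) (.leaf 0x34123423475432)))) (.node 4 (.node 2 (.node 1 (.leaf 0x534743423463432) (.leaf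 0x7534634123473432)) (.node 1 (.leaf 0x75346341234643432) (.leaf 0x6123434234743432))) (.node 2 (.node 1 (.leaf 0x5234723432) (.leaf 0x5347423432)) (.node 1 (.leaf 0x753463452346423432) (.leaf 0x2345346452343423432))))) (.node 8 (.node 4 (.node 2 (.node 1 (.leaf 0x734543423467432) (.leaf 0x463434234534723432)) (.node 1 (.leaf 0x534742342347123432) (.leaf 0x6745347643423467432))) (.node 2 (.node 1 (.leaf 0x53474234234653432) (.leaf 0x6234342347423432)) (.node 1 (.leaf 0x642347123432) (.leaf 0x464347423432)))) (.node 4 (.node 2 (.node 1 (.leaf 0x2343464234234123432) (.leaf 0x753465342346423432)) (.node 1 (.leaf 0x743462343423473432) (.leaf 0x7234647434523463432))) (.node 2 (.node 1 (.leaf 0x74234342346347423432) (.leaf 0x34623475412346423432)) (.node 1 (.leaf 0x753434123467432) (.leaf 0x534345234234723432)))))) (.node 16 (.node 8 (.node 4 (.node 2 (.node 1 (.leaf 0x6541234723432) (.leaf 0x6543474123432)) (.node 1 (.leaf 0x52342347434123463432)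 (.leaf 0x5346343423473432))) (.node 2 (.node 1 (.leaf 0x53474234234723432) (.leaf 0x534742341234723432)) (.node 1 (.leaf 0x4346743423463432) (.leaf 0x34534234346423432)))) (.node 4 (.node 2 (.node 1 (.leaf 0x674346434234623432) (.leaf 0x5234634734234643432)) (.node 1 (.leaf 0x1234346434234743432) (.leaf 0x54347434234723432))) (.node 2 (.node 1 (.leaf 0x753463412346423432) (.leaf 0x5234234743423463432)) (.node 1 (.leaf 0x234534623453423432) (.leaf 0x234346523434123432))))) (.node 8 (.node 4 (.node 2 (.node 1 (.leaf 0x4743453423467432) (.leaf 0x4745343423467432)) (.node 1 (.leaf 0x5475346341234643432) (.leaf 0x54734634234643432))) (.node 2 (.node 1 (.leaf 0x673434123467432) (.leaf 0x4653423423475432)) (.node 1 (.leaf 0x473453423467432) (.leaf 0x475343423467432)))) (.node 4 (.node 2 (.node 1 (.leaf 0x347643432) (.leaf 0x7453423465432)) (.node 1 (.leaf 0x3452346743423432) (.leaf 0x4634723465432))) (.node 2 (.node 1 (.leaf 0x3472346543423432)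 (.leaf 0x7434753423465432)) (.node 1 (.leaf 0x3423463423473432) (.leaf 0x34672343423432)))))))

def classATree_35 : Tree :=
  .node 64 (.node 32 (.node 16 (.node 8 (.node 4 (.node 2 (.node 1 (.leaf 0x346712343423432) (.leaf 0x6423476434234753432)) (.node 1 (.leaf 0x754234523473432) (.leaf 0x7523465343423473432))) (.node 2 (.node 1 (.leaf 0x54347623434123432) (.leaf 0x7534634234754123432)) (.node 1 (.leaf 0x34234534723432) (.leaf 0x67453423473432)))) (.node 4 (.node 2 (.node 1 (.leaf 0x54743423432) (.leaf 0x474123462343423432)) (.node 1 (.leaf 0x7463434723467432) (.leaf 0x7647346723434123432))) (.node 2 (.node 1 (.leaf 0x34723462342346123432) (.leaf 0x5474234234623432)) (.node 1 (.leaf 0x46342347643423467432) (.leaf 0x346472343423432))))) (.node 8 (.node 4 (.node 2 (.node 1 (.leaf 0x7534234654123432) (.leaf 0x52346343423476432)) (.node 1 (.leaf 0x753423462343423432) (.leaf 0x74654234523473432))) (.node 2 (.node 1 (.leaf 0x3472346342346123432)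 (.leaf 0x764234234723432)) (.node 1 (.leaf 0x63452346345234623432) (.leaf 0x3463472343423432)))) (.node 4 (.node 2 (.node 1 (.leaf 0x745234234723432) (.leaf 0x342345347423432)) (.node 1 (.leaf 0x34764346123432) (.leaf 0x347643423423465432))) (.node 2 (.node 1 (.leaf 0x672342347123432) (.leaf 0x4234745341234723432)) (.node 1 (.leaf 0x34612343423432) (.leaf 0x453434743423463432)))))) (.node 16 (.node 8 (.node 4 (.node 2 (.node 1 (.leaf 0x741234347423432) (.leaf 0x464734234123432)) (.node 1 (.leaf 0x3423453423463432) (.leaf 0x34234653423432))) (.node 2 (.node 1 (.leaf 0x452346423432) (.leaf 0x4534643452343423432)) (.node 1 (.leaf 0x7542347645234623432) (.leaf 0x346723434234623432)))) (.node 4 (.node 2 (.node 1 (.leaf 0x64723452346423432) (.leaf 0x534763434234723432)) (.node 1 (.leaf 0x671234634234723432) (.leaf 0x3474634234753432))) (.node 2 (.node 1 (.leaf 0x734654342346423432) (.leaf 0x64346234234123432)) (.node 1 (.leaf 0x73432) (.leaf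 0x654347423465432))))) (.node 8 (.node 4 (.node 2 (.node 1 (.leaf 0x234234743432) (.leaf 0x434342347645343423432)) (.node 1 (.leaf 0x64346423475432) (.leaf 0x734342346745343423432))) (.node 2 (.node 1 (.leaf 0x43474341234723432) (.leaf 0x734634234643432)) (.node 1 (.leaf 0x4347434234723432) (.leaf 0x53423423475432)))) (.node 4 (.node 2 (.node 1 (.leaf 0x1234723432) (.leaf 0x3474123432)) (.node 1 (.leaf 0x347434234643432) (.leaf 0x64234723432))) (.node 2 (.node 1 (.leaf 0x7343423467432) (.leaf 0x64347423432)) (.node 1 (.leaf 0x6523434234743432) (.leaf 0x73463423473432))))))) (.node 32 (.node 16 (.node 8 (.node 4 (.node 2 (.node 1 (.leaf 0x347434123463432) (.leaf 0x734234123476432)) (.node 1 (.leaf 0x6454234723432) (.leaf 0x3474346423432))) (.node 2 (.node 1 (.leaf 0x347434623434723432) (.leaf 0x6423472343423473432)) (.node 1 (.leaf 0x6543463434234723432) (.leaf 0x123463423474123432)))) (.node 4 (.node 2 (.node 1 (.leaf 0x234346234234123432)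 (.leaf 0x3463434123473432)) (.node 1 (.leaf 0x42346454342347423432) (.leaf 0x76347234234723432))) (.node 2 (.node 1 (.leaf 0x1234634734234643432) (.leaf 0x6423434234743432)) (.node 1 (.leaf 0x7343423467453432) (.leaf 0x6473464342346423432))))) (.node 8 (.node 4 (.node 2 (.node 1 (.leaf 0x3474346234347123432) (.leaf 0x7234647434234653432)) (.node 1 (.leaf 0x34745234234723432) (.leaf 0x34634734234653432))) (.node 2 (.node 1 (.leaf 0x2345346423453423432) (.leaf 0x1234234743423463432)) (.node 1 (.leaf 0x34741234234723432) (.leaf 0x7346342346423432)))) (.node 4 (.node 2 (.node 1 (.leaf 0x5234346434234743432) (.leaf 0x2343464523434123432)) (.node 1 (.leaf 0x347412342347123432) (.leaf 0x73463423464123432))) (.node 2 (.node 1 (.leaf 0x53423423463423432) (.leaf 0x534234123463423432)) (.node 1 (.leaf 0x6743454234346423432) (.leaf 0x5346423453423432)))))) (.node 16 (.node 8 (.node 4 (.node 2 (.node 1 (.leaf 0x23465434234743432) (.leaf 0x623476434234743432))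 (.node 1 (.leaf 0x4543423423475432) (.leaf 0x743423423475432))) (.node 2 (.node 1 (.leaf 0x7523465434123463432) (.leaf 0x4654347423465432)) (.node 1 (.leaf 0x23465434123463432) (.leaf 0x4542346341234623432)))) (.node 4 (.node 2 (.node 1 (.leaf 0x63434234623432) (.leaf 0x54234634534234653432)) (.node 1 (.leaf 0x3464743423463432) (.leaf 0x34763434234723432))) (.node 2 (.node 1 (.leaf 0x5343463472343423432) (.leaf 0x54734653423463432)) (.node 1 (.leaf 0x2346543412347423432) (.leaf 0x734346123434123432))))) (.node 8 (.node 4 (.node 2 (.node 1 (.leaf 0x62347434123467432) (.leaf 0x7346543423467432)) (.node 1 (.leaf 0x64523476434523473432) (.leaf 0x45342347423432))) (.node 2 (.node 1 (.leaf 0x534743453423463432) (.leaf 0x4234634234754123432)) (.node 1 (.leaf 0x434742342347123432) (.leaf 0x1234345234234723432)))) (.node 4 (.node 2 (.node 1 (.leaf 0x75434764234623432) (.leaf 0x71234643423476432)) (.node 1 (.leaf 0x64341234723432) (.leaf 0x543463434234753432)))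 (.node 2 (.node 1 (.leaf 0x754347642346423432) (.leaf 0x4523434234653432)) (.node 1 (.leaf 0x7534342347345234723432) (.leaf 0x452343465423432)))))))

def classATree_36 : Tree :=
  .node 64 (.node 32 (.node 16 (.node 8 (.node 4 (.node 2 (.node 1 (.leaf 0x41234734523465423432) (.leaf 0x52347434123432)) (.node 1 (.leaf 0x434743423463432) (.leaf 0x45347234234623432))) (.node 2 (.node 1 (.leaf 0x46542347123432) (.leaf 0x347434234723432)) (.node 1 (.leaf 0x23474645341234623432) (.leaf 0x6347643423476432)))) (.node 4 (.node 2 (.node 1 (.leaf 0x64341234234623432) (.leaf 0x764346123434123432)) (.node 1 (.leaf 0x3462347343423463432) (.leaf 0x5434674534234723432))) (.node 2 (.node 1 (.leaf 0x75234634123463432) (.leaf 0x474643423476432)) (.node 1 (.leaf 0x454346743423463432) (.leaf 0x743454234623432))))) (.node 8 (.node 4 (.node 2 (.node 1 (.leaf 0x453473423463432) (.leaf 0x4634234234723432)) (.node 1 (.leaf 0x54342342346123432) (.leaf 0x3474346343423463432)))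 (.node 2 (.node 1 (.leaf 0x476342346123432) (.leaf 0x63434234743432)) (.node 1 (.leaf 0x46434734123463432) (.leaf 0x4674123462343423432)))) (.node 4 (.node 2 (.node 1 (.leaf 0x463453423476432) (.leaf 0x465343423476432)) (.node 1 (.leaf 0x5347434234643432) (.leaf 0x673467434234743432))) (.node 2 (.node 1 (.leaf 0x34634234743432) (.leaf 0x475463472343423432)) (.node 1 (.leaf 0x534734234643432) (.leaf 0x534674634234643432)))))) (.node 16 (.node 8 (.node 4 (.node 2 (.node 1 (.leaf 0x4634534123476432) (.leaf 0x4653434123476432)) (.node 1 (.leaf 0x54634534123476432) (.leaf 0x47643423423465432))) (.node 2 (.node 1 (.leaf 0x7642346542346423432) (.leaf 0x734523463423464123432)) (.node 1 (.leaf 0x7467434234653432) (.leaf 0x543474612343423432)))) (.node 4 (.node 2 (.node 1 (.leaf 0x7423464543423432) (.leaf 0x2343464342346423432)) (.node 1 (.leaf 0x534634723465432) (.leaf 0x6543464342346123432))) (.node 2 (.node 1 (.leaf 0x53463423464123432) (.leaf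 0x123463452346423432)) (.node 1 (.leaf 0x4342347643423467432) (.leaf 0x647453434234753432))))) (.node 8 (.node 4 (.node 2 (.node 1 (.leaf 0x54745343423467432) (.leaf 0x6423472343423432)) (.node 1 (.leaf 0x642347123434123432) (.leaf 0x5346345234623432))) (.node 2 (.node 1 (.leaf 0x465347342347423432) (.leaf 0x64347234346123432)) (.node 1 (.leaf 0x53463434523463432) (.leaf 0x46347543412346423432)))) (.node 4 (.node 2 (.node 1 (.leaf 0x7346543412347423432) (.leaf 0x64347342347423432)) (.node 1 (.leaf 0x234234123473423432) (.leaf 0x7534653423467432))) (.node 2 (.node 1 (.leaf 0x423412347643423467432) (.leaf 0x6723434523473432)) (.node 1 (.leaf 0x234642347342347423432) (.leaf 0x734234523473432))))))) (.node 32 (.node 16 (.node 8 (.node 4 (.node 2 (.node 1 (.leaf 0x6453473412347423432) (.leaf 0x645434234234623432)) (.node 1 (.leaf 0x434234234234623432) (.leaf 0x2345434643423463432))) (.node 2 (.node 1 (.leaf 0x73423476423464123432) (.leaf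 0x7341234234653432)) (.node 1 (.leaf 0x434523463423476432) (.leaf 0x62342346434234643432)))) (.node 4 (.node 2 (.node 1 (.leaf 0x423463434123463432) (.leaf 0x34542347423432)) (.node 1 (.leaf 0x64346523434123432) (.leaf 0x674234623453423476432))) (.node 2 (.node 1 (.leaf 0x3412346343423476432) (.leaf 0x643472343465423432)) (.node 1 (.leaf 0x547612343423432) (.leaf 0x4234634234623432))))) (.node 8 (.node 4 (.node 2 (.node 1 (.leaf 0x434674342347123432) (.leaf 0x643412346345234623432)) (.node 1 (.leaf 0x474346342346423432) (.leaf 0x6341234234623432))) (.node 2 (.node 1 (.leaf 0x7543473434234623432) (.leaf 0x534743423476432)) (.node 1 (.leaf 0x67234346123432) (.leaf 0x54752343423432)))) (.node 4 (.node 2 (.node 1 (.leaf 0x473463423467432) (.leaf 0x54764234523473432)) (.node 1 (.leaf 0x423476434123432) (.leaf 0x47234654234123463432))) (.node 2 (.node 1 (.leaf 0x5346234234643432) (.leaf 0x5346234723434623432)) (.node 1 (.leaf 0x734234623473423476432)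 (.leaf 0x734234234753432)))))) (.node 16 (.node 8 (.node 4 (.node 2 (.node 1 (.leaf 0x654342346342346123432) (.leaf 0x523463423464123432)) (.node 1 (.leaf 0x534653412346423432) (.leaf 0x634523434234653432))) (.node 2 (.node 1 (.leaf 0x63434234123463423432) (.leaf 0x6543476472343423432)) (.node 1 (.leaf 0x64342341234623432) (.leaf 0x5234346453423463432)))) (.node 4 (.node 2 (.node 1 (.leaf 0x7343423453475423432) (.leaf 0x7345234234653432)) (.node 1 (.leaf 0x76123434234753432) (.leaf 0x23423423473423432))) (.node 2 (.node 1 (.leaf 0x4745346343423473432) (.leaf 0x5464347343423463432)) (.node 1 (.leaf 0x47453463423463432) (.leaf 0x4645342347423432))))) (.node 8 (.node 4 (.node 2 (.node 1 (.leaf 0x64743463423464123432) (.leaf 0x47434234734123432)) (.node 1 (.leaf 0x47434234123476432) (.leaf 0x63434123473423432))) (.node 2 (.node 1 (.leaf 0x476434623434123432) (.leaf 0x654347641234723432)) (.node 1 (.leaf 0x543473434123463432) (.leaf 0x5346534234623432))))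 (.node 4 (.node 2 (.node 1 (.leaf 0x53412347423432) (.leaf 0x76123434623432)) (.node 1 (.leaf 0x53423464534234623432) (.leaf 0x473434623434123432))) (.node 2 (.node 1 (.leaf 0x462343423453423465432) (.leaf 0x46734346123434123432)) (.node 1 (.leaf 0x763472343423473432) (.leaf 0x764734634234723432)))))))

def classATree_37 : Tree :=
  .node 64 (.node 32 (.node 16 (.node 8 (.node 4 (.node 2 (.node 1 (.leaf 0x346342346743423476432) (.leaf 0x7534634123467432)) (.node 1 (.leaf 0x543452346743423467432) (.leaf 0x47623434123432))) (.node 2 (.node 1 (.leaf 0x5412346341234623432) (.leaf 0x7463474342347423432)) (.node 1 (.leaf 0x5412346343423463432) (.leaf 0x6345342345346423432)))) (.node 4 (.node 2 (.node 1 (.leaf 0x53474534123476432) (.leaf 0x47234234123432)) (.node 1 (.leaf 0x343423476434123432) (.leaf 0x52343473453423473432))) (.node 2 (.node 1 (.leaf 0x42347543423473432) (.leaf 0x45234753463423463432)) (.node 1 (.leaf 0x342346542346123432)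 (.leaf 0x54234534643423463432))))) (.node 8 (.node 4 (.node 2 (.node 1 (.leaf 0x74234754234723432) (.leaf 0x43423462342346423432)) (.node 1 (.leaf 0x73434653432) (.leaf 0x4623434123476432))) (.node 2 (.node 1 (.leaf 0x4347462343423432) (.leaf 0x75467434523463432)) (.node 1 (.leaf 0x54653423475432) (.leaf 0x423474543423432)))) (.node 4 (.node 2 (.node 1 (.leaf 0x46234734123463432) (.leaf 0x462347345234723432)) (.node 1 (.leaf 0x47342346542346423432) (.leaf 0x34645342347123432))) (.node 2 (.node 1 (.leaf 0x67343423463432) (.leaf 0x1234342346347423432)) (.node 1 (.leaf 0x65434523434623432) (.leaf 0x346234234723432)))))) (.node 16 (.node 8 (.node 4 (.node 2 (.node 1 (.leaf 0x74673452343423432) (.leaf 0x4743423453423432)) (.node 1 (.leaf 0x6474643423473432) (.leaf 0x2346234234723432))) (.node 2 (.node 1 (.leaf 0x423434234634123432) (.leaf 0x3453473452347423432)) (.node 1 (.leaf 0x4745346342346123432) (.leaf 0x2346234234754123432)))) (.node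 4 (.node 2 (.node 1 (.leaf 0x7234634123467432) (.leaf 0x7543467434123476432)) (.node 1 (.leaf 0x7234346123432) (.leaf 0x76452347345234723432))) (.node 2 (.node 1 (.leaf 0x743475423476432) (.leaf 0x534643423473432)) (.node 1 (.leaf 0x742347345234723432) (.leaf 0x67467434123473432))))) (.node 8 (.node 4 (.node 2 (.node 1 (.leaf 0x534642342346123432) (.leaf 0x34234674234723432)) (.node 1 (.leaf 0x67453434234623432) (.leaf 0x6423473434123473432))) (.node 2 (.node 1 (.leaf 0x6543474612343423432) (.leaf 0x4743463452347423432)) (.node 1 (.leaf 0x2345347452343423432) (.leaf 0x6542342347123432)))) (.node 4 (.node 2 (.node 1 (.leaf 0x6434123463423464123432) (.leaf 0x4623434234346423432)) (.node 1 (.leaf 0x42342347342347123432) (.leaf 0x23434234634123432))) (.node 2 (.node 1 (.leaf 0x753463452343423432) (.leaf 0x434654345423473432)) (.node 1 (.leaf 0x34534674234723432) (.leaf 0x42347234123432))))))) (.node 32 (.node 16 (.node 8 (.node 4 (.node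 2 (.node 1 (.leaf 0x234743423476432) (.leaf 0x423473452343423432)) (.node 1 (.leaf 0x54723434234643432) (.leaf 0x76473423474123432))) (.node 2 (.node 1 (.leaf 0x54123472343423432) (.leaf 0x723412346423432)) (.node 1 (.leaf 0x52347234234623432) (.leaf 0x474534234653432)))) (.node 4 (.node 2 (.node 1 (.leaf 0x46743423476434123432) (.leaf 0x346234234643432)) (.node 1 (.leaf 0x2343463434623432) (.leaf 0x3465341234623432))) (.node 2 (.node 1 (.leaf 0x7343464234234123432) (.leaf 0x123463423464123432)) (.node 1 (.leaf 0x42342347643423467432) (.leaf 0x6723434623432))))) (.node 8 (.node 4 (.node 2 (.node 1 (.leaf 0x347453423476432) (.leaf 0x6434764712343423432)) (.node 1 (.leaf 0x6434746434234753432) (.leaf 0x647434534234753432))) (.node 2 (.node 1 (.leaf 0x73463423467432) (.leaf 0x645342346342346123432)) (.node 1 (.leaf 0x64347523434723432) (.leaf 0x734234764345423473432)))) (.node 4 (.node 2 (.node 1 (.leaf 0x4645347343423463432) (.leaf 0x547523434123432))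 (.node 1 (.leaf 0x346347343423476432) (.leaf 0x342347423432))) (.node 2 (.node 1 (.leaf 0x42346341234623432) (.leaf 0x1234346453423463432)) (.node 1 (.leaf 0x47434642342346423432) (.leaf 0x342347234346123432)))))) (.node 16 (.node 8 (.node 4 (.node 2 (.node 1 (.leaf 0x4734674342347123432) (.leaf 0x64534623453423432)) (.node 1 (.leaf 0x42346343423463432) (.leaf 0x6723434234753432))) (.node 2 (.node 1 (.leaf 0x7534234523463432) (.leaf 0x65342341234623432)) (.node 1 (.leaf 0x6434723434654123432) (.leaf 0x643412346342346123432)))) (.node 4 (.node 2 (.node 1 (.leaf 0x4347343423463432) (.leaf 0x3465342346423432)) (.node 1 (.leaf 0x674234652343423476432) (.leaf 0x3423474234234623432))) (.node 2 (.node 1 (.leaf 0x5467234234123432) (.leaf 0x7345347341234623432)) (.node 1 (.leaf 0x54743453423467432) (.leaf 0x64234712343423432))))) (.node 8 (.node 4 (.node 2 (.node 1 (.leaf 0x3462347234346123432) (.leaf 0x6434764234723432)) (.node 1 (.leaf 0x6434723434623432)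 (.leaf 0x745346343423473432))) (.node 2 (.node 1 (.leaf 0x346345434234653432) (.leaf 0x6434734542347423432)) (.node 1 (.leaf 0x4734234234234623432) (.leaf 0x34523464342346123432)))) (.node 4 (.node 2 (.node 1 (.leaf 0x47645234234753432) (.leaf 0x54734634123467432)) (.node 1 (.leaf 0x7346123472343423432) (.leaf 0x46345343423473432))) (.node 2 (.node 1 (.leaf 0x754674534234653432) (.leaf 0x46523434623476432)) (.node 1 (.leaf 0x64734523465423432) (.leaf 0x54764234234753432)))))))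

def classATree_38 : Tree :=
  .node 64 (.node 32 (.node 16 (.node 8 (.node 4 (.node 2 (.node 1 (.leaf 0x7434234234753432) (.leaf 0x43454234234753432)) (.node 1 (.leaf 0x3453423423475432) (.leaf 0x434234234753432))) (.node 2 (.node 1 (.leaf 0x76472341234623432) (.leaf 0x764346742347123432)) (.node 1 (.leaf 0x34123476432) (.leaf 0x763423467432)))) (.node 4 (.node 2 (.node 1 (.leaf 0x64741234234623432) (.leaf 0x6534734234654123432)) (.node 1 (.leaf 0x53434234643432) (.leaf 0x534734634123467432))) (.node 2 (.node 1 (.leaf 0x674534674234723432) (.leaf 0x462343462343423432)) (.node 1 (.leaf 0x546345434234753432) (.leaf 0x63423473423465432))))) (.node 8 (.node 4 (.node 2 (.node 1 (.leaf 0x464345341234723432) (.leaf 0x463434523473432)) (.node 1 (.leaf 0x534673462343423432) (.leaf 0x645234234653432))) (.node 2 (.node 1 (.leaf 0x234764341234643432) (.leaf 0x523465423432)) (.node 1 (.leaf 0x64234654123432) (.leaf 0x65434723467432)))) (.node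 4 (.node 2 (.node 1 (.leaf 0x654234234653432) (.leaf 0x74643472343423432)) (.node 1 (.leaf 0x234523463432) (.leaf 0x12343462343423432))) (.node 2 (.node 1 (.leaf 0x473423473423463432) (.leaf 0x42346542347423432)) (.node 1 (.leaf 0x6434523462343423432) (.leaf 0x474634342346123432)))))) (.node 16 (.node 8 (.node 4 (.node 2 (.node 1 (.leaf 0x3454341234723432) (.leaf 0x6123473453423463432)) (.node 1 (.leaf 0x34543423467423432) (.leaf 0x464534123476432))) (.node 2 (.node 1 (.leaf 0x6434734234654123432) (.leaf 0x634764341234623432)) (.node 1 (.leaf 0x53476434123467432) (.leaf 0x4643434234643432)))) (.node 4 (.node 2 (.node 1 (.leaf 0x6742341234623432) (.leaf 0x6473423467432)) (.node 1 (.leaf 0x534342347123432) (.leaf 0x7464341234723432))) (.node 2 (.node 1 (.leaf 0x6343472343465423432) (.leaf 0x347434234234723432)) (.node 1 (.leaf 0x734645434234623432) (.leaf 0x654753423467432))))) (.node 8 (.node 4 (.node 2 (.node 1 (.leaf 0x546434123476432)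 (.leaf 0x53476453423467432)) (.node 1 (.leaf 0x7641234234623432) (.leaf 0x53434523467423432))) (.node 2 (.node 1 (.leaf 0x63475234234723432) (.leaf 0x347234234234643432)) (.node 1 (.leaf 0x34723434234643432) (.leaf 0x2347423432)))) (.node 4 (.node 2 (.node 1 (.leaf 0x34723432) (.leaf 0x723434234743432)) (.node 1 (.leaf 0x123423423475432) (.leaf 0x72346434234643432))) (.node 2 (.node 1 (.leaf 0x53462347342347123432) (.leaf 0x76453434234653432)) (.node 1 (.leaf 0x34754123432) (.leaf 0x76434534234623432))))))) (.node 32 (.node 16 (.node 8 (.node 4 (.node 2 (.node 1 (.leaf 0x534234753432) (.leaf 0x53462347345234723432)) (.node 1 (.leaf 0x34234743423476432) (.leaf 0x234734234754123432))) (.node 2 (.node 1 (.leaf 0x342347434123476432) (.leaf 0x6453463423475423432)) (.node 1 (.leaf 0x623473423465423432) (.leaf 0x234347641234723432)))) (.node 4 (.node 2 (.node 1 (.leaf 0x123434234346423432) (.leaf 0x34634234123473432)) (.node 1 (.leaf 0x234634234723432)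 (.leaf 0x434754634234643432))) (.node 2 (.node 1 (.leaf 0x234753463423463432) (.leaf 0x234734653423463432)) (.node 1 (.leaf 0x434523423463423432) (.leaf 0x234523472343423432))))) (.node 8 (.node 4 (.node 2 (.node 1 (.leaf 0x54342345346423432) (.leaf 0x45434234753432)) (.node 1 (.leaf 0x34654347462343423432) (.leaf 0x34653434123473432))) (.node 2 (.node 1 (.leaf 0x434234753432) (.leaf 0x6534347462343423432)) (.node 1 (.leaf 0x4643473452346423432) (.leaf 0x76453434234723432)))) (.node 4 (.node 2 (.node 1 (.leaf 0x4652343423432) (.leaf 0x23473453423432)) (.node 1 (.leaf 0x7234643452347423432) (.leaf 0x46734674234723432))) (.node 2 (.node 1 (.leaf 0x234742343423473432) (.leaf 0x467234634234723432)) (.node 1 (.leaf 0x234723434234723432) (.leaf 0x346454342346423432)))))) (.node 16 (.node 8 (.node 4 (.node 2 (.node 1 (.leaf 0x7643453423473432) (.leaf 0x746434734234623432)) (.node 1 (.leaf 0x53462347342347423432) (.leaf 0x42342346342346123432)))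 (.node 2 (.node 1 (.leaf 0x7343464342346123432) (.leaf 0x75342346123432)) (.node 1 (.leaf 0x5434754123432) (.leaf 0x42346434234754123432)))) (.node 4 (.node 2 (.node 1 (.leaf 0x6472341234623432) (.leaf 0x64346742347123432)) (.node 1 (.leaf 0x753434234643432) (.leaf 0x63423467432))) (.node 2 (.node 1 (.leaf 0x3475346234234723432) (.leaf 0x645434674234723432)) (.node 1 (.leaf 0x64345423473423432) (.leaf 0x6347434234654123432))))) (.node 8 (.node 4 (.node 2 (.node 1 (.leaf 0x734123476432) (.leaf 0x763423473423465432)) (.node 1 (.leaf 0x2346123472343423432) (.leaf 0x54346434123463432))) (.node 2 (.node 1 (.leaf 0x7463434523473432) (.leaf 0x654763472343423432)) (.node 1 (.leaf 0x7645234234653432) (.leaf 0x4654723462343423432)))) (.node 4 (.node 2 (.node 1 (.leaf 0x234764123432) (.leaf 0x674234234653432)) (.node 1 (.leaf 0x47523434723432) (.leaf 0x234673434123432))) (.node 2 (.node 1 (.leaf 0x4643472343423432) (.leaf 0x3452346743432)) (.node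 1 (.leaf 0x34654341234743432) (.leaf 0x34347434234623432)))))))

def classATree_39 : Tree :=
  .node 64 (.node 32 (.node 16 (.node 8 (.node 4 (.node 2 (.node 1 (.leaf 0x47634342346123432) (.leaf 0x234342347123432)) (.node 1 (.leaf 0x3453473463423463432) (.leaf 0x53476473423476432))) (.node 2 (.node 1 (.leaf 0x54643454234723432) (.leaf 0x76473423467432)) (.node 1 (.leaf 0x34654345234623432) (.leaf 0x4674347643423467432)))) (.node 4 (.node 2 (.node 1 (.leaf 0x45347234234723432) (.leaf 0x6542341234623432)) (.node 1 (.leaf 0x7464534123476432) (.leaf 0x712343462343423432))) (.node 2 (.node 1 (.leaf 0x6734523462343423432) (.leaf 0x6734346741234623432)) (.node 1 (.leaf 0x2345341234723432) (.leaf 0x464341234723432))))) (.node 8 (.node 4 (.node 2 (.node 1 (.leaf 0x647453423467432) (.leaf 0x674634123476432)) (.node 1 (.leaf 0x34645434234623432) (.leaf 0x34734234234723432))) (.node 2 (.node 1 (.leaf 0x3463473434234653432) (.leaf 0x543472341234723432))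 (.node 1 (.leaf 0x6434623434623432) (.leaf 0x641234234623432)))) (.node 4 (.node 2 (.node 1 (.leaf 0x41234623453423476432) (.leaf 0x41234652343423476432)) (.node 1 (.leaf 0x46453434123476432) (.leaf 0x46434534123476432))) (.node 2 (.node 1 (.leaf 0x534623423475432) (.leaf 0x53465423423475432)) (.node 1 (.leaf 0x2343452343423467432) (.leaf 0x2343423453423467432)))))) (.node 16 (.node 8 (.node 4 (.node 2 (.node 1 (.leaf 0x763432) (.leaf 0x2346745343423432)) (.node 1 (.leaf 0x6472346543423432) (.leaf 0x7546342347643423432))) (.node 2 (.node 1 (.leaf 0x434643432) (.leaf 0x7423467452343423432)) (.node 1 (.leaf 0x7634234523473432) (.leaf 0x346423475432)))) (.node 4 (.node 2 (.node 1 (.leaf 0x4673423465423432) (.leaf 0x7647341234623432)) (.node 1 (.leaf 0x6745234674234723432) (.leaf 0x123473463423467432))) (.node 2 (.node 1 (.leaf 0x763423476432) (.leaf 0x234123476432)) (.node 1 (.leaf 0x523434234643432) (.leaf 0x5234734634123467432)))))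 (.node 8 (.node 4 (.node 2 (.node 1 (.leaf 0x64743454234623432) (.leaf 0x7642346742347123432)) (.node 1 (.leaf 0x46734523475423432) (.leaf 0x467345234723432))) (.node 2 (.node 1 (.leaf 0x54346523434623432) (.leaf 0x234634234743432)) (.node 1 (.leaf 0x434234534234623432) (.leaf 0x54347234346123432)))) (.node 4 (.node 2 (.node 1 (.leaf 0x74653423476432) (.leaf 0x4347123434623432)) (.node 1 (.leaf 0x1234342347423432) (.leaf 0x5423434234743432))) (.node 2 (.node 1 (.leaf 0x75463423476432) (.leaf 0x634234723434623432)) (.node 1 (.leaf 0x762343462343423432) (.leaf 0x4347123434234723432))))))) (.node 32 (.node 16 (.node 8 (.node 4 (.node 2 (.node 1 (.leaf 0x6412346343423463432) (.leaf 0x54347423432)) (.node 1 (.leaf 0x764534234634123432) (.leaf 0x5434742341234723432))) (.node 2 (.node 1 (.leaf 0x5412342346423432) (.leaf 0x3464234723434623432)) (.node 1 (.leaf 0x4534234234623432) (.leaf 0x423412346423432)))) (.node 4 (.node 2 (.node 1 (.leaf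 0x45347423432) (.leaf 0x43464342346123432)) (.node 1 (.leaf 0x6734534734234623432) (.leaf 0x5476343462343423432))) (.node 2 (.node 1 (.leaf 0x54342341234623432) (.leaf 0x54234743423453423432)) (.node 1 (.leaf 0x6743423463423432) (.leaf 0x453474234234723432))))) (.node 8 (.node 4 (.node 2 (.node 1 (.leaf 0x454346434234723432) (.leaf 0x74674343423473432)) (.node 1 (.leaf 0x7341234623432) (.leaf 0x7464234723434623432))) (.node 2 (.node 1 (.leaf 0x42346434523475423432) (.leaf 0x4543475423432)) (.node 1 (.leaf 0x74643473423474123432) (.leaf 0x5474346342346423432)))) (.node 4 (.node 2 (.node 1 (.leaf 0x7345234623432) (.leaf 0x4743464543423473432)) (.node 1 (.leaf 0x2347423463423467432) (.leaf 0x673434523463432))) (.node 2 (.node 1 (.leaf 0x634342341234623432) (.leaf 0x54634743423432)) (.node 1 (.leaf 0x76345341234623432) (.leaf 0x673463423475423432)))))) (.node 16 (.node 8 (.node 4 (.node 2 (.node 1 (.leaf 0x54642342346123432) (.leaf 0x34652347345234723432))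 (.node 1 (.leaf 0x7464534234753432) (.leaf 0x2343423473423432))) (.node 2 (.node 1 (.leaf 0x463475463423467432) (.leaf 0x734347542347123432)) (.node 1 (.leaf 0x343474543423473432) (.leaf 0x6743434234347423432)))) (.node 4 (.node 2 (.node 1 (.leaf 0x623473423467423432) (.leaf 0x123434123467432)) (.node 1 (.leaf 0x7645234723432) (.leaf 0x5347346423432))) (.node 2 (.node 1 (.leaf 0x43412346342346423432) (.leaf 0x7434523463434123473432)) (.node 1 (.leaf 0x434647434234643432) (.leaf 0x23434234346423432))))) (.node 8 (.node 4 (.node 2 (.node 1 (.leaf 0x2341234743423476432) (.leaf 0x7641234634234643432)) (.node 1 (.leaf 0x2343476434123432) (.leaf 0x546347434234623432))) (.node 2 (.node 1 (.leaf 0x4734346542347123432) (.leaf 0x7467434234753432)) (.node 1 (.leaf 0x23463423474123432) (.leaf 0x476476434234753432)))) (.node 4 (.node 2 (.node 1 (.leaf 0x743462343423463432) (.leaf 0x753463434523473432)) (.node 1 (.leaf 0x523467434234653432) (.leaf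 0x62347342347423432))) (.node 2 (.node 1 (.leaf 0x473434754234723432) (.leaf 0x34347543423473432)) (.node 1 (.leaf 0x5476342346423432) (.leaf 0x4734523434234723432)))))))

def classATree_40 : Tree :=
  .node 64 (.node 32 (.node 16 (.node 8 (.node 4 (.node 2 (.node 1 (.leaf 0x3474341234623432) (.leaf 0x1234764342346123432)) (.node 1 (.leaf 0x6434234123463423432) (.leaf 0x4123464342346423432))) (.node 2 (.node 1 (.leaf 0x743474234234723432) (.leaf 0x7623434623434123432)) (.node 1 (.leaf 0x43463434234753432) (.leaf 0x674343423473432)))) (.node 4 (.node 2 (.node 1 (.leaf 0x234534634123432) (.leaf 0x673434523434723432)) (.node 1 (.leaf 0x34534623432) (.leaf 0x234645234234623432))) (.node 2 (.node 1 (.leaf 0x6434345423463432) (.leaf 0x7467453423463432)) (.node 1 (.leaf 0x43475423432) (.leaf 0x67423465234234623432))))) (.node 8 (.node 4 (.node 2 (.node 1 (.leaf 0x762342346123432) (.leaf 0x347643412347423432)) (.node 1 (.leaf 0x674234123476432)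 (.leaf 0x534234674123432))) (.node 2 (.node 1 (.leaf 0x543475234234723432) (.leaf 0x742346434234723432)) (.node 1 (.leaf 0x3473453423467432) (.leaf 0x7342345346423432)))) (.node 4 (.node 2 (.node 1 (.leaf 0x64754234523463432) (.leaf 0x64234764123432)) (.node 1 (.leaf 0x34712343423432) (.leaf 0x5423463423432))) (.node 2 (.node 1 (.leaf 0x123434743423432) (.leaf 0x3423434234743432)) (.node 1 (.leaf 0x5472346123434123432) (.leaf 0x34234723432)))))) (.node 16 (.node 8 (.node 4 (.node 2 (.node 1 (.leaf 0x643452346743432) (.leaf 0x342347346423432)) (.node 1 (.leaf 0x7645234234623432) (.leaf 0x34234234123473432))) (.node 2 (.node 1 (.leaf 0x734234753423432) (.leaf 0x4753434234534723432)) (.node 1 (.leaf 0x653423472343423432) (.leaf 0x6434123467432)))) (.node 4 (.node 2 (.node 1 (.leaf 0x342347234123432) (.leaf 0x34745343423467432)) (.node 1 (.leaf 0x7342347123432) (.leaf 0x46473423476432))) (.node 2 (.node 1 (.leaf 0x73423453423473432) (.leaf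 0x73467434123467432)) (.node 1 (.leaf 0x3467453423467432) (.leaf 0x65475434123467432))))) (.node 8 (.node 4 (.node 2 (.node 1 (.leaf 0x342342346123432) (.leaf 0x5464342347123432)) (.node 1 (.leaf 0x6234234623432) (.leaf 0x64754653423476432))) (.node 2 (.node 1 (.leaf 0x543465423474123432) (.leaf 0x74234643423463432)) (.node 1 (.leaf 0x734623472343423432) (.leaf 0x623434674234623432)))) (.node 4 (.node 2 (.node 1 (.leaf 0x6473434674234623432) (.leaf 0x75343462343423432)) (.node 1 (.leaf 0x347345234346423432) (.leaf 0x47534345234623432))) (.node 2 (.node 1 (.leaf 0x434745434234653432) (.leaf 0x7543463423463432)) (.node 1 (.leaf 0x653423473423476432) (.leaf 0x5423463423463432))))))) (.node 32 (.node 16 (.node 8 (.node 4 (.node 2 (.node 1 (.leaf 0x5472346743423476432) (.leaf 0x7543473423432)) (.node 1 (.leaf 0x6523434234643432) (.leaf 0x64234623434123463432))) (.node 2 (.node 1 (.leaf 0x65347343423463432) (.leaf 0x52346423432)) (.node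 1 (.leaf 0x2346743463423473432) (.leaf 0x534623432)))) (.node 4 (.node 2 (.node 1 (.leaf 0x53473412347423432) (.leaf 0x6341234234723432)) (.node 1 (.leaf 0x63452342347123432) (.leaf 0x452347434234623432))) (.node 2 (.node 1 (.leaf 0x4753423462343423432) (.leaf 0x12346434234643432)) (.node 1 (.leaf 0x53462343423463432) (.leaf 0x3452343423465432))))) (.node 8 (.node 4 (.node 2 (.node 1 (.leaf 0x634123432) (.leaf 0x34123463432)) (.node 1 (.leaf 0x463476434234753432) (.leaf 0x3412346345234623432))) (.node 2 (.node 1 (.leaf 0x6341234634234753432) (.leaf 0x3412346342346423432)) (.node 1 (.leaf 0x1234234634234623432) (.leaf 0x534123423465432)))) (.node 4 (.node 2 (.node 1 (.leaf 0x23453465423432) (.leaf 0x643462343475423432)) (.node 1 (.leaf 0x4347523434723467432) (.leaf 0x6347643412346423432))) (.node 2 (.node 1 (.leaf 0x3412346342346123432) (.leaf 0x234534234653432)) (.node 1 (.leaf 0x434645342346423432) (.leaf 0x6543467462343423432))))))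 (.node 16 (.node 8 (.node 4 (.node 2 (.node 1 (.leaf 0x23434654123432) (.leaf 0x53462341234623432)) (.node 1 (.leaf 0x23434523463432) (.leaf 0x6345434643423463432))) (.node 2 (.node 1 (.leaf 0x534754343423463432) (.leaf 0x45434346472343423432)) (.node 1 (.leaf 0x6453434734234723432) (.leaf 0x474234674234723432)))) (.node 4 (.node 2 (.node 1 (.leaf 0x5346234523465423432) (.leaf 0x5346234234623432)) (.node 1 (.leaf 0x465343463423463432) (.leaf 0x473434643423463432))) (.node 2 (.node 1 (.leaf 0x234523423423465432) (.leaf 0x3464743412347423432)) (.node 1 (.leaf 0x464347343423463432) (.leaf 0x347453434523463432))))) (.node 8 (.node 4 (.node 2 (.node 1 (.leaf 0x5234623434234723432) (.leaf 0x7623473423474123432)) (.node 1 (.leaf 0x4234723453423467432) (.leaf 0x4234752343423467432))) (.node 2 (.node 1 (.leaf 0x7523434234743432) (.leaf 0x123434234743432)) (.node 1 (.leaf 0x764346734234653432) (.leaf 0x342347645234623432)))) (.node 4 (.node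 2 (.node 1 (.leaf 0x346123423475432) (.leaf 0x34654123423475432)) (.node 1 (.leaf 0x6434743432) (.leaf 0x4754234654234623432))) (.node 2 (.node 1 (.leaf 0x462347543423432) (.leaf 0x653432)) (.node 1 (.leaf 0x64234754234723432) (.leaf 0x5423467434123432)))))))

def classATree_41 : Tree :=
  .node 64 (.node 32 (.node 16 (.node 8 (.node 4 (.node 2 (.node 1 (.leaf 0x65341234234753432) (.leaf 0x34723465432)) (.node 1 (.leaf 0x63454234234753432) (.leaf 0x7343423473423432))) (.node 2 (.node 1 (.leaf 0x2347434234643432) (.leaf 0x73463423473423432)) (.node 1 (.leaf 0x6534123476432) (.leaf 0x73423467432)))) (.node 4 (.node 2 (.node 1 (.leaf 0x7123434234643432) (.leaf 0x6534234523463432)) (.node 1 (.leaf 0x743474123432) (.leaf 0x742342346423432))) (.node 2 (.node 1 (.leaf 0x473463423453423432) (.leaf 0x434634734123463432)) (.node 1 (.leaf 0x62347434523465423432) (.leaf 0x6475342346123432))))) (.node 8 (.node 4 (.node 2 (.node 1 (.leaf 0x7546347423432)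 (.leaf 0x7543464345234623432)) (.node 1 (.leaf 0x4746343423463432) (.leaf 0x4652347342347123432))) (.node 2 (.node 1 (.leaf 0x623434612343423432) (.leaf 0x6345347341234623432)) (.node 1 (.leaf 0x474634234723432) (.leaf 0x5234743463423467432)))) (.node 4 (.node 2 (.node 1 (.leaf 0x642346745234723432) (.leaf 0x654734234623432)) (.node 1 (.leaf 0x6234534623434123432) (.leaf 0x6434347542346123432))) (.node 2 (.node 1 (.leaf 0x5423473434234643432) (.leaf 0x6534234234653432)) (.node 1 (.leaf 0x4764234764234623432) (.leaf 0x4734653423476432)))))) (.node 16 (.node 8 (.node 4 (.node 2 (.node 1 (.leaf 0x434764234123476432) (.leaf 0x65473423463423432)) (.node 1 (.leaf 0x454347643423467432) (.leaf 0x6434123463423432))) (.node 2 (.node 1 (.leaf 0x743452342346123432) (.leaf 0x47647234234623432)) (.node 1 (.leaf 0x6434743423464123432) (.leaf 0x4634123476432)))) (.node 4 (.node 2 (.node 1 (.leaf 0x75234342347423432) (.leaf 0x546534123476432)) (.node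 1 (.leaf 0x54754234123476432) (.leaf 0x547234123476432))) (.node 2 (.node 1 (.leaf 0x7434643432) (.leaf 0x546342347643423432)) (.node 1 (.leaf 0x423467452343423432) (.leaf 0x542346743423432))))) (.node 8 (.node 4 (.node 2 (.node 1 (.leaf 0x4623475434123432) (.leaf 0x63432)) (.node 1 (.leaf 0x634234523473432) (.leaf 0x234234643432))) (.node 2 (.node 1 (.leaf 0x634234234753432) (.leaf 0x63434234643432)) (.node 1 (.leaf 0x634734234643432) (.leaf 0x6342347645234623432)))) (.node 4 (.node 2 (.node 1 (.leaf 0x1234743463423467432) (.leaf 0x647341234623432)) (.node 1 (.leaf 0x63423476432) (.leaf 0x23475346234234723432))) (.node 2 (.node 1 (.leaf 0x7234123476432) (.leaf 0x7523434234643432)) (.node 1 (.leaf 0x642346742347123432) (.leaf 0x5473434234743432))))))) (.node 32 (.node 16 (.node 8 (.node 4 (.node 2 (.node 1 (.leaf 0x6345234234653432) (.leaf 0x6341234234653432)) (.node 1 (.leaf 0x7434234534234623432) (.leaf 0x6343423467453432))) (.node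 2 (.node 1 (.leaf 0x6343465423476432) (.leaf 0x234234643423476432)) (.node 1 (.leaf 0x754347234346123432) (.leaf 0x4653423476432)))) (.node 4 (.node 2 (.node 1 (.leaf 0x74347123434623432) (.leaf 0x745347423432)) (.node 1 (.leaf 0x7423412346423432) (.leaf 0x743464342346123432))) (.node 2 (.node 1 (.leaf 0x4753463423476432) (.leaf 0x634234764234623432)) (.node 1 (.leaf 0x6343423453475423432) (.leaf 0x5462347534234723432))))) (.node 8 (.node 4 (.node 2 (.node 1 (.leaf 0x6543423463423432) (.leaf 0x634734623434723432)) (.node 1 (.leaf 0x4652347345234723432) (.leaf 0x63423476423464123432))) (.node 2 (.node 1 (.leaf 0x62343462343423432) (.leaf 0x634346423432)) (.node 1 (.leaf 0x64534234634123432) (.leaf 0x543476453423467432)))) (.node 4 (.node 2 (.node 1 (.leaf 0x5473463452343423432) (.leaf 0x346434234753432)) (.node 1 (.leaf 0x74534234234623432) (.leaf 0x5463423476432))) (.node 2 (.node 1 (.leaf 0x673434234653432) (.leaf 0x4674653423463432))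 (.node 1 (.leaf 0x45234634234753432) (.leaf 0x453464341234723432)))))) (.node 16 (.node 8 (.node 4 (.node 2 (.node 1 (.leaf 0x4712342347123432) (.leaf 0x547346123434723432)) (.node 1 (.leaf 0x343475434523473432) (.leaf 0x6347434234623432))) (.node 2 (.node 1 (.leaf 0x546743412346423432) (.leaf 0x34643473423463432)) (.node 1 (.leaf 0x63475342346123432) (.leaf 0x3434754634234643432)))) (.node 4 (.node 2 (.node 1 (.leaf 0x623434234643432) (.leaf 0x123465434234643432)) (.node 1 (.leaf 0x67463473423463432) (.leaf 0x434673462343423432))) (.node 2 (.node 1 (.leaf 0x645234234234653432) (.leaf 0x6234234523463432)) (.node 1 (.leaf 0x46434734234643432) (.leaf 0x634347642346123432))))) (.node 8 (.node 4 (.node 2 (.node 1 (.leaf 0x461234234234653432) (.leaf 0x6234234234653432)) (.node 1 (.leaf 0x62341234234653432) (.leaf 0x73467463423463432))) (.node 2 (.node 1 (.leaf 0x43423423475432) (.leaf 0x4534123423475432)) (.node 1 (.leaf 0x6453423423475432)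 (.leaf 0x473434123467432)))) (.node 4 (.node 2 (.node 1 (.leaf 0x6523423423475432) (.leaf 0x674123423423475432)) (.node 1 (.leaf 0x4723434123467432) (.leaf 0x472343423467432))) (.node 2 (.node 1 (.leaf 0x54712343423467432) (.leaf 0x674534234753432)) (.node 1 (.leaf 0x34763434123432) (.leaf 0x6743475434234743432)))))))

def classATree_42 : Tree :=
  .node 64 (.node 32 (.node 16 (.node 8 (.node 4 (.node 2 (.node 1 (.leaf 0x4653434623432) (.leaf 0x234346343423476432)) (.node 1 (.leaf 0x76434234753432) (.leaf 0x34674123432))) (.node 2 (.node 1 (.leaf 0x634523473432) (.leaf 0x763475434234743432)) (.node 1 (.leaf 0x453463423475423432) (.leaf 0x65434754123432)))) (.node 4 (.node 2 (.node 1 (.leaf 0x645434234753432) (.leaf 0x6234734234754123432)) (.node 1 (.leaf 0x6434234753432) (.leaf 0x6434754634234643432))) (.node 2 (.node 1 (.leaf 0x6434647423432) (.leaf 0x6534234753432)) (.node 1 (.leaf 0x63475434234743432) (.leaf 0x53467423432))))) (.node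 8 (.node 4 (.node 2 (.node 1 (.leaf 0x6123423423475432) (.leaf 0x346741234234623432)) (.node 1 (.leaf 0x23473434723467432) (.leaf 0x23473423465423432))) (.node 2 (.node 1 (.leaf 0x4723465473423476432) (.leaf 0x67434523473432)) (.node 1 (.leaf 0x67453475423432) (.leaf 0x4345346123432)))) (.node 4 (.node 2 (.node 1 (.leaf 0x643475423432) (.leaf 0x63475434523473432)) (.node 1 (.leaf 0x64745434234753432) (.leaf 0x234734234234653432))) (.node 2 (.node 1 (.leaf 0x64345423473432) (.leaf 0x6234734523475423432)) (.node 1 (.leaf 0x47543473423432) (.leaf 0x65434523473432)))))) (.node 16 (.node 8 (.node 4 (.node 2 (.node 1 (.leaf 0x6475434523473432) (.leaf 0x634745434234753432)) (.node 1 (.leaf 0x643475434234753432) (.leaf 0x764345423473432))) (.node 2 (.node 1 (.leaf 0x4534346123432) (.leaf 0x7643475423432)) (.node 1 (.leaf 0x234342345347123432) (.leaf 0x234345234347123432)))) (.node 4 (.node 2 (.node 1 (.leaf 0x764534634234643432) (.leaf 0x76343463423463432))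 (.node 1 (.leaf 0x746434734123463432) (.leaf 0x6345347641234623432))) (.node 2 (.node 1 (.leaf 0x346234234234743432) (.leaf 0x623475423432)) (.node 1 (.leaf 0x6534734523475423432) (.leaf 0x6541234234753432))))) (.node 8 (.node 4 (.node 2 (.node 1 (.leaf 0x534734234234653432) (.leaf 0x65423475423432)) (.node 1 (.leaf 0x64523475423432) (.leaf 0x3475423467432))) (.node 2 (.node 1 (.leaf 0x64234523473432) (.leaf 0x3465434234643432)) (.node 1 (.leaf 0x5434645434234653432) (.leaf 0x53476434234643432)))) (.node 4 (.node 2 (.node 1 (.leaf 0x534234653432) (.leaf 0x34654123432)) (.node 1 (.leaf 0x43465434234653432) (.leaf 0x46734612343423432))) (.node 2 (.node 1 (.leaf 0x1234734612343423432) (.leaf 0x654345423463432)) (.node 1 (.leaf 0x6543465423432) (.leaf 0x723434234723432))))))) (.node 32 (.node 16 (.node 8 (.node 4 (.node 2 (.node 1 (.leaf 0x7123464343423463432) (.leaf 0x346234234234623432)) (.node 1 (.leaf 0x6453465423432) (.leaf 0x523473462343423432)))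 (.node 2 (.node 1 (.leaf 0x6434523463432) (.leaf 0x764347634234753432)) (.node 1 (.leaf 0x53423465341234623432) (.leaf 0x3473434123473432)))) (.node 4 (.node 2 (.node 1 (.leaf 0x763476434234643432) (.leaf 0x7523463434234623432)) (.node 1 (.leaf 0x72343454234723432) (.leaf 0x3462341234234623432))) (.node 2 (.node 1 (.leaf 0x674534634234753432) (.leaf 0x634347434523463432)) (.node 1 (.leaf 0x5342346534234623432) (.leaf 0x54734612343423432))))) (.node 8 (.node 4 (.node 2 (.node 1 (.leaf 0x4234653473423463432) (.leaf 0x7434346434234643432)) (.node 1 (.leaf 0x4743453423463432) (.leaf 0x45234734234653432))) (.node 2 (.node 1 (.leaf 0x3474534634234723432) (.leaf 0x547453434123463432)) (.node 1 (.leaf 0x3462347643423467432) (.leaf 0x7434543423463432)))) (.node 4 (.node 2 (.node 1 (.leaf 0x47543412347423432) (.leaf 0x547643412347423432)) (.node 1 (.leaf 0x46473434234623432) (.leaf 0x753434234623432))) (.node 2 (.node 1 (.leaf 0x4734543423467432)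 (.leaf 0x47343423467432)) (.node 1 (.leaf 0x547343423467432) (.leaf 0x64743423423475432)))))) (.node 16 (.node 8 (.node 4 (.node 2 (.node 1 (.leaf 0x2343452343423465432) (.leaf 0x2343423453423465432)) (.node 1 (.leaf 0x654342345346423432) (.leaf 0x534634523473432))) (.node 2 (.node 1 (.leaf 0x46343462343423432) (.leaf 0x653423473423465432)) (.node 1 (.leaf 0x75234634234643432) (.leaf 0x434743432)))) (.node 4 (.node 2 (.node 1 (.leaf 0x2346434234723432) (.leaf 0x5346534234753432)) (.node 1 (.leaf 0x345434623434123432) (.leaf 0x634346741234623432))) (.node 2 (.node 1 (.leaf 0x473467453423463432) (.leaf 0x67465342347423432)) (.node 1 (.leaf 0x654342347346423432) (.leaf 0x73464523434123432))))) (.node 8 (.node 4 (.node 2 (.node 1 (.leaf 0x4734674342347423432) (.leaf 0x23434612343423432)) (.node 1 (.leaf 0x634764734234643432) (.leaf 0x746343462343423432))) (.node 2 (.node 1 (.leaf 0x67434634234643432) (.leaf 0x6745346341234643432)) (.node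 1 (.leaf 0x7346434234643432) (.leaf 0x67346341234643432)))) (.node 4 (.node 2 (.node 1 (.leaf 0x743423476423432) (.leaf 0x465473423467432)) (.node 1 (.leaf 0x3473423474123432) (.leaf 0x7234642343423463432))) (.node 2 (.node 1 (.leaf 0x4534645342346423432) (.leaf 0x234746434234753432)) (.node 1 (.leaf 0x34347423432) (.leaf 0x674234623432)))))))

def classATree_43 : Tree :=
  .node 64 (.node 32 (.node 16 (.node 8 (.node 4 (.node 2 (.node 1 (.leaf 0x343423476432) (.leaf 0x34612342346123432)) (.node 1 (.leaf 0x346347234346123432) (.leaf 0x453462343423473432))) (.node 2 (.node 1 (.leaf 0x4643473434523463432) (.leaf 0x346454342347423432)) (.node 1 (.leaf 0x3423453423467432) (.leaf 0x6743423473432)))) (.node 4 (.node 2 (.node 1 (.leaf 0x64743423432) (.leaf 0x34342342346423432)) (.node 1 (.leaf 0x7434234734234723432) (.leaf 0x75342347343423463432))) (.node 2 (.node 1 (.leaf 0x423463434123473432) (.leaf 0x453423423423475432)) (.node 1 (.leaf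 0x64754347342347423432) (.leaf 0x434534652343423432))))) (.node 8 (.node 4 (.node 2 (.node 1 (.leaf 0x3463473452347423432) (.leaf 0x54745234234723432)) (.node 1 (.leaf 0x52342346342346123432) (.leaf 0x653423463423473432))) (.node 2 (.node 1 (.leaf 0x534234634234623432) (.leaf 0x234346343423463432)) (.node 1 (.leaf 0x67423462342346423432) (.leaf 0x34734634234623432)))) (.node 4 (.node 2 (.node 1 (.leaf 0x3434723434123432) (.leaf 0x34234234234753432)) (.node 1 (.leaf 0x2343475423432) (.leaf 0x734234534234623432))) (.node 2 (.node 1 (.leaf 0x3473463452346423432) (.leaf 0x453463423463432)) (.node 1 (.leaf 0x74654346342346423432) (.leaf 0x54346234234754123432)))))) (.node 16 (.node 8 (.node 4 (.node 2 (.node 1 (.leaf 0x234345423473432) (.leaf 0x75434634542346423432)) (.node 1 (.leaf 0x4534634234643432) (.leaf 0x434534752343423432))) (.node 2 (.node 1 (.leaf 0x234234123432) (.leaf 0x434123473423476432)) (.node 1 (.leaf 0x623434723434123432)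 (.leaf 0x647434234234723432)))) (.node 4 (.node 2 (.node 1 (.leaf 0x4343465423467432) (.leaf 0x454234764234623432)) (.node 1 (.leaf 0x43467453432) (.leaf 0x764123423423465432))) (.node 2 (.node 1 (.leaf 0x7454342346743423432) (.leaf 0x546543423475432)) (.node 1 (.leaf 0x23465434623432) (.leaf 0x741234734234653432))))) (.node 8 (.node 4 (.node 2 (.node 1 (.leaf 0x4653434234534623432) (.leaf 0x72345234234653432)) (.node 1 (.leaf 0x23412346341234623432) (.leaf 0x65347643412346423432))) (.node 2 (.node 1 (.leaf 0x52346453473423463432) (.leaf 0x64534634123473432)) (.node 1 (.leaf 0x23465434234753432) (.leaf 0x234654342346423432)))) (.node 4 (.node 2 (.node 1 (.leaf 0x7645347343423473432) (.leaf 0x7546234523465423432)) (.node 1 (.leaf 0x2346534723453423432) (.leaf 0x6453423474123432))) (.node 2 (.node 1 (.leaf 0x7465434612343423432) (.leaf 0x41234734123463432)) (.node 1 (.leaf 0x412347345234723432) (.leaf 0x542347343423467432))))))) (.node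 32 (.node 16 (.node 8 (.node 4 (.node 2 (.node 1 (.leaf 0x7434634234754123432) (.leaf 0x643463454234723432)) (.node 1 (.leaf 0x546341234234753432) (.leaf 0x54342345346123432))) (.node 2 (.node 1 (.leaf 0x654346454234723432) (.leaf 0x46743452343423432)) (.node 1 (.leaf 0x7465473423463432) (.leaf 0x5462341234234753432)))) (.node 4 (.node 2 (.node 1 (.leaf 0x4234674534234723432) (.leaf 0x41234734123432)) (.node 1 (.leaf 0x7342347343423463432) (.leaf 0x7234234654123432))) (.node 2 (.node 1 (.leaf 0x46743475423476432) (.leaf 0x534342342346423432)) (.node 1 (.leaf 0x63473434234723432) (.leaf 0x754634123473432))))) (.node 8 (.node 4 (.node 2 (.node 1 (.leaf 0x723453476423432) (.leaf 0x4734542347423432)) (.node 1 (.leaf 0x6423474345234723432) (.leaf 0x4234674534234653432))) (.node 2 (.node 1 (.leaf 0x63476434234723432) (.leaf 0x76342346534234623432)) (.node 1 (.leaf 0x6542341234723432) (.leaf 0x462347542346423432)))) (.node 4 (.node 2 (.node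 1 (.leaf 0x74543462343423432) (.leaf 0x712343464543423473432)) (.node 1 (.leaf 0x547234234723432) (.leaf 0x754673434234623432))) (.node 2 (.node 1 (.leaf 0x473467432) (.leaf 0x453423465432)) (.node 1 (.leaf 0x74634723465432) (.leaf 0x4342346743423432)))))) (.node 16 (.node 8 (.node 4 (.node 2 (.node 1 (.leaf 0x434753423465432) (.leaf 0x34234754234123432)) (.node 1 (.leaf 0x73423463423473432) (.leaf 0x734672343423432))) (.node 2 (.node 1 (.leaf 0x7346712343423432) (.leaf 0x54234523473432)) (.node 1 (.leaf 0x62343474612343423432) (.leaf 0x523465343423473432)))) (.node 4 (.node 2 (.node 1 (.leaf 0x65234234523463432) (.leaf 0x547234234623432)) (.node 1 (.leaf 0x34742346342346123432) (.leaf 0x53423462343423432))) (.node 2 (.node 1 (.leaf 0x4654234523473432) (.leaf 0x47123462343423432)) (.node 1 (.leaf 0x534634234754123432) (.leaf 0x734234534723432))))) (.node 8 (.node 4 (.node 2 (.node 1 (.leaf 0x64543423473432) (.leaf 0x5473423432)) (.node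 1 (.leaf 0x64234234234653432) (.leaf 0x67342346743423476432))) (.node 2 (.node 1 (.leaf 0x463434723467432) (.leaf 0x647346723434123432)) (.node 1 (.leaf 0x34234752343423467432) (.leaf 0x523423465423432)))) (.node 4 (.node 2 (.node 1 (.leaf 0x534234654123432) (.leaf 0x652342347123432)) (.node 1 (.leaf 0x5234734634234643432) (.leaf 0x734612343423432))) (.node 2 (.node 1 (.leaf 0x463473434123473432) (.leaf 0x45234234723432)) (.node 1 (.leaf 0x347641234623432) (.leaf 0x347643464123432)))))))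

def classATree_44 : Tree :=
  .node 64 (.node 32 (.node 16 (.node 8 (.node 4 (.node 2 (.node 1 (.leaf 0x41234347423432) (.leaf 0x53463453423476432)) (.node 1 (.leaf 0x73423453423463432) (.leaf 0x462342347123432))) (.node 2 (.node 1 (.leaf 0x53434647423432) (.leaf 0x64234234723432)) (.node 1 (.leaf 0x62343473434234743432) (.leaf 0x64734612343423432)))) (.node 4 (.node 2 (.node 1 (.leaf 0x7452346423432) (.leaf 0x4212347343423473432)) (.node 1 (.leaf 0x34643453423473432) (.leaf 0x542347645234623432))) (.node 2 (.node 1 (.leaf 0x64345234346423432) (.leaf 0x34634234753432)) (.node 1 (.leaf 0x653434674234623432) (.leaf 0x43465423474123432))))) (.node 8 (.node 4 (.node 2 (.node 1 (.leaf 0x464734674234723432) (.leaf 0x54643453423463432)) (.node 1 (.leaf 0x3475434723465432) (.leaf 0x34723464543423463432))) (.node 2 (.node 1 (.leaf 0x674234234643432) (.leaf 0x46453432)) (.node 1 (.leaf 0x6434723465432) (.leaf 0x347342346454234623432)))) (.node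 4 (.node 2 (.node 1 (.leaf 0x7534634234623432) (.leaf 0x75346341234623432)) (.node 1 (.leaf 0x674346434234643432) (.leaf 0x7534234123476432))) (.node 2 (.node 1 (.leaf 0x6452347423432) (.leaf 0x64534723432)) (.node 1 (.leaf 0x472341234623432) (.leaf 0x5343423467432)))))) (.node 16 (.node 8 (.node 4 (.node 2 (.node 1 (.leaf 0x67434723432) (.leaf 0x5234346423432)) (.node 1 (.leaf 0x74345423473423432) (.leaf 0x64534643423473432))) (.node 2 (.node 1 (.leaf 0x47234634123473432) (.leaf 0x647454234723432)) (.node 1 (.leaf 0x7463434123467432) (.leaf 0x76475434723432)))) (.node 4 (.node 2 (.node 1 (.leaf 0x546742341234623432) (.leaf 0x745346745234723432)) (.node 1 (.leaf 0x72343464712343423432) (.leaf 0x46743472342347123432))) (.node 2 (.node 1 (.leaf 0x63473465423474123432) (.leaf 0x63476453423467432)) (.node 1 (.leaf 0x64523467434234653432) (.leaf 0x6743464342346423432))))) (.node 8 (.node 4 (.node 2 (.node 1 (.leaf 0x67434643423473432) (.leaf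 0x343475434123473432)) (.node 1 (.leaf 0x53434754234723432) (.leaf 0x543474343423463432))) (.node 2 (.node 1 (.leaf 0x6543476434123467432) (.leaf 0x2347234234654123432)) (.node 1 (.leaf 0x53423472343423432) (.leaf 0x5234634234723432)))) (.node 4 (.node 2 (.node 1 (.leaf 0x347543423476423432) (.leaf 0x72343452343475423432)) (.node 1 (.leaf 0x734634534234653432) (.leaf 0x74342345346423432))) (.node 2 (.node 1 (.leaf 0x642347643473423463432) (.leaf 0x645347234234723432)) (.node 1 (.leaf 0x6473463434234723432) (.leaf 0x34653434234653432))))))) (.node 32 (.node 16 (.node 8 (.node 4 (.node 2 (.node 1 (.leaf 0x1234534734234623432) (.leaf 0x673467434123467432)) (.node 1 (.leaf 0x673434674234623432) (.leaf 0x743465423474123432))) (.node 2 (.node 1 (.leaf 0x45346743432) (.leaf 0x54612343423476432)) (.node 1 (.leaf 0x343462343423432) (.leaf 0x6453476434234743432)))) (.node 4 (.node 2 (.node 1 (.leaf 0x34654342346423432) (.leaf 0x67463452347423432))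 (.node 1 (.leaf 0x6543454234346423432) (.leaf 0x6734623453423432))) (.node 2 (.node 1 (.leaf 0x2343462343423432) (.leaf 0x6434746434234743432)) (.node 1 (.leaf 0x347342346542346423432) (.leaf 0x734234634534234653432))))) (.node 8 (.node 4 (.node 2 (.node 1 (.leaf 0x643452343464123432) (.leaf 0x67346234234123432)) (.node 1 (.leaf 0x4754653423467432) (.leaf 0x467463423467432))) (.node 2 (.node 1 (.leaf 0x6523434674234623432) (.leaf 0x34234764234623432)) (.node 1 (.leaf 0x343465432) (.leaf 0x523423423465432)))) (.node 4 (.node 2 (.node 1 (.leaf 0x343475432) (.leaf 0x653476432)) (.node 1 (.leaf 0x53423475432) (.leaf 0x3475423472343423432))) (.node 2 (.node 1 (.leaf 0x64523434234653432) (.leaf 0x23475423432)) (.node 1 (.leaf 0x1234234753432) (.leaf 0x34754234712343423432)))))) (.node 16 (.node 8 (.node 4 (.node 2 (.node 1 (.leaf 0x463434234653432) (.leaf 0x234754634234643432)) (.node 1 (.leaf 0x434542343423473432) (.leaf 0x653476434234643432)))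 (.node 2 (.node 1 (.leaf 0x3453463423432) (.leaf 0x4734534234346423432)) (.node 1 (.leaf 0x47546343423432) (.leaf 0x3473463423476423432)))) (.node 4 (.node 2 (.node 1 (.leaf 0x453473463423467432) (.leaf 0x643453473423432)) (.node 1 (.leaf 0x74234674234723432) (.leaf 0x65347643423463432))) (.node 2 (.node 1 (.leaf 0x3434653423432) (.leaf 0x23423472343423432)) (.node 1 (.leaf 0x41234234523473432) (.leaf 0x46347612343423432))))) (.node 8 (.node 4 (.node 2 (.node 1 (.leaf 0x745234234234753432) (.leaf 0x75463434523463432)) (.node 1 (.leaf 0x4654734623434123432) (.leaf 0x763475434234653432))) (.node 2 (.node 1 (.leaf 0x7234534764234723432) (.leaf 0x4634534234753432)) (.node 1 (.leaf 0x3464234534123476432) (.leaf 0x343475462343423432)))) (.node 4 (.node 2 (.node 1 (.leaf 0x23473463423463432) (.leaf 0x346423453423476432)) (.node 1 (.leaf 0x653476434623432) (.leaf 0x475463453423432))) (.node 2 (.node 1 (.leaf 0x54723434623476432) (.leaf 0x471234234234753432))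 (.node 1 (.leaf 0x234234712343423432) (.leaf 0x653475434523463432)))))))

def classATree_45 : Tree :=
  .node 64 (.node 32 (.node 16 (.node 8 (.node 4 (.node 2 (.node 1 (.leaf 0x47464234234623432) (.leaf 0x234734543423432)) (.node 1 (.leaf 0x34534653423432) (.leaf 0x2347343423432))) (.node 2 (.node 1 (.leaf 0x343463423432) (.leaf 0x64343465423476432)) (.node 1 (.leaf 0x4654234234623432) (.leaf 0x47642341234623432)))) (.node 4 (.node 2 (.node 1 (.leaf 0x4734523476423432) (.leaf 0x75434723465423432)) (.node 1 (.leaf 0x523467434123432) (.leaf 0x65434523476434123432))) (.node 2 (.node 1 (.leaf 0x634743432) (.leaf 0x4342347643423432)) (.node 1 (.leaf 0x123465434123432) (.leaf 0x6453432))))) (.node 8 (.node 4 (.node 2 (.node 1 (.leaf 0x64534234234753432) (.leaf 0x46434723465432)) (.node 1 (.leaf 0x64534234523473432) (.leaf 0x7234634123473432))) (.node 2 (.node 1 (.leaf 0x54634234234653432) (.leaf 0x3453423423465432)) (.node 1 (.leaf 0x434643473423463432)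 (.leaf 0x76345234623432)))) (.node 4 (.node 2 (.node 1 (.leaf 0x7423472345234723432) (.leaf 0x1234745343423467432)) (.node 1 (.leaf 0x547345234623432) (.leaf 0x3452343465423432))) (.node 2 (.node 1 (.leaf 0x712342347123432) (.leaf 0x464734123467432)) (.node 1 (.leaf 0x6453423476432) (.leaf 0x6453434234643432)))))) (.node 16 (.node 8 (.node 4 (.node 2 (.node 1 (.leaf 0x454347434234623432) (.leaf 0x745346234346123432)) (.node 1 (.leaf 0x634346343423476432) (.leaf 0x467434723432))) (.node 2 (.node 1 (.leaf 0x434634754234623432) (.leaf 0x46734623453423432)) (.node 1 (.leaf 0x547346434123476432) (.leaf 0x23465423474123432)))) (.node 4 (.node 2 (.node 1 (.leaf 0x634347454234623432) (.leaf 0x23434674534234623432)) (.node 1 (.leaf 0x65434234634123432) (.leaf 0x534734234654123432))) (.node 2 (.node 1 (.leaf 0x43423476432) (.leaf 0x634743452346423432)) (.node 1 (.leaf 0x547642341234623432) (.leaf 0x476343423473423432))))) (.node 8 (.node 4 (.node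 2 (.node 1 (.leaf 0x42347534234723432) (.leaf 0x612343462343423432)) (.node 1 (.leaf 0x6434534734234623432) (.leaf 0x67343463423432))) (.node 2 (.node 1 (.leaf 0x63423463423432) (.leaf 0x64534734623434723432)) (.node 1 (.leaf 0x475463434234623432) (.leaf 0x673434743423463432)))) (.node 4 (.node 2 (.node 1 (.leaf 0x54734653423476432) (.leaf 0x546543423476432)) (.node 1 (.leaf 0x523465434123463432) (.leaf 0x34654347423465432))) (.node 2 (.node 1 (.leaf 0x723465434123463432) (.leaf 0x74542346341234623432)) (.node 1 (.leaf 0x763434234623432) (.leaf 0x347463434234723432))))))) (.node 32 (.node 16 (.node 8 (.node 4 (.node 2 (.node 1 (.leaf 0x547234653423463432) (.leaf 0x72346543412347423432)) (.node 1 (.leaf 0x64234734345423473432) (.leaf 0x73464743423463432))) (.node 2 (.node 1 (.leaf 0x745342347423432) (.leaf 0x53473453423463432)) (.node 1 (.leaf 0x764341234723432) (.leaf 0x74234634234754123432)))) (.node 4 (.node 2 (.node 1 (.leaf 0x74523434234653432)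 (.leaf 0x75343463472343423432)) (.node 1 (.leaf 0x534342347345234723432) (.leaf 0x346543423467432))) (.node 2 (.node 1 (.leaf 0x547234346454234723432) (.leaf 0x5434764234623432)) (.node 1 (.leaf 0x54347642346423432) (.leaf 0x4643475342346123432))))) (.node 8 (.node 4 (.node 2 (.node 1 (.leaf 0x34346123434123432) (.leaf 0x746542347123432)) (.node 1 (.leaf 0x34734234723432) (.leaf 0x65234734123467432))) (.node 2 (.node 1 (.leaf 0x5234734123432) (.leaf 0x6434653423476432)) (.node 1 (.leaf 0x64346123434123432) (.leaf 0x73462347343423463432)))) (.node 4 (.node 2 (.node 1 (.leaf 0x53475234234723432) (.leaf 0x123472345234723432)) (.node 1 (.leaf 0x3473463423464123432) (.leaf 0x5234634123463432))) (.node 2 (.node 1 (.leaf 0x47643423476432) (.leaf 0x1234643423476432)) (.node 1 (.leaf 0x7434743423463432) (.leaf 0x45434234234653432)))))) (.node 16 (.node 8 (.node 4 (.node 2 (.node 1 (.leaf 0x7454346743423463432) (.leaf 0x4347234234653432)) (.node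 1 (.leaf 0x7453473423463432) (.leaf 0x46534234634123432))) (.node 2 (.node 1 (.leaf 0x43454234623432) (.leaf 0x347346343423463432)) (.node 1 (.leaf 0x2347645341234623432) (.leaf 0x76347643423476432)))) (.node 4 (.node 2 (.node 1 (.leaf 0x6234734234234723432) (.leaf 0x476472343423432)) (.node 1 (.leaf 0x4764734123467432) (.leaf 0x46547234123476432))) (.node 2 (.node 1 (.leaf 0x752346543423463432) (.leaf 0x4654346423475432)) (.node 1 (.leaf 0x2346543423463432) (.leaf 0x4753463423473432))))) (.node 8 (.node 4 (.node 2 (.node 1 (.leaf 0x5234742342347123432) (.leaf 0x54753463423463432)) (.node 1 (.leaf 0x4523434654123432) (.leaf 0x5462347643423467432))) (.node 2 (.node 1 (.leaf 0x465434234346423432) (.leaf 0x52346743423473432)) (.node 1 (.leaf 0x53467463423473432) (.leaf 0x43452347423432)))) (.node 4 (.node 2 (.node 1 (.leaf 0x52347434234623432) (.leaf 0x347453434123463432)) (.node 1 (.leaf 0x434234123463423432) (.leaf 0x712346434123476432)))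 (.node 2 (.node 1 (.leaf 0x7345342347342347123432) (.leaf 0x645342347123432)) (.node 1 (.leaf 0x45434674342347123432) (.leaf 0x5234743423432)))))))

def classATree_46 : Tree :=
  .node 64 (.node 32 (.node 16 (.node 8 (.node 4 (.node 2 (.node 1 (.leaf 0x7346543412346423432) (.leaf 0x454234634234623432)) (.node 1 (.leaf 0x63454342346123432) (.leaf 0x4654234723432))) (.node 2 (.node 1 (.leaf 0x7434234623432) (.leaf 0x7345434612343423432)) (.node 1 (.leaf 0x43463423473432) (.leaf 0x74634123463423432)))) (.node 4 (.node 2 (.node 1 (.leaf 0x543454234234623432) (.leaf 0x6234743423467432)) (.node 1 (.leaf 0x4346234234623432) (.leaf 0x64523476434234753432))) (.node 2 (.node 1 (.leaf 0x54234634345423463432) (.leaf 0x734234612343423432)) (.node 1 (.leaf 0x7523463423463432) (.leaf 0x4523434523463432))))) (.node 8 (.node 4 (.node 2 (.node 1 (.leaf 0x34523434734234723432) (.leaf 0x76453463423476432)) (.node 1 (.leaf 0x6347434234723432) (.leaf 0x4234634523475423432)))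 (.node 2 (.node 1 (.leaf 0x47464534123476432) (.leaf 0x234654342347423432)) (.node 1 (.leaf 0x34742342347123432) (.leaf 0x7343463472343423432)))) (.node 4 (.node 2 (.node 1 (.leaf 0x54674234234753432) (.leaf 0x2347464534234623432)) (.node 1 (.leaf 0x76453462343423432) (.leaf 0x4347346723434123432))) (.node 2 (.node 1 (.leaf 0x346434234643432) (.leaf 0x53464341234643432)) (.node 1 (.leaf 0x423475434123473432) (.leaf 0x41234734653423463432)))))) (.node 16 (.node 8 (.node 4 (.node 2 (.node 1 (.leaf 0x642346542346423432) (.leaf 0x34523463423464123432)) (.node 1 (.leaf 0x123474234234623432) (.leaf 0x546734234653432))) (.node 2 (.node 1 (.leaf 0x7434623453476432) (.leaf 0x474346343423467432)) (.node 1 (.leaf 0x467434234653432) (.leaf 0x343476434234753432)))) (.node 4 (.node 2 (.node 1 (.leaf 0x647434234654123432) (.leaf 0x43423434234643432)) (.node 1 (.leaf 0x47234534234623432) (.leaf 0x4734534234623432))) (.node 2 (.node 1 (.leaf 0x423464543423432)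 (.leaf 0x72343464342346423432)) (.node 1 (.leaf 0x7534634723465432) (.leaf 0x463473434234723432))))) (.node 8 (.node 4 (.node 2 (.node 1 (.leaf 0x346543412347423432) (.leaf 0x53434634234623432)) (.node 1 (.leaf 0x7234234123473423432) (.leaf 0x753463423464123432))) (.node 2 (.node 1 (.leaf 0x7123463452346423432) (.leaf 0x546434234634234623432)) (.node 1 (.leaf 0x34234523473432) (.leaf 0x674534234234623432)))) (.node 4 (.node 2 (.node 1 (.leaf 0x1234653434234653432) (.leaf 0x3423476423464123432)) (.node 1 (.leaf 0x74342347643423467432) (.leaf 0x465473434234653432))) (.node 2 (.node 1 (.leaf 0x734542347423432) (.leaf 0x5475343423467432)) (.node 1 (.leaf 0x76423472343423432) (.leaf 0x434643472343423432))))))) (.node 32 (.node 16 (.node 8 (.node 4 (.node 2 (.node 1 (.leaf 0x764347234346123432) (.leaf 0x75346345234623432)) (.node 1 (.leaf 0x6453465342346423432) (.leaf 0x434754672343423432))) (.node 2 (.node 1 (.leaf 0x46343474612343423432)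 (.leaf 0x463473434234653432)) (.node 1 (.leaf 0x543463453423463432) (.leaf 0x23453423423423465432)))) (.node 4 (.node 2 (.node 1 (.leaf 0x534653423467432) (.leaf 0x534234674345423463432)) (.node 1 (.leaf 0x6523434523473432) (.leaf 0x76453473412347423432))) (.node 2 (.node 1 (.leaf 0x612343475423432) (.leaf 0x64234752343423467432)) (.node 1 (.leaf 0x3464347623434123432) (.leaf 0x5473463452347423432))))) (.node 8 (.node 4 (.node 2 (.node 1 (.leaf 0x341234234653432) (.leaf 0x47346342346423432)) (.node 1 (.leaf 0x7643412346345234623432) (.leaf 0x54753423473423432))) (.node 2 (.node 1 (.leaf 0x7423463434123463432) (.leaf 0x543473434234623432)) (.node 1 (.leaf 0x4645343423463432) (.leaf 0x74234634234623432)))) (.node 4 (.node 2 (.node 1 (.leaf 0x7434674342347123432) (.leaf 0x53473423476432)) (.node 1 (.leaf 0x65234346123432) (.leaf 0x547452343423432))) (.node 2 (.node 1 (.leaf 0x42347541234723432) (.leaf 0x654723465342346423432)) (.node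 1 (.leaf 0x474234534234623432) (.leaf 0x47434534234623432)))))) (.node 16 (.node 8 (.node 4 (.node 2 (.node 1 (.leaf 0x7423434234734123432) (.leaf 0x54734234653432)) (.node 1 (.leaf 0x546734534234623432) (.leaf 0x547534345234623432))) (.node 2 (.node 1 (.leaf 0x452347543423432) (.leaf 0x6473453423465432)) (.node 1 (.leaf 0x47342346454234623432) (.leaf 0x65473463452343423432)))) (.node 4 (.node 2 (.node 1 (.leaf 0x34234623473423476432) (.leaf 0x234763434234723432)) (.node 1 (.leaf 0x64753463423476432) (.leaf 0x723423423473423432))) (.node 2 (.node 1 (.leaf 0x475346343423473432) (.leaf 0x34234234753432)) (.node 1 (.leaf 0x47342347345234723432) (.leaf 0x7523463423464123432))))) (.node 8 (.node 4 (.node 2 (.node 1 (.leaf 0x634723434234623432) (.leaf 0x4543463434123473432)) (.node 1 (.leaf 0x6746347343423463432) (.leaf 0x546234764234623432))) (.node 2 (.node 1 (.leaf 0x64534347462343423432) (.leaf 0x345234234653432)) (.node 1 (.leaf 0x452347234634234643432)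 (.leaf 0x6347234523475423432)))) (.node 4 (.node 2 (.node 1 (.leaf 0x63472343423473432) (.leaf 0x1234634534234653432)) (.node 1 (.leaf 0x343423453475423432) (.leaf 0x4734234734123432))) (.node 2 (.node 1 (.leaf 0x6123434234753432) (.leaf 0x763434123473423432)) (.node 1 (.leaf 0x4734234123476432) (.leaf 0x47643462343423432)))))))

def classATree_47 : Tree :=
  .node 64 (.node 32 (.node 16 (.node 8 (.node 4 (.node 2 (.node 1 (.leaf 0x674347641234723432) (.leaf 0x6534346342346123432)) (.node 1 (.leaf 0x75346534234623432) (.leaf 0x534634123467432))) (.node 2 (.node 1 (.leaf 0x534234674534234653432) (.leaf 0x612342346423432)) (.node 1 (.leaf 0x4753463423463432) (.leaf 0x453465343423463432)))) (.node 4 (.node 2 (.node 1 (.leaf 0x23434523423423465432) (.leaf 0x641234734234723432)) (.node 1 (.leaf 0x64734634234723432) (.leaf 0x74645342347423432))) (.node 2 (.node 1 (.leaf 0x345342346743423476432) (.leaf 0x46734346542347123432)) (.node 1 (.leaf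 0x6123434623432) (.leaf 0x474623434123432))))) (.node 8 (.node 4 (.node 2 (.node 1 (.leaf 0x463474342347423432) (.leaf 0x46452347345234723432)) (.node 1 (.leaf 0x5347534123476432) (.leaf 0x474234234123432))) (.node 2 (.node 1 (.leaf 0x54745342346123432) (.leaf 0x6743434234743432)) (.node 1 (.leaf 0x6742346542346123432) (.leaf 0x23453423473423463432)))) (.node 4 (.node 2 (.node 1 (.leaf 0x74623434234753432) (.leaf 0x7463434234753432)) (.node 1 (.leaf 0x54345234234723432) (.leaf 0x474346234347123432))) (.node 2 (.node 1 (.leaf 0x64764347423465432) (.leaf 0x742347454234723432)) (.node 1 (.leaf 0x342347454234723432) (.leaf 0x64534734123463432)))))) (.node 16 (.node 8 (.node 4 (.node 2 (.node 1 (.leaf 0x65234234234623432) (.leaf 0x34653423463432)) (.node 1 (.leaf 0x54234734534234753432) (.leaf 0x754234754123432))) (.node 2 (.node 1 (.leaf 0x34234754123432) (.leaf 0x453423472343423432)) (.node 1 (.leaf 0x53423463434234743432) (.leaf 0x7453434234653432))))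 (.node 4 (.node 2 (.node 1 (.leaf 0x647342347123432) (.leaf 0x34347462343423432)) (.node 1 (.leaf 0x652347643423467432) (.leaf 0x52346434234723432))) (.node 2 (.node 1 (.leaf 0x23434753423432) (.leaf 0x4234734234654123432)) (.node 1 (.leaf 0x2345342347342347123432) (.leaf 0x1234345234234623432))))) (.node 8 (.node 4 (.node 2 (.node 1 (.leaf 0x475346341234623432) (.leaf 0x523473434123463432)) (.node 1 (.leaf 0x23434643423463432) (.leaf 0x762347234123476432))) (.node 2 (.node 1 (.leaf 0x7634534234723432) (.leaf 0x7543452347643432)) (.node 1 (.leaf 0x3423463434123463432) (.leaf 0x46123434723434123432)))) (.node 4 (.node 2 (.node 1 (.leaf 0x453434123463432) (.leaf 0x47543476472343423432)) (.node 1 (.leaf 0x612347343423432) (.leaf 0x5474234634234623432))) (.node 2 (.node 1 (.leaf 0x46542342346423432) (.leaf 0x34634712343423432)) (.node 1 (.leaf 0x4746434123476432) (.leaf 0x346543423476432))))))) (.node 32 (.node 16 (.node 8 (.node 4 (.node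 2 (.node 1 (.leaf 0x745342346123432) (.leaf 0x4534734123463432)) (.node 1 (.leaf 0x34734234764123432) (.leaf 0x4645423423463423432))) (.node 2 (.node 1 (.leaf 0x53434234234623432) (.leaf 0x745346341234723432)) (.node 1 (.leaf 0x734347542346123432) (.leaf 0x3475342346423432)))) (.node 4 (.node 2 (.node 1 (.leaf 0x234734342346123432) (.leaf 0x453462345234623432)) (.node 1 (.leaf 0x546234347454234623432) (.leaf 0x76347643423467432))) (.node 2 (.node 1 (.leaf 0x7634342347423432) (.leaf 0x4743454234623432)) (.node 1 (.leaf 0x46234754634123463432) (.leaf 0x754347423465432))))) (.node 8 (.node 4 (.node 2 (.node 1 (.leaf 0x75434523467434123432) (.leaf 0x673453423463432)) (.node 1 (.leaf 0x674234634234623432) (.leaf 0x346347623434123432))) (.node 2 (.node 1 (.leaf 0x6423453473423432) (.leaf 0x4523473463423467432)) (.node 1 (.leaf 0x5434764342346123432) (.leaf 0x46434523475423432)))) (.node 4 (.node 2 (.node 1 (.leaf 0x67345234723432) (.leaf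 0x7542347123434123432)) (.node 1 (.leaf 0x23434234734234653432) (.leaf 0x7542347123432))) (.node 2 (.node 1 (.leaf 0x54123423463423432) (.leaf 0x647643423476453432)) (.node 1 (.leaf 0x42347543412346423432) (.leaf 0x34642342346123432)))))) (.node 16 (.node 8 (.node 4 (.node 2 (.node 1 (.leaf 0x54347643423473432) (.leaf 0x53473463423463432)) (.node 1 (.leaf 0x467434234347423432) (.leaf 0x6423462345234623432))) (.node 2 (.node 1 (.leaf 0x475463423476432) (.leaf 0x642345341234723432)) (.node 1 (.leaf 0x643473453423473432) (.leaf 0x234347523434123432)))) (.node 4 (.node 2 (.node 1 (.leaf 0x54346434234623432) (.leaf 0x653473423463432)) (.node 1 (.leaf 0x23467434523463432) (.leaf 0x6543452343464123432))) (.node 2 (.node 1 (.leaf 0x45234643423463432) (.leaf 0x542342346743423476432)) (.node 1 (.leaf 0x465434674234723432) (.leaf 0x746474341234623432))))) (.node 8 (.node 4 (.node 2 (.node 1 (.leaf 0x7546234234623432) (.leaf 0x4653473423463432))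 (.node 1 (.leaf 0x67453473423467432) (.leaf 0x754234123463423432))) (.node 2 (.node 1 (.leaf 0x54734234734123432) (.leaf 0x65347234234723432)) (.node 1 (.leaf 0x6423476453423467432) (.leaf 0x7345346743423463432)))) (.node 4 (.node 2 (.node 1 (.leaf 0x523434523473432) (.leaf 0x623434734234723432)) (.node 1 (.leaf 0x6734534234346423432) (.leaf 0x465343423463432))) (.node 2 (.node 1 (.leaf 0x5234346123432) (.leaf 0x72341234743423463432)) (.node 1 (.leaf 0x7342346454234623432) (.leaf 0x76423465342346423432)))))))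

def classATree_48 : Tree :=
  .node 64 (.node 32 (.node 16 (.node 8 (.node 4 (.node 2 (.node 1 (.leaf 0x347342345346423432) (.leaf 0x75463434523473432)) (.node 1 (.leaf 0x742347543423473432) (.leaf 0x34523463412346423432))) (.node 2 (.node 1 (.leaf 0x476434534234653432) (.leaf 0x5463434523473432)) (.node 1 (.leaf 0x47434234623432) (.leaf 0x76453434234743432)))) (.node 4 (.node 2 (.node 1 (.leaf 0x41234643423463432) (.leaf 0x4346434123463432)) (.node 1 (.leaf 0x4234754234723432) (.leaf 0x3452346342346423432))) (.node 2 (.node 1 (.leaf 0x6723463412346423432) (.leaf 0x347423465342346423432)) (.node 1 (.leaf 0x547412342347123432) (.leaf 0x74543423463423432))))) (.node 8 (.node 4 (.node 2 (.node 1 (.leaf 0x434734234764123432) (.leaf 0x6234347123434123432)) (.node 1 (.leaf 0x434523423423475432) (.leaf 0x62343474234234123432))) (.node 2 (.node 1 (.leaf 0x53462342346423432) (.leaf 0x234746434523473432)) (.node 1 (.leaf 0x43472343423463432)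 (.leaf 0x6474346423432)))) (.node 4 (.node 2 (.node 1 (.leaf 0x6742346123432) (.leaf 0x3452343423467432)) (.node 1 (.leaf 0x423434643423463432) (.leaf 0x5434634534234653432))) (.node 2 (.node 1 (.leaf 0x43463423474123432) (.leaf 0x45434347462343423432)) (.node 1 (.leaf 0x543463473423476432) (.leaf 0x643463453423473432)))))) (.node 16 (.node 8 (.node 4 (.node 2 (.node 1 (.leaf 0x674234123473432) (.leaf 0x547434123432)) (.node 1 (.leaf 0x3412346341234623432) (.leaf 0x5473434764234723432))) (.node 2 (.node 1 (.leaf 0x234653423463432) (.leaf 0x5434734534234753432)) (.node 1 (.leaf 0x34543472343423432) (.leaf 0x473423473423476432)))) (.node 4 (.node 2 (.node 1 (.leaf 0x53472343423473432) (.leaf 0x6423434234346423432)) (.node 1 (.leaf 0x63412346345234623432) (.leaf 0x23434754123432))) (.node 2 (.node 1 (.leaf 0x464234764234623432) (.leaf 0x473462342346423432)) (.node 1 (.leaf 0x7543476472343423432) (.leaf 0x34543423476432))))) (.node 8 (.node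 4 (.node 2 (.node 1 (.leaf 0x34123463423464123432) (.leaf 0x612342346342346123432)) (.node 1 (.leaf 0x43473423464123432) (.leaf 0x23453423432))) (.node 2 (.node 1 (.leaf 0x234534234753432) (.leaf 0x7453434634234623432)) (.node 1 (.leaf 0x3454346341234623432) (.leaf 0x234523423423475432)))) (.node 4 (.node 2 (.node 1 (.leaf 0x4734347542346123432) (.leaf 0x4634346542347123432)) (.node 1 (.leaf 0x42346343423473432) (.leaf 0x23453423463423473432))) (.node 2 (.node 1 (.leaf 0x343463423463432) (.leaf 0x53462345234623432)) (.node 1 (.leaf 0x674523463412346423432) (.leaf 0x23463434234723432))))))) (.node 32 (.node 16 (.node 8 (.node 4 (.node 2 (.node 1 (.leaf 0x4234534234723432) (.leaf 0x6476473423463432)) (.node 1 (.leaf 0x2346542346423432) (.leaf 0x75434753423465432))) (.node 2 (.node 1 (.leaf 0x74543423465432) (.leaf 0x5342347643423432)) (.node 1 (.leaf 0x5347643432) (.leaf 0x54634723465432)))) (.node 4 (.node 2 (.node 1 (.leaf 0x65475346342346123432)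 (.leaf 0x4674346345234623432)) (.node 1 (.leaf 0x345423473423463432) (.leaf 0x47434123432))) (.node 2 (.node 1 (.leaf 0x764234123473432) (.leaf 0x672341234723432)) (.node 1 (.leaf 0x64743462343423432) (.leaf 0x42347346234234123432))))) (.node 8 (.node 4 (.node 2 (.node 1 (.leaf 0x73453475423432) (.leaf 0x34542343423463432)) (.node 1 (.leaf 0x4741234234623432) (.leaf 0x345234347123432))) (.node 2 (.node 1 (.leaf 0x34523476434123476432) (.leaf 0x42347343423467432)) (.node 1 (.leaf 0x12346343423476432) (.leaf 0x745234764234623432)))) (.node 4 (.node 2 (.node 1 (.leaf 0x734523465423432) (.leaf 0x53462343423432)) (.node 1 (.leaf 0x45423474345234723432) (.leaf 0x7341234623453423476432))) (.node 2 (.node 1 (.leaf 0x7123423465423432) (.leaf 0x73463423465423432)) (.node 1 (.leaf 0x754234347423432) (.leaf 0x53476434623432)))))) (.node 16 (.node 8 (.node 4 (.node 2 (.node 1 (.leaf 0x5347642346423432) (.leaf 0x7343462343475423432)) (.node 1 (.leaf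 0x234652347234234623432) (.leaf 0x5346712343423432))) (.node 2 (.node 1 (.leaf 0x746543423476453432) (.leaf 0x6347542342347423432)) (.node 1 (.leaf 0x5423464123432) (.leaf 0x734634523475423432)))) (.node 4 (.node 2 (.node 1 (.leaf 0x745234234753432) (.leaf 0x547423462343423432)) (.node 1 (.leaf 0x6741234234723432) (.leaf 0x3465343423476432))) (.node 2 (.node 1 (.leaf 0x534672343423432) (.leaf 0x345423463423432)) (.node 1 (.leaf 0x43467234234123432) (.leaf 0x23465423462343423432))))) (.node 8 (.node 4 (.node 2 (.node 1 (.leaf 0x7434764234623432) (.leaf 0x3454234234723432)) (.node 1 (.leaf 0x467434623453476432) (.leaf 0x23463434623476432))) (.node 2 (.node 1 (.leaf 0x3434653432) (.leaf 0x4234123423465432)) (.node 1 (.leaf 0x43432) (.leaf 0x43473423465432)))) (.node 4 (.node 2 (.node 1 (.leaf 0x43473432) (.leaf 0x5475434234653432)) (.node 1 (.leaf 0x7643463423432) (.leaf 0x6434754234123463432))) (.node 2 (.node 1 (.leaf 0x4634753423476432)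 (.leaf 0x434634234743432)) (.node 1 (.leaf 0x4347345234723432) (.leaf 0x764342346347423432)))))))

def classATree_49 : Tree :=
  .node 64 (.node 32 (.node 16 (.node 8 (.node 4 (.node 2 (.node 1 (.leaf 0x434734234654123432) (.leaf 0x3434753423432)) (.node 1 (.leaf 0x47645343423463432) (.leaf 0x43452346423432))) (.node 2 (.node 1 (.leaf 0x465473452343423432) (.leaf 0x4346123432)) (.node 1 (.leaf 0x234654347423432) (.leaf 0x7346543474123432)))) (.node 4 (.node 2 (.node 1 (.leaf 0x434734123463432) (.leaf 0x54347642346123432)) (.node 1 (.leaf 0x3434723432) (.leaf 0x347423453423467432))) (.node 2 (.node 1 (.leaf 0x343472343465423432) (.leaf 0x54753434623476432)) (.node 1 (.leaf 0x43473423467423432) (.leaf 0x434653423476432))))) (.node 8 (.node 4 (.node 2 (.node 1 (.leaf 0x3434234623432) (.leaf 0x343465342346423432)) (.node 1 (.leaf 0x34345346423432) (.leaf 0x6345347345234723432))) (.node 2 (.node 1 (.leaf 0x347346343423473432) (.leaf 0x346347123434123432))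 (.node 1 (.leaf 0x4346347234234123432) (.leaf 0x76434764234623432)))) (.node 4 (.node 2 (.node 1 (.leaf 0x347643423476432) (.leaf 0x1234674347123432)) (.node 1 (.leaf 0x43473423467432) (.leaf 0x534753423475423432))) (.node 2 (.node 1 (.leaf 0x3463473423453423432) (.leaf 0x4347341234723432)) (.node 1 (.leaf 0x343473423463432) (.leaf 0x464347543423463432)))))) (.node 16 (.node 8 (.node 4 (.node 2 (.node 1 (.leaf 0x6723434123476432) (.leaf 0x434523462343423432)) (.node 1 (.leaf 0x343473423432) (.leaf 0x343463423473432))) (.node 2 (.node 1 (.leaf 0x43473423465423432) (.leaf 0x543476423432)) (.node 1 (.leaf 0x34342341234723432) (.leaf 0x7543465423467432)))) (.node 4 (.node 2 (.node 1 (.leaf 0x4623473423476432) (.leaf 0x5467434523463432)) (.node 1 (.leaf 0x534234234743432) (.leaf 0x46743467432))) (.node 2 (.node 1 (.leaf 0x43452347643423432) (.leaf 0x74534347423465432)) (.node 1 (.leaf 0x434723465432) (.leaf 0x642346454234623432))))) (.node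 8 (.node 4 (.node 2 (.node 1 (.leaf 0x4534753463423473432) (.leaf 0x73464342346123432)) (.node 1 (.leaf 0x453463423467432) (.leaf 0x43412347643423467432))) (.node 2 (.node 1 (.leaf 0x7123463423467432) (.leaf 0x4723463423467432)) (.node 1 (.leaf 0x47123463423467432) (.leaf 0x347643423473432)))) (.node 4 (.node 2 (.node 1 (.leaf 0x73453423432) (.leaf 0x7345234234753432)) (.node 1 (.leaf 0x7453475343423473432) (.leaf 0x3434643472343423432))) (.node 2 (.node 1 (.leaf 0x5343465423476432) (.leaf 0x643472346342346123432)) (.node 1 (.leaf 0x734534234347423432) (.leaf 0x42346123432))))))) (.node 32 (.node 16 (.node 8 (.node 4 (.node 2 (.node 1 (.leaf 0x6434234534723432) (.leaf 0x546742341234723432)) (.node 1 (.leaf 0x7345434712343423432) (.leaf 0x745423472343423432))) (.node 2 (.node 1 (.leaf 0x7642347342347123432) (.leaf 0x6434623434123432)) (.node 1 (.leaf 0x5423473452343423432) (.leaf 0x4723434234643432)))) (.node 4 (.node 2 (.node 1 (.leaf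 0x712346343423432) (.leaf 0x6746746234234753432)) (.node 1 (.leaf 0x42347434123476432) (.leaf 0x42345234723432))) (.node 2 (.node 1 (.leaf 0x674234123432) (.leaf 0x6746234123463432)) (.node 1 (.leaf 0x6123476434234753432) (.leaf 0x347346341234723432))))) (.node 8 (.node 4 (.node 2 (.node 1 (.leaf 0x746453434123432) (.leaf 0x464347642346423432)) (.node 1 (.leaf 0x467423462343423432) (.leaf 0x647645234234753432))) (.node 2 (.node 1 (.leaf 0x5434763423453423432) (.leaf 0x123434234634123432)) (.node 1 (.leaf 0x346342346342346123432) (.leaf 0x464345234234723432)))) (.node 4 (.node 2 (.node 1 (.leaf 0x73434234534623432) (.leaf 0x7453462342346123432)) (.node 1 (.leaf 0x47534634234743432) (.leaf 0x4612347345234723432))) (.node 2 (.node 1 (.leaf 0x4723465434123432) (.leaf 0x754653423475432)) (.node 1 (.leaf 0x47523465434123463432) (.leaf 0x65343423463432)))))) (.node 16 (.node 8 (.node 4 (.node 2 (.node 1 (.leaf 0x734645342347123432) (.leaf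 0x475346342346123432)) (.node 1 (.leaf 0x234346123432) (.leaf 0x71234342346347423432))) (.node 2 (.node 1 (.leaf 0x7346234234723432) (.leaf 0x4673452343423432)) (.node 1 (.leaf 0x67434523434623432) (.leaf 0x473423453423432)))) (.node 4 (.node 2 (.node 1 (.leaf 0x6547643423473432) (.leaf 0x72346234234723432)) (.node 1 (.leaf 0x6452347345234723432) (.leaf 0x673463423473432))) (.node 2 (.node 1 (.leaf 0x42347345234723432) (.leaf 0x734234674234723432)) (.node 1 (.leaf 0x464123473423476432) (.leaf 0x7423434234634123432))))) (.node 8 (.node 4 (.node 2 (.node 1 (.leaf 0x43475423476432) (.leaf 0x4234346234346423432)) (.node 1 (.leaf 0x543467434123476432) (.leaf 0x6453434123463432))) (.node 2 (.node 1 (.leaf 0x473463452347423432) (.leaf 0x53463452343423432)) (.node 1 (.leaf 0x54674634123463432) (.leaf 0x742342347342347123432)))) (.node 4 (.node 2 (.node 1 (.leaf 0x54234653423467432) (.leaf 0x5472346534234623432)) (.node 1 (.leaf 0x4123476434523473432)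 (.leaf 0x23473423476432))) (.node 2 (.node 1 (.leaf 0x234634123467432) (.leaf 0x123462343423463432)) (.node 1 (.leaf 0x6742342347123432) (.leaf 0x673462342346123432)))))))

def classATree_50 : Tree :=
  .node 64 (.node 32 (.node 16 (.node 8 (.node 4 (.node 2 (.node 1 (.leaf 0x5463452347343423463432) (.leaf 0x2341234643423467432)) (.node 1 (.leaf 0x6473423474123432) (.leaf 0x754123472343423432))) (.node 2 (.node 1 (.leaf 0x23412346423432) (.leaf 0x6347434672343423432)) (.node 1 (.leaf 0x734534674234723432) (.leaf 0x46123434623432)))) (.node 4 (.node 2 (.node 1 (.leaf 0x23473434234643432) (.leaf 0x647412342347123432)) (.node 1 (.leaf 0x453434723465432) (.leaf 0x42346434346423432))) (.node 2 (.node 1 (.leaf 0x743423464543423432) (.leaf 0x6345342346123432)) (.node 1 (.leaf 0x23465434234346423432) (.leaf 0x6434743423463432))))) (.node 8 (.node 4 (.node 2 (.node 1 (.leaf 0x6412347342347123432) (.leaf 0x5346743423473432)) (.node 1 (.leaf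 0x475346345234623432) (.leaf 0x7423475423432))) (.node 2 (.node 1 (.leaf 0x23412346345234623432) (.leaf 0x6345423473423463432)) (.node 1 (.leaf 0x743475423464123432) (.leaf 0x23463452343423432)))) (.node 4 (.node 2 (.node 1 (.leaf 0x423464234123476432) (.leaf 0x2345347342347123432)) (.node 1 (.leaf 0x7453423473432) (.leaf 0x74234234654123432))) (.node 2 (.node 1 (.leaf 0x7434234654123432) (.leaf 0x754347454234623432)) (.node 1 (.leaf 0x475434234534623432) (.leaf 0x74347542346123432)))))) (.node 16 (.node 8 (.node 4 (.node 2 (.node 1 (.leaf 0x2342346342346123432) (.leaf 0x647434672343423432)) (.node 1 (.leaf 0x647342347423432) (.leaf 0x7434612343423432))) (.node 2 (.node 1 (.leaf 0x45343452347643432) (.leaf 0x72343423453465423432)) (.node 1 (.leaf 0x754234123473432) (.leaf 0x3467434123473432)))) (.node 4 (.node 2 (.node 1 (.leaf 0x63423463423473432) (.leaf 0x64234623434234623432)) (.node 1 (.leaf 0x465434754123476432) (.leaf 0x5475346342346123432)))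 (.node 2 (.node 1 (.leaf 0x75434623476432) (.leaf 0x65347643423476432)) (.node 1 (.leaf 0x6434543423463432) (.leaf 0x647534634234723432))))) (.node 8 (.node 4 (.node 2 (.node 1 (.leaf 0x71234347454234623432) (.leaf 0x7543462343423432)) (.node 1 (.leaf 0x43475434234643432) (.leaf 0x47423463434123463432))) (.node 2 (.node 1 (.leaf 0x54753463423473432) (.leaf 0x63476434123476432)) (.node 1 (.leaf 0x65473412347423432) (.leaf 0x74523423465423432)))) (.node 4 (.node 2 (.node 1 (.leaf 0x34534734123467432) (.leaf 0x6542347342347123432)) (.node 1 (.leaf 0x543465423467432) (.leaf 0x734342341234723432))) (.node 2 (.node 1 (.leaf 0x734342345347423432) (.leaf 0x4734523463432)) (.node 1 (.leaf 0x47534342346123432) (.leaf 0x472345341234623432))))))) (.node 32 (.node 16 (.node 8 (.node 4 (.node 2 (.node 1 (.leaf 0x46423475463423463432) (.leaf 0x7346234234643432)) (.node 1 (.leaf 0x4234654234123432) (.leaf 0x3463434234743432))) (.node 2 (.node 1 (.leaf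 0x34753423476432) (.leaf 0x343464234234123432)) (.node 1 (.leaf 0x7123463423464123432) (.leaf 0x453473463423463432)))) (.node 4 (.node 2 (.node 1 (.leaf 0x654734534234753432) (.leaf 0x3463423467432)) (.node 1 (.leaf 0x5464342346342346123432) (.leaf 0x34523467434234653432))) (.node 2 (.node 1 (.leaf 0x47434674342347123432) (.leaf 0x7342347234346123432)) (.node 1 (.leaf 0x6523434623432) (.leaf 0x6547346341234723432))))) (.node 8 (.node 4 (.node 2 (.node 1 (.leaf 0x76434746434234753432) (.leaf 0x5474523434123432)) (.node 1 (.leaf 0x4643453423463432) (.leaf 0x64234723453423467432))) (.node 2 (.node 1 (.leaf 0x5347234234234653432) (.leaf 0x34234764345423473432)) (.node 1 (.leaf 0x5341234234753432) (.leaf 0x3475346341234623432)))) (.node 4 (.node 2 (.node 1 (.leaf 0x742346343423463432) (.leaf 0x6743452342346123432)) (.node 1 (.leaf 0x534234523463432) (.leaf 0x7342347423432))) (.node 2 (.node 1 (.leaf 0x5234634534234653432) (.leaf 0x4734642342346423432))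 (.node 1 (.leaf 0x74347343423463432) (.leaf 0x742346341234623432)))))) (.node 16 (.node 8 (.node 4 (.node 2 (.node 1 (.leaf 0x345347341234623432) (.leaf 0x342347645341234623432)) (.node 1 (.leaf 0x34634534234753432) (.leaf 0x76434734542347423432))) (.node 2 (.node 1 (.leaf 0x6123434754123432) (.leaf 0x6523434234753432)) (.node 1 (.leaf 0x54673423473423432) (.leaf 0x73465342346423432)))) (.node 4 (.node 2 (.node 1 (.leaf 0x5473453423467432) (.leaf 0x764234712343423432)) (.node 1 (.leaf 0x6473463423453423432) (.leaf 0x3434643423476432))) (.node 2 (.node 1 (.leaf 0x76434764234723432) (.leaf 0x45346343423473432)) (.node 1 (.leaf 0x54734346234234123432) (.leaf 0x3423464534234623432))))) (.node 8 (.node 4 (.node 2 (.node 1 (.leaf 0x76434234654123432) (.leaf 0x47546234234753432)) (.node 1 (.leaf 0x434123463423432) (.leaf 0x7434234234723432))) (.node 2 (.node 1 (.leaf 0x46743423463423432) (.leaf 0x7463423463423432)) (.node 1 (.leaf 0x23423463434623432)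 (.leaf 0x45423463434123473432)))) (.node 4 (.node 2 (.node 1 (.leaf 0x453432) (.leaf 0x4764234234743432)) (.node 1 (.leaf 0x54734234754123432) (.leaf 0x4534753432))) (.node 2 (.node 1 (.leaf 0x6453475434123463432) (.leaf 0x34734234754123432)) (.node 1 (.leaf 0x47546734234653432) (.leaf 0x6434634123432)))))))

def classATree_51 : Tree :=
  .node 64 (.node 32 (.node 16 (.node 8 (.node 4 (.node 2 (.node 1 (.leaf 0x453423462343423432) (.leaf 0x4534734234643432)) (.node 1 (.leaf 0x5473465423432) (.leaf 0x342346123434123432))) (.node 2 (.node 1 (.leaf 0x546347643423467432) (.leaf 0x453434654123432)) (.node 1 (.leaf 0x7623473423463423432) (.leaf 0x764347542346123432)))) (.node 4 (.node 2 (.node 1 (.leaf 0x4653473423476432) (.leaf 0x523473453423463432)) (.node 1 (.leaf 0x4534634123473432) (.leaf 0x453475341234723432))) (.node 2 (.node 1 (.leaf 0x4534346541234623432) (.leaf 0x45342346423432)) (.node 1 (.leaf 0x465347341234723432) (.leaf 0x4643474543423463432)))))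 (.node 8 (.node 4 (.node 2 (.node 1 (.leaf 0x672343423476432) (.leaf 0x6343473423432)) (.node 1 (.leaf 0x4764343423463432) (.leaf 0x2346543474123432))) (.node 2 (.node 1 (.leaf 0x734654347423432) (.leaf 0x234654734123463432)) (.node 1 (.leaf 0x6343452342347123432) (.leaf 0x345434723432)))) (.node 4 (.node 2 (.node 1 (.leaf 0x45346734234653432) (.leaf 0x45347634234753432)) (.node 1 (.leaf 0x63453473423432) (.leaf 0x6347423453423467432))) (.node 2 (.node 1 (.leaf 0x6534347534234723432) (.leaf 0x6734234612343423432)) (.node 1 (.leaf 0x7645347642346423432) (.leaf 0x434347434234653432)))))) (.node 16 (.node 8 (.node 4 (.node 2 (.node 1 (.leaf 0x123467434723432) (.leaf 0x4534753423467432)) (.node 1 (.leaf 0x54723434234723432) (.leaf 0x64346234234623432))) (.node 2 (.node 1 (.leaf 0x3454342346123432) (.leaf 0x453463423476432)) (.node 1 (.leaf 0x4534623432) (.leaf 0x4534346454234623432)))) (.node 4 (.node 2 (.node 1 (.leaf 0x345434234234723432)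 (.leaf 0x75434623453476432)) (.node 1 (.leaf 0x54674534234653432) (.leaf 0x46234734123476432))) (.node 2 (.node 1 (.leaf 0x47345343423463432) (.leaf 0x6347123462343423432)) (.node 1 (.leaf 0x43434234634123432) (.leaf 0x54634234234753432))))) (.node 8 (.node 4 (.node 2 (.node 1 (.leaf 0x754634523465423432) (.leaf 0x3461234234723432)) (.node 1 (.leaf 0x63434523434723432) (.leaf 0x74346743423467432))) (.node 2 (.node 1 (.leaf 0x346453434723467432) (.leaf 0x543423473423463432)) (.node 1 (.leaf 0x123434653423432) (.leaf 0x63476434523473432)))) (.node 4 (.node 2 (.node 1 (.leaf 0x6476434234753432) (.leaf 0x645234634234643432)) (.node 1 (.leaf 0x712343423467432) (.leaf 0x534346234346423432))) (.node 2 (.node 1 (.leaf 0x34346234346423432) (.leaf 0x67462345234623432)) (.node 1 (.leaf 0x6734534234234623432) (.leaf 0x6234342342347423432))))))) (.node 32 (.node 16 (.node 8 (.node 4 (.node 2 (.node 1 (.leaf 0x641234723432) (.leaf 0x643474123432))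 (.node 1 (.leaf 0x6234346123434123432) (.leaf 0x5423467434234653432))) (.node 2 (.node 1 (.leaf 0x634345423463432) (.leaf 0x1234342346123432)) (.node 1 (.leaf 0x6434674123432) (.leaf 0x46434523473432)))) (.node 4 (.node 2 (.node 1 (.leaf 0x23453476434123473432) (.leaf 0x47343423453465423432)) (.node 1 (.leaf 0x4674345423473432) (.leaf 0x4634764342346423432))) (.node 2 (.node 1 (.leaf 0x434764342346423432) (.leaf 0x343475423473423432)) (.node 1 (.leaf 0x723434123473423432) (.leaf 0x47423463434234723432))))) (.node 8 (.node 4 (.node 2 (.node 1 (.leaf 0x764346543423473432) (.leaf 0x3467434123463432)) (.node 1 (.leaf 0x653434123473432) (.leaf 0x42342345347423432))) (.node 2 (.node 1 (.leaf 0x5234346541234623432) (.leaf 0x7623473412347423432)) (.node 1 (.leaf 0x346345434234753432) (.leaf 0x4234764346123432)))) (.node 4 (.node 2 (.node 1 (.leaf 0x3434754234723432) (.leaf 0x543423473423474123432)) (.node 1 (.leaf 0x7523467434523463432) (.leaf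 0x123473434523463432))) (.node 2 (.node 1 (.leaf 0x6343454234723432) (.leaf 0x5464534734234623432)) (.node 1 (.leaf 0x4234234634234623432) (.leaf 0x2346543434234743432)))))) (.node 16 (.node 8 (.node 4 (.node 2 (.node 1 (.leaf 0x6745346743423463432) (.leaf 0x723463452347423432)) (.node 1 (.leaf 0x75434754123432) (.leaf 0x64523462342346123432))) (.node 2 (.node 1 (.leaf 0x534623434123473432) (.leaf 0x3453475343423473432)) (.node 1 (.leaf 0x63434234534723432) (.leaf 0x763472342347123432)))) (.node 4 (.node 2 (.node 1 (.leaf 0x346434234654123432) (.leaf 0x6345423423473423432)) (.node 1 (.leaf 0x634342342347423432) (.leaf 0x346342347123432))) (.node 2 (.node 1 (.leaf 0x6453476434523473432) (.leaf 0x5467434523473432)) (.node 1 (.leaf 0x634764534234753432) (.leaf 0x654764534234753432))))) (.node 8 (.node 4 (.node 2 (.node 1 (.leaf 0x634234634234643432) (.leaf 0x7523434123467432)) (.node 1 (.leaf 0x746347343423476432) (.leaf 0x623453462343423432)))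 (.node 2 (.node 1 (.leaf 0x34347454234723432) (.leaf 0x534347454234723432)) (.node 1 (.leaf 0x74234523472343423432) (.leaf 0x34523463423467432)))) (.node 4 (.node 2 (.node 1 (.leaf 0x634543423473432) (.leaf 0x534734234623432)) (.node 1 (.leaf 0x5342346343423473432) (.leaf 0x3467453423463432))) (.node 2 (.node 1 (.leaf 0x746412342346123432) (.leaf 0x3463423475423432)) (.node 1 (.leaf 0x75423464342346423432) (.leaf 0x63434234723432)))))))

def classATree_52 : Tree :=
  .node 64 (.node 32 (.node 16 (.node 8 (.node 4 (.node 2 (.node 1 (.leaf 0x643473434234743432) (.leaf 0x6542347123432)) (.node 1 (.leaf 0x7345346423432) (.leaf 0x6423473434723432))) (.node 2 (.node 1 (.leaf 0x6345434234623432) (.leaf 0x46743473423432)) (.node 1 (.leaf 0x4234647434234653432) (.leaf 0x63434234653432)))) (.node 4 (.node 2 (.node 1 (.leaf 0x6547634234753432) (.leaf 0x4123467434523463432)) (.node 1 (.leaf 0x3463434234753432) (.leaf 0x123434654234623432))) (.node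 2 (.node 1 (.leaf 0x23474343423463432) (.leaf 0x452342347342347123432)) (.node 1 (.leaf 0x347346234346423432) (.leaf 0x742347234346123432))))) (.node 8 (.node 4 (.node 2 (.node 1 (.leaf 0x52347464342346123432) (.leaf 0x6234347343423473432)) (.node 1 (.leaf 0x234743423467423432) (.leaf 0x7123467434234653432))) (.node 2 (.node 1 (.leaf 0x346347341234623432) (.leaf 0x723465342347423432)) (.node 1 (.leaf 0x343464342346123432) (.leaf 0x5342346123432)))) (.node 4 (.node 2 (.node 1 (.leaf 0x76434734123432) (.leaf 0x41234634523475423432)) (.node 1 (.leaf 0x67453434234653432) (.leaf 0x546743423463432))) (.node 2 (.node 1 (.leaf 0x7434647423432) (.leaf 0x65423462345234623432)) (.node 1 (.leaf 0x234345234234623432) (.leaf 0x53434623432)))))) (.node 16 (.node 8 (.node 4 (.node 2 (.node 1 (.leaf 0x34754341234643432) (.leaf 0x3467434234643432)) (.node 1 (.leaf 0x741234623453423476432) (.leaf 0x741234652343423476432))) (.node 2 (.node 1 (.leaf 0x523434234743432)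 (.leaf 0x634723423465432)) (.node 1 (.leaf 0x645347341234623432) (.leaf 0x7543452343464123432)))) (.node 4 (.node 2 (.node 1 (.leaf 0x4643454234723432) (.leaf 0x64743423467432)) (.node 1 (.leaf 0x6746534123476432) (.leaf 0x764753423467432))) (.node 2 (.node 1 (.leaf 0x5464341234723432) (.leaf 0x746434123476432)) (.node 1 (.leaf 0x653423467432) (.leaf 0x73434234643432))))) (.node 8 (.node 4 (.node 2 (.node 1 (.leaf 0x7534123476432) (.leaf 0x4647342347123432)) (.node 1 (.leaf 0x634123467432) (.leaf 0x73423476432))) (.node 2 (.node 1 (.leaf 0x653434234743432) (.leaf 0x547434234623432)) (.node 1 (.leaf 0x54743454234623432) (.leaf 0x746734234623432)))) (.node 4 (.node 2 (.node 1 (.leaf 0x5234634234754123432) (.leaf 0x474341234623432)) (.node 1 (.leaf 0x4745342346123432) (.leaf 0x472346434123476432))) (.node 2 (.node 1 (.leaf 0x654341234346423432) (.leaf 0x234753423465423432)) (.node 1 (.leaf 0x47342343423473432) (.leaf 0x47234643423476432)))))))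 (.node 32 (.node 16 (.node 8 (.node 4 (.node 2 (.node 1 (.leaf 0x234734523465423432) (.leaf 0x46434234723432)) (.node 1 (.leaf 0x6474234123476432) (.leaf 0x67463423476432))) (.node 2 (.node 1 (.leaf 0x123434523434623432) (.leaf 0x4762347234123476432)) (.node 1 (.leaf 0x23434523434723432) (.leaf 0x75434234347423432)))) (.node 4 (.node 2 (.node 1 (.leaf 0x347234643423476432) (.leaf 0x23434234534723432)) (.node 1 (.leaf 0x74523423473423432) (.leaf 0x1234634523475423432))) (.node 2 (.node 1 (.leaf 0x5234634523475423432) (.leaf 0x54645342347123432)) (.node 1 (.leaf 0x764734123467432) (.leaf 0x746453423476432))))) (.node 8 (.node 4 (.node 2 (.node 1 (.leaf 0x1234634234754123432) (.leaf 0x123434234534623432)) (.node 1 (.leaf 0x645423423463423432) (.leaf 0x546342343423463432))) (.node 2 (.node 1 (.leaf 0x234753434723467432) (.leaf 0x6434234346423432)) (.node 1 (.leaf 0x74341234347423432) (.leaf 0x234734234654123432)))) (.node 4 (.node 2 (.node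 1 (.leaf 0x547543423467432) (.leaf 0x5473423467432)) (.node 1 (.leaf 0x74523434234753432) (.leaf 0x647643423473432))) (.node 2 (.node 1 (.leaf 0x6347341234623432) (.leaf 0x2346534762343423432)) (.node 1 (.leaf 0x7343423476453432) (.leaf 0x5346434234654123432)))))) (.node 16 (.node 8 (.node 4 (.node 2 (.node 1 (.leaf 0x34723463423473432) (.leaf 0x4674343423473432)) (.node 1 (.leaf 0x53462343423473432) (.leaf 0x434734653423463432))) (.node 2 (.node 1 (.leaf 0x74645234234623432) (.leaf 0x634342346123432)) (.node 1 (.leaf 0x546434234753432) (.leaf 0x4123467434234653432)))) (.node 4 (.node 2 (.node 1 (.leaf 0x6543467423432) (.leaf 0x4234647434523463432)) (.node 1 (.leaf 0x6345434234653432) (.leaf 0x74347343423476432))) (.node 2 (.node 1 (.leaf 0x5346534234754123432) (.leaf 0x723463423473423432)) (.node 1 (.leaf 0x7643434234347423432) (.leaf 0x343461234346423432))))) (.node 8 (.node 4 (.node 2 (.node 1 (.leaf 0x5343461234346423432) (.leaf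 0x423465434234653432)) (.node 1 (.leaf 0x752343423467432) (.leaf 0x654234723432))) (.node 2 (.node 1 (.leaf 0x654347423432) (.leaf 0x652343463423463432)) (.node 1 (.leaf 0x34123463434123473432) (.leaf 0x74346543423473432)))) (.node 4 (.node 2 (.node 1 (.leaf 0x434123473423474123432) (.leaf 0x63434234347423432)) (.node 1 (.leaf 0x7523434764234723432) (.leaf 0x7534347643423463432))) (.node 2 (.node 1 (.leaf 0x423472343423473432) (.leaf 0x523473434523463432)) (.node 1 (.leaf 0x23473434234623432) (.leaf 0x6434634342347123432)))))))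

def classATree_53 : Tree :=
  .node 64 (.node 32 (.node 16 (.node 8 (.node 4 (.node 2 (.node 1 (.leaf 0x4346743463423473432) (.leaf 0x54674534234753432)) (.node 1 (.leaf 0x753434643423463432) (.leaf 0x653476434234753432))) (.node 2 (.node 1 (.leaf 0x65476434523473432) (.leaf 0x2343474543423432)) (.node 1 (.leaf 0x6423474342347423432) (.leaf 0x23463453423474123432)))) (.node 4 (.node 2 (.node 1 (.leaf 0x6423473463423463432) (.leaf 0x653434234534723432)) (.node 1 (.leaf 0x63454342347123432) (.leaf 0x4645347341234623432))) (.node 2 (.node 1 (.leaf 0x6234534612343423432) (.leaf 0x634745234234723432)) (.node 1 (.leaf 0x23463453423463432) (.leaf 0x6343423473432))))) (.node 8 (.node 4 (.node 2 (.node 1 (.leaf 0x3475342346123432) (.leaf 0x5346743423463432)) (.node 1 (.leaf 0x534347541234723432) (.leaf 0x523434653423432))) (.node 2 (.node 1 (.leaf 0x341234623432) (.leaf 0x464234723434623432)) (.node 1 (.leaf 0x67434534234623432) (.leaf 0x467453423463432))))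 (.node 4 (.node 2 (.node 1 (.leaf 0x743475423432) (.leaf 0x65423465234234623432)) (.node 1 (.leaf 0x4542346743423476432) (.leaf 0x7634346123432))) (.node 2 (.node 1 (.leaf 0x46342347345234723432) (.leaf 0x653412347342347123432)) (.node 1 (.leaf 0x73462342346423432) (.leaf 0x46534734534234753432)))))) (.node 16 (.node 8 (.node 4 (.node 2 (.node 1 (.leaf 0x4643473423474123432) (.leaf 0x547346342346423432)) (.node 1 (.leaf 0x345234623432) (.leaf 0x473464543423473432))) (.node 2 (.node 1 (.leaf 0x7234645234234623432) (.leaf 0x734534623432)) (.node 1 (.leaf 0x4645234234623432) (.leaf 0x34652347342347123432)))) (.node 4 (.node 2 (.node 1 (.leaf 0x4347434123432) (.leaf 0x674634234753432)) (.node 1 (.leaf 0x74123467434234653432) (.leaf 0x6734534234653432))) (.node 2 (.node 1 (.leaf 0x7634342346123432) (.leaf 0x4347343423476432)) (.node 1 (.leaf 0x534634234523463432) (.leaf 0x23463423473423432))))) (.node 8 (.node 4 (.node 2 (.node 1 (.leaf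 0x643434234347423432) (.leaf 0x234347542347123432)) (.node 1 (.leaf 0x343475463423463432) (.leaf 0x52343423467432))) (.node 2 (.node 1 (.leaf 0x534346423432) (.leaf 0x674234723432)) (.node 1 (.leaf 0x43434743423467432) (.leaf 0x623412347345234723432)))) (.node 4 (.node 2 (.node 1 (.leaf 0x672343463423463432) (.leaf 0x4346543423473432)) (.node 1 (.leaf 0x53434643423463432) (.leaf 0x64746434523473432))) (.node 2 (.node 1 (.leaf 0x634746434234753432) (.leaf 0x7434123473423474123432)) (.node 1 (.leaf 0x434743434234743432) (.leaf 0x23465434123467432))))))) (.node 32 (.node 16 (.node 8 (.node 4 (.node 2 (.node 1 (.leaf 0x74346743463423473432) (.leaf 0x6476423453423432)) (.node 1 (.leaf 0x5234734342346123432) (.leaf 0x123467434523463432))) (.node 2 (.node 1 (.leaf 0x23473434123463432) (.leaf 0x763434234347423432)) (.node 1 (.leaf 0x534347643423463432) (.leaf 0x523434764234723432)))) (.node 4 (.node 2 (.node 1 (.leaf 0x54234643412346423432)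 (.leaf 0x5234764345234623432)) (.node 1 (.leaf 0x4623453462343423432) (.leaf 0x234723452346423432))) (.node 2 (.node 1 (.leaf 0x7534347541234723432) (.leaf 0x42343465423432)) (.node 1 (.leaf 0x653475234234723432) (.leaf 0x673434234534723432))))) (.node 8 (.node 4 (.node 2 (.node 1 (.leaf 0x34745342346123432) (.leaf 0x76343423473432)) (.node 1 (.leaf 0x75346743423463432) (.leaf 0x3475346343423463432))) (.node 2 (.node 1 (.leaf 0x67345342347123432) (.leaf 0x76234534612343423432)) (.node 1 (.leaf 0x6471234234623432) (.leaf 0x54643472343423432)))) (.node 4 (.node 2 (.node 1 (.leaf 0x6745234234653432) (.leaf 0x674234654123432)) (.node 1 (.leaf 0x73434523467423432) (.leaf 0x43472341234723432))) (.node 2 (.node 1 (.leaf 0x534645434234623432) (.leaf 0x654346742347123432)) (.node 1 (.leaf 0x347434634123467432) (.leaf 0x63434612343423432)))))) (.node 16 (.node 8 (.node 4 (.node 2 (.node 1 (.leaf 0x62345347341234623432) (.leaf 0x465347342347123432))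 (.node 1 (.leaf 0x6543462342346423432) (.leaf 0x453412347342347123432))) (.node 2 (.node 1 (.leaf 0x343474534234723432) (.leaf 0x746347423453423432)) (.node 1 (.leaf 0x23473434123473432) (.leaf 0x64347346234234123432)))) (.node 4 (.node 2 (.node 1 (.leaf 0x67234234623432) (.leaf 0x743475234234723432)) (.node 1 (.leaf 0x634234712343423432) (.leaf 0x5463412346342346123432))) (.node 2 (.node 1 (.leaf 0x42347423432) (.leaf 0x746343423473432)) (.node 1 (.leaf 0x42346345234623432) (.leaf 0x634764343423463432))))) (.node 8 (.node 4 (.node 2 (.node 1 (.leaf 0x54234643423432) (.leaf 0x6743452346743432)) (.node 1 (.leaf 0x674534634234643432) (.leaf 0x73464343423463432))) (.node 2 (.node 1 (.leaf 0x4723423474346423432) (.leaf 0x45234764345234623432)) (.node 1 (.leaf 0x434542346423432) (.leaf 0x45347345234723432)))) (.node 4 (.node 2 (.node 1 (.leaf 0x4123464345234623432) (.leaf 0x47453463412346423432)) (.node 1 (.leaf 0x743464343423473432) (.leaf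 0x347434345423473432))) (.node 2 (.node 1 (.leaf 0x23453423423423475432) (.leaf 0x5434234634234623432)) (.node 1 (.leaf 0x7642342346123432) (.leaf 0x23473434234753432)))))))

def classATree_54 : Tree :=
  .node 64 (.node 32 (.node 16 (.node 8 (.node 4 (.node 2 (.node 1 (.leaf 0x4347234234723432) (.leaf 0x74234623453423476432)) (.node 1 (.leaf 0x746745234723432) (.leaf 0x73454342347123432))) (.node 2 (.node 1 (.leaf 0x23461234234234623432) (.leaf 0x764342347345234723432)) (.node 1 (.leaf 0x6743473423432) (.leaf 0x54234634523475423432)))) (.node 4 (.node 2 (.node 1 (.leaf 0x546734342347123432) (.leaf 0x1234723463423467432)) (.node 1 (.leaf 0x2343452342347123432) (.leaf 0x4234534234753432))) (.node 2 (.node 1 (.leaf 0x4643475423432) (.leaf 0x53463423475423432)) (.node 1 (.leaf 0x7234234623432) (.leaf 0x647634234753432))))) (.node 8 (.node 4 (.node 2 (.node 1 (.leaf 0x6342346343423463432) (.leaf 0x234347643423463432)) (.node 1 (.leaf 0x3434764234723432)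 (.leaf 0x673434234347423432))) (.node 2 (.node 1 (.leaf 0x72343423467432) (.leaf 0x642347423432)) (.node 1 (.leaf 0x6434723432) (.leaf 0x2345347343423463432)))) (.node 4 (.node 2 (.node 1 (.leaf 0x645234753434234753432) (.leaf 0x734647434123463432)) (.node 1 (.leaf 0x47346741234723432) (.leaf 0x47234346472343423432))) (.node 2 (.node 1 (.leaf 0x634234642342346423432) (.leaf 0x523423462343423432)) (.node 1 (.leaf 0x465434523473432) (.leaf 0x5434347462343423432)))))) (.node 16 (.node 8 (.node 4 (.node 2 (.node 1 (.leaf 0x471234634234643432) (.leaf 0x63423463423467432)) (.node 1 (.leaf 0x734234634123467432) (.leaf 0x73423473423476432))) (.node 2 (.node 1 (.leaf 0x4763475434234743432) (.leaf 0x534634534234753432)) (.node 1 (.leaf 0x4634523473432) (.leaf 0x63434763434234723432)))) (.node 4 (.node 2 (.node 1 (.leaf 0x54734623434723432) (.leaf 0x73423412347345234723432)) (.node 1 (.leaf 0x4612342346342346123432) (.leaf 0x34623434523473432)))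 (.node 2 (.node 1 (.leaf 0x74347523434123432) (.leaf 0x3473423464123432)) (.node 1 (.leaf 0x42345342346123432) (.leaf 0x4343462343464123432))))) (.node 8 (.node 4 (.node 2 (.node 1 (.leaf 0x434523473423467432) (.leaf 0x234534643423473432)) (.node 1 (.leaf 0x54652343423432) (.leaf 0x643472342347123432))) (.node 2 (.node 1 (.leaf 0x45346742347123432) (.leaf 0x423453423432)) (.node 1 (.leaf 0x7543464543423473432) (.leaf 0x43464743423467432)))) (.node 4 (.node 2 (.node 1 (.leaf 0x234754634123463432) (.leaf 0x43423475432)) (.node 1 (.leaf 0x23475434123432) (.leaf 0x434634234346423432))) (.node 2 (.node 1 (.leaf 0x6453473423463432) (.leaf 0x54723463434123463432)) (.node 1 (.leaf 0x7234234234753432) (.leaf 0x34623434734234723432))))))) (.node 32 (.node 16 (.node 8 (.node 4 (.node 2 (.node 1 (.leaf 0x74234234234753432) (.leaf 0x634234534623432)) (.node 1 (.leaf 0x746743423463432) (.leaf 0x541234234234753432))) (.node 2 (.node 1 (.leaf 0x74534234523473432)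 (.leaf 0x7346541234723432)) (.node 1 (.leaf 0x346542347123432) (.leaf 0x6234523423463423432)))) (.node 4 (.node 2 (.node 1 (.leaf 0x76234234723432) (.leaf 0x342347343423473432)) (.node 1 (.leaf 0x63473434123473432) (.leaf 0x3465434234753432))) (.node 2 (.node 1 (.leaf 0x41234746434234753432) (.leaf 0x234234754123432)) (.node 1 (.leaf 0x34754234634234623432) (.leaf 0x75234674234723432))))) (.node 8 (.node 4 (.node 2 (.node 1 (.leaf 0x4523474342347123432) (.leaf 0x5467434123463432)) (.node 1 (.leaf 0x723434623476432) (.leaf 0x2345234234753432))) (.node 2 (.node 1 (.leaf 0x2347541234234753432) (.leaf 0x23474234123432)) (.node 1 (.leaf 0x234734123432) (.leaf 0x43462342346123432)))) (.node 4 (.node 2 (.node 1 (.leaf 0x34642347342347123432) (.leaf 0x63474343423473432)) (.node 1 (.leaf 0x346423473423474123432) (.leaf 0x634234653423467432))) (.node 2 (.node 1 (.leaf 0x6473453423463432) (.leaf 0x23471234234234723432)) (.node 1 (.leaf 0x674534734123463432)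 (.leaf 0x47623472343423432)))))) (.node 16 (.node 8 (.node 4 (.node 2 (.node 1 (.leaf 0x753465434523473432) (.leaf 0x347343452346743432)) (.node 1 (.leaf 0x2347346341234643432) (.leaf 0x62345234723432))) (.node 2 (.node 1 (.leaf 0x463476434234643432) (.leaf 0x645342347423432)) (.node 1 (.leaf 0x6434634234723432) (.leaf 0x23434123473432)))) (.node 4 (.node 2 (.node 1 (.leaf 0x5234347342347123432) (.leaf 0x71234347342347123432)) (.node 1 (.leaf 0x67345343423463432) (.leaf 0x467434123463432))) (.node 2 (.node 1 (.leaf 0x743463423476432) (.leaf 0x4534653423476432)) (.node 1 (.leaf 0x6746345234623432) (.leaf 0x4643475434234743432))))) (.node 8 (.node 4 (.node 2 (.node 1 (.leaf 0x62342346123432) (.leaf 0x342345346423432)) (.node 1 (.leaf 0x7543475234234723432) (.leaf 0x42346434234723432))) (.node 2 (.node 1 (.leaf 0x654763423476432) (.leaf 0x34743453423467432)) (.node 1 (.leaf 0x654234123476432) (.leaf 0x47346741234623432)))) (.node 4 (.node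 2 (.node 1 (.leaf 0x645234234623432) (.leaf 0x7342347346423432)) (.node 1 (.leaf 0x2342342347423432) (.leaf 0x764754234523463432))) (.node 2 (.node 1 (.leaf 0x464534712343423432) (.leaf 0x6543465423476432)) (.node 1 (.leaf 0x41234634123432) (.leaf 0x654723465423432)))))))

def classATree_55 : Tree :=
  .node 64 (.node 32 (.node 16 (.node 8 (.node 4 (.node 2 (.node 1 (.leaf 0x347123434123432) (.leaf 0x4234643423432)) (.node 1 (.leaf 0x734234723432) (.leaf 0x34234753423432))) (.node 2 (.node 1 (.leaf 0x647346741234723432) (.leaf 0x46434234674123432)) (.node 1 (.leaf 0x76234234623432) (.leaf 0x53423467423432)))) (.node 4 (.node 2 (.node 1 (.leaf 0x54347234234723432) (.leaf 0x64754234123476432)) (.node 1 (.leaf 0x3467434123467432) (.leaf 0x3423453423473432))) (.node 2 (.node 1 (.leaf 0x464534234723432) (.leaf 0x7342342346123432)) (.node 1 (.leaf 0x76434123467432) (.leaf 0x346123434623432))))) (.node 8 (.node 4 (.node 2 (.node 1 (.leaf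 0x534764234523473432) (.leaf 0x673423472343423432)) (.node 1 (.leaf 0x3475343423467432) (.leaf 0x342347123432))) (.node 2 (.node 1 (.leaf 0x62342346123434123432) (.leaf 0x5343462343423432)) (.node 1 (.leaf 0x474534345234623432) (.leaf 0x54623434234753432)))) (.node 4 (.node 2 (.node 1 (.leaf 0x7543465423474123432) (.leaf 0x4234643423463432)) (.node 1 (.leaf 0x643423473423476432) (.leaf 0x34623472343423432))) (.node 2 (.node 1 (.leaf 0x5346347612343423432) (.leaf 0x543463423463432)) (.node 1 (.leaf 0x75423463423463432) (.leaf 0x673423473423476432)))))) (.node 16 (.node 8 (.node 4 (.node 2 (.node 1 (.leaf 0x2346412342346123432) (.leaf 0x34346123432)) (.node 1 (.leaf 0x23434754234523463432) (.leaf 0x543473423432))) (.node 2 (.node 1 (.leaf 0x7343465432) (.leaf 0x7523423423465432)) (.node 1 (.leaf 0x54623473412347423432) (.leaf 0x47234346342346123432)))) (.node 4 (.node 2 (.node 1 (.leaf 0x53475434234643432) (.leaf 0x53423463423475432))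 (.node 1 (.leaf 0x4342346453423432) (.leaf 0x47234534634234723432))) (.node 2 (.node 1 (.leaf 0x63474343423463432) (.leaf 0x23464123432)) (.node 1 (.leaf 0x23464523473423463432) (.leaf 0x5346123432))))) (.node 8 (.node 4 (.node 2 (.node 1 (.leaf 0x534743412347423432) (.leaf 0x54634234634123432)) (.node 1 (.leaf 0x4653423463423432) (.leaf 0x234734634123473432))) (.node 2 (.node 1 (.leaf 0x4754342346347423432) (.leaf 0x34752343423465432)) (.node 1 (.leaf 0x73452343423465432) (.leaf 0x7534123423465432)))) (.node 4 (.node 2 (.node 1 (.leaf 0x343474523434123432) (.leaf 0x345347423453423432)) (.node 1 (.leaf 0x6743467462343423432) (.leaf 0x723434654123432))) (.node 2 (.node 1 (.leaf 0x7634123432) (.leaf 0x734123463432)) (.node 1 (.leaf 0x73412346345234623432) (.leaf 0x346454343423473432))))))) (.node 32 (.node 16 (.node 8 (.node 4 (.node 2 (.node 1 (.leaf 0x346543453423473432) (.leaf 0x73412346342346123432)) (.node 1 (.leaf 0x73412346342346423432)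 (.leaf 0x71234234634234623432))) (.node 2 (.node 1 (.leaf 0x75346234523465423432) (.leaf 0x464712343423432)) (.node 1 (.leaf 0x7643462343475423432) (.leaf 0x53461234234623432)))) (.node 4 (.node 2 (.node 1 (.leaf 0x4634746434234743432) (.leaf 0x34753434523463432)) (.node 1 (.leaf 0x7464347343423463432) (.leaf 0x67434647434523463432))) (.node 2 (.node 1 (.leaf 0x346434345423463432) (.leaf 0x723434523463432)) (.node 1 (.leaf 0x67345347643423473432) (.leaf 0x234734634234753432))))) (.node 8 (.node 4 (.node 2 (.node 1 (.leaf 0x75346234234623432) (.leaf 0x7234534234653432)) (.node 1 (.leaf 0x346453434523463432) (.leaf 0x4743434643423463432))) (.node 2 (.node 1 (.leaf 0x4347454343423463432) (.leaf 0x6434753434523473432)) (.node 1 (.leaf 0x47234674234723432) (.leaf 0x623473423474123432)))) (.node 4 (.node 2 (.node 1 (.leaf 0x234612343423476432) (.leaf 0x476343463423463432)) (.node 1 (.leaf 0x74234752343423467432) (.leaf 0x74234723453423467432)))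 (.node 2 (.node 1 (.leaf 0x3423475432) (.leaf 0x63476432)) (.node 1 (.leaf 0x5343475432) (.leaf 0x123475434234743432)))))) (.node 16 (.node 8 (.node 4 (.node 2 (.node 1 (.leaf 0x6434346472343423432) (.leaf 0x54634345423473432)) (.node 1 (.leaf 0x5234234753432) (.leaf 0x67343463472343423432))) (.node 2 (.node 1 (.leaf 0x234754123432) (.leaf 0x7463434234653432)) (.node 1 (.leaf 0x73453463423432) (.leaf 0x634764346123432)))) (.node 4 (.node 2 (.node 1 (.leaf 0x4534734623434723432) (.leaf 0x4634734234654123432)) (.node 1 (.leaf 0x463434746423432) (.leaf 0x634746434234643432))) (.node 2 (.node 1 (.leaf 0x45234234234753432) (.leaf 0x47123434623476432)) (.node 1 (.leaf 0x634764341234643432) (.leaf 0x623473434234653432))))) (.node 8 (.node 4 (.node 2 (.node 1 (.leaf 0x234534764234723432) (.leaf 0x463434754123432)) (.node 1 (.leaf 0x634345347423432) (.leaf 0x73434653423432))) (.node 2 (.node 1 (.leaf 0x674346434234723432) (.leaf 0x234734634123463432))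 (.node 1 (.leaf 0x434647434234623432) (.leaf 0x5463434523463432)))) (.node 4 (.node 2 (.node 1 (.leaf 0x723423472343423432) (.leaf 0x4234674234723432)) (.node 1 (.leaf 0x46345434234653432) (.leaf 0x234743463423463432))) (.node 2 (.node 1 (.leaf 0x7346423453423476432) (.leaf 0x63476453423463432)) (.node 1 (.leaf 0x54634762343423432) (.leaf 0x63474643423463432)))))))

def classATree_56 : Tree :=
  .node 64 (.node 32 (.node 16 (.node 8 (.node 4 (.node 2 (.node 1 (.leaf 0x5434346423432) (.leaf 0x512347343423432)) (.node 1 (.leaf 0x63475434234653432) (.leaf 0x634754345423463432))) (.node 2 (.node 1 (.leaf 0x5346452343423476432) (.leaf 0x434234234123473432)) (.node 1 (.leaf 0x4764234723432) (.leaf 0x7343463423432)))) (.node 4 (.node 2 (.node 1 (.leaf 0x46542341234623432) (.leaf 0x4764234234623432)) (.node 1 (.leaf 0x474642341234623432) (.leaf 0x74654234234623432))) (.node 2 (.node 1 (.leaf 0x6343423432) (.leaf 0x74523467434234653432)) (.node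 1 (.leaf 0x3462347534234723432) (.leaf 0x434743423432))))) (.node 8 (.node 4 (.node 2 (.node 1 (.leaf 0x342342346423432) (.leaf 0x7423467434234653432)) (.node 1 (.leaf 0x647345341234623432) (.leaf 0x473434523473432))) (.node 2 (.node 1 (.leaf 0x2342346123432) (.leaf 0x43473434123476432)) (.node 1 (.leaf 0x346434234523463432) (.leaf 0x342343475423476432)))) (.node 4 (.node 2 (.node 1 (.leaf 0x7342347123434123432) (.leaf 0x753434234346423432)) (.node 1 (.leaf 0x234234123476432) (.leaf 0x674534723432))) (.node 2 (.node 1 (.leaf 0x2347346423432) (.leaf 0x53463434234653432)) (.node 1 (.leaf 0x5474634234753432) (.leaf 0x4634754342346423432)))))) (.node 16 (.node 8 (.node 4 (.node 2 (.node 1 (.leaf 0x4234634345423463432) (.leaf 0x3467463423473432)) (.node 1 (.leaf 0x72346347342347423432) (.leaf 0x343423473423474123432))) (.node 2 (.node 1 (.leaf 0x4347434234623432) (.leaf 0x67465434523473432)) (.node 1 (.leaf 0x34654123462343423432) (.leaf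 0x2343474534234723432)))) (.node 4 (.node 2 (.node 1 (.leaf 0x34234734123476432) (.leaf 0x3423463423467432)) (.node 1 (.leaf 0x753423463423467432) (.leaf 0x6452347342347423432))) (.node 2 (.node 1 (.leaf 0x653423453423473432) (.leaf 0x5342346343423463432)) (.node 1 (.leaf 0x46234723434623432) (.leaf 0x434743423463423432))))) (.node 8 (.node 4 (.node 2 (.node 1 (.leaf 0x434542347343423463432) (.leaf 0x723463473423463432)) (.node 1 (.leaf 0x4347434234654123432) (.leaf 0x4343475434234753432))) (.node 2 (.node 1 (.leaf 0x7463434723434123432) (.leaf 0x7452343423463432)) (.node 1 (.leaf 0x75434674234723432) (.leaf 0x547345234346423432)))) (.node 4 (.node 2 (.node 1 (.leaf 0x347453412346423432) (.leaf 0x475342346423432)) (.node 1 (.leaf 0x6434712342347123432) (.leaf 0x453465434123473432))) (.node 2 (.node 1 (.leaf 0x746234234123432) (.leaf 0x7452343423432)) (.node 1 (.leaf 0x643423453475423432) (.leaf 0x74342347346423432))))))) (.node 32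 (.node 16 (.node 8 (.node 4 (.node 2 (.node 1 (.leaf 0x64346734234653432) (.leaf 0x7342347645234623432)) (.node 1 (.leaf 0x643473454234623432) (.leaf 0x7454342345346423432))) (.node 2 (.node 1 (.leaf 0x754673462343423432) (.leaf 0x4743462343423432)) (.node 1 (.leaf 0x673465434234643432) (.leaf 0x467434623434123432)))) (.node 4 (.node 2 (.node 1 (.leaf 0x67434234653432) (.leaf 0x4753434723432)) (.node 1 (.leaf 0x46423472343423432) (.leaf 0x764534234653432))) (.node 2 (.node 1 (.leaf 0x34673434123432) (.leaf 0x34764123432)) (.node 1 (.leaf 0x465473462343423432) (.leaf 0x734523463432))))) (.node 8 (.node 4 (.node 2 (.node 1 (.leaf 0x4754623472343423432) (.leaf 0x34754123423465432)) (.node 1 (.leaf 0x234674123432) (.leaf 0x234763434123432))) (.node 2 (.node 1 (.leaf 0x46523434623432) (.leaf 0x6745234234753432)) (.node 1 (.leaf 0x7634734234754123432) (.leaf 0x34346343423476432)))) (.node 4 (.node 2 (.node 1 (.leaf 0x3452347643432) (.leaf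 0x764234234753432)) (.node 1 (.leaf 0x7643465434234643432) (.leaf 0x234347343423467432))) (.node 2 (.node 1 (.leaf 0x764764343423463432) (.leaf 0x7464347343423473432)) (.node 1 (.leaf 0x123463434234623432) (.leaf 0x42343423473432)))))) (.node 16 (.node 8 (.node 4 (.node 2 (.node 1 (.leaf 0x53474343423473432) (.leaf 0x654346534234753432)) (.node 1 (.leaf 0x46542347342347123432) (.leaf 0x53475346341234723432))) (.node 2 (.node 1 (.leaf 0x475343423463432) (.leaf 0x12346534734234623432)) (.node 1 (.leaf 0x47346452343423432) (.leaf 0x345342346123432)))) (.node 4 (.node 2 (.node 1 (.leaf 0x4652343423473432) (.leaf 0x73452346342346123432)) (.node 1 (.leaf 0x4673463423453423432) (.leaf 0x46734652343423432))) (.node 2 (.node 1 (.leaf 0x523464343423463432) (.leaf 0x4654346534234623432)) (.node 1 (.leaf 0x46547342347423432) (.leaf 0x64742346343423463432))))) (.node 8 (.node 4 (.node 2 (.node 1 (.leaf 0x4754346342346123432) (.leaf 0x2345342347123432))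 (.node 1 (.leaf 0x4343423463432) (.leaf 0x475462342346423432))) (.node 2 (.node 1 (.leaf 0x74623475463423463432) (.leaf 0x54346423475432)) (.node 1 (.leaf 0x542346542346423432) (.leaf 0x734643423473432)))) (.node 4 (.node 2 (.node 1 (.leaf 0x54643473423476432) (.leaf 0x4623434234534723432)) (.node 1 (.leaf 0x764342343423463432) (.leaf 0x763473434234653432))) (.node 2 (.node 1 (.leaf 0x634234723432) (.leaf 0x3434534234346423432)) (.node 1 (.leaf 0x523434634234623432) (.leaf 0x734234123473423432)))))))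

def classATree_57 : Tree :=
  .node 64 (.node 32 (.node 16 (.node 8 (.node 4 (.node 2 (.node 1 (.leaf 0x234723463423473432) (.leaf 0x7523434623432)) (.node 1 (.leaf 0x4723452346423432) (.leaf 0x7234347234234123432))) (.node 2 (.node 1 (.leaf 0x63423423463423432) (.leaf 0x6745342345346423432)) (.node 1 (.leaf 0x4623453465423432) (.leaf 0x46234734523465423432)))) (.node 4 (.node 2 (.node 1 (.leaf 0x2343475434234753432) (.leaf 0x74647434234623432)) (.node 1 (.leaf 0x7434643423473432) (.leaf 0x4341234234723432))) (.node 2 (.node 1 (.leaf 0x5462341234623432) (.leaf 0x745434234346423432)) (.node 1 (.leaf 0x7523434234753432) (.leaf 0x7342346743463423473432))))) (.node 8 (.node 4 (.node 2 (.node 1 (.leaf 0x54753434234653432) (.leaf 0x5423423463423432)) (.node 1 (.leaf 0x754234734234723432) (.leaf 0x6343423463432))) (.node 2 (.node 1 (.leaf 0x4754634123476432) (.leaf 0x634234234623432)) (.node 1 (.leaf 0x5423462343423463432) (.leaf 0x46234534234653432))))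 (.node 4 (.node 2 (.node 1 (.leaf 0x5423465342346423432) (.leaf 0x345347642346423432)) (.node 1 (.leaf 0x74346434234623432) (.leaf 0x74634347123434123432))) (.node 2 (.node 1 (.leaf 0x7643423434234643432) (.leaf 0x723467434234653432)) (.node 1 (.leaf 0x346234342347423432) (.leaf 0x234234743423463432)))))) (.node 16 (.node 8 (.node 4 (.node 2 (.node 1 (.leaf 0x3474234234723432) (.leaf 0x76423465234234623432)) (.node 1 (.leaf 0x54234723432) (.leaf 0x5434764234723432))) (.node 2 (.node 1 (.leaf 0x75434643423463432) (.leaf 0x476453434234653432)) (.node 1 (.leaf 0x4342346745343423432) (.leaf 0x4346423475432)))) (.node 4 (.node 2 (.node 1 (.leaf 0x42346454234623432) (.leaf 0x741234734234723432)) (.node 1 (.leaf 0x653434123463432) (.leaf 0x623476434523473432))) (.node 2 (.node 1 (.leaf 0x64764234234753432) (.leaf 0x45234734623434723432)) (.node 1 (.leaf 0x6234764346123432) (.leaf 0x3454342345347423432))))) (.node 8 (.node 4 (.node 2 (.node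 1 (.leaf 0x6734634123473432) (.leaf 0x463473453423463432)) (.node 1 (.leaf 0x654346743423463432) (.leaf 0x123434634234623432))) (.node 2 (.node 1 (.leaf 0x734345234234623432) (.leaf 0x7345434234347423432)) (.node 1 (.leaf 0x64523474234234723432) (.leaf 0x634742341234723432)))) (.node 4 (.node 2 (.node 1 (.leaf 0x4347641234723432) (.leaf 0x4523463423464123432)) (.node 1 (.leaf 0x41234723432) (.leaf 0x7643454234346423432))) (.node 2 (.node 1 (.leaf 0x47453423473423432) (.leaf 0x74234123463423432)) (.node 1 (.leaf 0x65341234723432) (.leaf 0x72346743423467453432))))))) (.node 32 (.node 16 (.node 8 (.node 4 (.node 2 (.node 1 (.leaf 0x54653473423463432) (.leaf 0x5434234234723432)) (.node 1 (.leaf 0x47543434234743432) (.leaf 0x746234234623432))) (.node 2 (.node 1 (.leaf 0x6723463473423463432) (.leaf 0x4123423463423432)) (.node 1 (.leaf 0x46434734123476432) (.leaf 0x7123434234753432)))) (.node 4 (.node 2 (.node 1 (.leaf 0x343467453423463432)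 (.leaf 0x4634234674123432)) (.node 1 (.leaf 0x4753434523463432) (.leaf 0x46434345423463432))) (.node 2 (.node 1 (.leaf 0x7234534723453423432) (.leaf 0x75463434723434123432)) (.node 1 (.leaf 0x7234674534234653432) (.leaf 0x6234234743423463432))))) (.node 8 (.node 4 (.node 2 (.node 1 (.leaf 0x34342343423473432) (.leaf 0x64347434234723432)) (.node 1 (.leaf 0x7123434623432) (.leaf 0x634734342346123432))) (.node 2 (.node 1 (.leaf 0x4534652343423432) (.leaf 0x347234346454234723432)) (.node 1 (.leaf 0x5474234123476432) (.leaf 0x5475434123467432)))) (.node 4 (.node 2 (.node 1 (.leaf 0x64752346543423463432) (.leaf 0x54347423465432)) (.node 1 (.leaf 0x5434523467434123432) (.leaf 0x654234634234623432))) (.node 2 (.node 1 (.leaf 0x634543423463432) (.leaf 0x4623434746423432)) (.node 1 (.leaf 0x46234734234654123432) (.leaf 0x542347123434123432)))))) (.node 16 (.node 8 (.node 4 (.node 2 (.node 1 (.leaf 0x54234653412346423432) (.leaf 0x754123423463423432))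 (.node 1 (.leaf 0x7346347623434123432) (.leaf 0x4754653423476432))) (.node 2 (.node 1 (.leaf 0x723467434523463432) (.leaf 0x7647643423476453432)) (.node 1 (.leaf 0x6234764534234753432) (.leaf 0x5343476423464123432)))) (.node 4 (.node 2 (.node 1 (.leaf 0x54734534234653432) (.leaf 0x746434523475423432)) (.node 1 (.leaf 0x63454234723432) (.leaf 0x634743423463432))) (.node 2 (.node 1 (.leaf 0x46234345423463432) (.leaf 0x542347123432)) (.node 1 (.leaf 0x6743452343464123432) (.leaf 0x534743463423463432))))) (.node 8 (.node 4 (.node 2 (.node 1 (.leaf 0x734642342346123432) (.leaf 0x76423462345234623432)) (.node 1 (.leaf 0x754347643423473432) (.leaf 0x3423452342347123432))) (.node 2 (.node 1 (.leaf 0x542346342346423432) (.leaf 0x6345434234346423432)) (.node 1 (.leaf 0x754346434234623432) (.leaf 0x547434234734123432)))) (.node 4 (.node 2 (.node 1 (.leaf 0x2341234743423463432) (.leaf 0x7643473453423473432)) (.node 1 (.leaf 0x7234347523434123432)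 (.leaf 0x63474234234723432))) (.node 2 (.node 1 (.leaf 0x4623434523434723432) (.leaf 0x75234346123432)) (.node 1 (.leaf 0x347234346542347123432) (.leaf 0x4634534234346423432)))))))

def classATree_58 : Tree :=
  .node 64 (.node 32 (.node 16 (.node 8 (.node 4 (.node 2 (.node 1 (.leaf 0x546234234623432) (.leaf 0x46474341234623432)) (.node 1 (.leaf 0x4346434123473432) (.leaf 0x45342341234723432))) (.node 2 (.node 1 (.leaf 0x54234123463423432) (.leaf 0x345346743423463432)) (.node 1 (.leaf 0x7523434523473432) (.leaf 0x463423474123432)))) (.node 4 (.node 2 (.node 1 (.leaf 0x6454343423463432) (.leaf 0x64342346745343423432)) (.node 1 (.leaf 0x74653423475432) (.leaf 0x5423476434123432))) (.node 2 (.node 1 (.leaf 0x4634743423463432) (.leaf 0x5412347345234723432)) (.node 1 (.leaf 0x434642347342347423432) (.leaf 0x2346234123476432))))) (.node 8 (.node 4 (.node 2 (.node 1 (.leaf 0x467463423463432) (.leaf 0x54673423453423432)) (.node 1 (.leaf 0x76434234534623432)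 (.leaf 0x734342345346423432))) (.node 2 (.node 1 (.leaf 0x734345423463423432) (.leaf 0x5473452343423432)) (.node 1 (.leaf 0x764347462343423432) (.leaf 0x7634523423463423432)))) (.node 4 (.node 2 (.node 1 (.leaf 0x523462343423463432) (.leaf 0x4752346342346123432)) (.node 1 (.leaf 0x6476343472343423432) (.leaf 0x234753423476432))) (.node 2 (.node 1 (.leaf 0x4523463423467432) (.leaf 0x6476434123473432)) (.node 1 (.leaf 0x4347634712343423432) (.leaf 0x23423464123432)))))) (.node 16 (.node 8 (.node 4 (.node 2 (.node 1 (.leaf 0x63434123463432) (.leaf 0x54623434623432)) (.node 1 (.leaf 0x43464234234623432) (.leaf 0x5434754123476432))) (.node 2 (.node 1 (.leaf 0x4346743423476432) (.leaf 0x543465343423463432)) (.node 1 (.leaf 0x5475346345234623432) (.leaf 0x76472342347123432)))) (.node 4 (.node 2 (.node 1 (.leaf 0x234623473423476432) (.leaf 0x3463423453423432)) (.node 1 (.leaf 0x347123434634234623432) (.leaf 0x4345347343423473432))) (.node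 2 (.node 1 (.leaf 0x745347643423463432) (.leaf 0x5462347345234723432)) (.node 1 (.leaf 0x65473463423473432) (.leaf 0x65423475341234723432))))) (.node 8 (.node 4 (.node 2 (.node 1 (.leaf 0x63412342347123432) (.leaf 0x75234342346347423432)) (.node 1 (.leaf 0x62347345234723432) (.leaf 0x34643434234643432))) (.node 2 (.node 1 (.leaf 0x7423472343423432) (.leaf 0x723434712343423432)) (.node 1 (.leaf 0x65473452347423432) (.leaf 0x2345346123432)))) (.node 4 (.node 2 (.node 1 (.leaf 0x65476434123473432) (.leaf 0x64734534234653432)) (.node 1 (.leaf 0x653434234653432) (.leaf 0x46746543423463432))) (.node 2 (.node 1 (.leaf 0x2347234523475423432) (.leaf 0x53473434234743432)) (.node 1 (.leaf 0x65234342346423432) (.leaf 0x346434523465423432))))))) (.node 32 (.node 16 (.node 8 (.node 4 (.node 2 (.node 1 (.leaf 0x34753462343423432) (.leaf 0x4634723452346423432)) (.node 1 (.leaf 0x47412342347123432) (.leaf 0x4347343423463423432))) (.node 2 (.node 1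 (.leaf 0x34734342347423432) (.leaf 0x23473434754234623432)) (.node 1 (.leaf 0x5343452347643432) (.leaf 0x4634743423463423432)))) (.node 4 (.node 2 (.node 1 (.leaf 0x473434234753432) (.leaf 0x76476473423463432)) (.node 1 (.leaf 0x46746234234723432) (.leaf 0x346453423465423432))) (.node 2 (.node 1 (.leaf 0x347346123434123432) (.leaf 0x734643473423463432)) (.node 1 (.leaf 0x6734345423463432) (.leaf 0x5467463423463432))))) (.node 8 (.node 4 (.node 2 (.node 1 (.leaf 0x434643454234723432) (.leaf 0x4674342346423432)) (.node 1 (.leaf 0x475234234723432) (.leaf 0x546734623434723432))) (.node 2 (.node 1 (.leaf 0x743473453423463432) (.leaf 0x764534734523463432)) (.node 1 (.leaf 0x642347454342346423432) (.leaf 0x347342347423432)))) (.node 4 (.node 2 (.node 1 (.leaf 0x3423423465432) (.leaf 0x3461234234623432)) (.node 1 (.leaf 0x12346423432) (.leaf 0x23467434634123473432))) (.node 2 (.node 1 (.leaf 0x7346234234623432) (.leaf 0x346123432)) (.node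 1 (.leaf 0x34734542347423432) (.leaf 0x734623423475432)))))) (.node 16 (.node 8 (.node 4 (.node 2 (.node 1 (.leaf 0x5234234634234623432) (.leaf 0x5342346342346123432)) (.node 1 (.leaf 0x6534764342346423432) (.leaf 0x52346434234643432))) (.node 2 (.node 1 (.leaf 0x3434673434234623432) (.leaf 0x645347342347423432)) (.node 1 (.leaf 0x434745343423463432) (.leaf 0x6734653434234723432)))) (.node 4 (.node 2 (.node 1 (.leaf 0x5342346342346423432) (.leaf 0x5342346345234623432)) (.node 1 (.leaf 0x234743463423473432) (.leaf 0x4754347642346423432))) (.node 2 (.node 1 (.leaf 0x65434734542347423432) (.leaf 0x54347234234654123432)) (.node 1 (.leaf 0x634234534234723432) (.leaf 0x653423432))))) (.node 8 (.node 4 (.node 2 (.node 1 (.leaf 0x53423463432) (.leaf 0x3423453423465432)) (.node 1 (.leaf 0x23434746423432) (.leaf 0x6434674612343423432))) (.node 2 (.node 1 (.leaf 0x23423423423465432) (.leaf 0x7234642342346423432)) (.node 1 (.leaf 0x34234234234653432)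 (.leaf 0x4743463434523473432)))) (.node 4 (.node 2 (.node 1 (.leaf 0x2343465423432) (.leaf 0x23434234653432)) (.node 1 (.leaf 0x345234643423463432) (.leaf 0x34612343423463432))) (.node 2 (.node 1 (.leaf 0x7623473452347423432) (.leaf 0x346523434723467432)) (.node 1 (.leaf 0x34753434234623432) (.leaf 0x347345342346123432)))))))

def classATree_59 : Tree :=
  .node 64 (.node 32 (.node 16 (.node 8 (.node 4 (.node 2 (.node 1 (.leaf 0x47463423463423432) (.leaf 0x234345423463432)) (.node 1 (.leaf 0x453472343423463432) (.leaf 0x347454342346423432))) (.node 2 (.node 1 (.leaf 0x347534672343423432) (.leaf 0x6534234234723432)) (.node 1 (.leaf 0x65434634234643432) (.leaf 0x634534653423463432)))) (.node 4 (.node 2 (.node 1 (.leaf 0x64534634234643432) (.leaf 0x6343463423463432)) (.node 1 (.leaf 0x453434123476432) (.leaf 0x434534123476432))) (.node 2 (.node 1 (.leaf 0x5343465432) (.leaf 0x123423423465432)) (.node 1 (.leaf 0x46543473423465432) (.leaf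 0x6543423467434123432))))) (.node 8 (.node 4 (.node 2 (.node 1 (.leaf 0x45347543423465432) (.leaf 0x753467432)) (.node 1 (.leaf 0x645342346743423432) (.leaf 0x53423465432))) (.node 2 (.node 1 (.leaf 0x6743465341234623432) (.leaf 0x4342347453423432)) (.node 1 (.leaf 0x7645346342346123432) (.leaf 0x6734123432)))) (.node 4 (.node 2 (.node 1 (.leaf 0x634123473432) (.leaf 0x645234347462343423432)) (.node 1 (.leaf 0x54634764234623432) (.leaf 0x4754634723434123432))) (.node 2 (.node 1 (.leaf 0x723467434234643432) (.leaf 0x64753462343423432)) (.node 1 (.leaf 0x67452347342347123432) (.leaf 0x654734623434123432)))))) (.node 16 (.node 8 (.node 4 (.node 2 (.node 1 (.leaf 0x76423475341234723432) (.leaf 0x63412347343423473432)) (.node 1 (.leaf 0x34754343423473432) (.leaf 0x543423476453432))) (.node 2 (.node 1 (.leaf 0x46234234234653432) (.leaf 0x4734234534723432)) (.node 1 (.leaf 0x46453434723467432) (.leaf 0x642345234723432)))) (.node 4 (.node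 2 (.node 1 (.leaf 0x64234234654123432) (.leaf 0x67346743423473432)) (.node 1 (.leaf 0x63434654234723432) (.leaf 0x546123434723467432))) (.node 2 (.node 1 (.leaf 0x343462347343423473432) (.leaf 0x46234234753432)) (.node 1 (.leaf 0x7647642346123432) (.leaf 0x546434523465423432))))) (.node 8 (.node 4 (.node 2 (.node 1 (.leaf 0x73412346743423476432) (.leaf 0x4734672343423432)) (.node 1 (.leaf 0x65412342347123432) (.leaf 0x746534234123432))) (.node 2 (.node 1 (.leaf 0x34674341234723432) (.leaf 0x462347642346123432)) (.node 1 (.leaf 0x7546343423432) (.leaf 0x346745342347123432)))) (.node 4 (.node 2 (.node 1 (.leaf 0x645347234347123432) (.leaf 0x523475434234723432)) (.node 1 (.leaf 0x46542341234723432) (.leaf 0x642345347423432))) (.node 2 (.node 1 (.leaf 0x7543465234234623432) (.leaf 0x4346543423467423432)) (.node 1 (.leaf 0x74643454234723432) (.leaf 0x5464534123476432))))))) (.node 32 (.node 16 (.node 8 (.node 4 (.node 2 (.node 1 (.leaf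 0x65473423467432) (.leaf 0x46434123476432)) (.node 1 (.leaf 0x673423467432) (.leaf 0x3434234643432))) (.node 2 (.node 1 (.leaf 0x534123476432) (.leaf 0x6746341234723432)) (.node 1 (.leaf 0x64753423467432) (.leaf 0x3462343475432)))) (.node 4 (.node 2 (.node 1 (.leaf 0x534341234643432) (.leaf 0x3423476432)) (.node 1 (.leaf 0x476345234623432) (.leaf 0x123463473423476432))) (.node 2 (.node 1 (.leaf 0x47341234623432) (.leaf 0x474342343423473432)) (.node 1 (.leaf 0x465423423473423432) (.leaf 0x2347434523465423432))))) (.node 8 (.node 4 (.node 2 (.node 1 (.leaf 0x54734234623432) (.leaf 0x5473454234623432)) (.node 1 (.leaf 0x5234634734123476432) (.leaf 0x4654234123473423432))) (.node 2 (.node 1 (.leaf 0x674341234346423432) (.leaf 0x2347453423465423432)) (.node 1 (.leaf 0x4345234234234623432) (.leaf 0x723434523434723432)))) (.node 4 (.node 2 (.node 1 (.leaf 0x5434234347423432) (.leaf 0x46734234623432)) (.node 1 (.leaf 0x54643423476432) (.leaf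 0x6547234123476432))) (.node 2 (.node 1 (.leaf 0x746434234723432) (.leaf 0x4634342346423432)) (.node 1 (.leaf 0x64734123467432) (.leaf 0x46453423476432)))))) (.node 16 (.node 8 (.node 4 (.node 2 (.node 1 (.leaf 0x7123434234534623432) (.leaf 0x475342346123432)) (.node 1 (.leaf 0x523463473423476432) (.leaf 0x612343465423467432))) (.node 2 (.node 1 (.leaf 0x723434234534723432) (.leaf 0x4523423473423432)) (.node 1 (.leaf 0x3423476434234753432) (.leaf 0x7123434523434623432)))) (.node 4 (.node 2 (.node 1 (.leaf 0x76434234346423432) (.leaf 0x4341234347423432)) (.node 1 (.leaf 0x2347434234654123432) (.leaf 0x542341234734123432))) (.node 2 (.node 1 (.leaf 0x2347453434723467432) (.leaf 0x674523423463423432)) (.node 1 (.leaf 0x54673462343423432) (.leaf 0x473462343423432))))) (.node 8 (.node 4 (.node 2 (.node 1 (.leaf 0x123473462343423432) (.leaf 0x65434746423432)) (.node 1 (.leaf 0x65434234653432) (.leaf 0x746423472343423432))) (.node 2 (.node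 1 (.leaf 0x64534234653432) (.leaf 0x34764341234643432)) (.node 1 (.leaf 0x34523463432) (.leaf 0x53465423432)))) (.node 4 (.node 2 (.node 1 (.leaf 0x6434654123432) (.leaf 0x534654341234643432)) (.node 1 (.leaf 0x4654753462343423432) (.leaf 0x3475423423465432))) (.node 2 (.node 1 (.leaf 0x523467423432) (.leaf 0x347341234234653432)) (.node 1 (.leaf 0x6454234234753432) (.leaf 0x654234754123432)))))))

def classATree_60 : Tree :=
  .node 64 (.node 32 (.node 16 (.node 8 (.node 4 (.node 2 (.node 1 (.leaf 0x6434623476432) (.leaf 0x634734234754123432)) (.node 1 (.leaf 0x3423476453432) (.leaf 0x64234234753432))) (.node 2 (.node 1 (.leaf 0x643465434234643432) (.leaf 0x4764342347423432)) (.node 1 (.leaf 0x7345342346123432) (.leaf 0x64764343423463432)))) (.node 4 (.node 2 (.node 1 (.leaf 0x434654345423463432) (.leaf 0x74652343423473432)) (.node 1 (.leaf 0x742343423473432) (.leaf 0x7123463434234623432))) (.node 2 (.node 1 (.leaf 0x464347343423473432)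 (.leaf 0x4723434643423473432)) (.node 1 (.leaf 0x674346534234753432) (.leaf 0x5347343423473432))))) (.node 8 (.node 4 (.node 2 (.node 1 (.leaf 0x47643465341234623432) (.leaf 0x4745343423463432)) (.node 1 (.leaf 0x3452346345234623432) (.leaf 0x74343423463432))) (.node 2 (.node 1 (.leaf 0x54754342347423432) (.leaf 0x3452346342346123432)) (.node 1 (.leaf 0x746734652343423432) (.leaf 0x534734543423473432)))) (.node 4 (.node 2 (.node 1 (.leaf 0x672346343423463432) (.leaf 0x6434347434234653432)) (.node 1 (.leaf 0x746547342347423432) (.leaf 0x34234734523465423432))) (.node 2 (.node 1 (.leaf 0x72345342347123432) (.leaf 0x3475434234347423432)) (.node 1 (.leaf 0x53475423423465432) (.leaf 0x23467423432)))))) (.node 16 (.node 8 (.node 4 (.node 2 (.node 1 (.leaf 0x465234346123432) (.leaf 0x23476343423432)) (.node 1 (.leaf 0x6741234234753432) (.leaf 0x343474234234623432))) (.node 2 (.node 1 (.leaf 0x4734643423473423432) (.leaf 0x6234234753432))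 (.node 1 (.leaf 0x764234523473432) (.leaf 0x73465434234643432)))) (.node 4 (.node 2 (.node 1 (.leaf 0x4623475463423467432) (.leaf 0x53476423432)) (.node 1 (.leaf 0x534746434234643432) (.leaf 0x7534234653432))) (.node 2 (.node 1 (.leaf 0x746734612343423432) (.leaf 0x743465434234653432)) (.node 1 (.leaf 0x63476434234643432) (.leaf 0x7346234234234623432))))) (.node 8 (.node 4 (.node 2 (.node 1 (.leaf 0x123464343423463432) (.leaf 0x23434234723432)) (.node 1 (.leaf 0x4674534612343423432) (.leaf 0x674345423463432))) (.node 2 (.node 1 (.leaf 0x6743465423432) (.leaf 0x523463434234623432)) (.node 1 (.leaf 0x6453434743423463432) (.leaf 0x2343454234723432)))) (.node 4 (.node 2 (.node 1 (.leaf 0x453474343423473432) (.leaf 0x546734623453423432)) (.node 1 (.leaf 0x75342346534234623432) (.leaf 0x34643472343423432))) (.node 2 (.node 1 (.leaf 0x52346534734234623432) (.leaf 0x3473434234723432)) (.node 1 (.leaf 0x64347634234753432) (.leaf 0x464234712343423432)))))))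 (.node 32 (.node 16 (.node 8 (.node 4 (.node 2 (.node 1 (.leaf 0x76434523463432) (.leaf 0x76453465423432)) (.node 1 (.leaf 0x467346234234123432) (.leaf 0x347534634234723432))) (.node 2 (.node 1 (.leaf 0x54753434123463432) (.leaf 0x23465423423463423432)) (.node 1 (.leaf 0x547346423453423432) (.leaf 0x46542347345234723432)))) (.node 4 (.node 2 (.node 1 (.leaf 0x434346434234643432) (.leaf 0x473453423463432)) (.node 1 (.leaf 0x434543423463432) (.leaf 0x53434234623432))) (.node 2 (.node 1 (.leaf 0x54623453423473432) (.leaf 0x47345342347423432)) (.node 1 (.leaf 0x34523467434123432) (.leaf 0x74543473423465432))))) (.node 8 (.node 4 (.node 2 (.node 1 (.leaf 0x7543423465432) (.leaf 0x34723465434123432)) (.node 1 (.leaf 0x3476453432) (.leaf 0x546234234643432))) (.node 2 (.node 1 (.leaf 0x3476234234123432) (.leaf 0x34234634123473432)) (.node 1 (.leaf 0x346723434123432) (.leaf 0x741234234753432)))) (.node 4 (.node 2 (.node 1 (.leaf 0x7523463453423473432)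 (.leaf 0x54234642343423463432)) (.node 1 (.leaf 0x4534762343423432) (.leaf 0x534634734123476432))) (.node 2 (.node 1 (.leaf 0x753423465423432) (.leaf 0x462342347643423467432)) (.node 1 (.leaf 0x3464723434123432) (.leaf 0x234643472343423432)))))) (.node 16 (.node 8 (.node 4 (.node 2 (.node 1 (.leaf 0x741234234234653432) (.leaf 0x674654234523473432)) (.node 1 (.leaf 0x3472346345234623432) (.leaf 0x42347434234623432))) (.node 2 (.node 1 (.leaf 0x54346453423467432) (.leaf 0x464234234234753432)) (.node 1 (.leaf 0x34234623434234743432) (.leaf 0x47452342346123432)))) (.node 4 (.node 2 (.node 1 (.leaf 0x47453423432) (.leaf 0x7643423473432)) (.node 1 (.leaf 0x342345347123432) (.leaf 0x534634534123476432))) (.node 2 (.node 1 (.leaf 0x347634712343423432) (.leaf 0x4752346343423463432)) (.node 1 (.leaf 0x34634234634123432) (.leaf 0x34764534623432))))) (.node 8 (.node 4 (.node 2 (.node 1 (.leaf 0x342342347123432) (.leaf 0x342346347423432)) (.node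 1 (.leaf 0x342346234123432) (.leaf 0x34234234123463432))) (.node 2 (.node 1 (.leaf 0x65476343423432) (.leaf 0x5434753463423473432)) (.node 1 (.leaf 0x346123434123432) (.leaf 0x67234234723432)))) (.node 4 (.node 2 (.node 1 (.leaf 0x45423474342347123432) (.leaf 0x5434643423453423432)) (.node 1 (.leaf 0x752343473423432) (.leaf 0x542346423432))) (.node 2 (.node 1 (.leaf 0x346742343423463432) (.leaf 0x7412347642346123432)) (.node 1 (.leaf 0x7647342347346423432) (.leaf 0x4643423474123432)))))))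

def classATree_61 : Tree :=
  .node 64 (.node 32 (.node 16 (.node 8 (.node 4 (.node 2 (.node 1 (.leaf 0x674342345346423432) (.leaf 0x6542342346423432)) (.node 1 (.leaf 0x674342347346423432) (.leaf 0x3464523434123432))) (.node 2 (.node 1 (.leaf 0x72346434234723432) (.leaf 0x64523423464123432)) (.node 1 (.leaf 0x534653432) (.leaf 0x642346434234643432)))) (.node 4 (.node 2 (.node 1 (.leaf 0x7345434623434123432) (.leaf 0x7634346741234623432)) (.node 1 (.leaf 0x4534234743423476432) (.leaf 0x723434612343423432))) (.node 2 (.node 1 (.leaf 0x34752346543423463432) (.leaf 0x34234634345423463432)) (.node 1 (.leaf 0x7645342345346423432) (.leaf 0x346452343423432))))) (.node 8 (.node 4 (.node 2 (.node 1 (.leaf 0x74234654234623432) (.leaf 0x434723465434123432)) (.node 1 (.leaf 0x6453473423465432) (.leaf 0x2343464734234653432))) (.node 2 (.node 1 (.leaf 0x74234734234723432) (.leaf 0x74234734234653432)) (.node 1 (.leaf 0x6734653423476432) (.leaf 0x42346743423476432))))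 (.node 4 (.node 2 (.node 1 (.leaf 0x546341234623432) (.leaf 0x745434234634123432)) (.node 1 (.leaf 0x74234643423473432) (.leaf 0x746474234234623432))) (.node 2 (.node 1 (.leaf 0x343475434234753432) (.leaf 0x42341234234723432)) (.node 1 (.leaf 0x4743452343464123432) (.leaf 0x12347523463423463432)))))) (.node 16 (.node 8 (.node 4 (.node 2 (.node 1 (.leaf 0x34342346342346123432) (.leaf 0x7534345423473432)) (.node 1 (.leaf 0x5474543423476432) (.leaf 0x6453434523473432))) (.node 2 (.node 1 (.leaf 0x346734534234723432) (.leaf 0x4234734123463432)) (.node 1 (.leaf 0x46454234234753432) (.leaf 0x64234347462343423432)))) (.node 4 (.node 2 (.node 1 (.leaf 0x5346434234234623432) (.leaf 0x67123434234723432)) (.node 1 (.leaf 0x7434674534234653432) (.leaf 0x534745342346123432))) (.node 2 (.node 1 (.leaf 0x4123463434523473432) (.leaf 0x346434734123463432)) (.node 1 (.leaf 0x42347346423432) (.leaf 0x741234234234723432))))) (.node 8 (.node 4 (.node 2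 (.node 1 (.leaf 0x74342346743423476432) (.leaf 0x7423473423432)) (.node 1 (.leaf 0x423453423476423432) (.leaf 0x4734346234234123432))) (.node 2 (.node 1 (.leaf 0x6423467434234653432) (.leaf 0x642347234234723432)) (.node 1 (.leaf 0x63453467434123467432) (.leaf 0x75341234234653432)))) (.node 4 (.node 2 (.node 1 (.leaf 0x547123423473423432) (.leaf 0x54634534234653432)) (.node 1 (.leaf 0x7345346341234723432) (.leaf 0x7534612343423432))) (.node 2 (.node 1 (.leaf 0x4234634542346423432) (.leaf 0x64534734234723432)) (.node 1 (.leaf 0x474523434123432) (.leaf 0x4234712342347123432))))))) (.node 32 (.node 16 (.node 8 (.node 4 (.node 2 (.node 1 (.leaf 0x76434653423475432) (.leaf 0x343452346743423432)) (.node 1 (.leaf 0x6434623475434123432) (.leaf 0x3423465432))) (.node 2 (.node 1 (.leaf 0x43474543423465432) (.leaf 0x73467432)) (.node 1 (.leaf 0x64234523465423432) (.leaf 0x64523423465423432)))) (.node 4 (.node 2 (.node 1 (.leaf 0x734674634234743432)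 (.leaf 0x34723423465432)) (.node 1 (.leaf 0x43452347643432) (.leaf 0x73423463434234743432))) (.node 2 (.node 1 (.leaf 0x534753434234723432) (.leaf 0x734674634234643432)) (.node 1 (.leaf 0x46434234654123432) (.leaf 0x753423467434123476432))))) (.node 8 (.node 4 (.node 2 (.node 1 (.leaf 0x4623434723467432) (.leaf 0x64234234523463432)) (.node 1 (.leaf 0x462341234234653432) (.leaf 0x543475423467432))) (.node 2 (.node 1 (.leaf 0x46347641234623432) (.leaf 0x46234347462343423432)) (.node 1 (.leaf 0x763423432) (.leaf 0x73423463432)))) (.node 4 (.node 2 (.node 1 (.leaf 0x4734523434723432) (.leaf 0x546453423465423432)) (.node 1 (.leaf 0x547346712343423432) (.leaf 0x75342346743423476432))) (.node 2 (.node 1 (.leaf 0x642346347423432) (.leaf 0x764764234623432)) (.node 1 (.leaf 0x647346123434123432) (.leaf 0x67452347345234723432)))))) (.node 16 (.node 8 (.node 4 (.node 2 (.node 1 (.leaf 0x642342347123432) (.leaf 0x6745346345234623432)) (.node 1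 (.leaf 0x7346745234234653432) (.leaf 0x43474643423476432))) (.node 2 (.node 1 (.leaf 0x73434234764123432) (.leaf 0x754634543423432)) (.node 1 (.leaf 0x53467434234723432) (.leaf 0x7642347534234723432)))) (.node 4 (.node 2 (.node 1 (.leaf 0x346474343423473432) (.leaf 0x6454234234723432)) (.node 1 (.leaf 0x764346534234623432) (.leaf 0x4654234234723432))) (.node 2 (.node 1 (.leaf 0x7463434123432) (.leaf 0x634754341234723432)) (.node 1 (.leaf 0x473463434234653432) (.leaf 0x434623434746423432))))) (.node 8 (.node 4 (.node 2 (.node 1 (.leaf 0x234654234123463432) (.leaf 0x4654234234743432)) (.node 1 (.leaf 0x7123465434123463432) (.leaf 0x54347434123463432))) (.node 2 (.node 1 (.leaf 0x64753434234753432) (.leaf 0x5234345234234723432)) (.node 1 (.leaf 0x345342347423432) (.leaf 0x74342345347423432)))) (.node 4 (.node 2 (.node 1 (.leaf 0x453467434123463432) (.leaf 0x423453462343423432)) (.node 1 (.leaf 0x4346745341234723432) (.leaf 0x65434234723432)))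 (.node 2 (.node 1 (.leaf 0x54234734523465423432) (.leaf 0x423453463423432)) (.node 1 (.leaf 0x3434672343423432) (.leaf 0x65434234234623432)))))))

def classATree_62 : Tree :=
  .node 64 (.node 32 (.node 16 (.node 8 (.node 4 (.node 2 (.node 1 (.leaf 0x43453423473423432) (.leaf 0x534764343423473432)) (.node 1 (.leaf 0x42345341234623432) (.leaf 0x34542347342347423432))) (.node 2 (.node 1 (.leaf 0x472343452343465423432) (.leaf 0x472341234234723432)) (.node 1 (.leaf 0x472346743423476432) (.leaf 0x347434234123463432)))) (.node 4 (.node 2 (.node 1 (.leaf 0x71234634123463432) (.leaf 0x41234634534234653432)) (.node 1 (.leaf 0x73423462343423432) (.leaf 0x623474234123476432))) (.node 2 (.node 1 (.leaf 0x753434623434123432) (.leaf 0x45434734123463432)) (.node 1 (.leaf 0x3434234234623432) (.leaf 0x7454342346123432))))) (.node 8 (.node 4 (.node 2 (.node 1 (.leaf 0x4347543423467432) (.leaf 0x12347434123432)) (.node 1 (.leaf 0x46541234723432) (.leaf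 0x653476434123476432))) (.node 2 (.node 1 (.leaf 0x654343423463432) (.leaf 0x472346341234623432)) (.node 1 (.leaf 0x2347464345234623432) (.leaf 0x46745234234753432)))) (.node 4 (.node 2 (.node 1 (.leaf 0x434542346743423467432) (.leaf 0x434346472343423432)) (.node 1 (.leaf 0x34345234234723432) (.leaf 0x2342347434234653432))) (.node 2 (.node 1 (.leaf 0x54746434123476432) (.leaf 0x53474341234723432)) (.node 1 (.leaf 0x67434623434123432) (.leaf 0x43463434523473432)))))) (.node 16 (.node 8 (.node 4 (.node 2 (.node 1 (.leaf 0x623475434123473432) (.leaf 0x723465434123432)) (.node 1 (.leaf 0x4753432) (.leaf 0x6742347542347123432))) (.node 2 (.node 1 (.leaf 0x2346434346423432) (.leaf 0x4753463423467432)) (.node 1 (.leaf 0x4534653432) (.leaf 0x64234234743432)))) (.node 4 (.node 2 (.node 1 (.leaf 0x47534234654123432) (.leaf 0x4753434623476432)) (.node 1 (.leaf 0x45347453423476432) (.leaf 0x46743434234743432))) (.node 2 (.node 1 (.leaf 0x345234634123476432)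 (.leaf 0x523476434123467432)) (.node 1 (.leaf 0x67461234234723432) (.leaf 0x46434123467432))))) (.node 8 (.node 4 (.node 2 (.node 1 (.leaf 0x6473423476432) (.leaf 0x64234734234654123432)) (.node 1 (.leaf 0x3465473452347423432) (.leaf 0x674341234623432))) (.node 2 (.node 1 (.leaf 0x475341234723432) (.leaf 0x64347434234643432)) (.node 1 (.leaf 0x46343423473423432) (.leaf 0x4623434234743432)))) (.node 4 (.node 2 (.node 1 (.leaf 0x4753463434523473432) (.leaf 0x623476434123473432)) (.node 1 (.leaf 0x46347234346123432) (.leaf 0x475343462343423432))) (.node 2 (.node 1 (.leaf 0x23463434234623432) (.leaf 0x6345347343423463432)) (.node 1 (.leaf 0x4634743423467432) (.leaf 0x53434234534723432))))))) (.node 32 (.node 16 (.node 8 (.node 4 (.node 2 (.node 1 (.leaf 0x4654347423432) (.leaf 0x5347534634234723432)) (.node 1 (.leaf 0x4753434123463432) (.leaf 0x74341234734123432))) (.node 2 (.node 1 (.leaf 0x64746453423476432) (.leaf 0x4612342346423432))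 (.node 1 (.leaf 0x46347423432) (.leaf 0x453465341234623432)))) (.node 4 (.node 2 (.node 1 (.leaf 0x34745434234653432) (.leaf 0x47534346472343423432)) (.node 1 (.leaf 0x465434234234623432) (.leaf 0x67434123463423432))) (.node 2 (.node 1 (.leaf 0x745347643423467432) (.leaf 0x3472346341234623432)) (.node 1 (.leaf 0x465423434234743432) (.leaf 0x4534234674123432))))) (.node 8 (.node 4 (.node 2 (.node 1 (.leaf 0x43423476423432) (.leaf 0x7465473423467432)) (.node 1 (.leaf 0x6123434712343423432) (.leaf 0x734653434234723432))) (.node 2 (.node 1 (.leaf 0x34346434234723432) (.leaf 0x341234634234753432)) (.node 1 (.leaf 0x234534234623432) (.leaf 0x7546543423473432)))) (.node 4 (.node 2 (.node 1 (.leaf 0x654234623432) (.leaf 0x234642343423463432)) (.node 1 (.leaf 0x34734534623434123432) (.leaf 0x3462343423473432))) (.node 2 (.node 1 (.leaf 0x23476434234753432) (.leaf 0x654346423432)) (.node 1 (.leaf 0x7343423476432) (.leaf 0x34623434234743432))))))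 (.node 16 (.node 8 (.node 4 (.node 2 (.node 1 (.leaf 0x543467453423476432) (.leaf 0x634734534234753432)) (.node 1 (.leaf 0x5434712343465423432) (.leaf 0x347123434234723432))) (.node 2 (.node 1 (.leaf 0x73423453423467432) (.leaf 0x6543423473432)) (.node 1 (.leaf 0x54753423432) (.leaf 0x7434534652343423432)))) (.node 4 (.node 2 (.node 1 (.leaf 0x64534753434234753432) (.leaf 0x345347343423463432)) (.node 1 (.leaf 0x43423473434123463432) (.leaf 0x7534234634234623432))) (.node 2 (.node 1 (.leaf 0x673423463423473432) (.leaf 0x5475234634234643432)) (.node 1 (.leaf 0x7423463434123473432) (.leaf 0x65423462342346423432))))) (.node 8 (.node 4 (.node 2 (.node 1 (.leaf 0x5475234234723432) (.leaf 0x434234734234723432)) (.node 1 (.leaf 0x734342342346423432) (.leaf 0x5342347343423463432))) (.node 2 (.node 1 (.leaf 0x7234346343423463432) (.leaf 0x734234234234753432)) (.node 1 (.leaf 0x34234534234623432) (.leaf 0x64762343423432)))) (.node 4 (.node 2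 (.node 1 (.leaf 0x74534634234643432) (.leaf 0x7234234123432)) (.node 1 (.leaf 0x23476434123473432) (.leaf 0x3453467434123463432))) (.node 2 (.node 1 (.leaf 0x5434634542346423432) (.leaf 0x7234345423473432)) (.node 1 (.leaf 0x465434123463423432) (.leaf 0x7623434723434123432)))))))

def classATree_63 : Tree :=
  .node 64 (.node 32 (.node 16 (.node 8 (.node 4 (.node 2 (.node 1 (.leaf 0x347434634234623432) (.leaf 0x73434723434123432)) (.node 1 (.leaf 0x34734346342346123432) (.leaf 0x7453463423463432))) (.node 2 (.node 1 (.leaf 0x4654346342346423432) (.leaf 0x54341234634123432)) (.node 1 (.leaf 0x234523462343423432) (.leaf 0x3423476434234623432)))) (.node 4 (.node 2 (.node 1 (.leaf 0x543432) (.leaf 0x543473423465432)) (.node 1 (.leaf 0x543473432) (.leaf 0x475434523463432))) (.node 2 (.node 1 (.leaf 0x67434634123432) (.leaf 0x4753423475423432)) (.node 1 (.leaf 0x34753434623476432) (.leaf 0x6543474543423463432))))) (.node 8 (.node 4 (.node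 2 (.node 1 (.leaf 0x5434734234643432) (.leaf 0x4347645234623432)) (.node 1 (.leaf 0x47523423423465432) (.leaf 0x6474234623434723432))) (.node 2 (.node 1 (.leaf 0x764345234234653432) (.leaf 0x543423464123432)) (.node 1 (.leaf 0x5434734234723432) (.leaf 0x64764342347423432)))) (.node 4 (.node 2 (.node 1 (.leaf 0x3434674234623432) (.leaf 0x673423462343423432)) (.node 1 (.leaf 0x52346543423473432) (.leaf 0x634534234234723432))) (.node 2 (.node 1 (.leaf 0x534347123432) (.leaf 0x2343474346423432)) (.node 1 (.leaf 0x3474345346423432) (.leaf 0x5434734523465423432)))))) (.node 16 (.node 8 (.node 4 (.node 2 (.node 1 (.leaf 0x43453463423432) (.leaf 0x434764123432)) (.node 1 (.leaf 0x674347542346123432) (.leaf 0x5434634234753432))) (.node 2 (.node 1 (.leaf 0x54347342347123432) (.leaf 0x543473423463432)) (.node 1 (.leaf 0x5434347423432) (.leaf 0x5434734234653432)))) (.node 4 (.node 2 (.node 1 (.leaf 0x23434743423467432) (.leaf 0x523475343423463432))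 (.node 1 (.leaf 0x4754345234346423432) (.leaf 0x5347452343423467432))) (.node 2 (.node 1 (.leaf 0x63434753423432) (.leaf 0x4345346342346123432)) (.node 1 (.leaf 0x54343423463432) (.leaf 0x7434234234623432))))) (.node 8 (.node 4 (.node 2 (.node 1 (.leaf 0x47412343423473432) (.leaf 0x5234674347123432)) (.node 1 (.leaf 0x5465347343423473432) (.leaf 0x5343423476423432))) (.node 2 (.node 1 (.leaf 0x6743476423464123432) (.leaf 0x53476434123476432)) (.node 1 (.leaf 0x5434623432) (.leaf 0x434534634234623432)))) (.node 4 (.node 2 (.node 1 (.leaf 0x453473423465423432) (.leaf 0x546743465423467432)) (.node 1 (.leaf 0x53434653432) (.leaf 0x64123423423465432))) (.node 2 (.node 1 (.leaf 0x734347642346423432) (.leaf 0x4734234653432)) (.node 1 (.leaf 0x723465434623432) (.leaf 0x7546543423475432))))))) (.node 32 (.node 16 (.node 8 (.node 4 (.node 2 (.node 1 (.leaf 0x454342346743423432) (.leaf 0x41234734234653432)) (.node 1 (.leaf 0x764534634123473432)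 (.leaf 0x6234346434123473432))) (.node 2 (.node 1 (.leaf 0x6743472343465423432) (.leaf 0x4346434523475423432)) (.node 1 (.leaf 0x434634234754123432) (.leaf 0x3434623434234623432)))) (.node 4 (.node 2 (.node 1 (.leaf 0x74234674534234723432) (.leaf 0x2345234234653432)) (.node 1 (.leaf 0x63412347342347423432) (.leaf 0x4346454343423473432))) (.node 2 (.node 1 (.leaf 0x723465434234753432) (.leaf 0x67423473423432)) (.node 1 (.leaf 0x645347343423473432) (.leaf 0x546234523465423432))))) (.node 8 (.node 4 (.node 2 (.node 1 (.leaf 0x72346534723453423432) (.leaf 0x2347534234653432)) (.node 1 (.leaf 0x465434612343423432) (.leaf 0x741234734123463432))) (.node 2 (.node 1 (.leaf 0x7412347345234723432) (.leaf 0x463434654234723432)) (.node 1 (.leaf 0x54653434723467432) (.leaf 0x746743452343423432)))) (.node 4 (.node 2 (.node 1 (.leaf 0x475463452343423432) (.leaf 0x754342345346123432)) (.node 1 (.leaf 0x465473423463432) (.leaf 0x546523434723467432)))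 (.node 2 (.node 1 (.leaf 0x47434542347423432) (.leaf 0x54634123473432)) (.node 1 (.leaf 0x74234674534234653432) (.leaf 0x346347234234123432)))))) (.node 16 (.node 8 (.node 4 (.node 2 (.node 1 (.leaf 0x23453476423432) (.leaf 0x34654234234653432)) (.node 1 (.leaf 0x6342346534234623432) (.leaf 0x6742341234723432))) (.node 2 (.node 1 (.leaf 0x434653434234723432) (.leaf 0x342347343423463432)) (.node 1 (.leaf 0x234234654123432) (.leaf 0x12343464543423473432)))) (.node 4 (.node 2 (.node 1 (.leaf 0x5474234234723432) (.leaf 0x4723464343423463432)) (.node 1 (.leaf 0x54673434234623432) (.leaf 0x674623423475423432))) (.node 2 (.node 1 (.leaf 0x546347542346423432) (.leaf 0x4543462343423432)) (.node 1 (.leaf 0x7234345234346123432) (.leaf 0x746543465423467432))))) (.node 8 (.node 4 (.node 2 (.node 1 (.leaf 0x7453473423465423432) (.leaf 0x234654234523463432)) (.node 1 (.leaf 0x743423465432) (.leaf 0x7346543432))) (.node 2 (.node 1 (.leaf 0x23465423464123432)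 (.leaf 0x46234234643432)) (.node 1 (.leaf 0x53423476434123432) (.leaf 0x7453473423465432)))) (.node 4 (.node 2 (.node 1 (.leaf 0x463434743423463432) (.leaf 0x74347343423473432)) (.node 1 (.leaf 0x67434123473432) (.leaf 0x647434123432))) (.node 2 (.node 1 (.leaf 0x34523434234623432) (.leaf 0x64763434123432)) (.node 1 (.leaf 0x7623434723467432) (.leaf 0x74654234234753432)))))))

def classATree_64 : Tree :=
  .node 64 (.node 32 (.node 16 (.node 8 (.node 4 (.node 2 (.node 1 (.leaf 0x7642341234723432) (.leaf 0x74345234734123432)) (.node 1 (.leaf 0x761234234723432) (.leaf 0x34523434723432))) (.node 2 (.node 1 (.leaf 0x65342346534234623432) (.leaf 0x746473462343423432)) (.node 1 (.leaf 0x5346723434123432) (.leaf 0x43464234123476432)))) (.node 4 (.node 2 (.node 1 (.leaf 0x2347643412346423432) (.leaf 0x7464234523465423432)) (.node 1 (.leaf 0x3452347643423476432) (.leaf 0x712343473423432))) (.node 2 (.node 1 (.leaf 0x6343464734234653432) (.leaf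 0x7523434723467432)) (.node 1 (.leaf 0x7341234652343423476432) (.leaf 0x43473463423473432))))) (.node 8 (.node 4 (.node 2 (.node 1 (.leaf 0x74342347343423473432) (.leaf 0x734534674234623432)) (.node 1 (.leaf 0x73434723467432) (.leaf 0x412346423432))) (.node 2 (.node 1 (.leaf 0x423474534234723432) (.leaf 0x534623434123432)) (.node 1 (.leaf 0x746723462343423432) (.leaf 0x3463453423476432)))) (.node 4 (.node 2 (.node 1 (.leaf 0x754234234234653432) (.leaf 0x6423476434523473432)) (.node 1 (.leaf 0x7123463453423473432) (.leaf 0x3452343473423432))) (.node 2 (.node 1 (.leaf 0x7434534734123432) (.leaf 0x754234234753432)) (.node 1 (.leaf 0x454347612343423432) (.leaf 0x7412342347123432)))))) (.node 16 (.node 8 (.node 4 (.node 2 (.node 1 (.leaf 0x3463473423476432) (.leaf 0x734523463423432)) (.node 1 (.leaf 0x764345234346423432) (.leaf 0x734634234753432))) (.node 2 (.node 1 (.leaf 0x3452347423432) (.leaf 0x734347534234723432)) (.node 1 (.leaf 0x4647346742347123432)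 (.leaf 0x3434123463432)))) (.node 4 (.node 2 (.node 1 (.leaf 0x64534612342346423432) (.leaf 0x543463434123473432)) (.node 1 (.leaf 0x34653432) (.leaf 0x434523423423465432))) (.node 2 (.node 1 (.leaf 0x34754234234643432) (.leaf 0x346742346542346123432)) (.node 1 (.leaf 0x54643432) (.leaf 0x654234234643432))))) (.node 8 (.node 4 (.node 2 (.node 1 (.leaf 0x76434723465432) (.leaf 0x234123464342346423432)) (.node 1 (.leaf 0x534634234623432) (.leaf 0x5346341234623432))) (.node 2 (.node 1 (.leaf 0x654346434234643432) (.leaf 0x534234123476432)) (.node 1 (.leaf 0x12343464123432) (.leaf 0x764534723432)))) (.node 4 (.node 2 (.node 1 (.leaf 0x4345423473423432) (.leaf 0x75343423467432)) (.node 1 (.leaf 0x6542347423432) (.leaf 0x65434723432))) (.node 2 (.node 1 (.leaf 0x4742341234623432) (.leaf 0x464234346423432)) (.node 1 (.leaf 0x6475434723432) (.leaf 0x463434123467432))))))) (.node 32 (.node 16 (.node 8 (.node 4 (.node 2 (.node 1 (.leaf 0x546434734234643432)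 (.leaf 0x546434734123463432)) (.node 1 (.leaf 0x46741234234623432) (.leaf 0x753423472343423432))) (.node 2 (.node 1 (.leaf 0x2343464712343423432) (.leaf 0x6453476453423467432)) (.node 1 (.leaf 0x4634743412347423432) (.leaf 0x4342345346423432)))) (.node 4 (.node 2 (.node 1 (.leaf 0x65434643423473432) (.leaf 0x5347346234346423432)) (.node 1 (.leaf 0x753434754234723432) (.leaf 0x734653434234653432))) (.node 2 (.node 1 (.leaf 0x71234534734234623432) (.leaf 0x534647434123467432)) (.node 1 (.leaf 0x75234634234723432) (.leaf 0x63476434123467432))))) (.node 8 (.node 4 (.node 2 (.node 1 (.leaf 0x423475423472343423432) (.leaf 0x463474343423463432)) (.node 1 (.leaf 0x6347346542347423432) (.leaf 0x634347643423467432))) (.node 2 (.node 1 (.leaf 0x23474234234654123432) (.leaf 0x45346745234723432)) (.node 1 (.leaf 0x654347234234723432) (.leaf 0x34634534234653432)))) (.node 4 (.node 2 (.node 1 (.leaf 0x2343452343475423432) (.leaf 0x43475343423467432))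 (.node 1 (.leaf 0x46234347542346123432) (.leaf 0x6543464342346423432))) (.node 2 (.node 1 (.leaf 0x345347342347123432) (.leaf 0x73412347423432)) (.node 1 (.leaf 0x475463423467432) (.leaf 0x7467463423467432)))))) (.node 16 (.node 8 (.node 4 (.node 2 (.node 1 (.leaf 0x4734346542346123432) (.leaf 0x343474341234623432)) (.node 1 (.leaf 0x346347612343423432) (.leaf 0x63423473423476432))) (.node 2 (.node 1 (.leaf 0x474543473423467432) (.leaf 0x4345234234723432)) (.node 1 (.leaf 0x472343463423463432) (.leaf 0x7434234634123432)))) (.node 4 (.node 2 (.node 1 (.leaf 0x7641234623432) (.leaf 0x4234342347346423432)) (.node 1 (.leaf 0x62345347452343423432) (.leaf 0x4345234643423463432))) (.node 2 (.node 1 (.leaf 0x53473452347423432) (.leaf 0x7643464123432)) (.node 1 (.leaf 0x623453472343423432) (.leaf 0x434674343423463432))))) (.node 8 (.node 4 (.node 2 (.node 1 (.leaf 0x34523434123467432) (.leaf 0x4346523434623476432)) (.node 1 (.leaf 0x474234123432)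 (.leaf 0x76434123473432))) (.node 2 (.node 1 (.leaf 0x6434764534234623432) (.leaf 0x7434674534234723432)) (.node 1 (.leaf 0x4534653434234653432) (.leaf 0x434534612343423432)))) (.node 4 (.node 2 (.node 1 (.leaf 0x5347453463423463432) (.leaf 0x743472343465423432)) (.node 1 (.leaf 0x42347645234623432) (.leaf 0x73412347343423463432))) (.node 2 (.node 1 (.leaf 0x12342346342346123432) (.leaf 0x634523473423463432)) (.node 1 (.leaf 0x341234634234623432) (.leaf 0x723434674234623432)))))))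

def classATree_65 : Tree :=
  .node 64 (.node 32 (.node 16 (.node 8 (.node 4 (.node 2 (.node 1 (.leaf 0x63412346342346123432) (.leaf 0x423434234346423432)) (.node 1 (.leaf 0x734523434523463432) (.leaf 0x23453475423432))) (.node 2 (.node 1 (.leaf 0x5347634723434623432) (.leaf 0x434534712343423432)) (.node 1 (.leaf 0x23434123432) (.leaf 0x5434346542346123432)))) (.node 4 (.node 2 (.node 1 (.leaf 0x534347123434123432) (.leaf 0x234634123463432)) (.node 1 (.leaf 0x4534753434234753432) (.leaf 0x54123463434123473432))) (.node 2 (.node 1 (.leaf 0x473467434234653432) (.leaf 0x53434123476432)) (.node 1 (.leaf 0x53462342346123432) (.leaf 0x34534653423463432))))) (.node 8 (.node 4 (.node 2 (.node 1 (.leaf 0x23434523473432) (.leaf 0x474346343423473432)) (.node 1 (.leaf 0x634523473423474123432) (.leaf 0x475343463423463432))) (.node 2 (.node 1 (.leaf 0x45434753432) (.leaf 0x54764234234743432)) (.node 1 (.leaf 0x4543432) (.leaf 0x6454347543423463432))))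 (.node 4 (.node 2 (.node 1 (.leaf 0x6543463423432) (.leaf 0x4745434234653432)) (.node 1 (.leaf 0x34653473423476432) (.leaf 0x34534734234643432))) (.node 2 (.node 1 (.leaf 0x454347534234723432) (.leaf 0x345342346423432)) (.node 1 (.leaf 0x6745342345347423432) (.leaf 0x3453463423464123432)))))) (.node 16 (.node 8 (.node 4 (.node 2 (.node 1 (.leaf 0x4734523475423432) (.leaf 0x674347454234623432)) (.node 1 (.leaf 0x523465434123473432) (.leaf 0x4543463423473432))) (.node 2 (.node 1 (.leaf 0x47123434234723432) (.leaf 0x123473453423463432)) (.node 1 (.leaf 0x3474234234123476432) (.leaf 0x2347345346423432)))) (.node 4 (.node 2 (.node 1 (.leaf 0x7343474346423432) (.leaf 0x4534764234623432)) (.node 1 (.leaf 0x345346342346423432) (.leaf 0x3453463423473432))) (.node 2 (.node 1 (.leaf 0x546534734234723432) (.leaf 0x345347123432)) (.node 1 (.leaf 0x3453473423463432) (.leaf 0x463476434123467432))))) (.node 8 (.node 4 (.node 2 (.node 1 (.leaf 0x3453473423432)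 (.leaf 0x475234634234723432)) (.node 1 (.leaf 0x343454234623432) (.leaf 0x7612343423476432))) (.node 2 (.node 1 (.leaf 0x234347434123467432) (.leaf 0x34534346423432)) (.node 1 (.leaf 0x34653472343423432) (.leaf 0x5343473434234653432)))) (.node 4 (.node 2 (.node 1 (.leaf 0x34534234764123432) (.leaf 0x523467434723432)) (.node 1 (.leaf 0x34764534123476432) (.leaf 0x346743472343423432))) (.node 2 (.node 1 (.leaf 0x345423462343423432) (.leaf 0x6343474342347123432)) (.node 1 (.leaf 0x45343423467423432) (.leaf 0x454346123432))))))) (.node 32 (.node 16 (.node 8 (.node 4 (.node 2 (.node 1 (.leaf 0x34653473423467432) (.leaf 0x453476423432)) (.node 1 (.leaf 0x534734523475423432) (.leaf 0x34534753423432))) (.node 2 (.node 1 (.leaf 0x347641234234723432) (.leaf 0x5467434623453476432)) (.node 1 (.leaf 0x3453463432) (.leaf 0x54123423423465432)))) (.node 4 (.node 2 (.node 1 (.leaf 0x3463432) (.leaf 0x462343463423463432)) (.node 1 (.leaf 0x7343462343423432)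 (.leaf 0x3434743462343423432))) (.node 2 (.node 1 (.leaf 0x72343462343423432) (.leaf 0x6473423473423476432)) (.node 1 (.leaf 0x423423474342347423432) (.leaf 0x34234634534234653432))))) (.node 8 (.node 4 (.node 2 (.node 1 (.leaf 0x6234723453423432) (.leaf 0x7643452343464123432)) (.node 1 (.leaf 0x4654234754234723432) (.leaf 0x65434753423465432))) (.node 2 (.node 1 (.leaf 0x423464234346423432) (.leaf 0x2347542342347423432)) (.node 1 (.leaf 0x6541234634234623432) (.leaf 0x7546743412347423432)))) (.node 4 (.node 2 (.node 1 (.leaf 0x346234342347123432) (.leaf 0x4723462342346423432)) (.node 1 (.leaf 0x6534763434234723432) (.leaf 0x6534346534234623432))) (.node 2 (.node 1 (.leaf 0x53474341234623432) (.leaf 0x753434234753432)) (.node 1 (.leaf 0x46347234234653432) (.leaf 0x3434754345423473432)))))) (.node 16 (.node 8 (.node 4 (.node 2 (.node 1 (.leaf 0x746341234623432) (.leaf 0x743423463423432)) (.node 1 (.leaf 0x54234643423473432) (.leaf 0x541234234234723432)))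 (.node 2 (.node 1 (.leaf 0x64345341234723432) (.leaf 0x2345347643423476432)) (.node 1 (.leaf 0x12346347342347423432) (.leaf 0x454234346423432)))) (.node 4 (.node 2 (.node 1 (.leaf 0x54123473423463432) (.leaf 0x76423473423432)) (.node 1 (.leaf 0x6734634123476432) (.leaf 0x47543423476432))) (.node 2 (.node 1 (.leaf 0x764234753423467432) (.leaf 0x5475434634234623432)) (.node 1 (.leaf 0x754674341234723432) (.leaf 0x63475434234734123432))))) (.node 8 (.node 4 (.node 2 (.node 1 (.leaf 0x54654234234753432) (.leaf 0x2343473462343423432)) (.node 1 (.leaf 0x5473465342347423432) (.leaf 0x4347234346542347123432))) (.node 2 (.node 1 (.leaf 0x7642343423473432) (.leaf 0x45346434234723432)) (.node 1 (.leaf 0x7434723463423467432) (.leaf 0x4542346342346423432)))) (.node 4 (.node 2 (.node 1 (.leaf 0x6734612343423432) (.leaf 0x1234346472343423432)) (.node 1 (.leaf 0x34654342347123432) (.leaf 0x73454234234653432))) (.node 2 (.node 1 (.leaf 0x643476434123467432)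 (.leaf 0x4234734234123476432)) (.node 1 (.leaf 0x7434346542347123432) (.leaf 0x4653434523463432)))))))

def classATree_66 : Tree :=
  .node 64 (.node 32 (.node 16 (.node 8 (.node 4 (.node 2 (.node 1 (.leaf 0x23467412342347123432) (.leaf 0x547423453423432)) (.node 1 (.leaf 0x5342346434234643432) (.leaf 0x6743412346423432))) (.node 2 (.node 1 (.leaf 0x54347123434123432) (.leaf 0x5434653412346423432)) (.node 1 (.leaf 0x3423464341234643432) (.leaf 0x64734523434123432)))) (.node 4 (.node 2 (.node 1 (.leaf 0x634234734534234753432) (.leaf 0x23423464341234643432)) (.node 1 (.leaf 0x6473423453423432) (.leaf 0x64743452343423432))) (.node 2 (.node 1 (.leaf 0x2347343473423463432) (.leaf 0x54723465423432)) (.node 1 (.leaf 0x54634723434123432) (.leaf 0x643475341234723432))))) (.node 8 (.node 4 (.node 2 (.node 1 (.leaf 0x63452347341234723432) (.leaf 0x645347534234723432)) (.node 1 (.leaf 0x64342346423432) (.leaf 0x6473434123432))) (.node 2 (.node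 1 (.leaf 0x674347534234723432) (.leaf 0x464723462343423432)) (.node 1 (.leaf 0x6434734634234643432) (.leaf 0x4753423423465432)))) (.node 4 (.node 2 (.node 1 (.leaf 0x647434623434723432) (.leaf 0x723434123463432)) (.node 1 (.leaf 0x54623434234623432) (.leaf 0x62347343423473432))) (.node 2 (.node 1 (.leaf 0x434346434234753432) (.leaf 0x473434123476432)) (.node 1 (.leaf 0x123475434123463432) (.leaf 0x453464342346423432)))))) (.node 16 (.node 8 (.node 4 (.node 2 (.node 1 (.leaf 0x746347123434123432) (.leaf 0x623473434623432)) (.node 1 (.leaf 0x345234653434234653432) (.leaf 0x7423476423432))) (.node 2 (.node 1 (.leaf 0x645347452343423432) (.leaf 0x523463472343423432)) (.node 1 (.leaf 0x4534753434523473432) (.leaf 0x234234123463432)))) (.node 4 (.node 2 (.node 1 (.leaf 0x4534653473423463432) (.leaf 0x7434723434123432)) (.node 1 (.leaf 0x2346234123432) (.leaf 0x63453423476432))) (.node 2 (.node 1 (.leaf 0x647346123434723432) (.leaf 0x743465342346423432))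 (.node 1 (.leaf 0x4754347342347423432) (.leaf 0x342346453423463432))))) (.node 8 (.node 4 (.node 2 (.node 1 (.leaf 0x647453434123432) (.leaf 0x6475343423432)) (.node 1 (.leaf 0x746347342347423432) (.leaf 0x5473463423464123432))) (.node 2 (.node 1 (.leaf 0x634342347645343423432) (.leaf 0x3464542346342346423432)) (.node 1 (.leaf 0x42342347423432) (.leaf 0x5347234523475423432)))) (.node 4 (.node 2 (.node 1 (.leaf 0x64534234764123432) (.leaf 0x543423476423432)) (.node 1 (.leaf 0x64543473423465432) (.leaf 0x543423476434123432))) (.node 2 (.node 1 (.leaf 0x547342346743423432) (.leaf 0x541234734123463432)) (.node 1 (.leaf 0x4634345423463432) (.leaf 0x3461234347542346123432))))))) (.node 32 (.node 16 (.node 8 (.node 4 (.node 2 (.node 1 (.leaf 0x734534234753432) (.leaf 0x4523434634234623432)) (.node 1 (.leaf 0x64523473423467432) (.leaf 0x764234734123432))) (.node 2 (.node 1 (.leaf 0x4745434123476432) (.leaf 0x465343423467453432)) (.node 1 (.leaf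 0x434645342347123432) (.leaf 0x4634234623432)))) (.node 4 (.node 2 (.node 1 (.leaf 0x4743423463423432) (.leaf 0x542346434123473432)) (.node 1 (.leaf 0x754234234234723432) (.leaf 0x6474342345346423432))) (.node 2 (.node 1 (.leaf 0x7343423453465423432) (.leaf 0x46734342346423432)) (.node 1 (.leaf 0x4723423473423432) (.leaf 0x452343463423432))))) (.node 8 (.node 4 (.node 2 (.node 1 (.leaf 0x6345346345234623432) (.leaf 0x7623434234723432)) (.node 1 (.leaf 0x46543452347643432) (.leaf 0x23454347343423463432))) (.node 2 (.node 1 (.leaf 0x2346742342347123432) (.leaf 0x723463453423432)) (.node 1 (.leaf 0x7541234734234723432) (.leaf 0x764754343423463432)))) (.node 4 (.node 2 (.node 1 (.leaf 0x723464743423467432) (.leaf 0x7434634734234623432)) (.node 1 (.leaf 0x4234347462343423432) (.leaf 0x734234234653432))) (.node 2 (.node 1 (.leaf 0x4234623434123473432) (.leaf 0x723463453423473432)) (.node 1 (.leaf 0x4745434634234623432) (.leaf 0x5412346743423476432))))))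 (.node 16 (.node 8 (.node 4 (.node 2 (.node 1 (.leaf 0x474346743423476432) (.leaf 0x46343452343475423432)) (.node 1 (.leaf 0x7346345342346423432) (.leaf 0x73464534123476432))) (.node 2 (.node 1 (.leaf 0x73462343423432) (.leaf 0x34743454234623432)) (.node 1 (.leaf 0x64534345234723432) (.leaf 0x12343464712343423432)))) (.node 4 (.node 2 (.node 1 (.leaf 0x6745346743423467432) (.leaf 0x4543465343423463432)) (.node 1 (.leaf 0x523434623476432) (.leaf 0x464234234754123432))) (.node 2 (.node 1 (.leaf 0x712346543423463432) (.leaf 0x465434623475432)) (.node 1 (.leaf 0x23464543423463432) (.leaf 0x6343454234623432))))) (.node 8 (.node 4 (.node 2 (.node 1 (.leaf 0x47234634234623432) (.leaf 0x46741234234753432)) (.node 1 (.leaf 0x472343423453465423432) (.leaf 0x453434234534723432))) (.node 2 (.node 1 (.leaf 0x1234742342347123432) (.leaf 0x45234653434234653432)) (.node 1 (.leaf 0x34674634123473432) (.leaf 0x623472343423473432)))) (.node 4 (.node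 2 (.node 1 (.leaf 0x45347234234654123432) (.leaf 0x3467345342347123432)) (.node 1 (.leaf 0x34347612343423432) (.leaf 0x745347642346123432))) (.node 2 (.node 1 (.leaf 0x1234743423432) (.leaf 0x47342347643423467432)) (.node 1 (.leaf 0x67465347341234623432) (.leaf 0x12347434234623432)))))))

def classATree_67 : Tree :=
  .node 64 (.node 32 (.node 16 (.node 8 (.node 4 (.node 2 (.node 1 (.leaf 0x67234634123476432) (.leaf 0x534745343423463432)) (.node 1 (.leaf 0x6543454234723432) (.leaf 0x7434234523463432))) (.node 2 (.node 1 (.leaf 0x76347341234723432) (.leaf 0x543423474123432)) (.node 1 (.leaf 0x64734534234753432) (.leaf 0x43464743423476432)))) (.node 4 (.node 2 (.node 1 (.leaf 0x4723467434123476432) (.leaf 0x674534612343423432)) (.node 1 (.leaf 0x74234642342346423432) (.leaf 0x46454234723432))) (.node 2 (.node 1 (.leaf 0x346541234234623432) (.leaf 0x73453462343423432)) (.node 1 (.leaf 0x2347464342346123432) (.leaf 0x47234234234723432)))))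 (.node 8 (.node 4 (.node 2 (.node 1 (.leaf 0x434674234123463432) (.leaf 0x5434634123473432)) (.node 1 (.leaf 0x46454234234623432) (.leaf 0x754341234623432))) (.node 2 (.node 1 (.leaf 0x643473423467432) (.leaf 0x4342346234234623432)) (.node 1 (.leaf 0x4234534634123432) (.leaf 0x65434743423463432)))) (.node 4 (.node 2 (.node 1 (.leaf 0x4234534234623432) (.leaf 0x46543423467423432)) (.node 1 (.leaf 0x7123463423463432) (.leaf 0x4534674345234723432))) (.node 2 (.node 1 (.leaf 0x6234754234123473432) (.leaf 0x523476434123432)) (.node 1 (.leaf 0x54753432) (.leaf 0x654234234743432)))))) (.node 16 (.node 8 (.node 4 (.node 2 (.node 1 (.leaf 0x6423475463423463432) (.leaf 0x6452347643423432)) (.node 1 (.leaf 0x34753463423467432) (.leaf 0x45434653432))) (.node 2 (.node 1 (.leaf 0x543465423463423432) (.leaf 0x4642347643423467432)) (.node 1 (.leaf 0x76434234623432) (.leaf 0x63475343423463432)))) (.node 4 (.node 2 (.node 1 (.leaf 0x4512346343423463432)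 (.leaf 0x63434754234123463432)) (.node 1 (.leaf 0x347546734234653432) (.leaf 0x7464234234723432))) (.node 2 (.node 1 (.leaf 0x654734123476432) (.leaf 0x54643423467432)) (.node 1 (.leaf 0x547534234723432) (.leaf 0x476347234123476432))))) (.node 8 (.node 4 (.node 2 (.node 1 (.leaf 0x75434234734123432) (.leaf 0x3434523434723432)) (.node 1 (.leaf 0x6452347643423473432) (.leaf 0x45434743423463432))) (.node 2 (.node 1 (.leaf 0x734234234234623432) (.leaf 0x123476434123467432)) (.node 1 (.leaf 0x74674534234623432) (.leaf 0x5123463434234623432)))) (.node 4 (.node 2 (.node 1 (.leaf 0x5474346542347423432) (.leaf 0x75434764534234623432)) (.node 1 (.leaf 0x547634723434623432) (.leaf 0x5462342346423432))) (.node 2 (.node 1 (.leaf 0x454347423432) (.leaf 0x454346534234623432)) (.node 1 (.leaf 0x54753423475423432) (.leaf 0x7434753423476432))))))) (.node 32 (.node 16 (.node 8 (.node 4 (.node 2 (.node 1 (.leaf 0x346343423473423432) (.leaf 0x34754234523463432))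 (.node 1 (.leaf 0x434743423467432) (.leaf 0x4543474234234723432))) (.node 2 (.node 1 (.leaf 0x764764534123476432) (.leaf 0x6234764234123473432)) (.node 1 (.leaf 0x474642342346123432) (.leaf 0x3475346341234723432)))) (.node 4 (.node 2 (.node 1 (.leaf 0x5475343423463432) (.leaf 0x43474346423432)) (.node 1 (.leaf 0x75462342346123432) (.leaf 0x54234523476423432))) (.node 2 (.node 1 (.leaf 0x5434723465423432) (.leaf 0x47434523476423432)) (.node 1 (.leaf 0x76453432) (.leaf 0x23476434123432))))) (.node 8 (.node 4 (.node 2 (.node 1 (.leaf 0x234674234123432) (.leaf 0x534753432)) (.node 1 (.leaf 0x6342347542347123432) (.leaf 0x47534634123467432))) (.node 2 (.node 1 (.leaf 0x6234754234723432) (.leaf 0x746434723465432)) (.node 1 (.leaf 0x643454234234753432) (.leaf 0x234634123473432)))) (.node 4 (.node 2 (.node 1 (.leaf 0x54653473423476432) (.leaf 0x73453423423465432)) (.node 1 (.leaf 0x2343423476453432) (.leaf 0x6345234623432))) (.node 2 (.node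 1 (.leaf 0x7434643473423463432) (.leaf 0x423472345234723432)) (.node 1 (.leaf 0x123475343423467432) (.leaf 0x5474345234623432)))))) (.node 16 (.node 8 (.node 4 (.node 2 (.node 1 (.leaf 0x3476472343423432) (.leaf 0x76453423476432)) (.node 1 (.leaf 0x12342347123432) (.leaf 0x345423476423432))) (.node 2 (.node 1 (.leaf 0x45346234346123432) (.leaf 0x7454347434234623432)) (.node 1 (.leaf 0x746734623453423432) (.leaf 0x7467434723432)))) (.node 4 (.node 2 (.node 1 (.leaf 0x212347343423473432) (.leaf 0x63434754123476432)) (.node 1 (.leaf 0x3465473452343423432) (.leaf 0x723465423474123432))) (.node 2 (.node 1 (.leaf 0x67434234634123432) (.leaf 0x434745343423467432)) (.node 1 (.leaf 0x54234653473423463432) (.leaf 0x46541234234623432))))) (.node 8 (.node 4 (.node 2 (.node 1 (.leaf 0x423465434123473432) (.leaf 0x743423476432)) (.node 1 (.leaf 0x434734234754123432) (.leaf 0x7546543423476432))) (.node 2 (.node 1 (.leaf 0x634347234234123432) (.leaf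 0x434723434234723432)) (.node 1 (.leaf 0x7612343462343423432) (.leaf 0x742347534234723432)))) (.node 4 (.node 2 (.node 1 (.leaf 0x65343463423432) (.leaf 0x763423463423432)) (.node 1 (.leaf 0x46434734523465423432) (.leaf 0x45341234234623432))) (.node 2 (.node 1 (.leaf 0x465423453423473432) (.leaf 0x653434743423463432)) (.node 1 (.leaf 0x72346543423463432) (.leaf 0x3465434623475432)))))))

def classATree_68 : Tree :=
  .node 64 (.node 32 (.node 16 (.node 8 (.node 4 (.node 2 (.node 1 (.leaf 0x52346543423463432) (.leaf 0x47453463423473432)) (.node 1 (.leaf 0x523472342347123432) (.leaf 0x7465434234346423432))) (.node 2 (.node 1 (.leaf 0x547453463423463432) (.leaf 0x345342347342347123432)) (.node 1 (.leaf 0x743452347423432) (.leaf 0x5234734234623432)))) (.node 4 (.node 2 (.node 1 (.leaf 0x465472343423432) (.leaf 0x2347543473423467432)) (.node 1 (.leaf 0x434234623432) (.leaf 0x743463423473432))) (.node 2 (.node 1 (.leaf 0x4634123463423432)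 (.leaf 0x45343423467453432)) (.node 1 (.leaf 0x6523473423467432) (.leaf 0x345434612343423432))))) (.node 8 (.node 4 (.node 2 (.node 1 (.leaf 0x346543412346423432) (.leaf 0x547234346542347123432)) (.node 1 (.leaf 0x523463423463432) (.leaf 0x54345234234653432))) (.node 2 (.node 1 (.leaf 0x7645342347123432) (.leaf 0x4634346454234723432)) (.node 1 (.leaf 0x12346434123476432) (.leaf 0x673467453423463432)))) (.node 4 (.node 2 (.node 1 (.leaf 0x523473423432) (.leaf 0x74346234234623432)) (.node 1 (.leaf 0x34753434123463432) (.leaf 0x4764534123476432))) (.node 2 (.node 1 (.leaf 0x7234654342347423432) (.leaf 0x3472342347123432)) (.node 1 (.leaf 0x74234634523475423432) (.leaf 0x74523434523463432)))))) (.node 16 (.node 8 (.node 4 (.node 2 (.node 1 (.leaf 0x546523473423474123432) (.leaf 0x343463472343423432)) (.node 1 (.leaf 0x7434234123463423432) (.leaf 0x7454234634234623432))) (.node 2 (.node 1 (.leaf 0x67345342346123432) (.leaf 0x53464543423467432))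 (.node 1 (.leaf 0x234764534234623432) (.leaf 0x6453463423476432)))) (.node 4 (.node 2 (.node 1 (.leaf 0x6453462343423432) (.leaf 0x6534734234723432)) (.node 1 (.leaf 0x74654234723432) (.leaf 0x64234734534234753432))) (.node 2 (.node 1 (.leaf 0x34234612343423432) (.leaf 0x464534734234623432)) (.node 1 (.leaf 0x6234754634123463432) (.leaf 0x64534753432))))) (.node 8 (.node 4 (.node 2 (.node 1 (.leaf 0x6434523476434123432) (.leaf 0x623475434723432)) (.node 1 (.leaf 0x34753423465432) (.leaf 0x64743432))) (.node 2 (.node 1 (.leaf 0x234654234123432) (.leaf 0x547534234654123432)) (.node 1 (.leaf 0x45346234234723432) (.leaf 0x74512346343423463432)))) (.node 4 (.node 2 (.node 1 (.leaf 0x53475434523463432) (.leaf 0x6345347543423463432)) (.node 1 (.leaf 0x5474534234723432) (.leaf 0x2347341234234723432))) (.node 2 (.node 1 (.leaf 0x6434234623432) (.leaf 0x763475343423463432)) (.node 1 (.leaf 0x5434234734123432) (.leaf 0x653434623453476432)))))))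 (.node 32 (.node 16 (.node 8 (.node 4 (.node 2 (.node 1 (.leaf 0x73434523434723432) (.leaf 0x647434634234743432)) (.node 1 (.leaf 0x434754123423465432) (.leaf 0x67463423467432))) (.node 2 (.node 1 (.leaf 0x647434123476432) (.leaf 0x464234234723432)) (.node 1 (.leaf 0x75462342346423432) (.leaf 0x7454347423432)))) (.node 4 (.node 2 (.node 1 (.leaf 0x7454346534234623432) (.leaf 0x434753423476432)) (.node 1 (.leaf 0x234654234123473432) (.leaf 0x46743475342346123432))) (.node 2 (.node 1 (.leaf 0x4674534234623432) (.leaf 0x34234234234623432)) (.node 1 (.leaf 0x5462347234234723432) (.leaf 0x62347534623453423432))))) (.node 8 (.node 4 (.node 2 (.node 1 (.leaf 0x547346542347423432) (.leaf 0x5434764534234623432)) (.node 1 (.leaf 0x547453423475423432) (.leaf 0x64764534123476432))) (.node 2 (.node 1 (.leaf 0x434654234234623432) (.leaf 0x643423463423432)) (.node 1 (.leaf 0x6534734623434723432) (.leaf 0x4645347343423473432)))) (.node 4 (.node 2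 (.node 1 (.leaf 0x743474346423432) (.leaf 0x54745343423463432)) (.node 1 (.leaf 0x5462342346123432) (.leaf 0x47642342346123432))) (.node 2 (.node 1 (.leaf 0x6343453472343423432) (.leaf 0x34346543423476432)) (.node 1 (.leaf 0x5476473423467432) (.leaf 0x4753423476423432)))))) (.node 16 (.node 8 (.node 4 (.node 2 (.node 1 (.leaf 0x62347543423473432) (.leaf 0x72346543423432)) (.node 1 (.leaf 0x6742347454234723432) (.leaf 0x2346343463423432))) (.node 2 (.node 1 (.leaf 0x473432) (.leaf 0x4734653423467432)) (.node 1 (.leaf 0x43463432) (.leaf 0x6434623475432)))) (.node 4 (.node 2 (.node 1 (.leaf 0x473434723467432) (.leaf 0x64234734523465423432)) (.node 1 (.leaf 0x63473453423463432) (.leaf 0x6745342346123432))) (.node 2 (.node 1 (.leaf 0x34346343423463432) (.leaf 0x53475434234653432)) (.node 1 (.leaf 0x43474234234654123432) (.leaf 0x3454234634234623432))))) (.node 8 (.node 4 (.node 2 (.node 1 (.leaf 0x46234342346423432) (.leaf 0x46453423467432))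 (.node 1 (.leaf 0x647534123476432) (.leaf 0x4734634123473432))) (.node 2 (.node 1 (.leaf 0x4634723434623432) (.leaf 0x54634743423467432)) (.node 1 (.leaf 0x3434234534723432) (.leaf 0x7453423473423432)))) (.node 4 (.node 2 (.node 1 (.leaf 0x52347643423467432) (.leaf 0x65475434234623432)) (.node 1 (.leaf 0x473453462343423432) (.leaf 0x473423474123432))) (.node 2 (.node 1 (.leaf 0x4347423432) (.leaf 0x4346345234623432)) (.node 1 (.leaf 0x72346543423473432) (.leaf 0x47342347123432)))))))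

def classATree_69 : Tree :=
  .node 64 (.node 32 (.node 16 (.node 8 (.node 4 (.node 2 (.node 1 (.leaf 0x4634723434234723432) (.leaf 0x23464343423463432)) (.node 1 (.leaf 0x4734534623434123432) (.leaf 0x434743423476432))) (.node 2 (.node 1 (.leaf 0x4734234754123432) (.leaf 0x47343452346743432)) (.node 1 (.leaf 0x34754234234653432) (.leaf 0x674534234634123432)))) (.node 4 (.node 2 (.node 1 (.leaf 0x434742341234723432) (.leaf 0x47345346423432)) (.node 1 (.leaf 0x343463434234643432) (.leaf 0x4734234123463432))) (.node 2 (.node 1 (.leaf 0x7465234234623432) (.leaf 0x64746434123476432)) (.node 1 (.leaf 0x43463434523463432) (.leaf 0x434623475423432))))) (.node 8 (.node 4 (.node 2 (.node 1 (.leaf 0x4345423476423432) (.leaf 0x346743423463423432)) (.node 1 (.leaf 0x52346743423432) (.leaf 0x6542346234346423432))) (.node 2 (.node 1 (.leaf 0x23462343463423432) (.leaf 0x34743432)) (.node 1 (.leaf 0x643432) (.leaf 0x12346543423432)))) (.node 4 (.node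 2 (.node 1 (.leaf 0x2347643423463432) (.leaf 0x464234234643432)) (.node 1 (.leaf 0x347343423467432) (.leaf 0x347434523475423432))) (.node 2 (.node 1 (.leaf 0x6343463423432) (.leaf 0x6343463423473432)) (.node 1 (.leaf 0x73434743423463432) (.leaf 0x723463423473432)))))) (.node 16 (.node 8 (.node 4 (.node 2 (.node 1 (.leaf 0x347434623475423432) (.leaf 0x47346434123476432)) (.node 1 (.leaf 0x654734234634123432) (.leaf 0x34753423465423432))) (.node 2 (.node 1 (.leaf 0x6434234234653432) (.leaf 0x46745347123432)) (.node 1 (.leaf 0x3474343423473432) (.leaf 0x64346534234753432)))) (.node 4 (.node 2 (.node 1 (.leaf 0x423475341234723432) (.leaf 0x634534734234623432)) (.node 1 (.leaf 0x6123434612343423432) (.leaf 0x54346434234723432))) (.node 2 (.node 1 (.leaf 0x7423475234234723432) (.leaf 0x6734234623432)) (.node 1 (.leaf 0x34743463423473432) (.leaf 0x6434234523463432))))) (.node 8 (.node 4 (.node 2 (.node 1 (.leaf 0x634342346423432) (.leaf 0x6434123476432))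 (.node 1 (.leaf 0x75234234723432) (.leaf 0x73423476423432))) (.node 2 (.node 1 (.leaf 0x673423463423432) (.leaf 0x63473463423476423432)) (.node 1 (.leaf 0x74342341234623432) (.leaf 0x5234743453423467432)))) (.node 4 (.node 2 (.node 1 (.leaf 0x34234534634123432) (.leaf 0x547534234623432)) (.node 1 (.leaf 0x4534123476432) (.leaf 0x6534347454234623432))) (.node 2 (.node 1 (.leaf 0x23423474346423432) (.leaf 0x23423476473423467432)) (.node 1 (.leaf 0x34743453423473432) (.leaf 0x54645434123476432))))))) (.node 32 (.node 16 (.node 8 (.node 4 (.node 2 (.node 1 (.leaf 0x63434234674123432) (.leaf 0x54764234234623432)) (.node 1 (.leaf 0x3467434234753432) (.leaf 0x7234643423476432))) (.node 2 (.node 1 (.leaf 0x64764734234623432) (.leaf 0x5474341234623432)) (.node 1 (.leaf 0x74342346745343423432) (.leaf 0x742346454234623432)))) (.node 4 (.node 2 (.node 1 (.leaf 0x74346423475432) (.leaf 0x41234734234723432)) (.node 1 (.leaf 0x673434123463432) (.leaf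 0x7623476434523473432))) (.node 2 (.node 1 (.leaf 0x764764234234753432) (.leaf 0x34345234234623432)) (.node 1 (.leaf 0x475462343423432) (.leaf 0x23473463423476423432))))) (.node 8 (.node 4 (.node 2 (.node 1 (.leaf 0x4634764345234623432) (.leaf 0x74347641234723432)) (.node 1 (.leaf 0x74523463423464123432) (.leaf 0x347234523475423432))) (.node 2 (.node 1 (.leaf 0x4234123463423432) (.leaf 0x67341234723432)) (.node 1 (.leaf 0x5346434123473432) (.leaf 0x746434734123476432)))) (.node 4 (.node 2 (.node 1 (.leaf 0x47453434523463432) (.leaf 0x54346434123473432)) (.node 1 (.leaf 0x75434234234723432) (.leaf 0x473453423474123432))) (.node 2 (.node 1 (.leaf 0x46234234623432) (.leaf 0x4234645342347123432)) (.node 1 (.leaf 0x74123423463423432) (.leaf 0x543464341234623432)))))) (.node 16 (.node 8 (.node 4 (.node 2 (.node 1 (.leaf 0x741234723432) (.leaf 0x46234534734234623432)) (.node 1 (.leaf 0x2346743423467453432) (.leaf 0x674346743423463432))) (.node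 2 (.node 1 (.leaf 0x7123434634234623432) (.leaf 0x345434234347423432)) (.node 1 (.leaf 0x4653423467423432) (.leaf 0x74534652343423432)))) (.node 4 (.node 2 (.node 1 (.leaf 0x653473434523463432) (.leaf 0x53471234234723432)) (.node 1 (.leaf 0x5234734623434723432) (.leaf 0x643454234346423432))) (.node 2 (.node 1 (.leaf 0x234534723453423432) (.leaf 0x5463434723434123432)) (.node 1 (.leaf 0x4753423473423432) (.leaf 0x734342343423473432))))) (.node 8 (.node 4 (.node 2 (.node 1 (.leaf 0x234674534234653432) (.leaf 0x434723462342346123432)) (.node 1 (.leaf 0x123434234753432) (.leaf 0x4534347462343423432))) (.node 2 (.node 1 (.leaf 0x645434643423463432) (.leaf 0x123434623432)) (.node 1 (.leaf 0x5434643423463432) (.leaf 0x54234643423463432)))) (.node 4 (.node 2 (.node 1 (.leaf 0x543452347643423432) (.leaf 0x43423462343423473432)) (.node 1 (.leaf 0x76472346343423473432) (.leaf 0x672346342346423432))) (.node 2 (.node 1 (.leaf 0x67452346342346423432)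 (.leaf 0x23464343423473432)) (.node 1 (.leaf 0x64746434123473432) (.leaf 0x42345341234723432)))))))

def classATree_70 : Tree :=
  .node 64 (.node 32 (.node 16 (.node 8 (.node 4 (.node 2 (.node 1 (.leaf 0x643463432) (.leaf 0x343473423465432)) (.node 1 (.leaf 0x743432) (.leaf 0x643463423432))) (.node 2 (.node 1 (.leaf 0x54745434234653432) (.leaf 0x645347543423463432)) (.node 1 (.leaf 0x64342346347423432) (.leaf 0x7434634234743432)))) (.node 4 (.node 2 (.node 1 (.leaf 0x74347345234723432) (.leaf 0x346543474123432)) (.node 1 (.leaf 0x7234654347423432) (.leaf 0x65434234523463432))) (.node 2 (.node 1 (.leaf 0x743452346423432) (.leaf 0x754347642346123432)) (.node 1 (.leaf 0x5472343423473432) (.leaf 0x64346343423476432))))) (.node 8 (.node 4 (.node 2 (.node 1 (.leaf 0x743473423467423432) (.leaf 0x64347454234623432)) (.node 1 (.leaf 0x6423473434523463432) (.leaf 0x7434734234654123432))) (.node 2 (.node 1 (.leaf 0x73434753423432) (.leaf 0x734345346423432))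 (.node 1 (.leaf 0x74346123432) (.leaf 0x642346234347123432)))) (.node 4 (.node 2 (.node 1 (.leaf 0x6523434123476432) (.leaf 0x74346347234234123432)) (.node 1 (.leaf 0x6434764234623432) (.leaf 0x743473423467432))) (.node 2 (.node 1 (.leaf 0x4654723453423432) (.leaf 0x647346423453423432)) (.node 1 (.leaf 0x3474643423476432) (.leaf 0x7434734123463432)))))) (.node 16 (.node 8 (.node 4 (.node 2 (.node 1 (.leaf 0x6434634234623432) (.leaf 0x7343473423463432)) (.node 1 (.leaf 0x3474346343423473432) (.leaf 0x73434234623432))) (.node 2 (.node 1 (.leaf 0x73434723432) (.leaf 0x34723453423467432)) (.node 1 (.leaf 0x7343472343465423432) (.leaf 0x7343463423473432)))) (.node 4 (.node 2 (.node 1 (.leaf 0x434234753423476432) (.leaf 0x423475434234753432)) (.node 1 (.leaf 0x6472346234347123432) (.leaf 0x7434653423476432))) (.node 2 (.node 1 (.leaf 0x64346343423467432) (.leaf 0x7543476423432)) (.node 1 (.leaf 0x7434523462343423432) (.leaf 0x7343473423432)))))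 (.node 8 (.node 4 (.node 2 (.node 1 (.leaf 0x47642347542347123432) (.leaf 0x6745343423463432)) (.node 1 (.leaf 0x4653423475432) (.leaf 0x642346743423432))) (.node 2 (.node 1 (.leaf 0x346434123473432) (.leaf 0x45342346534234623432)) (.node 1 (.leaf 0x6543423463423464123432) (.leaf 0x43474643423463432)))) (.node 4 (.node 2 (.node 1 (.leaf 0x634523423463423432) (.leaf 0x2343474523434123432)) (.node 1 (.leaf 0x2347453423476432) (.leaf 0x47452346342346123432))) (.node 2 (.node 1 (.leaf 0x76476434123473432) (.leaf 0x346412342346123432)) (.node 1 (.leaf 0x7467463423463432) (.leaf 0x6434234534623432))))))) (.node 32 (.node 16 (.node 8 (.node 4 (.node 2 (.node 1 (.leaf 0x34342345346423432) (.leaf 0x64346541234723432)) (.node 1 (.leaf 0x34345423463423432) (.leaf 0x54743452343423432))) (.node 2 (.node 1 (.leaf 0x64347462343423432) (.leaf 0x643465472343423432)) (.node 1 (.leaf 0x6472342347123432) (.leaf 0x234347462343423432)))) (.node 4 (.node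 2 (.node 1 (.leaf 0x346123434723467432) (.leaf 0x34523463434123473432)) (.node 1 (.leaf 0x4534347542347123432) (.leaf 0x75434754123476432))) (.node 2 (.node 1 (.leaf 0x45347643423463432) (.leaf 0x763434123463432)) (.node 1 (.leaf 0x23453423463423432) (.leaf 0x73463423453423432))))) (.node 8 (.node 4 (.node 2 (.node 1 (.leaf 0x453476434234643432) (.leaf 0x63423474123432)) (.node 1 (.leaf 0x23475434712343423432) (.leaf 0x64743463423473432))) (.node 2 (.node 1 (.leaf 0x64523473423432) (.leaf 0x5234342346347423432)) (.node 1 (.leaf 0x762347345234723432) (.leaf 0x67423475341234723432)))) (.node 4 (.node 2 (.node 1 (.leaf 0x6412342347123432) (.leaf 0x642342345346423432)) (.node 1 (.leaf 0x74346743423476432) (.leaf 0x4346234234234623432))) (.node 2 (.node 1 (.leaf 0x423472343423432) (.leaf 0x23434712343423432)) (.node 1 (.leaf 0x64743452347423432) (.leaf 0x72345346123432)))))) (.node 16 (.node 8 (.node 4 (.node 2 (.node 1 (.leaf 0x7546734234653432)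 (.leaf 0x12347234234623432)) (.node 1 (.leaf 0x543476432) (.leaf 0x12343423476432))) (.node 2 (.node 1 (.leaf 0x434623453476432) (.leaf 0x47346343423467432)) (.node 1 (.leaf 0x46543465423467432) (.leaf 0x234345234346123432)))) (.node 4 (.node 2 (.node 1 (.leaf 0x74674345423463432) (.leaf 0x546234234754123432)) (.node 1 (.leaf 0x654734234654123432) (.leaf 0x47641234234753432))) (.node 2 (.node 1 (.leaf 0x34346434234643432) (.leaf 0x462347454347123432)) (.node 1 (.leaf 0x743423474543423432) (.leaf 0x743453423465432))))) (.node 8 (.node 4 (.node 2 (.node 1 (.leaf 0x7534653434234653432) (.leaf 0x6423472343423463432)) (.node 1 (.leaf 0x76434534234723432) (.leaf 0x74341234734234723432))) (.node 2 (.node 1 (.leaf 0x4123464341234623432) (.leaf 0x753434723467432)) (.node 1 (.leaf 0x463452346743423467432) (.leaf 0x53473434123463432)))) (.node 4 (.node 2 (.node 1 (.leaf 0x3434643423463432) (.leaf 0x2347423453423467432)) (.node 1 (.leaf 0x346547342347423432)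 (.leaf 0x546347343423463432))) (.node 2 (.node 1 (.leaf 0x734523475423432) (.leaf 0x347343423463432)) (.node 1 (.leaf 0x763476434234753432) (.leaf 0x6434742343423473432)))))))

def classATree_71 : Tree :=
  .node 64 (.node 32 (.node 16 (.node 8 (.node 4 (.node 2 (.node 1 (.leaf 0x4723434654123432) (.leaf 0x34123472343423463432)) (.node 1 (.leaf 0x3473434654234723432) (.leaf 0x5346452343423432))) (.node 2 (.node 1 (.leaf 0x734234652343423476432) (.leaf 0x6342346342346123432)) (.node 1 (.leaf 0x73423465423432) (.leaf 0x234734654234723432)))) (.node 4 (.node 2 (.node 1 (.leaf 0x7453434123467432) (.leaf 0x7623472343423432)) (.node 1 (.leaf 0x6347641234723432) (.leaf 0x434734542347423432))) (.node 2 (.node 1 (.leaf 0x6347123434623432) (.leaf 0x643464534234623432)) (.node 1 (.leaf 0x534346434123463432) (.leaf 0x634746434523473432))))) (.node 8 (.node 4 (.node 2 (.node 1 (.leaf 0x647123434623432) (.leaf 0x7234674234723432)) (.node 1 (.leaf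 0x7534234754123432) (.leaf 0x4764712343423432))) (.node 2 (.node 1 (.leaf 0x764534634123476432) (.leaf 0x34723434647423432)) (.node 1 (.leaf 0x34654234234623432) (.leaf 0x3473453423463432)))) (.node 4 (.node 2 (.node 1 (.leaf 0x23474523434123467432) (.leaf 0x47234534234653432)) (.node 1 (.leaf 0x34346453423463432) (.leaf 0x346423453423432))) (.node 2 (.node 1 (.leaf 0x74534234634123432) (.leaf 0x434542342347123432)) (.node 1 (.leaf 0x463423463423432) (.leaf 0x746743423463423432)))))) (.node 16 (.node 8 (.node 4 (.node 2 (.node 1 (.leaf 0x5475342346123432) (.leaf 0x6543434234743432)) (.node 1 (.leaf 0x423464543423463432) (.leaf 0x64234653412346423432))) (.node 2 (.node 1 (.leaf 0x2346541234623432) (.leaf 0x651234346342346123432)) (.node 1 (.leaf 0x64534653432) (.leaf 0x4764347423465432)))) (.node 4 (.node 2 (.node 1 (.leaf 0x7453432) (.leaf 0x547434234754123432)) (.node 1 (.leaf 0x347434234754123432) (.leaf 0x643474543423463432))) (.node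 2 (.node 1 (.leaf 0x5475434523463432) (.leaf 0x76434634123432)) (.node 1 (.leaf 0x453423473423476432) (.leaf 0x5234743453423463432))))) (.node 8 (.node 4 (.node 2 (.node 1 (.leaf 0x7453423462343423432) (.leaf 0x745342346423432)) (.node 1 (.leaf 0x647534634234623432) (.leaf 0x74534734234643432))) (.node 2 (.node 1 (.leaf 0x4647234623434723432) (.leaf 0x652343423476432)) (.node 1 (.leaf 0x76343473423432) (.leaf 0x47643463423432)))) (.node 4 (.node 2 (.node 1 (.leaf 0x47464343423463432) (.leaf 0x34654347423432)) (.node 1 (.leaf 0x72346543474123432) (.leaf 0x647346343423467432))) (.node 2 (.node 1 (.leaf 0x7345434723432) (.leaf 0x347543473423467432)) (.node 1 (.leaf 0x46547343423432) (.leaf 0x623473423463423432))))))) (.node 32 (.node 16 (.node 8 (.node 4 (.node 2 (.node 1 (.leaf 0x64347542346123432) (.leaf 0x4634234234653432)) (.node 1 (.leaf 0x74534634123473432) (.leaf 0x7453475341234723432))) (.node 2 (.node 1 (.leaf 0x465473434234723432)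 (.leaf 0x53463434623432)) (.node 1 (.leaf 0x4523475343423473432) (.leaf 0x476473452347423432)))) (.node 4 (.node 2 (.node 1 (.leaf 0x645347645234623432) (.leaf 0x463434123473423432)) (.node 1 (.leaf 0x645347642346423432) (.leaf 0x6343463434234643432))) (.node 2 (.node 1 (.leaf 0x54723434123473432) (.leaf 0x46473423463423432)) (.node 1 (.leaf 0x4234643453423432) (.leaf 0x346543423467423432))))) (.node 8 (.node 4 (.node 2 (.node 1 (.leaf 0x3467423423423475432) (.leaf 0x6734347534234723432)) (.node 1 (.leaf 0x74534623432) (.leaf 0x4734234743423476432))) (.node 2 (.node 1 (.leaf 0x7453463423476432) (.leaf 0x73454342346123432)) (.node 1 (.leaf 0x463423475432) (.leaf 0x452346543423432)))) (.node 4 (.node 2 (.node 1 (.leaf 0x2347543472343423432) (.leaf 0x547434634234743432)) (.node 1 (.leaf 0x46342347454234723432) (.leaf 0x4542342346423432))) (.node 2 (.node 1 (.leaf 0x52343476423464123432) (.leaf 0x3464341234723432)) (.node 1 (.leaf 0x6742347534234723432)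 (.leaf 0x746746234123463432)))))) (.node 16 (.node 8 (.node 4 (.node 2 (.node 1 (.leaf 0x7234534623432) (.leaf 0x434346234346423432)) (.node 1 (.leaf 0x64347343423473432) (.leaf 0x7543475423476432))) (.node 2 (.node 1 (.leaf 0x653434234346423432) (.leaf 0x6434523473434123463432)) (.node 1 (.leaf 0x52346234234723432) (.leaf 0x6434523434623432)))) (.node 4 (.node 2 (.node 1 (.leaf 0x46547643423463432) (.leaf 0x6434654234723432)) (.node 1 (.leaf 0x34345234346423432) (.leaf 0x3462341234723432))) (.node 2 (.node 1 (.leaf 0x54743423453423432) (.leaf 0x6534734123463432)) (.node 1 (.leaf 0x75412347342347123432) (.leaf 0x47452346345234623432))))) (.node 8 (.node 4 (.node 2 (.node 1 (.leaf 0x2343472343423432) (.leaf 0x463434754234623432)) (.node 1 (.leaf 0x645234234723432) (.leaf 0x2343474234234123432))) (.node 2 (.node 1 (.leaf 0x7234653423467432) (.leaf 0x7453467453423476432)) (.node 1 (.leaf 0x2343474612343423432) (.leaf 0x23474534123476432))))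 (.node 4 (.node 2 (.node 1 (.leaf 0x534345234234623432) (.leaf 0x53472346342346423432)) (.node 1 (.leaf 0x43476434123463432) (.leaf 0x6743453423463432))) (.node 2 (.node 1 (.leaf 0x34346745234723432) (.leaf 0x234734672343423432)) (.node 1 (.leaf 0x6472345234723432) (.leaf 0x762347342347123432)))))))

def classATree_72 : Tree :=
  .node 64 (.node 32 (.node 16 (.node 8 (.node 4 (.node 2 (.node 1 (.leaf 0x45423473423432) (.leaf 0x647434634234723432)) (.node 1 (.leaf 0x753463423453423432) (.leaf 0x723452346423432))) (.node 2 (.node 1 (.leaf 0x4234712343423432) (.leaf 0x67462342346423432)) (.node 1 (.leaf 0x423434234734123432) (.leaf 0x547434234653432)))) (.node 4 (.node 2 (.node 1 (.leaf 0x46434534234723432) (.leaf 0x464234534234723432)) (.node 1 (.leaf 0x54742342347123432) (.leaf 0x47434623434723432))) (.node 2 (.node 1 (.leaf 0x64764734123467432) (.leaf 0x7434723465423432)) (.node 1 (.leaf 0x5474543423467432) (.leaf 0x54743423467432)))))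 (.node 8 (.node 4 (.node 2 (.node 1 (.leaf 0x4623434234753432) (.leaf 0x463434234753432)) (.node 1 (.leaf 0x34347343423467432) (.leaf 0x343475423467432))) (.node 2 (.node 1 (.leaf 0x643474341234623432) (.leaf 0x723434623434123432)) (.node 1 (.leaf 0x5346234234753432) (.leaf 0x343464234234723432)))) (.node 4 (.node 2 (.node 1 (.leaf 0x5472345234723432) (.leaf 0x47346234347123432)) (.node 1 (.leaf 0x7543423476423432) (.leaf 0x46547643423467432))) (.node 2 (.node 1 (.leaf 0x54347543423465432) (.leaf 0x42347454234723432)) (.node 1 (.leaf 0x542347454234723432) (.leaf 0x764534734123463432)))))) (.node 16 (.node 8 (.node 4 (.node 2 (.node 1 (.leaf 0x47341234347423432) (.leaf 0x453434234653432)) (.node 1 (.leaf 0x7647342347123432) (.leaf 0x34623473423476432))) (.node 2 (.node 1 (.leaf 0x734653423463432) (.leaf 0x465412346342346423432)) (.node 1 (.leaf 0x54234754123432) (.leaf 0x4347234342347346423432)))) (.node 4 (.node 2 (.node 1 (.leaf 0x3423463452343423432)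 (.leaf 0x734234754123432)) (.node 1 (.leaf 0x4745346341234623432) (.leaf 0x67234634234723432))) (.node 2 (.node 1 (.leaf 0x423473453423463432) (.leaf 0x6342347343423473432)) (.node 1 (.leaf 0x634534234723432) (.leaf 0x62347234123476432))))) (.node 8 (.node 4 (.node 2 (.node 1 (.leaf 0x6345346342346423432) (.leaf 0x7453434123463432)) (.node 1 (.leaf 0x7612347343423432) (.leaf 0x623474643423467432))) (.node 2 (.node 1 (.leaf 0x723434753423432) (.leaf 0x74234734234654123432)) (.node 1 (.leaf 0x476434123476432) (.leaf 0x543452347643432)))) (.node 4 (.node 2 (.node 1 (.leaf 0x73423463434123463432) (.leaf 0x547234634234623432)) (.node 1 (.leaf 0x746542342346423432) (.leaf 0x523473434234623432))) (.node 2 (.node 1 (.leaf 0x34734634234723432) (.leaf 0x74534734123463432)) (.node 1 (.leaf 0x347434234764123432) (.leaf 0x45342346123432))))))) (.node 32 (.node 16 (.node 8 (.node 4 (.node 2 (.node 1 (.leaf 0x4343465423476432) (.leaf 0x45346341234723432))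 (.node 1 (.leaf 0x3473463434123463432) (.leaf 0x7346543423476432))) (.node 2 (.node 1 (.leaf 0x5434634234234623432) (.leaf 0x5475346341234723432)) (.node 1 (.leaf 0x6347643423467432) (.leaf 0x64234723463423467432)))) (.node 4 (.node 2 (.node 1 (.leaf 0x6473462343423432) (.leaf 0x23473434523463432)) (.node 1 (.leaf 0x34745342346423432) (.leaf 0x34347542346123432))) (.node 2 (.node 1 (.leaf 0x6342343423463432) (.leaf 0x674234653423476432)) (.node 1 (.leaf 0x4754234123476432) (.leaf 0x47434123467432))))) (.node 8 (.node 4 (.node 2 (.node 1 (.leaf 0x634342347423432) (.leaf 0x473454234623432)) (.node 1 (.leaf 0x4764234123476432) (.leaf 0x43462343475432))) (.node 2 (.node 1 (.leaf 0x475434123467432) (.leaf 0x4734123467432)) (.node 1 (.leaf 0x342346454234623432) (.leaf 0x6423465342346423432)))) (.node 4 (.node 2 (.node 1 (.leaf 0x67434623475434123432) (.leaf 0x4234753434523473432)) (.node 1 (.leaf 0x54743423463423432) (.leaf 0x6453473423467432)))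 (.node 2 (.node 1 (.leaf 0x7465434234634123432) (.leaf 0x54734234234723432)) (.node 1 (.leaf 0x763434723467432) (.leaf 0x547641234234753432)))))) (.node 16 (.node 8 (.node 4 (.node 2 (.node 1 (.leaf 0x4745234234723432) (.leaf 0x5434743423463423432)) (.node 1 (.leaf 0x47434234347423432) (.leaf 0x654234234234623432))) (.node 2 (.node 1 (.leaf 0x47543423467432) (.leaf 0x47453423467432)) (.node 1 (.leaf 0x4734234623432) (.leaf 0x6453434234743432)))) (.node 4 (.node 2 (.node 1 (.leaf 0x4623434523473432) (.leaf 0x46345434234753432)) (.node 1 (.leaf 0x612343472343423432) (.leaf 0x347643412346423432))) (.node 2 (.node 1 (.leaf 0x6534345423463432) (.leaf 0x6746743423473432)) (.node 1 (.leaf 0x34723465342346423432) (.leaf 0x5234643412346423432))))) (.node 8 (.node 4 (.node 2 (.node 1 (.leaf 0x34634723434623432) (.leaf 0x3465234234623432)) (.node 1 (.leaf 0x7645234623432) (.leaf 0x2343423412346423432))) (.node 2 (.node 1 (.leaf 0x34534123476432)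 (.leaf 0x7234623434234623432)) (.node 1 (.leaf 0x5434643452346423432) (.leaf 0x34612342346423432)))) (.node 4 (.node 2 (.node 1 (.leaf 0x346347423432) (.leaf 0x347523463423463432)) (.node 1 (.leaf 0x34712343423473432) (.leaf 0x7434764712343423432))) (.node 2 (.node 1 (.leaf 0x74234234734234723432) (.leaf 0x65342346345234623432)) (.node 1 (.leaf 0x234342342346423432) (.leaf 0x434634345423463432)))))))

def classATree_73 : Tree :=
  .node 64 (.node 32 (.node 16 (.node 8 (.node 4 (.node 2 (.node 1 (.leaf 0x23467463423473432) (.leaf 0x7346347342347423432)) (.node 1 (.leaf 0x4743423432) (.leaf 0x76453423473432))) (.node 2 (.node 1 (.leaf 0x34234234123476432) (.leaf 0x5412346343423473432)) (.node 1 (.leaf 0x23434234634123473432) (.leaf 0x347643463423473432)))) (.node 4 (.node 2 (.node 1 (.leaf 0x53423463423464123432) (.leaf 0x5342346341234623432)) (.node 1 (.leaf 0x645347643423473432) (.leaf 0x474234634234643432))) (.node 2 (.node 1 (.leaf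 0x23463423463432) (.leaf 0x434734345423473432)) (.node 1 (.leaf 0x6347346342346423432) (.leaf 0x4742342347123432))))) (.node 8 (.node 4 (.node 2 (.node 1 (.leaf 0x23434234753432) (.leaf 0x745346342346423432)) (.node 1 (.leaf 0x3434763434234723432) (.leaf 0x23423423423475432))) (.node 2 (.node 1 (.leaf 0x434645343423473432) (.leaf 0x23434647423432)) (.node 1 (.leaf 0x5434634234643432) (.leaf 0x23476473423463432)))) (.node 4 (.node 2 (.node 1 (.leaf 0x2343423432) (.leaf 0x34534634234623432)) (.node 1 (.leaf 0x6234534712343423432) (.leaf 0x34534712343423432))) (.node 2 (.node 1 (.leaf 0x47434234634123432) (.leaf 0x434674234234723432)) (.node 1 (.leaf 0x7234346741234623432) (.leaf 0x42347642346123432)))))) (.node 16 (.node 8 (.node 4 (.node 2 (.node 1 (.leaf 0x652343472343423432) (.leaf 0x534764342346423432)) (.node 1 (.leaf 0x74654734123463432) (.leaf 0x2345341234623432))) (.node 2 (.node 1 (.leaf 0x54712342347123432) (.leaf 0x4543423463423432))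 (.node 1 (.leaf 0x543476473423467432) (.leaf 0x6743476473423463432)))) (.node 4 (.node 2 (.node 1 (.leaf 0x5471234634234643432) (.leaf 0x2346412343423463432)) (.node 1 (.leaf 0x23476434523473432) (.leaf 0x743472343423463432))) (.node 2 (.node 1 (.leaf 0x6542346123432) (.leaf 0x753462342346423432)) (.node 1 (.leaf 0x6547346423432) (.leaf 0x7423434643423463432))))) (.node 8 (.node 4 (.node 2 (.node 1 (.leaf 0x454346743423476432) (.leaf 0x73452343423467432)) (.node 1 (.leaf 0x2342346123434123432) (.leaf 0x743463423474123432))) (.node 2 (.node 1 (.leaf 0x6434734345423473432) (.leaf 0x647623434123432)) (.node 1 (.leaf 0x34523434234653432) (.leaf 0x723453423432)))) (.node 4 (.node 2 (.node 1 (.leaf 0x2347643423473432) (.leaf 0x3434234123463423432)) (.node 1 (.leaf 0x534734653423463432) (.leaf 0x543476472343423432))) (.node 2 (.node 1 (.leaf 0x343473453423463432) (.leaf 0x5473467434234643432)) (.node 1 (.leaf 0x73412346341234623432) (.leaf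 0x67434346542346123432))))))) (.node 32 (.node 16 (.node 8 (.node 4 (.node 2 (.node 1 (.leaf 0x47434347542346123432) (.leaf 0x654234123473432)) (.node 1 (.leaf 0x54734123432) (.leaf 0x453434634234623432))) (.node 2 (.node 1 (.leaf 0x7234534234753432) (.leaf 0x7234653423463432)) (.node 1 (.leaf 0x46347534634234623432) (.leaf 0x74634346542347123432)))) (.node 4 (.node 2 (.node 1 (.leaf 0x734543472343423432) (.leaf 0x12342347343423463432)) (.node 1 (.leaf 0x6743434234346423432) (.leaf 0x734543423476432))) (.node 2 (.node 1 (.leaf 0x347645343423463432) (.leaf 0x23434234634234753432)) (.node 1 (.leaf 0x34123473434123463432) (.leaf 0x734123463423464123432))))) (.node 8 (.node 4 (.node 2 (.node 1 (.leaf 0x54347643423476432) (.leaf 0x341234234234753432)) (.node 1 (.leaf 0x742346343423473432) (.leaf 0x7343463423463432))) (.node 2 (.node 1 (.leaf 0x67453423473423432) (.leaf 0x4343475423476432)) (.node 1 (.leaf 0x74674634123463432) (.leaf 0x634534234653432))))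 (.node 4 (.node 2 (.node 1 (.leaf 0x64523434634234623432) (.leaf 0x723463434234723432)) (.node 1 (.leaf 0x623434712343423432) (.leaf 0x4534234643423467432))) (.node 2 (.node 1 (.leaf 0x473463423463432) (.leaf 0x743423473432)) (.node 1 (.leaf 0x4674634123463432) (.leaf 0x7634534234653432)))))) (.node 16 (.node 8 (.node 4 (.node 2 (.node 1 (.leaf 0x6543463432) (.leaf 0x5343473423465432)) (.node 1 (.leaf 0x7543432) (.leaf 0x347453434623476432))) (.node 2 (.node 1 (.leaf 0x6743474543423463432) (.leaf 0x4754345423463432)) (.node 1 (.leaf 0x65434634123432) (.leaf 0x47453423475423432)))) (.node 4 (.node 2 (.node 1 (.leaf 0x62343423463432) (.leaf 0x75434734234723432)) (.node 1 (.leaf 0x764764342347423432) (.leaf 0x73434674234623432))) (.node 2 (.node 1 (.leaf 0x752346543423473432) (.leaf 0x6523473423463432)) (.node 1 (.leaf 0x7434764123432) (.leaf 0x74347645234623432))))) (.node 8 (.node 4 (.node 2 (.node 1 (.leaf 0x6123434123476432) (.leaf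 0x6547234623434723432)) (.node 1 (.leaf 0x75434347423432) (.leaf 0x1234342341234623432))) (.node 2 (.node 1 (.leaf 0x7534347123432) (.leaf 0x347345346423432)) (.node 1 (.leaf 0x72343474346423432) (.leaf 0x64345234234653432)))) (.node 4 (.node 2 (.node 1 (.leaf 0x4734234712343423432) (.leaf 0x653423462343423432)) (.node 1 (.leaf 0x67345347342347123432) (.leaf 0x534752343423467432))) (.node 2 (.node 1 (.leaf 0x654347542346123432) (.leaf 0x75434734234653432)) (.node 1 (.leaf 0x62343423463423432) (.leaf 0x4347634534234623432)))))))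

def classATree_74 : Tree :=
  .node 64 (.node 32 (.node 16 (.node 8 (.node 4 (.node 2 (.node 1 (.leaf 0x434647453423467432) (.leaf 0x743453463423432)) (.node 1 (.leaf 0x46523434234723432) (.leaf 0x7543473423463432))) (.node 2 (.node 1 (.leaf 0x754347342347123432) (.leaf 0x75434623432)) (.node 1 (.leaf 0x434234734234653432) (.leaf 0x434234234623432)))) (.node 4 (.node 2 (.node 1 (.leaf 0x754343423463432) (.leaf 0x343476343423432)) (.node 1 (.leaf 0x4712343423473432) (.leaf 0x4654762343423432))) (.node 2 (.node 1 (.leaf 0x6543476423464123432) (.leaf 0x4654346345234623432)) (.node 1 (.leaf 0x75343423476423432) (.leaf 0x534746434123476432))))) (.node 8 (.node 4 (.node 2 (.node 1 (.leaf 0x234645434623432) (.leaf 0x46543423475432)) (.node 1 (.leaf 0x7463423474543423432) (.leaf 0x54234734123463432))) (.node 2 (.node 1 (.leaf 0x542347345234723432) (.leaf 0x6547343423463432)) (.node 1 (.leaf 0x43434234346423432) (.leaf 0x623412346342346123432))))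 (.node 4 (.node 2 (.node 1 (.leaf 0x6423452343464123432) (.leaf 0x6452342347123432)) (.node 1 (.leaf 0x454234674342347123432) (.leaf 0x346743423467453432))) (.node 2 (.node 1 (.leaf 0x673452346342346123432) (.leaf 0x723434723467432)) (.node 1 (.leaf 0x74654234123473432) (.leaf 0x76347343423473432)))))) (.node 16 (.node 8 (.node 4 (.node 2 (.node 1 (.leaf 0x634764342346423432) (.leaf 0x474346723434123432)) (.node 1 (.leaf 0x6434734543423473432) (.leaf 0x54234734123432))) (.node 2 (.node 1 (.leaf 0x75434634523475423432) (.leaf 0x2346347234234123432)) (.node 1 (.leaf 0x7346454234234653432) (.leaf 0x7234234234653432)))) (.node 4 (.node 2 (.node 1 (.leaf 0x412347343423467432) (.leaf 0x234234634234623432)) (.node 1 (.leaf 0x764753434234623432) (.leaf 0x7463423473432))) (.node 2 (.node 1 (.leaf 0x46234234234753432) (.leaf 0x4345234346123432)) (.node 1 (.leaf 0x746347542346123432) (.leaf 0x4634234234753432))))) (.node 8 (.node 4 (.node 2 (.node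 1 (.leaf 0x64346542347123432) (.leaf 0x7463475412346423432)) (.node 1 (.leaf 0x453473434234753432) (.leaf 0x74234674123432))) (.node 2 (.node 1 (.leaf 0x74534612343423432) (.leaf 0x74674343423463432)) (.node 1 (.leaf 0x4672346343423463432) (.leaf 0x64543463423473432)))) (.node 4 (.node 2 (.node 1 (.leaf 0x43474623434123432) (.leaf 0x45423467434234653432)) (.node 1 (.leaf 0x465234347462343423432) (.leaf 0x54623473452343423432))) (.node 2 (.node 1 (.leaf 0x471234234723432) (.leaf 0x2347434234653432)) (.node 1 (.leaf 0x7465434623434123432) (.leaf 0x746343472343423432))))))) (.node 32 (.node 16 (.node 8 (.node 4 (.node 2 (.node 1 (.leaf 0x72346542346423432) (.leaf 0x5434753423465432)) (.node 1 (.leaf 0x3452346543423432) (.leaf 0x4543423465432))) (.node 2 (.node 1 (.leaf 0x754634723465432) (.leaf 0x3464543432)) (.node 1 (.leaf 0x64745346342346123432) (.leaf 0x546347343423473432)))) (.node 4 (.node 2 (.node 1 (.leaf 0x612342347123432) (.leaf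 0x3453475423432)) (.node 1 (.leaf 0x734542343423463432) (.leaf 0x471234234623432))) (.node 2 (.node 1 (.leaf 0x7345423473423463432) (.leaf 0x4734123432)) (.node 1 (.leaf 0x64234123473432) (.leaf 0x45343475423432))))) (.node 8 (.node 4 (.node 2 (.node 1 (.leaf 0x534764234623432) (.leaf 0x45234764234623432)) (.node 1 (.leaf 0x54723462343423432) (.leaf 0x6541234234723432))) (.node 2 (.node 1 (.leaf 0x65473462343423432) (.leaf 0x47345234634234623432)) (.node 1 (.leaf 0x54234347423432) (.leaf 0x343462343475423432)))) (.node 4 (.node 2 (.node 1 (.leaf 0x23463434754234623432) (.leaf 0x7345234347123432)) (.node 1 (.leaf 0x45234234523463432) (.leaf 0x3463423465423432))) (.node 2 (.node 1 (.leaf 0x742347343423467432) (.leaf 0x734523476434123476432)) (.node 1 (.leaf 0x46543423476453432) (.leaf 0x34523465423432)))))) (.node 16 (.node 8 (.node 4 (.node 2 (.node 1 (.leaf 0x61234234523463432) (.leaf 0x75423464123432)) (.node 1 (.leaf 0x6347546342346423432)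 (.leaf 0x753462343423432))) (.node 2 (.node 1 (.leaf 0x1234734634234643432) (.leaf 0x341234623453423476432)) (.node 1 (.leaf 0x123423465423432) (.leaf 0x434764234623432)))) (.node 4 (.node 2 (.node 1 (.leaf 0x41234347462343423432) (.leaf 0x7534672343423432)) (.node 1 (.leaf 0x6234523465423432) (.leaf 0x34634534123476432))) (.node 2 (.node 1 (.leaf 0x45234234753432) (.leaf 0x34634523475423432)) (.node 1 (.leaf 0x345234634123432) (.leaf 0x542345234723432))))) (.node 8 (.node 4 (.node 2 (.node 1 (.leaf 0x74674534234653432) (.leaf 0x463476434234723432)) (.node 1 (.leaf 0x723463434623476432) (.leaf 0x2346541234234653432))) (.node 2 (.node 1 (.leaf 0x7453434723465432) (.leaf 0x234346543474123432)) (.node 1 (.leaf 0x43423464543423432) (.leaf 0x542347534623453423432)))) (.node 4 (.node 2 (.node 1 (.leaf 0x76434743423463432) (.leaf 0x76345342346123432)) (.node 1 (.leaf 0x423475423432) (.leaf 0x6734523473423463432))) (.node 2 (.node 1 (.leaf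 0x723412346345234623432) (.leaf 0x43475423464123432)) (.node 1 (.leaf 0x76412347342347123432) (.leaf 0x723463452343423432)))))))

def classATree_75 : Tree :=
  .node 64 (.node 32 (.node 16 (.node 8 (.node 4 (.node 2 (.node 1 (.leaf 0x1234534634234723432) (.leaf 0x75346743423473432)) (.node 1 (.leaf 0x4745346345234623432) (.leaf 0x63474643423476432))) (.node 2 (.node 1 (.leaf 0x46123434723467432) (.leaf 0x3465347343423473432)) (.node 1 (.leaf 0x54234123473432) (.leaf 0x453423473432)))) (.node 4 (.node 2 (.node 1 (.leaf 0x4234234654123432) (.leaf 0x434234654123432)) (.node 1 (.leaf 0x54347454234623432) (.leaf 0x4754342345346123432))) (.node 2 (.node 1 (.leaf 0x4347542346123432) (.leaf 0x763423463423473432)) (.node 1 (.leaf 0x54623434723467432) (.leaf 0x72342346342346123432))))) (.node 8 (.node 4 (.node 2 (.node 1 (.leaf 0x7647342347423432) (.leaf 0x434612343423432)) (.node 1 (.leaf 0x64754234234723432) (.leaf 0x2343423453465423432)))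 (.node 2 (.node 1 (.leaf 0x7647534634234723432) (.leaf 0x763476434123476432)) (.node 1 (.leaf 0x67343454234623432) (.leaf 0x64743412347423432)))) (.node 4 (.node 2 (.node 1 (.leaf 0x1234347454234623432) (.leaf 0x4346541234234653432)) (.node 1 (.leaf 0x45234234234653432) (.leaf 0x4723463434123463432))) (.node 2 (.node 1 (.leaf 0x674347434123463432) (.leaf 0x5434623476432)) (.node 1 (.leaf 0x54745346342346123432) (.leaf 0x423434643423473432)))))) (.node 16 (.node 8 (.node 4 (.node 2 (.node 1 (.leaf 0x46742341234723432) (.leaf 0x543462343423432)) (.node 1 (.leaf 0x345434723434123432) (.leaf 0x4523423465423432))) (.node 2 (.node 1 (.leaf 0x7234645434623432) (.leaf 0x746543423475432)) (.node 1 (.leaf 0x463423474543423432) (.leaf 0x46743473423463432)))) (.node 4 (.node 2 (.node 1 (.leaf 0x7542347345234723432) (.leaf 0x6474343423463432)) (.node 1 (.leaf 0x7346743423467453432) (.leaf 0x6347343423473432))) (.node 2 (.node 1 (.leaf 0x4674346534234623432)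 (.leaf 0x5434634523475423432)) (.node 1 (.leaf 0x623473434234723432) (.leaf 0x743434234346423432))))) (.node 8 (.node 4 (.node 2 (.node 1 (.leaf 0x53412347343423463432) (.leaf 0x6743465342347123432)) (.node 1 (.leaf 0x76452342347123432) (.leaf 0x46234346454234723432))) (.node 2 (.node 1 (.leaf 0x4234674123432) (.leaf 0x463473434523463432)) (.node 1 (.leaf 0x54752346343423463432) (.leaf 0x463475412346423432)))) (.node 4 (.node 2 (.node 1 (.leaf 0x23434723467432) (.leaf 0x64753434234623432)) (.node 1 (.leaf 0x4654234123473432) (.leaf 0x46234234523463432))) (.node 2 (.node 1 (.leaf 0x3464345342347123432) (.leaf 0x463423473432)) (.node 1 (.leaf 0x46347542346123432) (.leaf 0x47534672343423432))))))) (.node 32 (.node 16 (.node 8 (.node 4 (.node 2 (.node 1 (.leaf 0x74345234346123432) (.leaf 0x4653423465423432)) (.node 1 (.leaf 0x764346542347123432) (.leaf 0x6547346723434123432))) (.node 2 (.node 1 (.leaf 0x7234234634234623432) (.leaf 0x47346723434123432))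 (.node 1 (.leaf 0x754234734123432) (.leaf 0x234234234653432)))) (.node 4 (.node 2 (.node 1 (.leaf 0x346454234234653432) (.leaf 0x464234347542346123432)) (.node 1 (.leaf 0x52343464543423473432) (.leaf 0x2346453473423463432))) (.node 2 (.node 1 (.leaf 0x67453463423473432) (.leaf 0x465434623434123432)) (.node 1 (.leaf 0x46343472343423432) (.leaf 0x4534612343423432))))) (.node 8 (.node 4 (.node 2 (.node 1 (.leaf 0x4674343423463432) (.leaf 0x754623473452343423432)) (.node 1 (.leaf 0x4741234234723432) (.leaf 0x234734234653432))) (.node 2 (.node 1 (.leaf 0x23475463423463432) (.leaf 0x453423475432)) (.node 1 (.leaf 0x2347543423432) (.leaf 0x2347234234234723432)))) (.node 4 (.node 2 (.node 1 (.leaf 0x67434634123473432) (.leaf 0x6475343423463432)) (.node 1 (.leaf 0x434742346342346123432) (.leaf 0x23453423423475432))) (.node 2 (.node 1 (.leaf 0x4342346343423463432) (.leaf 0x347343473423463432)) (.node 1 (.leaf 0x634523434623432) (.leaf 0x54234234234753432))))))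 (.node 16 (.node 8 (.node 4 (.node 2 (.node 1 (.leaf 0x5434234234753432) (.leaf 0x734654234723432)) (.node 1 (.leaf 0x5467453423463432) (.leaf 0x346454234723432))) (.node 2 (.node 1 (.leaf 0x62342347123432) (.leaf 0x34234643423453423432)) (.node 1 (.leaf 0x34234643423467432) (.leaf 0x346534723453423432)))) (.node 4 (.node 2 (.node 1 (.leaf 0x734642347342347423432) (.leaf 0x234234523473432)) (.node 1 (.leaf 0x234754234234753432) (.leaf 0x2347453423432))) (.node 2 (.node 1 (.leaf 0x74674234123463432) (.leaf 0x52346742347123432)) (.node 1 (.leaf 0x46742346534234623432) (.leaf 0x23473423432))))) (.node 8 (.node 4 (.node 2 (.node 1 (.leaf 0x434634234234623432) (.leaf 0x643463423473432)) (.node 1 (.leaf 0x5472346343423463432) (.leaf 0x734654345423473432))) (.node 2 (.node 1 (.leaf 0x234523475423432) (.leaf 0x473423463423467432)) (.node 1 (.leaf 0x634542347343423463432) (.leaf 0x72341234234753432)))) (.node 4 (.node 2 (.node 1 (.leaf 0x643452347423432)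 (.leaf 0x46123472343423432)) (.node 1 (.leaf 0x2343423473432) (.leaf 0x647453434123463432))) (.node 2 (.node 1 (.leaf 0x643462342346123432) (.leaf 0x234734634234643432)) (.node 1 (.leaf 0x634762343423432) (.leaf 0x34654723453423432)))))))

def classATree_76 : Tree :=
  .node 64 (.node 32 (.node 16 (.node 8 (.node 4 (.node 2 (.node 1 (.leaf 0x342346453423432) (.leaf 0x4523474345234723432)) (.node 1 (.leaf 0x754623472343423432) (.leaf 0x534645434234753432))) (.node 2 (.node 1 (.leaf 0x34643432) (.leaf 0x4634347423465432)) (.node 1 (.leaf 0x464743432) (.leaf 0x653475434123463432)))) (.node 4 (.node 2 (.node 1 (.leaf 0x346434123432) (.leaf 0x47464734234653432)) (.node 1 (.leaf 0x73434123473423432) (.leaf 0x346343423476432))) (.node 2 (.node 1 (.leaf 0x453423453423473432) (.leaf 0x34634764234623432)) (.node 1 (.leaf 0x7123434723434123432) (.leaf 0x547453434123432))))) (.node 8 (.node 4 (.node 2 (.node 1 (.leaf 0x74674534623432) (.leaf 0x3464523434123476432))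 (.node 1 (.leaf 0x3434754612343423432) (.leaf 0x346343423467432))) (.node 2 (.node 1 (.leaf 0x53463423432) (.leaf 0x3463423432)) (.node 1 (.leaf 0x4534234523463432) (.leaf 0x6347542346123432)))) (.node 4 (.node 2 (.node 1 (.leaf 0x1234347123434123432) (.leaf 0x434764234523473432)) (.node 1 (.leaf 0x3463453423432) (.leaf 0x63434643423473432))) (.node 2 (.node 1 (.leaf 0x764234734123463432) (.leaf 0x6534754346423432)) (.node 1 (.leaf 0x523473434623432) (.leaf 0x6452343423463432)))))) (.node 16 (.node 8 (.node 4 (.node 2 (.node 1 (.leaf 0x3464341234623432) (.leaf 0x346343423432)) (.node 1 (.leaf 0x6347641234623432) (.leaf 0x346342343423463432))) (.node 2 (.node 1 (.leaf 0x547345342347423432) (.leaf 0x67234623434723432)) (.node 1 (.leaf 0x64234534123476432) (.leaf 0x7534652343423432)))) (.node 4 (.node 2 (.node 1 (.leaf 0x6423473423463432) (.leaf 0x4645434234234623432)) (.node 1 (.leaf 0x46474343423463432) (.leaf 0x534341234347423432)))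 (.node 2 (.node 1 (.leaf 0x53463423473423432) (.leaf 0x2346234347123432)) (.node 1 (.leaf 0x63476423464123432) (.leaf 0x346234234123432))))) (.node 8 (.node 4 (.node 2 (.node 1 (.leaf 0x4543464345234623432) (.leaf 0x346434534123476432)) (.node 1 (.leaf 0x5472343423432) (.leaf 0x34123463423432))) (.node 2 (.node 1 (.leaf 0x4734234347423432) (.leaf 0x674234234234623432)) (.node 1 (.leaf 0x43476432) (.leaf 0x52343423476432)))) (.node 4 (.node 2 (.node 1 (.leaf 0x654753423465432) (.leaf 0x63453476432)) (.node 1 (.leaf 0x743452347643423432) (.leaf 0x4534347423465432))) (.node 2 (.node 1 (.leaf 0x7434723465432) (.leaf 0x7642346454234623432)) (.node 1 (.leaf 0x6453465341234623432) (.leaf 0x3464342346123432))))))) (.node 32 (.node 16 (.node 8 (.node 4 (.node 2 (.node 1 (.leaf 0x47423463423467432) (.leaf 0x474123463423467432)) (.node 1 (.leaf 0x3474643423473432) (.leaf 0x3453423432))) (.node 2 (.node 1 (.leaf 0x345234234753432) (.leaf 0x41234674342347123432))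 (.node 1 (.leaf 0x34534234347423432) (.leaf 0x3453423463423432)))) (.node 4 (.node 2 (.node 1 (.leaf 0x642347342347123432) (.leaf 0x45423472343423432)) (.node 1 (.leaf 0x123463423467432) (.leaf 0x534234764534234753432))) (.node 2 (.node 1 (.leaf 0x65423434234743432) (.leaf 0x12346343423432)) (.node 1 (.leaf 0x453475343423473432) (.leaf 0x45343423476453432))))) (.node 8 (.node 4 (.node 2 (.node 1 (.leaf 0x453423463423467432) (.leaf 0x742346123432)) (.node 1 (.leaf 0x64234342347346423432) (.leaf 0x123434643423463432))) (.node 2 (.node 1 (.leaf 0x345434712343423432) (.leaf 0x76434234534723432)) (.node 1 (.leaf 0x346743475423467432) (.leaf 0x45423473423476432)))) (.node 4 (.node 2 (.node 1 (.leaf 0x7464347642346423432) (.leaf 0x46453434123432)) (.node 1 (.leaf 0x612347345234723432) (.leaf 0x76434623434123432))) (.node 2 (.node 1 (.leaf 0x45423463423467432) (.leaf 0x345342346342346123432)) (.node 1 (.leaf 0x47423434234643432) (.leaf 0x654234123432))))))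 (.node 16 (.node 8 (.node 4 (.node 2 (.node 1 (.leaf 0x5464234123463432) (.leaf 0x634534764234623432)) (.node 1 (.leaf 0x345234234723432) (.leaf 0x6547643423476453432))) (.node 2 (.node 1 (.leaf 0x612347234234623432) (.leaf 0x453462342346123432)) (.node 1 (.leaf 0x3434234534623432) (.leaf 0x4647412342347123432)))) (.node 4 (.node 2 (.node 1 (.leaf 0x465476434234653432) (.leaf 0x4123473423476432)) (.node 1 (.leaf 0x6453434723467432) (.leaf 0x47543475423467432))) (.node 2 (.node 1 (.leaf 0x434234234643432) (.leaf 0x42346343463423432)) (.node 1 (.leaf 0x743452347543423432) (.leaf 0x4742346343423463432))))) (.node 8 (.node 4 (.node 2 (.node 1 (.leaf 0x5434743423463432) (.leaf 0x64343423463432)) (.node 1 (.leaf 0x745423475423432) (.leaf 0x23463423453423432))) (.node 2 (.node 1 (.leaf 0x7343472343423432) (.leaf 0x473434764234723432)) (.node 1 (.leaf 0x23412346342346123432) (.leaf 0x547346534234623432)))) (.node 4 (.node 2 (.node 1 (.leaf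 0x7434123473432) (.leaf 0x547434672343423432)) (.node 1 (.leaf 0x42346453423467432) (.leaf 0x3423463423464123432))) (.node 2 (.node 1 (.leaf 0x7454346123434123432) (.leaf 0x547343423463432)) (.node 1 (.leaf 0x46543475423476432) (.leaf 0x423453423473423432)))))))

def classATree_77 : Tree :=
  .node 64 (.node 32 (.node 16 (.node 8 (.node 4 (.node 2 (.node 1 (.leaf 0x6542347345234723432) (.leaf 0x634234634123473432)) (.node 1 (.leaf 0x234347534234723432) (.leaf 0x43463434234743432))) (.node 2 (.node 1 (.leaf 0x71234347542346123432) (.leaf 0x73434654234723432)) (.node 1 (.leaf 0x475434523434623432) (.leaf 0x7453434723467432)))) (.node 4 (.node 2 (.node 1 (.leaf 0x754347542346123432) (.leaf 0x7543423473432)) (.node 1 (.leaf 0x74347454234623432) (.leaf 0x54346234234623432))) (.node 2 (.node 1 (.leaf 0x723423452343464123432) (.leaf 0x64342342347123432)) (.node 1 (.leaf 0x43461234234623432) (.leaf 0x72343452343465423432))))) (.node 8 (.node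 4 (.node 2 (.node 1 (.leaf 0x4347434123463432) (.leaf 0x52347234234234723432)) (.node 1 (.leaf 0x74234754123432) (.leaf 0x2345347345234723432))) (.node 2 (.node 1 (.leaf 0x653434234623432) (.leaf 0x3467453423473432)) (.node 1 (.leaf 0x74347542346423432) (.leaf 0x74534623434123432)))) (.node 4 (.node 2 (.node 1 (.leaf 0x473434123463432) (.leaf 0x74234523465423432)) (.node 1 (.leaf 0x4343475423467432) (.leaf 0x6412347345234723432))) (.node 2 (.node 1 (.leaf 0x5434623453476432) (.leaf 0x543463434123467432)) (.node 1 (.leaf 0x46543476432) (.leaf 0x462343423476432)))))) (.node 16 (.node 8 (.node 4 (.node 2 (.node 1 (.leaf 0x47452346543423463432) (.leaf 0x76434234123463432)) (.node 1 (.leaf 0x5463423475432) (.leaf 0x4234754234123432))) (.node 2 (.node 1 (.leaf 0x2347434123476432) (.leaf 0x63473423463432)) (.node 1 (.leaf 0x742347342347123432) (.leaf 0x34645234234623432)))) (.node 4 (.node 2 (.node 1 (.leaf 0x2345347423453423432) (.leaf 0x64764734123463432))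 (.node 1 (.leaf 0x6452342346342346123432) (.leaf 0x723463423467432))) (.node 2 (.node 1 (.leaf 0x23461234234723432) (.leaf 0x347346712343423432)) (.node 1 (.leaf 0x7434754123476432) (.leaf 0x5346434234723432))))) (.node 8 (.node 4 (.node 2 (.node 1 (.leaf 0x65434234534623432) (.leaf 0x34342346234123432)) (.node 1 (.leaf 0x74673423453423432) (.leaf 0x4743452343423432))) (.node 2 (.node 1 (.leaf 0x67467453423473432) (.leaf 0x12346234234723432)) (.node 1 (.leaf 0x423452346423432) (.leaf 0x634341234346423432)))) (.node 4 (.node 2 (.node 1 (.leaf 0x642347343423473432) (.leaf 0x5464234234754123432)) (.node 1 (.leaf 0x7345347643423476432) (.leaf 0x4623473423463432))) (.node 2 (.node 1 (.leaf 0x462347342347123432) (.leaf 0x7647346341234723432)) (.node 1 (.leaf 0x423473423453423432) (.leaf 0x73463452343423432))))))) (.node 32 (.node 16 (.node 8 (.node 4 (.node 2 (.node 1 (.leaf 0x6342347423432) (.leaf 0x534346742347123432)) (.node 1 (.leaf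 0x54347643423463432) (.leaf 0x723434623432))) (.node 2 (.node 1 (.leaf 0x234534723434123432) (.leaf 0x45434764234723432)) (.node 1 (.leaf 0x2346523434623476432) (.leaf 0x65475234234723432)))) (.node 4 (.node 2 (.node 1 (.leaf 0x3452346343423473432) (.leaf 0x5343462342346423432)) (.node 1 (.leaf 0x54623434234723432) (.leaf 0x4234753423432))) (.node 2 (.node 1 (.leaf 0x474346534234623432) (.leaf 0x12343476423464123432)) (.node 1 (.leaf 0x76452347342347123432) (.leaf 0x6542345234723432))))) (.node 8 (.node 4 (.node 2 (.node 1 (.leaf 0x34342345347423432) (.leaf 0x47434523463432)) (.node 1 (.leaf 0x46234745434723432) (.leaf 0x6453464342346123432))) (.node 2 (.node 1 (.leaf 0x743452346543423432) (.leaf 0x745343423465432)) (.node 1 (.leaf 0x653412346345234623432) (.leaf 0x73434623476432)))) (.node 4 (.node 2 (.node 1 (.leaf 0x474234642342346423432) (.leaf 0x7534634534234653432)) (.node 1 (.leaf 0x63473412347423432) (.leaf 0x76453434234753432)))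 (.node 2 (.node 1 (.leaf 0x7623473423453423432) (.leaf 0x434754342346423432)) (.node 1 (.leaf 0x412346434234623432) (.leaf 0x734346472343423432)))))) (.node 16 (.node 8 (.node 4 (.node 2 (.node 1 (.leaf 0x7423473434234623432) (.leaf 0x734234654123432)) (.node 1 (.leaf 0x6342346345234623432) (.leaf 0x463412347643423467432))) (.node 2 (.node 1 (.leaf 0x3465423463423432) (.leaf 0x453473412347423432)) (.node 1 (.leaf 0x534753434123463432) (.leaf 0x23474234234123476432)))) (.node 4 (.node 2 (.node 1 (.leaf 0x753423475423432) (.leaf 0x734234623453423476432)) (.node 1 (.leaf 0x4654712343423432) (.leaf 0x67434653423476432))) (.node 2 (.node 1 (.leaf 0x76345343423473432) (.leaf 0x6434342347346423432)) (.node 1 (.leaf 0x753463434234753432) (.leaf 0x3464234234123432))))) (.node 8 (.node 4 (.node 2 (.node 1 (.leaf 0x6523472343423432) (.leaf 0x7434234123476432)) (.node 1 (.leaf 0x6123472343423432) (.leaf 0x454347342347423432))) (.node 2 (.node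 1 (.leaf 0x7634723434623432) (.leaf 0x7534346434234643432)) (.node 1 (.leaf 0x53464523434123432) (.leaf 0x472343465423432)))) (.node 4 (.node 2 (.node 1 (.leaf 0x73463434523473432) (.leaf 0x65347342347423432)) (.node 1 (.leaf 0x34723453475423432) (.leaf 0x7643467434234653432))) (.node 2 (.node 1 (.leaf 0x764723434623432) (.leaf 0x2347452343423467432)) (.node 1 (.leaf 0x3475343423463432) (.leaf 0x34534643423463432)))))))

def classATree_78 : Tree :=
  .node 64 (.node 32 (.node 16 (.node 8 (.node 4 (.node 2 (.node 1 (.leaf 0x72346742347123432) (.leaf 0x6434234234623432)) (.node 1 (.leaf 0x7434123463423432) (.leaf 0x434234234723432))) (.node 2 (.node 1 (.leaf 0x43452347543423432) (.leaf 0x23434654347423432)) (.node 1 (.leaf 0x7434234234643432) (.leaf 0x764343423463432)))) (.node 4 (.node 2 (.node 1 (.leaf 0x472346343423463432) (.leaf 0x75434743423463432)) (.node 1 (.leaf 0x45423475423432) (.leaf 0x473467434234643432))) (.node 2 (.node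 1 (.leaf 0x43412347342347423432) (.leaf 0x643473434123473432)) (.node 1 (.leaf 0x723463423453423432) (.leaf 0x234346343423473432))))) (.node 8 (.node 4 (.node 2 (.node 1 (.leaf 0x434123473432) (.leaf 0x43473434234653432)) (.node 1 (.leaf 0x343472343423432) (.leaf 0x454346123434123432))) (.node 2 (.node 1 (.leaf 0x5474343423463432) (.leaf 0x754346234234623432)) (.node 1 (.leaf 0x434654234234653432) (.leaf 0x54734672343423432)))) (.node 4 (.node 2 (.node 1 (.leaf 0x3434654234723432) (.leaf 0x4754345234346123432)) (.node 1 (.leaf 0x453434723467432) (.leaf 0x54347542346123432))) (.node 2 (.node 1 (.leaf 0x543423473432) (.leaf 0x4347454234623432)) (.node 1 (.leaf 0x47346712343423432) (.leaf 0x73423463423464123432)))))) (.node 16 (.node 8 (.node 4 (.node 2 (.node 1 (.leaf 0x2346453434234723432) (.leaf 0x543473434523463432)) (.node 1 (.leaf 0x54712346343423463432) (.leaf 0x74347434123463432))) (.node 2 (.node 1 (.leaf 0x41234234523463432)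 (.leaf 0x2343452343465423432)) (.node 1 (.leaf 0x743463434234743432) (.leaf 0x54234234523463432)))) (.node 4 (.node 2 (.node 1 (.leaf 0x473434234623432) (.leaf 0x1234347542346123432)) (.node 1 (.leaf 0x743461234234623432) (.leaf 0x673434234623432))) (.node 2 (.node 1 (.leaf 0x74343475423467432) (.leaf 0x76412347345234723432)) (.node 1 (.leaf 0x23423452343464123432) (.leaf 0x4674234234723432))))) (.node 8 (.node 4 (.node 2 (.node 1 (.leaf 0x4234523465423432) (.leaf 0x4234754123432)) (.node 1 (.leaf 0x4534623434123432) (.leaf 0x4347542346423432))) (.node 2 (.node 1 (.leaf 0x6434234654123432) (.leaf 0x47543423476453432)) (.node 1 (.leaf 0x4234234754123432) (.leaf 0x534634234234123432)))) (.node 4 (.node 2 (.node 1 (.leaf 0x34753423476423432) (.leaf 0x54634123463423432)) (.node 1 (.leaf 0x234754234123473432) (.leaf 0x5343423475432))) (.node 2 (.node 1 (.leaf 0x123475434123432) (.leaf 0x534643423453423432)) (.node 1 (.leaf 0x52346343423473432)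 (.leaf 0x5342347434123463432))))))) (.node 32 (.node 16 (.node 8 (.node 4 (.node 2 (.node 1 (.leaf 0x4634534734234623432) (.leaf 0x5434653423467432)) (.node 1 (.leaf 0x74342347342347123432) (.leaf 0x7343423463432))) (.node 2 (.node 1 (.leaf 0x434743463423473432) (.leaf 0x34654234612343423432)) (.node 1 (.leaf 0x74534234234653432) (.leaf 0x53434123463432)))) (.node 4 (.node 2 (.node 1 (.leaf 0x523463434623432) (.leaf 0x46454346342346423432)) (.node 1 (.leaf 0x5473463423476432) (.leaf 0x43473434523463432))) (.node 2 (.node 1 (.leaf 0x54754234634234623432) (.leaf 0x434347462343423432)) (.node 1 (.leaf 0x54753434523463432) (.leaf 0x5234752343423467432))))) (.node 8 (.node 4 (.node 2 (.node 1 (.leaf 0x4745346341234723432) (.leaf 0x23423462343423432)) (.node 1 (.leaf 0x47643465342346423432) (.leaf 0x234745434234753432))) (.node 2 (.node 1 (.leaf 0x4743423423475432) (.leaf 0x7543463472343423432)) (.node 1 (.leaf 0x43474343423473432) (.leaf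 0x434634712343423432)))) (.node 4 (.node 2 (.node 1 (.leaf 0x734645342346423432) (.leaf 0x12347452343423467432)) (.node 1 (.leaf 0x547534634234723432) (.leaf 0x5234347534234723432))) (.node 2 (.node 1 (.leaf 0x47453434234653432) (.leaf 0x47343423467423432)) (.node 1 (.leaf 0x52346342346423432) (.leaf 0x434743452347423432)))))) (.node 16 (.node 8 (.node 4 (.node 2 (.node 1 (.leaf 0x734342346345234623432) (.leaf 0x543412347342347123432)) (.node 1 (.leaf 0x7346347542346423432) (.leaf 0x534723434123463432))) (.node 2 (.node 1 (.leaf 0x5343412346345234623432) (.leaf 0x42347643423463432)) (.node 1 (.leaf 0x642345346123432) (.leaf 0x523434753423432)))) (.node 4 (.node 2 (.node 1 (.leaf 0x54642347342347123432) (.leaf 0x46434234234653432)) (.node 1 (.leaf 0x473465342346423432) (.leaf 0x653473452347423432))) (.node 2 (.node 1 (.leaf 0x2346542346123432) (.leaf 0x6234346342346123432)) (.node 1 (.leaf 0x34234654234123432) (.leaf 0x647423463423464123432)))))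 (.node 8 (.node 4 (.node 2 (.node 1 (.leaf 0x465476434123463432) (.leaf 0x4523434523473432)) (.node 1 (.leaf 0x74543432) (.leaf 0x34764234234743432))) (.node 2 (.node 1 (.leaf 0x46543463432) (.leaf 0x6743463423432)) (.node 1 (.leaf 0x475434234653432) (.leaf 0x6745347543423463432)))) (.node 4 (.node 2 (.node 1 (.leaf 0x623434123463432) (.leaf 0x6454342345347423432)) (.node 1 (.leaf 0x64534234234653432) (.leaf 0x74534764234623432))) (.node 2 (.node 1 (.leaf 0x7345346342346423432) (.leaf 0x7454347534234723432)) (.node 1 (.leaf 0x65234734123463432) (.leaf 0x74543463423473432)))))))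

def classATree_79 : Tree :=
  .node 64 (.node 32 (.node 16 (.node 8 (.node 4 (.node 2 (.node 1 (.leaf 0x654347454234623432) (.leaf 0x343474346423432)) (.node 1 (.leaf 0x23474345346423432) (.leaf 0x7343454234623432))) (.node 2 (.node 1 (.leaf 0x73453463423473432) (.leaf 0x475434734234723432)) (.node 1 (.leaf 0x612343423476432) (.leaf 0x623434123463423432)))) (.node 4 (.node 2 (.node 1 (.leaf 0x473434654123432) (.leaf 0x73453463423464123432)) (.node 1 (.leaf 0x7454346123432) (.leaf 0x734653473423467432))) (.node 2 (.node 1 (.leaf 0x7453476423432) (.leaf 0x47434523475423432)) (.node 1 (.leaf 0x546343423473423432) (.leaf 0x5347434523475423432))))) (.node 8 (.node 4 (.node 2 (.node 1 (.leaf 0x46454342347423432) (.leaf 0x475434674234723432)) (.node 1 (.leaf 0x347234234123476432) (.leaf 0x4754342347346423432))) (.node 2 (.node 1 (.leaf 0x73453473423463432) (.leaf 0x7345347123432)) (.node 1 (.leaf 0x453464743423467432) (.leaf 0x34634346123432))))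 (.node 4 (.node 2 (.node 1 (.leaf 0x734653472343423432) (.leaf 0x7523467434723432)) (.node 1 (.leaf 0x634534674234623432) (.leaf 0x54346234723434623432))) (.node 2 (.node 1 (.leaf 0x3476473423467432) (.leaf 0x347464534123476432)) (.node 1 (.leaf 0x7345423462343423432) (.leaf 0x3473463434234623432)))))) (.node 16 (.node 8 (.node 4 (.node 2 (.node 1 (.leaf 0x434542342346123432) (.leaf 0x67434347423432)) (.node 1 (.leaf 0x734643432) (.leaf 0x4754347423465432))) (.node 2 (.node 1 (.leaf 0x547543432) (.leaf 0x7346434123432)) (.node 1 (.leaf 0x4764734234653432) (.leaf 0x634754234123463432)))) (.node 4 (.node 2 (.node 1 (.leaf 0x123434723434123432) (.leaf 0x343423423465432)) (.node 1 (.leaf 0x54753434123432) (.leaf 0x3434123473423432))) (.node 2 (.node 1 (.leaf 0x64523434123463432) (.leaf 0x523473463423463432)) (.node 1 (.leaf 0x34653423432) (.leaf 0x74534234523463432))))) (.node 8 (.node 4 (.node 2 (.node 1 (.leaf 0x71234347123434123432)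 (.leaf 0x6347454234623432)) (.node 1 (.leaf 0x6347454346423432) (.leaf 0x5234734346123432))) (.node 2 (.node 1 (.leaf 0x763434643423473432) (.leaf 0x64234734123463432)) (.node 1 (.leaf 0x346742342347123432) (.leaf 0x73463453423432)))) (.node 4 (.node 2 (.node 1 (.leaf 0x23461234347123432) (.leaf 0x6423453423476432)) (.node 1 (.leaf 0x65342345347423432) (.leaf 0x4674534623432))) (.node 2 (.node 1 (.leaf 0x547543412347423432) (.leaf 0x5346423453423476432)) (.node 1 (.leaf 0x434523434123473432) (.leaf 0x7346343423467432))))))) (.node 32 (.node 16 (.node 8 (.node 4 (.node 2 (.node 1 (.leaf 0x534653423432) (.leaf 0x534652343423432)) (.node 1 (.leaf 0x342341234734123432) (.leaf 0x72346234347123432))) (.node 2 (.node 1 (.leaf 0x76452343423463432) (.leaf 0x73464341234623432)) (.node 1 (.leaf 0x7346343423432) (.leaf 0x7534341234347423432)))) (.node 4 (.node 2 (.node 1 (.leaf 0x634754234234653432) (.leaf 0x76423473423463432)) (.node 1 (.leaf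 0x634346434234643432) (.leaf 0x65347642346123432))) (.node 2 (.node 1 (.leaf 0x534645343423476432) (.leaf 0x54723434123432)) (.node 1 (.leaf 0x534234634123432) (.leaf 0x7346234234123432))))) (.node 8 (.node 4 (.node 2 (.node 1 (.leaf 0x54652343423473432) (.leaf 0x753463423473423432)) (.node 1 (.leaf 0x4752346543423463432) (.leaf 0x6434234123463432))) (.node 2 (.node 1 (.leaf 0x472346543423432) (.leaf 0x63434723465432)) (.node 1 (.leaf 0x763473423463432) (.leaf 0x42347342347123432)))) (.node 4 (.node 2 (.node 1 (.leaf 0x234734123476432) (.leaf 0x342346453423467432)) (.node 1 (.leaf 0x234234643423467432) (.leaf 0x5423463434234743432))) (.node 2 (.node 1 (.leaf 0x6746234234754123432) (.leaf 0x734645234234623432)) (.node 1 (.leaf 0x4623476434234753432) (.leaf 0x434754123476432)))))) (.node 16 (.node 8 (.node 4 (.node 2 (.node 1 (.leaf 0x734342346234123432) (.leaf 0x4673423453423432)) (.node 1 (.leaf 0x67434234534623432) (.leaf 0x473452343423432)))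 (.node 2 (.node 1 (.leaf 0x54674653423463432) (.leaf 0x712346234234723432)) (.node 1 (.leaf 0x764764734123463432) (.leaf 0x47543423473423474123432)))) (.node 4 (.node 2 (.node 1 (.leaf 0x23463423467432) (.leaf 0x3463452343423432)) (.node 1 (.leaf 0x723461234234723432) (.leaf 0x647346341234723432))) (.node 2 (.node 1 (.leaf 0x345347643423476432) (.leaf 0x63453423463432)) (.node 1 (.leaf 0x6734634234723432) (.leaf 0x4612347342347123432))))) (.node 8 (.node 4 (.node 2 (.node 1 (.leaf 0x4347434234643432) (.leaf 0x2342346423432)) (.node 1 (.leaf 0x7534346742347123432) (.leaf 0x74234753423432))) (.node 2 (.node 1 (.leaf 0x47346534234623432) (.leaf 0x4734634234753432)) (.node 1 (.leaf 0x62347534234723432) (.leaf 0x6452347342347123432)))) (.node 4 (.node 2 (.node 1 (.leaf 0x6345234234723432) (.leaf 0x41234764342346123432)) (.node 1 (.leaf 0x73452346343423473432) (.leaf 0x4734347542347123432))) (.node 2 (.node 1 (.leaf 0x754347643423463432)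 (.leaf 0x23434623432)) (.node 1 (.leaf 0x7234534723434123432) (.leaf 0x745434764234723432)))))))

def classATree_80 : Tree :=
  .node 64 (.node 32 (.node 16 (.node 8 (.node 4 (.node 2 (.node 1 (.leaf 0x64745234234723432) (.leaf 0x4123476434234753432)) (.node 1 (.leaf 0x4673423463423432) (.leaf 0x34734523476423432))) (.node 2 (.node 1 (.leaf 0x234654234623432) (.leaf 0x43452347342347423432)) (.node 1 (.leaf 0x423473423476432) (.leaf 0x42347543423476432)))) (.node 4 (.node 2 (.node 1 (.leaf 0x5346234234723432) (.leaf 0x74634234654123432)) (.node 1 (.leaf 0x34652342347123432) (.leaf 0x46341234234753432))) (.node 2 (.node 1 (.leaf 0x743434234634123432) (.leaf 0x54653423465423432)) (.node 1 (.leaf 0x74123473423476432) (.leaf 0x647464734234653432))))) (.node 8 (.node 4 (.node 2 (.node 1 (.leaf 0x73461234234723432) (.leaf 0x54634523465423432)) (.node 1 (.leaf 0x464347342347423432) (.leaf 0x7453463434123473432))) (.node 2 (.node 1 (.leaf 0x3473463423453423432)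 (.leaf 0x7534234623432)) (.node 1 (.leaf 0x763434523434723432) (.leaf 0x4346743423467432)))) (.node 4 (.node 2 (.node 1 (.leaf 0x534347343423467432) (.leaf 0x234234743423476432)) (.node 1 (.leaf 0x643423423423475432) (.leaf 0x12343423467432))) (.node 2 (.node 1 (.leaf 0x234346234346423432) (.leaf 0x734346234346423432)) (.node 1 (.leaf 0x23453463423432) (.leaf 0x76476434234753432)))))) (.node 16 (.node 8 (.node 4 (.node 2 (.node 1 (.leaf 0x763476434523473432) (.leaf 0x4723463434234723432)) (.node 1 (.leaf 0x434753434234623432) (.leaf 0x123434764234723432))) (.node 2 (.node 1 (.leaf 0x234341234346423432) (.leaf 0x6743467463423473432)) (.node 1 (.leaf 0x23434123473423432) (.leaf 0x54345234234623432)))) (.node 4 (.node 2 (.node 1 (.leaf 0x7641234723432) (.leaf 0x343464123432)) (.node 1 (.leaf 0x4634743423464123432) (.leaf 0x543473434123476432))) (.node 2 (.node 1 (.leaf 0x673434123473432) (.leaf 0x742342345347423432)) (.node 1 (.leaf 0x346345234234653432)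 (.leaf 0x34346434123463432))))) (.node 8 (.node 4 (.node 2 (.node 1 (.leaf 0x623473412347423432) (.leaf 0x73467434123463432)) (.node 1 (.leaf 0x75423467434234653432) (.leaf 0x4673463423463432))) (.node 2 (.node 1 (.leaf 0x5434743423432) (.leaf 0x6734345234623432)) (.node 1 (.leaf 0x746434523473432) (.leaf 0x53462347534234723432)))) (.node 4 (.node 2 (.node 1 (.leaf 0x47534346542347123432) (.leaf 0x74674345423473432)) (.node 1 (.leaf 0x6746534734234623432) (.leaf 0x76343454234723432))) (.node 2 (.node 1 (.leaf 0x64346543423473432) (.leaf 0x62342347342347123432)) (.node 1 (.leaf 0x73434754234723432) (.leaf 0x234347643423432))))))) (.node 32 (.node 16 (.node 8 (.node 4 (.node 2 (.node 1 (.leaf 0x523467434523463432) (.leaf 0x434347543423473432)) (.node 1 (.leaf 0x1234764345234623432) (.leaf 0x6454346743423463432))) (.node 2 (.node 1 (.leaf 0x7543423473423474123432) (.leaf 0x23463452347423432)) (.node 1 (.leaf 0x64534345234623432) (.leaf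 0x7546743423463432)))) (.node 4 (.node 2 (.node 1 (.leaf 0x6423474643423476432) (.leaf 0x434647423432)) (.node 1 (.leaf 0x434634123463432) (.leaf 0x74123463423463432))) (.node 2 (.node 1 (.leaf 0x541234643423463432) (.leaf 0x464734342347123432)) (.node 1 (.leaf 0x46123434234753432) (.leaf 0x671234234623432))))) (.node 8 (.node 4 (.node 2 (.node 1 (.leaf 0x3454234346423432) (.leaf 0x734523467423432)) (.node 1 (.leaf 0x743472345234723432) (.leaf 0x634534764234723432))) (.node 2 (.node 1 (.leaf 0x6453423467432) (.leaf 0x634745343423467432)) (.node 1 (.leaf 0x345423473423432) (.leaf 0x75341234723432)))) (.node 4 (.node 2 (.node 1 (.leaf 0x6234346741234623432) (.leaf 0x3434612343423432)) (.node 1 (.leaf 0x2346543472343423432) (.leaf 0x47345341234623432))) (.node 2 (.node 1 (.leaf 0x3454234723432) (.leaf 0x6743423467432)) (.node 1 (.leaf 0x34623475423432) (.leaf 0x346743423423475432)))))) (.node 16 (.node 8 (.node 4 (.node 2 (.node 1 (.leaf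 0x347645234234753432) (.leaf 0x76434674234723432)) (.node 1 (.leaf 0x67346742347123432) (.leaf 0x534623434623432))) (.node 2 (.node 1 (.leaf 0x62341234623432) (.leaf 0x734534623434123432)) (.node 1 (.leaf 0x4734523423473423432) (.leaf 0x474523462343423432)))) (.node 4 (.node 2 (.node 1 (.leaf 0x647234234653432) (.leaf 0x64754234234653432)) (.node 1 (.leaf 0x534723434123432) (.leaf 0x6423476423432))) (.node 2 (.node 1 (.leaf 0x54734674234623432) (.leaf 0x54234634123432)) (.node 1 (.leaf 0x541234643423432) (.leaf 0x6743423467453432))))) (.node 8 (.node 4 (.node 2 (.node 1 (.leaf 0x34634762343423432) (.leaf 0x34542343423473432)) (.node 1 (.leaf 0x76412342346123432) (.leaf 0x734523434234723432))) (.node 2 (.node 1 (.leaf 0x3454234234623432) (.leaf 0x5346743423467432)) (.node 1 (.leaf 0x43471234234723432) (.leaf 0x7647543423467432)))) (.node 4 (.node 2 (.node 1 (.leaf 0x234723434723432) (.leaf 0x64754634123476432)) (.node 1 (.leaf 0x4347453423432)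 (.leaf 0x75234634723434623432))) (.node 2 (.node 1 (.leaf 0x645347343423463432) (.leaf 0x473434634234623432)) (.node 1 (.leaf 0x534612342346423432) (.leaf 0x47534347342347123432)))))))

def classATree_81 : Tree :=
  .node 64 (.node 32 (.node 16 (.node 8 (.node 4 (.node 2 (.node 1 (.leaf 0x763434234534723432) (.leaf 0x63472342347123432)) (.node 1 (.leaf 0x7346434234654123432) (.leaf 0x6734523423473423432))) (.node 2 (.node 1 (.leaf 0x523434123467432) (.leaf 0x674234634234643432)) (.node 1 (.leaf 0x7634342342347423432) (.leaf 0x23434653423432)))) (.node 4 (.node 2 (.node 1 (.leaf 0x5347434234623432) (.leaf 0x423452347423432)) (.node 1 (.leaf 0x2346543423467432) (.leaf 0x54734346454234723432))) (.node 2 (.node 1 (.leaf 0x46347343423476432) (.leaf 0x647464534234753432)) (.node 1 (.leaf 0x4347543412346423432) (.leaf 0x5423464342346423432))))) (.node 8 (.node 4 (.node 2 (.node 1 (.leaf 0x734347454234723432) (.leaf 0x234347454234723432))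 (.node 1 (.leaf 0x345346423432) (.leaf 0x6742347123432))) (.node 2 (.node 1 (.leaf 0x46412342346123432) (.leaf 0x543463434523473432)) (.node 1 (.leaf 0x763434234723432) (.leaf 0x2347343423463432)))) (.node 4 (.node 2 (.node 1 (.leaf 0x7623453462343423432) (.leaf 0x4234523472343423432)) (.node 1 (.leaf 0x234523423463423432) (.leaf 0x2343464234346423432))) (.node 2 (.node 1 (.leaf 0x6434674234123463432) (.leaf 0x5234764342346123432)) (.node 1 (.leaf 0x63423473423474123432) (.leaf 0x73467453423463432)))))) (.node 16 (.node 8 (.node 4 (.node 2 (.node 1 (.leaf 0x73463423475423432) (.leaf 0x46347434123432)) (.node 1 (.leaf 0x6474634234753432) (.leaf 0x53423473434234643432))) (.node 2 (.node 1 (.leaf 0x4234742343423473432) (.leaf 0x6734534234623432)) (.node 1 (.leaf 0x763434234653432) (.leaf 0x42347234346123432)))) (.node 4 (.node 2 (.node 1 (.leaf 0x73463434234753432) (.leaf 0x463474341234623432)) (.node 1 (.leaf 0x7346347341234623432) (.leaf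 0x123467434234653432))) (.node 2 (.node 1 (.leaf 0x2347346543423432) (.leaf 0x23473423467423432)) (.node 1 (.leaf 0x7452342347342347123432) (.leaf 0x23465342347423432))))) (.node 8 (.node 4 (.node 2 (.node 1 (.leaf 0x52346434234234623432) (.leaf 0x6434734123432)) (.node 1 (.leaf 0x475346543423473432) (.leaf 0x534234623432))) (.node 2 (.node 1 (.leaf 0x234642342346123432) (.leaf 0x3454346123432)) (.node 1 (.leaf 0x7343464345234623432) (.leaf 0x4634342347423432)))) (.node 4 (.node 2 (.node 1 (.leaf 0x64345341234623432) (.leaf 0x754674234123463432)) (.node 1 (.leaf 0x4123463423463432) (.leaf 0x7434634123463432))) (.node 2 (.node 1 (.leaf 0x547534342346123432) (.leaf 0x54623434523473432)) (.node 1 (.leaf 0x42346434123463432) (.leaf 0x62345234623432))))))) (.node 32 (.node 16 (.node 8 (.node 4 (.node 2 (.node 1 (.leaf 0x34523467423432) (.leaf 0x6734674234723432)) (.node 1 (.leaf 0x5346234346123432) (.leaf 0x76453423467432))) (.node 2 (.node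 1 (.leaf 0x43472345234723432) (.leaf 0x6745346742347123432)) (.node 1 (.leaf 0x534734234123476432) (.leaf 0x5341234723432)))) (.node 4 (.node 2 (.node 1 (.leaf 0x6234523462343423432) (.leaf 0x34534623434123432)) (.node 1 (.leaf 0x474345341234623432) (.leaf 0x4342347434123476432))) (.node 2 (.node 1 (.leaf 0x73434612343423432) (.leaf 0x34723434623476432)) (.node 1 (.leaf 0x347643423476453432) (.leaf 0x3452343463423432))))) (.node 8 (.node 4 (.node 2 (.node 1 (.leaf 0x734623475423432) (.leaf 0x634743453423467432)) (.node 1 (.leaf 0x6434674234723432) (.leaf 0x6543423467432))) (.node 2 (.node 1 (.leaf 0x73454234723432) (.leaf 0x634523473423432)) (.node 1 (.leaf 0x762341234623432) (.leaf 0x47523462343423432)))) (.node 4 (.node 2 (.node 1 (.leaf 0x647543423467453432) (.leaf 0x7647234234653432)) (.node 1 (.leaf 0x46434723434123432) (.leaf 0x4123463423432))) (.node 2 (.node 1 (.leaf 0x645423476423432) (.leaf 0x53472343423432)) (.node 1 (.leaf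 0x6543423467453432) (.leaf 0x42346434123432)))))) (.node 16 (.node 8 (.node 4 (.node 2 (.node 1 (.leaf 0x634123473423476432) (.leaf 0x6412342346123432)) (.node 1 (.leaf 0x346454343423463432) (.leaf 0x34534643423476432))) (.node 2 (.node 1 (.leaf 0x647543423467432) (.leaf 0x75346743423467432)) (.node 1 (.leaf 0x464345234723432) (.leaf 0x743471234234723432)))) (.node 4 (.node 2 (.node 1 (.leaf 0x6742345234623432) (.leaf 0x34523434234723432)) (.node 1 (.leaf 0x4347543423476423432) (.leaf 0x547346234347123432))) (.node 2 (.node 1 (.leaf 0x6743472342347123432) (.leaf 0x475234634234643432)) (.node 1 (.leaf 0x6423474123432) (.leaf 0x645347123432))))) (.node 8 (.node 4 (.node 2 (.node 1 (.leaf 0x72341234623432) (.leaf 0x67462347343423463432)) (.node 1 (.leaf 0x345423472343423432) (.leaf 0x34341234346423432))) (.node 2 (.node 1 (.leaf 0x3423472343423432) (.leaf 0x54234764234623432)) (.node 1 (.leaf 0x723434123467432) (.leaf 0x234342341234723432))))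 (.node 4 (.node 2 (.node 1 (.leaf 0x34123473423476432) (.leaf 0x74534723453423432)) (.node 1 (.leaf 0x34534752343423432) (.leaf 0x7634523423473423432))) (.node 2 (.node 1 (.leaf 0x23453473434123463432) (.leaf 0x6734674234123463432)) (.node 1 (.leaf 0x34123463423467432) (.leaf 0x7234123463423467432)))))))

def classATree_82 : Tree :=
  .node 64 (.node 32 (.node 16 (.node 8 (.node 4 (.node 2 (.node 1 (.leaf 0x7454346543423473432) (.leaf 0x6434347462343423432)) (.node 1 (.leaf 0x4645434234753432) (.leaf 0x346534234754123432))) (.node 2 (.node 1 (.leaf 0x34654343423463432) (.leaf 0x73412346343423463432)) (.node 1 (.leaf 0x647434534234623432) (.leaf 0x54123467434234653432)))) (.node 4 (.node 2 (.node 1 (.leaf 0x643467423432) (.leaf 0x4234345423473432)) (.node 1 (.leaf 0x23434234123473423432) (.leaf 0x46434234753432))) (.node 2 (.node 1 (.leaf 0x463475434234743432) (.leaf 0x4654342347346423432)) (.node 1 (.leaf 0x546523434123432) (.leaf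 0x5423453423463432))))) (.node 8 (.node 4 (.node 2 (.node 1 (.leaf 0x4634234234234723432) (.leaf 0x46534234753432)) (.node 1 (.leaf 0x76345346743423463432) (.leaf 0x467423462342346423432))) (.node 2 (.node 1 (.leaf 0x453434754234723432) (.leaf 0x474342345346423432)) (.node 1 (.leaf 0x73463434523463432) (.leaf 0x743423463423464123432)))) (.node 4 (.node 2 (.node 1 (.leaf 0x6743423473423474123432) (.leaf 0x4234234123432)) (.node 1 (.leaf 0x64534674234723432) (.leaf 0x764234234653432))) (.node 2 (.node 1 (.leaf 0x76434723467432) (.leaf 0x64763472343423432)) (.node 1 (.leaf 0x34746434123467432) (.leaf 0x647346742347123432)))))) (.node 16 (.node 8 (.node 4 (.node 2 (.node 1 (.leaf 0x3476473423476432) (.leaf 0x7634734234654123432)) (.node 1 (.leaf 0x64345234734123432) (.leaf 0x543412347345234723432))) (.node 2 (.node 1 (.leaf 0x64234347542346123432) (.leaf 0x543473434234643432)) (.node 1 (.leaf 0x634534623434123432) (.leaf 0x743412346345234623432))))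 (.node 4 (.node 2 (.node 1 (.leaf 0x512347343423473432) (.leaf 0x634753462343423432)) (.node 1 (.leaf 0x52342346534234623432) (.leaf 0x347643452347643432))) (.node 2 (.node 1 (.leaf 0x63423472343423432) (.leaf 0x672342346123432)) (.node 1 (.leaf 0x3453474342347123432) (.leaf 0x54234764534234623432))))) (.node 8 (.node 4 (.node 2 (.node 1 (.leaf 0x6347534623453423432) (.leaf 0x647346542347423432)) (.node 1 (.leaf 0x5412346342346123432) (.leaf 0x546342346423432))) (.node 2 (.node 1 (.leaf 0x4542347423432) (.leaf 0x54347534234723432)) (.node 1 (.leaf 0x5423464342346123432) (.leaf 0x543412346423432)))) (.node 4 (.node 2 (.node 1 (.leaf 0x6453473452347423432) (.leaf 0x76434634234643432)) (.node 1 (.leaf 0x643473423474123432) (.leaf 0x347453434523473432))) (.node 2 (.node 1 (.leaf 0x7643465423476432) (.leaf 0x464347123434123432)) (.node 1 (.leaf 0x412346434123432) (.leaf 0x34643475423464123432))))))) (.node 32 (.node 16 (.node 8 (.node 4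 (.node 2 (.node 1 (.leaf 0x741234723453423467432) (.leaf 0x754674234723432)) (.node 1 (.leaf 0x23465342343423463432) (.leaf 0x754343423473432))) (.node 2 (.node 1 (.leaf 0x346453434234623432) (.leaf 0x753467434123467432)) (.node 1 (.leaf 0x6745234234623432) (.leaf 0x2342346343423473432)))) (.node 4 (.node 2 (.node 1 (.leaf 0x23434523423423475432) (.leaf 0x5474342347342347123432)) (.node 1 (.leaf 0x4342347234234723432) (.leaf 0x7434734123432))) (.node 2 (.node 1 (.leaf 0x7234345234234623432) (.leaf 0x753434623432)) (.node 1 (.leaf 0x75343465432) (.leaf 0x7123423423465432))))) (.node 8 (.node 4 (.node 2 (.node 1 (.leaf 0x3475434234643432) (.leaf 0x73467434234643432)) (.node 1 (.leaf 0x634543423432) (.leaf 0x74523467434523463432))) (.node 2 (.node 1 (.leaf 0x5464234723434623432) (.leaf 0x464342346123432)) (.node 1 (.leaf 0x674347534234653432) (.leaf 0x42346745234723432)))) (.node 4 (.node 2 (.node 1 (.leaf 0x764534674234723432) (.leaf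 0x64234234653432)) (.node 1 (.leaf 0x6434723467432) (.leaf 0x34673462343423432))) (.node 2 (.node 1 (.leaf 0x7647346742347123432) (.leaf 0x3476434123467432)) (.node 1 (.leaf 0x64742341234623432) (.leaf 0x634734234654123432)))))) (.node 16 (.node 8 (.node 4 (.node 2 (.node 1 (.leaf 0x3453423467423432) (.leaf 0x54234723434234723432)) (.node 1 (.leaf 0x7634534623434123432) (.leaf 0x654346343423463432))) (.node 2 (.node 1 (.leaf 0x7543412347345234723432) (.leaf 0x5123474343423473432)) (.node 1 (.leaf 0x346523472343423432) (.leaf 0x5434734634234643432)))) (.node 4 (.node 2 (.node 1 (.leaf 0x34764234523473432) (.leaf 0x763423472343423432)) (.node 1 (.leaf 0x652342346123432) (.leaf 0x475346341234643432))) (.node 2 (.node 1 (.leaf 0x3434234634123473432) (.leaf 0x43412346345234623432)) (.node 1 (.leaf 0x75412346342346123432) (.leaf 0x7546342346423432))))) (.node 8 (.node 4 (.node 2 (.node 1 (.leaf 0x74542347423432) (.leaf 0x123464347342347423432))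 (.node 1 (.leaf 0x453463434234623432) (.leaf 0x463475434234653432))) (.node 2 (.node 1 (.leaf 0x643465423476432) (.leaf 0x547346741234623432)) (.node 1 (.leaf 0x64723465423432) (.leaf 0x34753434523473432)))) (.node 4 (.node 2 (.node 1 (.leaf 0x41234723453423467432) (.leaf 0x4673465342346423432)) (.node 1 (.leaf 0x6434634234643432) (.leaf 0x754347534234723432))) (.node 2 (.node 1 (.leaf 0x75423464342346123432) (.leaf 0x7543412346423432)) (.node 1 (.leaf 0x54346343423473432) (.leaf 0x53423453423473432)))))))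

def classATree_83 : Tree :=
  .node 64 (.node 32 (.node 16 (.node 8 (.node 4 (.node 2 (.node 1 (.leaf 0x6454234234623432) (.leaf 0x53467434123467432)) (.node 1 (.leaf 0x547342347342347123432) (.leaf 0x54674234723432))) (.node 2 (.node 1 (.leaf 0x67462347343423473432) (.leaf 0x54343423473432)) (.node 1 (.leaf 0x673423474534234723432) (.leaf 0x4342346341234623432)))) (.node 4 (.node 2 (.node 1 (.leaf 0x6743452343475423432) (.leaf 0x543452343464123432)) (.node 1 (.leaf 0x4347423465432) (.leaf 0x42346542346123432))) (.node 2 (.node 1 (.leaf 0x4342347645343423432) (.leaf 0x7634734123463432)) (.node 1 (.leaf 0x53423474342347123432) (.leaf 0x412346342346423432))))) (.node 8 (.node 4 (.node 2 (.node 1 (.leaf 0x73423423473423432) (.leaf 0x6342347123432)) (.node 1 (.leaf 0x3453423423463423432) (.leaf 0x347434634123463432))) (.node 2 (.node 1 (.leaf 0x674634234754123432) (.leaf 0x6745234234234623432)) (.node 1 (.leaf 0x2347234634123473432) (.leaf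 0x641234634234623432)))) (.node 4 (.node 2 (.node 1 (.leaf 0x634234123463432) (.leaf 0x4346234234123432)) (.node 1 (.leaf 0x473423423473423432) (.leaf 0x7123434523473432))) (.node 2 (.node 1 (.leaf 0x5434643423473432) (.leaf 0x64534734123467432)) (.node 1 (.leaf 0x54647434234623432) (.leaf 0x461234234623432)))))) (.node 16 (.node 8 (.node 4 (.node 2 (.node 1 (.leaf 0x6342346343423476432) (.leaf 0x7423423463423432)) (.node 1 (.leaf 0x4534234346423432) (.leaf 0x543464234234623432))) (.node 2 (.node 1 (.leaf 0x6342341234623432) (.leaf 0x4734345423463432)) (.node 1 (.leaf 0x4523463452346423432) (.leaf 0x46453434523463432)))) (.node 4 (.node 2 (.node 1 (.leaf 0x71234346123432) (.leaf 0x634234123463423432)) (.node 1 (.leaf 0x623476434623432) (.leaf 0x23423474543423463432))) (.node 2 (.node 1 (.leaf 0x743464341234623432) (.leaf 0x2342347434123463432)) (.node 1 (.leaf 0x34742341234723432) (.leaf 0x743452347643423476432))))) (.node 8 (.node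 4 (.node 2 (.node 1 (.leaf 0x764342347346423432) (.leaf 0x623476434234753432)) (.node 1 (.leaf 0x473465343423473432) (.leaf 0x72346743452346743432))) (.node 2 (.node 1 (.leaf 0x43467423473423432) (.leaf 0x45234723432)) (.node 1 (.leaf 0x34342346347423432) (.leaf 0x7234674345423463432)))) (.node 4 (.node 2 (.node 1 (.leaf 0x64764234523473432) (.leaf 0x4523472343423432)) (.node 1 (.leaf 0x5462347342347123432) (.leaf 0x54734634234743432))) (.node 2 (.node 1 (.leaf 0x7463423475432) (.leaf 0x542347643423432)) (.node 1 (.leaf 0x64342347645343423432) (.leaf 0x6534234123463432))))))) (.node 32 (.node 16 (.node 8 (.node 4 (.node 2 (.node 1 (.leaf 0x234534623432) (.leaf 0x7434346234346423432)) (.node 1 (.leaf 0x46746234123463432) (.leaf 0x76434523434623432))) (.node 2 (.node 1 (.leaf 0x6476453423473432) (.leaf 0x54673452343423432)) (.node 1 (.leaf 0x734345234346423432) (.leaf 0x73462341234723432)))) (.node 4 (.node 2 (.node 1 (.leaf 0x5473423453423432)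 (.leaf 0x54234764342346123432)) (.node 1 (.leaf 0x543463434234743432) (.leaf 0x73464341234723432))) (.node 2 (.node 1 (.leaf 0x6542347534234723432) (.leaf 0x4752346345234623432)) (.node 1 (.leaf 0x543475423476432) (.leaf 0x4652347234234623432))))) (.node 8 (.node 4 (.node 2 (.node 1 (.leaf 0x234653423467432) (.leaf 0x6347434123463432)) (.node 1 (.leaf 0x5412347342347123432) (.leaf 0x72343472343423432))) (.node 2 (.node 1 (.leaf 0x673434234346423432) (.leaf 0x47346423473423474123432)) (.node 1 (.leaf 0x752346234234723432) (.leaf 0x2347534123476432)))) (.node 4 (.node 2 (.node 1 (.leaf 0x453467453423476432) (.leaf 0x53463423453423432)) (.node 1 (.leaf 0x464743462343423432) (.leaf 0x4763434712343423432))) (.node 2 (.node 1 (.leaf 0x6543453423463432) (.leaf 0x654734634234723432)) (.node 1 (.leaf 0x64347643423476432) (.leaf 0x5423476434234753432)))))) (.node 16 (.node 8 (.node 4 (.node 2 (.node 1 (.leaf 0x23452346423432) (.leaf 0x74234712343423432))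 (.node 1 (.leaf 0x54642342346423432) (.leaf 0x7645234234723432))) (.node 2 (.node 1 (.leaf 0x1234623434123463432) (.leaf 0x546234346123432)) (.node 1 (.leaf 0x534742346342346423432) (.leaf 0x45234634123467432)))) (.node 4 (.node 2 (.node 1 (.leaf 0x76472345234723432) (.leaf 0x62347342347123432)) (.node 1 (.leaf 0x546746234123463432) (.leaf 0x763434523463432))) (.node 2 (.node 1 (.leaf 0x6472346343423473432) (.leaf 0x523464342346423432)) (.node 1 (.leaf 0x4523434234753432) (.leaf 0x7647643423473432))))) (.node 8 (.node 4 (.node 2 (.node 1 (.leaf 0x5472342347123432) (.leaf 0x4734623434723432)) (.node 1 (.leaf 0x76347341234623432) (.leaf 0x5343475434234753432))) (.node 2 (.node 1 (.leaf 0x6734634234654123432) (.leaf 0x343423476453432)) (.node 1 (.leaf 0x673434623432) (.leaf 0x423467453423476432)))) (.node 4 (.node 2 (.node 1 (.leaf 0x5463434734234723432) (.leaf 0x7454346343423473432)) (.node 1 (.leaf 0x53473423474123432) (.leaf 0x6434634734234653432)))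 (.node 2 (.node 1 (.leaf 0x234754234123432) (.leaf 0x543423475432)) (.node 1 (.leaf 0x123475434123473432) (.leaf 0x546542342346423432)))))))

def classATree_84 : Tree :=
  .node 64 (.node 32 (.node 16 (.node 8 (.node 4 (.node 2 (.node 1 (.leaf 0x76453473423463432) (.leaf 0x23472341234234723432)) (.node 1 (.leaf 0x4234234234753432) (.leaf 0x342346434123467432))) (.node 2 (.node 1 (.leaf 0x6234234723432) (.leaf 0x7342347343423473432)) (.node 1 (.leaf 0x53412347343423473432) (.leaf 0x234234234753432)))) (.node 4 (.node 2 (.node 1 (.leaf 0x46342346343423473432) (.leaf 0x6345234346123432)) (.node 1 (.leaf 0x45234234523473432) (.leaf 0x46743423463432))) (.node 2 (.node 1 (.leaf 0x4534234523473432) (.leaf 0x346541234723432)) (.node 1 (.leaf 0x7346542347123432) (.leaf 0x72345234234753432))))) (.node 8 (.node 4 (.node 2 (.node 1 (.leaf 0x234754234523473432) (.leaf 0x2347234123432)) (.node 1 (.leaf 0x73465434234753432) (.leaf 0x41234346472343423432)))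 (.node 2 (.node 1 (.leaf 0x653473434234723432) (.leaf 0x5234674234723432)) (.node 1 (.leaf 0x6347623434123432) (.leaf 0x65347343423473432)))) (.node 4 (.node 2 (.node 1 (.leaf 0x75467434123463432) (.leaf 0x64512347343423473432)) (.node 1 (.leaf 0x76473453423463432) (.leaf 0x2347434123432))) (.node 2 (.node 1 (.leaf 0x74523474342347123432) (.leaf 0x23434623476432)) (.node 1 (.leaf 0x434674234523463432) (.leaf 0x7346423473423474123432)))))) (.node 16 (.node 8 (.node 4 (.node 2 (.node 1 (.leaf 0x623434234346423432) (.leaf 0x34234643453423432)) (.node 1 (.leaf 0x723434123473432) (.leaf 0x743462342346123432))) (.node 2 (.node 1 (.leaf 0x42347534623453423432) (.leaf 0x645434734123463432)) (.node 1 (.leaf 0x546234712343423432) (.leaf 0x234234123473432)))) (.node 4 (.node 2 (.node 1 (.leaf 0x671234234723432) (.leaf 0x5423474534234723432)) (.node 1 (.leaf 0x474623472343423432) (.leaf 0x53465434523473432))) (.node 2 (.node 1 (.leaf 0x623475423464123432)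 (.leaf 0x34534734234723432)) (.node 1 (.leaf 0x6453434523463432) (.leaf 0x7467434123463432))))) (.node 8 (.node 4 (.node 2 (.node 1 (.leaf 0x76434234734123432) (.leaf 0x46434234734123432)) (.node 1 (.leaf 0x647434634123467432) (.leaf 0x47423453423467432))) (.node 2 (.node 1 (.leaf 0x54746434234753432) (.leaf 0x634346123434123432)) (.node 1 (.leaf 0x47434234234753432) (.leaf 0x547345423475423432)))) (.node 4 (.node 2 (.node 1 (.leaf 0x64534752343423432) (.leaf 0x45341234234753432)) (.node 1 (.leaf 0x7546534234753432) (.leaf 0x347342347123432))) (.node 2 (.node 1 (.leaf 0x4534346472343423432) (.leaf 0x6347345434234723432)) (.node 1 (.leaf 0x343472346343423463432) (.leaf 0x75434674123432))))))) (.node 32 (.node 16 (.node 8 (.node 4 (.node 2 (.node 1 (.leaf 0x43453462343423432) (.leaf 0x654712343423432)) (.node 1 (.leaf 0x4534753423432) (.leaf 0x6523434123432))) (.node 2 (.node 1 (.leaf 0x754123462343423432) (.leaf 0x5472343423463432))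 (.node 1 (.leaf 0x75234347123432) (.leaf 0x345434234234623432)))) (.node 4 (.node 2 (.node 1 (.leaf 0x65434712343423432) (.leaf 0x73423465342346423432)) (.node 1 (.leaf 0x6123434123467432) (.leaf 0x65434723434123432))) (.node 2 (.node 1 (.leaf 0x62343423473423432) (.leaf 0x12346345234623432)) (.node 1 (.leaf 0x347645342346123432) (.leaf 0x472346742347123432))))) (.node 8 (.node 4 (.node 2 (.node 1 (.leaf 0x53463473452347423432) (.leaf 0x75465434523473432)) (.node 1 (.leaf 0x346434123467432) (.leaf 0x34341234734123432))) (.node 2 (.node 1 (.leaf 0x434523467434234653432) (.leaf 0x4345346423432)) (.node 1 (.leaf 0x43464343423463432) (.leaf 0x6345342346423432)))) (.node 4 (.node 2 (.node 1 (.leaf 0x47343473423463432) (.leaf 0x674346234347123432)) (.node 1 (.leaf 0x47634534234623432) (.leaf 0x64234734234723432))) (.node 2 (.node 1 (.leaf 0x65423412347423432) (.leaf 0x52346434123463432)) (.node 1 (.leaf 0x53467453423463432) (.leaf 0x63453423473432))))))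 (.node 16 (.node 8 (.node 4 (.node 2 (.node 1 (.leaf 0x542347343423463432) (.leaf 0x434734612343423432)) (.node 1 (.leaf 0x75346543423473432) (.leaf 0x4534234623432))) (.node 2 (.node 1 (.leaf 0x6523434123467432) (.leaf 0x473453423473432)) (.node 1 (.leaf 0x6434753423476432) (.leaf 0x534643423467432)))) (.node 4 (.node 2 (.node 1 (.leaf 0x45434234234753432) (.leaf 0x47534234754123432)) (.node 1 (.leaf 0x4534234234753432) (.leaf 0x64347123434123432))) (.node 2 (.node 1 (.leaf 0x52346345234623432) (.leaf 0x642347234346123432)) (.node 1 (.leaf 0x547452343423467432) (.leaf 0x643472343423432))))) (.node 8 (.node 4 (.node 2 (.node 1 (.leaf 0x412347343423463432) (.leaf 0x763473423463423432)) (.node 1 (.leaf 0x4746342346423432) (.leaf 0x7465434234753432))) (.node 2 (.node 1 (.leaf 0x543473462343423432) (.leaf 0x3474534234653432)) (.node 1 (.leaf 0x434753434234653432) (.leaf 0x643473423432)))) (.node 4 (.node 2 (.node 1 (.leaf 0x343453462343423432)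 (.leaf 0x3463473423474123432)) (.node 1 (.leaf 0x7412346341234623432) (.leaf 0x763473423453423432))) (.node 2 (.node 1 (.leaf 0x743467423432) (.leaf 0x34674234123463432)) (.node 1 (.leaf 0x653434623434123432) (.leaf 0x6123434123432)))))))

def classATree_85 : Tree :=
  .node 64 (.node 32 (.node 16 (.node 8 (.node 4 (.node 2 (.node 1 (.leaf 0x5476345341234623432) (.leaf 0x4643452346423432)) (.node 1 (.leaf 0x653423476434123467432) (.leaf 0x474634234753432))) (.node 2 (.node 1 (.leaf 0x2342346343423463432) (.leaf 0x645342346423432)) (.node 1 (.leaf 0x6472343423432) (.leaf 0x5347345234723432)))) (.node 4 (.node 2 (.node 1 (.leaf 0x347434534234653432) (.leaf 0x4746434523473432)) (.node 1 (.leaf 0x47453423465423432) (.leaf 0x4345342346342346123432))) (.node 2 (.node 1 (.leaf 0x71234347123432) (.leaf 0x64347343423476432)) (.node 1 (.leaf 0x7423462343423432) (.leaf 0x12346434123463432))))) (.node 8 (.node 4 (.node 2 (.node 1 (.leaf 0x54347346423432)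 (.leaf 0x734654341234623432)) (.node 1 (.leaf 0x746534723453423432) (.leaf 0x764523463423464123432))) (.node 2 (.node 1 (.leaf 0x5423463473423476432) (.leaf 0x634346123432)) (.node 1 (.leaf 0x2347234346123432) (.leaf 0x46434234623432)))) (.node 4 (.node 2 (.node 1 (.leaf 0x3473412347423432) (.leaf 0x5434734542347423432)) (.node 1 (.leaf 0x6342347345234723432) (.leaf 0x54341234634234623432))) (.node 2 (.node 1 (.leaf 0x3462342346423432) (.leaf 0x47346347542346423432)) (.node 1 (.leaf 0x64534642342346423432) (.leaf 0x454346343423473432)))))) (.node 16 (.node 8 (.node 4 (.node 2 (.node 1 (.leaf 0x347453423432) (.leaf 0x5423467434123476432)) (.node 1 (.leaf 0x76471234234623432) (.leaf 0x34734612343423432))) (.node 2 (.node 1 (.leaf 0x3434523467423432) (.leaf 0x654234654123432)) (.node 1 (.leaf 0x6454234234653432) (.leaf 0x34734634123467432)))) (.node 4 (.node 2 (.node 1 (.leaf 0x674346742347123432) (.leaf 0x347634342347423432)) (.node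 1 (.leaf 0x3476453423467432) (.leaf 0x42347645343423463432))) (.node 2 (.node 1 (.leaf 0x763434612343423432) (.leaf 0x7465347342347123432)) (.node 1 (.leaf 0x6743462342346423432) (.leaf 0x46347423453423432))))) (.node 8 (.node 4 (.node 2 (.node 1 (.leaf 0x23473434234723432) (.leaf 0x5346534734234623432)) (.node 1 (.leaf 0x7453412347342347123432) (.leaf 0x4543412346342346123432))) (.node 2 (.node 1 (.leaf 0x65234234623432) (.leaf 0x43475234234723432)) (.node 1 (.leaf 0x7634234712343423432) (.leaf 0x547346341234643432)))) (.node 4 (.node 2 (.node 1 (.leaf 0x46234723434234723432) (.leaf 0x3464343423463432)) (.node 1 (.leaf 0x47234534623434123432) (.leaf 0x7434542346423432))) (.node 2 (.node 1 (.leaf 0x745347345234723432) (.leaf 0x4723463452343423432)) (.node 1 (.leaf 0x34734345423473432) (.leaf 0x742347423432))))))) (.node 32 (.node 16 (.node 8 (.node 4 (.node 2 (.node 1 (.leaf 0x46343423473432) (.leaf 0x742346345234623432)) (.node 1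 (.leaf 0x472346123434123432) (.leaf 0x654234764123432))) (.node 2 (.node 1 (.leaf 0x6543452346743432) (.leaf 0x4234623453423476432)) (.node 1 (.leaf 0x43464343423473432) (.leaf 0x645434634234643432)))) (.node 4 (.node 2 (.node 1 (.leaf 0x65342347342347123432) (.leaf 0x12347234634234643432)) (.node 1 (.leaf 0x3454342347123432) (.leaf 0x46745234723432))) (.node 2 (.node 1 (.leaf 0x23423467463423476432) (.leaf 0x4753463412346423432)) (.node 1 (.leaf 0x642342346123432) (.leaf 0x74347234234723432))))) (.node 8 (.node 4 (.node 2 (.node 1 (.leaf 0x342345342347123432) (.leaf 0x64342347345234723432)) (.node 1 (.leaf 0x6543473423432) (.leaf 0x3462347343423473432))) (.node 2 (.node 1 (.leaf 0x4645341234623432) (.leaf 0x5343464342346123432)) (.node 1 (.leaf 0x75423467434123476432) (.leaf 0x34753423432)))) (.node 4 (.node 2 (.node 1 (.leaf 0x674634723465432) (.leaf 0x67453432)) (.node 1 (.leaf 0x234764234123432) (.leaf 0x23467434123432))) (.node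 2 (.node 1 (.leaf 0x7642347542347123432) (.leaf 0x54753463423467432)) (.node 1 (.leaf 0x34753432) (.leaf 0x54342347643423432)))))) (.node 16 (.node 8 (.node 4 (.node 2 (.node 1 (.leaf 0x63453423423475432) (.leaf 0x34753423475423432)) (.node 1 (.leaf 0x234734123463432) (.leaf 0x63473423467423432))) (.node 2 (.node 1 (.leaf 0x763453473423463432) (.leaf 0x6434346423432)) (.node 1 (.leaf 0x34753463423473432) (.leaf 0x64343465423467432)))) (.node 4 (.node 2 (.node 1 (.leaf 0x347434523465423432) (.leaf 0x46543423473423432)) (.node 1 (.leaf 0x46534734123476432) (.leaf 0x34534743423463432))) (.node 2 (.node 1 (.leaf 0x4347423463423467432) (.leaf 0x672343462343423432)) (.node 1 (.leaf 0x74542347342347123432) (.leaf 0x234764234523473432))))) (.node 8 (.node 4 (.node 2 (.node 1 (.leaf 0x65342346123432) (.leaf 0x7623423472343423432)) (.node 1 (.leaf 0x743454234234653432) (.leaf 0x674534634523473432))) (.node 2 (.node 1 (.leaf 0x754674347123432)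 (.leaf 0x34734543423473432)) (.node 1 (.leaf 0x3475343423473432) (.leaf 0x2346234234753432)))) (.node 4 (.node 2 (.node 1 (.leaf 0x674534123476432) (.leaf 0x34234764123432)) (.node 1 (.leaf 0x52342347123432) (.leaf 0x6534234634123432))) (.node 2 (.node 1 (.leaf 0x45434234234623432) (.leaf 0x64347346234347123432)) (.node 1 (.leaf 0x474342346123432) (.leaf 0x523475343423467432)))))))

def classATree_86 : Tree :=
  .node 64 (.node 32 (.node 16 (.node 8 (.node 4 (.node 2 (.node 1 (.leaf 0x7434634234723432) (.leaf 0x75434123476432)) (.node 1 (.leaf 0x6734347542346123432) (.leaf 0x6472346343423463432))) (.node 2 (.node 1 (.leaf 0x234742345346423432) (.leaf 0x54654234234623432)) (.node 1 (.leaf 0x7465434123476432) (.leaf 0x47454234234623432)))) (.node 4 (.node 2 (.node 1 (.leaf 0x6534734234653432) (.leaf 0x7346534762343423432)) (.node 1 (.leaf 0x64534734523463432) (.leaf 0x43473453423463432))) (.node 2 (.node 1 (.leaf 0x74645341234623432)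 (.leaf 0x75343464342346123432)) (.node 1 (.leaf 0x54234742343423473432) (.leaf 0x3467434623434123432))))) (.node 8 (.node 4 (.node 2 (.node 1 (.leaf 0x546347343423476432) (.leaf 0x74643475423432)) (.node 1 (.leaf 0x74234534234753432) (.leaf 0x753463423475423432))) (.node 2 (.node 1 (.leaf 0x3423473434234643432) (.leaf 0x3423412346423432)) (.node 1 (.leaf 0x234234623432) (.leaf 0x342343465423467432)))) (.node 4 (.node 2 (.node 1 (.leaf 0x73434764234723432) (.leaf 0x653434234347423432)) (.node 1 (.leaf 0x2343423467432) (.leaf 0x234346423432))) (.node 2 (.node 1 (.leaf 0x76434723432) (.leaf 0x23463473452347423432)) (.node 1 (.leaf 0x647542347342347423432) (.leaf 0x34647434123463432)))))) (.node 16 (.node 8 (.node 4 (.node 2 (.node 1 (.leaf 0x7523423462343423432) (.leaf 0x7465434523473432)) (.node 1 (.leaf 0x23472346342346123432) (.leaf 0x3423473423476432))) (.node 2 (.node 1 (.leaf 0x34234634123467432) (.leaf 0x763423463423467432)) (.node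 1 (.leaf 0x634234534234653432) (.leaf 0x74634523473432)))) (.node 4 (.node 2 (.node 1 (.leaf 0x63434534234346423432) (.leaf 0x3423412347345234723432)) (.node 1 (.leaf 0x423412346345234623432) (.leaf 0x473423472343423432))) (.node 2 (.node 1 (.leaf 0x53423463434123463432) (.leaf 0x654234734542347423432)) (.node 1 (.leaf 0x5476234723434623432) (.leaf 0x4741234634234643432))))) (.node 8 (.node 4 (.node 2 (.node 1 (.leaf 0x234634734234643432) (.leaf 0x547434623434723432)) (.node 1 (.leaf 0x742345342346123432) (.leaf 0x74343462343464123432))) (.node 2 (.node 1 (.leaf 0x3473465342346423432) (.leaf 0x467346742347123432)) (.node 1 (.leaf 0x34743423464123432) (.leaf 0x4347523434123432)))) (.node 4 (.node 2 (.node 1 (.leaf 0x743464743423467432) (.leaf 0x543464543423473432)) (.node 1 (.leaf 0x7423453423432) (.leaf 0x745346742347123432))) (.node 2 (.node 1 (.leaf 0x754652343423432) (.leaf 0x7643472342347123432)) (.node 1 (.leaf 0x63473423465423432)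 (.leaf 0x34754234234753432))))))) (.node 32 (.node 16 (.node 8 (.node 4 (.node 2 (.node 1 (.leaf 0x73434754234623432) (.leaf 0x54654734234653432)) (.node 1 (.leaf 0x763473423465423432) (.leaf 0x347454234234753432))) (.node 2 (.node 1 (.leaf 0x645434234734123432) (.leaf 0x534234234623432)) (.node 1 (.leaf 0x75234347342347123432) (.leaf 0x1234347342347123432)))) (.node 4 (.node 2 (.node 1 (.leaf 0x623474542346423432) (.leaf 0x5434347542347123432)) (.node 1 (.leaf 0x6434234734123432) (.leaf 0x53434743423476432))) (.node 2 (.node 1 (.leaf 0x43463423476432) (.leaf 0x4346543423476432)) (.node 1 (.leaf 0x434674123432) (.leaf 0x7542346234234623432))))) (.node 8 (.node 4 (.node 2 (.node 1 (.leaf 0x674534734234623432) (.leaf 0x4342347346423432)) (.node 1 (.leaf 0x462345341234723432) (.leaf 0x34234743423453423432))) (.node 2 (.node 1 (.leaf 0x546434523473432) (.leaf 0x7434743423432)) (.node 1 (.leaf 0x423467434234653432) (.leaf 0x4734342347123432))))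 (.node 4 (.node 2 (.node 1 (.leaf 0x72342346123432) (.leaf 0x234534234234723432)) (.node 1 (.leaf 0x5343475423473423432) (.leaf 0x4763434674234623432))) (.node 2 (.node 1 (.leaf 0x342347123434123432) (.leaf 0x53434234346423432)) (.node 1 (.leaf 0x7234234123476432) (.leaf 0x23474346423432)))))) (.node 16 (.node 8 (.node 4 (.node 2 (.node 1 (.leaf 0x645434723432) (.leaf 0x53423473423476432)) (.node 1 (.leaf 0x53423463423467432) (.leaf 0x73423463423467432))) (.node 2 (.node 1 (.leaf 0x76452347342347423432) (.leaf 0x534653434234623432)) (.node 1 (.leaf 0x63423473434234643432) (.leaf 0x473452346343423473432)))) (.node 4 (.node 2 (.node 1 (.leaf 0x5343423463423464123432) (.leaf 0x434623453465423432)) (.node 1 (.leaf 0x4634347462343423432) (.leaf 0x547634234753432))) (.node 2 (.node 1 (.leaf 0x74234634345423463432) (.leaf 0x2346347342347423432)) (.node 1 (.leaf 0x73467463423473432) (.leaf 0x5472346341234643432))))) (.node 8 (.node 4 (.node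 2 (.node 1 (.leaf 0x74347434234623432) (.leaf 0x65343473462343423432)) (.node 1 (.leaf 0x46547634234753432) (.leaf 0x746234723434623432))) (.node 2 (.node 1 (.leaf 0x3453473412347423432) (.leaf 0x463434723434123432)) (.node 1 (.leaf 0x452343423463432) (.leaf 0x46734623434723432)))) (.node 4 (.node 2 (.node 1 (.leaf 0x34623434234753432) (.leaf 0x4745342346423432)) (.node 1 (.leaf 0x34753412346423432) (.leaf 0x46234234123432))) (.node 2 (.node 1 (.leaf 0x23463473423463432) (.leaf 0x7453465434123473432)) (.node 1 (.leaf 0x6347645234234753432) (.leaf 0x5434674234723432)))))))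

def classATree_87 : Tree :=
  .node 64 (.node 32 (.node 16 (.node 8 (.node 4 (.node 2 (.node 1 (.leaf 0x452343423432) (.leaf 0x434734234234723432)) (.node 1 (.leaf 0x5464345234623432) (.leaf 0x4642347234346123432))) (.node 2 (.node 1 (.leaf 0x5463434623432) (.leaf 0x2347642342346123432)) (.node 1 (.leaf 0x54347123432) (.leaf 0x123474345234723432)))) (.node 4 (.node 2 (.node 1 (.leaf 0x342347453423432) (.leaf 0x34764342347423432)) (.node 1 (.leaf 0x23434743423432) (.leaf 0x6474234234653432))) (.node 2 (.node 1 (.leaf 0x7345234234623432) (.leaf 0x7453472342347123432)) (.node 1 (.leaf 0x65434674234723432) (.leaf 0x47346743423463432))))) (.node 8 (.node 4 (.node 2 (.node 1 (.leaf 0x7346743423467432) (.leaf 0x423474123432)) (.node 1 (.leaf 0x4342346423432) (.leaf 0x4123464342346123432))) (.node 2 (.node 1 (.leaf 0x64752342346123432) (.leaf 0x6453423472343423432)) (.node 1 (.leaf 0x6347434523465423432) (.leaf 0x647434634234643432)))) (.node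 4 (.node 2 (.node 1 (.leaf 0x743463434123473432) (.leaf 0x6547634712343423432)) (.node 1 (.leaf 0x6741234234653432) (.leaf 0x67423465423432))) (.node 2 (.node 1 (.leaf 0x463412347345234723432) (.leaf 0x67343463423463432)) (.node 1 (.leaf 0x346343463423473432) (.leaf 0x73434234723432)))))) (.node 16 (.node 8 (.node 4 (.node 2 (.node 1 (.leaf 0x2346234234234623432) (.leaf 0x2347343423473432)) (.node 1 (.leaf 0x46474343423473432) (.leaf 0x746741234723432))) (.node 2 (.node 1 (.leaf 0x434654341234743432) (.leaf 0x6234534734234623432)) (.node 1 (.leaf 0x43475341234723432) (.leaf 0x345342347643423467432)))) (.node 4 (.node 2 (.node 1 (.leaf 0x547342342346123432) (.leaf 0x53474643423467432)) (.node 1 (.leaf 0x34654342346123432) (.leaf 0x463412346423432))) (.node 2 (.node 1 (.leaf 0x42346342346123432) (.leaf 0x46347534234723432)) (.node 1 (.leaf 0x4342347345234723432) (.leaf 0x754342346345234623432))))) (.node 8 (.node 4 (.node 2 (.node 1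 (.leaf 0x74234652343423476432) (.leaf 0x4743464342346423432)) (.node 1 (.leaf 0x64543473423474123432) (.leaf 0x45234764342346123432))) (.node 2 (.node 1 (.leaf 0x4723465423474123432) (.leaf 0x7343473434234743432)) (.node 1 (.leaf 0x3423474534234723432) (.leaf 0x347234345423473432)))) (.node 4 (.node 2 (.node 1 (.leaf 0x423464234234623432) (.leaf 0x734346123432)) (.node 1 (.leaf 0x347342346743423432) (.leaf 0x6434653423475432))) (.node 2 (.node 1 (.leaf 0x73423465432) (.leaf 0x76434623475434123432)) (.node 1 (.leaf 0x3467432) (.leaf 0x63453473423465432))))))) (.node 32 (.node 16 (.node 8 (.node 4 (.node 2 (.node 1 (.leaf 0x34673452343423432) (.leaf 0x34673423453423432)) (.node 1 (.leaf 0x34674634234743432) (.leaf 0x746434234654123432))) (.node 2 (.node 1 (.leaf 0x74623434723467432) (.leaf 0x53423467434123476432)) (.node 1 (.leaf 0x34674634234643432) (.leaf 0x34674634123463432)))) (.node 4 (.node 2 (.node 1 (.leaf 0x7543475423467432)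 (.leaf 0x746347641234623432)) (.node 1 (.leaf 0x3472346534234623432) (.leaf 0x63423432))) (.node 2 (.node 1 (.leaf 0x3423463432) (.leaf 0x47434523434723432)) (.node 1 (.leaf 0x347423423465432) (.leaf 0x46434234234753432))))) (.node 8 (.node 4 (.node 2 (.node 1 (.leaf 0x542346453423467432) (.leaf 0x5342346743423476432)) (.node 1 (.leaf 0x34674653423463432) (.leaf 0x743452347643432))) (.node 2 (.node 1 (.leaf 0x63423453423463432) (.leaf 0x3423463434234743432)) (.node 1 (.leaf 0x3434234764123432) (.leaf 0x753467434234723432)))) (.node 4 (.node 2 (.node 1 (.leaf 0x54634543423432) (.leaf 0x43462345234623432)) (.node 1 (.leaf 0x46347641234723432) (.leaf 0x6342342347123432))) (.node 2 (.node 1 (.leaf 0x64542347345234723432) (.leaf 0x346745234234653432)) (.node 1 (.leaf 0x463434123432) (.leaf 0x34534723465423432)))))) (.node 16 (.node 8 (.node 4 (.node 2 (.node 1 (.leaf 0x346743434234643432) (.leaf 0x642347534234723432)) (.node 1 (.leaf 0x5462347123434123432)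 (.leaf 0x6745234234723432))) (.node 2 (.node 1 (.leaf 0x7642346347423432) (.leaf 0x64764234623432)) (.node 1 (.leaf 0x6454346345234623432) (.leaf 0x64346534234623432)))) (.node 4 (.node 2 (.node 1 (.leaf 0x634234753423467432) (.leaf 0x534234234234723432)) (.node 1 (.leaf 0x34347642346423432) (.leaf 0x47434234653432))) (.node 2 (.node 1 (.leaf 0x6743423467434123432) (.leaf 0x6476434723465432)) (.node 1 (.leaf 0x53467432) (.leaf 0x47643473423465432))))) (.node 8 (.node 4 (.node 2 (.node 1 (.leaf 0x753423465432) (.leaf 0x7645342346743423432)) (.node 1 (.leaf 0x645346342346123432) (.leaf 0x534752346342346123432))) (.node 2 (.node 1 (.leaf 0x634523434234623432) (.leaf 0x6543465341234623432)) (.node 1 (.leaf 0x623434234743432) (.leaf 0x4346473462343423432)))) (.node 4 (.node 2 (.node 1 (.leaf 0x6423475341234723432) (.leaf 0x54634764234723432)) (.node 1 (.leaf 0x634542343423463432) (.leaf 0x462347543412346423432))) (.node 2 (.node 1 (.leaf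 0x46523473423476432) (.leaf 0x6234123432)) (.node 1 (.leaf 0x234123463432) (.leaf 0x47434234534723432)))))))

def classATree_88 : Tree :=
  .node 64 (.node 32 (.node 16 (.node 8 (.node 4 (.node 2 (.node 1 (.leaf 0x54347343423467432) (.leaf 0x764234234654123432)) (.node 1 (.leaf 0x746234234753432) (.leaf 0x23467434234643432))) (.node 2 (.node 1 (.leaf 0x7543423476453432) (.leaf 0x46523472343423432)) (.node 1 (.leaf 0x64542347342347123432) (.leaf 0x53467463423463432)))) (.node 4 (.node 2 (.node 1 (.leaf 0x47434672343423432) (.leaf 0x3412346743423476432)) (.node 1 (.leaf 0x642346453423467432) (.leaf 0x34123467434123476432))) (.node 2 (.node 1 (.leaf 0x534673452343423432) (.leaf 0x674634523465423432)) (.node 1 (.leaf 0x341234234234723432) (.leaf 0x543465234234623432))))) (.node 8 (.node 4 (.node 2 (.node 1 (.leaf 0x7642345234723432) (.leaf 0x647642346123432)) (.node 1 (.leaf 0x67412342347123432) (.leaf 0x634745434234723432))) (.node 2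 (.node 1 (.leaf 0x546343423432) (.leaf 0x734674341234723432)) (.node 1 (.leaf 0x46534234123432) (.leaf 0x345342343423473432)))) (.node 4 (.node 2 (.node 1 (.leaf 0x7642345347423432) (.leaf 0x534674234523463432)) (.node 1 (.leaf 0x34543423476423432) (.leaf 0x53434523476423432))) (.node 2 (.node 1 (.leaf 0x7647643423467432) (.leaf 0x74647453423467432)) (.node 1 (.leaf 0x45346743423476432) (.leaf 0x642346123432)))))) (.node 16 (.node 8 (.node 4 (.node 2 (.node 1 (.leaf 0x523476434523473432) (.leaf 0x6453473434123463432)) (.node 1 (.leaf 0x1234623434234623432) (.leaf 0x643423423465432))) (.node 2 (.node 1 (.leaf 0x4347643423476432) (.leaf 0x4645347342347423432)) (.node 1 (.leaf 0x647346423432) (.leaf 0x476434764234623432)))) (.node 4 (.node 2 (.node 1 (.leaf 0x534674345423463432) (.leaf 0x3473434123463432)) (.node 1 (.leaf 0x534734342346123432) (.leaf 0x64234634234643432))) (.node 2 (.node 1 (.leaf 0x6234342346423432) (.leaf 0x234745343423473432))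 (.node 1 (.leaf 0x64234743452347423432) (.leaf 0x2347453434523473432))))) (.node 8 (.node 4 (.node 2 (.node 1 (.leaf 0x3472346342346423432) (.leaf 0x754342347342347123432)) (.node 1 (.leaf 0x434534734234723432) (.leaf 0x643423453423465432))) (.node 2 (.node 1 (.leaf 0x643423432) (.leaf 0x4643423463432)) (.node 1 (.leaf 0x73434634234623432) (.leaf 0x6723423423463423432)))) (.node 4 (.node 2 (.node 1 (.leaf 0x6345342345347423432) (.leaf 0x67463434723434123432)) (.node 1 (.leaf 0x534234643423467432) (.leaf 0x647342347342347423432))) (.node 2 (.node 1 (.leaf 0x464342346342346123432) (.leaf 0x64342341234723432)) (.node 1 (.leaf 0x6746234234123432) (.leaf 0x54346434234643432))))))) (.node 32 (.node 16 (.node 8 (.node 4 (.node 2 (.node 1 (.leaf 0x54634734234623432) (.leaf 0x234341234347423432)) (.node 1 (.leaf 0x46347346542347423432) (.leaf 0x4534345234623432))) (.node 2 (.node 1 (.leaf 0x43476434523473432) (.leaf 0x6434234234723432)) (.node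 1 (.leaf 0x54634345423463432) (.leaf 0x434653412346423432)))) (.node 4 (.node 2 (.node 1 (.leaf 0x734534634234723432) (.leaf 0x453423473423463432)) (.node 1 (.leaf 0x45434634234643432) (.leaf 0x34234534734123432))) (.node 2 (.node 1 (.leaf 0x5234764346123432) (.leaf 0x3467412343423463432)) (.node 1 (.leaf 0x546123473423474123432) (.leaf 0x4723463452346423432))))) (.node 8 (.node 4 (.node 2 (.node 1 (.leaf 0x47343472343423432) (.leaf 0x753423463423475432)) (.node 1 (.leaf 0x7234534234623432) (.leaf 0x546543423473432))) (.node 2 (.node 1 (.leaf 0x64523462343423463432) (.leaf 0x3474342347423432)) (.node 1 (.leaf 0x73423423465432) (.leaf 0x3462341234623432)))) (.node 4 (.node 2 (.node 1 (.leaf 0x2346423432) (.leaf 0x6234234643423473432)) (.node 1 (.leaf 0x346234234623432) (.leaf 0x34623432))) (.node 2 (.node 1 (.leaf 0x347434542347423432) (.leaf 0x34623423475432)) (.node 1 (.leaf 0x67234634234643432) (.leaf 0x6342347342347423432))))))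 (.node 16 (.node 8 (.node 4 (.node 2 (.node 1 (.leaf 0x75342346342346123432) (.leaf 0x6347464342346423432)) (.node 1 (.leaf 0x234534743423463432) (.leaf 0x67434734542347423432))) (.node 2 (.node 1 (.leaf 0x4734346472343423432) (.leaf 0x434723453475423432)) (.node 1 (.leaf 0x673423432) (.leaf 0x63423473432)))) (.node 4 (.node 2 (.node 1 (.leaf 0x73423453423465432) (.leaf 0x23473463423473432)) (.node 1 (.leaf 0x73434673434234623432) (.leaf 0x534734534234653432))) (.node 2 (.node 1 (.leaf 0x7645347342347423432) (.leaf 0x5346453434234723432)) (.node 1 (.leaf 0x6234234734234723432) (.leaf 0x4342347341234723432))))) (.node 8 (.node 4 (.node 2 (.node 1 (.leaf 0x346234345423463432) (.leaf 0x723434234653432)) (.node 1 (.leaf 0x342346434234753432) (.leaf 0x346234234234753432))) (.node 2 (.node 1 (.leaf 0x623473452347423432) (.leaf 0x7234345423463432)) (.node 1 (.leaf 0x346234534234653432) (.leaf 0x34754342346423432)))) (.node 4 (.node 2 (.node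 1 (.leaf 0x1234673434234623432) (.leaf 0x723434746423432)) (.node 1 (.leaf 0x23462343423476432) (.leaf 0x234642342346423432))) (.node 2 (.node 1 (.leaf 0x6734234234723432) (.leaf 0x3462341234234753432)) (.node 1 (.leaf 0x734234234234653432) (.leaf 0x473463434523473432)))))))

def classATree_89 : Tree :=
  .node 64 (.node 32 (.node 16 (.node 8 (.node 4 (.node 2 (.node 1 (.leaf 0x72343465423432) (.leaf 0x4763423463423432)) (.node 1 (.leaf 0x347453434234623432) (.leaf 0x3474345342346123432))) (.node 2 (.node 1 (.leaf 0x643474612343423432) (.leaf 0x523423475423432)) (.node 1 (.leaf 0x4345434643423463432) (.leaf 0x34723434123463432)))) (.node 4 (.node 2 (.node 1 (.leaf 0x462343452343475423432) (.leaf 0x634234123432)) (.node 1 (.leaf 0x46423434234743432) (.leaf 0x752342346123432))) (.node 2 (.node 1 (.leaf 0x76343423432) (.leaf 0x4523467434234653432)) (.node 1 (.leaf 0x4734634123463432) (.leaf 0x2345347543423463432))))) (.node 8 (.node 4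 (.node 2 (.node 1 (.leaf 0x534342345346123432) (.leaf 0x473463434623476432)) (.node 1 (.leaf 0x64734342346123432) (.leaf 0x473434623432))) (.node 2 (.node 1 (.leaf 0x34734523434123432) (.leaf 0x12343474543423463432)) (.node 1 (.leaf 0x5464234234623432) (.leaf 0x534723463423464123432)))) (.node 4 (.node 2 (.node 1 (.leaf 0x453467434234643432) (.leaf 0x3434234346423432)) (.node 1 (.leaf 0x341234743423476432) (.leaf 0x673452346343423473432))) (.node 2 (.node 1 (.leaf 0x623434234347423432) (.leaf 0x753434764234723432)) (.node 1 (.leaf 0x7342341234634123432) (.leaf 0x4623434123467432)))))) (.node 16 (.node 8 (.node 4 (.node 2 (.node 1 (.leaf 0x64754234723432) (.leaf 0x46434346423432)) (.node 1 (.leaf 0x34654234123473432) (.leaf 0x7346543423473432))) (.node 2 (.node 1 (.leaf 0x4734634723465423432) (.leaf 0x653423423463423432)) (.node 1 (.leaf 0x34234723434234723432) (.leaf 0x23434634234623432)))) (.node 4 (.node 2 (.node 1 (.leaf 0x4347434523465423432)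 (.leaf 0x434743452346423432)) (.node 1 (.leaf 0x74674634234753432) (.leaf 0x67343452343464123432))) (.node 2 (.node 1 (.leaf 0x34712343423467432) (.leaf 0x654342342346423432)) (.node 1 (.leaf 0x4734674345234723432) (.leaf 0x34234723434623432))))) (.node 8 (.node 4 (.node 2 (.node 1 (.leaf 0x62343476423464123432) (.leaf 0x6123434734234723432)) (.node 1 (.leaf 0x6734234123463423432) (.leaf 0x4234634346123432))) (.node 2 (.node 1 (.leaf 0x643475234234723432) (.leaf 0x423467434723432)) (.node 1 (.leaf 0x345434234346423432) (.leaf 0x647343423473432)))) (.node 4 (.node 2 (.node 1 (.leaf 0x547346742347123432) (.leaf 0x6434734342347423432)) (.node 1 (.leaf 0x754346743423463432) (.leaf 0x73465434234623432))) (.node 2 (.node 1 (.leaf 0x746534752343423432) (.leaf 0x347346542346123432)) (.node 1 (.leaf 0x647634723453423432) (.leaf 0x42346742347123432))))))) (.node 32 (.node 16 (.node 8 (.node 4 (.node 2 (.node 1 (.leaf 0x612342346123432) (.leaf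 0x345234234623432)) (.node 1 (.leaf 0x4734674234623432) (.leaf 0x6547234234653432))) (.node 2 (.node 1 (.leaf 0x65423476423432) (.leaf 0x453472342347123432)) (.node 1 (.leaf 0x67434674234723432) (.leaf 0x346743423467432)))) (.node 4 (.node 2 (.node 1 (.leaf 0x3452343423473432) (.leaf 0x47234342347423432)) (.node 1 (.leaf 0x6534734523465423432) (.leaf 0x6745346741234723432))) (.node 2 (.node 1 (.leaf 0x74342346423432) (.leaf 0x7423474123432)) (.node 1 (.leaf 0x4723463423453423432) (.leaf 0x43463434123473432))))) (.node 8 (.node 4 (.node 2 (.node 1 (.leaf 0x547534634234643432) (.leaf 0x3434234723432)) (.node 1 (.leaf 0x434734654234723432) (.leaf 0x72346234234234623432))) (.node 2 (.node 1 (.leaf 0x65343463423463432) (.leaf 0x63412347345234723432)) (.node 1 (.leaf 0x473412347342347123432) (.leaf 0x5346734612343423432)))) (.node 4 (.node 2 (.node 1 (.leaf 0x65423465423432) (.leaf 0x6541234234653432)) (.node 1 (.leaf 0x76234534734234623432)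 (.leaf 0x6743465423474123432))) (.node 2 (.node 1 (.leaf 0x743475341234723432) (.leaf 0x476347523434123432)) (.node 1 (.leaf 0x23474343423473432) (.leaf 0x46741234723432)))))) (.node 16 (.node 8 (.node 4 (.node 2 (.node 1 (.leaf 0x45347234234653432) (.leaf 0x63476434234623432)) (.node 1 (.leaf 0x5347643423467432) (.leaf 0x7463412346423432))) (.node 2 (.node 1 (.leaf 0x742346342346123432) (.leaf 0x434743423453423432)) (.node 1 (.leaf 0x473464342346423432) (.leaf 0x4234652343423476432)))) (.node 4 (.node 2 (.node 1 (.leaf 0x54342346345234623432) (.leaf 0x67453473423474123432)) (.node 1 (.leaf 0x74342347345234723432) (.leaf 0x745234764342346123432))) (.node 2 (.node 1 (.leaf 0x343473434234623432) (.leaf 0x343473434234743432)) (.node 1 (.leaf 0x534753434234753432) (.leaf 0x73423474534234723432))))) (.node 8 (.node 4 (.node 2 (.node 1 (.leaf 0x343464345234623432) (.leaf 0x5464534234623432)) (.node 1 (.leaf 0x547523462343423432) (.leaf 0x64523476423432)))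 (.node 2 (.node 1 (.leaf 0x543472345234723432) (.leaf 0x347643462343423432)) (.node 1 (.leaf 0x643423467453432) (.leaf 0x34523434123473432)))) (.node 4 (.node 2 (.node 1 (.leaf 0x34674234123476432) (.leaf 0x3412342346123432)) (.node 1 (.leaf 0x61234234623432) (.leaf 0x764346745234723432))) (.node 2 (.node 1 (.leaf 0x6474234234623432) (.leaf 0x53473463423467432)) (.node 1 (.leaf 0x645346341234643432) (.leaf 0x61234346423432)))))))

def classATree_90 : Tree :=
  .node 64 (.node 32 (.node 16 (.node 8 (.node 4 (.node 2 (.node 1 (.leaf 0x75423464345234623432) (.leaf 0x74543423464123432)) (.node 1 (.leaf 0x63412347342347123432) (.leaf 0x53463434234623432))) (.node 2 (.node 1 (.leaf 0x64523434743423463432) (.leaf 0x343454234723432)) (.node 1 (.leaf 0x42347423463423467432) (.leaf 0x7454347342347123432)))) (.node 4 (.node 2 (.node 1 (.leaf 0x67343462343423432) (.leaf 0x64234523463432)) (.node 1 (.leaf 0x64523465423432) (.leaf 0x53473462343423432)))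 (.node 2 (.node 1 (.leaf 0x5475346342346423432) (.leaf 0x546347452343423432)) (.node 1 (.leaf 0x546742347123432) (.leaf 0x5123473434234723432))))) (.node 8 (.node 4 (.node 2 (.node 1 (.leaf 0x4342347645341234623432) (.leaf 0x3423453423467423432)) (.node 1 (.leaf 0x534764234123476432) (.leaf 0x53434234674123432))) (.node 2 (.node 1 (.leaf 0x4734634234643432) (.leaf 0x543463434234723432)) (.node 1 (.leaf 0x45342346342346123432) (.leaf 0x75412346345234623432)))) (.node 4 (.node 2 (.node 1 (.leaf 0x4654346343423463432) (.leaf 0x5463434123473432)) (.node 1 (.leaf 0x41234752343423467432) (.leaf 0x7454342347342347123432))) (.node 2 (.node 1 (.leaf 0x43423473434234643432) (.leaf 0x3465347341234623432)) (.node 1 (.leaf 0x4763475434234653432) (.leaf 0x534734534234753432)))))) (.node 16 (.node 8 (.node 4 (.node 2 (.node 1 (.leaf 0x76434612342346423432) (.leaf 0x52347234634234643432)) (.node 1 (.leaf 0x7643473454234623432) (.leaf 0x454342345346423432)))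 (.node 2 (.node 1 (.leaf 0x53473423465423432) (.leaf 0x343465423463423432)) (.node 1 (.leaf 0x43423467432) (.leaf 0x4543423467432)))) (.node 4 (.node 2 (.node 1 (.leaf 0x234523476423432) (.leaf 0x67453423467432)) (.node 1 (.leaf 0x341234723432) (.leaf 0x643423467432))) (.node 2 (.node 1 (.leaf 0x7345234723432) (.leaf 0x6547543423467432)) (.node 1 (.leaf 0x5464345234723432) (.leaf 0x643472343465432))))) (.node 8 (.node 4 (.node 2 (.node 1 (.leaf 0x347643423473423432) (.leaf 0x42347434123467432)) (.node 1 (.leaf 0x423452342346123432) (.leaf 0x47623472342347123432))) (.node 2 (.node 1 (.leaf 0x2343423467453432) (.leaf 0x654123423463423432)) (.node 1 (.leaf 0x4234764234123476432) (.leaf 0x47234653423476432)))) (.node 4 (.node 2 (.node 1 (.leaf 0x643434234743432) (.leaf 0x3423467423432)) (.node 1 (.leaf 0x67434123467432) (.leaf 0x5342347123432))) (.node 2 (.node 1 (.leaf 0x423462345234623432) (.leaf 0x523463453423476432)) (.node 1 (.leaf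 0x46743454234623432) (.leaf 0x123465343423476432))))))) (.node 32 (.node 16 (.node 8 (.node 4 (.node 2 (.node 1 (.leaf 0x6523423463423432) (.leaf 0x4342343423463432)) (.node 1 (.leaf 0x234734634234654123432) (.leaf 0x64763423476432))) (.node 2 (.node 1 (.leaf 0x64234123476432) (.leaf 0x7534234723432)) (.node 1 (.leaf 0x6341234346423432) (.leaf 0x64523473463423467432)))) (.node 4 (.node 2 (.node 1 (.leaf 0x472346534123476432) (.leaf 0x46746342346123432)) (.node 1 (.leaf 0x72346745234234653432) (.leaf 0x4234743423467432))) (.node 2 (.node 1 (.leaf 0x234754234523463432) (.leaf 0x43423473452343423432)) (.node 1 (.leaf 0x6734342347423432) (.leaf 0x467434234623432))))) (.node 8 (.node 4 (.node 2 (.node 1 (.leaf 0x6347343462343423432) (.leaf 0x645434234346423432)) (.node 1 (.leaf 0x423476453423467432) (.leaf 0x7234674234523463432))) (.node 2 (.node 1 (.leaf 0x423465234234623432) (.leaf 0x43463423463423432)) (.node 1 (.leaf 0x7464342347123432)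 (.leaf 0x6475463423476432)))) (.node 4 (.node 2 (.node 1 (.leaf 0x474543423467432) (.leaf 0x4753423467432)) (.node 1 (.leaf 0x634347423465432) (.leaf 0x7542346542346423432))) (.node 2 (.node 1 (.leaf 0x4623475463423463432) (.leaf 0x34643423473432)) (.node 1 (.leaf 0x1234734623434723432) (.leaf 0x64342343423463432)))))) (.node 16 (.node 8 (.node 4 (.node 2 (.node 1 (.leaf 0x7634234723432) (.leaf 0x2342347343423473432)) (.node 1 (.leaf 0x63473434234653432) (.leaf 0x642347342347423432))) (.node 2 (.node 1 (.leaf 0x34234123473423432) (.leaf 0x523434623432)) (.node 1 (.leaf 0x4634234712343423432) (.leaf 0x46453423475423432)))) (.node 4 (.node 2 (.node 1 (.leaf 0x6454342345346423432) (.leaf 0x75423423463423432)) (.node 1 (.leaf 0x523434234753432) (.leaf 0x76343423463432))) (.node 2 (.node 1 (.leaf 0x54234734234723432) (.leaf 0x47546534123476432)) (.node 1 (.leaf 0x4234754342346423432) (.leaf 0x7345347642346423432))))) (.node 8 (.node 4 (.node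 2 (.node 1 (.leaf 0x342346743463423473432) (.leaf 0x463453423463432)) (.node 1 (.leaf 0x234347234234123432) (.leaf 0x4612343475423432))) (.node 2 (.node 1 (.leaf 0x45234734634123467432) (.leaf 0x643423434234643432)) (.node 1 (.leaf 0x23467434234653432) (.leaf 0x34234743423467432)))) (.node 4 (.node 2 (.node 1 (.leaf 0x7634234234623432) (.leaf 0x4634347123434123432)) (.node 1 (.leaf 0x434642342346123432) (.leaf 0x5346534762343423432))) (.node 2 (.node 1 (.leaf 0x4647434234623432) (.leaf 0x5461234234623432)) (.node 1 (.leaf 0x434643423473432) (.leaf 0x74341234234723432)))))))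

def classATree_91 : Tree :=
  .node 64 (.node 32 (.node 16 (.node 8 (.node 4 (.node 2 (.node 1 (.leaf 0x45434234346423432) (.leaf 0x746234534234653432)) (.node 1 (.leaf 0x75423465342346423432) (.leaf 0x64234534234723432))) (.node 2 (.node 1 (.leaf 0x7234234743423463432) (.leaf 0x347234234723432)) (.node 1 (.leaf 0x6423465234234623432) (.leaf 0x75434764234723432)))) (.node 4 (.node 2 (.node 1 (.leaf 0x754234723432) (.leaf 0x4346434234623432)) (.node 1 (.leaf 0x6734234654123432) (.leaf 0x547645234234753432))) (.node 2 (.node 1 (.leaf 0x64534342347423432) (.leaf 0x547341234623432)) (.node 1 (.leaf 0x64542346342346423432) (.leaf 0x123464342346423432))))) (.node 8 (.node 4 (.node 2 (.node 1 (.leaf 0x74234123473432) (.leaf 0x6473434523463432)) (.node 1 (.leaf 0x73452342346123432) (.leaf 0x4346434123476432))) (.node 2 (.node 1 (.leaf 0x3434745434234753432) (.leaf 0x634743454234623432)) (.node 1 (.leaf 0x347423453423432) (.leaf 0x43465342347123432))))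 (.node 4 (.node 2 (.node 1 (.leaf 0x476343463423432) (.leaf 0x74642347342347123432)) (.node 1 (.leaf 0x754347123432) (.leaf 0x12347345234723432))) (.node 2 (.node 1 (.leaf 0x347234634123473432) (.leaf 0x74674342346423432)) (.node 1 (.leaf 0x4234234123463423432) (.leaf 0x473454342347123432)))))) (.node 16 (.node 8 (.node 4 (.node 2 (.node 1 (.leaf 0x65412346342346423432) (.leaf 0x642346342346423432)) (.node 1 (.leaf 0x64764234123473432) (.leaf 0x5473434523473432))) (.node 2 (.node 1 (.leaf 0x734347343423467432) (.leaf 0x7343475423467432)) (.node 1 (.leaf 0x6423476423464123432) (.leaf 0x743454234346423432)))) (.node 4 (.node 2 (.node 1 (.leaf 0x5462347342347423432) (.leaf 0x47423463423464123432)) (.node 1 (.leaf 0x63423423475432) (.leaf 0x6534123423475432))) (.node 2 (.node 1 (.leaf 0x7234654346123432) (.leaf 0x3465434723465432)) (.node 1 (.leaf 0x472346542346123432) (.leaf 0x74123473423463432))))) (.node 8 (.node 4 (.node 2 (.node 1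 (.leaf 0x7412347342347123432) (.leaf 0x474342347423432)) (.node 1 (.leaf 0x6743452343465423432) (.leaf 0x547346743423476432))) (.node 2 (.node 1 (.leaf 0x7643462345234623432) (.leaf 0x4234346434234753432)) (.node 1 (.leaf 0x41234234734234723432) (.leaf 0x7643434234346423432)))) (.node 4 (.node 2 (.node 1 (.leaf 0x1234763434234723432) (.leaf 0x6745347343423473432)) (.node 1 (.leaf 0x46743412347423432) (.leaf 0x5465434123473432))) (.node 2 (.node 1 (.leaf 0x547534672343423432) (.leaf 0x74123473423432)) (.node 1 (.leaf 0x34347434234653432) (.leaf 0x34746434234723432))))))) (.node 32 (.node 16 (.node 8 (.node 4 (.node 2 (.node 1 (.leaf 0x7612347343423473432) (.leaf 0x5463475423464123432)) (.node 1 (.leaf 0x234523465423432) (.leaf 0x346541234234653432))) (.node 2 (.node 1 (.leaf 0x76434734123463432) (.leaf 0x623434643423473432)) (.node 1 (.leaf 0x346453434234723432) (.leaf 0x54634234654123432)))) (.node 4 (.node 2 (.node 1 (.leaf 0x34347434234723432)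 (.leaf 0x674346542347123432)) (.node 1 (.leaf 0x754345234346123432) (.leaf 0x5473423463432))) (.node 2 (.node 1 (.leaf 0x547346723434123432) (.leaf 0x523473463452346423432)) (.node 1 (.leaf 0x674234234723432) (.leaf 0x23473465423432))))) (.node 8 (.node 4 (.node 2 (.node 1 (.leaf 0x42347643473423463432) (.leaf 0x7342346342346423432)) (.node 1 (.leaf 0x647534672343423432) (.leaf 0x23454346543423473432))) (.node 2 (.node 1 (.leaf 0x347346342346123432) (.leaf 0x723465434523473432)) (.node 1 (.leaf 0x7643412347423432) (.leaf 0x234234523463432)))) (.node 4 (.node 2 (.node 1 (.leaf 0x4723463434234623432) (.leaf 0x54742341234723432)) (.node 1 (.leaf 0x64754342347423432) (.leaf 0x54346123434123432))) (.node 2 (.node 1 (.leaf 0x723463423475423432) (.leaf 0x234654234234653432)) (.node 1 (.leaf 0x53473434723467432) (.leaf 0x347534234654123432)))))) (.node 16 (.node 8 (.node 4 (.node 2 (.node 1 (.leaf 0x743423467434123432) (.leaf 0x2346454346123432))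 (.node 1 (.leaf 0x464543423475432) (.leaf 0x754674342347423432))) (.node 2 (.node 1 (.leaf 0x6523434643423473432) (.leaf 0x6543473423463432)) (.node 1 (.leaf 0x643476472343423432) (.leaf 0x6234523473423463432)))) (.node 4 (.node 2 (.node 1 (.leaf 0x2341234634234623432) (.leaf 0x72341234234653432)) (.node 1 (.leaf 0x746234346542347123432) (.leaf 0x652347343423473432))) (.node 2 (.node 1 (.leaf 0x6543465234234623432) (.leaf 0x7423467423432)) (.node 1 (.leaf 0x5423473423432) (.leaf 0x6746234523465423432))))) (.node 8 (.node 4 (.node 2 (.node 1 (.leaf 0x4345423423463423432) (.leaf 0x47434123463432)) (.node 1 (.leaf 0x462341234234753432) (.leaf 0x234654345423473432))) (.node 2 (.node 1 (.leaf 0x643423453465423432) (.leaf 0x4234723463423467432)) (.node 1 (.leaf 0x6453473434123473432) (.leaf 0x5423473423463432)))) (.node 4 (.node 2 (.node 1 (.leaf 0x542347342347123432) (.leaf 0x734654234523463432)) (.node 1 (.leaf 0x54623473423453423432)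 (.leaf 0x723423465423432))) (.node 2 (.node 1 (.leaf 0x62342346342346123432) (.leaf 0x746543423473432)) (.node 1 (.leaf 0x746234523465423432) (.leaf 0x647346542347123432)))))))

def classATree_92 : Tree :=
  .node 64 (.node 32 (.node 16 (.node 8 (.node 4 (.node 2 (.node 1 (.leaf 0x4342345346123432) (.leaf 0x74634523465423432)) (.node 1 (.leaf 0x64346454234723432) (.leaf 0x6423473462343423432))) (.node 2 (.node 1 (.leaf 0x654342347423432) (.leaf 0x7346534752343423432)) (.node 1 (.leaf 0x5473412347423432) (.leaf 0x346434234234623432)))) (.node 4 (.node 2 (.node 1 (.leaf 0x647234234723432) (.leaf 0x467423476434234753432)) (.node 1 (.leaf 0x7434623434123432) (.leaf 0x7463474542346423432))) (.node 2 (.node 1 (.leaf 0x641234234723432) (.leaf 0x46742347534234723432)) (.node 1 (.leaf 0x46123423475423432) (.leaf 0x647345342347423432))))) (.node 8 (.node 4 (.node 2 (.node 1 (.leaf 0x734523467434123432) (.leaf 0x4543473423465432)) (.node 1 (.leaf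 0x3423474543423432) (.leaf 0x543423465432))) (.node 2 (.node 1 (.leaf 0x7546234234643432) (.leaf 0x5346543432)) (.node 1 (.leaf 0x6523434723467432) (.leaf 0x7346723434123432)))) (.node 4 (.node 2 (.node 1 (.leaf 0x734234634123473432) (.leaf 0x41234234753432)) (.node 1 (.leaf 0x523463453423473432) (.leaf 0x23464234234754123432))) (.node 2 (.node 1 (.leaf 0x74534762343423432) (.leaf 0x4752342346123432)) (.node 1 (.leaf 0x547234612343423432) (.leaf 0x534653434623476432)))))) (.node 16 (.node 8 (.node 4 (.node 2 (.node 1 (.leaf 0x53423465423432) (.leaf 0x123434723467432)) (.node 1 (.leaf 0x34234723453423467432) (.leaf 0x41234234234653432))) (.node 2 (.node 1 (.leaf 0x46543475423467432) (.leaf 0x45347645234623432)) (.node 1 (.leaf 0x12343473462343423432) (.leaf 0x546345423465423432)))) (.node 4 (.node 2 (.node 1 (.leaf 0x6547534672343423432) (.leaf 0x734234623434234743432)) (.node 1 (.leaf 0x4753423432) (.leaf 0x643423473432))) (.node 2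 (.node 1 (.leaf 0x7342345347123432) (.leaf 0x534234653423432)) (.node 1 (.leaf 0x5343475423432) (.leaf 0x734234234123463432))))) (.node 8 (.node 4 (.node 2 (.node 1 (.leaf 0x54346534752343423432) (.leaf 0x53465343423476432)) (.node 1 (.leaf 0x7346123434123432) (.leaf 0x65234234723432))) (.node 2 (.node 1 (.leaf 0x67423474534234723432) (.leaf 0x43453475423432)) (.node 1 (.leaf 0x542342347123432) (.leaf 0x347645234623432)))) (.node 4 (.node 2 (.node 1 (.leaf 0x52343473423432) (.leaf 0x5464734612343423432)) (.node 1 (.leaf 0x47452346343423463432) (.leaf 0x64542342347123432))) (.node 2 (.node 1 (.leaf 0x543473434123473432) (.leaf 0x7542346423432)) (.node 1 (.leaf 0x412347642346123432) (.leaf 0x34645343423473432))))))) (.node 32 (.node 16 (.node 8 (.node 4 (.node 2 (.node 1 (.leaf 0x4346542347423432) (.leaf 0x634523462343423432)) (.node 1 (.leaf 0x647342347346423432) (.leaf 0x74643423474123432))) (.node 2 (.node 1 (.leaf 0x46343473423465432)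 (.leaf 0x346743423476434123432)) (.node 1 (.leaf 0x3463423475432) (.leaf 0x4643432)))) (.node 4 (.node 2 (.node 1 (.leaf 0x64234234643432) (.leaf 0x723423464342346423432)) (.node 1 (.leaf 0x4723463423473432) (.leaf 0x4643473423463432))) (.node 2 (.node 1 (.leaf 0x6745347123432) (.leaf 0x52343464123432)) (.node 1 (.leaf 0x72343423453475423432) (.leaf 0x534346453423463432))))) (.node 8 (.node 4 (.node 2 (.node 1 (.leaf 0x64346434123473432) (.leaf 0x34534764234723432)) (.node 1 (.leaf 0x6412347423432) (.leaf 0x64347123432))) (.node 2 (.node 1 (.leaf 0x7434674234723432) (.leaf 0x47234234623432)) (.node 1 (.leaf 0x46343463423463432) (.leaf 0x534634345423463432)))) (.node 4 (.node 2 (.node 1 (.leaf 0x23423476423464123432) (.leaf 0x74342347234123432)) (.node 1 (.leaf 0x65347643423467432) (.leaf 0x73434123467432))) (.node 2 (.node 1 (.leaf 0x3453423467432) (.leaf 0x46343423467432)) (.node 1 (.leaf 0x647541234723432) (.leaf 0x46343463423432))))))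 (.node 16 (.node 8 (.node 4 (.node 2 (.node 1 (.leaf 0x34634234623432) (.leaf 0x743462347345234723432)) (.node 1 (.leaf 0x743474342347423432) (.leaf 0x7234346472343423432))) (.node 2 (.node 1 (.leaf 0x743473434234623432) (.leaf 0x64523467434523463432)) (.node 1 (.leaf 0x5463473434234623432) (.leaf 0x3464743423467432)))) (.node 4 (.node 2 (.node 1 (.leaf 0x734347541234723432) (.leaf 0x343462343464123432)) (.node 1 (.leaf 0x54674234234623432) (.leaf 0x346341234623432))) (.node 2 (.node 1 (.leaf 0x643471234234723432) (.leaf 0x5463474342347423432)) (.node 1 (.leaf 0x2347523434723467432) (.leaf 0x6345346743423467432))))) (.node 8 (.node 4 (.node 2 (.node 1 (.leaf 0x764347643423467432) (.leaf 0x54345234346423432)) (.node 1 (.leaf 0x71234634234723432) (.leaf 0x464347234234723432))) (.node 2 (.node 1 (.leaf 0x74346542347423432) (.leaf 0x346543472343423432)) (.node 1 (.leaf 0x347452346543423463432) (.leaf 0x734234634345423463432)))) (.node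 4 (.node 2 (.node 1 (.leaf 0x645342345346423432) (.leaf 0x7346452343423432)) (.node 1 (.leaf 0x463423476423432) (.leaf 0x65434234764123432))) (.node 2 (.node 1 (.leaf 0x64234523462343423432) (.leaf 0x234534623434123432)) (.node 1 (.leaf 0x46343463423473432) (.leaf 0x346741234723432)))))))

def classATree_93 : Tree :=
  .node 64 (.node 32 (.node 16 (.node 8 (.node 4 (.node 2 (.node 1 (.leaf 0x6452342346423432) (.leaf 0x7647342345346423432)) (.node 1 (.leaf 0x74643432) (.leaf 0x65434723465432))) (.node 2 (.node 1 (.leaf 0x6475434723465432) (.leaf 0x346423475463423463432)) (.node 1 (.leaf 0x34653423475432) (.leaf 0x23423464342346423432)))) (.node 4 (.node 2 (.node 1 (.leaf 0x47423463423473432) (.leaf 0x74643473423463432)) (.node 1 (.leaf 0x546453473423463432) (.leaf 0x1234346423432))) (.node 2 (.node 1 (.leaf 0x764347123432) (.leaf 0x434674234723432)) (.node 1 (.leaf 0x65423474123432) (.leaf 0x6454347123432))))) (.node 8 (.node 4 (.node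 2 (.node 1 (.leaf 0x345434643423463432) (.leaf 0x34234764342346123432)) (.node 1 (.leaf 0x534653434523463432) (.leaf 0x2343423453475423432))) (.node 2 (.node 1 (.leaf 0x734534764234723432) (.leaf 0x647454347123432)) (.node 1 (.leaf 0x462343463423432) (.leaf 0x746343463423463432)))) (.node 4 (.node 2 (.node 1 (.leaf 0x734634234623432) (.leaf 0x474234234623432)) (.node 1 (.leaf 0x4342347234123432) (.leaf 0x534347543423473432))) (.node 2 (.node 1 (.leaf 0x3434123467432) (.leaf 0x7346341234623432)) (.node 1 (.leaf 0x73464743423467432) (.leaf 0x34723423474346423432)))))) (.node 16 (.node 8 (.node 4 (.node 2 (.node 1 (.leaf 0x23473434654234723432) (.leaf 0x46234347454234623432)) (.node 1 (.leaf 0x75463473434234623432) (.leaf 0x63474643423467432))) (.node 2 (.node 1 (.leaf 0x73453423467432) (.leaf 0x1234634234723432)) (.node 1 (.leaf 0x746343423467432) (.leaf 0x34347541234723432)))) (.node 4 (.node 2 (.node 1 (.leaf 0x3453463423463423432)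 (.leaf 0x234346472343423432)) (.node 1 (.leaf 0x43473434234623432) (.leaf 0x43462347345234723432))) (.node 2 (.node 1 (.leaf 0x43474342347423432) (.leaf 0x754345234346423432)) (.node 1 (.leaf 0x467452342346123432) (.leaf 0x346474234123476432))))) (.node 8 (.node 4 (.node 2 (.node 1 (.leaf 0x645346743423467432) (.leaf 0x64347643423467432)) (.node 1 (.leaf 0x53463432) (.leaf 0x453423423423465432))) (.node 2 (.node 1 (.leaf 0x7346745234723432) (.leaf 0x464343423463432)) (.node 1 (.leaf 0x4234654234623432) (.leaf 0x76453473423465432)))) (.node 4 (.node 2 (.node 1 (.leaf 0x7434723465434123432) (.leaf 0x234653434123473432)) (.node 1 (.leaf 0x4234734234723432) (.leaf 0x4234734234653432))) (.node 2 (.node 1 (.leaf 0x47234347542346123432) (.leaf 0x547543423476432)) (.node 1 (.leaf 0x47523434523463432) (.leaf 0x647345234346423432))))))) (.node 32 (.node 16 (.node 8 (.node 4 (.node 2 (.node 1 (.leaf 0x6734634234234623432) (.leaf 0x5346453423476432))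 (.node 1 (.leaf 0x742346743423476432) (.leaf 0x7546341234623432))) (.node 2 (.node 1 (.leaf 0x4234643423473432) (.leaf 0x45434234634123432)) (.node 1 (.leaf 0x46474234234623432) (.leaf 0x7343475434234753432)))) (.node 4 (.node 2 (.node 1 (.leaf 0x742341234234723432) (.leaf 0x434674534234653432)) (.node 1 (.leaf 0x473452343464123432) (.leaf 0x5234753463423463432))) (.node 2 (.node 1 (.leaf 0x534345423473432) (.leaf 0x746454234234753432)) (.node 1 (.leaf 0x34712346342346123432) (.leaf 0x7346434734123463432))))) (.node 8 (.node 4 (.node 2 (.node 1 (.leaf 0x41234234234723432) (.leaf 0x74234734123463432)) (.node 1 (.leaf 0x76423467434234653432) (.leaf 0x423473423432))) (.node 2 (.node 1 (.leaf 0x62345342347123432) (.leaf 0x4342346743423476432)) (.node 1 (.leaf 0x4734346123434123432) (.leaf 0x534764345234723432)))) (.node 4 (.node 2 (.node 1 (.leaf 0x534612343423432) (.leaf 0x74234634542346423432)) (.node 1 (.leaf 0x6434723434234653432)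 (.leaf 0x53475342346123432))) (.node 2 (.node 1 (.leaf 0x742347346423432) (.leaf 0x546434734234723432)) (.node 1 (.leaf 0x5341234234653432) (.leaf 0x46743454234723432)))))) (.node 16 (.node 8 (.node 4 (.node 2 (.node 1 (.leaf 0x754634534234653432) (.leaf 0x345346341234723432)) (.node 1 (.leaf 0x234647453423467432) (.leaf 0x6453467434123467432))) (.node 2 (.node 1 (.leaf 0x4523472345234723432) (.leaf 0x47523434123432)) (.node 1 (.leaf 0x47534346542346423432) (.leaf 0x7234534623434123432)))) (.node 4 (.node 2 (.node 1 (.leaf 0x53412346434234643432) (.leaf 0x623473434123473432)) (.node 1 (.leaf 0x7453463423464123432) (.leaf 0x74534712343423432))) (.node 2 (.node 1 (.leaf 0x645347345234723432) (.leaf 0x534234634534234653432)) (.node 1 (.leaf 0x64743423453423432) (.leaf 0x7342346434234643432))))) (.node 8 (.node 4 (.node 2 (.node 1 (.leaf 0x64734234234123432) (.leaf 0x72342346434234643432)) (.node 1 (.leaf 0x6473452343423432) (.leaf 0x6434542346423432)))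 (.node 2 (.node 1 (.leaf 0x647423462343423432) (.leaf 0x4347346234234123432)) (.node 1 (.leaf 0x647534234123432) (.leaf 0x234653423432)))) (.node 4 (.node 2 (.node 1 (.leaf 0x65343423476432) (.leaf 0x464734623434723432)) (.node 1 (.leaf 0x6745347342347123432) (.leaf 0x74653472343423432))) (.node 2 (.node 1 (.leaf 0x6123473434234723432) (.leaf 0x643474234234123432)) (.node 1 (.leaf 0x23453423463432) (.leaf 0x6234734346123432)))))))

def classATree_94 : Tree :=
  .node 64 (.node 32 (.node 16 (.node 8 (.node 4 (.node 2 (.node 1 (.leaf 0x3476423465342346423432) (.leaf 0x54642343423463432)) (.node 1 (.leaf 0x72343423463432) (.leaf 0x74234764123432))) (.node 2 (.node 1 (.leaf 0x46743475341234723432) (.leaf 0x64347342347123432)) (.node 1 (.leaf 0x4543472343423432) (.leaf 0x34346343423473432)))) (.node 4 (.node 2 (.node 1 (.leaf 0x2346534234753432) (.leaf 0x647343423476432)) (.node 1 (.leaf 0x43463423476423432) (.leaf 0x647434234123432)))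 (.node 2 (.node 1 (.leaf 0x53464234734234723432) (.leaf 0x434734534234753432)) (.node 1 (.leaf 0x647123462343423432) (.leaf 0x47346534734234723432))))) (.node 8 (.node 4 (.node 2 (.node 1 (.leaf 0x34764343423463432) (.leaf 0x4347346542347423432)) (.node 1 (.leaf 0x763434123476432) (.leaf 0x743465423423475432))) (.node 2 (.node 1 (.leaf 0x6473453423432) (.leaf 0x45423476423432)) (.node 1 (.leaf 0x346523434234653432) (.leaf 0x4534346342346123432)))) (.node 4 (.node 2 (.node 1 (.leaf 0x6474346343423473432) (.leaf 0x73464342346423432)) (.node 1 (.leaf 0x347642347542347123432) (.leaf 0x6345234753434234753432))) (.node 2 (.node 1 (.leaf 0x423412347423432) (.leaf 0x347523434623476432)) (.node 1 (.leaf 0x42346234346423432) (.leaf 0x542346234346423432)))))) (.node 16 (.node 8 (.node 4 (.node 2 (.node 1 (.leaf 0x4347543423465432) (.leaf 0x47623434234723432)) (.node 1 (.leaf 0x45234634234623432) (.leaf 0x5474534634234623432))) (.node 2 (.node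 1 (.leaf 0x47343462343475423432) (.leaf 0x734534723453423432)) (.node 1 (.leaf 0x346452347342347123432) (.leaf 0x642347643423476432)))) (.node 4 (.node 2 (.node 1 (.leaf 0x54734234347423432) (.leaf 0x654734612343423432)) (.node 1 (.leaf 0x465423464342346423432) (.leaf 0x43423453465423432))) (.node 2 (.node 1 (.leaf 0x2347345434234653432) (.leaf 0x123473434234623432)) (.node 1 (.leaf 0x234634342346423432) (.leaf 0x23463434234753432))))) (.node 8 (.node 4 (.node 2 (.node 1 (.leaf 0x43423476453432) (.leaf 0x347452346345234623432)) (.node 1 (.leaf 0x47534634234723432) (.leaf 0x474534234234623432))) (.node 2 (.node 1 (.leaf 0x46473434234653432) (.leaf 0x653476434123467432)) (.node 1 (.leaf 0x7342346234234623432) (.leaf 0x534347454234623432)))) (.node 4 (.node 2 (.node 1 (.leaf 0x5347346343423463432) (.leaf 0x64234674345423463432)) (.node 1 (.leaf 0x6474345234723432) (.leaf 0x45342347643423467432))) (.node 2 (.node 1 (.leaf 0x6234734123467432)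 (.leaf 0x543454234623432)) (.node 1 (.leaf 0x4347453423467432) (.leaf 0x74543473423463432))))))) (.node 32 (.node 16 (.node 8 (.node 4 (.node 2 (.node 1 (.leaf 0x74534674234723432) (.leaf 0x74342342346123432)) (.node 1 (.leaf 0x2346543423463423432) (.leaf 0x23463434623432))) (.node 2 (.node 1 (.leaf 0x63454341234723432) (.leaf 0x64764234723432)) (.node 1 (.leaf 0x7454343423463432) (.leaf 0x6743462342346123432)))) (.node 4 (.node 2 (.node 1 (.leaf 0x7345423475423432) (.leaf 0x345343423463432)) (.node 1 (.leaf 0x43476434234753432) (.leaf 0x67453473423463432))) (.node 2 (.node 1 (.leaf 0x4523475423432) (.leaf 0x547643423476432)) (.node 1 (.leaf 0x74634723465423432) (.leaf 0x54674634123467432))))) (.node 8 (.node 4 (.node 2 (.node 1 (.leaf 0x623475434123432) (.leaf 0x347453432)) (.node 1 (.leaf 0x642347542347123432) (.leaf 0x546434723465432))) (.node 2 (.node 1 (.leaf 0x23464234346423432) (.leaf 0x523465434123432)) (.node 1 (.leaf 0x64543432)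 (.leaf 0x34734543423467432)))) (.node 4 (.node 2 (.node 1 (.leaf 0x543453423463423432) (.leaf 0x347453423475423432)) (.node 1 (.leaf 0x763473423467423432) (.leaf 0x63453473423463432))) (.node 2 (.node 1 (.leaf 0x76434346423432) (.leaf 0x347453463423473432)) (.node 1 (.leaf 0x2347434123463432) (.leaf 0x4734643423476432)))))) (.node 16 (.node 8 (.node 4 (.node 2 (.node 1 (.leaf 0x64341234634123432) (.leaf 0x34734523465423432)) (.node 1 (.leaf 0x453473434234723432) (.leaf 0x54674347123432))) (.node 2 (.node 1 (.leaf 0x546734652343423432) (.leaf 0x453474341234623432)) (.node 1 (.leaf 0x46341234234653432) (.leaf 0x4542347342347123432)))) (.node 4 (.node 2 (.node 1 (.leaf 0x652343462343423432) (.leaf 0x6343475342346123432)) (.node 1 (.leaf 0x2347643452347643432) (.leaf 0x67342346123432))) (.node 2 (.node 1 (.leaf 0x623423472343423432) (.leaf 0x43454234234653432)) (.node 1 (.leaf 0x34745343423473432) (.leaf 0x6734234634123432))))) (.node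 8 (.node 4 (.node 2 (.node 1 (.leaf 0x6453473463423467432) (.leaf 0x47346534123476432)) (.node 1 (.leaf 0x752342347123432) (.leaf 0x645434123476432))) (.node 2 (.node 1 (.leaf 0x734234764123432) (.leaf 0x6534347542346123432)) (.node 1 (.leaf 0x23472345346423432) (.leaf 0x76472346343423463432)))) (.node 4 (.node 2 (.node 1 (.leaf 0x47342346123432) (.leaf 0x434634234723432)) (.node 1 (.leaf 0x5234745343423467432) (.leaf 0x64534342346423432))) (.node 2 (.node 1 (.leaf 0x63453463423476432) (.leaf 0x5434123476432)) (.node 1 (.leaf 0x4754234234623432) (.leaf 0x465434123476432)))))))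

def classATree_95 : Tree :=
  .node 64 (.node 32 (.node 16 (.node 8 (.node 4 (.node 2 (.node 1 (.leaf 0x7234654234123463432) (.leaf 0x34654234234743432)) (.node 1 (.leaf 0x123465434123463432) (.leaf 0x754347434123463432))) (.node 2 (.node 1 (.leaf 0x523472345234723432) (.leaf 0x7345342347423432)) (.node 1 (.leaf 0x4342345347423432) (.leaf 0x47523463423463432)))) (.node 4 (.node 2 (.node 1 (.leaf 0x7453467434123463432) (.leaf 0x742345341234623432)) (.node 1 (.leaf 0x4234734634234753432) (.leaf 0x434654342346123432))) (.node 2 (.node 1 (.leaf 0x4742346743423476432) (.leaf 0x471234346454234723432)) (.node 1 (.leaf 0x3423462343423432) (.leaf 0x476423465342346423432))))) (.node 8 (.node 4 (.node 2 (.node 1 (.leaf 0x4234647453423467432) (.leaf 0x7423453463423432)) (.node 1 (.leaf 0x634752343423463432) (.leaf 0x67434234234623432))) (.node 2 (.node 1 (.leaf 0x45341234234653432) (.leaf 0x4742341234234723432)) (.node 1 (.leaf 0x53473463452346423432)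 (.leaf 0x67434234723432)))) (.node 4 (.node 2 (.node 1 (.leaf 0x634746434123476432) (.leaf 0x34734234123463432)) (.node 1 (.leaf 0x343412347345234723432) (.leaf 0x5234643423476432))) (.node 2 (.node 1 (.leaf 0x1234634123463432) (.leaf 0x3472345234723432)) (.node 1 (.leaf 0x61234723434234723432) (.leaf 0x61234734123467432)))))) (.node 16 (.node 8 (.node 4 (.node 2 (.node 1 (.leaf 0x745434734123463432) (.leaf 0x53434623434123432)) (.node 1 (.leaf 0x43453423467423432) (.leaf 0x454342346123432))) (.node 2 (.node 1 (.leaf 0x54673423463423432) (.leaf 0x5347341234723432)) (.node 1 (.leaf 0x1234734123432) (.leaf 0x674343423463432)))) (.node 4 (.node 2 (.node 1 (.leaf 0x4742346341234623432) (.leaf 0x234764345234623432)) (.node 1 (.leaf 0x53465434123467432) (.leaf 0x65434623434123432))) (.node 2 (.node 1 (.leaf 0x743463434523473432) (.leaf 0x7434346472343423432)) (.node 1 (.leaf 0x5476434123476432) (.leaf 0x746541234723432))))) (.node 8 (.node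 4 (.node 2 (.node 1 (.leaf 0x6123475434123473432) (.leaf 0x74534653432)) (.node 1 (.leaf 0x6542347542347123432) (.leaf 0x47453432))) (.node 2 (.node 1 (.leaf 0x6234745434723432) (.leaf 0x23465434123432)) (.node 1 (.leaf 0x43453423463423432) (.leaf 0x764234234743432)))) (.node 4 (.node 2 (.node 1 (.leaf 0x43465423463423432) (.leaf 0x54347534123476432)) (.node 1 (.leaf 0x47453434623476432) (.leaf 0x234654345234623432))) (.node 2 (.node 1 (.leaf 0x64754345234623432) (.leaf 0x452347234234723432)) (.node 1 (.leaf 0x746434123467432) (.leaf 0x64345423463423432))))))) (.node 32 (.node 16 (.node 8 (.node 4 (.node 2 (.node 1 (.leaf 0x76473423476432) (.leaf 0x654341234623432)) (.node 1 (.leaf 0x6347453434123463432) (.leaf 0x46742347643423467432))) (.node 2 (.node 1 (.leaf 0x345347434234623432) (.leaf 0x4745341234723432)) (.node 1 (.leaf 0x23465434123473432) (.leaf 0x4612342346123432)))) (.node 4 (.node 2 (.node 1 (.leaf 0x34645347342347123432)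 (.leaf 0x723463434234623432)) (.node 1 (.leaf 0x434742345346423432) (.leaf 0x4347645341234623432))) (.node 2 (.node 1 (.leaf 0x6343465423467432) (.leaf 0x753434234534723432)) (.node 1 (.leaf 0x74654347423432) (.leaf 0x4341234734123432))))) (.node 8 (.node 4 (.node 2 (.node 1 (.leaf 0x4764346534234623432) (.leaf 0x47453434123463432)) (.node 1 (.leaf 0x643453472343423432) (.leaf 0x647345234234623432))) (.node 2 (.node 1 (.leaf 0x34346234234623432) (.leaf 0x746347234346123432)) (.node 1 (.leaf 0x4623434123473432) (.leaf 0x746347423432)))) (.node 4 (.node 2 (.node 1 (.leaf 0x7453465341234623432) (.leaf 0x67343474543423463432)) (.node 1 (.leaf 0x3475434234653432) (.leaf 0x534754234234653432))) (.node 2 (.node 1 (.leaf 0x34742346341234623432) (.leaf 0x45347643423467432)) (.node 1 (.leaf 0x65434123463423432) (.leaf 0x74534234674123432)))))) (.node 16 (.node 8 (.node 4 (.node 2 (.node 1 (.leaf 0x47634534234723432) (.leaf 0x75463423473432))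 (.node 1 (.leaf 0x5467343472343423432) (.leaf 0x34653434234723432))) (.node 2 (.node 1 (.leaf 0x4734234234623432) (.leaf 0x5343423467423432)) (.node 1 (.leaf 0x2347123462343423432) (.leaf 0x74634123473432)))) (.node 4 (.node 2 (.node 1 (.leaf 0x734346434234723432) (.leaf 0x534654343423473432)) (.node 1 (.leaf 0x4234123473432) (.leaf 0x76473434523463432))) (.node 2 (.node 1 (.leaf 0x467434634123463432) (.leaf 0x4634123473432)) (.node 1 (.leaf 0x12347543423473432) (.leaf 0x4543423475432))))) (.node 8 (.node 4 (.node 2 (.node 1 (.leaf 0x23474543423432) (.leaf 0x4712346343423463432)) (.node 1 (.leaf 0x65434634123473432) (.leaf 0x76475343423463432))) (.node 2 (.node 1 (.leaf 0x41234234234753432) (.leaf 0x34642347342347423432)) (.node 1 (.leaf 0x7234234523473432) (.leaf 0x23434234123463423432)))) (.node 4 (.node 2 (.node 1 (.leaf 0x2347454234234753432) (.leaf 0x12343463472343423432)) (.node 1 (.leaf 0x34347434523463432) (.leaf 0x734234643423467432)))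 (.node 2 (.node 1 (.leaf 0x343423423475432) (.leaf 0x34654234723432)) (.node 1 (.leaf 0x2343423423475432) (.leaf 0x6342345346123432)))))))

def classATree_96 : Tree :=
  .node 64 (.node 32 (.node 16 (.node 8 (.node 4 (.node 2 (.node 1 (.leaf 0x75467453423463432) (.leaf 0x7346454234723432)) (.node 1 (.leaf 0x3423473434123473432) (.leaf 0x762342347123432))) (.node 2 (.node 1 (.leaf 0x234753423432) (.leaf 0x4674234123463432)) (.node 1 (.leaf 0x347642342346123432) (.leaf 0x7346534723453423432)))) (.node 4 (.node 2 (.node 1 (.leaf 0x34654762343423432) (.leaf 0x7234523475423432)) (.node 1 (.leaf 0x34654345423473432) (.leaf 0x3464234734234723432))) (.node 2 (.node 1 (.leaf 0x234743423432) (.leaf 0x2341234234753432)) (.node 1 (.leaf 0x746123472343423432) (.leaf 0x72343423473432))))) (.node 8 (.node 4 (.node 2 (.node 1 (.leaf 0x7643463423473432) (.leaf 0x54742346343423463432)) (.node 1 (.leaf 0x7643462342346123432) (.leaf 0x2347434634234643432)))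 (.node 2 (.node 1 (.leaf 0x23423475423432) (.leaf 0x12346742347123432)) (.node 1 (.leaf 0x62341234723432) (.leaf 0x2347534634234643432)))) (.node 4 (.node 2 (.node 1 (.leaf 0x6734347643423463432) (.leaf 0x346234347342347123432)) (.node 1 (.leaf 0x465473452347423432) (.leaf 0x54623472343423432))) (.node 2 (.node 1 (.leaf 0x673465434234753432) (.leaf 0x23453423473432)) (.node 1 (.leaf 0x746543432) (.leaf 0x5434653423475432)))))) (.node 16 (.node 8 (.node 4 (.node 2 (.node 1 (.leaf 0x54734347123432) (.leaf 0x4764534234653432)) (.node 1 (.leaf 0x5434653432) (.leaf 0x654347543423463432))) (.node 2 (.node 1 (.leaf 0x65234734234623432) (.leaf 0x743476423432)) (.node 1 (.leaf 0x54673453423432) (.leaf 0x547346343423463432)))) (.node 4 (.node 2 (.node 1 (.leaf 0x6423463423473432) (.leaf 0x634234523463432)) (.node 1 (.leaf 0x5234754343423463432) (.leaf 0x64764346123432))) (.node 2 (.node 1 (.leaf 0x74234743423463432) (.leaf 0x6412343423463432))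 (.node 1 (.leaf 0x46743476423464123432) (.leaf 0x546347234346123432))))) (.node 8 (.node 4 (.node 2 (.node 1 (.leaf 0x4543423474123432) (.leaf 0x74654342346423432)) (.node 1 (.leaf 0x54734634234623432) (.leaf 0x234342341234623432))) (.node 2 (.node 1 (.leaf 0x753434723432) (.leaf 0x6434654347423432)) (.node 1 (.leaf 0x234346745343423432) (.leaf 0x62343423476432)))) (.node 4 (.node 2 (.node 1 (.leaf 0x6123434123463423432) (.leaf 0x64763434234623432)) (.node 1 (.leaf 0x547463423453423432) (.leaf 0x74347643423467432))) (.node 2 (.node 1 (.leaf 0x546745343423432) (.leaf 0x7343467452343423432)) (.node 1 (.leaf 0x45346452343423476432) (.leaf 0x347454341234723432))))))) (.node 32 (.node 16 (.node 8 (.node 4 (.node 2 (.node 1 (.leaf 0x734654734123476432) (.leaf 0x476453423475423432)) (.node 1 (.leaf 0x7534346542346423432) (.leaf 0x4673465434234643432))) (.node 2 (.node 1 (.leaf 0x47645342345346423432) (.leaf 0x34534734234653432)) (.node 1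 (.leaf 0x546712343423432) (.leaf 0x645434764234623432)))) (.node 4 (.node 2 (.node 1 (.leaf 0x454346342346123432) (.leaf 0x7341234234723432)) (.node 1 (.leaf 0x73467434123476432) (.leaf 0x7465434623432))) (.node 2 (.node 1 (.leaf 0x46341234234623432) (.leaf 0x42345342347123432)) (.node 1 (.leaf 0x54342346745343423432) (.leaf 0x54346543423475432))))) (.node 8 (.node 4 (.node 2 (.node 1 (.leaf 0x542346454234623432) (.leaf 0x74234347542346123432)) (.node 1 (.leaf 0x6473434234623432) (.leaf 0x546234734234723432))) (.node 2 (.node 1 (.leaf 0x74642347343423463432) (.leaf 0x534654343423463432)) (.node 1 (.leaf 0x464534734234723432) (.leaf 0x643474643423476432)))) (.node 4 (.node 2 (.node 1 (.leaf 0x64234653423476432) (.leaf 0x534342346347423432)) (.node 1 (.leaf 0x67234342346347423432) (.leaf 0x74123462342346123432))) (.node 2 (.node 1 (.leaf 0x5476473423476432) (.leaf 0x6474341234723432)) (.node 1 (.leaf 0x746743475423467432) (.leaf 0x423475463452343423432))))))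 (.node 16 (.node 8 (.node 4 (.node 2 (.node 1 (.leaf 0x34647434123467432) (.leaf 0x64234723434234643432)) (.node 1 (.leaf 0x62343423476423432) (.leaf 0x734674234723432))) (.node 2 (.node 1 (.leaf 0x4634764234623432) (.leaf 0x64234234123473432)) (.node 1 (.leaf 0x4643473453423463432) (.leaf 0x6454346123434123432)))) (.node 4 (.node 2 (.node 1 (.leaf 0x4523473452347423432) (.leaf 0x547623434123432)) (.node 1 (.leaf 0x452346743423467432) (.leaf 0x674534634123473432))) (.node 2 (.node 1 (.leaf 0x5423463423473432) (.leaf 0x34346543423473432)) (.node 1 (.leaf 0x4654345234623432) (.leaf 0x643476473423467432))))) (.node 8 (.node 4 (.node 2 (.node 1 (.leaf 0x743452343464123432) (.leaf 0x754234234623432)) (.node 1 (.leaf 0x423467453423463432) (.leaf 0x34674634123476432))) (.node 2 (.node 1 (.leaf 0x7542345346423432) (.leaf 0x7623434523473432)) (.node 1 (.leaf 0x546342346743423476432) (.leaf 0x642346434123463432)))) (.node 4 (.node 2 (.node 1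 (.leaf 0x343464543423473432) (.leaf 0x7463423475423432)) (.node 1 (.leaf 0x543475462343423432) (.leaf 0x46347642346423432))) (.node 2 (.node 1 (.leaf 0x54234753423432) (.leaf 0x76434643423463432)) (.node 1 (.leaf 0x754674345423463432) (.leaf 0x46234234754123432)))))))

def classATree_97 : Tree :=
  .node 64 (.node 32 (.node 16 (.node 8 (.node 4 (.node 2 (.node 1 (.leaf 0x43423467434123432) (.leaf 0x72346454346123432)) (.node 1 (.leaf 0x7464543423475432) (.leaf 0x54674342347423432))) (.node 2 (.node 1 (.leaf 0x7643476472343423432) (.leaf 0x46234346542347123432)) (.node 1 (.leaf 0x6723434643423473432) (.leaf 0x6743473423463432)))) (.node 4 (.node 2 (.node 1 (.leaf 0x623474343423473432) (.leaf 0x6743465234234623432)) (.node 1 (.leaf 0x75423473423432) (.leaf 0x7234654345423473432))) (.node 2 (.node 1 (.leaf 0x674534634234723432) (.leaf 0x46745346342346123432)) (.node 1 (.leaf 0x4734123463432) (.leaf 0x4734647434234643432))))) (.node 8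 (.node 4 (.node 2 (.node 1 (.leaf 0x72341234634234623432) (.leaf 0x2341234234653432)) (.node 1 (.leaf 0x423467423432) (.leaf 0x5464234523465423432))) (.node 2 (.node 1 (.leaf 0x6734342342346423432) (.leaf 0x473467434123476432)) (.node 1 (.leaf 0x346534752343423432) (.leaf 0x34654234523463432)))) (.node 4 (.node 2 (.node 1 (.leaf 0x74234723463423467432) (.leaf 0x75423473423463432)) (.node 1 (.leaf 0x7542347342347123432) (.leaf 0x46523434723467432))) (.node 2 (.node 1 (.leaf 0x4645434612343423432) (.leaf 0x674342347423432)) (.node 1 (.leaf 0x54743412347423432) (.leaf 0x46543423473432)))))) (.node 16 (.node 8 (.node 4 (.node 2 (.node 1 (.leaf 0x46347454234623432) (.leaf 0x46234523465423432)) (.node 1 (.leaf 0x74342345346123432) (.leaf 0x4634523465423432))) (.node 2 (.node 1 (.leaf 0x465434754234623432) (.leaf 0x3423476453423467432)) (.node 1 (.leaf 0x23423465423432) (.leaf 0x3423473434123463432)))) (.node 4 (.node 2 (.node 1 (.leaf 0x7641234234723432)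 (.leaf 0x63423465341234623432)) (.node 1 (.leaf 0x746123423475423432) (.leaf 0x476343454234623432))) (.node 2 (.node 1 (.leaf 0x434623434123432) (.leaf 0x463474542346423432)) (.node 1 (.leaf 0x7647234234723432) (.leaf 0x12345346543423473432))))) (.node 8 (.node 4 (.node 2 (.node 1 (.leaf 0x4734234234643432) (.leaf 0x234654346123432)) (.node 1 (.leaf 0x4742346542346123432) (.leaf 0x4123473423463432))) (.node 2 (.node 1 (.leaf 0x412347342347123432) (.leaf 0x623412346345234623432)) (.node 1 (.leaf 0x643434234346423432) (.leaf 0x47342347423432)))) (.node 4 (.node 2 (.node 1 (.leaf 0x6454347343423473432) (.leaf 0x645346341234723432)) (.node 1 (.leaf 0x75465434123473432) (.leaf 0x546234234234753432))) (.node 2 (.node 1 (.leaf 0x3434754234523463432) (.leaf 0x643462345234623432)) (.node 1 (.leaf 0x734347434234653432) (.leaf 0x43474234634234623432))))))) (.node 32 (.node 16 (.node 8 (.node 4 (.node 2 (.node 1 (.leaf 0x3464712343423432) (.leaf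 0x467434754123476432)) (.node 1 (.leaf 0x2346543412346423432) (.leaf 0x4123473423432))) (.node 2 (.node 1 (.leaf 0x6123434643423473432) (.leaf 0x6434734123463432)) (.node 1 (.leaf 0x746743412347423432) (.leaf 0x4234674345423463432)))) (.node 4 (.node 2 (.node 1 (.leaf 0x42346745341234723432) (.leaf 0x654234234723432)) (.node 1 (.leaf 0x463434234634123432) (.leaf 0x54345234346123432))) (.node 2 (.node 1 (.leaf 0x654346542347123432) (.leaf 0x47643452343423432)) (.node 1 (.leaf 0x54743423463432) (.leaf 0x5474346723434123432))))) (.node 8 (.node 4 (.node 2 (.node 1 (.leaf 0x342346342346423432) (.leaf 0x423464234234723432)) (.node 1 (.leaf 0x634234634234753432) (.leaf 0x4623475412346423432))) (.node 2 (.node 1 (.leaf 0x3476434234723432) (.leaf 0x7234234523463432)) (.node 1 (.leaf 0x612347343423473432) (.leaf 0x473423463434234743432)))) (.node 4 (.node 2 (.node 1 (.leaf 0x764754342347423432) (.leaf 0x754346123434123432)) (.node 1 (.leaf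 0x234743465423432) (.leaf 0x643412347423432))) (.node 2 (.node 1 (.leaf 0x6423474342347123432) (.leaf 0x5472341234723432)) (.node 1 (.leaf 0x3474346342346123432) (.leaf 0x23465434523473432)))))) (.node 16 (.node 8 (.node 4 (.node 2 (.node 1 (.leaf 0x346543432) (.leaf 0x43423465432)) (.node 1 (.leaf 0x746234234643432) (.leaf 0x23472343473423432))) (.node 2 (.node 1 (.leaf 0x453473423465432) (.leaf 0x6342346743423432)) (.node 1 (.leaf 0x4346534723453423432) (.leaf 0x4347343423473432)))) (.node 4 (.node 2 (.node 1 (.leaf 0x46434764234623432) (.leaf 0x3434754123432)) (.node 1 (.leaf 0x642341234723432) (.leaf 0x61234234723432))) (.node 2 (.node 1 (.leaf 0x67342346534234623432) (.leaf 0x46473462343423432)) (.node 1 (.leaf 0x65434123473432) (.leaf 0x547234123432))))) (.node 8 (.node 4 (.node 2 (.node 1 (.leaf 0x12343473423432) (.leaf 0x4345234734123432)) (.node 1 (.leaf 0x542347642346123432) (.leaf 0x623434723467432))) (.node 2 (.node 1 (.leaf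 0x4654234234753432) (.leaf 0x7412346423432)) (.node 1 (.leaf 0x734523434723432) (.leaf 0x6234347462343423432)))) (.node 4 (.node 2 (.node 1 (.leaf 0x123463453423473432) (.leaf 0x6123434723467432)) (.node 1 (.leaf 0x46534234654123432) (.leaf 0x3434723467432))) (.node 2 (.node 1 (.leaf 0x346543473423463432) (.leaf 0x73452347643423476432)) (.node 1 (.leaf 0x464234523465423432) (.leaf 0x4654234764234623432)))))))

def classATree_98 : Tree :=
  .node 64 (.node 32 (.node 16 (.node 8 (.node 4 (.node 2 (.node 1 (.leaf 0x46723462343423432) (.leaf 0x5347642346123432)) (.node 1 (.leaf 0x434534734123432) (.leaf 0x34534674234623432))) (.node 2 (.node 1 (.leaf 0x4342347343423473432) (.leaf 0x341234652343423476432)) (.node 1 (.leaf 0x523434723467432) (.leaf 0x34653434123476432)))) (.node 4 (.node 2 (.node 1 (.leaf 0x54234234234653432) (.leaf 0x61234234234653432)) (.node 1 (.leaf 0x412342347123432) (.leaf 0x7423474534234723432))) (.node 2 (.node 1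 (.leaf 0x673462343423432) (.leaf 0x34653423475423432)) (.node 1 (.leaf 0x54234234753432) (.leaf 0x34523463423432))))) (.node 8 (.node 4 (.node 2 (.node 1 (.leaf 0x5346742347123432) (.leaf 0x75463434234623432)) (.node 1 (.leaf 0x5346234342347123432) (.leaf 0x73434123463432))) (.node 2 (.node 1 (.leaf 0x534674234723432) (.leaf 0x647534623453423432)) (.node 1 (.leaf 0x34347534234723432) (.leaf 0x73452347423432)))) (.node 4 (.node 2 (.node 1 (.leaf 0x674234654234623432) (.leaf 0x6723463423464123432)) (.node 1 (.leaf 0x6474345234346423432) (.leaf 0x73453423463432))) (.node 2 (.node 1 (.leaf 0x347123434623476432) (.leaf 0x634234734123476432)) (.node 1 (.leaf 0x4234745342346123432) (.leaf 0x4346734234653432)))))) (.node 16 (.node 8 (.node 4 (.node 2 (.node 1 (.leaf 0x64753463412346423432) (.leaf 0x534347342347123432)) (.node 1 (.leaf 0x54753463412346423432) (.leaf 0x634347342347123432))) (.node 2 (.node 1 (.leaf 0x7345347342347123432) (.leaf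 0x3412347423432)) (.node 1 (.leaf 0x5463434234623432) (.leaf 0x75346742347123432)))) (.node 4 (.node 2 (.node 1 (.leaf 0x5463473453423463432) (.leaf 0x742342347423432)) (.node 1 (.leaf 0x23464534123476432) (.leaf 0x23465434123476432))) (.node 2 (.node 1 (.leaf 0x7543423476434123432) (.leaf 0x67453473423465432)) (.node 1 (.leaf 0x543452346743423432) (.leaf 0x467434734123463432))))) (.node 8 (.node 4 (.node 2 (.node 1 (.leaf 0x34534234753432) (.leaf 0x74523434634234623432)) (.node 1 (.leaf 0x74634234623432) (.leaf 0x46343465423476432))) (.node 2 (.node 1 (.leaf 0x673463473423463432) (.leaf 0x546523473423463432)) (.node 1 (.leaf 0x473423463423432) (.leaf 0x54234234234723432)))) (.node 4 (.node 2 (.node 1 (.leaf 0x6547342345346423432) (.leaf 0x346234342346347423432)) (.node 1 (.leaf 0x4534643423463432) (.leaf 0x23464743423467432))) (.node 2 (.node 1 (.leaf 0x234754234234723432) (.leaf 0x1234753463423463432)) (.node 1 (.leaf 0x23463453423473432)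 (.leaf 0x6423473434234743432))))))) (.node 32 (.node 16 (.node 8 (.node 4 (.node 2 (.node 1 (.leaf 0x623434234723432) (.leaf 0x64234734123432)) (.node 1 (.leaf 0x746543452347643432) (.leaf 0x523463473452347423432))) (.node 2 (.node 1 (.leaf 0x541234734234723432) (.leaf 0x64754343423463432)) (.node 1 (.leaf 0x475434123476432) (.leaf 0x47346743423476432)))) (.node 4 (.node 2 (.node 1 (.leaf 0x434634734234623432) (.leaf 0x343423453465423432)) (.node 1 (.leaf 0x6475434234723432) (.leaf 0x34234234653432))) (.node 2 (.node 1 (.leaf 0x4234764234523473432) (.leaf 0x23463453423432)) (.node 1 (.leaf 0x6423463423476432) (.leaf 0x6746742347123432))))) (.node 8 (.node 4 (.node 2 (.node 1 (.leaf 0x475434634234623432) (.leaf 0x3464534123476432)) (.node 1 (.leaf 0x53472346342346123432) (.leaf 0x67453434234753432))) (.node 2 (.node 1 (.leaf 0x75412346743423476432) (.leaf 0x346345342346423432)) (.node 1 (.leaf 0x3473454234623432) (.leaf 0x5434674345423463432))))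 (.node 4 (.node 2 (.node 1 (.leaf 0x47342346343423463432) (.leaf 0x6454346743423467432)) (.node 1 (.leaf 0x3462343423432) (.leaf 0x5473434623434123432))) (.node 2 (.node 1 (.leaf 0x47546234123476432) (.leaf 0x76434523476423432)) (.node 1 (.leaf 0x3453423463432) (.leaf 0x346543463423463432)))))) (.node 16 (.node 8 (.node 4 (.node 2 (.node 1 (.leaf 0x6534753423467432) (.leaf 0x763473423467432)) (.node 1 (.leaf 0x7465434123473432) (.leaf 0x234342346123432))) (.node 2 (.node 1 (.leaf 0x472345234723432) (.leaf 0x47543473423467432)) (.node 1 (.leaf 0x472346341234643432) (.leaf 0x434234634123432)))) (.node 4 (.node 2 (.node 1 (.leaf 0x641234623432) (.leaf 0x234764534234753432)) (.node 1 (.leaf 0x47543464342346423432) (.leaf 0x2346123434234623432))) (.node 2 (.node 1 (.leaf 0x534743452347423432) (.leaf 0x643464123432)) (.node 1 (.leaf 0x4347643472343423432) (.leaf 0x7434674343423463432))))) (.node 8 (.node 4 (.node 2 (.node 1 (.leaf 0x3454346743423463432)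 (.leaf 0x434674534234723432)) (.node 1 (.leaf 0x734523434123467432) (.leaf 0x34523434523463432))) (.node 2 (.node 1 (.leaf 0x723453475423432) (.leaf 0x434674534123476432)) (.node 1 (.leaf 0x23434674234623432) (.leaf 0x61234347342347123432)))) (.node 4 (.node 2 (.node 1 (.leaf 0x76434764534234623432) (.leaf 0x742347645234623432)) (.node 1 (.leaf 0x47234123432) (.leaf 0x6434123473432))) (.node 2 (.node 1 (.leaf 0x54341234734234723432) (.leaf 0x434654343423473432)) (.node 1 (.leaf 0x712342346342346123432) (.leaf 0x75434346542346123432)))))))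

def classATree_99 : Tree :=
  .node 64 (.node 32 (.node 16 (.node 8 (.node 4 (.node 2 (.node 1 (.leaf 0x753434123476432) (.leaf 0x7434534612343423432)) (.node 1 (.leaf 0x74534653434234653432) (.leaf 0x534753463423463432))) (.node 2 (.node 1 (.leaf 0x43472343465423432) (.leaf 0x723434523473432)) (.node 1 (.leaf 0x47346343423473432) (.leaf 0x346543463423473432)))) (.node 4 (.node 2 (.node 1 (.leaf 0x7341234634234623432) (.leaf 0x534723434234723432)) (.node 1 (.leaf 0x3412347343423463432) (.leaf 0x345234234523473432))) (.node 2 (.node 1 (.leaf 0x723434123432) (.leaf 0x234764234123473432)) (.node 1 (.leaf 0x7534347123434123432) (.leaf 0x753462342346123432))))) (.node 8 (.node 4 (.node 2 (.node 1 (.leaf 0x7234634123463432) (.leaf 0x34654346342346423432)) (.node 1 (.leaf 0x64523473423474123432) (.leaf 0x734534653423463432))) (.node 2 (.node 1 (.leaf 0x4543463432) (.leaf 0x623475463423467432)) (.node 1 (.leaf 0x3453473423465432) (.leaf 0x547643432))))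 (.node 4 (.node 2 (.node 1 (.leaf 0x467434234754123432) (.leaf 0x476434523463432)) (.node 1 (.leaf 0x65434653423432) (.leaf 0x5476343423473423432))) (.node 2 (.node 1 (.leaf 0x46745342345347423432) (.leaf 0x6123434234623432)) (.node 1 (.leaf 0x45434634234623432) (.leaf 0x54346534234753432)))))) (.node 16 (.node 8 (.node 4 (.node 2 (.node 1 (.leaf 0x54763434234723432) (.leaf 0x746347642346123432)) (.node 1 (.leaf 0x47643452343464123432) (.leaf 0x6434723453423467432))) (.node 2 (.node 1 (.leaf 0x546743453423432) (.leaf 0x746454346123432)) (.node 1 (.leaf 0x612343423463423432) (.leaf 0x623434123476432)))) (.node 4 (.node 2 (.node 1 (.leaf 0x473465434234643432) (.leaf 0x654347645234623432)) (.node 1 (.leaf 0x64234634123473432) (.leaf 0x74346523434623432))) (.node 2 (.node 1 (.leaf 0x54347534652343423432) (.leaf 0x742347434123463432)) (.node 1 (.leaf 0x54634723434623432) (.leaf 0x65434754234623432))))) (.node 8 (.node 4 (.node 2 (.node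 1 (.leaf 0x465342341234623432) (.leaf 0x734534723432)) (.node 1 (.leaf 0x634234734123463432) (.leaf 0x4763423472343423432))) (.node 2 (.node 1 (.leaf 0x64346543474123432) (.leaf 0x234347645343423432)) (.node 1 (.leaf 0x734346542346123432) (.leaf 0x2343452342346123432)))) (.node 4 (.node 2 (.node 1 (.leaf 0x4743465423432) (.leaf 0x453467434123467432)) (.node 1 (.leaf 0x5476343423432) (.leaf 0x543412347423432))) (.node 2 (.node 1 (.leaf 0x5476234234123432) (.leaf 0x54346534234623432)) (.node 1 (.leaf 0x75342341234723432) (.leaf 0x654347642346423432))))))) (.node 32 (.node 16 (.node 8 (.node 4 (.node 2 (.node 1 (.leaf 0x3453473423473423432) (.leaf 0x5423453423473432)) (.node 1 (.leaf 0x64764534623432) (.leaf 0x54764342347423432))) (.node 2 (.node 1 (.leaf 0x234634234523463432) (.leaf 0x2346454234234653432)) (.node 1 (.leaf 0x7534674234723432) (.leaf 0x46434543423463432)))) (.node 4 (.node 2 (.node 1 (.leaf 0x642346543423463432) (.leaf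 0x67434753423465432)) (.node 1 (.leaf 0x343452347643423432) (.leaf 0x6741234634234623432))) (.node 2 (.node 1 (.leaf 0x546743412347423432) (.leaf 0x473464743423463432)) (.node 1 (.leaf 0x234634234123473432) (.leaf 0x67434534234753432))))) (.node 8 (.node 4 (.node 2 (.node 1 (.leaf 0x64234764534234623432) (.leaf 0x5234734653423463432)) (.node 1 (.leaf 0x546734674234723432) (.leaf 0x6423473423432))) (.node 2 (.node 1 (.leaf 0x6734346534234623432) (.leaf 0x5347341234623432)) (.node 1 (.leaf 0x53434234753432) (.leaf 0x474543423476432)))) (.node 4 (.node 2 (.node 1 (.leaf 0x64234753423467432) (.leaf 0x67452347643423476432)) (.node 1 (.leaf 0x54674341234723432) (.leaf 0x5434634234754123432))) (.node 2 (.node 1 (.leaf 0x754654234234753432) (.leaf 0x72343473462343423432)) (.node 1 (.leaf 0x475234342347423432) (.leaf 0x34234734234754123432)))))) (.node 16 (.node 8 (.node 4 (.node 2 (.node 1 (.leaf 0x46341234623432) (.leaf 0x754234643423473432))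 (.node 1 (.leaf 0x43423463423432) (.leaf 0x2347541234234723432))) (.node 2 (.node 1 (.leaf 0x634234723463423467432) (.leaf 0x754123473423463432)) (.node 1 (.leaf 0x434234653423476432) (.leaf 0x434645342347423432)))) (.node 4 (.node 2 (.node 1 (.leaf 0x74542346342346423432) (.leaf 0x5346123434123432)) (.node 1 (.leaf 0x71234346472343423432) (.leaf 0x674674234723432))) (.node 2 (.node 1 (.leaf 0x434723463423467432) (.leaf 0x642343423473432)) (.node 1 (.leaf 0x6434723434234643432) (.leaf 0x234647434123467432))))) (.node 8 (.node 4 (.node 2 (.node 1 (.leaf 0x5346434123476432) (.leaf 0x645347341234723432)) (.node 1 (.leaf 0x3454234234653432) (.leaf 0x62343423467423432))) (.node 2 (.node 1 (.leaf 0x434346542347123432) (.leaf 0x4346453423463432)) (.node 1 (.leaf 0x5423472342347123432) (.leaf 0x54723453423432)))) (.node 4 (.node 2 (.node 1 (.leaf 0x75342346434234643432) (.leaf 0x6543412346423432)) (.node 1 (.leaf 0x654347534234723432) (.leaf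 0x754347123434123432))) (.node 2 (.node 1 (.leaf 0x3434234734234653432) (.leaf 0x5343463434234753432)) (.node 1 (.leaf 0x123463472343423432) (.leaf 0x23434123463432)))))))

def classATree_100 : Tree :=
  .node 64 (.node 32 (.node 16 (.node 8 (.node 4 (.node 2 (.node 1 (.leaf 0x3412346434234643432) (.leaf 0x434234734534234753432)) (.node 1 (.leaf 0x23412346434234643432) (.leaf 0x76473423453423432))) (.node 2 (.node 1 (.leaf 0x654734234234123432) (.leaf 0x65473452343423432)) (.node 1 (.leaf 0x234347434523463432) (.leaf 0x476423463423432)))) (.node 4 (.node 2 (.node 1 (.leaf 0x754634723434123432) (.leaf 0x7643475341234723432)) (.node 1 (.leaf 0x6452347343423473432) (.leaf 0x47343423476432))) (.node 2 (.node 1 (.leaf 0x523475434123463432) (.leaf 0x46347123434123432)) (.node 1 (.leaf 0x434723434123463432) (.leaf 0x7623473434623432))))) (.node 8 (.node 4 (.node 2 (.node 1 (.leaf 0x7434346434234753432) (.leaf 0x647543412346423432)) (.node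 1 (.leaf 0x46123434234623432) (.leaf 0x6345434123476432))) (.node 2 (.node 1 (.leaf 0x654734623434723432) (.leaf 0x762347343423473432)) (.node 1 (.leaf 0x3475346342346423432) (.leaf 0x764342346423432)))) (.node 4 (.node 2 (.node 1 (.leaf 0x6547343423432) (.leaf 0x64543475341234723432)) (.node 1 (.leaf 0x434723434123432) (.leaf 0x423476423432))) (.node 2 (.node 1 (.leaf 0x234634123432) (.leaf 0x47454347342347423432)) (.node 1 (.leaf 0x7345234653434234653432) (.leaf 0x473467434234743432)))))) (.node 16 (.node 8 (.node 4 (.node 2 (.node 1 (.leaf 0x46543464342346423432) (.leaf 0x346523434523463432)) (.node 1 (.leaf 0x654753434123432) (.leaf 0x76475343423432))) (.node 2 (.node 1 (.leaf 0x763453423476432) (.leaf 0x7647346123434723432)) (.node 1 (.leaf 0x43465342346423432) (.leaf 0x6454342346423432)))) (.node 4 (.node 2 (.node 1 (.leaf 0x3434234634234753432) (.leaf 0x43463434234723432)) (.node 1 (.leaf 0x346342347454234723432) (.leaf 0x3467423462342346423432)))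 (.node 2 (.node 1 (.leaf 0x5412342347423432) (.leaf 0x346534762343423432)) (.node 1 (.leaf 0x5423476452343423432) (.leaf 0x754234234743432))))) (.node 8 (.node 4 (.node 2 (.node 1 (.leaf 0x454342347643423432) (.leaf 0x54623473423463432)) (.node 1 (.leaf 0x523472341234723432) (.leaf 0x6534345423473432))) (.node 2 (.node 1 (.leaf 0x73434523463432) (.leaf 0x2346434345423463432)) (.node 1 (.leaf 0x42346234234623432) (.leaf 0x54764734123476432)))) (.node 4 (.node 2 (.node 1 (.leaf 0x463476434523473432) (.leaf 0x674342347123432)) (.node 1 (.leaf 0x43434754234723432) (.leaf 0x67423476434234753432))) (.node 2 (.node 1 (.leaf 0x3474534123476432) (.leaf 0x46343423453475423432)) (.node 1 (.leaf 0x472343423467423432) (.leaf 0x743467463423473432))))))) (.node 32 (.node 16 (.node 8 (.node 4 (.node 2 (.node 1 (.leaf 0x4523467423432) (.leaf 0x534734234723432)) (.node 1 (.leaf 0x742347434234653432) (.leaf 0x653434654234623432))) (.node 2 (.node 1 (.leaf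 0x634523467434123467432) (.leaf 0x473464341234723432)) (.node 1 (.leaf 0x67434234123463432) (.leaf 0x52346434234623432)))) (.node 4 (.node 2 (.node 1 (.leaf 0x674342341234623432) (.leaf 0x612343423476423432)) (.node 1 (.leaf 0x5467452343423432) (.leaf 0x742347643423467432))) (.node 2 (.node 1 (.leaf 0x3434654234623432) (.leaf 0x46423473434234623432)) (.node 1 (.leaf 0x45423473423463432) (.leaf 0x343465434123473432))))) (.node 8 (.node 4 (.node 2 (.node 1 (.leaf 0x7634734123467432) (.leaf 0x4654342346123432)) (.node 1 (.leaf 0x7541234234623432) (.leaf 0x45234674234723432))) (.node 2 (.node 1 (.leaf 0x123434523463432) (.leaf 0x5464347434234623432)) (.node 1 (.leaf 0x7541234723432) (.leaf 0x743467434123476432)))) (.node 4 (.node 2 (.node 1 (.leaf 0x654753462343423432) (.leaf 0x43473463423467432)) (.node 1 (.leaf 0x5234647434523463432) (.leaf 0x7643467453423463432))) (.node 2 (.node 1 (.leaf 0x4234523473432) (.leaf 0x1234742343423473432))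 (.node 1 (.leaf 0x4754634123467432) (.leaf 0x6434523476423432)))))) (.node 16 (.node 8 (.node 4 (.node 2 (.node 1 (.leaf 0x234634234623432) (.leaf 0x634734346123432)) (.node 1 (.leaf 0x653473434623432) (.leaf 0x7234634234623432))) (.node 2 (.node 1 (.leaf 0x73453423465432) (.leaf 0x4742346542346423432)) (.node 1 (.leaf 0x452346743423432) (.leaf 0x7346345234623432)))) (.node 4 (.node 2 (.node 1 (.leaf 0x64543463423464123432) (.leaf 0x6734534234753432)) (.node 1 (.leaf 0x4754612343423432) (.leaf 0x234623475412346423432))) (.node 2 (.node 1 (.leaf 0x7434342346347423432) (.leaf 0x764534634234723432)) (.node 1 (.leaf 0x642342346423432) (.leaf 0x473463434234723432))))) (.node 8 (.node 4 (.node 2 (.node 1 (.leaf 0x6234346123432) (.leaf 0x53412346341234623432)) (.node 1 (.leaf 0x674634523475423432) (.leaf 0x4347343423467432))) (.node 2 (.node 1 (.leaf 0x53412346743423476432) (.leaf 0x67463423465423432)) (.node 1 (.leaf 0x342346342346123432)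 (.leaf 0x23475341234723432)))) (.node 4 (.node 2 (.node 1 (.leaf 0x473423473423432) (.leaf 0x6342346743423476432)) (.node 1 (.leaf 0x754123474342347423432) (.leaf 0x434743412347423432))) (.node 2 (.node 1 (.leaf 0x7346434123476432) (.leaf 0x434743453423473432)) (.node 1 (.leaf 0x4734346454234723432) (.leaf 0x6743476434234753432)))))))

def classATree_101 : Tree :=
  .node 64 (.node 32 (.node 16 (.node 8 (.node 4 (.node 2 (.node 1 (.leaf 0x6234734234723432) (.leaf 0x46534347454234623432)) (.node 1 (.leaf 0x67346341234723432) (.leaf 0x347346543423463432))) (.node 2 (.node 1 (.leaf 0x764234652343423476432) (.leaf 0x653473434234653432)) (.node 1 (.leaf 0x2346452343423476432) (.leaf 0x476452343423432)))) (.node 4 (.node 2 (.node 1 (.leaf 0x3465343423473432) (.leaf 0x6534734534234753432)) (.node 1 (.leaf 0x6734534234723432) (.leaf 0x46434234523463432))) (.node 2 (.node 1 (.leaf 0x73463412346423432) (.leaf 0x763434123467432)) (.node 1 (.leaf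 0x674347234346123432) (.leaf 0x67423472343423432))))) (.node 8 (.node 4 (.node 2 (.node 1 (.leaf 0x475434612343423432) (.leaf 0x4654346343423473432)) (.node 1 (.leaf 0x473434743423463432) (.leaf 0x434734674234723432))) (.node 2 (.node 1 (.leaf 0x673463412346423432) (.leaf 0x76434634542346423432)) (.node 1 (.leaf 0x46347342347423432) (.leaf 0x3434674534234723432)))) (.node 4 (.node 2 (.node 1 (.leaf 0x4734643412346423432) (.leaf 0x64534347342347123432)) (.node 1 (.leaf 0x4634234123463423432) (.leaf 0x543463453423473432))) (.node 2 (.node 1 (.leaf 0x547343423473432) (.leaf 0x543473463423463432)) (.node 1 (.leaf 0x343463473423463432) (.leaf 0x46234723452346423432)))))) (.node 16 (.node 8 (.node 4 (.node 2 (.node 1 (.leaf 0x434723465423432) (.leaf 0x34347543423467432)) (.node 1 (.leaf 0x462347542347123432) (.leaf 0x76453434234623432))) (.node 2 (.node 1 (.leaf 0x523464341234623432) (.leaf 0x754234654234623432)) (.node 1 (.leaf 0x63473423465432)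 (.leaf 0x4234234753432)))) (.node 4 (.node 2 (.node 1 (.leaf 0x65234347462343423432) (.leaf 0x234342343423473432)) (.node 1 (.leaf 0x6745341234723432) (.leaf 0x643476453423467432))) (.node 2 (.node 1 (.leaf 0x12347234234723432) (.leaf 0x5234723434234723432)) (.node 1 (.leaf 0x7454234723432) (.leaf 0x634734234723432))))) (.node 8 (.node 4 (.node 2 (.node 1 (.leaf 0x634346543423463432) (.leaf 0x74654342347423432)) (.node 1 (.leaf 0x7434634345234723432) (.leaf 0x534346543423463432))) (.node 2 (.node 1 (.leaf 0x63474234123476432) (.leaf 0x46454341234623432)) (.node 1 (.leaf 0x454234734123463432) (.leaf 0x34754341234623432)))) (.node 4 (.node 2 (.node 1 (.leaf 0x343423473423476432) (.leaf 0x74542342346123432)) (.node 1 (.leaf 0x6547346123434123432) (.leaf 0x2346434534234653432))) (.node 2 (.node 1 (.leaf 0x43465434234723432) (.leaf 0x75434234674123432)) (.node 1 (.leaf 0x423461234234623432) (.leaf 0x46434347542346123432))))))) (.node 32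 (.node 16 (.node 8 (.node 4 (.node 2 (.node 1 (.leaf 0x5234647434234653432) (.leaf 0x634234723434234643432)) (.node 1 (.leaf 0x4623475423432) (.leaf 0x7534345423463432))) (.node 2 (.node 1 (.leaf 0x546234734123463432) (.leaf 0x23465473423467432)) (.node 1 (.leaf 0x412346742347123432) (.leaf 0x64123474342347423432)))) (.node 4 (.node 2 (.node 1 (.leaf 0x7645346743423463432) (.leaf 0x434643434234643432)) (.node 1 (.leaf 0x7645347643423476432) (.leaf 0x5476452343423432))) (.node 2 (.node 1 (.leaf 0x234347643423467432) (.leaf 0x63434523473432)) (.node 1 (.leaf 0x3454347342347123432) (.leaf 0x123434234653432))))) (.node 8 (.node 4 (.node 2 (.node 1 (.leaf 0x3462343423463432) (.leaf 0x5347434123476432)) (.node 1 (.leaf 0x23423474342347423432) (.leaf 0x434234634534234653432))) (.node 2 (.node 1 (.leaf 0x654347462343423432) (.leaf 0x123423475423432)) (.node 1 (.leaf 0x46453423475432) (.leaf 0x6453476432)))) (.node 4 (.node 2 (.node 1 (.leaf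 0x73453476432) (.leaf 0x546734612343423432)) (.node 1 (.leaf 0x7465343423432) (.leaf 0x345434643423473432))) (.node 2 (.node 1 (.leaf 0x4746343423432) (.leaf 0x746434723434623432)) (.node 1 (.leaf 0x54234346423432) (.leaf 0x54764534723432)))))) (.node 16 (.node 8 (.node 4 (.node 2 (.node 1 (.leaf 0x7634734234234723432) (.leaf 0x45343465423432)) (.node 1 (.leaf 0x6234534234653432) (.leaf 0x34342346123432))) (.node 2 (.node 1 (.leaf 0x7434623434234753432) (.leaf 0x643473434723432)) (.node 1 (.leaf 0x343464234346423432) (.leaf 0x546534345234723432)))) (.node 4 (.node 2 (.node 1 (.leaf 0x5347234634123467432) (.leaf 0x464234234753432)) (.node 1 (.leaf 0x3434234123473423432) (.leaf 0x434345423473432))) (.node 2 (.node 1 (.leaf 0x6423467423432) (.leaf 0x746743453423432)) (.node 1 (.leaf 0x3453467434123467432) (.leaf 0x53465342347123432))))) (.node 8 (.node 4 (.node 2 (.node 1 (.leaf 0x6434652343423476432) (.leaf 0x6343475434123473432)) (.node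 1 (.leaf 0x46234234523473432) (.leaf 0x434762343423432))) (.node 2 (.node 1 (.leaf 0x547234234654123432) (.leaf 0x4746423472343423432)) (.node 1 (.leaf 0x523464234234723432) (.leaf 0x723434234734123432)))) (.node 4 (.node 2 (.node 1 (.leaf 0x723423423463423432) (.leaf 0x54612342346123432)) (.node 1 (.leaf 0x34752343423467432) (.leaf 0x234745343423463432))) (.node 2 (.node 1 (.leaf 0x2347234234234653432) (.leaf 0x6347234234653432)) (.node 1 (.leaf 0x4634346423432) (.leaf 0x47454234723432)))))))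

def classATree_102 : Tree :=
  .node 64 (.node 32 (.node 16 (.node 8 (.node 4 (.node 2 (.node 1 (.leaf 0x346434762343423432) (.leaf 0x653434234674123432)) (.node 1 (.leaf 0x5434672343423432) (.leaf 0x34543473423432))) (.node 2 (.node 1 (.leaf 0x542345234623432) (.leaf 0x6123475434523463432)) (.node 1 (.leaf 0x7464234234754123432) (.leaf 0x7523434623476432)))) (.node 4 (.node 2 (.node 1 (.leaf 0x62347543423432) (.leaf 0x642347454234723432)) (.node 1 (.leaf 0x5464234234643432) (.leaf 0x634523476434123432))) (.node 2 (.node 1 (.leaf 0x534743432) (.leaf 0x6543432)) (.node 1 (.leaf 0x52346543423432) (.leaf 0x65434234234753432))))) (.node 8 (.node 4 (.node 2 (.node 1 (.leaf 0x43462341234723432) (.leaf 0x234743423463432)) (.node 1 (.leaf 0x434234234653432) (.leaf 0x46534234523463432))) (.node 2 (.node 1 (.leaf 0x76341234623432) (.leaf 0x2347643423476453432)) (.node 1 (.leaf 0x43464341234723432) (.leaf 0x475341234623432)))) (.node 4 (.node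 2 (.node 1 (.leaf 0x34523434654123432) (.leaf 0x1234743453423467432)) (.node 1 (.leaf 0x71234234723432) (.leaf 0x6543423476432))) (.node 2 (.node 1 (.leaf 0x3476423463423432) (.leaf 0x434743454234623432)) (.node 1 (.leaf 0x6543434234643432) (.leaf 0x47634734234623432)))))) (.node 16 (.node 8 (.node 4 (.node 2 (.node 1 (.leaf 0x73465473423476432) (.leaf 0x5347434234754123432)) (.node 1 (.leaf 0x4543423476432) (.leaf 0x54734643423476432))) (.node 2 (.node 1 (.leaf 0x6453423463423432) (.leaf 0x534753434723467432)) (.node 1 (.leaf 0x53473434234723432) (.leaf 0x54674534723432)))) (.node 4 (.node 2 (.node 1 (.leaf 0x654347634234753432) (.leaf 0x2346542347423432)) (.node 1 (.leaf 0x74523434643423473432) (.leaf 0x634347542346123432))) (.node 2 (.node 1 (.leaf 0x47542341234623432) (.leaf 0x464543423476432)) (.node 1 (.leaf 0x47641234234623432) (.leaf 0x65434634234753432))))) (.node 8 (.node 4 (.node 2 (.node 1 (.leaf 0x65434346423432) (.leaf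 0x476347343423473432)) (.node 1 (.leaf 0x634234634123432) (.leaf 0x47534634123476432))) (.node 2 (.node 1 (.leaf 0x46434734234654123432) (.leaf 0x4542347345234723432)) (.node 1 (.leaf 0x642346542347423432) (.leaf 0x6343452343475423432)))) (.node 4 (.node 2 (.node 1 (.leaf 0x723464543423463432) (.leaf 0x7465434623475432)) (.node 1 (.leaf 0x12346543423463432) (.leaf 0x76343454234623432))) (.node 2 (.node 1 (.leaf 0x474234634234623432) (.leaf 0x7623472343423473432)) (.node 1 (.leaf 0x5434346472343423432) (.leaf 0x534654342346423432))))))) (.node 32 (.node 16 (.node 8 (.node 4 (.node 2 (.node 1 (.leaf 0x34654234123476432) (.leaf 0x471234346542347123432)) (.node 1 (.leaf 0x534712342347123432) (.leaf 0x123472342347123432))) (.node 2 (.node 1 (.leaf 0x745234653434234653432) (.leaf 0x734674634123473432)) (.node 1 (.leaf 0x6743454234723432) (.leaf 0x474342347643423467432)))) (.node 4 (.node 2 (.node 1 (.leaf 0x52346434123476432) (.leaf 0x647234534234753432))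 (.node 1 (.leaf 0x53475343423463432) (.leaf 0x645434612343423432))) (.node 2 (.node 1 (.leaf 0x4234642342346423432) (.leaf 0x6123473423467432)) (.node 1 (.leaf 0x6347341234723432) (.leaf 0x2346434234234623432))))) (.node 8 (.node 4 (.node 2 (.node 1 (.leaf 0x652343423473432) (.leaf 0x453465343423476432)) (.node 1 (.leaf 0x45347642346123432) (.leaf 0x123473423432))) (.node 2 (.node 1 (.leaf 0x74234534234623432) (.leaf 0x46543467462343423432)) (.node 1 (.leaf 0x1234734234623432) (.leaf 0x746454234723432)))) (.node 4 (.node 2 (.node 1 (.leaf 0x3453462343423432) (.leaf 0x123463423463432)) (.node 1 (.leaf 0x54634346542347123432) (.leaf 0x234764342346123432))) (.node 2 (.node 1 (.leaf 0x434234523463432) (.leaf 0x2343476473423467432)) (.node 1 (.leaf 0x4712343465423432) (.leaf 0x5476453423476432)))))) (.node 16 (.node 8 (.node 4 (.node 2 (.node 1 (.leaf 0x67434743423463432) (.leaf 0x645343423467423432)) (.node 1 (.leaf 0x474234234234723432)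 (.leaf 0x434763434234723432))) (.node 2 (.node 1 (.leaf 0x75434634123473432) (.leaf 0x54341234623432)) (.node 1 (.leaf 0x5463423463423432) (.leaf 0x3453463423476432)))) (.node 4 (.node 2 (.node 1 (.leaf 0x5476434123467432) (.leaf 0x546734123467432)) (.node 1 (.leaf 0x34764534234723432) (.leaf 0x47534234347423432))) (.node 2 (.node 1 (.leaf 0x73467434234753432) (.leaf 0x234643423476432)) (.node 1 (.leaf 0x47453423476423432) (.leaf 0x45434234764123432))))) (.node 8 (.node 4 (.node 2 (.node 1 (.leaf 0x623475463423463432) (.leaf 0x643473432)) (.node 1 (.leaf 0x6234754347123432) (.leaf 0x642346234346423432))) (.node 2 (.node 1 (.leaf 0x53473423465432) (.leaf 0x54743432)) (.node 1 (.leaf 0x23464543423432) (.leaf 0x5473434723467432)))) (.node 4 (.node 2 (.node 1 (.leaf 0x52347643423463432) (.leaf 0x547434523475423432)) (.node 1 (.leaf 0x453473423476432) (.leaf 0x54743463423473432))) (.node 2 (.node 1 (.leaf 0x5474345234723432) (.leaf 0x234734234234723432))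 (.node 1 (.leaf 0x643454234623432) (.leaf 0x3434634234346423432)))))))

def classATree_103 : Tree :=
  .node 64 (.node 32 (.node 16 (.node 8 (.node 4 (.node 2 (.node 1 (.leaf 0x647453423476432) (.leaf 0x6746234123476432)) (.node 1 (.leaf 0x4642341234723432) (.leaf 0x4674345234623432))) (.node 2 (.node 1 (.leaf 0x234645434234623432) (.leaf 0x123474643423467432)) (.node 1 (.leaf 0x4674534734234623432) (.leaf 0x23464543423473432)))) (.node 4 (.node 2 (.node 1 (.leaf 0x453475423423465432) (.leaf 0x54634234734123432)) (.node 1 (.leaf 0x753434523434723432) (.leaf 0x63434623453476432))) (.node 2 (.node 1 (.leaf 0x6712346343423463432) (.leaf 0x5473465423474123432)) (.node 1 (.leaf 0x45434764342346123432) (.leaf 0x6343473434234653432))))) (.node 8 (.node 4 (.node 2 (.node 1 (.leaf 0x746543474123432) (.leaf 0x54743453423463432)) (.node 1 (.leaf 0x5462345234623432) (.leaf 0x47345234234623432))) (.node 2 (.node 1 (.leaf 0x647643423476432) (.leaf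 0x643473452346423432)) (.node 1 (.leaf 0x6343464123432) (.leaf 0x54743452347423432)))) (.node 4 (.node 2 (.node 1 (.leaf 0x754346342346123432) (.leaf 0x3474234634234623432)) (.node 1 (.leaf 0x34754345423463432) (.leaf 0x47643467434234653432))) (.node 2 (.node 1 (.leaf 0x347543452346743432) (.leaf 0x3464734623434723432)) (.node 1 (.leaf 0x6473423463423432) (.leaf 0x7543423467423432)))))) (.node 16 (.node 8 (.node 4 (.node 2 (.node 1 (.leaf 0x7463423476423432) (.leaf 0x67434234764123432)) (.node 1 (.leaf 0x623474543423473432) (.leaf 0x52347643423432))) (.node 2 (.node 1 (.leaf 0x64523476434123432) (.leaf 0x5473432)) (.node 1 (.leaf 0x65434623475432) (.leaf 0x6342346234346423432)))) (.node 4 (.node 2 (.node 1 (.leaf 0x674345234234753432) (.leaf 0x543463432)) (.node 1 (.leaf 0x5473423465423432) (.leaf 0x54734523475423432))) (.node 2 (.node 1 (.leaf 0x7453473423476432) (.leaf 0x74642341234723432)) (.node 1 (.leaf 0x654753423476432) (.leaf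 0x5464234123476432))))) (.node 8 (.node 4 (.node 2 (.node 1 (.leaf 0x7643454234623432) (.leaf 0x2347434234234723432)) (.node 1 (.leaf 0x5346542342346423432) (.leaf 0x34523463423476432))) (.node 2 (.node 1 (.leaf 0x64754341234623432) (.leaf 0x12347643423467432)) (.node 1 (.leaf 0x5473463423473432) (.leaf 0x547345234723432)))) (.node 4 (.node 2 (.node 1 (.leaf 0x723464543423473432) (.leaf 0x546347123434623432)) (.node 1 (.leaf 0x7647643423476432) (.leaf 0x5123464343423463432))) (.node 2 (.node 1 (.leaf 0x4623475434523463432) (.leaf 0x3464347342347423432)) (.node 1 (.leaf 0x46347434123467432) (.leaf 0x754634234734123432))))))) (.node 32 (.node 16 (.node 8 (.node 4 (.node 2 (.node 1 (.leaf 0x53434523434723432) (.leaf 0x5434346434234643432)) (.node 1 (.leaf 0x46543474123432) (.leaf 0x5473453423463432))) (.node 2 (.node 1 (.leaf 0x543434643423463432) (.leaf 0x474345234234623432)) (.node 1 (.leaf 0x75462345234623432) (.leaf 0x347234634234623432))))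 (.node 4 (.node 2 (.node 1 (.leaf 0x63454347543423463432) (.leaf 0x3475434523463432)) (.node 1 (.leaf 0x5473452347423432) (.leaf 0x543474123432))) (.node 2 (.node 1 (.leaf 0x54346342346123432) (.leaf 0x347543465423476432)) (.node 1 (.leaf 0x76473423463423432) (.leaf 0x4634345234234723432))))) (.node 8 (.node 4 (.node 2 (.node 1 (.leaf 0x543463434234653432) (.leaf 0x543423467423432)) (.node 1 (.leaf 0x612347543423473432) (.leaf 0x743463432))) (.node 2 (.node 1 (.leaf 0x6542347454234723432) (.leaf 0x62347454347123432)) (.node 1 (.leaf 0x4743432) (.leaf 0x2346543423432)))) (.node 4 (.node 2 (.node 1 (.leaf 0x6434234523473432) (.leaf 0x3473423465432)) (.node 1 (.leaf 0x473423465423432) (.leaf 0x6343474543423463432))) (.node 2 (.node 1 (.leaf 0x534745434234653432) (.leaf 0x73454234634234623432)) (.node 1 (.leaf 0x6454342346123432) (.leaf 0x763473453423463432)))))) (.node 16 (.node 8 (.node 4 (.node 2 (.node 1 (.leaf 0x23475342341234723432)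 (.leaf 0x73434234534723432)) (.node 1 (.leaf 0x65343465423467432) (.leaf 0x453423473423432))) (.node 2 (.node 1 (.leaf 0x734346343423463432) (.leaf 0x746453423467432)) (.node 1 (.leaf 0x64342346234123432) (.leaf 0x7647534123476432)))) (.node 4 (.node 2 (.node 1 (.leaf 0x474342347123432) (.leaf 0x47434634123473432)) (.node 1 (.leaf 0x54674342346123432) (.leaf 0x234654342346123432))) (.node 2 (.node 1 (.leaf 0x523474643423467432) (.leaf 0x723464343423463432)) (.node 1 (.leaf 0x473423474346423432) (.leaf 0x4534764345234623432))))) (.node 8 (.node 4 (.node 2 (.node 1 (.leaf 0x74634723434623432) (.leaf 0x462343423473432)) (.node 1 (.leaf 0x74347423432) (.leaf 0x74346345234623432))) (.node 2 (.node 1 (.leaf 0x465234234623432) (.leaf 0x47434234754123432)) (.node 1 (.leaf 0x2346543423473432) (.leaf 0x347454234234653432)))) (.node 4 (.node 2 (.node 1 (.leaf 0x645434234634123432) (.leaf 0x43476453423467432)) (.node 1 (.leaf 0x473434234674123432)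 (.leaf 0x743463434523463432))) (.node 2 (.node 1 (.leaf 0x7434743423476432) (.leaf 0x65476434123476432)) (.node 1 (.leaf 0x474345346423432) (.leaf 0x7343463434234643432)))))))

def classATree_104 : Tree :=
  .node 64 (.node 32 (.node 16 (.node 8 (.node 4 (.node 2 (.node 1 (.leaf 0x47434234123463432) (.leaf 0x7434623475423432)) (.node 1 (.leaf 0x6746234234643432) (.leaf 0x6743432))) (.node 2 (.node 1 (.leaf 0x23476453423432) (.leaf 0x2346743423432)) (.node 1 (.leaf 0x62347542347123432) (.leaf 0x6342347454234723432)))) (.node 4 (.node 2 (.node 1 (.leaf 0x67434234523473432) (.leaf 0x53473432)) (.node 1 (.leaf 0x5347343423467432) (.leaf 0x23473423463432))) (.node 2 (.node 1 (.leaf 0x7434234234653432) (.leaf 0x23467463423463432)) (.node 1 (.leaf 0x6341234623432) (.leaf 0x2347645234234753432))))) (.node 8 (.node 4 (.node 2 (.node 1 (.leaf 0x743464341234723432) (.leaf 0x1234234723432)) (.node 1 (.leaf 0x534723465423432) (.leaf 0x6743423476432)))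 (.node 2 (.node 1 (.leaf 0x4745341234623432) (.leaf 0x123473453423467432)) (.node 1 (.leaf 0x3465472343423432) (.leaf 0x6743434234643432)))) (.node 4 (.node 2 (.node 1 (.leaf 0x3465473423476432) (.leaf 0x534734634123473432)) (.node 1 (.leaf 0x634534752343423432) (.leaf 0x5434623434623432))) (.node 2 (.node 1 (.leaf 0x76453423463423432) (.leaf 0x6347434634123467432)) (.node 1 (.leaf 0x6343475423476432) (.leaf 0x4523434643423473432)))))) (.node 16 (.node 8 (.node 4 (.node 2 (.node 1 (.leaf 0x7634347542346123432) (.leaf 0x72346542347423432)) (.node 1 (.leaf 0x674347634234753432) (.leaf 0x674347346423432))) (.node 2 (.node 1 (.leaf 0x53473434123473432) (.leaf 0x7464543423476432)) (.node 1 (.leaf 0x74543423476432) (.leaf 0x546542341234623432)))) (.node 4 (.node 2 (.node 1 (.leaf 0x534734234754123432) (.leaf 0x67434634234753432)) (.node 1 (.leaf 0x534347434123463432) (.leaf 0x67434346423432))) (.node 2 (.node 1 (.leaf 0x76343452343475423432)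 (.leaf 0x6723434612343423432)) (.node 1 (.leaf 0x74542347345234723432) (.leaf 0x634123463423432))))) (.node 8 (.node 4 (.node 2 (.node 1 (.leaf 0x543452342346123432) (.leaf 0x4654347643423467432)) (.node 1 (.leaf 0x7643432) (.leaf 0x2347643423432))) (.node 2 (.node 1 (.leaf 0x23467453423432) (.leaf 0x6742346234346423432)) (.node 1 (.leaf 0x23474643423463432) (.leaf 0x62347541234723432)))) (.node 4 (.node 2 (.node 1 (.leaf 0x3473432) (.leaf 0x7464234234643432)) (.node 1 (.leaf 0x6434234234753432) (.leaf 0x34734523475423432))) (.node 2 (.node 1 (.leaf 0x23463423473432) (.leaf 0x76343463423432)) (.node 1 (.leaf 0x76343463423473432) (.leaf 0x3434743423463432))))))) (.node 32 (.node 16 (.node 8 (.node 4 (.node 2 (.node 1 (.leaf 0x465434123473423432) (.leaf 0x53434643423467432)) (.node 1 (.leaf 0x347453423465423432) (.leaf 0x5346343423476432))) (.node 2 (.node 1 (.leaf 0x34734623475423432) (.leaf 0x76434234523463432)) (.node 1 (.leaf 0x3473463423473432)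 (.leaf 0x476343462343423432)))) (.node 4 (.node 2 (.node 1 (.leaf 0x7634534734234623432) (.leaf 0x7423475341234723432)) (.node 1 (.leaf 0x764346534234753432) (.leaf 0x746745347123432))) (.node 2 (.node 1 (.leaf 0x347343423473432) (.leaf 0x6534234623432)) (.node 1 (.leaf 0x423475234234723432) (.leaf 0x754346434234723432))))) (.node 8 (.node 4 (.node 2 (.node 1 (.leaf 0x7634342346423432) (.leaf 0x74534123476432)) (.node 1 (.leaf 0x3473453423473432) (.leaf 0x653423463423432))) (.node 2 (.node 1 (.leaf 0x34734634234654123432) (.leaf 0x4342341234623432)) (.node 1 (.leaf 0x3423476423432) (.leaf 0x5234234723432)))) (.node 4 (.node 2 (.node 1 (.leaf 0x76434123476432) (.leaf 0x6734347454234623432)) (.node 1 (.leaf 0x723423474346423432) (.leaf 0x34342346234234623432))) (.node 2 (.node 1 (.leaf 0x6474342346123432) (.leaf 0x34712343465423432)) (.node 1 (.leaf 0x523473453423467432) (.leaf 0x43473423473423432)))))) (.node 16 (.node 8 (.node 4 (.node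 2 (.node 1 (.leaf 0x64342342346123432) (.leaf 0x4346123434623432)) (.node 1 (.leaf 0x7543476432) (.leaf 0x712343423476432))) (.node 2 (.node 1 (.leaf 0x6234234234623432) (.leaf 0x641234234234623432)) (.node 1 (.leaf 0x476434123467432) (.leaf 0x4674234123476432)))) (.node 4 (.node 2 (.node 1 (.leaf 0x476473423467432) (.leaf 0x6743423476423432)) (.node 1 (.leaf 0x5467434234347423432) (.leaf 0x645234234234623432))) (.node 2 (.node 1 (.leaf 0x734234654234623432) (.leaf 0x7452347342347423432)) (.node 1 (.leaf 0x7543423463423432) (.leaf 0x6434753423467432))))) (.node 8 (.node 4 (.node 2 (.node 1 (.leaf 0x465434234634123432) (.leaf 0x547434234234723432)) (.node 1 (.leaf 0x346234234234653432) (.leaf 0x63434523463432))) (.node 2 (.node 1 (.leaf 0x64543423473423432) (.leaf 0x74343475423476432)) (.node 1 (.leaf 0x62343472343423432) (.leaf 0x7463423463423467432)))) (.node 4 (.node 2 (.node 1 (.leaf 0x534734234523473432) (.leaf 0x347541234234753432))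 (.node 1 (.leaf 0x463432) (.leaf 0x463473423465432))) (.node 2 (.node 1 (.leaf 0x434753432) (.leaf 0x5434743423476432)) (.node 1 (.leaf 0x734643423432) (.leaf 0x4342342347423432)))))))

def classATree_105 : Tree :=
  .node 64 (.node 32 (.node 16 (.node 8 (.node 4 (.node 2 (.node 1 (.leaf 0x63474543423463432) (.leaf 0x4634734523465423432)) (.node 1 (.leaf 0x463453465423432) (.leaf 0x46342346123434123432))) (.node 2 (.node 1 (.leaf 0x7465434764234623432) (.leaf 0x472343423476432)) (.node 1 (.leaf 0x53475434123463432) (.leaf 0x3453423423423465432)))) (.node 4 (.node 2 (.node 1 (.leaf 0x4346734534234723432) (.leaf 0x463473423463432)) (.node 1 (.leaf 0x46347342347123432) (.leaf 0x4346434234753432))) (.node 2 (.node 1 (.leaf 0x4634734234754123432) (.leaf 0x4653476434234623432)) (.node 1 (.leaf 0x62347454346423432) (.leaf 0x534734346123432))))) (.node 8 (.node 4 (.node 2 (.node 1 (.leaf 0x4634734234653432) (.leaf 0x54734234234123432)) (.node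 1 (.leaf 0x4634734234643432) (.leaf 0x474346423432))) (.node 2 (.node 1 (.leaf 0x46343475423432) (.leaf 0x47345342346123432)) (.node 1 (.leaf 0x3475434123463432) (.leaf 0x4347534123476432)))) (.node 4 (.node 2 (.node 1 (.leaf 0x46343423463432) (.leaf 0x4634234612343423432)) (.node 1 (.leaf 0x4734234123473423432) (.leaf 0x4634734234723432))) (.node 2 (.node 1 (.leaf 0x463423464123432) (.leaf 0x4634346542346423432)) (.node 1 (.leaf 0x463434723432) (.leaf 0x463473434723467432)))))) (.node 16 (.node 8 (.node 4 (.node 2 (.node 1 (.leaf 0x4346423432) (.leaf 0x75463434723432)) (.node 1 (.leaf 0x534642341234623432) (.leaf 0x1234347434234643432))) (.node 2 (.node 1 (.leaf 0x47453434234623432) (.leaf 0x45347343423473432)) (.node 1 (.leaf 0x123473434723432) (.leaf 0x4634734123467432)))) (.node 4 (.node 2 (.node 1 (.leaf 0x4634734623475423432) (.leaf 0x43464534123476432)) (.node 1 (.leaf 0x5434723465432) (.leaf 0x54234754234723432))) (.node 2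 (.node 1 (.leaf 0x46343475432) (.leaf 0x34346543423475432)) (.node 1 (.leaf 0x34234234743432) (.leaf 0x342346542346423432))))) (.node 8 (.node 4 (.node 2 (.node 1 (.leaf 0x343467434234653432) (.leaf 0x54723463423467432)) (.node 1 (.leaf 0x347543462343423432) (.leaf 0x753434523434623432))) (.node 2 (.node 1 (.leaf 0x654764234523473432) (.leaf 0x6523476434234753432)) (.node 1 (.leaf 0x534734634234723432) (.leaf 0x746746234234753432)))) (.node 4 (.node 2 (.node 1 (.leaf 0x7534234123473423432) (.leaf 0x672343452343464123432)) (.node 1 (.leaf 0x74234753423476432) (.leaf 0x7534234523473432))) (.node 2 (.node 1 (.leaf 0x7523463423467432) (.leaf 0x54342347643423467432)) (.node 1 (.leaf 0x76453423432) (.leaf 0x746453423463432))))))) (.node 32 (.node 16 (.node 8 (.node 4 (.node 2 (.node 1 (.leaf 0x65434523434723432) (.leaf 0x734674234523463432)) (.node 1 (.leaf 0x47645347123434123432) (.leaf 0x73453472343423432))) (.node 2 (.node 1 (.leaf 0x347234234653432)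 (.leaf 0x6434643423467432)) (.node 1 (.leaf 0x5234342346345234623432) (.leaf 0x74234653423467432)))) (.node 4 (.node 2 (.node 1 (.leaf 0x42345346345234623432) (.leaf 0x67346345234623432)) (.node 1 (.leaf 0x7534234123432) (.leaf 0x454234234723432))) (.node 2 (.node 1 (.leaf 0x53476434123473432) (.leaf 0x752346343423432)) (.node 1 (.leaf 0x434763452343423432) (.leaf 0x454234623432))))) (.node 8 (.node 4 (.node 2 (.node 1 (.leaf 0x742347123434123432) (.leaf 0x73453473423467432)) (.node 1 (.leaf 0x4123434643423473432) (.leaf 0x3465347342347423432))) (.node 2 (.node 1 (.leaf 0x623474345234723432) (.leaf 0x654346123434123432)) (.node 1 (.leaf 0x65472342347123432) (.leaf 0x46343452347643432)))) (.node 4 (.node 2 (.node 1 (.leaf 0x67465343423432) (.leaf 0x347123434234653432)) (.node 1 (.leaf 0x674342342347423432) (.leaf 0x7423473423476432))) (.node 2 (.node 1 (.leaf 0x23434754346423432) (.leaf 0x43452346543423432)) (.node 1 (.leaf 0x45343423465432)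 (.leaf 0x343464341234643432)))))) (.node 16 (.node 8 (.node 4 (.node 2 (.node 1 (.leaf 0x763473412347423432) (.leaf 0x7412346434234623432)) (.node 1 (.leaf 0x543462343423463432) (.leaf 0x473412346345234623432))) (.node 2 (.node 1 (.leaf 0x434753434523473432) (.leaf 0x3434623476432)) (.node 1 (.leaf 0x53423475423432) (.leaf 0x47234642342346423432)))) (.node 4 (.node 2 (.node 1 (.leaf 0x534634534234653432) (.leaf 0x234345346423432)) (.node 1 (.leaf 0x434612343423463432) (.leaf 0x53463434234753432))) (.node 2 (.node 1 (.leaf 0x6453434234753432) (.leaf 0x434234123476432)) (.node 1 (.leaf 0x6234712343423432) (.leaf 0x634723434623432))))) (.node 8 (.node 4 (.node 2 (.node 1 (.leaf 0x534346434234643432) (.leaf 0x634764234723432)) (.node 1 (.leaf 0x7454347342347423432) (.leaf 0x623473423453423432))) (.node 2 (.node 1 (.leaf 0x2347234234123476432) (.leaf 0x4754234674234723432)) (.node 1 (.leaf 0x34234654123432) (.leaf 0x2342347343423463432))))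 (.node 4 (.node 2 (.node 1 (.leaf 0x34346472343423432) (.leaf 0x423473434234623432)) (.node 1 (.leaf 0x643467434234653432) (.leaf 0x341234752343423467432))) (.node 2 (.node 1 (.leaf 0x345423465423432) (.leaf 0x234752343423467432)) (.node 1 (.leaf 0x34745343423463432) (.leaf 0x2345343464123432)))))))

def classATree_106 : Tree :=
  .node 64 (.node 32 (.node 16 (.node 8 (.node 4 (.node 2 (.node 1 (.leaf 0x2346741234723432) (.leaf 0x6345343423473432)) (.node 1 (.leaf 0x34234623453423476432) (.leaf 0x2346742347123432))) (.node 2 (.node 1 (.leaf 0x34764234234623432) (.leaf 0x64723434623432)) (.node 1 (.leaf 0x76434234234623432) (.leaf 0x73464234234123432)))) (.node 4 (.node 2 (.node 1 (.leaf 0x67346523434123432) (.leaf 0x3463434523473432)) (.node 1 (.leaf 0x63474342347423432) (.leaf 0x34634345423463432))) (.node 2 (.node 1 (.leaf 0x465434623453476432) (.leaf 0x234342345346123432)) (.node 1 (.leaf 0x743465423467432) (.leaf 0x74346343423467432)))))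 (.node 8 (.node 4 (.node 2 (.node 1 (.leaf 0x4674345423463432) (.leaf 0x453467463423463432)) (.node 1 (.leaf 0x67453423465423432) (.leaf 0x47543452347643432))) (.node 2 (.node 1 (.leaf 0x4534234634123432) (.leaf 0x674534734123467432)) (.node 1 (.leaf 0x7465434623453476432) (.leaf 0x7234342345346123432)))) (.node 4 (.node 2 (.node 1 (.leaf 0x43453423465432) (.leaf 0x43423474543423432)) (.node 1 (.leaf 0x234347543464123432) (.leaf 0x734346434234643432))) (.node 2 (.node 1 (.leaf 0x534653434234653432) (.leaf 0x423474343423463432)) (.node 1 (.leaf 0x642347434234723432) (.leaf 0x34523475423432)))))) (.node 16 (.node 8 (.node 4 (.node 2 (.node 1 (.leaf 0x63476434234753432) (.leaf 0x6434534234723432)) (.node 1 (.leaf 0x54623474342347423432) (.leaf 0x347523434723467432))) (.node 2 (.node 1 (.leaf 0x4341234734234723432) (.leaf 0x3474343423463432)) (.node 1 (.leaf 0x234534346423432) (.leaf 0x534234754123432)))) (.node 4 (.node 2 (.node 1 (.leaf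 0x423453465423432) (.leaf 0x53434723467432)) (.node 1 (.leaf 0x341234723453423467432) (.leaf 0x5347234234654123432))) (.node 2 (.node 1 (.leaf 0x234723453423467432) (.leaf 0x7346547342347423432)) (.node 1 (.leaf 0x7546347343423463432) (.leaf 0x73434643423463432))))) (.node 8 (.node 4 (.node 2 (.node 1 (.leaf 0x53473434234623432) (.leaf 0x623473452343423432)) (.node 1 (.leaf 0x647234346123432) (.leaf 0x453434123467432))) (.node 2 (.node 1 (.leaf 0x623472343423432) (.leaf 0x62347123434123432)) (.node 1 (.leaf 0x7434734542347423432) (.leaf 0x6347234346123432)))) (.node 4 (.node 2 (.node 1 (.leaf 0x7643464534234623432) (.leaf 0x64534634123476432)) (.node 1 (.leaf 0x2346745234723432) (.leaf 0x5434234734234723432))) (.node 2 (.node 1 (.leaf 0x3423465423432) (.leaf 0x6734652343423432)) (.node 1 (.leaf 0x34234652343423476432) (.leaf 0x6434534234753432))))))) (.node 32 (.node 16 (.node 8 (.node 4 (.node 2 (.node 1 (.leaf 0x5346345434234753432)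 (.leaf 0x653476434523473432)) (.node 1 (.leaf 0x2347523434123467432) (.leaf 0x34743453423463432))) (.node 2 (.node 1 (.leaf 0x234674234723432) (.leaf 0x64543463423476432)) (.node 1 (.leaf 0x7346423453423432) (.leaf 0x34653434523463432)))) (.node 4 (.node 2 (.node 1 (.leaf 0x543423463423432) (.leaf 0x76434753423467432)) (.node 1 (.leaf 0x534345234723432) (.leaf 0x7345434234723432))) (.node 2 (.node 1 (.leaf 0x6343423476423432) (.leaf 0x45347434123467432)) (.node 1 (.leaf 0x65473423465423432) (.leaf 0x4754234523473432))))) (.node 8 (.node 4 (.node 2 (.node 1 (.leaf 0x434623475432) (.leaf 0x43452346743423432)) (.node 1 (.leaf 0x743423476434123432) (.leaf 0x6473463423473432))) (.node 2 (.node 1 (.leaf 0x523474234234723432) (.leaf 0x673434234753432)) (.node 1 (.leaf 0x4234645342346423432) (.leaf 0x34534234653432)))) (.node 4 (.node 2 (.node 1 (.leaf 0x3473423476432) (.leaf 0x64534234723432)) (.node 1 (.leaf 0x343474234234123432) (.leaf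 0x6434734345234623432))) (.node 2 (.node 1 (.leaf 0x434523467423432) (.leaf 0x64534234234623432)) (.node 1 (.leaf 0x3453476434123476432) (.leaf 0x453467434523463432)))))) (.node 16 (.node 8 (.node 4 (.node 2 (.node 1 (.leaf 0x4623423463423432) (.leaf 0x4234643412346423432)) (.node 1 (.leaf 0x3453467452343423432) (.leaf 0x23464341234623432))) (.node 2 (.node 1 (.leaf 0x645343423463432) (.leaf 0x7345347345234723432)) (.node 1 (.leaf 0x4234642343423463432) (.leaf 0x45346423453423432)))) (.node 4 (.node 2 (.node 1 (.leaf 0x7343465434123463432) (.leaf 0x6234746434123476432)) (.node 1 (.leaf 0x1234723434123473432) (.leaf 0x7541234234753432))) (.node 2 (.node 1 (.leaf 0x7523434234653432) (.leaf 0x123434623434123432)) (.node 1 (.leaf 0x3467434523473432) (.leaf 0x47634342347423432))))) (.node 8 (.node 4 (.node 2 (.node 1 (.leaf 0x74234634123473432) (.leaf 0x634753423467432)) (.node 1 (.leaf 0x42341234623432) (.leaf 0x434734234123463432))) (.node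 2 (.node 1 (.leaf 0x4674234123463423432) (.leaf 0x623452346743423467432)) (.node 1 (.leaf 0x4634764234723432) (.leaf 0x75423467423432)))) (.node 4 (.node 2 (.node 1 (.leaf 0x6453423423463423432) (.leaf 0x2345346743423467432)) (.node 1 (.leaf 0x2346347543423432) (.leaf 0x3434743423463423432))) (.node 2 (.node 1 (.leaf 0x42346543412347423432) (.leaf 0x42347123432)) (.node 1 (.leaf 0x63474341234723432) (.leaf 0x347346542346423432)))))))

def classATree_107 : Tree :=
  .node 64 (.node 32 (.node 16 (.node 8 (.node 4 (.node 2 (.node 1 (.leaf 0x4523467434123432) (.leaf 0x75343423465432)) (.node 1 (.leaf 0x7543423467434123432) (.leaf 0x34734653423463432))) (.node 2 (.node 1 (.leaf 0x3463475434234743432) (.leaf 0x23452346342346423432)) (.node 1 (.leaf 0x7643465342347123432) (.leaf 0x734643454234723432)))) (.node 4 (.node 2 (.node 1 (.leaf 0x53412346345234623432) (.leaf 0x3473463423463432)) (.node 1 (.leaf 0x2346423453423476432) (.leaf 0x67346534123476432)))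 (.node 2 (.node 1 (.leaf 0x64346453423467432) (.leaf 0x34542347643423476432)) (.node 1 (.leaf 0x5464343423463432) (.leaf 0x3423467434123476432))))) (.node 8 (.node 4 (.node 2 (.node 1 (.leaf 0x476343423467432) (.leaf 0x76343423473423432)) (.node 1 (.leaf 0x476434612343423432) (.leaf 0x67434764234723432))) (.node 2 (.node 1 (.leaf 0x6543465342346423432) (.leaf 0x53463434234743432)) (.node 1 (.leaf 0x654123464342346423432) (.leaf 0x4634347454234623432)))) (.node 4 (.node 2 (.node 1 (.leaf 0x674634234654123432) (.leaf 0x34234634234623432)) (.node 1 (.leaf 0x347546342346423432) (.leaf 0x3463434754234623432))) (.node 2 (.node 1 (.leaf 0x6234342347123432) (.leaf 0x75463423475423432)) (.node 1 (.leaf 0x346347543423473432) (.leaf 0x434643412346423432)))))) (.node 16 (.node 8 (.node 4 (.node 2 (.node 1 (.leaf 0x47534346454234723432) (.leaf 0x4674612343423432)) (.node 1 (.leaf 0x2347534234723432) (.leaf 0x467452343423432))) (.node 2 (.node 1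 (.leaf 0x62347341234723432) (.leaf 0x34123462343423473432)) (.node 1 (.leaf 0x53463434123473432) (.leaf 0x673467434234653432)))) (.node 4 (.node 2 (.node 1 (.leaf 0x4763423473423432) (.leaf 0x763434234753432)) (.node 1 (.leaf 0x4643473423476432) (.leaf 0x6423412346423432))) (.node 2 (.node 1 (.leaf 0x463473434234623432) (.leaf 0x434643453423463432)) (.node 1 (.leaf 0x764234623453423476432) (.leaf 0x623434623432))))) (.node 8 (.node 4 (.node 2 (.node 1 (.leaf 0x3423476434123432) (.leaf 0x4723463412346423432)) (.node 1 (.leaf 0x72346541234623432) (.leaf 0x54123473434123463432))) (.node 2 (.node 1 (.leaf 0x4653432) (.leaf 0x4754234234743432)) (.node 1 (.leaf 0x453473432) (.leaf 0x4534734123476432)))) (.node 4 (.node 2 (.node 1 (.leaf 0x65347543423463432) (.leaf 0x34643423432)) (.node 1 (.leaf 0x74342342347423432) (.leaf 0x1234734634234623432))) (.node 2 (.node 1 (.leaf 0x4723434123476432) (.leaf 0x34754634123473432)) (.node 1 (.leaf 0x6342346434234643432)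 (.leaf 0x4734645434234623432))))))) (.node 32 (.node 16 (.node 8 (.node 4 (.node 2 (.node 1 (.leaf 0x4534734634123467432) (.leaf 0x6434534734123432)) (.node 1 (.leaf 0x7463473423463432) (.leaf 0x746347342347123432))) (.node 2 (.node 1 (.leaf 0x47346423432) (.leaf 0x4653412346423432)) (.node 1 (.leaf 0x434654734123476432) (.leaf 0x465434764234623432)))) (.node 4 (.node 2 (.node 1 (.leaf 0x6345347342347423432) (.leaf 0x65234754346423432)) (.node 1 (.leaf 0x53473434623432) (.leaf 0x4634543423463432))) (.node 2 (.node 1 (.leaf 0x54734523434123432) (.leaf 0x34754234123463432)) (.node 1 (.leaf 0x5463434723432) (.leaf 0x634345234347123432))))) (.node 8 (.node 4 (.node 2 (.node 1 (.leaf 0x7463434723432) (.leaf 0x46434523462343423432)) (.node 1 (.leaf 0x4534643423473432) (.leaf 0x475467343423432))) (.node 2 (.node 1 (.leaf 0x4653434654234623432) (.leaf 0x1234734634234743432)) (.node 1 (.leaf 0x474345342346123432) (.leaf 0x74347534123476432))))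 (.node 4 (.node 2 (.node 1 (.leaf 0x74346423432) (.leaf 0x45346434123476432)) (.node 1 (.leaf 0x746343423463432) (.leaf 0x4534734234723432))) (.node 2 (.node 1 (.leaf 0x7463423464123432) (.leaf 0x4753434234623432)) (.node 1 (.leaf 0x34641234234623432) (.leaf 0x1234623473423463432)))))) (.node 16 (.node 8 (.node 4 (.node 2 (.node 1 (.leaf 0x745347343423473432) (.leaf 0x63475434123467432)) (.node 1 (.leaf 0x3464342347123432) (.leaf 0x4534734234234653432))) (.node 2 (.node 1 (.leaf 0x43465423467432) (.leaf 0x4346343423467432)) (.node 1 (.leaf 0x54347453423467432) (.leaf 0x74673423463423432)))) (.node 4 (.node 2 (.node 1 (.leaf 0x342347643423432) (.leaf 0x4542346343423473432)) (.node 1 (.leaf 0x7234346123434123432) (.leaf 0x6723423462343423432))) (.node 2 (.node 1 (.leaf 0x742346234346423432) (.leaf 0x342346234346423432)) (.node 1 (.leaf 0x34347543423465432) (.leaf 0x547534634234623432))))) (.node 8 (.node 4 (.node 2 (.node 1 (.leaf 0x65473453423463432)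 (.leaf 0x745234634234623432)) (.node 1 (.leaf 0x61234234234623432) (.leaf 0x53463472343423432))) (.node 2 (.node 1 (.leaf 0x41234734534234753432) (.leaf 0x743423453465423432)) (.node 1 (.leaf 0x434642347342347123432) (.leaf 0x54623434723434123432)))) (.node 4 (.node 2 (.node 1 (.leaf 0x34534723453423432) (.leaf 0x7534347454234623432)) (.node 1 (.leaf 0x461234347454234623432) (.leaf 0x723463434234753432))) (.node 2 (.node 1 (.leaf 0x5234345234234623432) (.leaf 0x474534634234723432)) (.node 1 (.leaf 0x743423476453432) (.leaf 0x34752346345234623432)))))))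

def classATree_108 : Tree :=
  .node 64 (.node 32 (.node 16 (.node 8 (.node 4 (.node 2 (.node 1 (.leaf 0x652347343423432) (.leaf 0x6434523434123473432)) (.node 1 (.leaf 0x123473434123463432) (.leaf 0x12346434234723432))) (.node 2 (.node 1 (.leaf 0x475342343423473432) (.leaf 0x3476412342346123432)) (.node 1 (.leaf 0x345423475423432) (.leaf 0x5346234123463432)))) (.node 4 (.node 2 (.node 1 (.leaf 0x74523475423432) (.leaf 0x462347643423467432)) (.node 1 (.leaf 0x234534734123432) (.leaf 0x47534234234623432))) (.node 2 (.node 1 (.leaf 0x67345341234723432) (.leaf 0x4534674234723432)) (.node 1 (.leaf 0x76234734123467432) (.leaf 0x4543473423463432))))) (.node 8 (.node 4 (.node 2 (.node 1 (.leaf 0x4342342346123432) (.leaf 0x7543454234623432)) (.node 1 (.leaf 0x34654734123467432) (.leaf 0x634746434123467432))) (.node 2 (.node 1 (.leaf 0x342346234234623432) (.leaf 0x5474643423476432)) (.node 1 (.leaf 0x6547345234723432) (.leaf 0x234342347345234723432))))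 (.node 4 (.node 2 (.node 1 (.leaf 0x64543473423463432) (.leaf 0x454343423463432)) (.node 1 (.leaf 0x7345343423463432) (.leaf 0x743476434234753432))) (.node 2 (.node 1 (.leaf 0x72346434123476432) (.leaf 0x534674534234753432)) (.node 1 (.leaf 0x742346542346123432) (.leaf 0x74347423465432)))))) (.node 16 (.node 8 (.node 4 (.node 2 (.node 1 (.leaf 0x74342347645343423432) (.leaf 0x634734123463432)) (.node 1 (.leaf 0x5423473463423467432) (.leaf 0x7412346342346423432))) (.node 2 (.node 1 (.leaf 0x3423423473423432) (.leaf 0x34734634123463432)) (.node 1 (.leaf 0x6454234234234623432) (.leaf 0x452342346423432)))) (.node 4 (.node 2 (.node 1 (.leaf 0x412347341234723432) (.leaf 0x453434234534623432)) (.node 1 (.leaf 0x546434234754123432) (.leaf 0x74523463452346423432))) (.node 2 (.node 1 (.leaf 0x542346453423463432) (.leaf 0x76342347123432)) (.node 1 (.leaf 0x4346234234754123432) (.leaf 0x74346234234123432))))) (.node 8 (.node 4 (.node 2 (.node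 1 (.leaf 0x123473423464123432) (.leaf 0x1234346123432)) (.node 1 (.leaf 0x75434643423473432) (.leaf 0x347541234234723432))) (.node 2 (.node 1 (.leaf 0x47534342347423432) (.leaf 0x462341234623432)) (.node 1 (.leaf 0x4347345434234653432) (.leaf 0x423423463423432)))) (.node 4 (.node 2 (.node 1 (.leaf 0x4654342345346423432) (.leaf 0x7623476434234753432)) (.node 1 (.leaf 0x74534234346423432) (.leaf 0x64342347346423432))) (.node 2 (.node 1 (.leaf 0x342347434123467432) (.leaf 0x745234723432)) (.node 1 (.leaf 0x467462343423432) (.leaf 0x42347346234347123432))))))) (.node 32 (.node 16 (.node 8 (.node 4 (.node 2 (.node 1 (.leaf 0x123434523473432) (.leaf 0x4634523467423432)) (.node 1 (.leaf 0x734342346347423432) (.leaf 0x64523434234753432))) (.node 2 (.node 1 (.leaf 0x4673423473423432) (.leaf 0x3472341234723432)) (.node 1 (.leaf 0x72342347434123463432) (.leaf 0x43464341234623432)))) (.node 4 (.node 2 (.node 1 (.leaf 0x43452347643423476432) (.leaf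 0x74523472343423432)) (.node 1 (.leaf 0x434234753423467432) (.leaf 0x234674345423463432))) (.node 2 (.node 1 (.leaf 0x764764234523473432) (.leaf 0x2346743452346743432)) (.node 1 (.leaf 0x5347342346743423432) (.leaf 0x75462347343423463432))))) (.node 8 (.node 4 (.node 2 (.node 1 (.leaf 0x6534734123467432) (.leaf 0x76347234123476432)) (.node 1 (.leaf 0x473434234723432) (.leaf 0x734347343423473432))) (.node 2 (.node 1 (.leaf 0x34734623434123432) (.leaf 0x74542346345234623432)) (.node 1 (.leaf 0x2346743423476432) (.leaf 0x743463453423473432)))) (.node 4 (.node 2 (.node 1 (.leaf 0x75467343423432) (.leaf 0x234234234723432)) (.node 1 (.leaf 0x34234734123432) (.leaf 0x34763423473423432))) (.node 2 (.node 1 (.leaf 0x547453423476432) (.leaf 0x34643423474123432)) (.node 1 (.leaf 0x6452343423473432) (.leaf 0x476347642346123432)))))) (.node 16 (.node 8 (.node 4 (.node 2 (.node 1 (.leaf 0x234712342347123432) (.leaf 0x634742343423473432)) (.node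 1 (.leaf 0x23463423464123432) (.leaf 0x23473463452346423432))) (.node 2 (.node 1 (.leaf 0x346234123463432) (.leaf 0x746542346342346423432)) (.node 1 (.leaf 0x7465434234723432) (.leaf 0x342347234123476432)))) (.node 4 (.node 2 (.node 1 (.leaf 0x4623434123432) (.leaf 0x43423473423474123432)) (.node 1 (.leaf 0x2347634712343423432) (.leaf 0x475346343423463432))) (.node 2 (.node 1 (.leaf 0x6745342347123432) (.leaf 0x74123463434123473432)) (.node 1 (.leaf 0x546342346123432) (.leaf 0x34234123423465432))))) (.node 8 (.node 4 (.node 2 (.node 1 (.leaf 0x7534674343423463432) (.leaf 0x343465423432)) (.node 1 (.leaf 0x4623434123463432) (.leaf 0x434623453423476432))) (.node 2 (.node 1 (.leaf 0x4754342341234723432) (.leaf 0x6476423464123432)) (.node 1 (.leaf 0x4523463423432) (.leaf 0x647643423463432)))) (.node 4 (.node 2 (.node 1 (.leaf 0x6547643423463432) (.leaf 0x4347541234623432)) (.node 1 (.leaf 0x67465342346423432) (.leaf 0x4642343423473432)))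 (.node 2 (.node 1 (.leaf 0x64723463423463432) (.leaf 0x34754343423463432)) (.node 1 (.leaf 0x45346123434123432) (.leaf 0x5434712343423432)))))))

def classATree_109 : Tree :=
  .node 64 (.node 32 (.node 16 (.node 8 (.node 4 (.node 2 (.node 1 (.leaf 0x5343472343423432) (.leaf 0x67467434123467432)) (.node 1 (.leaf 0x6474346342346123432) (.leaf 0x34346542347123432))) (.node 2 (.node 1 (.leaf 0x5474343423473432) (.leaf 0x4643453462343423432)) (.node 1 (.leaf 0x654234764234623432) (.leaf 0x23434623434123432)))) (.node 4 (.node 2 (.node 1 (.leaf 0x45434346423432) (.leaf 0x7412346343423463432)) (.node 1 (.leaf 0x6434734234623432) (.leaf 0x423473463423463432))) (.node 2 (.node 1 (.leaf 0x723464534123476432) (.leaf 0x34674345423473432)) (.node 1 (.leaf 0x47464234123476432) (.leaf 0x743462343475432))))) (.node 8 (.node 4 (.node 2 (.node 1 (.leaf 0x754234234643432) (.leaf 0x412347543423473432)) (.node 1 (.leaf 0x643467432) (.leaf 0x5343463423475432)))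 (.node 2 (.node 1 (.leaf 0x7452346543423463432) (.leaf 0x6473423465432)) (.node 1 (.leaf 0x34645341234623432) (.leaf 0x4347643423473432)))) (.node 4 (.node 2 (.node 1 (.leaf 0x65234342347346423432) (.leaf 0x654346342346123432)) (.node 1 (.leaf 0x4752346234234723432) (.leaf 0x3434123432))) (.node 2 (.node 1 (.leaf 0x34764734123463432) (.leaf 0x534234764345423473432)) (.node 1 (.leaf 0x5234634123467432) (.leaf 0x6474234234654123432)))))) (.node 16 (.node 8 (.node 4 (.node 2 (.node 1 (.leaf 0x61234342347423432) (.leaf 0x434764234723432)) (.node 1 (.leaf 0x65412347345234723432) (.leaf 0x34341234634123432))) (.node 2 (.node 1 (.leaf 0x5347234342346123432) (.leaf 0x54643453423432)) (.node 1 (.leaf 0x341234234753432) (.leaf 0x42342342346423432)))) (.node 4 (.node 2 (.node 1 (.leaf 0x7541234623432) (.leaf 0x64346743423473432)) (.node 1 (.leaf 0x43453423476423432) (.leaf 0x6234746434523473432))) (.node 2 (.node 1 (.leaf 0x3434654712343423432)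 (.leaf 0x543473453423473432)) (.node 1 (.leaf 0x6434123432) (.leaf 0x46434123463432))))) (.node 8 (.node 4 (.node 2 (.node 1 (.leaf 0x67434234534723432) (.leaf 0x474643472343423432)) (.node 1 (.leaf 0x634342345347423432) (.leaf 0x54674234623432))) (.node 2 (.node 1 (.leaf 0x64345234234723432) (.leaf 0x74347643423463432)) (.node 1 (.leaf 0x343412346345234623432) (.leaf 0x63434764234723432)))) (.node 4 (.node 2 (.node 1 (.leaf 0x3412342347123432) (.leaf 0x647464234234753432)) (.node 1 (.leaf 0x543462345234623432) (.leaf 0x53434723434123432))) (.node 2 (.node 1 (.leaf 0x652347342347123432) (.leaf 0x67453462343423432)) (.node 1 (.leaf 0x46343423476453432) (.leaf 0x3434523434623432))))))) (.node 32 (.node 16 (.node 8 (.node 4 (.node 2 (.node 1 (.leaf 0x7434523467434123432) (.leaf 0x47643423467434123432)) (.node 1 (.leaf 0x43463423475432) (.leaf 0x462347341234723432))) (.node 2 (.node 1 (.leaf 0x473412347423432) (.leaf 0x6453462342346123432))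 (.node 1 (.leaf 0x434634234623432) (.leaf 0x4234674234523463432)))) (.node 4 (.node 2 (.node 1 (.leaf 0x47434674234723432) (.leaf 0x64523434734234723432)) (.node 1 (.leaf 0x4634764342346123432) (.leaf 0x43473463423463432))) (.node 2 (.node 1 (.leaf 0x2345347341234623432) (.leaf 0x47341234723432)) (.node 1 (.leaf 0x74346543423467432) (.leaf 0x6234342347346423432))))) (.node 8 (.node 4 (.node 2 (.node 1 (.leaf 0x434234674123432) (.leaf 0x474612343423432)) (.node 1 (.leaf 0x542347643423467432) (.leaf 0x2346541234234623432))) (.node 2 (.node 1 (.leaf 0x63452343423463432) (.leaf 0x65412347643423467432)) (.node 1 (.leaf 0x64347234234723432) (.leaf 0x4734123473423432)))) (.node 4 (.node 2 (.node 1 (.leaf 0x47643434234743432) (.leaf 0x434654234523473432)) (.node 1 (.leaf 0x745234734123463432) (.leaf 0x452342346123432))) (.node 2 (.node 1 (.leaf 0x543454234346423432) (.leaf 0x2347434234764123432)) (.node 1 (.leaf 0x452343464123432) (.leaf 0x46123423463423432))))))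 (.node 16 (.node 8 (.node 4 (.node 2 (.node 1 (.leaf 0x643473423463432) (.leaf 0x6234534234753432)) (.node 1 (.leaf 0x76434612343423432) (.leaf 0x3423462342346423432))) (.node 2 (.node 1 (.leaf 0x346742347123432) (.leaf 0x612343476423464123432)) (.node 1 (.leaf 0x4623434623432) (.leaf 0x43423467434123476432)))) (.node 4 (.node 2 (.node 1 (.leaf 0x4643473463423463432) (.leaf 0x463474643423473432)) (.node 1 (.leaf 0x7434623434754123432) (.leaf 0x546534234754123432))) (.node 2 (.node 1 (.leaf 0x74634345234723432) (.leaf 0x54654343423463432)) (.node 1 (.leaf 0x46234342347123432) (.leaf 0x7345346543423473432))))) (.node 8 (.node 4 (.node 2 (.node 1 (.leaf 0x46723423473423432) (.leaf 0x234764234234623432)) (.node 1 (.leaf 0x67423452342346123432) (.leaf 0x345234234234723432))) (.node 2 (.node 1 (.leaf 0x65434634542346423432) (.leaf 0x34643412346423432)) (.node 1 (.leaf 0x7462347542347123432) (.leaf 0x5434623475432)))) (.node 4 (.node 2 (.node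 1 (.leaf 0x54234654234623432) (.leaf 0x6453434234623432)) (.node 1 (.leaf 0x672346341234623432) (.leaf 0x74234234753432))) (.node 2 (.node 1 (.leaf 0x2346423473423476432) (.leaf 0x463434523434723432)) (.node 1 (.leaf 0x123474234234723432) (.leaf 0x4723467434234653432)))))))

def classATree_110 : Tree :=
  .node 64 (.node 32 (.node 16 (.node 8 (.node 4 (.node 2 (.node 1 (.leaf 0x534347343423476432) (.leaf 0x546347641234723432)) (.node 1 (.leaf 0x42347346542347423432) (.leaf 0x454234723432))) (.node 2 (.node 1 (.leaf 0x74623475423432) (.leaf 0x4674347642346423432)) (.node 1 (.leaf 0x4654342347423432) (.leaf 0x6454341234723432)))) (.node 4 (.node 2 (.node 1 (.leaf 0x5434234674123432) (.leaf 0x6723467434234653432)) (.node 1 (.leaf 0x4543467434234653432) (.leaf 0x7423461234234623432))) (.node 2 (.node 1 (.leaf 0x7634734234723432) (.leaf 0x63423476434123467432)) (.node 1 (.leaf 0x6343464234346423432) (.leaf 0x546123423463423432))))) (.node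 8 (.node 4 (.node 2 (.node 1 (.leaf 0x423453423467423432) (.leaf 0x65347234123476432)) (.node 1 (.leaf 0x46543473423463432) (.leaf 0x4542342346123432))) (.node 2 (.node 1 (.leaf 0x523434623434123432) (.leaf 0x547534634234743432)) (.node 1 (.leaf 0x763434523473432) (.leaf 0x434634345234723432)))) (.node 4 (.node 2 (.node 1 (.leaf 0x467434764234623432) (.leaf 0x423474234123476432)) (.node 1 (.leaf 0x534345423463432) (.leaf 0x4123473434523463432))) (.node 2 (.node 1 (.leaf 0x4723463423476432) (.leaf 0x543473453423463432)) (.node 1 (.leaf 0x7123434234653432) (.leaf 0x73462343423463432)))))) (.node 16 (.node 8 (.node 4 (.node 2 (.node 1 (.leaf 0x54723463434234723432) (.leaf 0x645346743423463432)) (.node 1 (.leaf 0x645347643423476432) (.leaf 0x423476434123467432))) (.node 2 (.node 1 (.leaf 0x2343467434123432) (.leaf 0x534734123476432)) (.node 1 (.leaf 0x4743423464543423432) (.leaf 0x4234234743432)))) (.node 4 (.node 2 (.node 1 (.leaf 0x423465423464123432)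 (.leaf 0x2346434234623432)) (.node 1 (.leaf 0x643453423463432) (.leaf 0x64123476434234753432))) (.node 2 (.node 1 (.leaf 0x7454234234753432) (.leaf 0x523472343423473432)) (.node 1 (.leaf 0x6453474234234723432) (.leaf 0x1234742341234723432))))) (.node 8 (.node 4 (.node 2 (.node 1 (.leaf 0x5343476452343423432) (.leaf 0x467434234734123432)) (.node 1 (.leaf 0x462347123434123432) (.leaf 0x4234723434123463432))) (.node 2 (.node 1 (.leaf 0x467423423463423432) (.leaf 0x654764341234623432)) (.node 1 (.leaf 0x7423463423473432) (.leaf 0x653473423467432)))) (.node 4 (.node 2 (.node 1 (.leaf 0x4234234623432) (.leaf 0x1234346123434123432)) (.node 1 (.leaf 0x34754342346123432) (.leaf 0x754234674123432))) (.node 2 (.node 1 (.leaf 0x6342347643423467432) (.leaf 0x64345234723432)) (.node 1 (.leaf 0x4734634234743432) (.leaf 0x434674345423463432))))))) (.node 32 (.node 16 (.node 8 (.node 4 (.node 2 (.node 1 (.leaf 0x453475343423463432) (.leaf 0x4234654342347423432))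 (.node 1 (.leaf 0x623474643423476432) (.leaf 0x3474341234723432))) (.node 2 (.node 1 (.leaf 0x43464523434123432) (.leaf 0x54346743423476432)) (.node 1 (.leaf 0x5412347643423467432) (.leaf 0x7467423453423432)))) (.node 4 (.node 2 (.node 1 (.leaf 0x453423467423432) (.leaf 0x4234723432)) (.node 1 (.leaf 0x534674345423473432) (.leaf 0x7534347534234723432))) (.node 2 (.node 1 (.leaf 0x5347346542346123432) (.leaf 0x7634346541234623432)) (.node 1 (.leaf 0x6434534234346423432) (.leaf 0x423464342346423432))))) (.node 8 (.node 4 (.node 2 (.node 1 (.leaf 0x53434234653432) (.leaf 0x5474346434234723432)) (.node 1 (.leaf 0x7634534234753432) (.leaf 0x534753423476432))) (.node 2 (.node 1 (.leaf 0x7523434523463432) (.leaf 0x347543412346423432)) (.node 1 (.leaf 0x423474543423473432) (.leaf 0x6343473423465432)))) (.node 4 (.node 2 (.node 1 (.leaf 0x742347542347123432) (.leaf 0x54742346341234623432)) (.node 1 (.leaf 0x43474634234753432) (.leaf 0x63412343423463432)))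 (.node 2 (.node 1 (.leaf 0x743463454234723432) (.leaf 0x4346341234623432)) (.node 1 (.leaf 0x5234642342346123432) (.leaf 0x547234234234723432)))))) (.node 16 (.node 8 (.node 4 (.node 2 (.node 1 (.leaf 0x234346434123463432) (.leaf 0x53412346343423463432)) (.node 1 (.leaf 0x34347523434123432) (.leaf 0x6423473453423473432))) (.node 2 (.node 1 (.leaf 0x473434234643432) (.leaf 0x546234347542346123432)) (.node 1 (.leaf 0x53434623476432) (.leaf 0x7546234234753432)))) (.node 4 (.node 2 (.node 1 (.leaf 0x34752346342346123432) (.leaf 0x53463423463432)) (.node 1 (.leaf 0x42343475423432) (.leaf 0x4234734523465423432))) (.node 2 (.node 1 (.leaf 0x7464734612343423432) (.leaf 0x54234734345423473432)) (.node 1 (.leaf 0x643473434523463432) (.leaf 0x647641234723432))))) (.node 8 (.node 4 (.node 2 (.node 1 (.leaf 0x7534347542346123432) (.leaf 0x654345234346423432)) (.node 1 (.leaf 0x6434634123473432) (.leaf 0x643472341234723432))) (.node 2 (.node 1 (.leaf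 0x3423461234234623432) (.leaf 0x4743463423476432)) (.node 1 (.leaf 0x6734342347123432) (.leaf 0x52347343423463432)))) (.node 4 (.node 2 (.node 1 (.leaf 0x234734345234623432) (.leaf 0x434612342346123432)) (.node 1 (.leaf 0x75423475423432) (.leaf 0x54346742347123432))) (.node 2 (.node 1 (.leaf 0x434634123473432) (.leaf 0x34654753423467432)) (.node 1 (.leaf 0x345342341234623432) (.leaf 0x61234743423467432)))))))

def classATree_111 : Tree :=
  .node 64 (.node 32 (.node 16 (.node 8 (.node 4 (.node 2 (.node 1 (.leaf 0x74341234623432) (.leaf 0x434234123463432)) (.node 1 (.leaf 0x634342347345234723432) (.leaf 0x4746453423476432))) (.node 2 (.node 1 (.leaf 0x5346234234754123432) (.leaf 0x7434534234653432)) (.node 1 (.leaf 0x7643423467434123432) (.leaf 0x534234642342346423432)))) (.node 4 (.node 2 (.node 1 (.leaf 0x5473423463423432) (.leaf 0x34754234234723432)) (.node 1 (.leaf 0x1234234523463432) (.leaf 0x7346743423473432))) (.node 2 (.node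 1 (.leaf 0x6472346542346123432) (.leaf 0x4523473412347423432)) (.node 1 (.leaf 0x74234523475423432) (.leaf 0x4654734523463432))))) (.node 8 (.node 4 (.node 2 (.node 1 (.leaf 0x7345341234723432) (.leaf 0x34342347123432)) (.node 1 (.leaf 0x6347453423467432) (.leaf 0x63473423467432))) (.node 2 (.node 1 (.leaf 0x412346543423463432) (.leaf 0x5234643452346423432)) (.node 1 (.leaf 0x7434653434523463432) (.leaf 0x53463434234723432)))) (.node 4 (.node 2 (.node 1 (.leaf 0x7343423465432) (.leaf 0x7434623475434123432)) (.node 1 (.leaf 0x2346543464123432) (.leaf 0x7346534234623432))) (.node 2 (.node 1 (.leaf 0x4623434754123432) (.leaf 0x7423462343423473432)) (.node 1 (.leaf 0x734647434523463432) (.leaf 0x673434523473432)))))) (.node 16 (.node 8 (.node 4 (.node 2 (.node 1 (.leaf 0x465347234234623432) (.leaf 0x5341234634234623432)) (.node 1 (.leaf 0x746434523465423432) (.leaf 0x23452347643423476432))) (.node 2 (.node 1 (.leaf 0x6434653412346423432)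 (.leaf 0x543464342346423432)) (.node 1 (.leaf 0x2347342347123432) (.leaf 0x434734342347423432)))) (.node 4 (.node 2 (.node 1 (.leaf 0x76434764534234753432) (.leaf 0x7346534234753432)) (.node 1 (.leaf 0x6743463454234723432) (.leaf 0x2342346743423476432))) (.node 2 (.node 1 (.leaf 0x54634347542346123432) (.leaf 0x6234534234723432)) (.node 1 (.leaf 0x4346453423467432) (.leaf 0x342346345234623432))))) (.node 8 (.node 4 (.node 2 (.node 1 (.leaf 0x23464523434123476432) (.leaf 0x534734634123463432)) (.node 1 (.leaf 0x5463474343423463432) (.leaf 0x6423464342346423432))) (.node 2 (.node 1 (.leaf 0x6234534623432) (.leaf 0x3465473434234653432)) (.node 1 (.leaf 0x3463453423473432) (.leaf 0x5467423453423432)))) (.node 4 (.node 2 (.node 1 (.leaf 0x346343423473432) (.leaf 0x2347341234723432)) (.node 1 (.leaf 0x73467463423476432) (.leaf 0x34634342346423432))) (.node 2 (.node 1 (.leaf 0x7346453423476432) (.leaf 0x47346434234723432)) (.node 1 (.leaf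 0x5462343452343423465432) (.leaf 0x7434642343423463432))))))) (.node 32 (.node 16 (.node 8 (.node 4 (.node 2 (.node 1 (.leaf 0x763453423467432) (.leaf 0x547643462343423432)) (.node 1 (.leaf 0x6473463452343423432) (.leaf 0x764347641234723432))) (.node 2 (.node 1 (.leaf 0x34346434123476432) (.leaf 0x6473465342346423432)) (.node 1 (.leaf 0x463434234623432) (.leaf 0x7463434623476432)))) (.node 4 (.node 2 (.node 1 (.leaf 0x63434723467432) (.leaf 0x543423434234643432)) (.node 1 (.leaf 0x12347342347123432) (.leaf 0x745434723432))) (.node 2 (.node 1 (.leaf 0x34346712343423432) (.leaf 0x53467434523473432)) (.node 1 (.leaf 0x2343474342347423432) (.leaf 0x4674234234643432))))) (.node 8 (.node 4 (.node 2 (.node 1 (.leaf 0x742346542346423432) (.leaf 0x23463434234653432)) (.node 1 (.leaf 0x64542347342347423432) (.leaf 0x34734674234723432))) (.node 2 (.node 1 (.leaf 0x7546342345347423432) (.leaf 0x6453463423473432)) (.node 1 (.leaf 0x4234674342347123432)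 (.leaf 0x63423453423473432)))) (.node 4 (.node 2 (.node 1 (.leaf 0x74523473423463432) (.leaf 0x6434674234234723432)) (.node 1 (.leaf 0x65476434234623432) (.leaf 0x41234234623432))) (.node 2 (.node 1 (.leaf 0x4653473434234653432) (.leaf 0x46534234346423432)) (.node 1 (.leaf 0x643465234234623432) (.leaf 0x76452346743423467432)))))) (.node 16 (.node 8 (.node 4 (.node 2 (.node 1 (.leaf 0x5463434623476432) (.leaf 0x5346741234723432)) (.node 1 (.leaf 0x46234734234723432) (.leaf 0x647343423463432))) (.node 2 (.node 1 (.leaf 0x234654234234623432) (.leaf 0x542347453423467432)) (.node 1 (.leaf 0x64734234723432) (.leaf 0x46743476434234753432)))) (.node 4 (.node 2 (.node 1 (.leaf 0x45234346423432) (.leaf 0x47534634234623432)) (.node 1 (.leaf 0x347234234234653432) (.leaf 0x61234342346347423432))) (.node 2 (.node 1 (.leaf 0x346746234234753432) (.leaf 0x47534234734123432)) (.node 1 (.leaf 0x5423462342346123432) (.leaf 0x4234723465423432))))) (.node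 8 (.node 4 (.node 2 (.node 1 (.leaf 0x54342347346423432) (.leaf 0x6234345423473432)) (.node 1 (.leaf 0x434764342346123432) (.leaf 0x654346434123463432))) (.node 2 (.node 1 (.leaf 0x345234347342347123432) (.leaf 0x46234346123432)) (.node 1 (.leaf 0x623434647423432) (.leaf 0x5423476434123467432)))) (.node 4 (.node 2 (.node 1 (.leaf 0x764534623434123432) (.leaf 0x434234234234723432)) (.node 1 (.leaf 0x46734534234723432) (.leaf 0x453412346743423476432))) (.node 2 (.node 1 (.leaf 0x234534734234623432) (.leaf 0x67346743423467432)) (.node 1 (.leaf 0x534342343423473432) (.leaf 0x643467434234753432)))))))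

def classATree_112 : Tree :=
  .node 64 (.node 32 (.node 16 (.node 8 (.node 4 (.node 2 (.node 1 (.leaf 0x6347434123467432) (.leaf 0x6347234123476432)) (.node 1 (.leaf 0x547434123463432) (.leaf 0x46734342347123432))) (.node 2 (.node 1 (.leaf 0x7612343472343423432) (.leaf 0x3474643412346423432)) (.node 1 (.leaf 0x4634543423476432) (.leaf 0x6234754342346423432)))) (.node 4 (.node 2 (.node 1 (.leaf 0x343474123432) (.leaf 0x6741234623432)) (.node 1 (.leaf 0x1234746434234753432) (.leaf 0x34346342346123432))) (.node 2 (.node 1 (.leaf 0x6746347342347423432) (.leaf 0x3462342346123432)) (.node 1 (.leaf 0x347634723434623432) (.leaf 0x543452343423463432))))) (.node 8 (.node 4 (.node 2 (.node 1 (.leaf 0x653473463423463432) (.leaf 0x76347342347423432)) (.node 1 (.leaf 0x753467434234653432) (.leaf 0x346234234753432))) (.node 2 (.node 1 (.leaf 0x4723464342346423432) (.leaf 0x23473453423473432)) (.node 1 (.leaf 0x743423423423465432) (.leaf 0x234734345423473432))))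 (.node 4 (.node 2 (.node 1 (.leaf 0x543452343423475432) (.leaf 0x67453423432)) (.node 1 (.leaf 0x674653423463432) (.leaf 0x674534234234723432))) (.node 2 (.node 1 (.leaf 0x34723434634234623432) (.leaf 0x23472346342346423432)) (.node 1 (.leaf 0x4234534734234723432) (.leaf 0x434643452347423432)))))) (.node 16 (.node 8 (.node 4 (.node 2 (.node 1 (.leaf 0x347534634234623432) (.leaf 0x76343476423464123432)) (.node 1 (.leaf 0x642342346342346123432) (.leaf 0x64342346345234623432))) (.node 2 (.node 1 (.leaf 0x6123434234346423432) (.leaf 0x43473453423473432)) (.node 1 (.leaf 0x343465342347123432) (.leaf 0x74543463423464123432)))) (.node 4 (.node 2 (.node 1 (.leaf 0x74653434234653432) (.leaf 0x7453473423467432)) (.node 1 (.leaf 0x7234523423473423432) (.leaf 0x4234346542346423432))) (.node 2 (.node 1 (.leaf 0x4346434234643432) (.leaf 0x46452343423432)) (.node 1 (.leaf 0x463473452346423432) (.leaf 0x3463476434234723432))))) (.node 8 (.node 4 (.node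 2 (.node 1 (.leaf 0x5434642342346423432) (.leaf 0x7434345423463432)) (.node 1 (.leaf 0x7434634234643432) (.leaf 0x7434734234623432))) (.node 2 (.node 1 (.leaf 0x423453473423432) (.leaf 0x346434234123473432)) (.node 1 (.leaf 0x65473434234653432) (.leaf 0x74543423473432)))) (.node 4 (.node 2 (.node 1 (.leaf 0x634534234623432) (.leaf 0x7464543423473432)) (.node 1 (.leaf 0x734634723434623432) (.leaf 0x734534123476432))) (.node 2 (.node 1 (.leaf 0x645234623432) (.leaf 0x234764345423473432)) (.node 1 (.leaf 0x73465234234623432) (.leaf 0x643473434234623432))))))) (.node 32 (.node 16 (.node 8 (.node 4 (.node 2 (.node 1 (.leaf 0x234623434234623432) (.leaf 0x34623434123473432)) (.node 1 (.leaf 0x645346423432) (.leaf 0x634753434234753432))) (.node 2 (.node 1 (.leaf 0x434764712343423432) (.leaf 0x347412343423473432)) (.node 1 (.leaf 0x4234234734234723432) (.leaf 0x47342346345234623432)))) (.node 4 (.node 2 (.node 1 (.leaf 0x7234342342346423432)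 (.leaf 0x473423463423475432)) (.node 1 (.leaf 0x4342347342347423432) (.leaf 0x634234734234723432))) (.node 2 (.node 1 (.leaf 0x47234634234643432) (.leaf 0x643473434234753432)) (.node 1 (.leaf 0x7434634345423463432) (.leaf 0x346347342347423432))))) (.node 8 (.node 4 (.node 2 (.node 1 (.leaf 0x7645347643423473432) (.leaf 0x472342347123432)) (.node 1 (.leaf 0x473423432) (.leaf 0x734234234123476432))) (.node 2 (.node 1 (.leaf 0x6453423473432) (.leaf 0x64123473423474123432)) (.node 1 (.leaf 0x64523473452347423432) (.leaf 0x72343423432)))) (.node 4 (.node 2 (.node 1 (.leaf 0x23476453423473432) (.leaf 0x75434634234643432)) (.node 1 (.leaf 0x723434234753432) (.leaf 0x45346342346423432))) (.node 2 (.node 1 (.leaf 0x434746434234753432) (.leaf 0x723463423463432)) (.node 1 (.leaf 0x6434634534234653432) (.leaf 0x4534674342347123432)))))) (.node 16 (.node 8 (.node 4 (.node 2 (.node 1 (.leaf 0x475434634234643432) (.leaf 0x342345341234623432)) (.node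 1 (.leaf 0x723434647423432) (.leaf 0x734534712343423432))) (.node 2 (.node 1 (.leaf 0x434764734123467432) (.leaf 0x234346741234623432)) (.node 1 (.leaf 0x4734234634123432) (.leaf 0x4764534764234623432)))) (.node 4 (.node 2 (.node 1 (.leaf 0x734534634234623432) (.leaf 0x742347642346123432)) (.node 1 (.leaf 0x34534234674123432) (.leaf 0x64734123473423432))) (.node 2 (.node 1 (.leaf 0x234723462343423432) (.leaf 0x4743423463432)) (.node 1 (.leaf 0x672343472343423432) (.leaf 0x346345342347123432))))) (.node 8 (.node 4 (.node 2 (.node 1 (.leaf 0x75462347342347423432) (.leaf 0x4723463423464123432)) (.node 1 (.leaf 0x4654734123463432) (.leaf 0x72345341234623432))) (.node 2 (.node 1 (.leaf 0x4743463423463432) (.leaf 0x43423473432)) (.node 1 (.leaf 0x476423463423463432) (.leaf 0x473423463432)))) (.node 4 (.node 2 (.node 1 (.leaf 0x674534234734123432) (.leaf 0x7534234234623432)) (.node 1 (.leaf 0x764347534234653432) (.leaf 0x3452347345234723432)))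 (.node 2 (.node 1 (.leaf 0x534674345234623432) (.leaf 0x764347434234623432)) (.node 1 (.leaf 0x473434647423432) (.leaf 0x234746453423476432)))))))

def classATree_113 : Tree :=
  .node 64 (.node 32 (.node 16 (.node 8 (.node 4 (.node 2 (.node 1 (.leaf 0x4654753423476432) (.leaf 0x64763423473423432)) (.node 1 (.leaf 0x723463423463423432) (.leaf 0x72346342346423432))) (.node 2 (.node 1 (.leaf 0x234741234234723432) (.leaf 0x4734674534234653432)) (.node 1 (.leaf 0x734345423473432) (.leaf 0x23453467434123463432)))) (.node 4 (.node 2 (.node 1 (.leaf 0x54234634542346423432) (.leaf 0x4634745434234723432)) (.node 1 (.leaf 0x643463453423463432) (.leaf 0x4345342346123432))) (.node 2 (.node 1 (.leaf 0x543423463423464123432) (.leaf 0x7434652343423476432)) (.node 1 (.leaf 0x7546347123434123432) (.leaf 0x764347534234723432))))) (.node 8 (.node 4 (.node 2 (.node 1 (.leaf 0x645434234723432) (.leaf 0x47464342346123432)) (.node 1 (.leaf 0x73423423423475432)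 (.leaf 0x73434647423432))) (.node 2 (.node 1 (.leaf 0x53423453423463432) (.leaf 0x423464343423473432)) (.node 1 (.leaf 0x2347645234623432) (.leaf 0x423453475423432)))) (.node 4 (.node 2 (.node 1 (.leaf 0x54342347123432) (.leaf 0x453463423463423432)) (.node 1 (.leaf 0x7345347641234623432) (.leaf 0x476343472343423432))) (.node 2 (.node 1 (.leaf 0x734346742347123432) (.leaf 0x4234634234753432)) (.node 1 (.leaf 0x754653423463432) (.leaf 0x5467453423473432)))))) (.node 16 (.node 8 (.node 4 (.node 2 (.node 1 (.leaf 0x546473423453423432) (.leaf 0x7345346341234623432)) (.node 1 (.leaf 0x7343452343464123432) (.leaf 0x7464343423473432))) (.node 2 (.node 1 (.leaf 0x6547342347423432) (.leaf 0x47345434234623432)) (.node 1 (.leaf 0x476434234234723432) (.leaf 0x754347343423473432)))) (.node 4 (.node 2 (.node 1 (.leaf 0x512346343423432) (.leaf 0x754234654123432)) (.node 1 (.leaf 0x5343475423467432) (.leaf 0x745343423476423432))) (.node 2 (.node 1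 (.leaf 0x234342343423463432) (.leaf 0x623473452346423432)) (.node 1 (.leaf 0x63423423473423432) (.leaf 0x346123434734234723432))))) (.node 8 (.node 4 (.node 2 (.node 1 (.leaf 0x5234746434234753432) (.leaf 0x764234623432)) (.node 1 (.leaf 0x6723462343423463432) (.leaf 0x7463434734234723432))) (.node 2 (.node 1 (.leaf 0x764346423432) (.leaf 0x543463423464123432)) (.node 1 (.leaf 0x762343463423463432) (.leaf 0x4534634542346423432)))) (.node 4 (.node 2 (.node 1 (.leaf 0x5434643423474123432) (.leaf 0x73467434523463432)) (.node 1 (.leaf 0x346234234754123432) (.leaf 0x234523463434123473432))) (.node 2 (.node 1 (.leaf 0x4343475463423463432) (.leaf 0x74543423423465432)) (.node 1 (.leaf 0x43423453423475432) (.leaf 0x346234234523473432))))))) (.node 32 (.node 16 (.node 8 (.node 4 (.node 2 (.node 1 (.leaf 0x6543412346345234623432) (.leaf 0x54346453423463432)) (.node 1 (.leaf 0x7453463452346423432) (.leaf 0x743467453423476432))) (.node 2 (.node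 1 (.leaf 0x4345346343423463432) (.leaf 0x5463475342346423432)) (.node 1 (.leaf 0x5234764234623432) (.leaf 0x452343475423432)))) (.node 4 (.node 2 (.node 1 (.leaf 0x434534634234723432) (.leaf 0x546423453423432)) (.node 1 (.leaf 0x543475343423473432) (.leaf 0x434734634234753432))) (.node 2 (.node 1 (.leaf 0x74345341234623432) (.leaf 0x534643453423473432)) (.node 1 (.leaf 0x6734342346347423432) (.leaf 0x347345434234653432))))) (.node 8 (.node 4 (.node 2 (.node 1 (.leaf 0x634743412347423432) (.leaf 0x6347423463423464123432)) (.node 1 (.leaf 0x75343463423463432) (.leaf 0x764234123432))) (.node 2 (.node 1 (.leaf 0x7464234123463432) (.leaf 0x723434234347423432)) (.node 1 (.leaf 0x5423464343423473432) (.leaf 0x543464341234643432)))) (.node 4 (.node 2 (.node 1 (.leaf 0x534612342346123432) (.leaf 0x234753434234753432)) (.node 1 (.leaf 0x7623434712343423432) (.leaf 0x434123463423467432))) (.node 2 (.node 1 (.leaf 0x65475343423432) (.leaf 0x2345342345347423432))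 (.node 1 (.leaf 0x347345234234753432) (.leaf 0x34754234523473432)))))) (.node 16 (.node 8 (.node 4 (.node 2 (.node 1 (.leaf 0x67434653432) (.leaf 0x6723463423476423432)) (.node 1 (.leaf 0x73453473423465432) (.leaf 0x464543432))) (.node 2 (.node 1 (.leaf 0x63472341234623432) (.leaf 0x476434234653432)) (.node 1 (.leaf 0x43467343423432) (.leaf 0x64723453423463432)))) (.node 4 (.node 2 (.node 1 (.leaf 0x4764346742347123432) (.leaf 0x67434652343423476432)) (.node 1 (.leaf 0x634734623475423432) (.leaf 0x52346234523465423432))) (.node 2 (.node 1 (.leaf 0x7623434123476432) (.leaf 0x4743465434234643432)) (.node 1 (.leaf 0x46742343423473432) (.leaf 0x4346523434623432))))) (.node 8 (.node 4 (.node 2 (.node 1 (.leaf 0x76123434234623432) (.leaf 0x745434634234623432)) (.node 1 (.leaf 0x123434743423467432) (.leaf 0x46347642346123432))) (.node 2 (.node 1 (.leaf 0x34534723432) (.leaf 0x5347234234234723432)) (.node 1 (.leaf 0x42347434123463432) (.leaf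 0x43473434723432)))) (.node 4 (.node 2 (.node 1 (.leaf 0x642346543474123432) (.leaf 0x34347645343423432)) (.node 1 (.leaf 0x46454346123432) (.leaf 0x674347645234623432))) (.node 2 (.node 1 (.leaf 0x4764342345346423432) (.leaf 0x654346347423432)) (.node 1 (.leaf 0x764234634123473432) (.leaf 0x434674634123476432)))))))

def classATree_114 : Tree :=
  .node 64 (.node 32 (.node 16 (.node 8 (.node 4 (.node 2 (.node 1 (.leaf 0x34346542346123432) (.leaf 0x54763452343423432)) (.node 1 (.leaf 0x754634723434623432) (.leaf 0x547346452343423432))) (.node 2 (.node 1 (.leaf 0x46453434234623432) (.leaf 0x463423473423465432)) (.node 1 (.leaf 0x346534734123467432) (.leaf 0x473465423432)))) (.node 4 (.node 2 (.node 1 (.leaf 0x6343475423432) (.leaf 0x453476453423467432)) (.node 1 (.leaf 0x7543412347423432) (.leaf 0x623434746423432))) (.node 2 (.node 1 (.leaf 0x5342341234723432) (.leaf 0x754346534234623432)) (.node 1 (.leaf 0x534674534123476432) (.leaf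 0x674347642346423432))))) (.node 8 (.node 4 (.node 2 (.node 1 (.leaf 0x5474643423467432) (.leaf 0x34347234234723432)) (.node 1 (.leaf 0x234741234234623432) (.leaf 0x54734523463432))) (.node 2 (.node 1 (.leaf 0x4674534234653432) (.leaf 0x546234734123476432)) (.node 1 (.leaf 0x74523423475423432) (.leaf 0x4654734234653432)))) (.node 4 (.node 2 (.node 1 (.leaf 0x1234342347123432) (.leaf 0x345434234723432)) (.node 1 (.leaf 0x5434753432) (.leaf 0x5463432))) (.node 2 (.node 1 (.leaf 0x5463473423465432) (.leaf 0x763475434123463432)) (.node 1 (.leaf 0x5434753423476432) (.leaf 0x3464234123432)))))) (.node 16 (.node 8 (.node 4 (.node 2 (.node 1 (.leaf 0x54764734234653432) (.leaf 0x3462343463423463432)) (.node 1 (.leaf 0x4723434623434123432) (.leaf 0x54346434234743432))) (.node 2 (.node 1 (.leaf 0x546347345234723432) (.leaf 0x345346343423463432)) (.node 1 (.leaf 0x543464123432) (.leaf 0x4347434123476432)))) (.node 4 (.node 2 (.node 1 (.leaf 0x5463473423467423432)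 (.leaf 0x46746343423432)) (.node 1 (.leaf 0x4347346234347123432) (.leaf 0x347543423463432))) (.node 2 (.node 1 (.leaf 0x4712343423476432) (.leaf 0x5347543423463432)) (.node 1 (.leaf 0x3464347343423463432) (.leaf 0x54634347123432))))) (.node 8 (.node 4 (.node 2 (.node 1 (.leaf 0x5463452346423432) (.leaf 0x6343462343475423432)) (.node 1 (.leaf 0x6723463453423473432) (.leaf 0x434743453423432))) (.node 2 (.node 1 (.leaf 0x4734523434123432) (.leaf 0x5234347434234643432)) (.node 1 (.leaf 0x54634734123463432) (.leaf 0x547454343423463432)))) (.node 4 (.node 2 (.node 1 (.leaf 0x5463434123463432) (.leaf 0x75465342346423432)) (.node 1 (.leaf 0x546347341234723432) (.leaf 0x634342345347123432))) (.node 2 (.node 1 (.leaf 0x74634347123432) (.leaf 0x6234754346423432)) (.node 1 (.leaf 0x3473434623432) (.leaf 0x7423464543423473432))))))) (.node 32 (.node 16 (.node 8 (.node 4 (.node 2 (.node 1 (.leaf 0x47534652343423432) (.leaf 0x7454346423432)) (.node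 1 (.leaf 0x4753423473423463432) (.leaf 0x54346453423476432))) (.node 2 (.node 1 (.leaf 0x5463473423467432) (.leaf 0x4543473434123473432)) (.node 1 (.leaf 0x523473434723432) (.leaf 0x67346234234623432)))) (.node 4 (.node 2 (.node 1 (.leaf 0x42347453412346423432) (.leaf 0x464743412347423432)) (.node 1 (.leaf 0x123474342347123432) (.leaf 0x45434723432))) (.node 2 (.node 1 (.leaf 0x2346543423476432) (.leaf 0x2346453423476432)) (.node 1 (.leaf 0x743476432) (.leaf 0x752343423476432))))) (.node 8 (.node 4 (.node 2 (.node 1 (.leaf 0x23471234234623432) (.leaf 0x547434523463432)) (.node 1 (.leaf 0x764764734234653432) (.leaf 0x41234734123476432))) (.node 2 (.node 1 (.leaf 0x4643423474543423432) (.leaf 0x5462347343423463432)) (.node 1 (.leaf 0x7342347643423432) (.leaf 0x74542346343423473432)))) (.node 4 (.node 2 (.node 1 (.leaf 0x46743465423467432) (.leaf 0x23463423475423432)) (.node 1 (.leaf 0x34543463432) (.leaf 0x423423423465432))) (.node 2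 (.node 1 (.leaf 0x3434623475432) (.leaf 0x6743467432)) (.node 1 (.leaf 0x4234234643432) (.leaf 0x642346542346123432)))))) (.node 16 (.node 8 (.node 4 (.node 2 (.node 1 (.leaf 0x423462343464123432) (.leaf 0x7343463423475432)) (.node 1 (.leaf 0x6734347641234723432) (.leaf 0x47234634123467432))) (.node 2 (.node 1 (.leaf 0x647234234654123432) (.leaf 0x423462343423463432)) (.node 1 (.leaf 0x523463434523473432) (.leaf 0x647641234234753432)))) (.node 4 (.node 2 (.node 1 (.leaf 0x753434234534623432) (.leaf 0x42346234234723432)) (.node 1 (.leaf 0x434523476434234753432) (.leaf 0x434653423467432))) (.node 2 (.node 1 (.leaf 0x4234743423476432) (.leaf 0x6734347642346123432)) (.node 1 (.leaf 0x6434523434723432) (.leaf 0x6743423432))))) (.node 8 (.node 4 (.node 2 (.node 1 (.leaf 0x67463423463432) (.leaf 0x7534234234753432)) (.node 1 (.leaf 0x71234634123467432) (.leaf 0x734523476434523473432))) (.node 2 (.node 1 (.leaf 0x43465434123467432) (.leaf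 0x34234623434234623432)) (.node 1 (.leaf 0x753423423473423432) (.leaf 0x343452346743432)))) (.node 4 (.node 2 (.node 1 (.leaf 0x743465234234623432) (.leaf 0x43463423453423432)) (.node 1 (.leaf 0x6475234234723432) (.leaf 0x64534612343423432))) (.node 2 (.node 1 (.leaf 0x623474534234723432) (.leaf 0x7463475342346423432)) (.node 1 (.leaf 0x734347123434123432) (.leaf 0x6734347642346423432)))))))

def classATree_115 : Tree :=
  .node 64 (.node 32 (.node 16 (.node 8 (.node 4 (.node 2 (.node 1 (.leaf 0x4234623432) (.leaf 0x42342347123432)) (.node 1 (.leaf 0x53476453423473432) (.leaf 0x75343423432))) (.node 2 (.node 1 (.leaf 0x746741234623432) (.leaf 0x54674234234723432)) (.node 1 (.leaf 0x754347641234723432) (.leaf 0x7642347345234723432)))) (.node 4 (.node 2 (.node 1 (.leaf 0x34347343423463432) (.leaf 0x46234734234623432)) (.node 1 (.leaf 0x746434234123432) (.leaf 0x464742342347123432))) (.node 2 (.node 1 (.leaf 0x74234234754123432) (.leaf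 0x46547534234653432)) (.node 1 (.leaf 0x734342347123432) (.leaf 0x345341234723432))))) (.node 8 (.node 4 (.node 2 (.node 1 (.leaf 0x64734345234623432) (.leaf 0x4543423473432)) (.node 1 (.leaf 0x5423473423474123432) (.leaf 0x6412346343423473432))) (.node 2 (.node 1 (.leaf 0x6473434723467432) (.leaf 0x47541234234753432)) (.node 1 (.leaf 0x523475434123432) (.leaf 0x343423475432)))) (.node 4 (.node 2 (.node 1 (.leaf 0x23475434123473432) (.leaf 0x347643473423463432)) (.node 1 (.leaf 0x12346342346423432) (.leaf 0x673463423453423432))) (.node 2 (.node 1 (.leaf 0x634234743423463432) (.leaf 0x3434234634123432)) (.node 1 (.leaf 0x4342347342347123432) (.leaf 0x123434753423432)))))) (.node 16 (.node 8 (.node 4 (.node 2 (.node 1 (.leaf 0x46743462342346423432) (.leaf 0x753434123463432)) (.node 1 (.leaf 0x6452347341234723432) (.leaf 0x3464543423476432))) (.node 2 (.node 1 (.leaf 0x1234752343423467432) (.leaf 0x5474534634234723432)) (.node 1 (.leaf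 0x543473434234653432) (.leaf 0x4534653434523463432)))) (.node 4 (.node 2 (.node 1 (.leaf 0x723423462343423432) (.leaf 0x343423463432)) (.node 1 (.leaf 0x5343473462343423432) (.leaf 0x234534674234623432))) (.node 2 (.node 1 (.leaf 0x475346341234723432) (.leaf 0x52347452343423467432)) (.node 1 (.leaf 0x12346343423473432) (.leaf 0x643463434234723432))))) (.node 8 (.node 4 (.node 2 (.node 1 (.leaf 0x4534234234653432) (.leaf 0x534723434234623432)) (.node 1 (.leaf 0x7434347462343423432) (.leaf 0x434234764534234753432))) (.node 2 (.node 1 (.leaf 0x4346234123476432) (.leaf 0x64523434623432)) (.node 1 (.leaf 0x4734634123476432) (.leaf 0x643463434234643432)))) (.node 4 (.node 2 (.node 1 (.leaf 0x343423463434234743432) (.leaf 0x64734342347123432)) (.node 1 (.leaf 0x123463434623432) (.leaf 0x543453423473423432))) (.node 2 (.node 1 (.leaf 0x46412347342347123432) (.leaf 0x453423423475432)) (.node 1 (.leaf 0x543463472343423432) (.leaf 0x23475434234753432)))))))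 (.node 32 (.node 16 (.node 8 (.node 4 (.node 2 (.node 1 (.leaf 0x34645342346423432) (.leaf 0x7434634712343423432)) (.node 1 (.leaf 0x34643452343423432) (.leaf 0x4753434234653432))) (.node 2 (.node 1 (.leaf 0x34342346345234623432) (.leaf 0x346347542346423432)) (.node 1 (.leaf 0x6745347643423473432) (.leaf 0x42346434234753432)))) (.node 4 (.node 2 (.node 1 (.leaf 0x34734634234753432) (.leaf 0x4753463423464123432)) (.node 1 (.leaf 0x4743465342346423432) (.leaf 0x634743452347423432))) (.node 2 (.node 1 (.leaf 0x72346542346123432) (.leaf 0x423473434123463432)) (.node 1 (.leaf 0x343423465432) (.leaf 0x434623475434123432))))) (.node 8 (.node 4 (.node 2 (.node 1 (.leaf 0x2347343473423432) (.leaf 0x346534234623432)) (.node 1 (.leaf 0x423462343423473432) (.leaf 0x34647434523463432))) (.node 2 (.node 1 (.leaf 0x75341234634234623432) (.leaf 0x3453423473423463432)) (.node 1 (.leaf 0x6523476434623432) (.leaf 0x346534234753432)))) (.node 4 (.node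 2 (.node 1 (.leaf 0x6434234534634123432) (.leaf 0x653434523473432)) (.node 1 (.leaf 0x6534345234723432) (.leaf 0x65473463434234723432))) (.node 2 (.node 1 (.leaf 0x4234743412347423432) (.leaf 0x67123434623432)) (.node 1 (.leaf 0x7543464342346423432) (.leaf 0x46453434623476432)))))) (.node 16 (.node 8 (.node 4 (.node 2 (.node 1 (.leaf 0x23474342347123432) (.leaf 0x52346423453423476432)) (.node 1 (.leaf 0x4347345434234723432) (.leaf 0x23474341234723432))) (.node 2 (.node 1 (.leaf 0x46434523465423432) (.leaf 0x723452347643423476432)) (.node 1 (.leaf 0x434623434123473432) (.leaf 0x73463453423473432)))) (.node 4 (.node 2 (.node 1 (.leaf 0x7342346345234623432) (.leaf 0x46345423465423432)) (.node 1 (.leaf 0x434642343423463432) (.leaf 0x234346541234623432))) (.node 2 (.node 1 (.leaf 0x6434764534234753432) (.leaf 0x7463434234623432)) (.node 1 (.leaf 0x72342346743423476432) (.leaf 0x534645342347123432))))) (.node 8 (.node 4 (.node 2 (.node 1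 (.leaf 0x46343463472343423432) (.leaf 0x423473434723432)) (.node 1 (.leaf 0x346453423476432) (.leaf 0x474346434234723432))) (.node 2 (.node 1 (.leaf 0x452346423453423476432) (.leaf 0x7346343423473432)) (.node 1 (.leaf 0x63453423467432) (.leaf 0x64534764234723432)))) (.node 4 (.node 2 (.node 1 (.leaf 0x64347641234723432) (.leaf 0x346234723434623432)) (.node 1 (.leaf 0x343473453423473432) (.leaf 0x64347123434623432))) (.node 2 (.node 1 (.leaf 0x3467463423476432) (.leaf 0x463434623476432)) (.node 1 (.leaf 0x4543473432) (.leaf 0x54653432)))))))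

def classATree_116 : Tree :=
  .node 64 (.node 32 (.node 16 (.node 8 (.node 4 (.node 2 (.node 1 (.leaf 0x47546234234643432) (.leaf 0x5346434123432)) (.node 1 (.leaf 0x547464734234653432) (.leaf 0x63475434123463432))) (.node 2 (.node 1 (.leaf 0x64734234523463432) (.leaf 0x3434523423423465432)) (.node 1 (.leaf 0x4523465343423463432) (.leaf 0x63476434623432)))) (.node 4 (.node 2 (.node 1 (.leaf 0x3423474543423463432) (.leaf 0x754346434234743432)) (.node 1 (.leaf 0x3475434712343423432) (.leaf 0x3475463423473432))) (.node 2 (.node 1 (.leaf 0x6472343423476432) (.leaf 0x7345346343423463432)) (.node 1 (.leaf 0x76343462343475423432) (.leaf 0x4734234234123463432))))) (.node 8 (.node 4 (.node 2 (.node 1 (.leaf 0x4234745342346423432) (.leaf 0x643453475423432)) (.node 1 (.leaf 0x7543464123432) (.leaf 0x4543473423476432))) (.node 2 (.node 1 (.leaf 0x75463473423467423432) (.leaf 0x3474543423463432)) (.node 1 (.leaf 0x4734234234123432) (.leaf 0x62347543464123432))))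 (.node 4 (.node 2 (.node 1 (.leaf 0x34734346123432) (.leaf 0x47234346123434123432)) (.node 1 (.leaf 0x47346234234123432) (.leaf 0x75463452346423432))) (.node 2 (.node 1 (.leaf 0x67463434723432) (.leaf 0x474534652343423432)) (.node 1 (.leaf 0x5234734634234623432) (.leaf 0x546534734234643432)))))) (.node 16 (.node 8 (.node 4 (.node 2 (.node 1 (.leaf 0x423464543423473432) (.leaf 0x5234734347123432)) (.node 1 (.leaf 0x23476434523463432) (.leaf 0x5434734543423473432))) (.node 2 (.node 1 (.leaf 0x53464234234623432) (.leaf 0x5234734634234743432)) (.node 1 (.leaf 0x547543453423463432) (.leaf 0x54754343423463432)))) (.node 4 (.node 2 (.node 1 (.leaf 0x454346423432) (.leaf 0x4634347123432)) (.node 1 (.leaf 0x463473423465423432) (.leaf 0x5465342346423432))) (.node 2 (.node 1 (.leaf 0x467434634234623432) (.leaf 0x47643423473423432)) (.node 1 (.leaf 0x63476473423467432) (.leaf 0x3465473423467432))))) (.node 8 (.node 4 (.node 2 (.node 1 (.leaf 0x54634234234723432)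 (.leaf 0x43474234123476432)) (.node 1 (.leaf 0x47434234523473432) (.leaf 0x4754234234753432))) (.node 2 (.node 1 (.leaf 0x73423464543423432) (.leaf 0x472346342346423432)) (.node 1 (.leaf 0x7234654234623432) (.leaf 0x5412347343423463432)))) (.node 4 (.node 2 (.node 1 (.leaf 0x4234734123476432) (.leaf 0x764342342347423432)) (.node 1 (.leaf 0x64764734234653432) (.leaf 0x54123473423476432))) (.node 2 (.node 1 (.leaf 0x75346234234723432) (.leaf 0x4634234654123432)) (.node 1 (.leaf 0x734652342347123432) (.leaf 0x4653434723467432))))))) (.node 32 (.node 16 (.node 8 (.node 4 (.node 2 (.node 1 (.leaf 0x4234674534123476432) (.leaf 0x7634534623432)) (.node 1 (.leaf 0x47342347342347123432) (.leaf 0x43412347345234723432))) (.node 2 (.node 1 (.leaf 0x34743452347423432) (.leaf 0x5343473453423473432)) (.node 1 (.leaf 0x7464347342347423432) (.leaf 0x453463434123473432)))) (.node 4 (.node 2 (.node 1 (.leaf 0x673434523434623432) (.leaf 0x653434234534623432))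 (.node 1 (.leaf 0x4645343423476432) (.leaf 0x1234674345234723432))) (.node 2 (.node 1 (.leaf 0x64754234623432) (.leaf 0x3473434623434123432)) (.node 1 (.leaf 0x64754346423432) (.leaf 0x234674534234723432))))) (.node 8 (.node 4 (.node 2 (.node 1 (.leaf 0x434346453423463432) (.leaf 0x4743464343423473432)) (.node 1 (.leaf 0x346534342347423432) (.leaf 0x43434623434234623432))) (.node 2 (.node 1 (.leaf 0x547523463423464123432) (.leaf 0x74234634734234653432)) (.node 1 (.leaf 0x463453462343423432) (.leaf 0x5434643412346423432)))) (.node 4 (.node 2 (.node 1 (.leaf 0x534764345234623432) (.leaf 0x634764234123473432)) (.node 1 (.leaf 0x643423463423464123432) (.leaf 0x64342346342346123432))) (.node 2 (.node 1 (.leaf 0x6345423423463423432) (.leaf 0x76347643423473432)) (.node 1 (.leaf 0x234346542346423432) (.leaf 0x643423463423473432)))))) (.node 16 (.node 8 (.node 4 (.node 2 (.node 1 (.leaf 0x4642342346342346123432) (.leaf 0x46434234634234623432))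 (.node 1 (.leaf 0x467453423463423432) (.leaf 0x467453423432))) (.node 2 (.node 1 (.leaf 0x647543423473432) (.leaf 0x634523434123476432)) (.node 1 (.leaf 0x34723434123467432) (.leaf 0x4346543472343423432)))) (.node 4 (.node 2 (.node 1 (.leaf 0x46745234234723432) (.leaf 0x4612343423432)) (.node 1 (.leaf 0x463453472343423432) (.leaf 0x465434634234643432))) (.node 2 (.node 1 (.leaf 0x34654234234753432) (.leaf 0x46543463423463432)) (.node 1 (.leaf 0x743462342346423432) (.leaf 0x3434654234123473432))))) (.node 8 (.node 4 (.node 2 (.node 1 (.leaf 0x476434634234643432) (.leaf 0x67462343423432)) (.node 1 (.leaf 0x453463453423473432) (.leaf 0x234754345234723432))) (.node 2 (.node 1 (.leaf 0x47634345234723432) (.leaf 0x4534347342347123432)) (.node 1 (.leaf 0x43464234234754123432) (.leaf 0x23475434234723432)))) (.node 4 (.node 2 (.node 1 (.leaf 0x54674234123463432) (.leaf 0x67434534234653432)) (.node 1 (.leaf 0x53464234123476432) (.leaf 0x4347234234623432)))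 (.node 2 (.node 1 (.leaf 0x612343423467432) (.leaf 0x5423473434123463432)) (.node 1 (.leaf 0x645434723434123432) (.leaf 0x645434712343423432)))))))

def classATree_117 : Tree :=
  .node 64 (.node 32 (.node 16 (.node 8 (.node 4 (.node 2 (.node 1 (.leaf 0x623434123473423432) (.leaf 0x12346342346123432)) (.node 1 (.leaf 0x474234234123476432) (.leaf 0x434234523473432))) (.node 2 (.node 1 (.leaf 0x5434234523473432) (.leaf 0x3473423475423432)) (.node 1 (.leaf 0x64347234234123432) (.leaf 0x73453476423432)))) (.node 4 (.node 2 (.node 1 (.leaf 0x4347234234654123432) (.leaf 0x754634523473432)) (.node 1 (.leaf 0x5347534234723432) (.leaf 0x67465434234753432))) (.node 2 (.node 1 (.leaf 0x543423412346423432) (.leaf 0x453434623434123432)) (.node 1 (.leaf 0x54734347542346123432) (.leaf 0x3434743423467432))))) (.node 8 (.node 4 (.node 2 (.node 1 (.leaf 0x652343423432) (.leaf 0x34734654234723432)) (.node 1 (.leaf 0x643473462343423432) (.leaf 0x347434523463432)))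 (.node 2 (.node 1 (.leaf 0x5234643423463432) (.leaf 0x434723434647423432)) (.node 1 (.leaf 0x346743423463432) (.leaf 0x6345434612343423432)))) (.node 4 (.node 2 (.node 1 (.leaf 0x65343423473432) (.leaf 0x752343423463432)) (.node 1 (.leaf 0x43473423432) (.leaf 0x7523434723432))) (.node 2 (.node 1 (.leaf 0x34342341234623432) (.leaf 0x65342347643423467432)) (.node 1 (.leaf 0x4534346423432) (.leaf 0x547434234654123432)))))) (.node 16 (.node 8 (.node 4 (.node 2 (.node 1 (.leaf 0x674234653412346423432) (.leaf 0x754234634234623432)) (.node 1 (.leaf 0x764712343423432) (.leaf 0x467434723434123432))) (.node 2 (.node 1 (.leaf 0x54723434123463432) (.leaf 0x47234342346123432)) (.node 1 (.leaf 0x347342347342347123432) (.leaf 0x347453434234653432)))) (.node 4 (.node 2 (.node 1 (.leaf 0x65473434234723432) (.leaf 0x53476434234623432)) (.node 1 (.leaf 0x73464543423473432) (.leaf 0x4345234623432))) (.node 2 (.node 1 (.leaf 0x647423453423467432) (.leaf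 0x47434523465423432)) (.node 1 (.leaf 0x473434623476432) (.leaf 0x4345234234753432))))) (.node 8 (.node 4 (.node 2 (.node 1 (.leaf 0x47464534234753432) (.leaf 0x475343423473432)) (.node 1 (.leaf 0x64723434123432) (.leaf 0x54345234234753432))) (.node 2 (.node 1 (.leaf 0x43463452347423432) (.leaf 0x74634234753432)) (.node 1 (.leaf 0x4534342346345234623432) (.leaf 0x612343423432)))) (.node 4 (.node 2 (.node 1 (.leaf 0x4645342346423432) (.leaf 0x74234612343423432)) (.node 1 (.leaf 0x3475341234723432) (.leaf 0x63453462343423432))) (.node 2 (.node 1 (.leaf 0x34764341234623432) (.leaf 0x523465434234623432)) (.node 1 (.leaf 0x7123434723432) (.leaf 0x464347343423476432))))))) (.node 32 (.node 16 (.node 8 (.node 4 (.node 2 (.node 1 (.leaf 0x6345347643423473432) (.leaf 0x634734342347123432)) (.node 1 (.leaf 0x45343463423432) (.leaf 0x43463434234623432))) (.node 2 (.node 1 (.leaf 0x5434734123432) (.leaf 0x63412347643423467432)) (.node 1 (.leaf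 0x3453423473423432) (.leaf 0x346453423467432)))) (.node 4 (.node 2 (.node 1 (.leaf 0x6474343423473432) (.leaf 0x6453472343423432)) (.node 1 (.leaf 0x52346342346123432) (.leaf 0x652343423467432))) (.node 2 (.node 1 (.leaf 0x234643423473423432) (.leaf 0x74234534643423463432)) (.node 1 (.leaf 0x645347123434123432) (.leaf 0x643452346423432))))) (.node 8 (.node 4 (.node 2 (.node 1 (.leaf 0x7463475423432) (.leaf 0x1234643423463432)) (.node 1 (.leaf 0x4634723453423432) (.leaf 0x673434123463423432))) (.node 2 (.node 1 (.leaf 0x546734345234623432) (.leaf 0x63434123473432)) (.node 1 (.leaf 0x53467434123463432) (.leaf 0x74654345423473432)))) (.node 4 (.node 2 (.node 1 (.leaf 0x4734347454234623432) (.leaf 0x741234634234623432)) (.node 1 (.leaf 0x4123473434123463432) (.leaf 0x7465423462343423432))) (.node 2 (.node 1 (.leaf 0x63454346123432) (.leaf 0x5234634723434623432)) (.node 1 (.leaf 0x6342347342347123432) (.leaf 0x12342346343423473432))))))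 (.node 16 (.node 8 (.node 4 (.node 2 (.node 1 (.leaf 0x76347343423463432) (.leaf 0x745347342347423432)) (.node 1 (.leaf 0x45342347342347123432) (.leaf 0x643412347345234723432))) (.node 2 (.node 1 (.leaf 0x7645347343423463432) (.leaf 0x473463412346423432)) (.node 1 (.leaf 0x3473452347423432) (.leaf 0x65473465342346423432)))) (.node 4 (.node 2 (.node 1 (.leaf 0x53473423432) (.leaf 0x7542346743423476432)) (.node 1 (.leaf 0x7234642342346123432) (.leaf 0x73454346123432))) (.node 2 (.node 1 (.leaf 0x6743475234234723432) (.leaf 0x5434734234234723432)) (.node 1 (.leaf 0x474346123434723432) (.leaf 0x434234123423475432))))) (.node 8 (.node 4 (.node 2 (.node 1 (.leaf 0x734234712343423432) (.leaf 0x734347234234123432)) (.node 1 (.leaf 0x473452346423432) (.leaf 0x64523473412347423432))) (.node 2 (.node 1 (.leaf 0x2345234623432) (.leaf 0x23453423467432)) (.node 1 (.leaf 0x7434523472343423432) (.leaf 0x734523423463423432)))) (.node 4 (.node 2 (.node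 1 (.leaf 0x674347123432) (.leaf 0x2345346423432)) (.node 1 (.leaf 0x234123473423476432) (.leaf 0x42346343423467432))) (.node 2 (.node 1 (.leaf 0x547434674234723432) (.leaf 0x45234346472343423432)) (.node 1 (.leaf 0x43423473423463432) (.leaf 0x75465434234753432)))))))

def classATree_118 : Tree :=
  .node 64 (.node 32 (.node 16 (.node 8 (.node 4 (.node 2 (.node 1 (.leaf 0x7343473462343423432) (.leaf 0x74623453423432)) (.node 1 (.leaf 0x4534745342346123432) (.leaf 0x754634234753432))) (.node 2 (.node 1 (.leaf 0x4734642343423463432) (.leaf 0x5473465343423473432)) (.node 1 (.leaf 0x74523434123463432) (.leaf 0x73463434623476432)))) (.node 4 (.node 2 (.node 1 (.leaf 0x53464743423463432) (.leaf 0x547234347542346123432)) (.node 1 (.leaf 0x634123463423467432) (.leaf 0x4634523423463423432))) (.node 2 (.node 1 (.leaf 0x434654234123473432) (.leaf 0x2346534734234643432)) (.node 1 (.leaf 0x472342347342347123432) (.leaf 0x4634743423432))))) (.node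 8 (.node 4 (.node 2 (.node 1 (.leaf 0x6746534234753432) (.leaf 0x472346543412347423432)) (.node 1 (.leaf 0x7423467434523463432) (.leaf 0x647534345234623432))) (.node 2 (.node 1 (.leaf 0x64734345423463432) (.leaf 0x74345347345234723432)) (.node 1 (.leaf 0x462347123434623432) (.leaf 0x746234764234623432)))) (.node 4 (.node 2 (.node 1 (.leaf 0x4234634534234653432) (.leaf 0x534234643423463432)) (.node 1 (.leaf 0x434623473412347423432) (.leaf 0x74523434123432))) (.node 2 (.node 1 (.leaf 0x534743423432) (.leaf 0x542346743423476432)) (.node 1 (.leaf 0x6742347642346123432) (.leaf 0x4654345234346423432)))))) (.node 16 (.node 8 (.node 4 (.node 2 (.node 1 (.leaf 0x7543472345234723432) (.leaf 0x645346742347123432)) (.node 1 (.leaf 0x46453472343423432) (.leaf 0x41234643423432))) (.node 2 (.node 1 (.leaf 0x7643423467453432) (.leaf 0x64734674234723432)) (.node 1 (.leaf 0x761234234623432) (.leaf 0x43474643423467432)))) (.node 4 (.node 2 (.node 1 (.leaf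 0x73412342346123432) (.leaf 0x5412347423432)) (.node 1 (.leaf 0x5423464345234623432) (.leaf 0x4543423464123432))) (.node 2 (.node 1 (.leaf 0x4341234634234623432) (.leaf 0x64346745234723432)) (.node 1 (.leaf 0x6547234234623432) (.leaf 0x534743463423467432))))) (.node 8 (.node 4 (.node 2 (.node 1 (.leaf 0x7645346341234643432) (.leaf 0x764234523463432)) (.node 1 (.leaf 0x764523465423432) (.leaf 0x46434712343423432))) (.node 2 (.node 1 (.leaf 0x234734543423473432) (.leaf 0x674674342346423432)) (.node 1 (.leaf 0x7546742347123432) (.leaf 0x6743412347345234723432)))) (.node 4 (.node 2 (.node 1 (.leaf 0x753463434234623432) (.leaf 0x23462341234234623432)) (.node 1 (.leaf 0x7343454234723432) (.leaf 0x47434634234643432))) (.node 2 (.node 1 (.leaf 0x62343475342346123432) (.leaf 0x454347342347123432)) (.node 1 (.leaf 0x65343462343423432) (.leaf 0x346454341234623432))))))) (.node 32 (.node 16 (.node 8 (.node 4 (.node 2 (.node 1 (.leaf 0x546347234234723432)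 (.leaf 0x46745234234623432)) (.node 1 (.leaf 0x5412346345234623432) (.leaf 0x5465347345234723432))) (.node 2 (.node 1 (.leaf 0x54634542346423432) (.leaf 0x6453462342346423432)) (.node 1 (.leaf 0x454342347342347123432) (.leaf 0x452342346434234643432)))) (.node 4 (.node 2 (.node 1 (.leaf 0x6434743452347423432) (.leaf 0x46342346342346123432)) (.node 1 (.leaf 0x34234745341234723432) (.leaf 0x234634347342347123432))) (.node 2 (.node 1 (.leaf 0x6473465423474123432) (.leaf 0x4754347345234723432)) (.node 1 (.leaf 0x6434612342346423432) (.leaf 0x347234534234753432))))) (.node 8 (.node 4 (.node 2 (.node 1 (.leaf 0x6543475234234723432) (.leaf 0x346343452347643432)) (.node 1 (.leaf 0x47346123434723432) (.leaf 0x547234634234643432))) (.node 2 (.node 1 (.leaf 0x72345234623432) (.leaf 0x34234712343423432)) (.node 1 (.leaf 0x4743452346423432) (.leaf 0x34347234234123432)))) (.node 4 (.node 2 (.node 1 (.leaf 0x764523473412347423432) (.leaf 0x4634543472343423432))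 (.node 1 (.leaf 0x4523434123463432) (.leaf 0x3463434623476432))) (.node 2 (.node 1 (.leaf 0x72345346423432) (.leaf 0x654347123432)) (.node 1 (.leaf 0x34523423463423432) (.leaf 0x434523472343423432)))))) (.node 16 (.node 8 (.node 4 (.node 2 (.node 1 (.leaf 0x341234634123467432) (.leaf 0x7634123463423467432)) (.node 1 (.leaf 0x54734674234723432) (.leaf 0x745234346472343423432))) (.node 2 (.node 1 (.leaf 0x234634734123463432) (.leaf 0x341234734123476432)) (.node 1 (.leaf 0x723453423467432) (.leaf 0x343473462343423432)))) (.node 4 (.node 2 (.node 1 (.leaf 0x5465434234753432) (.leaf 0x742346343423467432)) (.node 1 (.leaf 0x23463473412347423432) (.leaf 0x67346743423463432))) (.node 2 (.node 1 (.leaf 0x743423473423463432) (.leaf 0x7434654234123473432)) (.node 1 (.leaf 0x46234764234623432) (.leaf 0x4345347345234723432))))) (.node 8 (.node 4 (.node 2 (.node 1 (.leaf 0x4623453423432) (.leaf 0x452347642346123432)) (.node 1 (.leaf 0x74234634534234653432)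 (.leaf 0x47434642343423463432))) (.node 2 (.node 1 (.leaf 0x54634234753432) (.leaf 0x46234534234723432)) (.node 1 (.leaf 0x41234647434234653432) (.leaf 0x423467434523463432)))) (.node 4 (.node 2 (.node 1 (.leaf 0x47345434234723432) (.leaf 0x74634743423432)) (.node 1 (.leaf 0x5464534234753432) (.leaf 0x7462347123434623432))) (.node 2 (.node 1 (.leaf 0x3452342346342346123432) (.leaf 0x4742342347342347123432)) (.node 1 (.leaf 0x547234634234723432) (.leaf 0x4523434123432)))))))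

def classATree_119 : Tree :=
  .node 64 (.node 32 (.node 16 (.node 8 (.node 4 (.node 2 (.node 1 (.leaf 0x475434234234723432) (.leaf 0x467412342347123432)) (.node 1 (.leaf 0x4674341234634123432) (.leaf 0x534712343423467432))) (.node 2 (.node 1 (.leaf 0x653476434123473432) (.leaf 0x63476473423463432)) (.node 1 (.leaf 0x1234674342347123432) (.leaf 0x647542346123432)))) (.node 4 (.node 2 (.node 1 (.leaf 0x6434642342346423432) (.leaf 0x654754346423432)) (.node 1 (.leaf 0x2346745341234723432) (.leaf 0x47534634534234653432))) (.node 2 (.node 1 (.leaf 0x6423412346345234623432) (.leaf 0x463452347343423463432)) (.node 1 (.leaf 0x1234642347342347423432) (.leaf 0x63434234346423432))))) (.node 8 (.node 4 (.node 2 (.node 1 (.leaf 0x345234734123467432) (.leaf 0x46123434123432)) (.node 1 (.leaf 0x347645341234623432) (.leaf 0x4673434764234723432))) (.node 2 (.node 1 (.leaf 0x473412347345234723432) (.leaf 0x467434123432)) (.node 1 (.leaf 0x64754234123473432)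 (.leaf 0x75462343423432)))) (.node 4 (.node 2 (.node 1 (.leaf 0x434653434123473432) (.leaf 0x347464342346123432)) (.node 1 (.leaf 0x46534347462343423432) (.leaf 0x3454346543423473432))) (.node 2 (.node 1 (.leaf 0x63434234534623432) (.leaf 0x7234346542346123432)) (.node 1 (.leaf 0x434754623453423432) (.leaf 0x4643453423476432)))))) (.node 16 (.node 8 (.node 4 (.node 2 (.node 1 (.leaf 0x763434523434623432) (.leaf 0x743464342346423432)) (.node 1 (.leaf 0x7434634734234643432) (.leaf 0x345234234523463432))) (.node 2 (.node 1 (.leaf 0x4653434623434123432) (.leaf 0x5473463434234723432)) (.node 1 (.leaf 0x634234534123476432) (.leaf 0x47423465342346423432)))) (.node 4 (.node 2 (.node 1 (.leaf 0x634346542346123432) (.leaf 0x234754342347123432)) (.node 1 (.leaf 0x7341234234234653432) (.leaf 0x63472346343423473432))) (.node 2 (.node 1 (.leaf 0x467345341234723432) (.leaf 0x5434612342346423432)) (.node 1 (.leaf 0x641234643423463432) (.leaf 0x7453473423474123432)))))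 (.node 8 (.node 4 (.node 2 (.node 1 (.leaf 0x23476412342346123432) (.leaf 0x43476343423432)) (.node 1 (.leaf 0x47642343423463432) (.leaf 0x423476434234623432))) (.node 2 (.node 1 (.leaf 0x3473463452343423432) (.leaf 0x7464342346123432)) (.node 1 (.leaf 0x6347643452347643432) (.leaf 0x346343423476453432)))) (.node 4 (.node 2 (.node 1 (.leaf 0x4745234634234643432) (.leaf 0x5474346234347123432)) (.node 1 (.leaf 0x54642347343423463432) (.leaf 0x43423463423473432))) (.node 2 (.node 1 (.leaf 0x463423463423473432) (.leaf 0x73423472343423432)) (.node 1 (.leaf 0x543474341234623432) (.leaf 0x2343464123432))))))) (.node 32 (.node 16 (.node 8 (.node 4 (.node 2 (.node 1 (.leaf 0x7645347123432) (.leaf 0x734534752343423432)) (.node 1 (.leaf 0x4534723453423432) (.leaf 0x2341234623432))) (.node 2 (.node 1 (.leaf 0x23463473423474123432) (.leaf 0x534674634123473432)) (.node 1 (.leaf 0x54347343423476432) (.leaf 0x63452343423473432)))) (.node 4 (.node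 2 (.node 1 (.leaf 0x3412346343423463432) (.leaf 0x234123463423467432)) (.node 1 (.leaf 0x734123463423467432) (.leaf 0x23434123467432))) (.node 2 (.node 1 (.leaf 0x464542346342346423432) (.leaf 0x734123473423476432)) (.node 1 (.leaf 0x454346543423473432) (.leaf 0x47342345346423432))))) (.node 8 (.node 4 (.node 2 (.node 1 (.leaf 0x634523423473423432) (.leaf 0x7546523434123432)) (.node 1 (.leaf 0x234346434234743432) (.leaf 0x74645434234753432))) (.node 2 (.node 1 (.leaf 0x3465434674234623432) (.leaf 0x34634234523463432)) (.node 1 (.leaf 0x5462347234346123432) (.leaf 0x746534234753432)))) (.node 4 (.node 2 (.node 1 (.leaf 0x6345346743423463432) (.leaf 0x3463434523463432)) (.node 1 (.leaf 0x46743463423463432) (.leaf 0x467234534734234623432))) (.node 2 (.node 1 (.leaf 0x3434643423432) (.leaf 0x5473434234753432)) (.node 1 (.leaf 0x746434234753432) (.leaf 0x534652347342347123432)))))) (.node 16 (.node 8 (.node 4 (.node 2 (.node 1 (.leaf 0x6543423473423474123432)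 (.leaf 0x75423453423463432)) (.node 1 (.leaf 0x4753463453423473432) (.leaf 0x7453434754234723432))) (.node 2 (.node 1 (.leaf 0x43423463423464123432) (.leaf 0x74234234123432)) (.node 1 (.leaf 0x4523465343423476432) (.leaf 0x453467423432)))) (.node 4 (.node 2 (.node 1 (.leaf 0x754345346423432) (.leaf 0x4123463434123463432)) (.node 1 (.leaf 0x74342347234234723432) (.leaf 0x434734123432))) (.node 2 (.node 1 (.leaf 0x45346743423473432) (.leaf 0x746734234653432)) (.node 1 (.leaf 0x74653423467432) (.leaf 0x7464543423467432))))) (.node 8 (.node 4 (.node 2 (.node 1 (.leaf 0x64742346342346423432) (.leaf 0x4523473434123463432)) (.node 1 (.leaf 0x6712343472343423432) (.leaf 0x6234347641234723432))) (.node 2 (.node 1 (.leaf 0x64734534234623432) (.leaf 0x5463423473432)) (.node 1 (.leaf 0x5434346453423463432) (.leaf 0x3472343423463432)))) (.node 4 (.node 2 (.node 1 (.leaf 0x653434123432) (.leaf 0x462343423453475423432)) (.node 1 (.leaf 0x71234234623432)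 (.leaf 0x46234342347423432))) (.node 2 (.node 1 (.leaf 0x673453423432) (.leaf 0x4523467434523463432)) (.node 1 (.leaf 0x743423467432) (.leaf 0x74543423467432)))))))

def classATree_120 : Tree :=
  .node 64 (.node 32 (.node 16 (.node 8 (.node 4 (.node 2 (.node 1 (.leaf 0x75412347342347423432) (.leaf 0x742347342347423432)) (.node 1 (.leaf 0x75434123473432) (.leaf 0x54734634123463432))) (.node 2 (.node 1 (.leaf 0x3452342346123432) (.leaf 0x65434123473423432)) (.node 1 (.leaf 0x3475462343423432) (.leaf 0x234347343423473432)))) (.node 4 (.node 2 (.node 1 (.leaf 0x4642347345234723432) (.leaf 0x6476434723432)) (.node 1 (.leaf 0x54345346423432) (.leaf 0x74123463434123463432))) (.node 2 (.node 1 (.leaf 0x54754345234623432) (.leaf 0x23465473423476432)) (.node 1 (.leaf 0x653434623432) (.leaf 0x7423467453423476432))))) (.node 8 (.node 4 (.node 2 (.node 1 (.leaf 0x7343465423467432) (.leaf 0x454342345347423432)) (.node 1 (.leaf 0x53463434123463432)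 (.leaf 0x534634234654123432))) (.node 2 (.node 1 (.leaf 0x6734346542347123432) (.leaf 0x7346434734123476432)) (.node 1 (.leaf 0x46541234234653432) (.leaf 0x73463423476432)))) (.node 4 (.node 2 (.node 1 (.leaf 0x5434723434723432) (.leaf 0x734534652343423432)) (.node 1 (.leaf 0x4523434743423463432) (.leaf 0x343474543423432))) (.node 2 (.node 1 (.leaf 0x34534643423473432) (.leaf 0x764346347423432)) (.node 1 (.leaf 0x4653434674234623432) (.leaf 0x6234764234523473432)))))) (.node 16 (.node 8 (.node 4 (.node 2 (.node 1 (.leaf 0x743434234643432) (.leaf 0x6473434643423463432)) (.node 1 (.leaf 0x74523463473423476432) (.leaf 0x734346454234623432))) (.node 2 (.node 1 (.leaf 0x7346343472343423432) (.leaf 0x462347234123476432)) (.node 1 (.leaf 0x547543423463432) (.leaf 0x464347542346123432)))) (.node 4 (.node 2 (.node 1 (.leaf 0x547543423432) (.leaf 0x465434123432)) (.node 1 (.leaf 0x6234534734234723432) (.leaf 0x547464234123463432))) (.node 2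 (.node 1 (.leaf 0x46723462342346123432) (.leaf 0x634346343423463432)) (.node 1 (.leaf 0x423452342347123432) (.leaf 0x46743423467453432))))) (.node 8 (.node 4 (.node 2 (.node 1 (.leaf 0x73463423476423432) (.leaf 0x4346423473423476432)) (.node 1 (.leaf 0x3475463423476432) (.leaf 0x34653473423463432))) (.node 2 (.node 1 (.leaf 0x54754234234723432) (.leaf 0x745434234347423432)) (.node 1 (.leaf 0x476434234723432) (.leaf 0x54342346534234623432)))) (.node 4 (.node 2 (.node 1 (.leaf 0x64542346342346123432) (.leaf 0x45434234234723432)) (.node 1 (.leaf 0x23463434654234723432) (.leaf 0x74346347234346123432))) (.node 2 (.node 1 (.leaf 0x6534347542347123432) (.leaf 0x73463434723432)) (.node 1 (.leaf 0x4234654347423432) (.leaf 0x7434347423432))))))) (.node 32 (.node 16 (.node 8 (.node 4 (.node 2 (.node 1 (.leaf 0x54342347345234723432) (.leaf 0x5473412347342347123432)) (.node 1 (.leaf 0x34743465423474123432) (.leaf 0x3434234734123463432))) (.node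 2 (.node 1 (.leaf 0x7647346342346123432) (.leaf 0x547346345234623432)) (.node 1 (.leaf 0x346543423475432) (.leaf 0x343423467434123432)))) (.node 4 (.node 2 (.node 1 (.leaf 0x647342346743423432) (.leaf 0x647543423465432)) (.node 1 (.leaf 0x3453473432) (.leaf 0x5465434723465432))) (.node 2 (.node 1 (.leaf 0x1234234234753432) (.leaf 0x34234674345423463432)) (.node 1 (.leaf 0x534673434234623432) (.leaf 0x73434654123432))))) (.node 8 (.node 4 (.node 2 (.node 1 (.leaf 0x43452346743423467432) (.leaf 0x71234234523473432)) (.node 1 (.leaf 0x734634123467432) (.leaf 0x34653423467432))) (.node 2 (.node 1 (.leaf 0x4643476423464123432) (.leaf 0x3453465423432)) (.node 1 (.leaf 0x643472346345234623432) (.leaf 0x343476452343423432)))) (.node 4 (.node 2 (.node 1 (.leaf 0x64342345347123432) (.leaf 0x47234523475423432)) (.node 1 (.leaf 0x64723434723467432) (.leaf 0x642346343423476432))) (.node 2 (.node 1 (.leaf 0x64234623473423476432) (.leaf 0x343465423464123432))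 (.node 1 (.leaf 0x534654234123476432) (.leaf 0x746541234623432)))))) (.node 16 (.node 8 (.node 4 (.node 2 (.node 1 (.leaf 0x345347343423473432) (.leaf 0x64742341234723432)) (.node 1 (.leaf 0x643462343423432) (.leaf 0x65423474342347123432))) (.node 2 (.node 1 (.leaf 0x46742341234623432) (.leaf 0x3453423476423432)) (.node 1 (.leaf 0x47234234523473432) (.leaf 0x5346234234234753432)))) (.node 4 (.node 2 (.node 1 (.leaf 0x74623473452343423432) (.leaf 0x674534623434123432)) (.node 1 (.leaf 0x472341234723432) (.leaf 0x4674234123432))) (.node 2 (.node 1 (.leaf 0x6475434123473432) (.leaf 0x734634234754123432)) (.node 1 (.leaf 0x465423464123432) (.leaf 0x4346345434234753432))))) (.node 8 (.node 4 (.node 2 (.node 1 (.leaf 0x6434723434723432) (.leaf 0x4674234523473432)) (.node 1 (.leaf 0x34653434623476432) (.leaf 0x475434723434123432))) (.node 2 (.node 1 (.leaf 0x463434523476423432) (.leaf 0x346543475423467432)) (.node 1 (.leaf 0x4745434234234723432)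 (.leaf 0x634746434123473432)))) (.node 4 (.node 2 (.node 1 (.leaf 0x6734123423423475432) (.leaf 0x423463434234653432)) (.node 1 (.leaf 0x6434542347343423463432) (.leaf 0x234674342347123432))) (.node 2 (.node 1 (.leaf 0x647454234623432) (.leaf 0x5343463453423463432)) (.node 1 (.leaf 0x647454346423432) (.leaf 0x5234674345234723432)))))))

def classATree_121 : Tree :=
  .node 64 (.node 32 (.node 16 (.node 8 (.node 4 (.node 2 (.node 1 (.leaf 0x34734234234234623432) (.leaf 0x534234764534234623432)) (.node 1 (.leaf 0x763434234346423432) (.leaf 0x3474645341234623432))) (.node 2 (.node 1 (.leaf 0x347342343423473432) (.leaf 0x343423473434234643432)) (.node 1 (.leaf 0x5462343423432) (.leaf 0x34523473423467432)))) (.node 4 (.node 2 (.node 1 (.leaf 0x63423412346345234623432) (.leaf 0x74643453423476432)) (.node 1 (.leaf 0x746123434123432) (.leaf 0x234674341234723432))) (.node 2 (.node 1 (.leaf 0x63434523434623432) (.leaf 0x434634734234643432))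 (.node 1 (.leaf 0x43464342346423432) (.leaf 0x73454346543423473432))))) (.node 8 (.node 4 (.node 2 (.node 1 (.leaf 0x5343464543423473432) (.leaf 0x4723465342346423432)) (.node 1 (.leaf 0x6475434123432) (.leaf 0x64754634123463432))) (.node 2 (.node 1 (.leaf 0x34764342346123432) (.leaf 0x341234234234653432)) (.node 1 (.leaf 0x34234234234723432) (.leaf 0x4347234234234653432)))) (.node 4 (.node 2 (.node 1 (.leaf 0x4643474343423463432) (.leaf 0x63423453423476432)) (.node 1 (.leaf 0x6347342345346423432) (.leaf 0x75434612342346423432))) (.node 2 (.node 1 (.leaf 0x234346542346123432) (.leaf 0x546234342347123432)) (.node 1 (.leaf 0x453473423474123432) (.leaf 0x763434234534623432)))))) (.node 16 (.node 8 (.node 4 (.node 2 (.node 1 (.leaf 0x7634346542346123432) (.leaf 0x643465343423473432)) (.node 1 (.leaf 0x123462343423476432) (.leaf 0x234634234234234723432))) (.node 2 (.node 1 (.leaf 0x464543463423476432) (.leaf 0x753423473423432)) (.node 1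 (.leaf 0x62347542346423432) (.leaf 0x34634734234723432)))) (.node 4 (.node 2 (.node 1 (.leaf 0x5346543423473432) (.leaf 0x74534234623432)) (.node 1 (.leaf 0x54753434723467432) (.leaf 0x4723453423467432))) (.node 2 (.node 1 (.leaf 0x4734234234753432) (.leaf 0x547534234754123432)) (.node 1 (.leaf 0x54734234234753432) (.leaf 0x5476434234753432))))) (.node 8 (.node 4 (.node 2 (.node 1 (.leaf 0x7634346123434123432) (.leaf 0x64745342346423432)) (.node 1 (.leaf 0x647123434123432) (.leaf 0x53465434234623432))) (.node 2 (.node 1 (.leaf 0x234764341234623432) (.leaf 0x634542346743423467432)) (.node 1 (.leaf 0x546534234753432) (.leaf 0x7346434123467432)))) (.node 4 (.node 2 (.node 1 (.leaf 0x734341234734123432) (.leaf 0x43423476434123467432)) (.node 1 (.leaf 0x5234347123432) (.leaf 0x43463434623476432))) (.node 2 (.node 1 (.leaf 0x3454347343423463432) (.leaf 0x5465434523473432)) (.node 1 (.leaf 0x67434712343423432) (.leaf 0x3423465342346423432)))))))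 (.node 32 (.node 16 (.node 8 (.node 4 (.node 2 (.node 1 (.leaf 0x712346345234623432) (.leaf 0x762343423473423432)) (.node 1 (.leaf 0x4762343423467432) (.leaf 0x67434723434123432))) (.node 2 (.node 1 (.leaf 0x523434123463432) (.leaf 0x54123462343423432)) (.node 1 (.leaf 0x67463423464123432) (.leaf 0x3474342347123432)))) (.node 4 (.node 2 (.node 1 (.leaf 0x74534346472343423432) (.leaf 0x547234674234723432)) (.node 1 (.leaf 0x67434734123432) (.leaf 0x654346234347123432))) (.node 2 (.node 1 (.leaf 0x743453462343423432) (.leaf 0x5434674123432)) (.node 1 (.leaf 0x6723434123432) (.leaf 0x653473452343423432))))) (.node 8 (.node 4 (.node 2 (.node 1 (.leaf 0x4347434523463432) (.leaf 0x7434734612343423432)) (.node 1 (.leaf 0x74345346423432) (.leaf 0x4723434234653432))) (.node 2 (.node 1 (.leaf 0x763453423473432) (.leaf 0x423473434234753432)) (.node 1 (.leaf 0x542346341234623432) (.leaf 0x5346734234653432)))) (.node 4 (.node 2 (.node 1 (.leaf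 0x67234634123463432) (.leaf 0x7542347343423463432)) (.node 1 (.leaf 0x73465434123473432) (.leaf 0x454341234623432))) (.node 2 (.node 1 (.leaf 0x3465434123473432) (.leaf 0x7454341234623432)) (.node 1 (.leaf 0x7452343423467432) (.leaf 0x6347453423476432)))))) (.node 16 (.node 8 (.node 4 (.node 2 (.node 1 (.leaf 0x63453423463423432) (.leaf 0x73464234234723432)) (.node 1 (.leaf 0x4645347342347123432) (.leaf 0x7453467434234743432))) (.node 2 (.node 1 (.leaf 0x3423464123432) (.leaf 0x623423423463423432)) (.node 1 (.leaf 0x347234123432) (.leaf 0x653412346423432)))) (.node 4 (.node 2 (.node 1 (.leaf 0x4754634234753432) (.leaf 0x23467453423463432)) (.node 1 (.leaf 0x634523476434523473432) (.leaf 0x62343423432))) (.node 2 (.node 1 (.leaf 0x45347343423467432) (.leaf 0x634743423432)) (.node 1 (.leaf 0x76342346423432) (.leaf 0x76345342347123432))))) (.node 8 (.node 4 (.node 2 (.node 1 (.leaf 0x634734543423432) (.leaf 0x4212346343423463432)) (.node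 1 (.leaf 0x523463423432) (.leaf 0x2346343423467432))) (.node 2 (.node 1 (.leaf 0x4674534674234723432) (.leaf 0x72346743423463432)) (.node 1 (.leaf 0x4342342346423432) (.leaf 0x4674234674234723432)))) (.node 4 (.node 2 (.node 1 (.leaf 0x6345347642346423432) (.leaf 0x7643463423463432)) (.node 1 (.leaf 0x2347543423463432) (.leaf 0x634723434123432))) (.node 2 (.node 1 (.leaf 0x5234346434234643432) (.leaf 0x4234234123476432)) (.node 1 (.leaf 0x6234723434623432) (.leaf 0x74542347342347423432)))))))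

def classATree_122 : Tree :=
  .node 64 (.node 32 (.node 16 (.node 8 (.node 4 (.node 2 (.node 1 (.leaf 0x634712343423432) (.leaf 0x5434643423467432)) (.node 1 (.leaf 0x6347534123476432) (.leaf 0x34534764234623432))) (.node 2 (.node 1 (.leaf 0x3471234346454234723432) (.leaf 0x6454234734234723432)) (.node 1 (.leaf 0x6712343423432) (.leaf 0x643467463423473432)))) (.node 4 (.node 2 (.node 1 (.leaf 0x6434543423473432) (.leaf 0x47634347542346123432)) (.node 1 (.leaf 0x475467434234753432) (.leaf 0x64234634123463432))) (.node 2 (.node 1 (.leaf 0x734542346423432) (.leaf 0x462347343423463432)) (.node 1 (.leaf 0x465341234623432) (.leaf 0x5462347123434623432))))) (.node 8 (.node 4 (.node 2 (.node 1 (.leaf 0x6723434123467432) (.leaf 0x673463423467432)) (.node 1 (.leaf 0x4734234523463432) (.leaf 0x4743453423473432))) (.node 2 (.node 1 (.leaf 0x47341234234753432) (.leaf 0x476342346423432)) (.node 1 (.leaf 0x47345423475423432) (.leaf 0x74534234234753432))))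 (.node 4 (.node 2 (.node 1 (.leaf 0x752346345234623432) (.leaf 0x764347123434123432)) (.node 1 (.leaf 0x7643472343423432) (.leaf 0x54752343423467432))) (.node 2 (.node 1 (.leaf 0x123434643423476432) (.leaf 0x7412347343423463432)) (.node 1 (.leaf 0x412346341234623432) (.leaf 0x7343453462343423432)))))) (.node 16 (.node 8 (.node 4 (.node 2 (.node 1 (.leaf 0x3453473434123463432) (.leaf 0x63473423463423432)) (.node 1 (.leaf 0x4654234612343423432) (.leaf 0x347534234653432))) (.node 2 (.node 1 (.leaf 0x62342347643423467432) (.leaf 0x123434123463432)) (.node 1 (.leaf 0x465434234753432) (.leaf 0x7643473423432)))) (.node 4 (.node 2 (.node 1 (.leaf 0x476434523473432) (.leaf 0x453473453423463432)) (.node 1 (.leaf 0x734674234123463432) (.leaf 0x673434623434123432))) (.node 2 (.node 1 (.leaf 0x423462343423432) (.leaf 0x53474345234723432)) (.node 1 (.leaf 0x43467423432) (.leaf 0x63473423453423432))))) (.node 8 (.node 4 (.node 2 (.node 1 (.leaf 0x754347346423432)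 (.leaf 0x4753423465423432)) (.node 1 (.leaf 0x74643452346423432) (.leaf 0x547123434234653432))) (.node 2 (.node 1 (.leaf 0x34654341234623432) (.leaf 0x46534723453423432)) (.node 1 (.leaf 0x5434123476434123467432) (.leaf 0x1234347123432)))) (.node 4 (.node 2 (.node 1 (.leaf 0x543463423475423432) (.leaf 0x67234234123432)) (.node 1 (.leaf 0x47634234753432) (.leaf 0x67434647434234653432))) (.node 2 (.node 1 (.leaf 0x76472343423432) (.leaf 0x34734534234653432)) (.node 1 (.leaf 0x47623434234753432) (.leaf 0x64523463423464123432))))))) (.node 32 (.node 16 (.node 8 (.node 4 (.node 2 (.node 1 (.leaf 0x6743472345234723432) (.leaf 0x6453472342347123432)) (.node 1 (.leaf 0x673423423423475432) (.leaf 0x434754634123467432))) (.node 2 (.node 1 (.leaf 0x734523472343423432) (.leaf 0x543423463423473432)) (.node 1 (.leaf 0x345423423463423432) (.leaf 0x34347641234723432)))) (.node 4 (.node 2 (.node 1 (.leaf 0x42346342346423432) (.leaf 0x4734534723453423432))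 (.node 1 (.leaf 0x6412347342347423432) (.leaf 0x534654341234623432))) (.node 2 (.node 1 (.leaf 0x542347643423473432) (.leaf 0x462343423467432)) (.node 1 (.leaf 0x734523473423476432) (.leaf 0x434674342347423432))))) (.node 8 (.node 4 (.node 2 (.node 1 (.leaf 0x53465434123473432) (.leaf 0x4234674347123432)) (.node 1 (.leaf 0x734345234346123432) (.leaf 0x73465473423463432))) (.node 2 (.node 1 (.leaf 0x3476434234623432) (.leaf 0x34342345346123432)) (.node 1 (.leaf 0x647542347123432) (.leaf 0x764754347123432)))) (.node 4 (.node 2 (.node 1 (.leaf 0x634534234346423432) (.leaf 0x641234764342346123432)) (.node 1 (.leaf 0x4347434234653432) (.leaf 0x464347434234623432))) (.node 2 (.node 1 (.leaf 0x6234342346347423432) (.leaf 0x764346743423463432)) (.node 1 (.leaf 0x746474634234753432) (.leaf 0x43475463452343423432)))))) (.node 16 (.node 8 (.node 4 (.node 2 (.node 1 (.leaf 0x423463434623432) (.leaf 0x54642341234623432)) (.node 1 (.leaf 0x634342347346423432)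 (.leaf 0x54342342346423432))) (.node 2 (.node 1 (.leaf 0x734234123463423432) (.leaf 0x3423423463423432)) (.node 1 (.leaf 0x6473434234723432) (.leaf 0x434634342347123432)))) (.node 4 (.node 2 (.node 1 (.leaf 0x6473434234653432) (.leaf 0x23453475434123463432)) (.node 1 (.leaf 0x54743463423463432) (.leaf 0x5473434623432))) (.node 2 (.node 1 (.leaf 0x23454347543423463432) (.leaf 0x534734523434123432)) (.node 1 (.leaf 0x547342347343423463432) (.leaf 0x46342346342346423432))))) (.node 8 (.node 4 (.node 2 (.node 1 (.leaf 0x6347643423476453432) (.leaf 0x543464743423467432)) (.node 1 (.leaf 0x53472343423467432) (.leaf 0x5473463423476423432))) (.node 2 (.node 1 (.leaf 0x7345423423463423432) (.leaf 0x734347641234723432)) (.node 1 (.leaf 0x742346342346423432) (.leaf 0x34523472343423432)))) (.node 4 (.node 2 (.node 1 (.leaf 0x534341234346423432) (.leaf 0x5434743423464123432)) (.node 1 (.leaf 0x123423423473423432) (.leaf 0x5123434634234623432)))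 (.node 2 (.node 1 (.leaf 0x3465473423463432) (.leaf 0x7647542347123432)) (.node 1 (.leaf 0x64754347123432) (.leaf 0x467434674234723432)))))))

def classATree_123 : Tree :=
  .node 64 (.node 32 (.node 16 (.node 8 (.node 4 (.node 2 (.node 1 (.leaf 0x43462347342347123432) (.leaf 0x347643454234623432)) (.node 1 (.leaf 0x753465434123473432) (.leaf 0x34523473423476432))) (.node 2 (.node 1 (.leaf 0x34345234346123432) (.leaf 0x7462343423467432)) (.node 1 (.leaf 0x34746434234623432) (.leaf 0x76234342346347423432)))) (.node 4 (.node 2 (.node 1 (.leaf 0x64346743423463432) (.leaf 0x534234743423476432)) (.node 1 (.leaf 0x73423423463423432) (.leaf 0x7434634342347123432))) (.node 2 (.node 1 (.leaf 0x46347234234123432) (.leaf 0x4641234234623432)) (.node 1 (.leaf 0x7423463434623432) (.leaf 0x4647452343423432))))) (.node 8 (.node 4 (.node 2 (.node 1 (.leaf 0x734342345346123432) (.leaf 0x74347434234653432)) (.node 1 (.leaf 0x3473467452343423432) (.leaf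 0x34234123463423432))) (.node 2 (.node 1 (.leaf 0x46474634234753432) (.leaf 0x6343454234346423432)) (.node 1 (.leaf 0x7634342347346423432) (.leaf 0x42346543423467432)))) (.node 4 (.node 2 (.node 1 (.leaf 0x347123463423464123432) (.leaf 0x76473434234653432)) (.node 1 (.leaf 0x52343474543423463432) (.leaf 0x5473463423463432))) (.node 2 (.node 1 (.leaf 0x54734346123432) (.leaf 0x23434754234123463432)) (.node 1 (.leaf 0x534734234234123432) (.leaf 0x746342346342346423432)))))) (.node 16 (.node 8 (.node 4 (.node 2 (.node 1 (.leaf 0x234723434623432) (.leaf 0x746434234623432)) (.node 1 (.leaf 0x654342347345234723432) (.leaf 0x4543412347342347123432))) (.node 2 (.node 1 (.leaf 0x63473434234623432) (.leaf 0x7453434734234723432)) (.node 1 (.leaf 0x34743412347423432) (.leaf 0x75434734542347423432)))) (.node 4 (.node 2 (.node 1 (.leaf 0x534734542347423432) (.leaf 0x453434734234723432)) (.node 1 (.leaf 0x73434623453476432) (.leaf 0x434645343423476432)))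 (.node 2 (.node 1 (.leaf 0x434634234654123432) (.leaf 0x3475463452343423432)) (.node 1 (.leaf 0x212346343423463432) (.leaf 0x45347234347123432))))) (.node 8 (.node 4 (.node 2 (.node 1 (.leaf 0x4654234234653432) (.leaf 0x4342346347423432)) (.node 1 (.leaf 0x7346534123476432) (.leaf 0x734346234234123432))) (.node 2 (.node 1 (.leaf 0x43476434623432) (.leaf 0x6476434623432)) (.node 1 (.leaf 0x54234753463423473432) (.leaf 0x3463473423463432)))) (.node 4 (.node 2 (.node 1 (.leaf 0x6423475234234723432) (.leaf 0x43476434234653432)) (.node 1 (.leaf 0x72345346341234623432) (.leaf 0x6734534634234723432))) (.node 2 (.node 1 (.leaf 0x34634723465423432) (.leaf 0x546474234234653432)) (.node 1 (.leaf 0x4746434123463432) (.leaf 0x4734523472343423432))))))) (.node 32 (.node 16 (.node 8 (.node 4 (.node 2 (.node 1 (.leaf 0x4746434123432) (.leaf 0x474543423432)) (.node 1 (.leaf 0x474543423463432) (.leaf 0x634347434234723432))) (.node 2 (.node 1 (.leaf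 0x734346542346423432) (.leaf 0x75423474342347123432)) (.node 1 (.leaf 0x7423423473423432) (.leaf 0x6476434234723432)))) (.node 4 (.node 2 (.node 1 (.leaf 0x6423465341234623432) (.leaf 0x5343465434234653432)) (.node 1 (.leaf 0x4342341234723432) (.leaf 0x34634734234754123432))) (.node 2 (.node 1 (.leaf 0x5473463453423473432) (.leaf 0x73453423464123432)) (.node 1 (.leaf 0x723463473423467423432) (.leaf 0x4234754234234723432))))) (.node 8 (.node 4 (.node 2 (.node 1 (.leaf 0x452347643423473432) (.leaf 0x543412343423473432)) (.node 1 (.leaf 0x4672346234234623432) (.leaf 0x76234347542347123432))) (.node 2 (.node 1 (.leaf 0x753463434723432) (.leaf 0x42347543464123432)) (.node 1 (.leaf 0x67343473423432) (.leaf 0x647643423473423432)))) (.node 4 (.node 2 (.node 1 (.leaf 0x3434643423473432) (.leaf 0x74342342347123432)) (.node 1 (.leaf 0x7434643452346423432) (.leaf 0x67434653412346423432))) (.node 2 (.node 1 (.leaf 0x34734123432) (.leaf 0x7412346743423476432))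 (.node 1 (.leaf 0x3467462343423432) (.leaf 0x745346743423463432)))))) (.node 16 (.node 8 (.node 4 (.node 2 (.node 1 (.leaf 0x6746341234623432) (.leaf 0x23471234346123432)) (.node 1 (.leaf 0x6347343423463432) (.leaf 0x45347342347423432))) (.node 2 (.node 1 (.leaf 0x412346743423476432) (.leaf 0x347434123432)) (.node 1 (.leaf 0x4653423472343423432) (.leaf 0x6343473453423463432)))) (.node 4 (.node 2 (.node 1 (.leaf 0x6743475342346123432) (.leaf 0x43454234346423432)) (.node 1 (.leaf 0x7623476434123476432) (.leaf 0x3473465423432))) (.node 2 (.node 1 (.leaf 0x542346234234623432) (.leaf 0x7434674123432)) (.node 1 (.leaf 0x34634523434123432) (.leaf 0x4523423475423432))))) (.node 8 (.node 4 (.node 2 (.node 1 (.leaf 0x3434754234623432) (.leaf 0x534634523434123432)) (.node 1 (.leaf 0x5347543432) (.leaf 0x746423453423476432))) (.node 2 (.node 1 (.leaf 0x673434234534623432) (.leaf 0x653434523434623432)) (.node 1 (.leaf 0x74645343423476432) (.leaf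 0x234674345234723432)))) (.node 4 (.node 2 (.node 1 (.leaf 0x647541234623432) (.leaf 0x3453465343423463432)) (.node 1 (.leaf 0x647543464123432) (.leaf 0x7434346453423463432))) (.node 2 (.node 1 (.leaf 0x5234674342347123432) (.leaf 0x4234634734234653432)) (.node 1 (.leaf 0x473464343423473432) (.leaf 0x634764342346123432)))))))

def classATree_124 : Tree :=
  .node 64 (.node 32 (.node 16 (.node 8 (.node 4 (.node 2 (.node 1 (.leaf 0x53475346342346123432) (.leaf 0x523463434723434123432)) (.node 1 (.leaf 0x643473463423463432) (.leaf 0x643474342347423432))) (.node 2 (.node 1 (.leaf 0x3463453423474123432) (.leaf 0x3465476434123463432)) (.node 1 (.leaf 0x6347643423473432) (.leaf 0x6534341234346423432)))) (.node 4 (.node 2 (.node 1 (.leaf 0x6434623473412347423432) (.leaf 0x746434234634234623432)) (.node 1 (.leaf 0x234346454234623432) (.leaf 0x3472343423467432))) (.node 2 (.node 1 (.leaf 0x7643423463423464123432) (.leaf 0x764342346342346123432))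 (.node 1 (.leaf 0x6734523423463423432) (.leaf 0x734654234234753432))))) (.node 8 (.node 4 (.node 2 (.node 1 (.leaf 0x7234346542346423432) (.leaf 0x7647543423473432)) (.node 1 (.leaf 0x546743423432) (.leaf 0x63452343423476432))) (.node 2 (.node 1 (.leaf 0x34654234523473432) (.leaf 0x474634345234723432)) (.node 1 (.leaf 0x5434753463423463432) (.leaf 0x3453465434123473432)))) (.node 4 (.node 2 (.node 1 (.leaf 0x546742342347123432) (.leaf 0x634234234234653432)) (.node 1 (.leaf 0x54623434123432) (.leaf 0x634234234234723432))) (.node 2 (.node 1 (.leaf 0x546734534234723432) (.leaf 0x43462342346423432)) (.node 1 (.leaf 0x73434654234123473432) (.leaf 0x74612343423432)))))) (.node 16 (.node 8 (.node 4 (.node 2 (.node 1 (.leaf 0x23467434234723432) (.leaf 0x7465434634234643432)) (.node 1 (.leaf 0x234745434234723432) (.leaf 0x473463434523463432))) (.node 2 (.node 1 (.leaf 0x7341234234623432) (.leaf 0x74643423473423432)) (.node 1 (.leaf 0x341234234623432)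 (.leaf 0x4643423473423432)))) (.node 4 (.node 2 (.node 1 (.leaf 0x673423473423432) (.leaf 0x434764234234623432)) (.node 1 (.leaf 0x623475412346423432) (.leaf 0x3467434634234623432))) (.node 2 (.node 1 (.leaf 0x452346434123476432) (.leaf 0x12343423467423432)) (.node 1 (.leaf 0x423462342346123432) (.leaf 0x7434753423432))))) (.node 8 (.node 4 (.node 2 (.node 1 (.leaf 0x74654347123432) (.leaf 0x423463434234623432)) (.node 1 (.leaf 0x4234634234234623432) (.leaf 0x6453473423432))) (.node 2 (.node 1 (.leaf 0x74341234634123432) (.leaf 0x7434234764123432)) (.node 1 (.leaf 0x75434723467432) (.leaf 0x4674346342346123432)))) (.node 4 (.node 2 (.node 1 (.leaf 0x534623453423476432) (.leaf 0x46434346542347123432)) (.node 1 (.leaf 0x7523465434523473432) (.leaf 0x4763472343423432))) (.node 2 (.node 1 (.leaf 0x341234634234643432) (.leaf 0x75434723434123432)) (.node 1 (.leaf 0x234534753423432) (.leaf 0x464543462343423432))))))) (.node 32 (.node 16 (.node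 8 (.node 4 (.node 2 (.node 1 (.leaf 0x234534643423463432) (.leaf 0x434234734123463432)) (.node 1 (.leaf 0x34753463412346423432) (.leaf 0x64754341234723432))) (.node 2 (.node 1 (.leaf 0x6523434234723432) (.leaf 0x634543462343423432)) (.node 1 (.leaf 0x7423463434523473432) (.leaf 0x534734634234743432)))) (.node 4 (.node 2 (.node 1 (.leaf 0x534734347123432) (.leaf 0x5346234734234723432)) (.node 1 (.leaf 0x3476434523463432) (.leaf 0x7467463452346423432))) (.node 2 (.node 1 (.leaf 0x523464234234623432) (.leaf 0x2343464543423473432)) (.node 1 (.leaf 0x64346434123463432) (.leaf 0x467434634234753432))))) (.node 8 (.node 4 (.node 2 (.node 1 (.leaf 0x47434534234753432) (.leaf 0x467434123476432)) (.node 1 (.leaf 0x467412343423463432) (.leaf 0x74234612342346423432))) (.node 2 (.node 1 (.leaf 0x347645346123432) (.leaf 0x3476423464123432)) (.node 1 (.leaf 0x7343475342346123432) (.leaf 0x3452346234234623432)))) (.node 4 (.node 2 (.node 1 (.leaf 0x47543434234643432)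 (.leaf 0x45341234623432)) (.node 1 (.leaf 0x745343423473432) (.leaf 0x754346454234723432))) (.node 2 (.node 1 (.leaf 0x6123473423474123432) (.leaf 0x754234123463432)) (.node 1 (.leaf 0x54674634123473432) (.leaf 0x5464523434123432)))))) (.node 16 (.node 8 (.node 4 (.node 2 (.node 1 (.leaf 0x7546347341234623432) (.leaf 0x64534234734123432)) (.node 1 (.leaf 0x746743423476432) (.leaf 0x434723463423464123432))) (.node 2 (.node 1 (.leaf 0x123423463423432) (.leaf 0x1234643453423476432)) (.node 1 (.leaf 0x54673423476432) (.leaf 0x3467423473423432)))) (.node 4 (.node 2 (.node 1 (.leaf 0x5423464534234623432) (.leaf 0x34234743453423432)) (.node 1 (.leaf 0x7342341234623432) (.leaf 0x43463453423432))) (.node 2 (.node 1 (.leaf 0x3474523434123432) (.leaf 0x534342347423432)) (.node 1 (.leaf 0x47342347343423463432) (.leaf 0x23474346234347123432))))) (.node 8 (.node 4 (.node 2 (.node 1 (.leaf 0x64723464342346423432) (.leaf 0x734647434234653432)) (.node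 1 (.leaf 0x47523463452346423432) (.leaf 0x745234634234643432))) (.node 2 (.node 1 (.leaf 0x3476434123473432) (.leaf 0x734234123432)) (.node 1 (.leaf 0x754346734234653432) (.leaf 0x754234123476432)))) (.node 4 (.node 2 (.node 1 (.leaf 0x2346234534234653432) (.leaf 0x734345423463432)) (.node 1 (.leaf 0x234754342346423432) (.leaf 0x46342347123432))) (.node 2 (.node 1 (.leaf 0x123434754123432) (.leaf 0x734234534234653432)) (.node 1 (.leaf 0x7465342347423432) (.leaf 0x547346341234723432)))))))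

def classATree_125 : Tree :=
  .node 64 (.node 32 (.node 16 (.node 8 (.node 4 (.node 2 (.node 1 (.leaf 0x234753412346423432) (.leaf 0x6743474534234723432)) (.node 1 (.leaf 0x6534234723432) (.leaf 0x72346123434123432))) (.node 2 (.node 1 (.leaf 0x52342346423432) (.leaf 0x6743463423463432)) (.node 1 (.leaf 0x53423464123432) (.leaf 0x7343454234346423432)))) (.node 4 (.node 2 (.node 1 (.leaf 0x5343423453423465432) (.leaf 0x74653423463432)) (.node 1 (.leaf 0x467453423473432) (.leaf 0x73423453423432))) (.node 2 (.node 1 (.leaf 0x761234347123432) (.leaf 0x752343472343423432)) (.node 1 (.leaf 0x754234712343423432) (.leaf 0x74123462343423432))))) (.node 8 (.node 4 (.node 2 (.node 1 (.leaf 0x74534734123467432) (.leaf 0x43463452343423432)) (.node 1 (.leaf 0x741234623432) (.leaf 0x523434674234623432))) (.node 2 (.node 1 (.leaf 0x5423463434123463432) (.leaf 0x74347346423432)) (.node 1 (.leaf 0x472343454234623432) (.leaf 0x734534612343423432))))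 (.node 4 (.node 2 (.node 1 (.leaf 0x4653475343423463432) (.leaf 0x6347534234653432)) (.node 1 (.leaf 0x7542346454234623432) (.leaf 0x4623474543423473432))) (.node 2 (.node 1 (.leaf 0x54674234234643432) (.leaf 0x5475346341234623432)) (.node 1 (.leaf 0x4234347542346123432) (.leaf 0x54734542347423432)))))) (.node 16 (.node 8 (.node 4 (.node 2 (.node 1 (.leaf 0x454234734234723432) (.leaf 0x642341234234623432)) (.node 1 (.leaf 0x7534342346347423432) (.leaf 0x4123462342346123432))) (.node 2 (.node 1 (.leaf 0x4642347343423463432) (.leaf 0x634542343423473432)) (.node 1 (.leaf 0x6543462345234623432) (.leaf 0x74634764234623432)))) (.node 4 (.node 2 (.node 1 (.leaf 0x54763423473423432) (.leaf 0x434734234123476432)) (.node 1 (.leaf 0x6423476434123467432) (.leaf 0x7423467453423463432))) (.node 2 (.node 1 (.leaf 0x542345346423432) (.leaf 0x534754342346123432)) (.node 1 (.leaf 0x65234342346347423432) (.leaf 0x4543423467423432))))) (.node 8 (.node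 4 (.node 2 (.node 1 (.leaf 0x6547341234723432) (.leaf 0x46743475423467432)) (.node 1 (.leaf 0x62343454234346423432) (.leaf 0x4123476434123467432))) (.node 2 (.node 1 (.leaf 0x623434754123432) (.leaf 0x65347234523475423432)) (.node 1 (.leaf 0x623434523473432) (.leaf 0x34674234723432)))) (.node 4 (.node 2 (.node 1 (.leaf 0x746347642346423432) (.leaf 0x643475343423473432)) (.node 1 (.leaf 0x6434643423463432) (.leaf 0x645434634123473432))) (.node 2 (.node 1 (.leaf 0x46345342346123432) (.leaf 0x6745346123434123432)) (.node 1 (.leaf 0x4234753463423463432) (.leaf 0x75423463423473432))))))) (.node 32 (.node 16 (.node 8 (.node 4 (.node 2 (.node 1 (.leaf 0x45234743423467432) (.leaf 0x64764341234623432)) (.node 1 (.leaf 0x6434734234764123432) (.leaf 0x43452343464123432))) (.node 2 (.node 1 (.leaf 0x54234234623432) (.leaf 0x454342346743423476432)) (.node 1 (.leaf 0x754234753423432) (.leaf 0x463423475423432)))) (.node 4 (.node 2 (.node 1 (.leaf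 0x5467345341234723432) (.leaf 0x7343464543423473432)) (.node 1 (.leaf 0x54674345423463432) (.leaf 0x746234234754123432))) (.node 2 (.node 1 (.leaf 0x75434723465432) (.leaf 0x345342347643423432)) (.node 1 (.leaf 0x7342346542346423432) (.leaf 0x64753423465432))))) (.node 8 (.node 4 (.node 2 (.node 1 (.leaf 0x6453467432) (.leaf 0x34674234234643432)) (.node 1 (.leaf 0x6743464712343423432) (.leaf 0x674346472343423432))) (.node 2 (.node 1 (.leaf 0x3474543462343423432) (.leaf 0x647643452347643432)) (.node 1 (.leaf 0x6234746434234753432) (.leaf 0x523434643423463432)))) (.node 4 (.node 2 (.node 1 (.leaf 0x53434523434623432) (.leaf 0x4234753423476432)) (.node 1 (.leaf 0x6453423432) (.leaf 0x46453423463432))) (.node 2 (.node 1 (.leaf 0x67434523434723432) (.leaf 0x4346734612343423432)) (.node 1 (.leaf 0x4346234234723432) (.leaf 0x464342346743423476432)))))) (.node 16 (.node 8 (.node 4 (.node 2 (.node 1 (.leaf 0x4234653423467432) (.leaf 0x534234523473432))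 (.node 1 (.leaf 0x34523476434234753432) (.leaf 0x523463423467432))) (.node 2 (.node 1 (.leaf 0x46746234234753432) (.leaf 0x534234123473423432)) (.node 1 (.leaf 0x54234674342347123432) (.leaf 0x3474234234653432)))) (.node 4 (.node 2 (.node 1 (.leaf 0x34674234523463432) (.leaf 0x7454234234723432)) (.node 1 (.leaf 0x534234123432) (.leaf 0x423453472343423432))) (.node 2 (.node 1 (.leaf 0x3453472343423432) (.leaf 0x54634347234234123432)) (.node 1 (.leaf 0x652347234234623432) (.leaf 0x7454234623432))))) (.node 8 (.node 4 (.node 2 (.node 1 (.leaf 0x53464345234623432) (.leaf 0x6454346534234623432)) (.node 1 (.leaf 0x746343452347643432) (.leaf 0x6746342345347423432))) (.node 2 (.node 1 (.leaf 0x54645343423432) (.leaf 0x52346343423432)) (.node 1 (.leaf 0x652347345234723432) (.leaf 0x674346123434123432)))) (.node 4 (.node 2 (.node 1 (.leaf 0x64742342347123432) (.leaf 0x42347123434123432)) (.node 1 (.leaf 0x65412347342347123432) (.leaf 0x3453473423467432)))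 (.node 2 (.node 1 (.leaf 0x467434523463432) (.leaf 0x54623473423476432)) (.node 1 (.leaf 0x73434754123476432) (.leaf 0x461234234723432)))))))

def classATree_126 : Tree :=
  .node 64 (.node 32 (.node 16 (.node 8 (.node 4 (.node 2 (.node 1 (.leaf 0x34743452343423432) (.leaf 0x45234234653432)) (.node 1 (.leaf 0x23465434234653432) (.leaf 0x7434623473423476432))) (.node 2 (.node 1 (.leaf 0x743462341234623432) (.leaf 0x347345342347423432)) (.node 1 (.leaf 0x3474234123476432) (.leaf 0x74653434123432)))) (.node 4 (.node 2 (.node 1 (.leaf 0x6123472342347123432) (.leaf 0x452346742347123432)) (.node 1 (.leaf 0x7434734342346123432) (.leaf 0x65342343423473432))) (.node 2 (.node 1 (.leaf 0x734523423473423432) (.leaf 0x64742346345234623432)) (.node 1 (.leaf 0x7465423423463423432) (.leaf 0x463476434234743432))))) (.node 8 (.node 4 (.node 2 (.node 1 (.leaf 0x7434623432) (.leaf 0x5472346234234623432)) (.node 1 (.leaf 0x123473423467432) (.leaf 0x743462343475423432)))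 (.node 2 (.node 1 (.leaf 0x743423473423432) (.leaf 0x64764234234723432)) (.node 1 (.leaf 0x7543474342347123432) (.leaf 0x7454347643423476432)))) (.node 4 (.node 2 (.node 1 (.leaf 0x234634345234723432) (.leaf 0x4643473423467432)) (.node 1 (.leaf 0x5476453423463432) (.leaf 0x746543423432))) (.node 2 (.node 1 (.leaf 0x7463452343423432) (.leaf 0x6345347341234723432)) (.node 1 (.leaf 0x7234634347123432) (.leaf 0x4346543474123432)))))) (.node 16 (.node 8 (.node 4 (.node 2 (.node 1 (.leaf 0x123464345234623432) (.leaf 0x3474543423476432)) (.node 1 (.leaf 0x74346234347123432) (.leaf 0x4634764534234753432))) (.node 2 (.node 1 (.leaf 0x4634123432) (.leaf 0x475434123473432)) (.node 1 (.leaf 0x6734347454234723432) (.leaf 0x7434234723432)))) (.node 4 (.node 2 (.node 1 (.leaf 0x523463423476432) (.leaf 0x723463434123463432)) (.node 1 (.leaf 0x674654346123432) (.leaf 0x234634234234623432))) (.node 2 (.node 1 (.leaf 0x4764345234723432) (.leaf 0x743473434234743432))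 (.node 1 (.leaf 0x67465434123467432) (.leaf 0x7546234123476432))))) (.node 8 (.node 4 (.node 2 (.node 1 (.leaf 0x74234234234623432) (.leaf 0x64734234347423432)) (.node 1 (.leaf 0x647643423467432) (.leaf 0x4647453423467432))) (.node 2 (.node 1 (.leaf 0x64723434634234623432) (.leaf 0x452347343423463432)) (.node 1 (.leaf 0x762343472343423432) (.leaf 0x463423463423467432)))) (.node 4 (.node 2 (.node 1 (.leaf 0x43463473423476432) (.leaf 0x5234746434523473432)) (.node 1 (.leaf 0x7642346123432) (.leaf 0x7643423423465432))) (.node 2 (.node 1 (.leaf 0x3462345234623432) (.leaf 0x71234623434234623432)) (.node 1 (.leaf 0x3434764534234623432) (.leaf 0x345347423432))))))) (.node 32 (.node 16 (.node 8 (.node 4 (.node 2 (.node 1 (.leaf 0x345346534234623432) (.leaf 0x434523434234623432)) (.node 1 (.leaf 0x53473434523463432) (.leaf 0x3473434234623432))) (.node 2 (.node 1 (.leaf 0x43472343423473432) (.leaf 0x23475343423473432)) (.node 1 (.leaf 0x5423463434234723432)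 (.leaf 0x234753434523473432)))) (.node 4 (.node 2 (.node 1 (.leaf 0x343452347643432) (.leaf 0x634234623434723432)) (.node 1 (.leaf 0x3434634234623432) (.leaf 0x76345342345347423432))) (.node 2 (.node 1 (.leaf 0x764234634234643432) (.leaf 0x43452343423475432)) (.node 1 (.leaf 0x7643423432) (.leaf 0x74643423463432))))) (.node 8 (.node 4 (.node 2 (.node 1 (.leaf 0x764342341234723432) (.leaf 0x34742346342346423432)) (.node 1 (.leaf 0x54342347342347123432) (.leaf 0x7434534734234723432))) (.node 2 (.node 1 (.leaf 0x623473453423432) (.leaf 0x454346434234643432)) (.node 1 (.leaf 0x754634734234623432) (.leaf 0x6434523423463423432)))) (.node 4 (.node 2 (.node 1 (.leaf 0x534642347342347423432) (.leaf 0x6454342346342346123432)) (.node 1 (.leaf 0x4543475343423473432) (.leaf 0x634234743423476432))) (.node 2 (.node 1 (.leaf 0x45434643423463432) (.leaf 0x7434653412346423432)) (.node 1 (.leaf 0x34534634234723432) (.leaf 0x745434634234643432)))))) (.node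 16 (.node 8 (.node 4 (.node 2 (.node 1 (.leaf 0x12347642346123432) (.leaf 0x4523434754123432)) (.node 1 (.leaf 0x76434234234723432) (.leaf 0x4653473452347423432))) (.node 2 (.node 1 (.leaf 0x74534345234623432) (.leaf 0x534347462343423432)) (.node 1 (.leaf 0x6434346542346423432) (.leaf 0x346453434123473432)))) (.node 4 (.node 2 (.node 1 (.leaf 0x75463423467432) (.leaf 0x7546543423467432)) (.node 1 (.leaf 0x467343472343423432) (.leaf 0x623434764234723432))) (.node 2 (.node 1 (.leaf 0x54734123463432) (.leaf 0x647534342346123432)) (.node 1 (.leaf 0x347643423467434123432) (.leaf 0x534234734534234753432))))) (.node 8 (.node 4 (.node 2 (.node 1 (.leaf 0x4654347462343423432) (.leaf 0x123434623476432)) (.node 1 (.leaf 0x7543467432) (.leaf 0x643476432))) (.node 2 (.node 1 (.leaf 0x4643423475432) (.leaf 0x34634234723432)) (.node 1 (.leaf 0x434734342347123432) (.leaf 0x6234345423463432)))) (.node 4 (.node 2 (.node 1 (.leaf 0x543467434234653432)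 (.leaf 0x643452347643432)) (.node 1 (.leaf 0x3453476434123473432) (.leaf 0x64234674123432))) (.node 2 (.node 1 (.leaf 0x345434234623432) (.leaf 0x62347234523475423432)) (.node 1 (.leaf 0x45347234634234643432) (.leaf 0x453434523473432)))))))

def classATree_127 : Tree :=
  .node 64 (.node 32 (.node 16 (.node 8 (.node 4 (.node 2 (.node 1 (.leaf 0x547343462343423432) (.leaf 0x5475434674234723432)) (.node 1 (.leaf 0x643475423423465432) (.leaf 0x634346742347123432))) (.node 2 (.node 1 (.leaf 0x347123462343423432) (.leaf 0x7463453423432)) (.node 1 (.leaf 0x434674347123432) (.leaf 0x634342345346423432)))) (.node 4 (.node 2 (.node 1 (.leaf 0x754346743423473432) (.leaf 0x72346434123467432)) (.node 1 (.leaf 0x5346347542347123432) (.leaf 0x434734523465423432))) (.node 2 (.node 1 (.leaf 0x4343475423432) (.leaf 0x5473462343423432)) (.node 1 (.leaf 0x746745343423432) (.leaf 0x34634734123463432))))) (.node 8 (.node 4 (.node 2 (.node 1 (.leaf 0x6734347541234723432)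 (.leaf 0x5465234234623432)) (.node 1 (.leaf 0x4672343462343423432) (.leaf 0x47546347423432))) (.node 2 (.node 1 (.leaf 0x47541234723432) (.leaf 0x5347234234123476432)) (.node 1 (.leaf 0x6743434754234723432) (.leaf 0x43453465423432)))) (.node 4 (.node 2 (.node 1 (.leaf 0x74673453423432) (.leaf 0x54347643423467432)) (.node 1 (.leaf 0x64347643423463432) (.leaf 0x542342346123432))) (.node 2 (.node 1 (.leaf 0x63453423467423432) (.leaf 0x76234734123476432)) (.node 1 (.leaf 0x543464712343423432) (.leaf 0x65343423467453432)))))) (.node 16 (.node 8 (.node 4 (.node 2 (.node 1 (.leaf 0x5347343423432) (.leaf 0x52343463423432)) (.node 1 (.leaf 0x7643474612343423432) (.leaf 0x6534762343423432))) (.node 2 (.node 1 (.leaf 0x6434534623432) (.leaf 0x623434523434623432)) (.node 1 (.leaf 0x546342346342346123432) (.leaf 0x543412346345234623432)))) (.node 4 (.node 2 (.node 1 (.leaf 0x343463453423463432) (.leaf 0x534643452346423432)) (.node 1 (.leaf 0x53473434623434123432)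 (.leaf 0x34723434234623432))) (.node 2 (.node 1 (.leaf 0x74345234234623432) (.leaf 0x75234234623432)) (.node 1 (.leaf 0x7634234123432) (.leaf 0x54234674345423463432))))) (.node 8 (.node 4 (.node 2 (.node 1 (.leaf 0x546412342346123432) (.leaf 0x52342346123432)) (.node 1 (.leaf 0x4345234234623432) (.leaf 0x5234234623432))) (.node 2 (.node 1 (.leaf 0x5464341234623432) (.leaf 0x2347123434623432)) (.node 1 (.leaf 0x47434634123463432) (.leaf 0x12345347543423463432)))) (.node 4 (.node 2 (.node 1 (.leaf 0x473463423475423432) (.leaf 0x65473434523463432)) (.node 1 (.leaf 0x4734346123432) (.leaf 0x534345234346123432))) (.node 2 (.node 1 (.leaf 0x2343474543423463432) (.leaf 0x34734234234123432)) (.node 1 (.leaf 0x6746234234623432) (.leaf 0x73434234346423432))))))) (.node 32 (.node 16 (.node 8 (.node 4 (.node 2 (.node 1 (.leaf 0x7453467434234643432) (.leaf 0x6534346743423473432)) (.node 1 (.leaf 0x434623473423474123432) (.leaf 0x234234674534234723432)))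 (.node 2 (.node 1 (.leaf 0x3472343423476432) (.leaf 0x64745434723432)) (.node 1 (.leaf 0x764754234723432) (.leaf 0x7623434234347423432)))) (.node 4 (.node 2 (.node 1 (.leaf 0x53434764234723432) (.leaf 0x342341234634123432)) (.node 1 (.leaf 0x342347123434623432) (.leaf 0x4674634234753432))) (.node 2 (.node 1 (.leaf 0x5434674342347123432) (.leaf 0x734654234123473432)) (.node 1 (.leaf 0x67345342345346423432) (.leaf 0x674342342346423432))))) (.node 8 (.node 4 (.node 2 (.node 1 (.leaf 0x734234723434623432) (.leaf 0x762343476423464123432)) (.node 1 (.leaf 0x5412346342346423432) (.leaf 0x6534234123463423432))) (.node 2 (.node 1 (.leaf 0x346543423473432) (.leaf 0x7643475234234723432)) (.node 1 (.leaf 0x673423423463423432) (.leaf 0x62345342345347423432)))) (.node 4 (.node 2 (.node 1 (.leaf 0x723434634234623432) (.leaf 0x6476452343423432)) (.node 1 (.leaf 0x423474543423463432) (.leaf 0x634523423423475432))) (.node 2 (.node 1 (.leaf 0x634764234523473432)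 (.leaf 0x3465434234623432)) (.node 1 (.leaf 0x3474346542346123432) (.leaf 0x46534752343423432)))))) (.node 16 (.node 8 (.node 4 (.node 2 (.node 1 (.leaf 0x434523434234723432) (.leaf 0x2343464543423432)) (.node 1 (.leaf 0x7647343423473432) (.leaf 0x534764341234623432))) (.node 2 (.node 1 (.leaf 0x3467346542346123432) (.leaf 0x54346743423463432)) (.node 1 (.leaf 0x47623434234623432) (.leaf 0x742346742347123432)))) (.node 4 (.node 2 (.node 1 (.leaf 0x34612343475423432) (.leaf 0x743467453423463432)) (.node 1 (.leaf 0x67423462342346123432) (.leaf 0x6434753423432))) (.node 2 (.node 1 (.leaf 0x67434623476432) (.leaf 0x674234234753432)) (.node 1 (.leaf 0x534346343423476432) (.leaf 0x4234534623432))))) (.node 8 (.node 4 (.node 2 (.node 1 (.leaf 0x47343423473423432) (.leaf 0x3473434234734123432)) (.node 1 (.leaf 0x64234754123432) (.leaf 0x647541234234753432))) (.node 2 (.node 1 (.leaf 0x645234234753432) (.leaf 0x452346343423463432)) (.node 1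 (.leaf 0x76434634234753432) (.leaf 0x34347434123463432)))) (.node 4 (.node 2 (.node 1 (.leaf 0x634534734123463432) (.leaf 0x763434743423463432)) (.node 1 (.leaf 0x53474234634234623432) (.leaf 0x547234623434723432))) (.node 2 (.node 1 (.leaf 0x343474345234723432) (.leaf 0x4743452347423432)) (.node 1 (.leaf 0x4234743423453423432) (.leaf 0x74346342346123432)))))))

def classATree_128 : Tree :=
  .node 64 (.node 32 (.node 16 (.node 8 (.node 4 (.node 2 (.node 1 (.leaf 0x6473465423432) (.leaf 0x34674343423473432)) (.node 1 (.leaf 0x464734234653432) (.leaf 0x5434643423432))) (.node 2 (.node 1 (.leaf 0x647434523463432) (.leaf 0x474346123434123432)) (.node 1 (.leaf 0x6453476434234643432) (.leaf 0x743474543423463432)))) (.node 4 (.node 2 (.node 1 (.leaf 0x4734623453423432) (.leaf 0x7452347345234723432)) (.node 1 (.leaf 0x473463452343423432) (.leaf 0x54612342346423432))) (.node 2 (.node 1 (.leaf 0x4543465341234623432) (.leaf 0x54652347345234723432))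 (.node 1 (.leaf 0x542347534234723432) (.leaf 0x5423412346423432))))) (.node 8 (.node 4 (.node 2 (.node 1 (.leaf 0x543464342346123432) (.leaf 0x467434612343423432)) (.node 1 (.leaf 0x6743463472343423432) (.leaf 0x34534734123463432))) (.node 2 (.node 1 (.leaf 0x123472343423432) (.leaf 0x64754345423463432)) (.node 1 (.leaf 0x743463423432) (.leaf 0x463434123463432)))) (.node 4 (.node 2 (.node 1 (.leaf 0x47534623453423432) (.leaf 0x7434634234753432)) (.node 1 (.leaf 0x74523434234723432) (.leaf 0x423453423473432))) (.node 2 (.node 1 (.leaf 0x5347534234654123432) (.leaf 0x3473434723467432)) (.node 1 (.leaf 0x4734342343423473432) (.leaf 0x464342343423463432)))))) (.node 16 (.node 8 (.node 4 (.node 2 (.node 1 (.leaf 0x74234123476432) (.leaf 0x75434123467432)) (.node 1 (.leaf 0x64543423467432) (.leaf 0x7234523476423432))) (.node 2 (.node 1 (.leaf 0x7341234723432) (.leaf 0x234723465423432)) (.node 1 (.leaf 0x46434523467423432) (.leaf 0x7643423467432))))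 (.node 4 (.node 2 (.node 1 (.leaf 0x345234723432) (.leaf 0x6474543423467432)) (.node 1 (.leaf 0x4645341234723432) (.leaf 0x4762347234234723432))) (.node 2 (.node 1 (.leaf 0x674123423463423432) (.leaf 0x543412343423463432)) (.node 1 (.leaf 0x7643434234743432) (.leaf 0x64234123463423432))))) (.node 8 (.node 4 (.node 2 (.node 1 (.leaf 0x7423452342346123432) (.leaf 0x4542347643423467432)) (.node 1 (.leaf 0x63453423474123432) (.leaf 0x123463453423476432))) (.node 2 (.node 1 (.leaf 0x54674341234623432) (.leaf 0x642347346234347123432)) (.node 1 (.leaf 0x6534234346423432) (.leaf 0x454234234234623432)))) (.node 4 (.node 2 (.node 1 (.leaf 0x2346745234234653432) (.leaf 0x34234674123432)) (.node 1 (.leaf 0x764234123476432) (.leaf 0x534234723432))) (.node 2 (.node 1 (.leaf 0x6123423463423432) (.leaf 0x623473463423476423432)) (.node 1 (.leaf 0x43467434234753432) (.leaf 0x65434123467432))))))) (.node 32 (.node 16 (.node 8 (.node 4 (.node 2 (.node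 1 (.leaf 0x73423467423432) (.leaf 0x75342347123432)) (.node 1 (.leaf 0x4234654234234623432) (.leaf 0x6423423463423432))) (.node 2 (.node 1 (.leaf 0x65234734623434723432) (.leaf 0x234674234523463432)) (.node 1 (.leaf 0x423474643423476432) (.leaf 0x234754234234653432)))) (.node 4 (.node 2 (.node 1 (.leaf 0x4234742341234723432) (.leaf 0x674534234346423432)) (.node 1 (.leaf 0x7423465234234623432) (.leaf 0x523465343423476432))) (.node 2 (.node 1 (.leaf 0x7467434234623432) (.leaf 0x2347234234653432)) (.node 1 (.leaf 0x6534342347423432) (.leaf 0x46453423467423432))))) (.node 8 (.node 4 (.node 2 (.node 1 (.leaf 0x6475434123467432) (.leaf 0x464342347123432)) (.node 1 (.leaf 0x234654346423432) (.leaf 0x734543423465432))) (.node 2 (.node 1 (.leaf 0x745342346743423432) (.leaf 0x463474343423473432)) (.node 1 (.leaf 0x34753463423463432) (.leaf 0x53412346342346123432)))) (.node 4 (.node 2 (.node 1 (.leaf 0x64753463423464123432) (.leaf 0x7643452343465423432))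 (.node 1 (.leaf 0x23464234534123476432) (.leaf 0x63473434523463432))) (.node 2 (.node 1 (.leaf 0x23412346743423476432) (.leaf 0x7463423465423432)) (.node 1 (.leaf 0x234734234723432) (.leaf 0x67434674534234653432)))))) (.node 16 (.node 8 (.node 4 (.node 2 (.node 1 (.leaf 0x7423474342347423432) (.leaf 0x463454342346123432)) (.node 1 (.leaf 0x342346743423476432) (.leaf 0x54734346542347123432))) (.node 2 (.node 1 (.leaf 0x462343475423432) (.leaf 0x434654342347423432)) (.node 1 (.leaf 0x673463423476432) (.leaf 0x7346434234723432)))) (.node 4 (.node 2 (.node 1 (.leaf 0x43464234234723432) (.leaf 0x342346341234623432)) (.node 1 (.leaf 0x634347462343423432) (.leaf 0x534653434123473432))) (.node 2 (.node 1 (.leaf 0x4634234523463432) (.leaf 0x67343423467432)) (.node 1 (.leaf 0x764123472343423432) (.leaf 0x547543462343423432))))) (.node 8 (.node 4 (.node 2 (.node 1 (.leaf 0x734643423473423432) (.leaf 0x75346342346123432)) (.node 1 (.leaf 0x434534643423463432)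 (.leaf 0x746434234754123432))) (.node 2 (.node 1 (.leaf 0x4346434345423463432) (.leaf 0x46347434234623432)) (.node 1 (.leaf 0x434634342346423432) (.leaf 0x5462343423453423465432)))) (.node 4 (.node 2 (.node 1 (.leaf 0x5476423453423432) (.leaf 0x75346342346423432)) (.node 1 (.leaf 0x6423463434234723432) (.leaf 0x62345341234723432))) (.node 2 (.node 1 (.leaf 0x7534634234753432) (.leaf 0x2347345234723432)) (.node 1 (.leaf 0x543474342347423432) (.leaf 0x62345346123432)))))))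

def classATree_129 : Tree :=
  .node 64 (.node 32 (.node 16 (.node 8 (.node 4 (.node 2 (.node 1 (.leaf 0x54734123473423432) (.leaf 0x7634345423473432)) (.node 1 (.leaf 0x6534234654123432) (.leaf 0x547643423476453432))) (.node 2 (.node 1 (.leaf 0x64734234123432) (.leaf 0x2343476423464123432)) (.node 1 (.leaf 0x643423473423432) (.leaf 0x5342341234623432)))) (.node 4 (.node 2 (.node 1 (.leaf 0x647645347123432) (.leaf 0x4642347342347123432)) (.node 1 (.leaf 0x54634234634234623432) (.leaf 0x234723463423464123432))) (.node 2 (.node 1 (.leaf 0x34723453423432) (.leaf 0x743465342347123432)) (.node 1 (.leaf 0x4734345234234623432) (.leaf 0x476452342347123432))))) (.node 8 (.node 4 (.node 2 (.node 1 (.leaf 0x454347643423473432) (.leaf 0x45234342346423432)) (.node 1 (.leaf 0x7343465434234653432) (.leaf 0x54342342347123432))) (.node 2 (.node 1 (.leaf 0x745347643423476432) (.leaf 0x6347346341234723432)) (.node 1 (.leaf 0x4534634723434623432) (.leaf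 0x23434723434123432)))) (.node 4 (.node 2 (.node 1 (.leaf 0x2346234234234753432) (.leaf 0x673434723432)) (.node 1 (.leaf 0x746474534234653432) (.leaf 0x34234674342347123432))) (.node 2 (.node 1 (.leaf 0x23463423476423432) (.leaf 0x2347346723434123432)) (.node 1 (.leaf 0x3453463412346423432) (.leaf 0x723453472343423432)))))) (.node 16 (.node 8 (.node 4 (.node 2 (.node 1 (.leaf 0x43472346342346123432) (.leaf 0x453463423432)) (.node 1 (.leaf 0x2343452343464123432) (.leaf 0x4623475342346423432))) (.node 2 (.node 1 (.leaf 0x3464347234346123432) (.leaf 0x4723453472343423432)) (.node 1 (.leaf 0x475343423476453432) (.leaf 0x6434734634234723432)))) (.node 4 (.node 2 (.node 1 (.leaf 0x7453463473423476432) (.leaf 0x7423434234643432)) (.node 1 (.leaf 0x2347534342346423432) (.leaf 0x23473423463423432))) (.node 2 (.node 1 (.leaf 0x45234642343423463432) (.leaf 0x543423412347423432)) (.node 1 (.leaf 0x54764346123432) (.leaf 0x452343473423432)))))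 (.node 8 (.node 4 (.node 2 (.node 1 (.leaf 0x46234534723434123432) (.leaf 0x723434123463423432)) (.node 1 (.leaf 0x42347454342346423432) (.leaf 0x23475434123476432))) (.node 2 (.node 1 (.leaf 0x634347123432) (.leaf 0x4753465234234623432)) (.node 1 (.leaf 0x47542341234723432) (.leaf 0x623434643423463432)))) (.node 4 (.node 2 (.node 1 (.leaf 0x4723465434523473432) (.leaf 0x47543464123432)) (.node 1 (.leaf 0x47542346123432) (.leaf 0x47645234623432))) (.node 2 (.node 1 (.leaf 0x4764346423432) (.leaf 0x23475412346423432)) (.node 1 (.leaf 0x65347343423432) (.leaf 0x74642347345234723432))))))) (.node 32 (.node 16 (.node 8 (.node 4 (.node 2 (.node 1 (.leaf 0x463434234764123432) (.leaf 0x43475463423467432)) (.node 1 (.leaf 0x23423463423432) (.leaf 0x234643453423476432))) (.node 2 (.node 1 (.leaf 0x653423467423432) (.leaf 0x543472343465432)) (.node 1 (.leaf 0x45423464342346123432) (.leaf 0x34674612343423432)))) (.node 4 (.node 2 (.node 1 (.leaf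 0x342341234623432) (.leaf 0x347523434123432)) (.node 1 (.leaf 0x54734543423432) (.leaf 0x4123462343423473432))) (.node 2 (.node 1 (.leaf 0x2347346234347123432) (.leaf 0x34647434234653432)) (.node 1 (.leaf 0x234634347123434123432) (.leaf 0x7534342347423432))))) (.node 8 (.node 4 (.node 2 (.node 1 (.leaf 0x45234634234643432) (.leaf 0x34746434123473432)) (.node 1 (.leaf 0x34234123432) (.leaf 0x642342347342347123432))) (.node 2 (.node 1 (.leaf 0x46534234723432) (.leaf 0x4647234234123432)) (.node 1 (.leaf 0x34234534234653432) (.leaf 0x465342347423432)))) (.node 4 (.node 2 (.node 1 (.leaf 0x5434723434654123432) (.leaf 0x2347453412346423432)) (.node 1 (.leaf 0x54346734234653432) (.leaf 0x4543474342347123432))) (.node 2 (.node 1 (.leaf 0x6734234723432) (.leaf 0x2346123434123432)) (.node 1 (.leaf 0x54234123476432) (.leaf 0x4523472343423463432)))))) (.node 16 (.node 8 (.node 4 (.node 2 (.node 1 (.leaf 0x34345423463432) (.leaf 0x2347454342346423432))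 (.node 1 (.leaf 0x52343472343423432) (.leaf 0x4123462343423432))) (.node 2 (.node 1 (.leaf 0x54234712343423432) (.leaf 0x6543463423463432)) (.node 1 (.leaf 0x65342347423432) (.leaf 0x753423464123432)))) (.node 4 (.node 2 (.node 1 (.leaf 0x343452343423476432) (.leaf 0x61234347123432)) (.node 1 (.leaf 0x41234623432) (.leaf 0x43423473423476432))) (.node 2 (.node 1 (.leaf 0x743463452343423432) (.leaf 0x4653423463432)) (.node 1 (.leaf 0x7467453423473432) (.leaf 0x3423453423432))))) (.node 8 (.node 4 (.node 2 (.node 1 (.leaf 0x343454234346423432) (.leaf 0x4534734123467432)) (.node 1 (.leaf 0x4347346423432) (.leaf 0x4642347534234723432))) (.node 2 (.node 1 (.leaf 0x543476434234623432) (.leaf 0x434745342346423432)) (.node 1 (.leaf 0x475423423473423432) (.leaf 0x4234764234234623432)))) (.node 4 (.node 2 (.node 1 (.leaf 0x6434743463423473432) (.leaf 0x7234534612343423432)) (.node 1 (.leaf 0x4653473434523463432) (.leaf 0x64347434523463432)))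 (.node 2 (.node 1 (.leaf 0x5123434734234723432) (.leaf 0x23434734234723432)) (.node 1 (.leaf 0x4534634234723432) (.leaf 0x53474523434123432)))))))

def classATree_130 : Tree :=
  .node 64 (.node 32 (.node 16 (.node 8 (.node 4 (.node 2 (.node 1 (.leaf 0x64746453423467432) (.leaf 0x6746743423467432)) (.node 1 (.leaf 0x6423434234643432) (.leaf 0x45343423476423432))) (.node 2 (.node 1 (.leaf 0x7623473452346423432) (.leaf 0x54634753423467432)) (.node 1 (.leaf 0x64234623432) (.leaf 0x523476434234753432)))) (.node 4 (.node 2 (.node 1 (.leaf 0x5234642343423463432) (.leaf 0x463434734234723432)) (.node 1 (.leaf 0x64347343423463432) (.leaf 0x64346423432))) (.node 2 (.node 1 (.leaf 0x763423423473423432) (.leaf 0x234234764534234623432)) (.node 1 (.leaf 0x634234674534234723432) (.leaf 0x3453473423474123432))))) (.node 8 (.node 4 (.node 2 (.node 1 (.leaf 0x62343463423463432) (.leaf 0x6723434234346423432)) (.node 1 (.leaf 0x6743412346345234623432)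 (.leaf 0x54653434523463432))) (.node 2 (.node 1 (.leaf 0x453463452346423432) (.leaf 0x43467453423476432)) (.node 1 (.leaf 0x3464534734234723432) (.leaf 0x6434734342347123432)))) (.node 4 (.node 2 (.node 1 (.leaf 0x7346234234754123432) (.leaf 0x3467434523463432)) (.node 1 (.leaf 0x3452343475423432) (.leaf 0x523476434623432))) (.node 2 (.node 1 (.leaf 0x6434623434234623432) (.leaf 0x2345346342346423432)) (.node 1 (.leaf 0x4341234734123463432) (.leaf 0x7434734634234753432)))))) (.node 16 (.node 8 (.node 4 (.node 2 (.node 1 (.leaf 0x4345341234623432) (.leaf 0x4543423423465432)) (.node 1 (.leaf 0x643452343423465432) (.leaf 0x64234123432))) (.node 2 (.node 1 (.leaf 0x464234123463432) (.leaf 0x673463453423473432)) (.node 1 (.leaf 0x23434234347423432) (.leaf 0x653473412347423432)))) (.node 4 (.node 2 (.node 1 (.leaf 0x3473454341234623432) (.leaf 0x674623453423432)) (.node 1 (.leaf 0x6543475462343423432) (.leaf 0x6534342346347423432))) (.node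 2 (.node 1 (.leaf 0x412342347342347123432) (.leaf 0x6423462343423473432)) (.node 1 (.leaf 0x5343463423463432) (.leaf 0x643464234234623432))))) (.node 8 (.node 4 (.node 2 (.node 1 (.leaf 0x4543464341234643432) (.leaf 0x4523474342347423432)) (.node 1 (.leaf 0x764234754123432) (.leaf 0x6347434234754123432))) (.node 2 (.node 1 (.leaf 0x6434734234754123432) (.leaf 0x4523434623432)) (.node 1 (.leaf 0x654234234753432) (.leaf 0x473434123473423432)))) (.node 4 (.node 2 (.node 1 (.leaf 0x65434623476432) (.leaf 0x64754234234753432)) (.node 1 (.leaf 0x7645234234753432) (.leaf 0x6476473452347423432))) (.node 2 (.node 1 (.leaf 0x63434743423463432) (.leaf 0x5347234634234623432)) (.node 1 (.leaf 0x7452346343423463432) (.leaf 0x6434634234753432))))))) (.node 32 (.node 16 (.node 8 (.node 4 (.node 2 (.node 1 (.leaf 0x734347434123463432) (.leaf 0x462347534234723432)) (.node 1 (.leaf 0x473452347423432) (.leaf 0x4346342346123432))) (.node 2 (.node 1 (.leaf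 0x54623434123473432) (.leaf 0x74543465341234623432)) (.node 1 (.leaf 0x65412346343423463432) (.leaf 0x7542347534234723432)))) (.node 4 (.node 2 (.node 1 (.leaf 0x7543464342346123432) (.leaf 0x75423412346423432)) (.node 1 (.leaf 0x452347345234723432) (.leaf 0x412342346423432))) (.node 2 (.node 1 (.leaf 0x4743463452343423432) (.leaf 0x5474234623434723432)) (.node 1 (.leaf 0x467234623434723432) (.leaf 0x47346123434123432))))) (.node 8 (.node 4 (.node 2 (.node 1 (.leaf 0x654734523463432) (.leaf 0x65434764123432)) (.node 1 (.leaf 0x47346434123432) (.leaf 0x7464734234653432))) (.node 2 (.node 1 (.leaf 0x734674343423473432) (.leaf 0x54634543423463432)) (.node 1 (.leaf 0x4754234712343423432) (.leaf 0x4764123472343423432)))) (.node 4 (.node 2 (.node 1 (.leaf 0x43474543423463432) (.leaf 0x462343454234723432)) (.node 1 (.leaf 0x6534346742347123432) (.leaf 0x434634234753432))) (.node 2 (.node 1 (.leaf 0x43463423432) (.leaf 0x347641234723432))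 (.node 1 (.leaf 0x65475434523463432) (.leaf 0x7463434123463432)))))) (.node 16 (.node 8 (.node 4 (.node 2 (.node 1 (.leaf 0x7423453423473432) (.leaf 0x4523434234723432)) (.node 1 (.leaf 0x5343465423463423432) (.leaf 0x3473423465423432))) (.node 2 (.node 1 (.leaf 0x6434634712343423432) (.leaf 0x4674534623434123432)) (.node 1 (.leaf 0x4742346234347123432) (.leaf 0x54734643423432)))) (.node 4 (.node 2 (.node 1 (.leaf 0x6474534234653432) (.leaf 0x47453462343423432)) (.node 1 (.leaf 0x534764234723432) (.leaf 0x6475434234653432))) (.node 2 (.node 1 (.leaf 0x643476423432) (.leaf 0x5434634123432)) (.node 1 (.leaf 0x54734623434123432) (.leaf 0x64734234653432))))) (.node 8 (.node 4 (.node 2 (.node 1 (.leaf 0x5472346123434723432) (.leaf 0x634346745234723432)) (.node 1 (.leaf 0x674523475423432) (.leaf 0x674234523473432))) (.node 2 (.node 1 (.leaf 0x473465473423476432) (.leaf 0x42345346123432)) (.node 1 (.leaf 0x547343423473423432) (.leaf 0x6423475423432))))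 (.node 4 (.node 2 (.node 1 (.leaf 0x34734234234653432) (.leaf 0x647454234234753432)) (.node 1 (.leaf 0x641234234753432) (.leaf 0x7546343423463432))) (.node 2 (.node 1 (.leaf 0x5343463423473432) (.leaf 0x46534234123463432)) (.node 1 (.leaf 0x745347543423463432) (.leaf 0x46454343423463432)))))))

def classATree_131 : Tree :=
  .node 64 (.node 32 (.node 16 (.node 8 (.node 4 (.node 2 (.node 1 (.leaf 0x476473423474123432) (.leaf 0x4234234123473432)) (.node 1 (.leaf 0x3464534234753432) (.leaf 0x743464345234623432))) (.node 2 (.node 1 (.leaf 0x7452347342347123432) (.leaf 0x345234634234623432)) (.node 1 (.leaf 0x5473423474123432) (.leaf 0x54346345234623432)))) (.node 4 (.node 2 (.node 1 (.leaf 0x54652347342347123432) (.leaf 0x746746343423463432)) (.node 1 (.leaf 0x534753463423473432) (.leaf 0x7462342346423432))) (.node 2 (.node 1 (.leaf 0x745346534234623432) (.leaf 0x642346343423463432)) (.node 1 (.leaf 0x65343463423473432) (.leaf 0x753434743423463432)))))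 (.node 8 (.node 4 (.node 2 (.node 1 (.leaf 0x5423475341234723432) (.leaf 0x542342346423432)) (.node 1 (.leaf 0x4543464534234623432) (.leaf 0x73452346341234623432))) (.node 2 (.node 1 (.leaf 0x46543432) (.leaf 0x75434653423475432)) (.node 1 (.leaf 0x5473434723432) (.leaf 0x4764345423463432)))) (.node 4 (.node 2 (.node 1 (.leaf 0x75434653432) (.leaf 0x7634234523463432)) (.node 1 (.leaf 0x674347543423463432) (.leaf 0x4234743423463432))) (.node 2 (.node 1 (.leaf 0x347543473423463432) (.leaf 0x62347434234623432)) (.node 1 (.leaf 0x43476423432) (.leaf 0x754673453423432)))))) (.node 16 (.node 8 (.node 4 (.node 2 (.node 1 (.leaf 0x4654342346423432) (.leaf 0x547434634234623432)) (.node 1 (.leaf 0x5474346343423463432) (.leaf 0x76423463423473432))) (.node 2 (.node 1 (.leaf 0x43475423423465432) (.leaf 0x764764346123432)) (.node 1 (.leaf 0x74543423474123432) (.leaf 0x343467452343423432)))) (.node 4 (.node 2 (.node 1 (.leaf 0x346343423453423465432)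 (.leaf 0x76412343423463432)) (.node 1 (.leaf 0x34654734123476432) (.leaf 0x543473423465423432))) (.node 2 (.node 1 (.leaf 0x53434723432) (.leaf 0x634345423473423432)) (.node 1 (.leaf 0x6343474345234723432) (.leaf 0x6343465434234653432))))) (.node 8 (.node 4 (.node 2 (.node 1 (.leaf 0x4347643423467432) (.leaf 0x34346743423432)) (.node 1 (.leaf 0x54763423453423432) (.leaf 0x47645346741234723432))) (.node 2 (.node 1 (.leaf 0x46723434234723432) (.leaf 0x341234234723432)) (.node 1 (.leaf 0x7454346342346123432) (.leaf 0x623453465423432)))) (.node 4 (.node 2 (.node 1 (.leaf 0x3467434123476432) (.leaf 0x674534764234623432)) (.node 1 (.leaf 0x347523462343423432) (.leaf 0x64234654347423432))) (.node 2 (.node 1 (.leaf 0x34346745343423432) (.leaf 0x34754341234723432)) (.node 1 (.leaf 0x465434623432) (.leaf 0x762343423476432))))))) (.node 32 (.node 16 (.node 8 (.node 4 (.node 2 (.node 1 (.leaf 0x6234743423463423432) (.leaf 0x464345342346123432))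 (.node 1 (.leaf 0x534346542346423432) (.leaf 0x46543463423476432))) (.node 2 (.node 1 (.leaf 0x5342347423432) (.leaf 0x423473434523463432)) (.node 1 (.leaf 0x647342345346423432) (.leaf 0x534234123463432)))) (.node 4 (.node 2 (.node 1 (.leaf 0x74346343423473432) (.leaf 0x475346342346423432)) (.node 1 (.leaf 0x623423464123432) (.leaf 0x543434754234723432))) (.node 2 (.node 1 (.leaf 0x6734123473423476432) (.leaf 0x434754345423463432)) (.node 1 (.leaf 0x53423464341234643432) (.leaf 0x453463423464123432))))) (.node 8 (.node 4 (.node 2 (.node 1 (.leaf 0x4534712343423432) (.leaf 0x234634234753432)) (.node 1 (.leaf 0x7645347345234723432) (.leaf 0x6523473434234723432))) (.node 2 (.node 1 (.leaf 0x67343423476432) (.leaf 0x7464734623434723432)) (.node 1 (.leaf 0x6454347342347123432) (.leaf 0x4653472343423432)))) (.node 4 (.node 2 (.node 1 (.leaf 0x6523473434623432) (.leaf 0x74543472343423432)) (.node 1 (.leaf 0x764347342347123432) (.leaf 0x64543423464123432)))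 (.node 2 (.node 1 (.leaf 0x654734543423432) (.leaf 0x634234734345423473432)) (.node 1 (.leaf 0x342346434234643432) (.leaf 0x2342346434234643432)))))) (.node 16 (.node 8 (.node 4 (.node 2 (.node 1 (.leaf 0x4734654234723432) (.leaf 0x764734234234123432)) (.node 1 (.leaf 0x65473423453423432) (.leaf 0x4234764123432))) (.node 2 (.node 1 (.leaf 0x723453423463432) (.leaf 0x46412343423463432)) (.node 1 (.leaf 0x341234634534234653432) (.leaf 0x1234634712343423432)))) (.node 4 (.node 2 (.node 1 (.leaf 0x5434734345423473432) (.leaf 0x654347345234723432)) (.node 1 (.leaf 0x6345234734234723432) (.leaf 0x654723462343423432))) (.node 2 (.node 1 (.leaf 0x3464534734234623432) (.leaf 0x5475346343423463432)) (.node 1 (.leaf 0x23463423432) (.leaf 0x67462343423463432))))) (.node 8 (.node 4 (.node 2 (.node 1 (.leaf 0x234347434234653432) (.leaf 0x63434123476432)) (.node 1 (.leaf 0x43465423423475432) (.leaf 0x6473434123476432))) (.node 2 (.node 1 (.leaf 0x52347543423463432)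 (.leaf 0x2343423463432)) (.node 1 (.leaf 0x347464343423463432) (.leaf 0x346434534234653432)))) (.node 4 (.node 2 (.node 1 (.leaf 0x76473453423432) (.leaf 0x34643453423432)) (.node 1 (.leaf 0x641234643423432) (.leaf 0x7434734534234753432))) (.node 2 (.node 1 (.leaf 0x74534346342346123432) (.leaf 0x634534643423463432)) (.node 1 (.leaf 0x434342346745343423432) (.leaf 0x4347542347342347423432)))))))

def classATree_132 : Tree :=
  .node 64 (.node 32 (.node 16 (.node 8 (.node 4 (.node 2 (.node 1 (.leaf 0x463473463423463432) (.leaf 0x467343423473432)) (.node 1 (.leaf 0x54746434123467432) (.leaf 0x6345423476423432))) (.node 2 (.node 1 (.leaf 0x6434753423465432) (.leaf 0x45342347643423432)) (.node 1 (.leaf 0x423476452343423432) (.leaf 0x423473423463432)))) (.node 4 (.node 2 (.node 1 (.leaf 0x5475434123476432) (.leaf 0x54653434234653432)) (.node 1 (.leaf 0x67412343423473432) (.leaf 0x643434654234623432))) (.node 2 (.node 1 (.leaf 0x6547234634234723432)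 (.leaf 0x3461234347454234623432)) (.node 1 (.leaf 0x75434123463423432) (.leaf 0x46523473423463432))))) (.node 8 (.node 4 (.node 2 (.node 1 (.leaf 0x754634234623432) (.leaf 0x464741234234623432)) (.node 1 (.leaf 0x4543464341234723432) (.leaf 0x745342343423473432))) (.node 2 (.node 1 (.leaf 0x6423471234234723432) (.leaf 0x53434745434234753432)) (.node 1 (.leaf 0x472346343423473432) (.leaf 0x73434523473432)))) (.node 4 (.node 2 (.node 1 (.leaf 0x547534234347423432) (.leaf 0x74234734123432)) (.node 1 (.leaf 0x7434634523475423432) (.leaf 0x42345346423432))) (.node 2 (.node 1 (.leaf 0x7453467434234653432) (.leaf 0x734643423476432)) (.node 1 (.leaf 0x734234523463432) (.leaf 0x64234634234623432)))))) (.node 16 (.node 8 (.node 4 (.node 2 (.node 1 (.leaf 0x74674342347423432) (.leaf 0x4234234234723432)) (.node 1 (.leaf 0x6434345423473432) (.leaf 0x73423452343464123432))) (.node 2 (.node 1 (.leaf 0x7467434234723432) (.leaf 0x42346347542346423432))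 (.node 1 (.leaf 0x723465343423473432) (.leaf 0x52346347342347423432)))) (.node 4 (.node 2 (.node 1 (.leaf 0x46541234234753432) (.leaf 0x46434734234723432)) (.node 1 (.leaf 0x423467434123476432) (.leaf 0x423472342347123432))) (.node 2 (.node 1 (.leaf 0x47452343423432) (.leaf 0x347452343423463432)) (.node 1 (.leaf 0x654347643423467432) (.leaf 0x5234346472343423432))))) (.node 8 (.node 4 (.node 2 (.node 1 (.leaf 0x62343473462343423432) (.leaf 0x734623434123432)) (.node 1 (.leaf 0x347434234623432) (.leaf 0x43463453423463432))) (.node 2 (.node 1 (.leaf 0x47434643412346423432) (.leaf 0x6434753463423463432)) (.node 1 (.leaf 0x53423474123432) (.leaf 0x7543434754234723432)))) (.node 4 (.node 2 (.node 1 (.leaf 0x7346741234723432) (.leaf 0x746343463423473432)) (.node 1 (.leaf 0x542346543423463432) (.leaf 0x1234643452346423432))) (.node 2 (.node 1 (.leaf 0x7647234634234723432) (.leaf 0x5343423463432)) (.node 1 (.leaf 0x4534734523463432) (.leaf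 0x4754342345347423432))))))) (.node 32 (.node 16 (.node 8 (.node 4 (.node 2 (.node 1 (.leaf 0x453462342346423432) (.leaf 0x654346343423473432)) (.node 1 (.leaf 0x4346343423473432) (.leaf 0x4745346342346423432))) (.node 2 (.node 1 (.leaf 0x346745234723432) (.leaf 0x7464343423463432)) (.node 1 (.leaf 0x62342346423432) (.leaf 0x3454347345234723432)))) (.node 4 (.node 2 (.node 1 (.leaf 0x7423412347423432) (.leaf 0x3473434754234623432)) (.node 1 (.leaf 0x547523423473423432) (.leaf 0x64523463423476432))) (.node 2 (.node 1 (.leaf 0x4634723465423432) (.leaf 0x523473423473423432)) (.node 1 (.leaf 0x76434753423465432) (.leaf 0x745342347643423432))))) (.node 8 (.node 4 (.node 2 (.node 1 (.leaf 0x42346541234623432) (.leaf 0x7423473423463432)) (.node 1 (.leaf 0x62343454234723432) (.leaf 0x7643434654234623432))) (.node 2 (.node 1 (.leaf 0x54745434123476432) (.leaf 0x54634234623432)) (.node 1 (.leaf 0x42346434123473432) (.leaf 0x5434123463423432))))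 (.node 4 (.node 2 (.node 1 (.leaf 0x464742341234623432) (.leaf 0x346434734234643432)) (.node 1 (.leaf 0x45342343423473432) (.leaf 0x4742346343423473432))) (.node 2 (.node 1 (.leaf 0x3434523473432) (.leaf 0x52347234523475423432)) (.node 1 (.leaf 0x434634523475423432) (.leaf 0x754653434234653432)))))) (.node 16 (.node 8 (.node 4 (.node 2 (.node 1 (.leaf 0x74234234234723432) (.leaf 0x42347341234723432)) (.node 1 (.leaf 0x4674342347423432) (.leaf 0x1234734653423463432))) (.node 2 (.node 1 (.leaf 0x23465343423473432) (.leaf 0x47234347454234623432)) (.node 1 (.leaf 0x746541234234753432) (.leaf 0x634234643423463432)))) (.node 4 (.node 2 (.node 1 (.leaf 0x634234674345423463432) (.leaf 0x645434734234723432)) (.node 1 (.leaf 0x742345346423432) (.leaf 0x34643423476432))) (.node 2 (.node 1 (.leaf 0x2346474234123476432) (.leaf 0x3423452343464123432)) (.node 1 (.leaf 0x467434234723432) (.leaf 0x23467463423476432))))) (.node 8 (.node 4 (.node 2 (.node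 1 (.leaf 0x4234734123432) (.leaf 0x34234523463432)) (.node 1 (.leaf 0x453467434234653432) (.leaf 0x67434534234723432))) (.node 2 (.node 1 (.leaf 0x7423467434123476432) (.leaf 0x53472346345234623432)) (.node 1 (.leaf 0x4123472342347123432) (.leaf 0x4752343423432)))) (.node 4 (.node 2 (.node 1 (.leaf 0x674347643423467432) (.leaf 0x75234346472343423432)) (.node 1 (.leaf 0x34734234623432) (.leaf 0x34752343423463432))) (.node 2 (.node 1 (.leaf 0x34623434123432) (.leaf 0x743463453423463432)) (.node 1 (.leaf 0x647234634234723432) (.leaf 0x75343423463432)))))))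

def classATree_133 : Tree :=
  .node 64 (.node 32 (.node 16 (.node 8 (.node 4 (.node 2 (.node 1 (.leaf 0x474341234234723432) (.leaf 0x475342341234723432)) (.node 1 (.leaf 0x234634762343423432) (.leaf 0x6234123473423476432))) (.node 2 (.node 1 (.leaf 0x63473434623432) (.leaf 0x2346341234623432)) (.node 1 (.leaf 0x763473434623432) (.leaf 0x72346341234623432)))) (.node 4 (.node 2 (.node 1 (.leaf 0x473463452346423432) (.leaf 0x34734347542346123432)) (.node 1 (.leaf 0x54753463452346423432) (.leaf 0x534642342346423432))) (.node 2 (.node 1 (.leaf 0x6547346343423473432) (.leaf 0x3464342346423432)) (.node 1 (.leaf 0x645234764234623432) (.leaf 0x4654346743423463432))))) (.node 8 (.node 4 (.node 2 (.node 1 (.leaf 0x54734543423473432) (.leaf 0x7452346743423463432)) (.node 1 (.leaf 0x4234645342347423432) (.leaf 0x453465343423473432))) (.node 2 (.node 1 (.leaf 0x54746453423467432) (.leaf 0x63423476423432)) (.node 1 (.leaf 0x542346541234623432)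 (.leaf 0x54234234743432)))) (.node 4 (.node 2 (.node 1 (.leaf 0x34234754234723432) (.leaf 0x54347434234643432)) (.node 1 (.leaf 0x4734643423463432) (.leaf 0x5234742341234723432))) (.node 2 (.node 1 (.leaf 0x345347452343423432) (.leaf 0x654342347123432)) (.node 1 (.leaf 0x347534123476432) (.leaf 0x12345234643423463432)))))) (.node 16 (.node 8 (.node 4 (.node 2 (.node 1 (.leaf 0x3434523463432) (.leaf 0x742346234234623432)) (.node 1 (.leaf 0x42347434234653432) (.leaf 0x673434654234623432))) (.node 2 (.node 1 (.leaf 0x54234723465423432) (.leaf 0x73434654234623432)) (.node 1 (.leaf 0x54123464342346423432) (.leaf 0x743434754234723432)))) (.node 4 (.node 2 (.node 1 (.leaf 0x65423476434234753432) (.leaf 0x654342341234623432)) (.node 1 (.leaf 0x42347643423467432) (.leaf 0x234346743423432))) (.node 2 (.node 1 (.leaf 0x3467434654234623432) (.leaf 0x74523467423432)) (.node 1 (.leaf 0x43467434123476432) (.leaf 0x745423473423463432))))) (.node 8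 (.node 4 (.node 2 (.node 1 (.leaf 0x42347453423467432) (.leaf 0x6476434234623432)) (.node 1 (.leaf 0x634734123467432) (.leaf 0x541234234623432))) (.node 2 (.node 1 (.leaf 0x745234674234723432) (.leaf 0x34674534234753432)) (.node 1 (.leaf 0x653412347643423467432) (.leaf 0x7123434523463432)))) (.node 4 (.node 2 (.node 1 (.leaf 0x5434674534234653432) (.leaf 0x546534234346423432)) (.node 1 (.leaf 0x647453462343423432) (.leaf 0x43467463423473432))) (.node 2 (.node 1 (.leaf 0x743473463423467432) (.leaf 0x6723467434523463432)) (.node 1 (.leaf 0x643467453423463432) (.leaf 0x123472343423473432))))))) (.node 32 (.node 16 (.node 8 (.node 4 (.node 2 (.node 1 (.leaf 0x74234523473432) (.leaf 0x64345342346123432)) (.node 1 (.leaf 0x67234634234623432) (.leaf 0x5347434234723432))) (.node 2 (.node 1 (.leaf 0x541234723432) (.leaf 0x347346454234623432)) (.node 1 (.leaf 0x34764345234723432) (.leaf 0x54723423473423432)))) (.node 4 (.node 2 (.node 1 (.leaf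 0x5434123473432) (.leaf 0x547434634123463432)) (.node 1 (.leaf 0x465434123473432) (.leaf 0x7234342346123432))) (.node 2 (.node 1 (.leaf 0x341234734123432) (.leaf 0x7434764234234623432)) (.node 1 (.leaf 0x4234764342346123432) (.leaf 0x764734234123432))))) (.node 8 (.node 4 (.node 2 (.node 1 (.leaf 0x7634534234623432) (.leaf 0x464543423473432)) (.node 1 (.leaf 0x7465434723465432) (.leaf 0x64234654234623432))) (.node 2 (.node 1 (.leaf 0x54654234234643432) (.leaf 0x53434753432)) (.node 1 (.leaf 0x742346543423463432) (.leaf 0x6474543423465432)))) (.node 4 (.node 2 (.node 1 (.leaf 0x64723423465423432) (.leaf 0x647123423465423432)) (.node 1 (.leaf 0x5234634734234723432) (.leaf 0x4674234234753432))) (.node 2 (.node 1 (.leaf 0x474234346542347123432) (.leaf 0x53434654234623432)) (.node 1 (.leaf 0x53463473423476432) (.leaf 0x3465434123467432)))))) (.node 16 (.node 8 (.node 4 (.node 2 (.node 1 (.leaf 0x742346743463423473432) (.leaf 0x4674342345347423432))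 (.node 1 (.leaf 0x534634523475423432) (.leaf 0x7546534762343423432))) (.node 2 (.node 1 (.leaf 0x53463423467432) (.leaf 0x5234234523473432)) (.node 1 (.leaf 0x64342346743423476432) (.leaf 0x46347623434123432)))) (.node 4 (.node 2 (.node 1 (.leaf 0x4745434712343423432) (.leaf 0x75346234123476432)) (.node 1 (.leaf 0x434623472342347123432) (.leaf 0x64534672343423432))) (.node 2 (.node 1 (.leaf 0x46743423432) (.leaf 0x64345234347123432)) (.node 1 (.leaf 0x6474543423473432) (.leaf 0x4674234234623432))))) (.node 8 (.node 4 (.node 2 (.node 1 (.leaf 0x46542346423432) (.leaf 0x74623473423453423432)) (.node 1 (.leaf 0x67434612343423432) (.leaf 0x6474234234723432))) (.node 2 (.node 1 (.leaf 0x54654234234723432) (.leaf 0x6746342346347423432)) (.node 1 (.leaf 0x753434746423432) (.leaf 0x3474346723434123432)))) (.node 4 (.node 2 (.node 1 (.leaf 0x346234523465423432) (.leaf 0x3465434612343423432)) (.node 1 (.leaf 0x474346342346123432) (.leaf 0x645346123434123432)))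 (.node 2 (.node 1 (.leaf 0x47234234723432) (.leaf 0x65423474345234723432)) (.node 1 (.leaf 0x746454234623432) (.leaf 0x734674343423463432)))))))

def classATree_134 : Tree :=
  .node 64 (.node 32 (.node 16 (.node 8 (.node 4 (.node 2 (.node 1 (.leaf 0x5343465423432) (.leaf 0x53434234764123432)) (.node 1 (.leaf 0x6347534634234623432) (.leaf 0x64346342346423432))) (.node 2 (.node 1 (.leaf 0x4746434723465432) (.leaf 0x474643432)) (.node 1 (.leaf 0x5476434523463432) (.leaf 0x6434653423432)))) (.node 4 (.node 2 (.node 1 (.leaf 0x7453463432) (.leaf 0x234643423476423432)) (.node 1 (.leaf 0x3473467434234643432) (.leaf 0x3471234234234723432))) (.node 2 (.node 1 (.leaf 0x7634234234653432) (.leaf 0x5463476434234743432)) (.node 1 (.leaf 0x47463434123432) (.leaf 0x4543476423432))))) (.node 8 (.node 4 (.node 2 (.node 1 (.leaf 0x74342347423432) (.leaf 0x764342345347423432)) (.node 1 (.leaf 0x34234634234654123432) (.leaf 0x634342341234723432))) (.node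 2 (.node 1 (.leaf 0x3454347123432) (.leaf 0x64345347423432)) (.node 1 (.leaf 0x654234743423463432) (.leaf 0x47346423453423432)))) (.node 4 (.node 2 (.node 1 (.leaf 0x76434623453423476432) (.leaf 0x6343462343464123432)) (.node 1 (.leaf 0x634342347234123432) (.leaf 0x6723434234623432))) (.node 2 (.node 1 (.leaf 0x746347123434623432) (.leaf 0x346347543423432)) (.node 1 (.leaf 0x345346743423467432) (.leaf 0x34654753423476432)))))) (.node 16 (.node 8 (.node 4 (.node 2 (.node 1 (.leaf 0x47464343423473432) (.leaf 0x745346341234623432)) (.node 1 (.leaf 0x4672343423476432) (.leaf 0x672343423463423432))) (.node 2 (.node 1 (.leaf 0x746723434123432) (.leaf 0x3467453423476432)) (.node 1 (.leaf 0x3452342347123432) (.leaf 0x743465341234623432)))) (.node 4 (.node 2 (.node 1 (.leaf 0x764347642346123432) (.leaf 0x74347634234753432)) (.node 1 (.leaf 0x347454342347123432) (.leaf 0x46454346423432))) (.node 2 (.node 1 (.leaf 0x4723463434723432) (.leaf 0x4743463434723432))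 (.node 1 (.leaf 0x4763423453423432) (.leaf 0x7452343423473432))))) (.node 8 (.node 4 (.node 2 (.node 1 (.leaf 0x6343475434523473432) (.leaf 0x3463473452343423432)) (.node 1 (.leaf 0x534346454234623432) (.leaf 0x543467463423476432))) (.node 2 (.node 1 (.leaf 0x12347645343423432) (.leaf 0x5423467452343423432)) (.node 1 (.leaf 0x42346743423432) (.leaf 0x65434753432)))) (.node 4 (.node 2 (.node 1 (.leaf 0x467453432) (.leaf 0x746342347643423432)) (.node 1 (.leaf 0x6534234234753432) (.leaf 0x347543423465432))) (.node 2 (.node 1 (.leaf 0x6734234523473432) (.leaf 0x76434234634123432)) (.node 1 (.leaf 0x347434234654123432) (.leaf 0x4634234734123432))))))) (.node 32 (.node 16 (.node 8 (.node 4 (.node 2 (.node 1 (.leaf 0x763434723434123432) (.leaf 0x754341234734123432)) (.node 1 (.leaf 0x64543423463423432) (.leaf 0x34753434723467432))) (.node 2 (.node 1 (.leaf 0x634534712343423432) (.leaf 0x467453473423463432)) (.node 1 (.leaf 0x34542346345234623432)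 (.leaf 0x473465423474123432)))) (.node 4 (.node 2 (.node 1 (.leaf 0x4534764342346123432) (.leaf 0x63454347343423463432)) (.node 1 (.leaf 0x5475343462343423432) (.leaf 0x23465347341234623432))) (.node 2 (.node 1 (.leaf 0x645434234623432) (.leaf 0x342345341234723432)) (.node 1 (.leaf 0x523467434123467432) (.leaf 0x3473434234753432))))) (.node 8 (.node 4 (.node 2 (.node 1 (.leaf 0x42347234234723432) (.leaf 0x764342346123432)) (.node 1 (.leaf 0x43465473423476432) (.leaf 0x4674634723434623432))) (.node 2 (.node 1 (.leaf 0x3423467463423476432) (.leaf 0x4674534723432)) (.node 1 (.leaf 0x123434234723432) (.leaf 0x75467434723432)))) (.node 4 (.node 2 (.node 1 (.leaf 0x7542343423473432) (.leaf 0x3465342343423463432)) (.node 1 (.leaf 0x74647434123476432) (.leaf 0x63474234234623432))) (.node 2 (.node 1 (.leaf 0x6534234653423432) (.leaf 0x6475463423467432)) (.node 1 (.leaf 0x65475434123476432) (.leaf 0x4674534234723432)))))) (.node 16 (.node 8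 (.node 4 (.node 2 (.node 1 (.leaf 0x643434234734123432) (.leaf 0x475434523467423432)) (.node 1 (.leaf 0x42342346123432) (.leaf 0x7454234234623432))) (.node 2 (.node 1 (.leaf 0x4746434123467432) (.leaf 0x74674234123476432)) (.node 1 (.leaf 0x745346743423473432) (.leaf 0x46734234653432)))) (.node 4 (.node 2 (.node 1 (.leaf 0x643462343423473432) (.leaf 0x7643462342346423432)) (.node 1 (.leaf 0x345342346743423432) (.leaf 0x523472343423463432))) (.node 2 (.node 1 (.leaf 0x46345342347123432) (.leaf 0x643476473423463432)) (.node 1 (.leaf 0x6454346342346423432) (.leaf 0x73464343423473432))))) (.node 8 (.node 4 (.node 2 (.node 1 (.leaf 0x76453473423474123432) (.leaf 0x34634534723434123432)) (.node 1 (.leaf 0x523473463423473432) (.leaf 0x74346734234653432))) (.node 2 (.node 1 (.leaf 0x7453434623476432) (.leaf 0x46543465423476432)) (.node 1 (.leaf 0x754347534234653432) (.leaf 0x123473463423473432)))) (.node 4 (.node 2 (.node 1 (.leaf 0x534234234643432)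 (.leaf 0x47643476432)) (.node 1 (.leaf 0x3453476432) (.leaf 0x7546734612343423432))) (.node 2 (.node 1 (.leaf 0x476343423432) (.leaf 0x465343423432)) (.node 1 (.leaf 0x534634734234643432) (.leaf 0x67123434234653432)))))))

def classATree_135 : Tree :=
  .node 64 (.node 32 (.node 16 (.node 8 (.node 4 (.node 2 (.node 1 (.leaf 0x234534653423432) (.leaf 0x34734543423432)) (.node 1 (.leaf 0x46434723434623432) (.leaf 0x634734234234723432))) (.node 2 (.node 1 (.leaf 0x47647343423432) (.leaf 0x34754634234723432)) (.node 1 (.leaf 0x76434652343423476432) (.leaf 0x3453476452343423432)))) (.node 4 (.node 2 (.node 1 (.leaf 0x7343464234346423432) (.leaf 0x347346543423432)) (.node 1 (.leaf 0x23423423463423432) (.leaf 0x467423463423463432))) (.node 2 (.node 1 (.leaf 0x46734534734234623432) (.leaf 0x73434234123473423432)) (.node 1 (.leaf 0x7464234234753432) (.leaf 0x7434345423473432))))) (.node 8 (.node 4 (.node 2 (.node 1 (.leaf 0x23434643423432)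 (.leaf 0x734342346123432)) (.node 1 (.leaf 0x434623434234753432) (.leaf 0x347452343423467432))) (.node 2 (.node 1 (.leaf 0x23475343423463432) (.leaf 0x5474234234654123432)) (.node 1 (.leaf 0x47542342346123432) (.leaf 0x746234234523473432)))) (.node 4 (.node 2 (.node 1 (.leaf 0x623473423476432) (.leaf 0x234643423467432)) (.node 1 (.leaf 0x46743453423432) (.leaf 0x4653475234234723432))) (.node 2 (.node 1 (.leaf 0x534634346123432) (.leaf 0x476423472343423432)) (.node 1 (.leaf 0x7346434762343423432) (.leaf 0x74634346423432)))))) (.node 16 (.node 8 (.node 4 (.node 2 (.node 1 (.leaf 0x4754234723432) (.leaf 0x672346234234723432)) (.node 1 (.leaf 0x23434234734123432) (.leaf 0x45234342347423432))) (.node 2 (.node 1 (.leaf 0x54623434234743432) (.leaf 0x6343475434234753432)) (.node 1 (.leaf 0x7542345234623432) (.leaf 0x623475434523463432)))) (.node 4 (.node 2 (.node 1 (.leaf 0x3453475341234723432) (.leaf 0x734347342347123432)) (.node 1 (.leaf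 0x534342347645343423432) (.leaf 0x3465423464342346423432))) (.node 2 (.node 1 (.leaf 0x4534612342346423432) (.leaf 0x7534347342347123432)) (.node 1 (.leaf 0x342346434123476432) (.leaf 0x72345342346123432))))) (.node 8 (.node 4 (.node 2 (.node 1 (.leaf 0x543464343423473432) (.leaf 0x643462342346423432)) (.node 1 (.leaf 0x45347123432) (.leaf 0x523474342347123432))) (.node 2 (.node 1 (.leaf 0x4543476432) (.leaf 0x123434123476432)) (.node 1 (.leaf 0x434523467434123432) (.leaf 0x43412347645343423432)))) (.node 4 (.node 2 (.node 1 (.leaf 0x743463423475432) (.leaf 0x452347341234723432)) (.node 1 (.leaf 0x4743412347423432) (.leaf 0x2347343452346743432))) (.node 2 (.node 1 (.leaf 0x4734674234723432) (.leaf 0x64234753434523473432)) (.node 1 (.leaf 0x72345347341234623432) (.leaf 0x4346434234754123432))))))) (.node 32 (.node 16 (.node 8 (.node 4 (.node 2 (.node 1 (.leaf 0x7434234674123432) (.leaf 0x7434634234623432)) (.node 1 (.leaf 0x45234734123463432)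 (.leaf 0x464543423463423432))) (.node 2 (.node 1 (.leaf 0x546454341234623432) (.leaf 0x7452342346123432)) (.node 1 (.leaf 0x7543454234346423432) (.leaf 0x234734234764123432)))) (.node 4 (.node 2 (.node 1 (.leaf 0x3454347642346423432) (.leaf 0x763452343423463432)) (.node 1 (.leaf 0x6343423467423432) (.leaf 0x7643473423463432))) (.node 2 (.node 1 (.leaf 0x67123434234753432) (.leaf 0x6434612343423432)) (.node 1 (.leaf 0x5423462342346423432) (.leaf 0x746123423463423432))))) (.node 8 (.node 4 (.node 2 (.node 1 (.leaf 0x434234623434723432) (.leaf 0x7346742347123432)) (.node 1 (.leaf 0x7452343464123432) (.leaf 0x45234734123432))) (.node 2 (.node 1 (.leaf 0x474341234723432) (.leaf 0x4346543423467432)) (.node 1 (.leaf 0x76234342347346423432) (.leaf 0x434623434754123432)))) (.node 4 (.node 2 (.node 1 (.leaf 0x5476347642346123432) (.leaf 0x47612343423432)) (.node 1 (.leaf 0x4623472342347123432) (.leaf 0x6452343423467423432))) (.node 2 (.node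 1 (.leaf 0x64523467434123467432) (.leaf 0x34647453423467432)) (.node 1 (.leaf 0x423465473452343423432) (.leaf 0x4634345234723432)))))) (.node 16 (.node 8 (.node 4 (.node 2 (.node 1 (.leaf 0x634342346345234623432) (.leaf 0x4763453462343423432)) (.node 1 (.leaf 0x746234342347123432) (.leaf 0x345346543423473432))) (.node 2 (.node 1 (.leaf 0x64542343423473432) (.leaf 0x54634234523463432)) (.node 1 (.leaf 0x6423476452343423432) (.leaf 0x6723463452346423432)))) (.node 4 (.node 2 (.node 1 (.leaf 0x7346534734234723432) (.leaf 0x74347342347423432)) (.node 1 (.leaf 0x7434653432) (.leaf 0x6347234234623432))) (.node 2 (.node 1 (.leaf 0x64347543423463432) (.leaf 0x7434653423475432)) (.node 1 (.leaf 0x546543432) (.leaf 0x46343452343423465432))))) (.node 8 (.node 4 (.node 2 (.node 1 (.leaf 0x54764534674234723432) (.leaf 0x54764534234653432)) (.node 1 (.leaf 0x4734347123432) (.leaf 0x434734634234723432))) (.node 2 (.node 1 (.leaf 0x67345234234653432)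 (.leaf 0x6712343423476432)) (.node 1 (.leaf 0x65343474342347123432) (.leaf 0x74534634523473432)))) (.node 4 (.node 2 (.node 1 (.leaf 0x541234743423463432) (.leaf 0x4743463434123463432)) (.node 1 (.leaf 0x546543412346423432) (.leaf 0x6723434123463423432))) (.node 2 (.node 1 (.leaf 0x3473423467423432) (.leaf 0x46543464123432)) (.node 1 (.leaf 0x53475434234723432) (.leaf 0x7645347641234623432)))))))

def classATree_136 : Tree :=
  .node 64 (.node 32 (.node 16 (.node 8 (.node 4 (.node 2 (.node 1 (.leaf 0x474645343423432) (.leaf 0x6742343423463432)) (.node 1 (.leaf 0x474346341234623432) (.leaf 0x34347123432))) (.node 2 (.node 1 (.leaf 0x653434754234723432) (.leaf 0x64764346423432)) (.node 1 (.leaf 0x674523473423463432) (.leaf 0x63434647423432)))) (.node 4 (.node 2 (.node 1 (.leaf 0x543476434123467432) (.leaf 0x467346523434123432)) (.node 1 (.leaf 0x343465412346423432) (.leaf 0x474634723434623432))) (.node 2 (.node 1 (.leaf 0x4763452343423432)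 (.leaf 0x4643473434623432)) (.node 1 (.leaf 0x47234634347123432) (.leaf 0x43473434723467432))))) (.node 8 (.node 4 (.node 2 (.node 1 (.leaf 0x5434764123432) (.leaf 0x763423473423463432)) (.node 1 (.leaf 0x475434123473423432) (.leaf 0x74523434123473432))) (.node 2 (.node 1 (.leaf 0x74672343423432) (.leaf 0x5346743423476432)) (.node 1 (.leaf 0x534234234723432) (.leaf 0x745346345234623432)))) (.node 4 (.node 2 (.node 1 (.leaf 0x7434542347423432) (.leaf 0x761234734234623432)) (.node 1 (.leaf 0x4734234612343423432) (.leaf 0x54347534234653432))) (.node 2 (.node 1 (.leaf 0x6453473423474123432) (.leaf 0x5473464342346423432)) (.node 1 (.leaf 0x743452343423463432) (.leaf 0x72343454234623432)))))) (.node 16 (.node 8 (.node 4 (.node 2 (.node 1 (.leaf 0x3453423463423473432) (.leaf 0x743463434234723432)) (.node 1 (.leaf 0x463473452347423432) (.leaf 0x34634346542347123432))) (.node 2 (.node 1 (.leaf 0x6234764234623432) (.leaf 0x45346743423463432))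 (.node 1 (.leaf 0x463473423474123432) (.leaf 0x6547346342346423432)))) (.node 4 (.node 2 (.node 1 (.leaf 0x474643423467432) (.leaf 0x74673423467432)) (.node 1 (.leaf 0x47342346743423432) (.leaf 0x7434623475432))) (.node 2 (.node 1 (.leaf 0x76473463423473432) (.leaf 0x43423476434123432)) (.node 1 (.leaf 0x52347234234723432) (.leaf 0x2346453434523463432))))) (.node 8 (.node 4 (.node 2 (.node 1 (.leaf 0x734534234653432) (.leaf 0x34743423476432)) (.node 1 (.leaf 0x764534234723432) (.leaf 0x534612343423463432))) (.node 2 (.node 1 (.leaf 0x7434523467423432) (.leaf 0x7453467434523463432)) (.node 1 (.leaf 0x653434234753432) (.leaf 0x74623423463423432)))) (.node 4 (.node 2 (.node 1 (.leaf 0x61234347462343423432) (.leaf 0x64723434234723432)) (.node 1 (.leaf 0x343465434123463432) (.leaf 0x123464341234623432))) (.node 2 (.node 1 (.leaf 0x7645343423463432) (.leaf 0x523434234653432)) (.node 1 (.leaf 0x6523476434123476432) (.leaf 0x4234634123473432)))))))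 (.node 32 (.node 16 (.node 8 (.node 4 (.node 2 (.node 1 (.leaf 0x7634753423467432) (.leaf 0x54645434234623432)) (.node 1 (.leaf 0x742341234623432) (.leaf 0x542346742347123432))) (.node 2 (.node 1 (.leaf 0x234654753423467432) (.leaf 0x345347345234723432)) (.node 1 (.leaf 0x74234643412346423432) (.leaf 0x343464542346423432)))) (.node 4 (.node 2 (.node 1 (.leaf 0x73453476434123476432) (.leaf 0x63452346743423467432)) (.node 1 (.leaf 0x4734643423474123432) (.leaf 0x64734623434123432))) (.node 2 (.node 1 (.leaf 0x764534234234623432) (.leaf 0x742347123432)) (.node 1 (.leaf 0x5423467423432) (.leaf 0x3474346542346423432))))) (.node 8 (.node 4 (.node 2 (.node 1 (.leaf 0x4674342347346423432) (.leaf 0x1234723434234723432)) (.node 1 (.leaf 0x541234234753432) (.leaf 0x476423453423432))) (.node 2 (.node 1 (.leaf 0x4542346743423467432) (.leaf 0x7123434623434123432)) (.node 1 (.leaf 0x73467434523473432) (.leaf 0x65347341234723432)))) (.node 4 (.node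 2 (.node 1 (.leaf 0x1234647434234653432) (.leaf 0x346734623434723432)) (.node 1 (.leaf 0x6434723465423432) (.leaf 0x54345423476423432))) (.node 2 (.node 1 (.leaf 0x3474234234623432) (.leaf 0x543423467453432)) (.node 1 (.leaf 0x4764342346347423432) (.leaf 0x43474523434123432)))))) (.node 16 (.node 8 (.node 4 (.node 2 (.node 1 (.leaf 0x45346343423476432) (.leaf 0x43452346743432)) (.node 1 (.leaf 0x6723434723434123432) (.leaf 0x74653434234723432))) (.node 2 (.node 1 (.leaf 0x7634523465423432) (.leaf 0x4764234523473432)) (.node 1 (.leaf 0x7452346743423432) (.leaf 0x472346542346423432)))) (.node 4 (.node 2 (.node 1 (.leaf 0x3453423465432) (.leaf 0x67453463423464123432)) (.node 1 (.leaf 0x42347523463423463432) (.leaf 0x434342346347423432))) (.node 2 (.node 1 (.leaf 0x346345234623432) (.leaf 0x4743463434234723432)) (.node 1 (.leaf 0x76234346123432) (.leaf 0x6341234734234723432))))) (.node 8 (.node 4 (.node 2 (.node 1 (.leaf 0x6345434234753432)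 (.leaf 0x546434523475423432)) (.node 1 (.leaf 0x4754623453423432) (.leaf 0x64534634234723432))) (.node 2 (.node 1 (.leaf 0x34634523473432) (.leaf 0x54123474342347423432)) (.node 1 (.leaf 0x643464342346423432) (.leaf 0x2343465423464123432)))) (.node 4 (.node 2 (.node 1 (.leaf 0x6434623473423476432) (.leaf 0x53464341234723432)) (.node 1 (.leaf 0x74347343423467432) (.leaf 0x753412346743423476432))) (.node 2 (.node 1 (.leaf 0x3463434723467432) (.leaf 0x7342346342346123432)) (.node 1 (.leaf 0x76342346743423476432) (.leaf 0x234745341234723432)))))))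

def classATree_137 : Tree :=
  .node 64 (.node 32 (.node 16 (.node 8 (.node 4 (.node 2 (.node 1 (.leaf 0x643463423476432) (.leaf 0x346434123476432)) (.node 1 (.leaf 0x64234652343423476432) (.leaf 0x6434734342346123432))) (.node 2 (.node 1 (.leaf 0x6543476434234753432) (.leaf 0x12346452343423476432)) (.node 1 (.leaf 0x634734345234623432) (.leaf 0x6345434234723432)))) (.node 4 (.node 2 (.node 1 (.leaf 0x73465343423473432) (.leaf 0x4346347542346423432)) (.node 1 (.leaf 0x6434674345423463432) (.leaf 0x3463412346423432))) (.node 2 (.node 1 (.leaf 0x76234734234723432) (.leaf 0x654347234346123432)) (.node 1 (.leaf 0x63434123467432) (.leaf 0x65423472343423432))))) (.node 8 (.node 4 (.node 2 (.node 1 (.leaf 0x6542347123434123432) (.leaf 0x34634347234234123432)) (.node 1 (.leaf 0x643464342346123432) (.leaf 0x64346434234753432))) (.node 2 (.node 1 (.leaf 0x4746452343423432) (.leaf 0x543475423473423432)) (.node 1 (.leaf 0x534643412346423432)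 (.leaf 0x6434634542346423432)))) (.node 4 (.node 2 (.node 1 (.leaf 0x534623434234723432) (.leaf 0x3463434723434123432)) (.node 1 (.leaf 0x674347434234623432) (.leaf 0x23453462343423432))) (.node 2 (.node 1 (.leaf 0x546234234234623432) (.leaf 0x6475434234347423432)) (.node 1 (.leaf 0x234346123434123432) (.leaf 0x434643453423473432)))))) (.node 16 (.node 8 (.node 4 (.node 2 (.node 1 (.leaf 0x347234234123432) (.leaf 0x743452343465423432)) (.node 1 (.leaf 0x473463423464123432) (.leaf 0x7546347342347423432))) (.node 2 (.node 1 (.leaf 0x473423464543423432) (.leaf 0x12346434234623432)) (.node 1 (.leaf 0x7643453423463432) (.leaf 0x7423465423464123432)))) (.node 4 (.node 2 (.node 1 (.leaf 0x74234234743432) (.leaf 0x46342347343423473432)) (.node 1 (.leaf 0x454234234753432) (.leaf 0x534346541234623432))) (.node 2 (.node 1 (.leaf 0x647534634123476432) (.leaf 0x647534612343423432)) (.node 1 (.leaf 0x4523464342346423432) (.leaf 0x2347645343423463432)))))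 (.node 8 (.node 4 (.node 2 (.node 1 (.leaf 0x423463423473432) (.leaf 0x634743423467432)) (.node 1 (.leaf 0x54654345234623432) (.leaf 0x74234234623432))) (.node 2 (.node 1 (.leaf 0x71234346123434123432) (.leaf 0x347454342346123432)) (.node 1 (.leaf 0x76342347643423467432) (.leaf 0x764345234723432)))) (.node 4 (.node 2 (.node 1 (.leaf 0x534734623434723432) (.leaf 0x123472341234723432)) (.node 1 (.leaf 0x652347643423476432) (.leaf 0x347341234723432))) (.node 2 (.node 1 (.leaf 0x64742343423473432) (.leaf 0x54234674123432)) (.node 1 (.leaf 0x476473423476432) (.leaf 0x534346543423473432))))))) (.node 32 (.node 16 (.node 8 (.node 4 (.node 2 (.node 1 (.leaf 0x534347534234723432) (.leaf 0x754346743423476432)) (.node 1 (.leaf 0x4347643473423463432) (.leaf 0x47434634234743432))) (.node 2 (.node 1 (.leaf 0x753434234653432) (.leaf 0x345234764234623432)) (.node 1 (.leaf 0x1234647434523463432) (.leaf 0x475234234234623432)))) (.node 4 (.node 2 (.node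 1 (.leaf 0x74234723432) (.leaf 0x634534234753432)) (.node 1 (.leaf 0x4643474341234623432) (.leaf 0x634346541234623432))) (.node 2 (.node 1 (.leaf 0x6434763434234723432) (.leaf 0x7423464342346423432)) (.node 1 (.leaf 0x467423453423432) (.leaf 0x46123472342347123432))))) (.node 8 (.node 4 (.node 2 (.node 1 (.leaf 0x547346434234723432) (.leaf 0x5347453423476432)) (.node 1 (.leaf 0x523434523463432) (.leaf 0x34623434123463432))) (.node 2 (.node 1 (.leaf 0x5343423453423475432) (.leaf 0x5473453423473432)) (.node 1 (.leaf 0x6475342346423432) (.leaf 0x453474342347123432)))) (.node 4 (.node 2 (.node 1 (.leaf 0x54752346345234623432) (.leaf 0x2342347423432)) (.node 1 (.leaf 0x123463452343423432) (.leaf 0x23452347423432))) (.node 2 (.node 1 (.leaf 0x634723453423432) (.leaf 0x43473423453423432)) (.node 1 (.leaf 0x4543474345234723432) (.leaf 0x523462343423432)))))) (.node 16 (.node 8 (.node 4 (.node 2 (.node 1 (.leaf 0x23434723432) (.leaf 0x543473452343423432))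 (.node 1 (.leaf 0x6434674234623432) (.leaf 0x123462343423432))) (.node 2 (.node 1 (.leaf 0x7454346342346423432) (.leaf 0x643453423476432)) (.node 1 (.leaf 0x3461234347123432) (.leaf 0x634543423476432)))) (.node 4 (.node 2 (.node 1 (.leaf 0x63434123463423432) (.leaf 0x34234734534234753432)) (.node 1 (.leaf 0x2343452343423475432) (.leaf 0x634523434123432))) (.node 2 (.node 1 (.leaf 0x643452343423432) (.leaf 0x343452343423475432)) (.node 1 (.leaf 0x63423453423432) (.leaf 0x6534752343423432))))) (.node 8 (.node 4 (.node 2 (.node 1 (.leaf 0x423463434234743432) (.leaf 0x5463473423453423432)) (.node 1 (.leaf 0x65343423432) (.leaf 0x63434123432))) (.node 2 (.node 1 (.leaf 0x645434674234623432) (.leaf 0x463473452343423432)) (.node 1 (.leaf 0x461234347123432) (.leaf 0x434642342346423432)))) (.node 4 (.node 2 (.node 1 (.leaf 0x654346741234623432) (.leaf 0x234534723432)) (.node 1 (.leaf 0x7453463412346423432) (.leaf 0x634534123476432))) (.node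 2 (.node 1 (.leaf 0x6434623434723432) (.leaf 0x423463434723432)) (.node 1 (.leaf 0x543462342346423432) (.leaf 0x64234612343423432)))))))

def classATree_138 : Tree :=
  .node 64 (.node 32 (.node 16 (.node 8 (.node 4 (.node 2 (.node 1 (.leaf 0x6453434123432) (.leaf 0x5434734634234753432)) (.node 1 (.leaf 0x434612342346423432) (.leaf 0x4346542346342346423432))) (.node 2 (.node 1 (.leaf 0x67453463412346423432) (.leaf 0x3463434234723432)) (.node 1 (.leaf 0x234123474342347423432) (.leaf 0x341234734534234753432)))) (.node 4 (.node 2 (.node 1 (.leaf 0x343412346745343423432) (.leaf 0x3475412347342347423432)) (.node 1 (.leaf 0x54643423475432) (.leaf 0x6543476432))) (.node 2 (.node 1 (.leaf 0x743467432) (.leaf 0x34743453423432)) (.node 1 (.leaf 0x53463473423463432) (.leaf 0x4734612343423432))))) (.node 8 (.node 4 (.node 2 (.node 1 (.leaf 0x434764346123432) (.leaf 0x6474634723434623432)) (.node 1 (.leaf 0x12343463423432) (.leaf 0x476434723432)))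 (.node 2 (.node 1 (.leaf 0x345341234623432) (.leaf 0x346347454234723432)) (.node 1 (.leaf 0x5346341234723432) (.leaf 0x653434647423432)))) (.node 4 (.node 2 (.node 1 (.leaf 0x4634734342346123432) (.leaf 0x4346472343423432)) (.node 1 (.leaf 0x434534634123432) (.leaf 0x5434734234654123432))) (.node 2 (.node 1 (.leaf 0x623434523463432) (.leaf 0x53434753423432)) (.node 1 (.leaf 0x746743462343423432) (.leaf 0x763434754234723432)))))) (.node 16 (.node 8 (.node 4 (.node 2 (.node 1 (.leaf 0x45346423453423476432) (.leaf 0x741234743423432)) (.node 1 (.leaf 0x6543423476453432) (.leaf 0x43467434523463432))) (.node 2 (.node 1 (.leaf 0x3454347643423473432) (.leaf 0x4634534234723432)) (.node 1 (.leaf 0x4534345234723432) (.leaf 0x4745434723432)))) (.node 4 (.node 2 (.node 1 (.leaf 0x46234346423432) (.leaf 0x454347623434123432)) (.node 1 (.leaf 0x642346234234723432) (.leaf 0x7234342347423432))) (.node 2 (.node 1 (.leaf 0x7634347534234723432) (.leaf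 0x234743453423463432)) (.node 1 (.leaf 0x347523434123467432) (.leaf 0x462345234623432))))) (.node 8 (.node 4 (.node 2 (.node 1 (.leaf 0x43476434123467432) (.leaf 0x343467434123432)) (.node 1 (.leaf 0x54754234234623432) (.leaf 0x634723434623476432))) (.node 2 (.node 1 (.leaf 0x412342346123432) (.leaf 0x6423434234634123432)) (.node 1 (.leaf 0x64234743423476432) (.leaf 0x45346723434123432)))) (.node 4 (.node 2 (.node 1 (.leaf 0x47643454234346423432) (.leaf 0x473434612343423432)) (.node 1 (.leaf 0x46423473423476432) (.leaf 0x6347612343423432))) (.node 2 (.node 1 (.leaf 0x6743476432) (.leaf 0x53434723465432)) (.node 1 (.leaf 0x43467432) (.leaf 0x47434612343423432))))))) (.node 32 (.node 16 (.node 8 (.node 4 (.node 2 (.node 1 (.leaf 0x3473453423432) (.leaf 0x23434754234723432)) (.node 1 (.leaf 0x753463473423463432) (.leaf 0x546734234123432))) (.node 2 (.node 1 (.leaf 0x34347643423432) (.leaf 0x2343463423432)) (.node 1 (.leaf 0x347343423432)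 (.leaf 0x74346472343423432)))) (.node 4 (.node 2 (.node 1 (.leaf 0x5434643423473423432) (.leaf 0x46743462343423432)) (.node 1 (.leaf 0x7345341234623432) (.leaf 0x63434754234723432))) (.node 2 (.node 1 (.leaf 0x346343452343423465432) (.leaf 0x47346543412347423432)) (.node 1 (.leaf 0x41234743423432) (.leaf 0x6743423476453432))))) (.node 8 (.node 4 (.node 2 (.node 1 (.leaf 0x743467434523463432) (.leaf 0x74634534234723432)) (.node 1 (.leaf 0x74534345234723432) (.leaf 0x43467463423463432))) (.node 2 (.node 1 (.leaf 0x54234643423467432) (.leaf 0x75346341234723432)) (.node 1 (.leaf 0x23473453423463432) (.leaf 0x3474523434123467432)))) (.node 4 (.node 2 (.node 1 (.leaf 0x7623434523463432) (.leaf 0x47534234753423432)) (.node 1 (.leaf 0x4673434612343423432) (.leaf 0x234234123463423432))) (.node 2 (.node 1 (.leaf 0x343476473423467432) (.leaf 0x7434534634123432)) (.node 1 (.leaf 0x434347643423432) (.leaf 0x34347643423467432)))))) (.node 16 (.node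 8 (.node 4 (.node 2 (.node 1 (.leaf 0x547645343423432) (.leaf 0x4764534674234723432)) (.node 1 (.leaf 0x23464234123476432) (.leaf 0x475434723432))) (.node 2 (.node 1 (.leaf 0x746234346423432) (.leaf 0x234342347423432)) (.node 1 (.leaf 0x634347534234723432) (.leaf 0x7462345234623432)))) (.node 4 (.node 2 (.node 1 (.leaf 0x4764234234654123432) (.leaf 0x43467434123473432)) (.node 1 (.leaf 0x7412342346123432) (.leaf 0x47343462343423432))) (.node 2 (.node 1 (.leaf 0x534654342347123432) (.leaf 0x474534234347423432)) (.node 1 (.leaf 0x6453434634234623432) (.leaf 0x73463434234723432))))) (.node 8 (.node 4 (.node 2 (.node 1 (.leaf 0x6434762343423432) (.leaf 0x123473423476432)) (.node 1 (.leaf 0x47123423473423432) (.leaf 0x65423463423476432))) (.node 2 (.node 1 (.leaf 0x76234234234623432) (.leaf 0x645234634123476432)) (.node 1 (.leaf 0x5476453423467432) (.leaf 0x54763423467432)))) (.node 4 (.node 2 (.node 1 (.leaf 0x2346434123476432) (.leaf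 0x234645434123476432)) (.node 1 (.leaf 0x423475463423463432) (.leaf 0x7643473423465432))) (.node 2 (.node 1 (.leaf 0x342347542347123432) (.leaf 0x53472346534234623432)) (.node 1 (.leaf 0x6543463423473432) (.leaf 0x45234753434234753432)))))))

def classATree_139 : Tree :=
  .node 64 (.node 32 (.node 16 (.node 8 (.node 4 (.node 2 (.node 1 (.leaf 0x34634123463432) (.leaf 0x65342343423463432)) (.node 1 (.leaf 0x743475423467432) (.leaf 0x342346343423463432))) (.node 2 (.node 1 (.leaf 0x64342345346423432) (.leaf 0x1234642342346123432)) (.node 1 (.leaf 0x4346745234723432) (.leaf 0x346523434623476432)))) (.node 4 (.node 2 (.node 1 (.leaf 0x6547534234723432) (.leaf 0x3423475423432)) (.node 1 (.leaf 0x7434623476432) (.leaf 0x43423453423476423432))) (.node 2 (.node 1 (.leaf 0x543453423463432) (.leaf 0x4623476434123467432)) (.node 1 (.leaf 0x23453473423432) (.leaf 0x6123476434123467432))))) (.node 8 (.node 4 (.node 2 (.node 1 (.leaf 0x3434762343423432)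 (.leaf 0x343465472343423432)) (.node 1 (.leaf 0x12347343423463432) (.leaf 0x7634345234723432))) (.node 2 (.node 1 (.leaf 0x762347343423432) (.leaf 0x5434634234623432)) (.node 1 (.leaf 0x34645434123476432) (.leaf 0x734634734234623432)))) (.node 4 (.node 2 (.node 1 (.leaf 0x434234674534234653432) (.leaf 0x471234234234723432)) (.node 1 (.leaf 0x543463423473432) (.leaf 0x43454234234623432))) (.node 2 (.node 1 (.leaf 0x7423452343464123432) (.leaf 0x75434234623432)) (.node 1 (.leaf 0x74534743423467432) (.leaf 0x7434534234623432)))))) (.node 16 (.node 8 (.node 4 (.node 2 (.node 1 (.leaf 0x34763472343423432) (.leaf 0x543462342346123432)) (.node 1 (.leaf 0x3473452346423432) (.leaf 0x4743465342347123432))) (.node 2 (.node 1 (.leaf 0x65475343423463432) (.leaf 0x7452346341234623432)) (.node 1 (.leaf 0x465434623475423432) (.leaf 0x734347454234623432)))) (.node 4 (.node 2 (.node 1 (.leaf 0x434753434123467432) (.leaf 0x461234347542346123432)) (.node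 1 (.leaf 0x5467434234623432) (.leaf 0x4674341234623432))) (.node 2 (.node 1 (.leaf 0x4534234764123432) (.leaf 0x6543423476423432)) (.node 1 (.leaf 0x1234234234653432) (.leaf 0x464234234234653432))))) (.node 8 (.node 4 (.node 2 (.node 1 (.leaf 0x34234654234623432) (.leaf 0x452347342347423432)) (.node 1 (.leaf 0x5343423476453432) (.leaf 0x463434623453476432))) (.node 2 (.node 1 (.leaf 0x7434753423467432) (.leaf 0x623475342346423432)) (.node 1 (.leaf 0x62347543412346423432) (.leaf 0x6745346423432)))) (.node 4 (.node 2 (.node 1 (.leaf 0x6745234623432) (.leaf 0x1234746434523473432)) (.node 1 (.leaf 0x4534653412346423432) (.leaf 0x4634347342347123432))) (.node 2 (.node 1 (.leaf 0x634234123473423432) (.leaf 0x6741234634234643432)) (.node 1 (.leaf 0x734674534234653432) (.leaf 0x4634534623453423432))))))) (.node 32 (.node 16 (.node 8 (.node 4 (.node 2 (.node 1 (.leaf 0x54346342346423432) (.leaf 0x63452347343423463432)) (.node 1 (.leaf 0x6453412346342346123432)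 (.leaf 0x463434234346423432))) (.node 2 (.node 1 (.leaf 0x7543465342346423432) (.leaf 0x74634534234653432)) (.node 1 (.leaf 0x46343423476432) (.leaf 0x43412347342347123432)))) (.node 4 (.node 2 (.node 1 (.leaf 0x7343462342346423432) (.leaf 0x4634346542346123432)) (.node 1 (.leaf 0x67434123432) (.leaf 0x674634123463432))) (.node 2 (.node 1 (.leaf 0x534634723434623432) (.leaf 0x54653473423474123432)) (.node 1 (.leaf 0x7453434523463432) (.leaf 0x343474612343423432))))) (.node 8 (.node 4 (.node 2 (.node 1 (.leaf 0x534645343423473432) (.leaf 0x52347642346123432)) (.node 1 (.leaf 0x4234534734123432) (.leaf 0x4634347234234123432))) (.node 2 (.node 1 (.leaf 0x463423473423476432) (.leaf 0x464523434123432)) (.node 1 (.leaf 0x746347341234623432) (.leaf 0x343452343465423432)))) (.node 4 (.node 2 (.node 1 (.leaf 0x543423453423475432) (.leaf 0x734542346343423473432)) (.node 1 (.leaf 0x4123463434234723432) (.leaf 0x3473434234653432))) (.node 2 (.node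 1 (.leaf 0x53474343423463432) (.leaf 0x53465234234623432)) (.node 1 (.leaf 0x743464341234643432) (.leaf 0x43465473452343423432)))))) (.node 16 (.node 8 (.node 4 (.node 2 (.node 1 (.leaf 0x745346341234643432) (.leaf 0x234734534234753432)) (.node 1 (.leaf 0x72343423476423432) (.leaf 0x234746434123476432))) (.node 2 (.node 1 (.leaf 0x473423467423432) (.leaf 0x6434523467423432)) (.node 1 (.leaf 0x647634752343423432) (.leaf 0x734674347123432)))) (.node 4 (.node 2 (.node 1 (.leaf 0x3452347342347123432) (.leaf 0x623423462343423432)) (.node 1 (.leaf 0x7343423467423432) (.leaf 0x23463434123473432))) (.node 2 (.node 1 (.leaf 0x4346454342347423432) (.leaf 0x762347234234723432)) (.node 1 (.leaf 0x6476343423432) (.leaf 0x342345342346123432))))) (.node 8 (.node 4 (.node 2 (.node 1 (.leaf 0x53423423423475432) (.leaf 0x4534234723432)) (.node 1 (.leaf 0x2347641234623432) (.leaf 0x2347643464123432))) (.node 2 (.node 1 (.leaf 0x452342346342346123432)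 (.leaf 0x46723465342346423432)) (.node 1 (.leaf 0x76473434623434123432) (.leaf 0x45343423463432)))) (.node 4 (.node 2 (.node 1 (.leaf 0x4623434723434123432) (.leaf 0x6476434123467432)) (.node 1 (.leaf 0x746534712343423432) (.leaf 0x6745347345234723432))) (.node 2 (.node 1 (.leaf 0x64342347123432) (.leaf 0x46534342347423432)) (.node 1 (.leaf 0x547643412346423432) (.leaf 0x4234746434234753432)))))))

def classATree_140 : Tree :=
  .node 64 (.node 32 (.node 16 (.node 8 (.node 4 (.node 2 (.node 1 (.leaf 0x452346342346423432) (.leaf 0x73434234753432)) (.node 1 (.leaf 0x45342346434234643432) (.leaf 0x7463423463432))) (.node 2 (.node 1 (.leaf 0x46473423453423432) (.leaf 0x46743423473432)) (.node 1 (.leaf 0x47343423463432) (.leaf 0x54734345234623432)))) (.node 4 (.node 2 (.node 1 (.leaf 0x464342346423432) (.leaf 0x734347642346123432)) (.node 1 (.leaf 0x4762343472343423432) (.leaf 0x7345346741234723432))) (.node 2 (.node 1 (.leaf 0x7345342345346423432)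 (.leaf 0x7434346542346123432)) (.node 1 (.leaf 0x4674234623432) (.leaf 0x746543423463423432))))) (.node 8 (.node 4 (.node 2 (.node 1 (.leaf 0x6475346342346123432) (.leaf 0x7434723467432)) (.node 1 (.leaf 0x34634234234123432) (.leaf 0x4234523475423432))) (.node 2 (.node 1 (.leaf 0x4754234234643432) (.leaf 0x474543432)) (.node 1 (.leaf 0x534643432) (.leaf 0x534643423432)))) (.node 4 (.node 2 (.node 1 (.leaf 0x754342342347423432) (.leaf 0x473453423432)) (.node 1 (.leaf 0x6347543423463432) (.leaf 0x64534234523463432))) (.node 2 (.node 1 (.leaf 0x43476473423463432) (.leaf 0x47453434234723432)) (.node 1 (.leaf 0x5343475462343423432) (.leaf 0x75434234234653432)))))) (.node 16 (.node 8 (.node 4 (.node 2 (.node 1 (.leaf 0x34634123432) (.leaf 0x65342346347423432)) (.node 1 (.leaf 0x4347234346123432) (.leaf 0x654123473423463432))) (.node 2 (.node 1 (.leaf 0x467346343423463432) (.leaf 0x3434234347423432)) (.node 1 (.leaf 0x6234734345234623432)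 (.leaf 0x7346452343423476432)))) (.node 4 (.node 2 (.node 1 (.leaf 0x3463434123467432) (.leaf 0x534634123432)) (.node 1 (.leaf 0x5467434623432) (.leaf 0x6347543464123432))) (.node 2 (.node 1 (.leaf 0x234734346123432) (.leaf 0x474543463423473432)) (.node 1 (.leaf 0x476453423473423432) (.leaf 0x2346123434723432))))) (.node 8 (.node 4 (.node 2 (.node 1 (.leaf 0x6452343423476432) (.leaf 0x7234623434723432)) (.node 1 (.leaf 0x6347541234623432) (.leaf 0x4745343423432))) (.node 2 (.node 1 (.leaf 0x43472342347123432) (.leaf 0x47345342347123432)) (.node 1 (.leaf 0x5346434234623432) (.leaf 0x5346523434123432)))) (.node 4 (.node 2 (.node 1 (.leaf 0x74623453423473432) (.leaf 0x734634543423432)) (.node 1 (.leaf 0x53423463423432) (.leaf 0x534643453423476432))) (.node 2 (.node 1 (.leaf 0x4712343423432) (.leaf 0x453464342346123432)) (.node 1 (.leaf 0x734623453423432) (.leaf 0x6534764234623432))))))) (.node 32 (.node 16 (.node 8 (.node 4 (.node 2 (.node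 1 (.leaf 0x7523434723434123432) (.leaf 0x7434723434623432)) (.node 1 (.leaf 0x7345423423473423432) (.leaf 0x47454342347423432))) (.node 2 (.node 1 (.leaf 0x64342342347423432) (.leaf 0x5423473423476432)) (.node 1 (.leaf 0x643423467434123432) (.leaf 0x54234734542347423432)))) (.node 4 (.node 2 (.node 1 (.leaf 0x463473412347423432) (.leaf 0x6745346343423473432)) (.node 1 (.leaf 0x47643423467432) (.leaf 0x4673423467432))) (.node 2 (.node 1 (.leaf 0x5463473423474123432) (.leaf 0x647346342346423432)) (.node 1 (.leaf 0x673423465423432) (.leaf 0x4764234234753432))))) (.node 8 (.node 4 (.node 2 (.node 1 (.leaf 0x74523467434123432) (.leaf 0x543423467434123432)) (.node 1 (.leaf 0x5343423465432) (.leaf 0x347234653423463432))) (.node 2 (.node 1 (.leaf 0x5434734653423463432) (.leaf 0x34643454234723432)) (.node 1 (.leaf 0x6453464534234623432) (.leaf 0x12346423453423476432)))) (.node 4 (.node 2 (.node 1 (.leaf 0x34743463423463432) (.leaf 0x643465342347123432))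 (.node 1 (.leaf 0x54623473434234623432) (.leaf 0x6453467434523463432))) (.node 2 (.node 1 (.leaf 0x43412347341234723432) (.leaf 0x3475465342346423432)) (.node 1 (.leaf 0x34652347234234623432) (.leaf 0x53464534123476432)))))) (.node 16 (.node 8 (.node 4 (.node 2 (.node 1 (.leaf 0x6534234123476432) (.leaf 0x6343423473423432)) (.node 1 (.leaf 0x654234712343423432) (.leaf 0x65434764234723432))) (.node 2 (.node 1 (.leaf 0x6743465342346423432) (.leaf 0x53465341234623432)) (.node 1 (.leaf 0x546534234654123432) (.leaf 0x734542347643423476432)))) (.node 4 (.node 2 (.node 1 (.leaf 0x7467452343423432) (.leaf 0x762347341234723432)) (.node 1 (.leaf 0x47343452343465423432) (.leaf 0x6746343423463432))) (.node 2 (.node 1 (.leaf 0x5463423475423432) (.leaf 0x634342347123432)) (.node 1 (.leaf 0x546434234654123432) (.leaf 0x734234634234623432))))) (.node 8 (.node 4 (.node 2 (.node 1 (.leaf 0x73423467434123476432) (.leaf 0x74643473423476432)) (.node 1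 (.leaf 0x4234743453423432) (.leaf 0x534647434234653432))) (.node 2 (.node 1 (.leaf 0x7623434623432) (.leaf 0x2343464542346423432)) (.node 1 (.leaf 0x7434643412346423432) (.leaf 0x5347634234753432)))) (.node 4 (.node 2 (.node 1 (.leaf 0x23474534234723432) (.leaf 0x47463423473423432)) (.node 1 (.leaf 0x3464347542347123432) (.leaf 0x64234623453423476432))) (.node 2 (.node 1 (.leaf 0x12346347542346423432) (.leaf 0x534634542346423432)) (.node 1 (.leaf 0x63434234753432) (.leaf 0x7463473434234623432)))))))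

def classATree_141 : Tree :=
  .node 64 (.node 32 (.node 16 (.node 8 (.node 4 (.node 2 (.node 1 (.leaf 0x6743476453423473432) (.leaf 0x4754342346423432)) (.node 1 (.leaf 0x63473423474123432) (.leaf 0x5434634734234653432))) (.node 2 (.node 1 (.leaf 0x3452347543423432) (.leaf 0x4723434634234623432)) (.node 1 (.leaf 0x653423465423432) (.leaf 0x47464234234753432)))) (.node 4 (.node 2 (.node 1 (.leaf 0x475434723465432) (.leaf 0x47543432)) (.node 1 (.leaf 0x346453432) (.leaf 0x76347543423463432))) (.node 2 (.node 1 (.leaf 0x346453423432) (.leaf 0x54342342347423432)) (.node 1 (.leaf 0x4743453423432) (.leaf 0x34634543423476432))))) (.node 8 (.node 4 (.node 2 (.node 1 (.leaf 0x6234734342346123432) (.leaf 0x346234123432)) (.node 1 (.leaf 0x743476473423463432) (.leaf 0x73434234347423432))) (.node 2 (.node 1 (.leaf 0x123473463423463432) (.leaf 0x346452343423476432)) (.node 1 (.leaf 0x74347234346123432) (.leaf 0x4753434234723432)))) (.node 4 (.node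 2 (.node 1 (.leaf 0x5434234234653432) (.leaf 0x6347645234623432)) (.node 1 (.leaf 0x47543473423463432) (.leaf 0x346453473423463432))) (.node 2 (.node 1 (.leaf 0x523434723434123432) (.leaf 0x642345342346123432)) (.node 1 (.leaf 0x6734634234623432) (.leaf 0x2347343423476432)))))) (.node 16 (.node 8 (.node 4 (.node 2 (.node 1 (.leaf 0x5346234123432) (.leaf 0x634754346423432)) (.node 1 (.leaf 0x23473434623432) (.leaf 0x434723434623432))) (.node 2 (.node 1 (.leaf 0x75346523434123432) (.leaf 0x4764341234734123432)) (.node 1 (.leaf 0x67346343423432) (.leaf 0x634754234623432)))) (.node 4 (.node 2 (.node 1 (.leaf 0x4754342347423432) (.leaf 0x234623434723432)) (.node 1 (.leaf 0x475343423432) (.leaf 0x743472342347123432))) (.node 2 (.node 1 (.leaf 0x47543463423473432) (.leaf 0x72346123434723432)) (.node 1 (.leaf 0x64523434123476432) (.leaf 0x4623453423473432))))) (.node 8 (.node 4 (.node 2 (.node 1 (.leaf 0x345423423473423432) (.leaf 0x34634543423432))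 (.node 1 (.leaf 0x341234634123432) (.leaf 0x346453434123476432))) (.node 2 (.node 1 (.leaf 0x43464534234623432) (.leaf 0x47123434123432)) (.node 1 (.leaf 0x34623453423432) (.leaf 0x6347642346423432)))) (.node 4 (.node 2 (.node 1 (.leaf 0x23474543423473432) (.leaf 0x3453423475432)) (.node 1 (.leaf 0x12347543423432) (.leaf 0x523463412346423432))) (.node 2 (.node 1 (.leaf 0x7534234743423463432) (.leaf 0x341234743423463432)) (.node 1 (.leaf 0x34634754234623432) (.leaf 0x34234123463432))))))) (.node 32 (.node 16 (.node 8 (.node 4 (.node 2 (.node 1 (.leaf 0x5434634345423463432) (.leaf 0x54347434234623432)) (.node 1 (.leaf 0x5473465342347123432) (.leaf 0x12347423453423467432))) (.node 2 (.node 1 (.leaf 0x1234742346342346423432) (.leaf 0x734543423463432)) (.node 1 (.leaf 0x523472346342346423432) (.leaf 0x34734234634123432)))) (.node 4 (.node 2 (.node 1 (.leaf 0x64234534623432) (.leaf 0x6547534634234723432)) (.node 1 (.leaf 0x347342346123432)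 (.leaf 0x65473464342346423432))) (.node 2 (.node 1 (.leaf 0x523463434123473432) (.leaf 0x3453412346342346123432)) (.node 1 (.leaf 0x4234764234623432) (.leaf 0x45346234234754123432))))) (.node 8 (.node 4 (.node 2 (.node 1 (.leaf 0x4543463423467432) (.leaf 0x2345342346342346123432)) (.node 1 (.leaf 0x5434234523463432) (.leaf 0x673463423464123432))) (.node 2 (.node 1 (.leaf 0x54734345423463432) (.leaf 0x7434634534234653432)) (.node 1 (.leaf 0x23467434523473432) (.leaf 0x5234723453423467432)))) (.node 4 (.node 2 (.node 1 (.leaf 0x743463434234643432) (.leaf 0x5464234734234723432)) (.node 1 (.leaf 0x3465434123476432) (.leaf 0x47434534234653432))) (.node 2 (.node 1 (.leaf 0x76475346341234723432) (.leaf 0x2346743423473432)) (.node 1 (.leaf 0x5234634346123432) (.leaf 0x76343473462343423432)))))) (.node 16 (.node 8 (.node 4 (.node 2 (.node 1 (.leaf 0x54642347345234723432) (.leaf 0x543423423475432)) (.node 1 (.leaf 0x5434634712343423432) (.leaf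 0x123475434234753432))) (.node 2 (.node 1 (.leaf 0x34643452346423432) (.leaf 0x743463472343423432)) (.node 1 (.leaf 0x34643423453423432) (.leaf 0x3463475423464123432)))) (.node 4 (.node 2 (.node 1 (.leaf 0x2346454234623432) (.leaf 0x742347343423463432)) (.node 1 (.leaf 0x474634234123432) (.leaf 0x2347643472343423432))) (.node 2 (.node 1 (.leaf 0x4743423476432) (.leaf 0x3423473423432)) (.node 1 (.leaf 0x54674343423473432) (.leaf 0x234674534123476432))))) (.node 8 (.node 4 (.node 2 (.node 1 (.leaf 0x742346534234623432) (.leaf 0x342343423473432)) (.node 1 (.leaf 0x3473423473423432) (.leaf 0x546347642346423432))) (.node 2 (.node 1 (.leaf 0x642345342347123432) (.leaf 0x634723452346423432)) (.node 1 (.leaf 0x634723434234723432) (.leaf 0x234653412346423432)))) (.node 4 (.node 2 (.node 1 (.leaf 0x23475234234723432) (.leaf 0x23463472343423432)) (.node 1 (.leaf 0x5434346434234753432) (.leaf 0x76434234723432))) (.node 2 (.node 1 (.leaf 0x54612343423432)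 (.leaf 0x23434234764123432)) (.node 1 (.leaf 0x34234753423467432) (.leaf 0x62347346342346423432)))))))

def classATree_142 : Tree :=
  .node 64 (.node 32 (.node 16 (.node 8 (.node 4 (.node 2 (.node 1 (.leaf 0x4234734345423473432) (.leaf 0x3463423463432)) (.node 1 (.leaf 0x43467423423423475432) (.leaf 0x464342346347423432))) (.node 2 (.node 1 (.leaf 0x3434746423432) (.leaf 0x3423423423465432)) (.node 1 (.leaf 0x434723463412346423432) (.leaf 0x6423473423474123432)))) (.node 4 (.node 2 (.node 1 (.leaf 0x6476453423463432) (.leaf 0x65476453423463432)) (.node 1 (.leaf 0x34234523475423432) (.leaf 0x46534234623432))) (.node 2 (.node 1 (.leaf 0x453434643423467432) (.leaf 0x54612343423463432)) (.node 1 (.leaf 0x74642342346423432) (.leaf 0x4742343423463432))))) (.node 8 (.node 4 (.node 2 (.node 1 (.leaf 0x54723434234653432) (.leaf 0x5434612343423432)) (.node 1 (.leaf 0x543475423464123432) (.leaf 0x45347123434123432))) (.node 2 (.node 1 (.leaf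 0x6542345347423432) (.leaf 0x643434723434723432)) (.node 1 (.leaf 0x74234653423432) (.leaf 0x347343454234623432)))) (.node 4 (.node 2 (.node 1 (.leaf 0x474346345234623432) (.leaf 0x34346454234723432)) (.node 1 (.leaf 0x434634764234623432) (.leaf 0x452346743423463432))) (.node 2 (.node 1 (.leaf 0x62341234234623432) (.leaf 0x645342343423463432)) (.node 1 (.leaf 0x7453476432) (.leaf 0x7523434123476432)))))) (.node 16 (.node 8 (.node 4 (.node 2 (.node 1 (.leaf 0x476453423467432) (.leaf 0x46743423467432)) (.node 1 (.leaf 0x643412343423463432) (.leaf 0x654342343423463432))) (.node 2 (.node 1 (.leaf 0x5234234234653432) (.leaf 0x4234234523463432)) (.node 1 (.leaf 0x47341234234723432) (.leaf 0x467453473423467432)))) (.node 4 (.node 2 (.node 1 (.leaf 0x6547342346743423432) (.leaf 0x6723465342346423432)) (.node 1 (.leaf 0x423467463423476432) (.leaf 0x7464234234234623432))) (.node 2 (.node 1 (.leaf 0x654347434234623432) (.leaf 0x723453462343423432))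 (.node 1 (.leaf 0x473434123473432) (.leaf 0x34347343423473432))))) (.node 8 (.node 4 (.node 2 (.node 1 (.leaf 0x74543423476423432) (.leaf 0x63434643423467432)) (.node 1 (.leaf 0x74234654123432) (.leaf 0x5346234534123476432))) (.node 2 (.node 1 (.leaf 0x67434674534234723432) (.leaf 0x434753463423473432)) (.node 1 (.leaf 0x2343463423463432) (.leaf 0x2343473423432)))) (.node 4 (.node 2 (.node 1 (.leaf 0x46474345234723432) (.leaf 0x5463472343423432)) (.node 1 (.leaf 0x546343472343423432) (.leaf 0x4654342346347423432))) (.node 2 (.node 1 (.leaf 0x7453472343423432) (.leaf 0x6534346123434123432)) (.node 1 (.leaf 0x6412343423473432) (.leaf 0x4543423473423463432))))))) (.node 32 (.node 16 (.node 8 (.node 4 (.node 2 (.node 1 (.leaf 0x67463453423473432) (.leaf 0x34764534234653432)) (.node 1 (.leaf 0x5234642341234623432) (.leaf 0x67434734234653432))) (.node 2 (.node 1 (.leaf 0x434346743423432) (.leaf 0x452347343423473432)) (.node 1 (.leaf 0x653473463423473432)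 (.leaf 0x234346453423463432)))) (.node 4 (.node 2 (.node 1 (.leaf 0x43434643423473432) (.leaf 0x4674341234723432)) (.node 1 (.leaf 0x6523473452347423432) (.leaf 0x46543462343423432))) (.node 2 (.node 1 (.leaf 0x54345234623432) (.leaf 0x74345342347123432)) (.node 1 (.leaf 0x46743423467423432) (.leaf 0x74673434234623432))))) (.node 8 (.node 4 (.node 2 (.node 1 (.leaf 0x47523434523473432) (.leaf 0x347642346423432)) (.node 1 (.leaf 0x3476434623432) (.leaf 0x4647434123463432))) (.node 2 (.node 1 (.leaf 0x7434123463432) (.leaf 0x6543423473423432)) (.node 1 (.leaf 0x46423453423432) (.leaf 0x43475343423473432)))) (.node 4 (.node 2 (.node 1 (.leaf 0x34523473423474123432) (.leaf 0x2345346543423473432)) (.node 1 (.leaf 0x74634342347123432) (.leaf 0x74346454234723432))) (.node 2 (.node 1 (.leaf 0x54674534123476432) (.leaf 0x523464743423467432)) (.node 1 (.leaf 0x734534734234623432) (.leaf 0x534623473423474123432)))))) (.node 16 (.node 8 (.node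 4 (.node 2 (.node 1 (.leaf 0x4754234123473423432) (.leaf 0x4674234234234623432)) (.node 1 (.leaf 0x7234234234723432) (.leaf 0x4542346345234623432))) (.node 2 (.node 1 (.leaf 0x54674342346423432) (.leaf 0x43463453423473432)) (.node 1 (.leaf 0x5467343423432) (.leaf 0x72346743423476432)))) (.node 4 (.node 2 (.node 1 (.leaf 0x734234734123432) (.leaf 0x54753423476432)) (.node 1 (.leaf 0x54674634123476432) (.leaf 0x4746347642346123432))) (.node 2 (.node 1 (.leaf 0x734643423474123432) (.leaf 0x4654343423463432)) (.node 1 (.leaf 0x2347412342347123432) (.leaf 0x343464523434123432))))) (.node 8 (.node 4 (.node 2 (.node 1 (.leaf 0x723463423464123432) (.leaf 0x7346234123463432)) (.node 1 (.leaf 0x234734346342346123432) (.leaf 0x46542346342346423432))) (.node 2 (.node 1 (.leaf 0x34623434123476432) (.leaf 0x534674343423463432)) (.node 1 (.leaf 0x7343465423432) (.leaf 0x743423473423474123432)))) (.node 4 (.node 2 (.node 1 (.leaf 0x7434623453423476432)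 (.leaf 0x465434234723432)) (.node 1 (.leaf 0x74623434123432) (.leaf 0x6434754623453423432))) (.node 2 (.node 1 (.leaf 0x7546342346123432) (.leaf 0x4123463434123473432)) (.node 1 (.leaf 0x6547123462343423432) (.leaf 0x6454342347123432)))))))

def classATree_143 : Tree :=
  .node 64 (.node 32 (.node 16 (.node 8 (.node 4 (.node 2 (.node 1 (.leaf 0x4745346343423463432) (.leaf 0x47543412346423432)) (.node 1 (.leaf 0x745346123434123432) (.leaf 0x75343472343423432))) (.node 2 (.node 1 (.leaf 0x75434712343423432) (.leaf 0x54645342346423432)) (.node 1 (.leaf 0x65473423474123432) (.leaf 0x46734345234623432)))) (.node 4 (.node 2 (.node 1 (.leaf 0x346543462343423432) (.leaf 0x434754234234723432)) (.node 1 (.leaf 0x54647434123467432) (.leaf 0x6547642346123432))) (.node 2 (.node 1 (.leaf 0x74523463423432) (.leaf 0x7647643423463432)) (.node 1 (.leaf 0x6474643423463432) (.leaf 0x74347541234623432))))) (.node 8 (.node 4 (.node 2 (.node 1 (.leaf 0x347454343423463432)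 (.leaf 0x734346542347123432)) (.node 1 (.leaf 0x745347123432) (.leaf 0x52347342347123432))) (.node 2 (.node 1 (.leaf 0x34623434746423432) (.leaf 0x453423423463423432)) (.node 1 (.leaf 0x347343462343423432) (.leaf 0x64341234347423432)))) (.node 4 (.node 2 (.node 1 (.leaf 0x76434734234653432) (.leaf 0x3434623434123432)) (.node 1 (.leaf 0x412346343423463432) (.leaf 0x67467434723432))) (.node 2 (.node 1 (.leaf 0x3474234234123432) (.leaf 0x43452343465423432)) (.node 1 (.leaf 0x74543476432) (.leaf 0x7123434123476432)))))) (.node 16 (.node 8 (.node 4 (.node 2 (.node 1 (.leaf 0x54764234123476432) (.leaf 0x5467434123467432)) (.node 1 (.leaf 0x67434634542346423432) (.leaf 0x734643412346423432))) (.node 2 (.node 1 (.leaf 0x54234234643432) (.leaf 0x542347541234723432)) (.node 1 (.leaf 0x7643467432) (.leaf 0x6743463423475432)))) (.node 4 (.node 2 (.node 1 (.leaf 0x76473423465432) (.leaf 0x452346543423463432)) (.node 1 (.leaf 0x543463452343423432)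 (.leaf 0x674346342346123432))) (.node 2 (.node 1 (.leaf 0x3423465423462343423432) (.leaf 0x75234634123467432)) (.node 1 (.leaf 0x74347643423473432) (.leaf 0x67234342347346423432))))) (.node 8 (.node 4 (.node 2 (.node 1 (.leaf 0x7434764234723432) (.leaf 0x1234346343423473432)) (.node 1 (.leaf 0x547234634123467432) (.leaf 0x7341234234753432))) (.node 2 (.node 1 (.leaf 0x54346234123476432) (.leaf 0x73434123432)) (.node 1 (.leaf 0x34764234123473432) (.leaf 0x453474643423463432)))) (.node 4 (.node 2 (.node 1 (.leaf 0x5343423467453432) (.leaf 0x76434123432)) (.node 1 (.leaf 0x746434123463432) (.leaf 0x541234623432))) (.node 2 (.node 1 (.leaf 0x7543473453423473432) (.leaf 0x4345342347342347123432)) (.node 1 (.leaf 0x4347643423463432) (.leaf 0x67463453423432))))))) (.node 32 (.node 16 (.node 8 (.node 4 (.node 2 (.node 1 (.leaf 0x534723434523463432) (.leaf 0x764346743423473432)) (.node 1 (.leaf 0x54346543423467432) (.leaf 0x623474342347123432)))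 (.node 2 (.node 1 (.leaf 0x64543462343423432) (.leaf 0x753434723434123432)) (.node 1 (.leaf 0x46741234234723432) (.leaf 0x4534763452343423432)))) (.node 4 (.node 2 (.node 1 (.leaf 0x123463434523473432) (.leaf 0x6523476434523473432)) (.node 1 (.leaf 0x65472345234723432) (.leaf 0x763434764234723432))) (.node 2 (.node 1 (.leaf 0x65434234534723432) (.leaf 0x47643472343423432)) (.node 1 (.leaf 0x672346343423432) (.leaf 0x475423434234643432))))) (.node 8 (.node 4 (.node 2 (.node 1 (.leaf 0x5412342347123432) (.leaf 0x654764234234753432)) (.node 1 (.leaf 0x543474643423476432) (.leaf 0x73434523434623432))) (.node 2 (.node 1 (.leaf 0x465434523476423432) (.leaf 0x75467434123467432)) (.node 1 (.leaf 0x4743463423464123432) (.leaf 0x546347342347423432)))) (.node 4 (.node 2 (.node 1 (.leaf 0x454347343423463432) (.leaf 0x76473463412346423432)) (.node 1 (.leaf 0x54764734123467432) (.leaf 0x53463423463423432))) (.node 2 (.node 1 (.leaf 0x542347542347123432)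 (.leaf 0x6543473423465432)) (.node 1 (.leaf 0x42347542347123432) (.leaf 0x5472346341234623432)))))) (.node 16 (.node 8 (.node 4 (.node 2 (.node 1 (.leaf 0x743474634234753432) (.leaf 0x2346345434234753432)) (.node 1 (.leaf 0x734347523434123432) (.leaf 0x64345346342346123432))) (.node 2 (.node 1 (.leaf 0x346452347345234723432) (.leaf 0x753463423463432)) (.node 1 (.leaf 0x47523423473423432) (.leaf 0x6723462342346123432)))) (.node 4 (.node 2 (.node 1 (.leaf 0x464734612343423432) (.leaf 0x475412347342347423432)) (.node 1 (.leaf 0x43463454234723432) (.leaf 0x5474234234234723432))) (.node 2 (.node 1 (.leaf 0x74346341234623432) (.leaf 0x543463434234643432)) (.node 1 (.leaf 0x674345234346423432) (.leaf 0x6512347343423432))))) (.node 8 (.node 4 (.node 2 (.node 1 (.leaf 0x6534342347123432) (.leaf 0x4743434234643432)) (.node 1 (.leaf 0x534347542346123432) (.leaf 0x34342346743423476432))) (.node 2 (.node 1 (.leaf 0x546234234753432) (.leaf 0x347452346342346123432))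 (.node 1 (.leaf 0x753434623476432) (.leaf 0x754346742347123432)))) (.node 4 (.node 2 (.node 1 (.leaf 0x45343452346743432) (.leaf 0x6234753423467432)) (.node 1 (.leaf 0x7434634123473432) (.leaf 0x467434123463423432))) (.node 2 (.node 1 (.leaf 0x4341234623432) (.leaf 0x742343475423432)) (.node 1 (.leaf 0x23465473423463423432) (.leaf 0x523474343423463432)))))))

def classATree_144 : Tree :=
  .node 64 (.node 32 (.node 16 (.node 8 (.node 4 (.node 2 (.node 1 (.leaf 0x23473434234653432) (.leaf 0x347643423476423432)) (.node 1 (.leaf 0x6234746434123467432) (.leaf 0x473463423476432))) (.node 2 (.node 1 (.leaf 0x76434634123473432) (.leaf 0x476453423476432)) (.node 1 (.leaf 0x7434612342346123432) (.leaf 0x7434234123463432)))) (.node 4 (.node 2 (.node 1 (.leaf 0x3453467463423463432) (.leaf 0x434534234653432)) (.node 1 (.leaf 0x543423476434123467432) (.leaf 0x5423475423432))) (.node 2 (.node 1 (.leaf 0x454234234234653432) (.leaf 0x5234234523463432))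 (.node 1 (.leaf 0x72345347642346423432) (.leaf 0x64743453423432))))) (.node 8 (.node 4 (.node 2 (.node 1 (.leaf 0x71234234523463432) (.leaf 0x346743423473432)) (.node 1 (.leaf 0x347543432) (.leaf 0x464234534123476432))) (.node 2 (.node 1 (.leaf 0x434653434523463432) (.leaf 0x346434542346423432)) (.node 1 (.leaf 0x473434123432) (.leaf 0x34754612343423432)))) (.node 4 (.node 2 (.node 1 (.leaf 0x47634123476432) (.leaf 0x47463423476432)) (.node 1 (.leaf 0x34234234623432) (.leaf 0x234645343423476432))) (.node 2 (.node 1 (.leaf 0x34752343423432) (.leaf 0x4234645341234623432)) (.node 1 (.leaf 0x34234346423432) (.leaf 0x23463475412346423432)))))) (.node 16 (.node 8 (.node 4 (.node 2 (.node 1 (.leaf 0x343423412347423432) (.leaf 0x234734623434723432)) (.node 1 (.leaf 0x62343473453423473432) (.leaf 0x4764734234623432))) (.node 2 (.node 1 (.leaf 0x546342346342346423432) (.leaf 0x434745341234723432)) (.node 1 (.leaf 0x67342347123432) (.leaf 0x234612343423432))))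 (.node 4 (.node 2 (.node 1 (.leaf 0x4534734234653432) (.leaf 0x343423432)) (.node 1 (.leaf 0x34234634234643432) (.leaf 0x3476473423463432))) (.node 2 (.node 1 (.leaf 0x546342347123432) (.leaf 0x34234345423463432)) (.node 1 (.leaf 0x654762343423432) (.leaf 0x434123467432))))) (.node 8 (.node 4 (.node 2 (.node 1 (.leaf 0x4346523434123432) (.leaf 0x43465472343423432)) (.node 1 (.leaf 0x234743423464123432) (.leaf 0x3434234653432))) (.node 2 (.node 1 (.leaf 0x2345234643423463432) (.leaf 0x234612343423463432)) (.node 1 (.leaf 0x4123472343423432) (.leaf 0x123434712343423432)))) (.node 4 (.node 2 (.node 1 (.leaf 0x54234612343423432) (.leaf 0x343423453423476432)) (.node 1 (.leaf 0x7546743423473432) (.leaf 0x5463423463432))) (.node 2 (.node 1 (.leaf 0x34234234123432) (.leaf 0x34342347346423432)) (.node 1 (.leaf 0x542346123432) (.leaf 0x5434753423467432))))))) (.node 32 (.node 16 (.node 8 (.node 4 (.node 2 (.node 1 (.leaf 0x653423474123432) (.leaf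 0x65423463423463432)) (.node 1 (.leaf 0x75342346423432) (.leaf 0x6523434723432))) (.node 2 (.node 1 (.leaf 0x53464342346123432) (.leaf 0x473434674234623432)) (.node 1 (.leaf 0x45343464123432) (.leaf 0x6423473434234643432)))) (.node 4 (.node 2 (.node 1 (.leaf 0x763473463423473432) (.leaf 0x745434674234723432)) (.node 1 (.leaf 0x547643423467432) (.leaf 0x5467453423467432))) (.node 2 (.node 1 (.leaf 0x43412346745343423432) (.leaf 0x4346543423475432)) (.node 1 (.leaf 0x42346542346423432) (.leaf 0x64523434234723432))))) (.node 8 (.node 4 (.node 2 (.node 1 (.leaf 0x546342345347423432) (.leaf 0x347345342347123432)) (.node 1 (.leaf 0x67452347342347423432) (.leaf 0x76453463423473432))) (.node 2 (.node 1 (.leaf 0x4523473423463432) (.leaf 0x4654341234634123432)) (.node 1 (.leaf 0x741234234623432) (.leaf 0x54654342346123432)))) (.node 4 (.node 2 (.node 1 (.leaf 0x4542346743423463432) (.leaf 0x46234234234723432)) (.node 1 (.leaf 0x7643465234234623432)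 (.leaf 0x67342345346423432))) (.node 2 (.node 1 (.leaf 0x74234674342347123432) (.leaf 0x474534634234623432)) (.node 1 (.leaf 0x476234347542346123432) (.leaf 0x453464543423467432)))))) (.node 16 (.node 8 (.node 4 (.node 2 (.node 1 (.leaf 0x34653434234623432) (.leaf 0x67463423475423432)) (.node 1 (.leaf 0x6452346743423467432) (.leaf 0x76234345423473432))) (.node 2 (.node 1 (.leaf 0x4764734123476432) (.leaf 0x234734523476423432)) (.node 1 (.leaf 0x745234346423432) (.leaf 0x45234734234723432)))) (.node 4 (.node 2 (.node 1 (.leaf 0x7647343423463432) (.leaf 0x434754612343423432)) (.node 1 (.leaf 0x764734234723432) (.leaf 0x6345346543423473432))) (.node 2 (.node 1 (.leaf 0x754342347346423432) (.leaf 0x645423463423476432)) (.node 1 (.leaf 0x746734534234723432) (.leaf 0x434523476434123476432))))) (.node 8 (.node 4 (.node 2 (.node 1 (.leaf 0x463454341234723432) (.leaf 0x54234612342346423432)) (.node 1 (.leaf 0x4673434623434123432) (.leaf 0x467234234123432)))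 (.node 2 (.node 1 (.leaf 0x4234723434234643432) (.leaf 0x4523473423432)) (.node 1 (.leaf 0x53467463423476432) (.leaf 0x64534623434123432)))) (.node 4 (.node 2 (.node 1 (.leaf 0x343476423464123432) (.leaf 0x2347343423467453432)) (.node 1 (.leaf 0x7234534734234623432) (.leaf 0x53464743423467432))) (.node 2 (.node 1 (.leaf 0x7542346543423463432) (.leaf 0x5234723434234623432)) (.node 1 (.leaf 0x42341234234623432) (.leaf 0x5342343423463432)))))))

def classATree_145 : Tree :=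
  .node 64 (.node 32 (.node 16 (.node 8 (.node 4 (.node 2 (.node 1 (.leaf 0x343464341234723432) (.leaf 0x4634347542347123432)) (.node 1 (.leaf 0x4534123423465432) (.leaf 0x5464347342347423432))) (.node 2 (.node 1 (.leaf 0x6541234623432) (.leaf 0x1234642343423463432)) (.node 1 (.leaf 0x6543464123432) (.leaf 0x123476434234753432)))) (.node 4 (.node 2 (.node 1 (.leaf 0x734346342346123432) (.leaf 0x73462342346123432)) (.node 1 (.leaf 0x3474634723434623432) (.leaf 0x674347643423473432))) (.node 2 (.node 1 (.leaf 0x6347342347423432) (.leaf 0x634743463423463432)) (.node 1 (.leaf 0x53467434234653432) (.leaf 0x47423464342346423432))))) (.node 8 (.node 4 (.node 2 (.node 1 (.leaf 0x234743453423473432) (.leaf 0x7346234234753432)) (.node 1 (.leaf 0x2347434345423473432) (.leaf 0x7434643452347423432))) (.node 2 (.node 1 (.leaf 0x3474534634234623432) (.leaf 0x6343476423464123432)) (.node 1 (.leaf 0x43423423423465432) (.leaf 0x34723463412346423432))))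 (.node 4 (.node 2 (.node 1 (.leaf 0x4534347454234723432) (.leaf 0x234742346342346423432)) (.node 1 (.leaf 0x6543423453423465432) (.leaf 0x64543423432))) (.node 2 (.node 1 (.leaf 0x546453423463432) (.leaf 0x46347234123476432)) (.node 1 (.leaf 0x7343465342347123432) (.leaf 0x4653434234653432)))))) (.node 16 (.node 8 (.node 4 (.node 2 (.node 1 (.leaf 0x4543463423464123432) (.leaf 0x546342346343423473432)) (.node 1 (.leaf 0x634523463423467432) (.leaf 0x764342346345234623432))) (.node 2 (.node 1 (.leaf 0x4634523423473423432) (.leaf 0x743473453423473432)) (.node 1 (.leaf 0x434634234643432) (.leaf 0x434734234623432)))) (.node 4 (.node 2 (.node 1 (.leaf 0x123476434623432) (.leaf 0x234523423473423432)) (.node 1 (.leaf 0x5346234734123476432) (.leaf 0x75434642342346423432))) (.node 2 (.node 1 (.leaf 0x434345423463432) (.leaf 0x74346434234643432)) (.node 1 (.leaf 0x746452343423432) (.leaf 0x453473434234743432))))) (.node 8 (.node 4 (.node 2 (.node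 1 (.leaf 0x453473423467432) (.leaf 0x3434734234347423432)) (.node 1 (.leaf 0x2345347642346423432) (.leaf 0x65473453423432))) (.node 2 (.node 1 (.leaf 0x434754234523463432) (.leaf 0x53423473423432)) (.node 1 (.leaf 0x47643423476423432) (.leaf 0x5464743423467432)))) (.node 4 (.node 2 (.node 1 (.leaf 0x64745343423432) (.leaf 0x72345342345347423432)) (.node 1 (.leaf 0x47343423432) (.leaf 0x34754623453423432))) (.node 2 (.node 1 (.leaf 0x4763423476432) (.leaf 0x734234234623432)) (.node 1 (.leaf 0x474634123476432) (.leaf 0x347452343423432))))))) (.node 32 (.node 16 (.node 8 (.node 4 (.node 2 (.node 1 (.leaf 0x1234645343423476432) (.leaf 0x4523464345234623432)) (.node 1 (.leaf 0x341234346423432) (.leaf 0x4534341234743432))) (.node 2 (.node 1 (.leaf 0x634742346342346423432) (.leaf 0x65423463434234723432)) (.node 1 (.leaf 0x643472343423473432) (.leaf 0x2347434623434723432)))) (.node 4 (.node 2 (.node 1 (.leaf 0x54723465342346423432) (.leaf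 0x47634723453423432)) (.node 1 (.leaf 0x5465343423463432) (.leaf 0x23473423464123432))) (.node 2 (.node 1 (.leaf 0x743465472343423432) (.leaf 0x2342346434234753432)) (.node 1 (.leaf 0x73434234653432) (.leaf 0x2346234345423463432))))) (.node 8 (.node 4 (.node 2 (.node 1 (.leaf 0x65342347123432) (.leaf 0x534734634234643432)) (.node 1 (.leaf 0x7234612343423432) (.leaf 0x7434123467432))) (.node 2 (.node 1 (.leaf 0x734234634234643432) (.leaf 0x7343423432)) (.node 1 (.leaf 0x3476453423473432) (.leaf 0x673463434234653432)))) (.node 4 (.node 2 (.node 1 (.leaf 0x546534234723432) (.leaf 0x52343475423432)) (.node 1 (.leaf 0x75463423463432) (.leaf 0x546743423473432))) (.node 2 (.node 1 (.leaf 0x734234234123432) (.leaf 0x6723434723432)) (.node 1 (.leaf 0x523423464123432) (.leaf 0x67423463423463432)))))) (.node 16 (.node 8 (.node 4 (.node 2 (.node 1 (.leaf 0x5342346423432) (.leaf 0x74123472343423432)) (.node 1 (.leaf 0x754234612343423432) (.leaf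 0x7123434712343423432))) (.node 2 (.node 1 (.leaf 0x5343452343423465432) (.leaf 0x67346342346123432)) (.node 1 (.leaf 0x734342347346423432) (.leaf 0x434746434234743432)))) (.node 4 (.node 2 (.node 1 (.leaf 0x7542346123432) (.leaf 0x34674234234723432)) (.node 1 (.leaf 0x4234234234623432) (.leaf 0x1234234234623432))) (.node 2 (.node 1 (.leaf 0x74523463423476432) (.leaf 0x3412343423463432)) (.node 1 (.leaf 0x34674534723432) (.leaf 0x54123473423467432))))) (.node 8 (.node 4 (.node 2 (.node 1 (.leaf 0x73452347345234723432) (.leaf 0x64347534234653432)) (.node 1 (.leaf 0x64347434234623432) (.leaf 0x23476453423476432))) (.node 2 (.node 1 (.leaf 0x23463423463423432) (.leaf 0x34234523476423432)) (.node 1 (.leaf 0x64743423467423432) (.leaf 0x3476434734123463432)))) (.node 4 (.node 2 (.node 1 (.leaf 0x23471234234723432) (.leaf 0x2346342346423432)) (.node 1 (.leaf 0x53423473434123473432) (.leaf 0x34345423473432))) (.node 2 (.node 1 (.leaf 0x754234634542346423432)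 (.leaf 0x546347123434123432)) (.node 1 (.leaf 0x64347534234723432) (.leaf 0x674534234723432)))))))

def classATree_146 : Tree :=
  .node 64 (.node 32 (.node 16 (.node 8 (.node 4 (.node 2 (.node 1 (.leaf 0x3423423423475432) (.leaf 0x753423453423463432)) (.node 1 (.leaf 0x3434647423432) (.leaf 0x434652343423476432))) (.node 2 (.node 1 (.leaf 0x7543423463423464123432) (.leaf 0x3423453475423432)) (.node 1 (.leaf 0x234764534623432) (.leaf 0x754342347123432)))) (.node 4 (.node 2 (.node 1 (.leaf 0x3423464343423473432) (.leaf 0x64343465423464123432)) (.node 1 (.leaf 0x3434642342346423432) (.leaf 0x74345342346123432))) (.node 2 (.node 1 (.leaf 0x4764342346123432) (.leaf 0x647464234123476432)) (.node 1 (.leaf 0x54653434234723432) (.leaf 0x345346341234623432))))) (.node 8 (.node 4 (.node 2 (.node 1 (.leaf 0x343452343464123432) (.leaf 0x34346742347123432)) (.node 1 (.leaf 0x345347641234623432) (.leaf 0x5347346712343423432))) (.node 2 (.node 1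 (.leaf 0x464343423473432) (.leaf 0x6473463423463432)) (.node 1 (.leaf 0x6474342347423432) (.leaf 0x46746743423463432)))) (.node 4 (.node 2 (.node 1 (.leaf 0x54653423463432) (.leaf 0x34234523465423432)) (.node 1 (.leaf 0x43476473423467432) (.leaf 0x7512346343423432))) (.node 2 (.node 1 (.leaf 0x54347343423473432) (.leaf 0x54234654123432)) (.node 1 (.leaf 0x75234234234653432) (.leaf 0x74234234523463432)))))) (.node 16 (.node 8 (.node 4 (.node 2 (.node 1 (.leaf 0x3474543432) (.leaf 0x546452343423476432)) (.node 1 (.leaf 0x346534734234723432) (.leaf 0x4347342347423432))) (.node 2 (.node 1 (.leaf 0x434653432) (.leaf 0x643475434123463432)) (.node 1 (.leaf 0x76347234234623432) (.leaf 0x476453432)))) (.node 4 (.node 2 (.node 1 (.leaf 0x434653423475432) (.leaf 0x453471234634234643432)) (.node 1 (.leaf 0x46234347343423473432) (.leaf 0x54764345423463432))) (.node 2 (.node 1 (.leaf 0x473434723432) (.leaf 0x623453423476432)) (.node 1 (.leaf 0x6472346123434723432)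 (.leaf 0x7434734634234723432))))) (.node 8 (.node 4 (.node 2 (.node 1 (.leaf 0x467343454234723432) (.leaf 0x534745434234723432)) (.node 1 (.leaf 0x47645343423432) (.leaf 0x34743423467423432))) (.node 2 (.node 1 (.leaf 0x4534634523473432) (.leaf 0x673434754234723432)) (.node 1 (.leaf 0x6542343423463432) (.leaf 0x47346341234623432)))) (.node 4 (.node 2 (.node 1 (.leaf 0x63454234234653432) (.leaf 0x645347641234623432)) (.node 1 (.leaf 0x6742347434123463432) (.leaf 0x473463434123463432))) (.node 2 (.node 1 (.leaf 0x642346123434723432) (.leaf 0x47634723434623432)) (.node 1 (.leaf 0x47343473423432) (.leaf 0x63423473423463432))))))) (.node 32 (.node 16 (.node 8 (.node 4 (.node 2 (.node 1 (.leaf 0x645423473423463432) (.leaf 0x7343465412346423432)) (.node 1 (.leaf 0x7534234234723432) (.leaf 0x45346345234623432))) (.node 2 (.node 1 (.leaf 0x75346743423476432) (.leaf 0x4672343423432)) (.node 1 (.leaf 0x434542347423432) (.leaf 0x61234734234623432))))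 (.node 4 (.node 2 (.node 1 (.leaf 0x46423473434623432) (.leaf 0x4734634347123432)) (.node 1 (.leaf 0x6434754234623432) (.leaf 0x234534234234623432))) (.node 2 (.node 1 (.leaf 0x6434643423432) (.leaf 0x734347123432)) (.node 1 (.leaf 0x65476434623432) (.leaf 0x54634234234623432))))) (.node 8 (.node 4 (.node 2 (.node 1 (.leaf 0x4523434123473432) (.leaf 0x46734234123432)) (.node 1 (.leaf 0x434723434234643432) (.leaf 0x42347534234653432))) (.node 2 (.node 1 (.leaf 0x65343473423463432) (.leaf 0x7534346123434123432)) (.node 1 (.leaf 0x742346743423432) (.leaf 0x46342347643423432)))) (.node 4 (.node 2 (.node 1 (.leaf 0x546743432) (.leaf 0x6453473432)) (.node 1 (.leaf 0x2343473434723432) (.leaf 0x6343423476434123432))) (.node 2 (.node 1 (.leaf 0x6734234234753432) (.leaf 0x3474543423465432)) (.node 1 (.leaf 0x6534234523473432) (.leaf 0x63434723434123432)))))) (.node 16 (.node 8 (.node 4 (.node 2 (.node 1 (.leaf 0x54341234734123432) (.leaf 0x67453423463423432))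 (.node 1 (.leaf 0x347453434723467432) (.leaf 0x674234643423473432))) (.node 2 (.node 1 (.leaf 0x743465473423476432) (.leaf 0x643465473423476432)) (.node 1 (.leaf 0x6434234634123432) (.leaf 0x34734234654123432)))) (.node 4 (.node 2 (.node 1 (.leaf 0x74634234734123432) (.leaf 0x74534764342346123432)) (.node 1 (.leaf 0x4743465423474123432) (.leaf 0x2343473434234743432))) (.node 2 (.node 1 (.leaf 0x5467434723432) (.leaf 0x6746347343423473432)) (.node 1 (.leaf 0x542343423473432) (.leaf 0x7123434234723432))))) (.node 8 (.node 4 (.node 2 (.node 1 (.leaf 0x3461234234234623432) (.leaf 0x74674534723432)) (.node 1 (.leaf 0x65347234234623432) (.leaf 0x7634534712343423432))) (.node 2 (.node 1 (.leaf 0x64342346123432) (.leaf 0x12346743423467432)) (.node 1 (.leaf 0x34234534234723432) (.leaf 0x3434643452346423432)))) (.node 4 (.node 2 (.node 1 (.leaf 0x34634347342347123432) (.leaf 0x34542346342346123432)) (.node 1 (.leaf 0x674534234623432) (.leaf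 0x634734534234653432))) (.node 2 (.node 1 (.leaf 0x7523467434123467432) (.leaf 0x634742341234623432)) (.node 1 (.leaf 0x64745434123476432) (.leaf 0x4642342347123432)))))))

def classATree_147 : Tree :=
  .node 64 (.node 32 (.node 16 (.node 8 (.node 4 (.node 2 (.node 1 (.leaf 0x67463423476423432) (.leaf 0x674674534123476432)) (.node 1 (.leaf 0x4647434123476432) (.leaf 0x54674342347123432))) (.node 2 (.node 1 (.leaf 0x454234234623432) (.leaf 0x742342346123432)) (.node 1 (.leaf 0x542346343423463432) (.leaf 0x745343464123432)))) (.node 4 (.node 2 (.node 1 (.leaf 0x46123473423476432) (.leaf 0x5467434234653432)) (.node 1 (.leaf 0x34634234234234723432) (.leaf 0x673462342346423432))) (.node 2 (.node 1 (.leaf 0x54342346743423432) (.leaf 0x42347343423463432)) (.node 1 (.leaf 0x7234654346423432) (.leaf 0x34543423465432))))) (.node 8 (.node 4 (.node 2 (.node 1 (.leaf 0x45342346743423432) (.leaf 0x6543464345234623432)) (.node 1 (.leaf 0x347453463423463432)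 (.leaf 0x4534753463423463432))) (.node 2 (.node 1 (.leaf 0x52346452343423476432) (.leaf 0x763473434523463432)) (.node 1 (.leaf 0x2347434234723432) (.leaf 0x647534652343423432)))) (.node 4 (.node 2 (.node 1 (.leaf 0x753412346342346123432) (.leaf 0x6453476434234753432)) (.node 1 (.leaf 0x643452343465423432) (.leaf 0x346434234723432))) (.node 2 (.node 1 (.leaf 0x643476434523473432) (.leaf 0x3475463452346423432)) (.node 1 (.leaf 0x5346342346123432) (.leaf 0x64523472343423432)))))) (.node 16 (.node 8 (.node 4 (.node 2 (.node 1 (.leaf 0x65343423467432) (.leaf 0x64123472343423432)) (.node 1 (.leaf 0x34643423473423432) (.leaf 0x7434534643423463432))) (.node 2 (.node 1 (.leaf 0x46434234754123432) (.leaf 0x723412346743423476432)) (.node 1 (.leaf 0x463423465423432) (.leaf 0x54634342346347423432)))) (.node 4 (.node 2 (.node 1 (.leaf 0x423474342347423432) (.leaf 0x6345341234723432)) (.node 1 (.leaf 0x5346342346423432) (.leaf 0x4234743452347423432)))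 (.node 2 (.node 1 (.leaf 0x46534234754123432) (.leaf 0x7342346743423476432)) (.node 1 (.leaf 0x46453423465423432) (.leaf 0x7342346341234623432))))) (.node 8 (.node 4 (.node 2 (.node 1 (.leaf 0x4754672343423432) (.leaf 0x534643423476432)) (.node 1 (.leaf 0x65343423467423432) (.leaf 0x4234734347123432))) (.node 2 (.node 1 (.leaf 0x5343423412347423432) (.leaf 0x7434634342346423432)) (.node 1 (.leaf 0x452346452343423476432) (.leaf 0x4643473434234623432)))) (.node 4 (.node 2 (.node 1 (.leaf 0x23434654234623432) (.leaf 0x634345423473432)) (.node 1 (.leaf 0x671234346123432) (.leaf 0x534634234753432))) (.node 2 (.node 1 (.leaf 0x23474345234723432) (.leaf 0x7543474342347423432)) (.node 1 (.leaf 0x7467434523463432) (.leaf 0x54347462343423432))))))) (.node 32 (.node 16 (.node 8 (.node 4 (.node 2 (.node 1 (.leaf 0x453476432) (.leaf 0x523434123476432)) (.node 1 (.leaf 0x65473423465432) (.leaf 0x6543467432))) (.node 2 (.node 1 (.leaf 0x542347543423473432)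 (.leaf 0x343463423475432)) (.node 1 (.leaf 0x74234234643432) (.leaf 0x7642346542346123432)))) (.node 4 (.node 2 (.node 1 (.leaf 0x6434523472343423432) (.leaf 0x474234634123467432)) (.node 1 (.leaf 0x7647234234654123432) (.leaf 0x7423462343423463432))) (.node 2 (.node 1 (.leaf 0x6543423434234643432) (.leaf 0x5343465472343423432)) (.node 1 (.leaf 0x53434234534623432) (.leaf 0x546743423476453432))))) (.node 8 (.node 4 (.node 2 (.node 1 (.leaf 0x61234342347346423432) (.leaf 0x53423423473423432)) (.node 1 (.leaf 0x74234743423476432) (.leaf 0x1234634123467432))) (.node 2 (.node 1 (.leaf 0x34523476434523473432) (.leaf 0x534234234753432)) (.node 1 (.leaf 0x64234643423467432) (.leaf 0x534342346345234623432)))) (.node 4 (.node 2 (.node 1 (.leaf 0x7434653423467432) (.leaf 0x43465234234623432)) (.node 1 (.leaf 0x6534347642346123432) (.leaf 0x463475342346423432))) (.node 2 (.node 1 (.leaf 0x7343452346743432) (.leaf 0x76434523434723432)) (.node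 1 (.leaf 0x6543423432) (.leaf 0x54643423463432)))))) (.node 16 (.node 8 (.node 4 (.node 2 (.node 1 (.leaf 0x34347123434123432) (.leaf 0x64346345234623432)) (.node 1 (.leaf 0x6423434234734123432) (.leaf 0x74234623432))) (.node 2 (.node 1 (.leaf 0x746234734234623432) (.leaf 0x464745234234723432)) (.node 1 (.leaf 0x46434234123432) (.leaf 0x46741234623432)))) (.node 4 (.node 2 (.node 1 (.leaf 0x742342347123432) (.leaf 0x53476473423463432)) (.node 1 (.leaf 0x5343423432) (.leaf 0x53464534234623432))) (.node 2 (.node 1 (.leaf 0x4346234234753432) (.leaf 0x642347345234723432)) (.node 1 (.leaf 0x54347641234723432) (.leaf 0x47234342346423432))))) (.node 8 (.node 4 (.node 2 (.node 1 (.leaf 0x612347342347123432) (.leaf 0x764534612343423432)) (.node 1 (.leaf 0x6542346343423473432) (.leaf 0x4123473423474123432))) (.node 2 (.node 1 (.leaf 0x463476432) (.leaf 0x46423453423476432)) (.node 1 (.leaf 0x6234743423464123432) (.leaf 0x475463452346423432))))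 (.node 4 (.node 2 (.node 1 (.leaf 0x7465343423473432) (.leaf 0x476234734234623432)) (.node 1 (.leaf 0x4123434643423463432) (.leaf 0x4612343423463432))) (.node 2 (.node 1 (.leaf 0x6473434634234623432) (.leaf 0x45347343423463432)) (.node 1 (.leaf 0x4734234523473432) (.leaf 0x47454234234753432)))))))

def classATree_148 : Tree :=
  .node 64 (.node 32 (.node 16 (.node 8 (.node 4 (.node 2 (.node 1 (.leaf 0x2347543423473432) (.leaf 0x34543423475432)) (.node 1 (.leaf 0x52347543423432) (.leaf 0x534643452343423432))) (.node 2 (.node 1 (.leaf 0x123463434123473432) (.leaf 0x534234743423463432)) (.node 1 (.leaf 0x647434234734234723432) (.leaf 0x4534634123467432)))) (.node 4 (.node 2 (.node 1 (.leaf 0x7341234743423463432) (.leaf 0x734234123463432)) (.node 1 (.leaf 0x43474341234623432) (.leaf 0x3465423462343423432))) (.node 2 (.node 1 (.leaf 0x34543423463423432) (.leaf 0x3454342346342346123432)) (.node 1 (.leaf 0x434634534234653432) (.leaf 0x234234612343423432)))))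 (.node 8 (.node 4 (.node 2 (.node 1 (.leaf 0x6434734534234753432) (.leaf 0x1234723453423467432)) (.node 1 (.leaf 0x643473434234653432) (.leaf 0x645234734234723432))) (.node 2 (.node 1 (.leaf 0x647345434234723432) (.leaf 0x4734534234653432)) (.node 1 (.leaf 0x53472343423463432) (.leaf 0x43472341234623432)))) (.node 4 (.node 2 (.node 1 (.leaf 0x3474342346123432) (.leaf 0x123472346342346423432)) (.node 1 (.leaf 0x4347234653423463432) (.leaf 0x123463412346423432))) (.node 2 (.node 1 (.leaf 0x34543423463432) (.leaf 0x234543473423432)) (.node 1 (.leaf 0x645234346123432) (.leaf 0x43463434234643432)))))) (.node 16 (.node 8 (.node 4 (.node 2 (.node 1 (.leaf 0x52347423453423467432) (.leaf 0x4346347623434123432)) (.node 1 (.leaf 0x6343473462343423432) (.leaf 0x234342346345234623432))) (.node 2 (.node 1 (.leaf 0x6475346341234723432) (.leaf 0x73465434123476432)) (.node 1 (.leaf 0x4345234234653432) (.leaf 0x23423463472343423432)))) (.node 4 (.node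 2 (.node 1 (.leaf 0x434123423475432) (.leaf 0x6475423472343423432)) (.node 1 (.leaf 0x23475434523473432) (.leaf 0x43463472343423432))) (.node 2 (.node 1 (.leaf 0x734643452346423432) (.leaf 0x43473434234723432)) (.node 1 (.leaf 0x5346543423476432) (.leaf 0x73463475423464123432))))) (.node 8 (.node 4 (.node 2 (.node 1 (.leaf 0x3423464543423432) (.leaf 0x4742346342346423432)) (.node 1 (.leaf 0x47643452347643432) (.leaf 0x634523465423432))) (.node 2 (.node 1 (.leaf 0x5412347342347423432) (.leaf 0x42347342347423432)) (.node 1 (.leaf 0x2346543452343423465432) (.leaf 0x7342346743423432)))) (.node 4 (.node 2 (.node 1 (.leaf 0x76434723465434123432) (.leaf 0x342346743423432)) (.node 1 (.leaf 0x65343423475432) (.leaf 0x6343423475432))) (.node 2 (.node 1 (.leaf 0x6434723465434123432) (.leaf 0x67434234754123432)) (.node 1 (.leaf 0x645343423475432) (.leaf 0x7634234754123432))))))) (.node 32 (.node 16 (.node 8 (.node 4 (.node 2 (.node 1 (.leaf 0x4347453423476432)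 (.leaf 0x647434523475423432)) (.node 1 (.leaf 0x654734523475423432) (.leaf 0x74347453423476432))) (.node 2 (.node 1 (.leaf 0x634234754123432) (.leaf 0x6434523475423432)) (.node 1 (.leaf 0x342346745343423432) (.leaf 0x2347542347123432)))) (.node 4 (.node 2 (.node 1 (.leaf 0x2347541234723432) (.leaf 0x643452347543423432)) (.node 1 (.leaf 0x123467452343423432) (.leaf 0x6543423476434123432))) (.node 2 (.node 1 (.leaf 0x6743423476434123432) (.leaf 0x63423474543423432)) (.node 1 (.leaf 0x734234734234723432) (.leaf 0x34234734234723432))))) (.node 8 (.node 4 (.node 2 (.node 1 (.leaf 0x342347345234723432) (.leaf 0x6734523475423432)) (.node 1 (.leaf 0x764734234754123432) (.leaf 0x3475423473423432))) (.node 2 (.node 1 (.leaf 0x64734234754123432) (.leaf 0x7342347345234723432)) (.node 1 (.leaf 0x3462343423453423465432) (.leaf 0x473412346743423476432)))) (.node 4 (.node 2 (.node 1 (.leaf 0x34542346743423467432) (.leaf 0x23452346743423467432)) (.node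 1 (.leaf 0x42346745343423432) (.leaf 0x4523476434123432))) (.node 2 (.node 1 (.leaf 0x2346343464123432) (.leaf 0x47234645434623432)) (.node 1 (.leaf 0x53412347345234723432) (.leaf 0x345342346534234623432)))))) (.node 16 (.node 8 (.node 4 (.node 2 (.node 1 (.leaf 0x5341234734234723432) (.leaf 0x75341234734234723432)) (.node 1 (.leaf 0x2342347643423467432) (.leaf 0x547342346743423476432))) (.node 2 (.node 1 (.leaf 0x4347234346454234723432) (.leaf 0x3423476434123467432)) (.node 1 (.leaf 0x2346543423453423465432) (.leaf 0x123476452343423432)))) (.node 4 (.node 2 (.node 1 (.leaf 0x63453423475432) (.leaf 0x634543423475432)) (.node 1 (.leaf 0x645342347643423432) (.leaf 0x634234754234723432))) (.node 2 (.node 1 (.leaf 0x23423473434723432) (.leaf 0x76453423475423432)) (.node 1 (.leaf 0x643453423475432) (.leaf 0x673434623476432))))) (.node 8 (.node 4 (.node 2 (.node 1 (.leaf 0x43474234234623432) (.leaf 0x54734234234653432)) (.node 1 (.leaf 0x6473423475423432)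 (.leaf 0x76473423475423432))) (.node 2 (.node 1 (.leaf 0x653434623476432) (.leaf 0x6453423475423432)) (.node 1 (.leaf 0x342347645343423432) (.leaf 0x234754234723432)))) (.node 4 (.node 2 (.node 1 (.leaf 0x2347454234723432) (.leaf 0x643423464543423432)) (.node 1 (.leaf 0x6342347643423432) (.leaf 0x6423464234346423432))) (.node 2 (.node 1 (.leaf 0x5346342347643423432) (.leaf 0x3423467434123432)) (.node 1 (.leaf 0x342347342347123432) (.leaf 0x7342347342347123432)))))))

def classATree_149 : Tree :=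
  .node 64 (.node 32 (.node 16 (.node 8 (.node 4 (.node 2 (.node 1 (.leaf 0x342347341234723432) (.leaf 0x763423475423432)) (.node 1 (.leaf 0x4346343423476432) (.leaf 0x47341234234653432))) (.node 2 (.node 1 (.leaf 0x63423475423432) (.leaf 0x634234634234623432)) (.node 1 (.leaf 0x23412347643423467432) (.leaf 0x53412347643423467432)))) (.node 4 (.node 2 (.node 1 (.leaf 0x3462343452343423465432) (.leaf 0x473452347643423476432)) (.node 1 (.leaf 0x42347645343423432) (.leaf 0x452347643423432))) (.node 2 (.node 1 (.leaf 0x234634346423432) (.leaf 0x472346454346123432)) (.node 1 (.leaf 0x65341234634234623432) (.leaf 0x67341234634234623432))))) (.node 8 (.node 4 (.node 2 (.node 1 (.leaf 0x53412347342347123432) (.leaf 0x64341234634234623432)) (.node 1 (.leaf 0x4346234347454234623432) (.leaf 0x634234752343423467432))) (.node 2 (.node 1 (.leaf 0x342347643423467432) (.leaf 0x7342347643423467432)) (.node 1 (.leaf 0x54346543423473432) (.leaf 0x46474342346123432))))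 (.node 4 (.node 2 (.node 1 (.leaf 0x1234634723434623432) (.leaf 0x634534623432)) (.node 1 (.leaf 0x743463423464123432) (.leaf 0x5465347342347423432))) (.node 2 (.node 1 (.leaf 0x474342347342347123432) (.leaf 0x743412347345234723432)) (.node 1 (.leaf 0x3464543423473432) (.leaf 0x74345234623432)))))) (.node 16 (.node 8 (.node 4 (.node 2 (.node 1 (.leaf 0x7612343423467432) (.leaf 0x47634234523473432)) (.node 1 (.leaf 0x74347234234623432) (.leaf 0x7434234523473432))) (.node 2 (.node 1 (.leaf 0x65234346342346123432) (.leaf 0x674534723434123432)) (.node 1 (.leaf 0x674534712343423432) (.leaf 0x712346342346123432)))) (.node 4 (.node 2 (.node 1 (.leaf 0x7623434123473423432) (.leaf 0x47234234123476432)) (.node 1 (.leaf 0x54764345423473432) (.leaf 0x75434234523473432))) (.node 2 (.node 1 (.leaf 0x3473434623476432) (.leaf 0x64743452346423432)) (.node 1 (.leaf 0x53474534234723432) (.leaf 0x23476434234623432))))) (.node 8 (.node 4 (.node 2 (.node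 1 (.leaf 0x7346743423463432) (.leaf 0x6734534612343423432)) (.node 1 (.leaf 0x3453476423432) (.leaf 0x67343423473432))) (.node 2 (.node 1 (.leaf 0x743473423432) (.leaf 0x74347234234654123432)) (.node 1 (.leaf 0x54634523473432) (.leaf 0x6343423463423432)))) (.node 4 (.node 2 (.node 1 (.leaf 0x54645434234753432) (.leaf 0x672346743423463432)) (.node 1 (.leaf 0x3463473412347423432) (.leaf 0x54734234654123432))) (.node 2 (.node 1 (.leaf 0x523434723432) (.leaf 0x734342341234623432)) (.node 1 (.leaf 0x54234634234623432) (.leaf 0x52343423463432))))))) (.node 32 (.node 16 (.node 8 (.node 4 (.node 2 (.node 1 (.leaf 0x34734523463432) (.leaf 0x7643473462343423432)) (.node 1 (.leaf 0x672343423432) (.leaf 0x63473452343423432))) (.node 2 (.node 1 (.leaf 0x45434674234623432) (.leaf 0x54723434234623432)) (.node 1 (.leaf 0x4723434523463432) (.leaf 0x67342347643423467432)))) (.node 4 (.node 2 (.node 1 (.leaf 0x453412347643423467432) (.leaf 0x34753434234653432))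 (.node 1 (.leaf 0x6723463423463432) (.leaf 0x6473434123473432))) (.node 2 (.node 1 (.leaf 0x346454342346123432) (.leaf 0x64712343423432)) (.node 1 (.leaf 0x74534346423432) (.leaf 0x345234346342346123432))))) (.node 8 (.node 4 (.node 2 (.node 1 (.leaf 0x34654734123463432) (.leaf 0x754342346123432)) (.node 1 (.leaf 0x423453423467432) (.leaf 0x34642341234723432))) (.node 2 (.node 1 (.leaf 0x64346234123476432) (.leaf 0x6534734123476432)) (.node 1 (.leaf 0x123423474123432) (.leaf 0x4346343423463432)))) (.node 4 (.node 2 (.node 1 (.leaf 0x723467434123463432) (.leaf 0x234674234123463432)) (.node 1 (.leaf 0x6523434623434123432) (.leaf 0x534734123432))) (.node 2 (.node 1 (.leaf 0x534347642346123432) (.leaf 0x7342346423432)) (.node 1 (.leaf 0x674674634234753432) (.leaf 0x34743423432)))))) (.node 16 (.node 8 (.node 4 (.node 2 (.node 1 (.leaf 0x6434234534234723432) (.leaf 0x64343423473432)) (.node 1 (.leaf 0x23475434123463432) (.leaf 0x63423464123432)))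 (.node 2 (.node 1 (.leaf 0x64342347643423467432) (.leaf 0x47454234634234623432)) (.node 1 (.leaf 0x623434123432) (.leaf 0x464347534234723432)))) (.node 4 (.node 2 (.node 1 (.leaf 0x74523434123467432) (.leaf 0x62347123434623432)) (.node 1 (.leaf 0x6423464534234623432) (.leaf 0x6534712343423432))) (.node 2 (.node 1 (.leaf 0x4234734542347423432) (.leaf 0x763472343423432)) (.node 1 (.leaf 0x54754634234753432) (.leaf 0x763473423476432))))) (.node 8 (.node 4 (.node 2 (.node 1 (.leaf 0x4634234523473432) (.leaf 0x434643423474123432)) (.node 1 (.leaf 0x7634342346347423432) (.leaf 0x6423463423463432))) (.node 2 (.node 1 (.leaf 0x467434234654123432) (.leaf 0x5234634123432)) (.node 1 (.leaf 0x3473434123476432) (.leaf 0x76347343423432)))) (.node 4 (.node 2 (.node 1 (.leaf 0x543452347643423476432) (.leaf 0x74523434734234723432)) (.node 1 (.leaf 0x76234234123432) (.leaf 0x764534653423463432))) (.node 2 (.node 1 (.leaf 0x53412346423432) (.leaf 0x734347645234623432))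 (.node 1 (.leaf 0x64342342346423432) (.leaf 0x65343476423464123432)))))))

def classATree_150 : Tree :=
  .node 64 (.node 32 (.node 16 (.node 8 (.node 4 (.node 2 (.node 1 (.leaf 0x4346743462343423432) (.leaf 0x673434234723432)) (.node 1 (.leaf 0x546234723434623432) (.leaf 0x46342346123432))) (.node 2 (.node 1 (.leaf 0x467423423423475432) (.leaf 0x4734523465423432)) (.node 1 (.leaf 0x473423475423432) (.leaf 0x74345234234753432)))) (.node 4 (.node 2 (.node 1 (.leaf 0x47534234523473432) (.leaf 0x454342347643423467432)) (.node 1 (.leaf 0x4764534234753432) (.leaf 0x123434723432))) (.node 2 (.node 1 (.leaf 0x347534634123476432) (.leaf 0x4745343423473432)) (.node 1 (.leaf 0x65472343423432) (.leaf 0x623412347643423467432))))) (.node 8 (.node 4 (.node 2 (.node 1 (.leaf 0x763453462343423432) (.leaf 0x47343464712343423432)) (.node 1 (.leaf 0x434654762343423432) (.leaf 0x743463452347423432))) (.node 2 (.node 1 (.leaf 0x47346742347123432) (.leaf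 0x434753434123463432)) (.node 1 (.leaf 0x4634234753432) (.leaf 0x6547343423473432)))) (.node 4 (.node 2 (.node 1 (.leaf 0x7612343423432) (.leaf 0x752346342346123432)) (.node 1 (.leaf 0x76453472343423432) (.leaf 0x672343423467432))) (.node 2 (.node 1 (.leaf 0x7234643423473423432) (.leaf 0x4234534643423463432)) (.node 1 (.leaf 0x7645347123434123432) (.leaf 0x74645342346423432)))))) (.node 16 (.node 8 (.node 4 (.node 2 (.node 1 (.leaf 0x4234612343423432) (.leaf 0x75434734123432)) (.node 1 (.leaf 0x34745341234723432) (.leaf 0x674674347123432))) (.node 2 (.node 1 (.leaf 0x7346453423467432) (.leaf 0x73453423473423432)) (.node 1 (.leaf 0x4654345423473432) (.leaf 0x5346347342347423432)))) (.node 4 (.node 2 (.node 1 (.leaf 0x463475423432) (.leaf 0x653473423453423432)) (.node 1 (.leaf 0x41234634234623432) (.leaf 0x64346123434723432))) (.node 2 (.node 1 (.leaf 0x467453434234753432) (.leaf 0x763434123473432)) (.node 1 (.leaf 0x753467434123463432)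 (.leaf 0x12343423463432))))) (.node 8 (.node 4 (.node 2 (.node 1 (.leaf 0x465423462343423432) (.leaf 0x61234346342346123432)) (.node 1 (.leaf 0x71234643423463432) (.leaf 0x534734234653432))) (.node 2 (.node 1 (.leaf 0x5347342347423432) (.leaf 0x46347343423463432)) (.node 1 (.leaf 0x434234634234623432) (.leaf 0x43412346341234623432)))) (.node 4 (.node 2 (.node 1 (.leaf 0x53474342347423432) (.leaf 0x746347343423463432)) (.node 1 (.leaf 0x4345234634123432) (.leaf 0x34743423453423432))) (.node 2 (.node 1 (.leaf 0x34743423467432) (.leaf 0x734647434123476432)) (.node 1 (.leaf 0x7343475423476432) (.leaf 0x54234234653432))))))) (.node 32 (.node 16 (.node 8 (.node 4 (.node 2 (.node 1 (.leaf 0x34652343423473432) (.leaf 0x123465434234653432)) (.node 1 (.leaf 0x4734342347346423432) (.leaf 0x75463453423432))) (.node 2 (.node 1 (.leaf 0x412346743423467432) (.leaf 0x523434754234723432)) (.node 1 (.leaf 0x54234674234723432) (.leaf 0x65234234234723432))))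 (.node 4 (.node 2 (.node 1 (.leaf 0x745434623432) (.leaf 0x734341234347423432)) (.node 1 (.leaf 0x4742346342346123432) (.leaf 0x73434123463423432))) (.node 2 (.node 1 (.leaf 0x4347454342346423432) (.leaf 0x3475434123476432)) (.node 1 (.leaf 0x4764234234234723432) (.leaf 0x523464342346123432))))) (.node 8 (.node 4 (.node 2 (.node 1 (.leaf 0x4764234234723432) (.leaf 0x5347234623434723432)) (.node 1 (.leaf 0x745434234734123432) (.leaf 0x7543467462343423432))) (.node 2 (.node 1 (.leaf 0x5234734123467432) (.leaf 0x523464743423476432)) (.node 1 (.leaf 0x47546234123463432) (.leaf 0x6734346234346423432)))) (.node 4 (.node 2 (.node 1 (.leaf 0x546234123432) (.leaf 0x2347454343423463432)) (.node 1 (.leaf 0x234346434523473432) (.leaf 0x1234634123476432))) (.node 2 (.node 1 (.leaf 0x7454342347123432) (.leaf 0x47643423432)) (.node 1 (.leaf 0x47643423463432) (.leaf 0x75463452343423432)))))) (.node 16 (.node 8 (.node 4 (.node 2 (.node 1 (.leaf 0x6434347542347123432)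 (.leaf 0x6723463434723432)) (.node 1 (.leaf 0x434754346423432) (.leaf 0x7434523434123463432))) (.node 2 (.node 1 (.leaf 0x764346743423476432) (.leaf 0x46534234234723432)) (.node 1 (.leaf 0x74654346123432) (.leaf 0x7546534734234623432)))) (.node 4 (.node 2 (.node 1 (.leaf 0x74654345234723432) (.leaf 0x47642346743423476432)) (.node 1 (.leaf 0x7453465342346423432) (.leaf 0x54347343423463432))) (.node 2 (.node 1 (.leaf 0x745342347342347123432) (.leaf 0x7643412347345234723432)) (.node 1 (.leaf 0x6347434123432) (.leaf 0x4123467434123476432))))) (.node 8 (.node 4 (.node 2 (.node 1 (.leaf 0x5347234123432) (.leaf 0x43462347343423473432)) (.node 1 (.leaf 0x4234612342346123432) (.leaf 0x4634346123432))) (.node 2 (.node 1 (.leaf 0x74342346345234623432) (.leaf 0x453412346342346123432)) (.node 1 (.leaf 0x762347643423476432) (.leaf 0x543467423432)))) (.node 4 (.node 2 (.node 1 (.leaf 0x6123473452343423432) (.leaf 0x4645434723432)) (.node 1 (.leaf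 0x423464743423476432) (.leaf 0x7453467423432))) (.node 2 (.node 1 (.leaf 0x542346453423476432) (.leaf 0x5423463423476432)) (.node 1 (.leaf 0x523474345234723432) (.leaf 0x434723432)))))))

def classATree_151 : Tree :=
  .node 64 (.node 32 (.node 16 (.node 8 (.node 4 (.node 2 (.node 1 (.leaf 0x34734634234743432) (.leaf 0x4346742347123432)) (.node 1 (.leaf 0x452346434234723432) (.leaf 0x6742347645234623432))) (.node 2 (.node 1 (.leaf 0x674674234123476432) (.leaf 0x64746434123467432)) (.node 1 (.leaf 0x64734234234723432) (.leaf 0x5423465423432)))) (.node 4 (.node 2 (.node 1 (.leaf 0x6474643423467432) (.leaf 0x5343454234346423432)) (.node 1 (.leaf 0x64745346345234623432) (.leaf 0x45346234534123476432))) (.node 2 (.node 1 (.leaf 0x434534764234623432) (.leaf 0x34623434723467432)) (.node 1 (.leaf 0x6453434654234623432) (.leaf 0x67463412346423432))))) (.node 8 (.node 4 (.node 2 (.node 1 (.leaf 0x734234743423463432) (.leaf 0x2347234234723432))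 (.node 1 (.leaf 0x3412347343423473432) (.leaf 0x53434523473432))) (.node 2 (.node 1 (.leaf 0x645347342347123432) (.leaf 0x674345234723432)) (.node 1 (.leaf 0x734123423423475432) (.leaf 0x53467434723432)))) (.node 4 (.node 2 (.node 1 (.leaf 0x64534734234653432) (.leaf 0x234534234764123432)) (.node 1 (.leaf 0x75342347534234723432) (.leaf 0x2346743472343423432))) (.node 2 (.node 1 (.leaf 0x234764534123476432) (.leaf 0x74654734123476432)) (.node 1 (.leaf 0x67434234674123432) (.leaf 0x47464342346423432)))))) (.node 16 (.node 8 (.node 4 (.node 2 (.node 1 (.leaf 0x23463412346423432) (.leaf 0x473434523463432)) (.node 1 (.leaf 0x5473434234623432) (.leaf 0x7454341234723432))) (.node 2 (.node 1 (.leaf 0x4653473453423463432) (.leaf 0x7453434234623432)) (.node 1 (.leaf 0x54653472343423432) (.leaf 0x234347645234623432)))) (.node 4 (.node 2 (.node 1 (.leaf 0x534734634234623432) (.leaf 0x54742346343423473432)) (.node 1 (.leaf 0x6712346343423432) (.leaf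 0x5434654234723432))) (.node 2 (.node 1 (.leaf 0x53434754123432) (.leaf 0x546434764234623432)) (.node 1 (.leaf 0x23476423464123432) (.leaf 0x2347645346123432))))) (.node 8 (.node 4 (.node 2 (.node 1 (.leaf 0x7423463434234723432) (.leaf 0x75467434123473432)) (.node 1 (.leaf 0x54634123463432) (.leaf 0x543463423476432))) (.node 2 (.node 1 (.leaf 0x3423412346345234623432) (.leaf 0x47645341234623432)) (.node 1 (.leaf 0x4653423467432) (.leaf 0x464543423467432)))) (.node 4 (.node 2 (.node 1 (.leaf 0x75343423476453432) (.leaf 0x6473423423473423432)) (.node 1 (.leaf 0x46534734123467432) (.leaf 0x434753423467432))) (.node 2 (.node 1 (.leaf 0x7634234123473423432) (.leaf 0x6454347343423463432)) (.node 1 (.leaf 0x5234623434234623432) (.leaf 0x123476434523473432))))))) (.node 32 (.node 16 (.node 8 (.node 4 (.node 2 (.node 1 (.leaf 0x6454234623432) (.leaf 0x6454346423432)) (.node 1 (.leaf 0x74534653412346423432) (.leaf 0x4634534234653432))) (.node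 2 (.node 1 (.leaf 0x543465342346423432) (.leaf 0x6341234634234643432)) (.node 1 (.leaf 0x7534634723434623432) (.leaf 0x46534346342346123432)))) (.node 4 (.node 2 (.node 1 (.leaf 0x453434523463432) (.leaf 0x543476434234753432)) (.node 1 (.leaf 0x34674534234653432) (.leaf 0x341234643423467432))) (.node 2 (.node 1 (.leaf 0x3454342346743423476432) (.leaf 0x1234234743423467432)) (.node 1 (.leaf 0x63434734234723432) (.leaf 0x343462342346423432))))) (.node 8 (.node 4 (.node 2 (.node 1 (.leaf 0x743412347342347123432) (.leaf 0x34523434754123432)) (.node 1 (.leaf 0x1234764346123432) (.leaf 0x763452347343423463432))) (.node 2 (.node 1 (.leaf 0x2347346343423473432) (.leaf 0x7464523434123432)) (.node 1 (.leaf 0x46347341234623432) (.leaf 0x534346743423473432)))) (.node 4 (.node 2 (.node 1 (.leaf 0x4653434234347423432) (.leaf 0x5347343423463432)) (.node 1 (.leaf 0x34734345234623432) (.leaf 0x34542346343423473432))) (.node 2 (.node 1 (.leaf 0x43423423465432)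 (.leaf 0x7343452343465423432)) (.node 1 (.leaf 0x65434123432) (.leaf 0x546434123463432)))))) (.node 16 (.node 8 (.node 4 (.node 2 (.node 1 (.leaf 0x673465343423473432) (.leaf 0x753465234234623432)) (.node 1 (.leaf 0x63454347642346423432) (.leaf 0x6543452343423465432))) (.node 2 (.node 1 (.leaf 0x43464341234643432) (.leaf 0x74123463434234723432)) (.node 1 (.leaf 0x45346341234643432) (.leaf 0x2347434534234753432)))) (.node 4 (.node 2 (.node 1 (.leaf 0x65472346342346423432) (.leaf 0x4623473423474123432)) (.node 1 (.leaf 0x6234534723434123432) (.leaf 0x46534346234346423432))) (.node 2 (.node 1 (.leaf 0x6453434623432) (.leaf 0x623434234534623432)) (.node 1 (.leaf 0x34734346234234123432) (.leaf 0x534645342346423432))))) (.node 8 (.node 4 (.node 2 (.node 1 (.leaf 0x6434734634234753432) (.leaf 0x34742343423463432)) (.node 1 (.leaf 0x712342346123432) (.leaf 0x74642342346123432))) (.node 2 (.node 1 (.leaf 0x673434123432) (.leaf 0x54234674534234653432))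 (.node 1 (.leaf 0x1234234623432) (.leaf 0x54645234234623432)))) (.node 4 (.node 2 (.node 1 (.leaf 0x12342346123432) (.leaf 0x4642342346123432)) (.node 1 (.leaf 0x5347452343423432) (.leaf 0x434234534634123432))) (.node 2 (.node 1 (.leaf 0x4234123476432) (.leaf 0x5434123467432)) (.node 1 (.leaf 0x234653434123476432) (.leaf 0x234634534123476432)))))))

def classATree_152 : Tree :=
  .node 64 (.node 32 (.node 16 (.node 8 (.node 4 (.node 2 (.node 1 (.leaf 0x234342346347423432) (.leaf 0x64753434123432)) (.node 1 (.leaf 0x7643423473423432) (.leaf 0x46473423473423432))) (.node 2 (.node 1 (.leaf 0x62347642346123432) (.leaf 0x434534234346423432)) (.node 1 (.leaf 0x47434634234754123432) (.leaf 0x7234342346423432)))) (.node 4 (.node 2 (.node 1 (.leaf 0x3434654345423463432) (.leaf 0x7645346743423476432)) (.node 1 (.leaf 0x473462342346123432) (.leaf 0x47346234234753432))) (.node 2 (.node 1 (.leaf 0x7434764234123473432) (.leaf 0x4754234234723432))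 (.node 1 (.leaf 0x4634534234347423432) (.leaf 0x3453465434234643432))))) (.node 8 (.node 4 (.node 2 (.node 1 (.leaf 0x7234534712343423432) (.leaf 0x423473453423473432)) (.node 1 (.leaf 0x23453423464123432) (.leaf 0x46743476473423463432))) (.node 2 (.node 1 (.leaf 0x3463473423467423432) (.leaf 0x72346234523465423432)) (.node 1 (.leaf 0x72345342345346423432) (.leaf 0x4345346345234623432)))) (.node 4 (.node 2 (.node 1 (.leaf 0x434653423432) (.leaf 0x234347123434123432)) (.node 1 (.leaf 0x234342347346423432) (.leaf 0x41234623434234623432))) (.node 2 (.node 1 (.leaf 0x4347543423463432) (.leaf 0x54647434234653432)) (.node 1 (.leaf 0x7634534723432) (.leaf 0x4543464234234623432)))))) (.node 16 (.node 8 (.node 4 (.node 2 (.node 1 (.leaf 0x47641234234723432) (.leaf 0x434234123473423432)) (.node 1 (.leaf 0x63454347123432) (.leaf 0x47641234623432))) (.node 2 (.node 1 (.leaf 0x5464347542346423432) (.leaf 0x4345347423432)) (.node 1 (.leaf 0x42346234347123432)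 (.leaf 0x4234623434123463432)))) (.node 4 (.node 2 (.node 1 (.leaf 0x2347543423476432) (.leaf 0x734346743423476432)) (.node 1 (.leaf 0x543454234234723432) (.leaf 0x5234634342347123432))) (.node 2 (.node 1 (.leaf 0x2347543434234643432) (.leaf 0x74647434523463432)) (.node 1 (.leaf 0x61234534634234723432) (.leaf 0x72343423463423432))))) (.node 8 (.node 4 (.node 2 (.node 1 (.leaf 0x343463434234723432) (.leaf 0x4754234623432)) (.node 1 (.leaf 0x47454346423432) (.leaf 0x547642346423432))) (.node 2 (.node 1 (.leaf 0x54764534623432) (.leaf 0x2347542346423432)) (.node 1 (.leaf 0x46742342347123432) (.leaf 0x743475463423467432)))) (.node 4 (.node 2 (.node 1 (.leaf 0x4654342343423463432) (.leaf 0x42343475423476432)) (.node 1 (.leaf 0x52347345234723432) (.leaf 0x7434723432))) (.node 2 (.node 1 (.leaf 0x34543462343423432) (.leaf 0x673453463423473432)) (.node 1 (.leaf 0x547543454234623432) (.leaf 0x723465473423476432))))))) (.node 32 (.node 16 (.node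 8 (.node 4 (.node 2 (.node 1 (.leaf 0x546534234623432) (.leaf 0x476234723434623432)) (.node 1 (.leaf 0x643463423467432) (.leaf 0x645434753423476432))) (.node 2 (.node 1 (.leaf 0x62343423467432) (.leaf 0x6454347123434123432)) (.node 1 (.leaf 0x54723434634234623432) (.leaf 0x64543472343423432)))) (.node 4 (.node 2 (.node 1 (.leaf 0x473465473423463432) (.leaf 0x6423464345234623432)) (.node 1 (.leaf 0x474523434123467432) (.leaf 0x7434643423467432))) (.node 2 (.node 1 (.leaf 0x654342346423432) (.leaf 0x43463434123463432)) (.node 1 (.leaf 0x3467434234653432) (.leaf 0x643423412346423432))))) (.node 8 (.node 4 (.node 2 (.node 1 (.leaf 0x73434623432) (.leaf 0x7343423473432)) (.node 1 (.leaf 0x474634712343423432) (.leaf 0x23453475343423473432))) (.node 2 (.node 1 (.leaf 0x4634534612343423432) (.leaf 0x534764342346123432)) (.node 1 (.leaf 0x74534723432) (.leaf 0x674674534234753432)))) (.node 4 (.node 2 (.node 1 (.leaf 0x743463423475423432) (.leaf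 0x74523476423432)) (.node 1 (.leaf 0x434654712343423432) (.leaf 0x547464534234753432))) (.node 2 (.node 1 (.leaf 0x6534723453423432) (.leaf 0x534643423463432)) (.node 1 (.leaf 0x53464234234723432) (.leaf 0x73434234734123432)))))) (.node 16 (.node 8 (.node 4 (.node 2 (.node 1 (.leaf 0x6434743423463423432) (.leaf 0x6434234123473432)) (.node 1 (.leaf 0x64234234123432) (.leaf 0x347345434234623432))) (.node 2 (.node 1 (.leaf 0x734342347345234723432) (.leaf 0x5234734234723432)) (.node 1 (.leaf 0x464347345234723432) (.leaf 0x74523434234623432)))) (.node 4 (.node 2 (.node 1 (.leaf 0x7346347343423463432) (.leaf 0x74534723434123432)) (.node 1 (.leaf 0x654752343423432) (.leaf 0x4346234342346347423432))) (.node 2 (.node 1 (.leaf 0x7463434234723432) (.leaf 0x473454341234623432)) (.node 1 (.leaf 0x4534734123432) (.leaf 0x6234534623453423432))))) (.node 8 (.node 4 (.node 2 (.node 1 (.leaf 0x634346523434123432) (.leaf 0x7434634123467432)) (.node 1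 (.leaf 0x7454342345347423432) (.leaf 0x343465423467432))) (.node 2 (.node 1 (.leaf 0x3463434234634123432) (.leaf 0x6534346542347123432)) (.node 1 (.leaf 0x347346234234123432) (.leaf 0x746541234234653432)))) (.node 4 (.node 2 (.node 1 (.leaf 0x63434523476423432) (.leaf 0x3463423476432)) (.node 1 (.leaf 0x346434734123476432) (.leaf 0x34534652343423432))) (.node 2 (.node 1 (.leaf 0x647643453423432) (.leaf 0x4623473434123473432)) (.node 1 (.leaf 0x34634734234643432) (.leaf 0x64346347423432)))))))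

def classATree_153 : Tree :=
  .node 64 (.node 32 (.node 16 (.node 8 (.node 4 (.node 2 (.node 1 (.leaf 0x42347434523465423432) (.leaf 0x346343472343423432)) (.node 1 (.leaf 0x345234234234623432) (.leaf 0x475463423473432))) (.node 2 (.node 1 (.leaf 0x647643452343423432) (.leaf 0x464743423432)) (.node 1 (.leaf 0x3463423476423432) (.leaf 0x746743423467453432)))) (.node 4 (.node 2 (.node 1 (.leaf 0x63423452343464123432) (.leaf 0x4234346542346123432)) (.node 1 (.leaf 0x745434234234723432) (.leaf 0x54674534764234623432))) (.node 2 (.node 1 (.leaf 0x4346347234346123432) (.leaf 0x6734347542347123432)) (.node 1 (.leaf 0x3463434723432) (.leaf 0x46234734346123432))))) (.node 8 (.node 4 (.node 2 (.node 1 (.leaf 0x34346454234623432) (.leaf 0x45434234347423432)) (.node 1 (.leaf 0x4123474345234723432) (.leaf 0x4746434234723432))) (.node 2 (.node 1 (.leaf 0x43434234643432) (.leaf 0x3412347343423467432)) (.node 1 (.leaf 0x4523463473423476432) (.leaf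 0x434347423432)))) (.node 4 (.node 2 (.node 1 (.leaf 0x3423464342346123432) (.leaf 0x476434234346423432)) (.node 1 (.leaf 0x343473434234643432) (.leaf 0x4653423463423473432))) (.node 2 (.node 1 (.leaf 0x54764234123463432) (.leaf 0x7465434123432)) (.node 1 (.leaf 0x34754653423476432) (.leaf 0x34346434123473432)))))) (.node 16 (.node 8 (.node 4 (.node 2 (.node 1 (.leaf 0x345342341234723432) (.leaf 0x67452346342346123432)) (.node 1 (.leaf 0x47642341234723432) (.leaf 0x743474345234723432))) (.node 2 (.node 1 (.leaf 0x534745434123476432) (.leaf 0x534743423463423432)) (.node 1 (.leaf 0x453462343423463432) (.leaf 0x34754234123476432)))) (.node 4 (.node 2 (.node 1 (.leaf 0x7453476434123476432) (.leaf 0x634734634234723432)) (.node 1 (.leaf 0x75434123473423432) (.leaf 0x6523472342347123432))) (.node 2 (.node 1 (.leaf 0x523423472343423432) (.leaf 0x5234347541234723432)) (.node 1 (.leaf 0x4234674234234723432) (.leaf 0x2347453434234623432)))))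 (.node 8 (.node 4 (.node 2 (.node 1 (.leaf 0x75465343423432) (.leaf 0x523464345234623432)) (.node 1 (.leaf 0x4742346345234623432) (.leaf 0x754346123432))) (.node 2 (.node 1 (.leaf 0x74645434623432) (.leaf 0x4764234123432)) (.node 1 (.leaf 0x4764234123463432) (.leaf 0x6345434734234723432)))) (.node 4 (.node 2 (.node 1 (.leaf 0x234346434234753432) (.leaf 0x123463423476432)) (.node 1 (.leaf 0x54764342347123432) (.leaf 0x7634347542347123432))) (.node 2 (.node 1 (.leaf 0x7523463434723432) (.leaf 0x4347543464123432)) (.node 1 (.leaf 0x4723434234347423432) (.leaf 0x5347453423467432))))))) (.node 32 (.node 16 (.node 8 (.node 4 (.node 2 (.node 1 (.leaf 0x434653434123476432) (.leaf 0x463476423464123432)) (.node 1 (.leaf 0x63412343423473432) (.leaf 0x546234234723432))) (.node 2 (.node 1 (.leaf 0x534743423453423432) (.leaf 0x75343475423476432)) (.node 1 (.leaf 0x475463423463432) (.leaf 0x5463423432)))) (.node 4 (.node 2 (.node 1 (.leaf 0x75463423453423432)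 (.leaf 0x5234346534234623432)) (.node 1 (.leaf 0x523473423467432) (.leaf 0x23465342341234623432))) (.node 2 (.node 1 (.leaf 0x54234523463432) (.leaf 0x7453476434234753432)) (.node 1 (.leaf 0x234645434234653432) (.leaf 0x1234754342347423432))))) (.node 8 (.node 4 (.node 2 (.node 1 (.leaf 0x452346234234623432) (.leaf 0x754341234723432)) (.node 1 (.leaf 0x746234234234623432) (.leaf 0x7534234347423432))) (.node 2 (.node 1 (.leaf 0x643473434123463432) (.leaf 0x4653473412347423432)) (.node 1 (.leaf 0x754342347345234723432) (.leaf 0x3454342347643423467432)))) (.node 4 (.node 2 (.node 1 (.leaf 0x3473465423474123432) (.leaf 0x5434534643423463432)) (.node 1 (.leaf 0x534346342346123432) (.leaf 0x64534653412346423432))) (.node 2 (.node 1 (.leaf 0x5474346345234623432) (.leaf 0x647346342346123432)) (.node 1 (.leaf 0x7343423467434123432) (.leaf 0x4654234234643432)))))) (.node 16 (.node 8 (.node 4 (.node 2 (.node 1 (.leaf 0x3464543423475432) (.leaf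 0x3434753432)) (.node 1 (.leaf 0x7647543423465432) (.leaf 0x423465434123463432))) (.node 2 (.node 1 (.leaf 0x71234234234753432) (.leaf 0x342347643473423463432)) (.node 1 (.leaf 0x64763453423432) (.leaf 0x634754342347423432)))) (.node 4 (.node 2 (.node 1 (.leaf 0x7534673434234623432) (.leaf 0x3434654123432)) (.node 1 (.leaf 0x34634123467432) (.leaf 0x34234674534234653432))) (.node 2 (.node 1 (.leaf 0x1234234523473432) (.leaf 0x547523434623476432)) (.node 1 (.leaf 0x47234346454234723432) (.leaf 0x7343465423464123432))))) (.node 8 (.node 4 (.node 2 (.node 1 (.leaf 0x734653423467432) (.leaf 0x474234523475423432)) (.node 1 (.leaf 0x4623473452343423432) (.leaf 0x645434623434123432))) (.node 2 (.node 1 (.leaf 0x64234764534234753432) (.leaf 0x34346541234623432)) (.node 1 (.leaf 0x654342345347123432) (.leaf 0x5347534672343423432)))) (.node 4 (.node 2 (.node 1 (.leaf 0x34647434234623432) (.leaf 0x3434523476423432)) (.node 1 (.leaf 0x76475434123473432)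 (.leaf 0x5467434123432))) (.node 2 (.node 1 (.leaf 0x346474341234623432) (.leaf 0x46541234623432)) (.node 1 (.leaf 0x1234634734234723432) (.leaf 0x746742341234623432)))))))

def classATree_154 : Tree :=
  .node 64 (.node 32 (.node 16 (.node 8 (.node 4 (.node 2 (.node 1 (.leaf 0x546741234234753432) (.leaf 0x472343473423432)) (.node 1 (.leaf 0x4734346343423463432) (.leaf 0x5471234234723432))) (.node 2 (.node 1 (.leaf 0x34634734123476432) (.leaf 0x7643462343423432)) (.node 1 (.leaf 0x4623434643423473432) (.leaf 0x73453423476423432)))) (.node 4 (.node 2 (.node 1 (.leaf 0x4742341234723432) (.leaf 0x5346543423467432)) (.node 1 (.leaf 0x34634234754123432) (.leaf 0x346347342347123432))) (.node 2 (.node 1 (.leaf 0x7453434234743432) (.leaf 0x743475434234743432)) (.node 1 (.leaf 0x4342346345234623432) (.leaf 0x463412346342346123432))))) (.node 8 (.node 4 (.node 2 (.node 1 (.leaf 0x7434634234674123432) (.leaf 0x534234734123432)) (.node 1 (.leaf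 0x434634234674123432) (.leaf 0x7534234734123432))) (.node 2 (.node 1 (.leaf 0x123462341234623432) (.leaf 0x64734346123432)) (.node 1 (.leaf 0x452343423467432) (.leaf 0x6534753423476432)))) (.node 4 (.node 2 (.node 1 (.leaf 0x4346434123467432) (.leaf 0x74645347342347123432)) (.node 1 (.leaf 0x3464234234723432) (.leaf 0x3474234123432))) (.node 2 (.node 1 (.leaf 0x12342347423432) (.leaf 0x453467434234743432)) (.node 1 (.leaf 0x73423464123432) (.leaf 0x234234743423467432)))))) (.node 16 (.node 8 (.node 4 (.node 2 (.node 1 (.leaf 0x64764534723432) (.leaf 0x4347234234234723432)) (.node 1 (.leaf 0x543473434234753432) (.leaf 0x6342346234347123432))) (.node 2 (.node 1 (.leaf 0x46434764342346123432) (.leaf 0x123463423432)) (.node 1 (.leaf 0x6347343423476432) (.leaf 0x4346234347542346123432)))) (.node 4 (.node 2 (.node 1 (.leaf 0x653472343423432) (.leaf 0x1234346434234643432)) (.node 1 (.leaf 0x74234234123476432) (.leaf 0x76234723434623432)))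 (.node 2 (.node 1 (.leaf 0x4542347342347423432) (.leaf 0x7634712343423432)) (.node 1 (.leaf 0x47546534234753432) (.leaf 0x61234346123434123432))))) (.node 8 (.node 4 (.node 2 (.node 1 (.leaf 0x2346743423463432) (.leaf 0x643463423463432)) (.node 1 (.leaf 0x23474543423463432) (.leaf 0x623453423432))) (.node 2 (.node 1 (.leaf 0x762343423432) (.leaf 0x423412346743423476432)) (.node 1 (.leaf 0x673461234234723432) (.leaf 0x534753423432)))) (.node 4 (.node 2 (.node 1 (.leaf 0x734534764234623432) (.leaf 0x6342346423432)) (.node 1 (.leaf 0x6345342347123432) (.leaf 0x464234734234723432))) (.node 2 (.node 1 (.leaf 0x63454342345347423432) (.leaf 0x54674634234753432)) (.node 1 (.leaf 0x67434634123463432) (.leaf 0x34542346423432))))))) (.node 32 (.node 16 (.node 8 (.node 4 (.node 2 (.node 1 (.leaf 0x74342342346423432) (.leaf 0x46734234523463432)) (.node 1 (.leaf 0x64346234234723432) (.leaf 0x7462347343423463432))) (.node 2 (.node 1 (.leaf 0x67343454234723432)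 (.leaf 0x7643467463423473432)) (.node 1 (.leaf 0x4754342346123432) (.leaf 0x123473423467423432)))) (.node 4 (.node 2 (.node 1 (.leaf 0x523462341234623432) (.leaf 0x65473434623432)) (.node 1 (.leaf 0x463434234743432) (.leaf 0x3463473434234723432))) (.node 2 (.node 1 (.leaf 0x6734534623432) (.leaf 0x7123462342346123432)) (.node 1 (.leaf 0x74674234234653432) (.leaf 0x23465473452343423432))))) (.node 8 (.node 4 (.node 2 (.node 1 (.leaf 0x73465423474123432) (.leaf 0x623434754123476432)) (.node 1 (.leaf 0x67434234346423432) (.leaf 0x12347343423473432))) (.node 2 (.node 1 (.leaf 0x74674234723432) (.leaf 0x4234745343423467432)) (.node 1 (.leaf 0x46473434234723432) (.leaf 0x5434653473423463432)))) (.node 4 (.node 2 (.node 1 (.leaf 0x52347343423473432) (.leaf 0x473434643423473432)) (.node 1 (.leaf 0x546474343423473432) (.leaf 0x47452343423463432))) (.node 2 (.node 1 (.leaf 0x634346434234753432) (.leaf 0x763452347342347123432)) (.node 1 (.leaf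 0x23452346345234623432) (.leaf 0x74343423473432)))))) (.node 16 (.node 8 (.node 4 (.node 2 (.node 1 (.leaf 0x4642347343423473432) (.leaf 0x743434234734123432)) (.node 1 (.leaf 0x654763434234723432) (.leaf 0x67342347534234723432))) (.node 2 (.node 1 (.leaf 0x6347534652343423432) (.leaf 0x454234764342346123432)) (.node 1 (.leaf 0x7465423474123432) (.leaf 0x623434623453476432)))) (.node 4 (.node 2 (.node 1 (.leaf 0x7123434523434723432) (.leaf 0x54341234347423432)) (.node 1 (.leaf 0x6434742345346423432) (.leaf 0x347452342346123432))) (.node 2 (.node 1 (.leaf 0x6743423434234743432) (.leaf 0x234634234234123432)) (.node 1 (.leaf 0x64742346343423473432) (.leaf 0x7434523475423432))))) (.node 8 (.node 4 (.node 2 (.node 1 (.leaf 0x54623473423474123432) (.leaf 0x6742345346423432)) (.node 1 (.leaf 0x23434643423467432) (.leaf 0x434234347423432))) (.node 2 (.node 1 (.leaf 0x4234764534234623432) (.leaf 0x6234743463423467432)) (.node 1 (.leaf 0x472346542347423432)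 (.leaf 0x52346234234234623432)))) (.node 4 (.node 2 (.node 1 (.leaf 0x2342346534234623432) (.leaf 0x753434234723432)) (.node 1 (.leaf 0x423473423474123432) (.leaf 0x46123473423474123432))) (.node 2 (.node 1 (.leaf 0x76452346342346423432) (.leaf 0x2345347534234723432)) (.node 1 (.leaf 0x74234612342346123432) (.leaf 0x453473423432)))))))

def classATree_155 : Tree :=
  .node 64 (.node 32 (.node 16 (.node 8 (.node 4 (.node 2 (.node 1 (.leaf 0x62347643423476432) (.leaf 0x7543467423432)) (.node 1 (.leaf 0x3472346234347123432) (.leaf 0x5347543423476432))) (.node 2 (.node 1 (.leaf 0x7434623434723432) (.leaf 0x34234643423473432)) (.node 1 (.leaf 0x7463423473423432) (.leaf 0x647642341234723432)))) (.node 4 (.node 2 (.node 1 (.leaf 0x347543423467432) (.leaf 0x234634342347123432)) (.node 1 (.leaf 0x7434623434234743432) (.leaf 0x542346743423467432))) (.node 2 (.node 1 (.leaf 0x123434754234723432) (.leaf 0x6474234234234723432)) (.node 1 (.leaf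 0x74634234123432) (.leaf 0x673423473423463432))))) (.node 8 (.node 4 (.node 2 (.node 1 (.leaf 0x64346434234723432) (.leaf 0x5476434123463432)) (.node 1 (.leaf 0x5476434123432) (.leaf 0x5346434734234723432))) (.node 2 (.node 1 (.leaf 0x74654346423432) (.leaf 0x745346123432)) (.node 1 (.leaf 0x64742346342346123432) (.leaf 0x123464342346123432)))) (.node 4 (.node 2 (.node 1 (.leaf 0x72346343423463432) (.leaf 0x5234634123476432)) (.node 1 (.leaf 0x4764534234723432) (.leaf 0x6343475463423463432))) (.node 2 (.node 1 (.leaf 0x723463434723432) (.leaf 0x434654347423432)) (.node 1 (.leaf 0x67346743423476432) (.leaf 0x547634764234623432)))))) (.node 16 (.node 8 (.node 4 (.node 2 (.node 1 (.leaf 0x5347434123467432) (.leaf 0x74634234346423432)) (.node 1 (.leaf 0x4652342347123432) (.leaf 0x534743452343423432))) (.node 2 (.node 1 (.leaf 0x753434754123476432) (.leaf 0x2346341234234623432)) (.node 1 (.leaf 0x1234734123467432) (.leaf 0x7465347341234623432))))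 (.node 4 (.node 2 (.node 1 (.leaf 0x753434234347423432) (.leaf 0x4653423432)) (.node 1 (.leaf 0x474543423473432) (.leaf 0x7463423453423432))) (.node 2 (.node 1 (.leaf 0x743454234723432) (.leaf 0x123464743423476432)) (.node 1 (.leaf 0x7434674612343423432) (.leaf 0x41234234653432))))) (.node 8 (.node 4 (.node 2 (.node 1 (.leaf 0x23465434523463432) (.leaf 0x43465423462343423432)) (.node 1 (.leaf 0x46453473412347423432) (.leaf 0x43473434123463432))) (.node 2 (.node 1 (.leaf 0x674342347345234723432) (.leaf 0x347342347643423467432)) (.node 1 (.leaf 0x6734634234754123432) (.leaf 0x3434623453476432)))) (.node 4 (.node 2 (.node 1 (.leaf 0x7434634234654123432) (.leaf 0x6534346454234723432)) (.node 1 (.leaf 0x74342346347423432) (.leaf 0x74654234234653432))) (.node 2 (.node 1 (.leaf 0x3467463423467432) (.leaf 0x347534652343423432)) (.node 1 (.leaf 0x346534123476432) (.leaf 0x34346234234123432))))))) (.node 32 (.node 16 (.node 8 (.node 4 (.node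 2 (.node 1 (.leaf 0x343476434123432) (.leaf 0x73463473423463432)) (.node 1 (.leaf 0x76476434623432) (.leaf 0x743476434234653432))) (.node 2 (.node 1 (.leaf 0x54612347343423473432) (.leaf 0x47543423432)) (.node 1 (.leaf 0x47543423463432) (.leaf 0x47346454234723432)))) (.node 4 (.node 2 (.node 1 (.leaf 0x4674347642346123432) (.leaf 0x74342341234723432)) (.node 1 (.leaf 0x4534634734123476432) (.leaf 0x76423475234234723432))) (.node 2 (.node 1 (.leaf 0x34346542346423432) (.leaf 0x4754342343423473432)) (.node 1 (.leaf 0x2345346341234623432) (.leaf 0x47634347123434123432))))) (.node 8 (.node 4 (.node 2 (.node 1 (.leaf 0x23463473423467423432) (.leaf 0x3453423464123432)) (.node 1 (.leaf 0x6234347542347123432) (.leaf 0x53463434723432))) (.node 2 (.node 1 (.leaf 0x742347543464123432) (.leaf 0x34754634123476432)) (.node 1 (.leaf 0x73434643423473432) (.leaf 0x4342342347123432)))) (.node 4 (.node 2 (.node 1 (.leaf 0x674674234234653432) (.leaf 0x734634723465423432))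 (.node 1 (.leaf 0x6343423453465423432) (.leaf 0x5423474342347123432))) (.node 2 (.node 1 (.leaf 0x423423473423432) (.leaf 0x46534342346423432)) (.node 1 (.leaf 0x47434523472343423432) (.leaf 0x476434123432)))))) (.node 16 (.node 8 (.node 4 (.node 2 (.node 1 (.leaf 0x476434123463432) (.leaf 0x65343473423432)) (.node 1 (.leaf 0x76423465341234623432) (.leaf 0x4753434723434123432))) (.node 2 (.node 1 (.leaf 0x634342343423463432) (.leaf 0x3423464345234623432)) (.node 1 (.leaf 0x346234734123463432) (.leaf 0x63434653423432)))) (.node 4 (.node 2 (.node 1 (.leaf 0x3462347341234723432) (.leaf 0x534764534234653432)) (.node 1 (.leaf 0x4674534123476432) (.leaf 0x76434123473423432))) (.node 2 (.node 1 (.leaf 0x6343473423463432) (.leaf 0x234642341234623432)) (.node 1 (.leaf 0x7467453423476432) (.leaf 0x34623453423476432))))) (.node 8 (.node 4 (.node 2 (.node 1 (.leaf 0x6742343423473432) (.leaf 0x763434623434123432)) (.node 1 (.leaf 0x634346534234623432)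 (.leaf 0x234634534234653432))) (.node 2 (.node 1 (.leaf 0x343452343475423432) (.leaf 0x6542347234234723432)) (.node 1 (.leaf 0x4534723465423432) (.leaf 0x43453423473432)))) (.node 4 (.node 2 (.node 1 (.leaf 0x453434754123432) (.leaf 0x43423423423475432)) (.node 1 (.leaf 0x5347641234623432) (.leaf 0x47534342346423432))) (.node 2 (.node 1 (.leaf 0x674652343423432) (.leaf 0x4543473434234743432)) (.node 1 (.leaf 0x234623434234723432) (.leaf 0x64347345234723432)))))))

def classATree_156 : Tree :=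
  .node 64 (.node 32 (.node 16 (.node 8 (.node 4 (.node 2 (.node 1 (.leaf 0x75467434234723432) (.leaf 0x45434712343423432)) (.node 1 (.leaf 0x34623473412347423432) (.leaf 0x54346534723453423432))) (.node 2 (.node 1 (.leaf 0x672343473423432) (.leaf 0x54634345234723432)) (.node 1 (.leaf 0x423462342346423432) (.leaf 0x723434654234123473432)))) (.node 4 (.node 2 (.node 1 (.leaf 0x54674343423463432) (.leaf 0x4753434234753432)) (.node 1 (.leaf 0x46434234123473432) (.leaf 0x6343465342346423432))) (.node 2 (.node 1 (.leaf 0x74342346123432) (.leaf 0x453423463423432)) (.node 1 (.leaf 0x54346542347123432) (.leaf 0x543423463432))))) (.node 8 (.node 4 (.node 2 (.node 1 (.leaf 0x6746743423463432) (.leaf 0x423473462343423432)) (.node 1 (.leaf 0x523465434234753432) (.leaf 0x74634712343423432))) (.node 2 (.node 1 (.leaf 0x7345346343423473432) (.leaf 0x45423465423432)) (.node 1 (.leaf 0x4754123423473423432) (.leaf 0x7523423473423432)))) (.node 4 (.node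 2 (.node 1 (.leaf 0x434643452346423432) (.leaf 0x65434653412346423432)) (.node 1 (.leaf 0x3453465341234623432) (.leaf 0x634346342346123432))) (.node 2 (.node 1 (.leaf 0x7343463453423463432) (.leaf 0x673463452346423432)) (.node 1 (.leaf 0x7423453423467432) (.leaf 0x734642341234723432)))))) (.node 16 (.node 8 (.node 4 (.node 2 (.node 1 (.leaf 0x6347434123476432) (.leaf 0x634341234634123432)) (.node 1 (.leaf 0x23467434123463432) (.leaf 0x5347434123432))) (.node 2 (.node 1 (.leaf 0x634542346423432) (.leaf 0x3473423432)) (.node 1 (.leaf 0x6234234123463423432) (.leaf 0x7534347642346123432)))) (.node 4 (.node 2 (.node 1 (.leaf 0x342346423432) (.leaf 0x74346343423463432)) (.node 1 (.leaf 0x7434643423474123432) (.leaf 0x634342346347423432))) (.node 2 (.node 1 (.leaf 0x76423463423463432) (.leaf 0x6723434623434123432)) (.node 1 (.leaf 0x7234674234123463432) (.leaf 0x764343423473432))))) (.node 8 (.node 4 (.node 2 (.node 1 (.leaf 0x4754634523473432)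 (.leaf 0x546474634234753432)) (.node 1 (.leaf 0x4754234634234623432) (.leaf 0x234754234123463432))) (.node 2 (.node 1 (.leaf 0x6234234123432) (.leaf 0x634342346234123432)) (.node 1 (.leaf 0x763423464123432) (.leaf 0x42342346743423476432)))) (.node 4 (.node 2 (.node 1 (.leaf 0x7623434123432) (.leaf 0x543463434123463432)) (.node 1 (.leaf 0x4523434123467432) (.leaf 0x6347123434123432))) (.node 2 (.node 1 (.leaf 0x76423464534234623432) (.leaf 0x62347234346123432)) (.node 1 (.leaf 0x34234642342346423432) (.leaf 0x63472343423432))))))) (.node 32 (.node 16 (.node 8 (.node 4 (.node 2 (.node 1 (.leaf 0x34347645234623432) (.leaf 0x764342342346423432)) (.node 1 (.leaf 0x6434764342346123432) (.leaf 0x63473423476432))) (.node 2 (.node 1 (.leaf 0x74634234523473432) (.leaf 0x1234634123432)) (.node 1 (.leaf 0x347343423476432) (.leaf 0x4523434734234723432)))) (.node 4 (.node 2 (.node 1 (.leaf 0x6123434623434123432) (.leaf 0x653434234723432)) (.node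 1 (.leaf 0x6347343423432) (.leaf 0x3471234346542347123432))) (.node 2 (.node 1 (.leaf 0x64534653423463432) (.leaf 0x753412346423432)) (.node 1 (.leaf 0x654342347342347123432) (.leaf 0x4234723463423464123432))))) (.node 8 (.node 4 (.node 2 (.node 1 (.leaf 0x423464343423463432) (.leaf 0x74645434723432)) (.node 1 (.leaf 0x45234643423476432) (.leaf 0x4123463423476432))) (.node 2 (.node 1 (.leaf 0x623476434123476432) (.leaf 0x34743465423432)) (.node 1 (.leaf 0x423464534123476432) (.leaf 0x712343423467423432)))) (.node 4 (.node 2 (.node 1 (.leaf 0x7423462342346123432) (.leaf 0x434753423432)) (.node 1 (.leaf 0x764234654234623432) (.leaf 0x465434723465432))) (.node 2 (.node 1 (.leaf 0x5346543423475432) (.leaf 0x34543473432)) (.node 1 (.leaf 0x42346543423463432) (.leaf 0x6547543423465432)))))) (.node 16 (.node 8 (.node 4 (.node 2 (.node 1 (.leaf 0x764723423465423432) (.leaf 0x347543434234743432)) (.node 1 (.leaf 0x4734346234346423432) (.leaf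 0x3464543423467432))) (.node 2 (.node 1 (.leaf 0x47234346542347123432) (.leaf 0x753434654234623432)) (.node 1 (.leaf 0x7534634523475423432) (.leaf 0x73465434123467432)))) (.node 4 (.node 2 (.node 1 (.leaf 0x42346743463423473432) (.leaf 0x5343464542346423432)) (.node 1 (.leaf 0x534653423475423432) (.leaf 0x546534762343423432))) (.node 2 (.node 1 (.leaf 0x746347623434123432) (.leaf 0x647543423432)) (.node 1 (.leaf 0x6475463423463432) (.leaf 0x654345234347123432))))) (.node 8 (.node 4 (.node 2 (.node 1 (.leaf 0x753463423467432) (.leaf 0x75234234523473432)) (.node 1 (.leaf 0x764342346743423476432) (.leaf 0x475434712343423432))) (.node 2 (.node 1 (.leaf 0x347346723434123432) (.leaf 0x74674234234623432)) (.node 1 (.leaf 0x5346234123476432) (.leaf 0x34234723463423467432)))) (.node 4 (.node 2 (.node 1 (.leaf 0x5234234234753432) (.leaf 0x7346234523465423432)) (.node 1 (.leaf 0x46454234623432) (.leaf 0x4623473423453423432))) (.node 2 (.node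 1 (.leaf 0x65434612343423432) (.leaf 0x6547234234723432)) (.node 1 (.leaf 0x6474346345234623432) (.leaf 0x47346342346123432)))))))

def classATree_157 : Tree :=
  .node 64 (.node 32 (.node 16 (.node 8 (.node 4 (.node 2 (.node 1 (.leaf 0x753434234764123432) (.leaf 0x34674343423463432)) (.node 1 (.leaf 0x4647343423432) (.leaf 0x7645346123434123432))) (.node 2 (.node 1 (.leaf 0x67423474345234723432) (.leaf 0x474234234723432)) (.node 1 (.leaf 0x746542346423432) (.leaf 0x45346234234753432)))) (.node 4 (.node 2 (.node 1 (.leaf 0x6347345342347423432) (.leaf 0x53434746423432)) (.node 1 (.leaf 0x347434534234753432) (.leaf 0x534753434523473432))) (.node 2 (.node 1 (.leaf 0x454342346342346123432) (.leaf 0x7543412346345234623432)) (.node 1 (.leaf 0x34123473423432) (.leaf 0x46434234234623432))))) (.node 8 (.node 4 (.node 2 (.node 1 (.leaf 0x7543434234743432) (.leaf 0x434754345423473432)) (.node 1 (.leaf 0x734123473423432) (.leaf 0x746434234234623432)))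 (.node 2 (.node 1 (.leaf 0x4234653423476432) (.leaf 0x4234643423476432)) (.node 1 (.leaf 0x347534634234743432) (.leaf 0x64343465423432)))) (.node 4 (.node 2 (.node 1 (.leaf 0x3452347341234723432) (.leaf 0x534764345423463432)) (.node 1 (.leaf 0x6434123473423432) (.leaf 0x467453423476432))) (.node 2 (.node 1 (.leaf 0x74674534123476432) (.leaf 0x76343473423463432)) (.node 1 (.leaf 0x1234642341234623432) (.leaf 0x6542343423473432)))))) (.node 16 (.node 8 (.node 4 (.node 2 (.node 1 (.leaf 0x63434623434123432) (.leaf 0x7634346534234623432)) (.node 1 (.leaf 0x346523434123476432) (.leaf 0x7234634534234653432))) (.node 2 (.node 1 (.leaf 0x7343452343475423432) (.leaf 0x123464743423467432)) (.node 1 (.leaf 0x546452343423432) (.leaf 0x5463473452346423432)))) (.node 4 (.node 2 (.node 1 (.leaf 0x546474342347123432) (.leaf 0x764347345234723432)) (.node 1 (.leaf 0x5467434234723432) (.leaf 0x745434712343423432))) (.node 2 (.node 1 (.leaf 0x74534723465423432)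 (.leaf 0x512343473423432)) (.node 1 (.leaf 0x434234634234643432) (.leaf 0x534764346123432))))) (.node 8 (.node 4 (.node 2 (.node 1 (.leaf 0x5342345347423432) (.leaf 0x743453423473432)) (.node 1 (.leaf 0x7423462342346423432) (.leaf 0x23434654234123473432))) (.node 2 (.node 1 (.leaf 0x67463434234753432) (.leaf 0x346123473423474123432)) (.node 1 (.leaf 0x6123473452347423432) (.leaf 0x4342346123432)))) (.node 4 (.node 2 (.node 1 (.leaf 0x4654346123434123432) (.leaf 0x4634712343423432)) (.node 1 (.leaf 0x463434712343423432) (.leaf 0x4534123473423463432))) (.node 2 (.node 1 (.leaf 0x5463434743423463432) (.leaf 0x754346542347123432)) (.node 1 (.leaf 0x7543423463432) (.leaf 0x5464743423463432))))))) (.node 32 (.node 16 (.node 8 (.node 4 (.node 2 (.node 1 (.leaf 0x7453423463423432) (.leaf 0x465423463423432)) (.node 1 (.leaf 0x754674343423463432) (.leaf 0x47453434234753432))) (.node 2 (.node 1 (.leaf 0x434734234347423432) (.leaf 0x345346343423473432))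 (.node 1 (.leaf 0x3474234623434723432) (.leaf 0x546743423467453432)))) (.node 4 (.node 2 (.node 1 (.leaf 0x4534234234723432) (.leaf 0x453423423473423432)) (.node 1 (.leaf 0x4346123434723432) (.leaf 0x4346123434234623432))) (.node 2 (.node 1 (.leaf 0x5434642341234623432) (.leaf 0x4534234734123432)) (.node 1 (.leaf 0x5423434234643432) (.leaf 0x434234534234723432))))) (.node 8 (.node 4 (.node 2 (.node 1 (.leaf 0x6123434523434723432) (.leaf 0x7412347343423473432)) (.node 1 (.leaf 0x542341234634123432) (.leaf 0x54346423432))) (.node 2 (.node 1 (.leaf 0x45343423432) (.leaf 0x5434734342347123432)) (.node 1 (.leaf 0x4534674342347423432) (.leaf 0x453474534234723432)))) (.node 4 (.node 2 (.node 1 (.leaf 0x4123434234643432) (.leaf 0x5463423473423432)) (.node 1 (.leaf 0x7542347343423473432) (.leaf 0x46434753423467432))) (.node 2 (.node 1 (.leaf 0x45347643423473432) (.leaf 0x467346234234623432)) (.node 1 (.leaf 0x2346434523475423432) (.leaf 0x475423423463423432))))))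 (.node 16 (.node 8 (.node 4 (.node 2 (.node 1 (.leaf 0x43475342346123432) (.leaf 0x46743452346743432)) (.node 1 (.leaf 0x343423463423432) (.leaf 0x5434623434234623432))) (.node 2 (.node 1 (.leaf 0x74534346542346123432) (.leaf 0x43464123432)) (.node 1 (.leaf 0x453423432) (.leaf 0x476453423473432)))) (.node 4 (.node 2 (.node 1 (.leaf 0x43423453423432) (.leaf 0x54634234723432)) (.node 1 (.leaf 0x712343475423476432) (.leaf 0x1234743423453423432))) (.node 2 (.node 1 (.leaf 0x4523423463423432) (.leaf 0x4534764342346423432)) (.node 1 (.leaf 0x54234123432) (.leaf 0x54764234123473432))))) (.node 8 (.node 4 (.node 2 (.node 1 (.leaf 0x64534347542347123432) (.leaf 0x343423453423432)) (.node 1 (.leaf 0x434734346123432) (.leaf 0x46341234723432))) (.node 2 (.node 1 (.leaf 0x434234534734123432) (.leaf 0x2346453434623476432)) (.node 1 (.leaf 0x73452343464123432) (.leaf 0x345234346423432)))) (.node 4 (.node 2 (.node 1 (.leaf 0x347434234123476432) (.leaf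 0x34723434123432)) (.node 1 (.leaf 0x4234634123432) (.leaf 0x654754234234653432))) (.node 2 (.node 1 (.leaf 0x34523473423432) (.leaf 0x34623434623432)) (.node 1 (.leaf 0x34753434123467432) (.leaf 0x743412346342346123432)))))))

def classATree_158 : Tree :=
  .node 64 (.node 32 (.node 16 (.node 8 (.node 4 (.node 2 (.node 1 (.leaf 0x234523473434123463432) (.leaf 0x2347534634234723432)) (.node 1 (.leaf 0x546345342346423432) (.leaf 0x3465423423463423432))) (.node 2 (.node 1 (.leaf 0x53475343423467432) (.leaf 0x75342347346423432)) (.node 1 (.leaf 0x4742342346123432) (.leaf 0x434653473423463432)))) (.node 4 (.node 2 (.node 1 (.leaf 0x64763434234723432) (.leaf 0x76342347534234723432)) (.node 1 (.leaf 0x63473452347423432) (.leaf 0x67234347454234623432))) (.node 2 (.node 1 (.leaf 0x73423474346423432) (.leaf 0x5473434643423473432)) (.node 1 (.leaf 0x5342345346423432) (.leaf 0x534743453423467432))))) (.node 8 (.node 4 (.node 2 (.node 1 (.leaf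 0x534234753423432) (.leaf 0x61234347542346123432)) (.node 1 (.leaf 0x7647346343423463432) (.leaf 0x3472345346423432))) (.node 2 (.node 1 (.leaf 0x547452343423463432) (.leaf 0x46452347343423473432)) (.node 1 (.leaf 0x7423474346423432) (.leaf 0x734642342346423432)))) (.node 4 (.node 2 (.node 1 (.leaf 0x234712343423467432) (.leaf 0x472345346423432)) (.node 1 (.leaf 0x2343463434234643432) (.leaf 0x46454342346423432))) (.node 2 (.node 1 (.leaf 0x5347123434123432) (.leaf 0x7423463423432)) (.node 1 (.leaf 0x647541234234653432) (.leaf 0x634234234234753432)))))) (.node 16 (.node 8 (.node 4 (.node 2 (.node 1 (.leaf 0x12343423453423465432) (.leaf 0x2343423453423476432)) (.node 1 (.leaf 0x653473423474123432) (.leaf 0x34623434234723432))) (.node 2 (.node 1 (.leaf 0x754342346342346123432) (.leaf 0x23462347342347423432)) (.node 1 (.leaf 0x4654347123432) (.leaf 0x6123473423453423432)))) (.node 4 (.node 2 (.node 1 (.leaf 0x5434723467432) (.leaf 0x434234764123432))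 (.node 1 (.leaf 0x4341234634123432) (.leaf 0x3476423423423465432))) (.node 2 (.node 1 (.leaf 0x4734623434234623432) (.leaf 0x5463473434123473432)) (.node 1 (.leaf 0x5434723434123432) (.leaf 0x523465434523473432))))) (.node 8 (.node 4 (.node 2 (.node 1 (.leaf 0x47463472343423432) (.leaf 0x7341234634234643432)) (.node 1 (.leaf 0x4234734612343423432) (.leaf 0x674234347423432))) (.node 2 (.node 1 (.leaf 0x423463434523473432) (.leaf 0x4234534634234623432)) (.node 1 (.leaf 0x4234612342346423432) (.leaf 0x46743434234643432)))) (.node 4 (.node 2 (.node 1 (.leaf 0x6453475341234723432) (.leaf 0x46453434123473432)) (.node 1 (.leaf 0x6723434234723432) (.leaf 0x673453462343423432))) (.node 2 (.node 1 (.leaf 0x473453423464123432) (.leaf 0x4347453412346423432)) (.node 1 (.leaf 0x53473434723432) (.leaf 0x3454234734234723432))))))) (.node 32 (.node 16 (.node 8 (.node 4 (.node 2 (.node 1 (.leaf 0x3476434234653432) (.leaf 0x467463452346423432)) (.node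 1 (.leaf 0x672346234234623432) (.leaf 0x234634345423463432))) (.node 2 (.node 1 (.leaf 0x764534234734123432) (.leaf 0x745341234623432)) (.node 1 (.leaf 0x46743423476432) (.leaf 0x647543412347423432)))) (.node 4 (.node 2 (.node 1 (.leaf 0x4734534234753432) (.leaf 0x45343423473432)) (.node 1 (.leaf 0x7467434123476432) (.leaf 0x764346434123463432))) (.node 2 (.node 1 (.leaf 0x72343464543423473432) (.leaf 0x546347341234623432)) (.node 1 (.leaf 0x6746523434123432) (.leaf 0x34345347423432))))) (.node 8 (.node 4 (.node 2 (.node 1 (.leaf 0x347642346123432) (.leaf 0x6723462342346423432)) (.node 1 (.leaf 0x54234123463432) (.leaf 0x674674234123463432))) (.node 2 (.node 1 (.leaf 0x343475342346123432) (.leaf 0x4523475343423467432)) (.node 1 (.leaf 0x54346454234723432) (.leaf 0x34542347343423463432)))) (.node 4 (.node 2 (.node 1 (.leaf 0x45423463423476432) (.leaf 0x764123423473423432)) (.node 1 (.leaf 0x6746543423467432) (.leaf 0x42346453423432)))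 (.node 2 (.node 1 (.leaf 0x764534234234723432) (.leaf 0x674346345234623432)) (.node 1 (.leaf 0x347234634234643432) (.leaf 0x5347346342346423432)))))) (.node 16 (.node 8 (.node 4 (.node 2 (.node 1 (.leaf 0x74623474342347423432) (.leaf 0x47464341234623432)) (.node 1 (.leaf 0x123434234623432) (.leaf 0x745423462343423432))) (.node 2 (.node 1 (.leaf 0x46347542346423432) (.leaf 0x754345234723432)) (.node 1 (.leaf 0x5423464341234643432) (.leaf 0x623453423473432)))) (.node 4 (.node 2 (.node 1 (.leaf 0x12346743423463432) (.leaf 0x4234346542347123432)) (.node 1 (.leaf 0x42346453423463432) (.leaf 0x7465473423476432))) (.node 2 (.node 1 (.leaf 0x745234346342346123432) (.leaf 0x47434543423473432)) (.node 1 (.leaf 0x534674347123432) (.leaf 0x7643475342346123432))))) (.node 8 (.node 4 (.node 2 (.node 1 (.leaf 0x52343423476423432) (.leaf 0x523476434123476432)) (.node 1 (.leaf 0x54652347343423473432) (.leaf 0x67434523467423432))) (.node 2 (.node 1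 (.leaf 0x34734234653432) (.leaf 0x34754346472343423432)) (.node 1 (.leaf 0x64542346743423467432) (.leaf 0x5474341234723432)))) (.node 4 (.node 2 (.node 1 (.leaf 0x473463434234623432) (.leaf 0x53412346343423473432)) (.node 1 (.leaf 0x74542346423432) (.leaf 0x6453423473423432))) (.node 2 (.node 1 (.leaf 0x645234347342347123432) (.leaf 0x123434234347423432)) (.node 1 (.leaf 0x75434123463432) (.leaf 0x54647434123463432)))))))

def classATree_159 : Tree :=
  .node 64 (.node 32 (.node 16 (.node 8 (.node 4 (.node 2 (.node 1 (.leaf 0x234734234623432) (.leaf 0x4634754234623432)) (.node 1 (.leaf 0x453434723434123432) (.leaf 0x12343423432))) (.node 2 (.node 1 (.leaf 0x12343423473432) (.leaf 0x72346453423463432)) (.node 1 (.leaf 0x453462343423432) (.leaf 0x67423462343423432)))) (.node 4 (.node 2 (.node 1 (.leaf 0x674653434123432) (.leaf 0x34723434234653432)) (.node 1 (.leaf 0x47642341234734123432) (.leaf 0x764523423473423432))) (.node 2 (.node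 1 (.leaf 0x7645234764234623432) (.leaf 0x234643473423463432)) (.node 1 (.leaf 0x534347434234643432) (.leaf 0x54346745234723432))))) (.node 8 (.node 4 (.node 2 (.node 1 (.leaf 0x475423453423463432) (.leaf 0x34534612343423432)) (.node 1 (.leaf 0x5474534234653432) (.leaf 0x2347234234623432))) (.node 2 (.node 1 (.leaf 0x4523462342346123432) (.leaf 0x234634734123476432)) (.node 1 (.leaf 0x743423434234743432) (.leaf 0x34754653423467432)))) (.node 4 (.node 2 (.node 1 (.leaf 0x6345346341234723432) (.leaf 0x34634234674123432)) (.node 1 (.leaf 0x347346343423467432) (.leaf 0x7343465434523463432))) (.node 2 (.node 1 (.leaf 0x534653473423463432) (.leaf 0x53434234234723432)) (.node 1 (.leaf 0x3423464543423473432) (.leaf 0x234734634234623432)))))) (.node 16 (.node 8 (.node 4 (.node 2 (.node 1 (.leaf 0x5346534734234643432) (.leaf 0x3463423474123432)) (.node 1 (.leaf 0x42347434234654123432) (.leaf 0x6434347423432))) (.node 2 (.node 1 (.leaf 0x67452346345234623432)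 (.leaf 0x3423464234234723432)) (.node 1 (.leaf 0x74342343423473432) (.leaf 0x45234634734123476432)))) (.node 4 (.node 2 (.node 1 (.leaf 0x547643423463432) (.leaf 0x547643423432)) (.node 1 (.leaf 0x34346434234623432) (.leaf 0x647645343423432))) (.node 2 (.node 1 (.leaf 0x4674523423463423432) (.leaf 0x647643464123432)) (.node 1 (.leaf 0x5475434123463432) (.leaf 0x5475434123432))))) (.node 8 (.node 4 (.node 2 (.node 1 (.leaf 0x6234346234346423432) (.leaf 0x2346434723434623432)) (.node 1 (.leaf 0x647464341234723432) (.leaf 0x53465347342347123432))) (.node 2 (.node 1 (.leaf 0x6345347343423473432) (.leaf 0x4623473434623432)) (.node 1 (.leaf 0x34634347123432) (.leaf 0x534342343423463432)))) (.node 4 (.node 2 (.node 1 (.leaf 0x4534341234643432) (.leaf 0x54123423473423432)) (.node 1 (.leaf 0x4123474342347123432) (.leaf 0x34346434234753432))) (.node 2 (.node 1 (.leaf 0x546342342347123432) (.leaf 0x534653423476432)) (.node 1 (.leaf 0x5343465412346423432)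 (.leaf 0x7543476423464123432))))))) (.node 32 (.node 16 (.node 8 (.node 4 (.node 2 (.node 1 (.leaf 0x5343465423467432) (.leaf 0x7346434523475423432)) (.node 1 (.leaf 0x462347343423473432) (.leaf 0x746454234234653432))) (.node 2 (.node 1 (.leaf 0x34634234234753432) (.leaf 0x634346542347123432)) (.node 1 (.leaf 0x5423465234234623432) (.leaf 0x7234634523475423432)))) (.node 4 (.node 2 (.node 1 (.leaf 0x4764523423473423432) (.leaf 0x64523423473423432)) (.node 1 (.leaf 0x546743452346743432) (.leaf 0x434623434234623432))) (.node 2 (.node 1 (.leaf 0x423475434123463432) (.leaf 0x3434645434234653432)) (.node 1 (.leaf 0x45341234234723432) (.leaf 0x47434634523475423432))))) (.node 8 (.node 4 (.node 2 (.node 1 (.leaf 0x753434643423473432) (.leaf 0x47541234234723432)) (.node 1 (.leaf 0x34634523467423432) (.leaf 0x6454346434234723432))) (.node 2 (.node 1 (.leaf 0x3463453423463432) (.leaf 0x423464743423467432)) (.node 1 (.leaf 0x642346534234623432)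 (.leaf 0x75343473423432)))) (.node 4 (.node 2 (.node 1 (.leaf 0x7234534634234623432) (.leaf 0x343464543423432)) (.node 1 (.leaf 0x234654234234753432) (.leaf 0x647645346123432))) (.node 2 (.node 1 (.leaf 0x475434123432) (.leaf 0x634347454234723432)) (.node 1 (.leaf 0x475434123463432) (.leaf 0x3463434654234723432)))))) (.node 16 (.node 8 (.node 4 (.node 2 (.node 1 (.leaf 0x454234234234723432) (.leaf 0x742346347234346123432)) (.node 1 (.leaf 0x346343423463432) (.leaf 0x4347123434723432))) (.node 2 (.node 1 (.leaf 0x7534634123476432) (.leaf 0x6423452342347123432)) (.node 1 (.leaf 0x475434123463423432) (.leaf 0x346453423475423432)))) (.node 4 (.node 2 (.node 1 (.leaf 0x45347642346423432) (.leaf 0x4743453472343423432)) (.node 1 (.leaf 0x54764341234723432) (.leaf 0x4234642341234623432))) (.node 2 (.node 1 (.leaf 0x43452346342346123432) (.leaf 0x74234123473423432)) (.node 1 (.leaf 0x7534342346423432) (.leaf 0x4753434764234723432))))) (.node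 8 (.node 4 (.node 2 (.node 1 (.leaf 0x673463434723432) (.leaf 0x4234754346423432)) (.node 1 (.leaf 0x7534346542346123432) (.leaf 0x4746453423463432))) (.node 2 (.node 1 (.leaf 0x546543423432) (.leaf 0x474346542347123432)) (.node 1 (.leaf 0x34342347234234723432) (.leaf 0x4654234523463432)))) (.node 4 (.node 2 (.node 1 (.leaf 0x34634523465423432) (.leaf 0x3465434754234623432)) (.node 1 (.leaf 0x674634234234623432) (.leaf 0x34743434234743432))) (.node 2 (.node 1 (.leaf 0x75423465341234623432) (.leaf 0x754673434123432)) (.node 1 (.leaf 0x7542342347423432) (.leaf 0x12346743423476432)))))))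

def classATree_160 : Tree :=
  .node 64 (.node 32 (.node 16 (.node 8 (.node 4 (.node 2 (.node 1 (.leaf 0x1234234234723432) (.leaf 0x47546743423476432)) (.node 1 (.leaf 0x5474534123476432) (.leaf 0x754634123467432))) (.node 2 (.node 1 (.leaf 0x64347643473423463432) (.leaf 0x6452347234234723432)) (.node 1 (.leaf 0x74123474342347423432) (.leaf 0x5463453423473432)))) (.node 4 (.node 2 (.node 1 (.leaf 0x4745434234623432) (.leaf 0x53472346341234643432)) (.node 1 (.leaf 0x2347234345423473432) (.leaf 0x434742346342346423432))) (.node 2 (.node 1 (.leaf 0x434743462343423432) (.leaf 0x6474342347123432)) (.node 1 (.leaf 0x65347345234723432) (.leaf 0x12343474612343423432))))) (.node 8 (.node 4 (.node 2 (.node 1 (.leaf 0x67463434234653432) (.leaf 0x54234642342346423432)) (.node 1 (.leaf 0x64764534234723432) (.leaf 0x52343465423432))) (.node 2 (.node 1 (.leaf 0x6434612343475423432) (.leaf 0x6745346342346123432)) (.node 1 (.leaf 0x6534346541234623432)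 (.leaf 0x76472343423473432)))) (.node 4 (.node 2 (.node 1 (.leaf 0x4346547342347423432) (.leaf 0x53462343423476432)) (.node 1 (.leaf 0x6746343423432) (.leaf 0x346743454234723432))) (.node 2 (.node 1 (.leaf 0x345346543423463432) (.leaf 0x347543434234643432)) (.node 1 (.leaf 0x54653423463423432) (.leaf 0x534234123473432)))))) (.node 16 (.node 8 (.node 4 (.node 2 (.node 1 (.leaf 0x1234734234653432) (.leaf 0x4673434234653432)) (.node 1 (.leaf 0x6746542346123432) (.leaf 0x5464543423463432))) (.node 2 (.node 1 (.leaf 0x7464543423463432) (.leaf 0x674634234234123432)) (.node 1 (.leaf 0x7546123472343423432) (.leaf 0x6543473462343423432)))) (.node 4 (.node 2 (.node 1 (.leaf 0x346547634234753432) (.leaf 0x742345347123432)) (.node 1 (.leaf 0x3434754123476432) (.leaf 0x7461234234723432))) (.node 2 (.node 1 (.leaf 0x3473452343423432) (.leaf 0x46343423463423432)) (.node 1 (.leaf 0x745234234653432) (.leaf 0x43462341234623432))))) (.node 8 (.node 4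 (.node 2 (.node 1 (.leaf 0x434623473423476432) (.leaf 0x347543412347423432)) (.node 1 (.leaf 0x347234123476432) (.leaf 0x4653434123432))) (.node 2 (.node 1 (.leaf 0x434734342346123432) (.leaf 0x6234745234234723432)) (.node 1 (.leaf 0x47623423463423432) (.leaf 0x4634734342347123432)))) (.node 4 (.node 2 (.node 1 (.leaf 0x2347343454234623432) (.leaf 0x434623432)) (.node 1 (.leaf 0x23465434612343423432) (.leaf 0x543474342347123432))) (.node 2 (.node 1 (.leaf 0x465234342346423432) (.leaf 0x43423473423432)) (.node 1 (.leaf 0x65434347542347123432) (.leaf 0x463473434623432))))))) (.node 32 (.node 16 (.node 8 (.node 4 (.node 2 (.node 1 (.leaf 0x234634347123432) (.leaf 0x465423423463423432)) (.node 1 (.leaf 0x423463452343423432) (.leaf 0x34523423473423432))) (.node 2 (.node 1 (.leaf 0x347543423476432) (.leaf 0x4346234347123432)) (.node 1 (.leaf 0x434623434123463432) (.leaf 0x434234723432)))) (.node 4 (.node 2 (.node 1 (.leaf 0x7523463423476432)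 (.leaf 0x23463434123463432)) (.node 1 (.leaf 0x46234123432) (.leaf 0x434234643423467432))) (.node 2 (.node 1 (.leaf 0x4754234123473432) (.leaf 0x46543423432)) (.node 1 (.leaf 0x463452343423432) (.leaf 0x54746453423463432))))) (.node 8 (.node 4 (.node 2 (.node 1 (.leaf 0x46547346423432) (.leaf 0x4234653434123476432)) (.node 1 (.leaf 0x43462343475423432) (.leaf 0x1234743423467432))) (.node 2 (.node 1 (.leaf 0x454347643423476432) (.leaf 0x5347543423467432)) (.node 1 (.leaf 0x7234634345234723432) (.leaf 0x7234634234234623432)))) (.node 4 (.node 2 (.node 1 (.leaf 0x4234723434723432) (.leaf 0x43473434234743432)) (.node 1 (.leaf 0x42346453423476432) (.leaf 0x34654341234723432))) (.node 2 (.node 1 (.leaf 0x2343423476423432) (.leaf 0x23476434123476432)) (.node 1 (.leaf 0x4743423467423432) (.leaf 0x34674347123432)))))) (.node 16 (.node 8 (.node 4 (.node 2 (.node 1 (.leaf 0x234634723434123432) (.leaf 0x3434623434623432)) (.node 1 (.leaf 0x7623423462343423432)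 (.leaf 0x4652347343423473432))) (.node 2 (.node 1 (.leaf 0x343423467423432) (.leaf 0x234634542346423432)) (.node 1 (.leaf 0x74346454342347423432) (.leaf 0x62347234234723432)))) (.node 4 (.node 2 (.node 1 (.leaf 0x463423462343423432) (.leaf 0x34234123423475432)) (.node 1 (.leaf 0x343475423432) (.leaf 0x74534234723432))) (.node 2 (.node 1 (.leaf 0x2342345347423432) (.leaf 0x234764346123432)) (.node 1 (.leaf 0x4343465434234653432) (.leaf 0x6473434623434123432))))) (.node 8 (.node 4 (.node 2 (.node 1 (.leaf 0x745343423463432) (.leaf 0x46534712343423432)) (.node 1 (.leaf 0x6454347345234723432) (.leaf 0x764342347123432))) (.node 2 (.node 1 (.leaf 0x5342347343423473432) (.leaf 0x7452346342346423432)) (.node 1 (.leaf 0x3434234753432) (.leaf 0x45347234234123476432)))) (.node 4 (.node 2 (.node 1 (.leaf 0x76476434123467432) (.leaf 0x462342346342346123432)) (.node 1 (.leaf 0x3423463434234723432) (.leaf 0x5473434234653432))) (.node 2 (.node 1 (.leaf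 0x474343423463432) (.leaf 0x7464342346423432)) (.node 1 (.leaf 0x64764342346123432) (.leaf 0x434346542346123432)))))))

def classATree_161 : Tree :=
  .node 64 (.node 32 (.node 16 (.node 8 (.node 4 (.node 2 (.node 1 (.leaf 0x46343454234723432) (.leaf 0x463423463432)) (.node 1 (.leaf 0x746743423473432) (.leaf 0x4346541234723432))) (.node 2 (.node 1 (.leaf 0x34347642346123432) (.leaf 0x434645434234753432)) (.node 1 (.leaf 0x345346741234723432) (.leaf 0x345342345346423432)))) (.node 4 (.node 2 (.node 1 (.leaf 0x4534734543423473432) (.leaf 0x46543423463423432)) (.node 1 (.leaf 0x74674234623432) (.leaf 0x434723467432))) (.node 2 (.node 1 (.leaf 0x546234123476432) (.leaf 0x54654234123476432)) (.node 1 (.leaf 0x534634234234753432) (.leaf 0x74234523463432))))) (.node 8 (.node 4 (.node 2 (.node 1 (.leaf 0x742341234723432) (.leaf 0x347534623453423432)) (.node 1 (.leaf 0x345346345234623432) (.leaf 0x34753423467432))) (.node 2 (.node 1 (.leaf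 0x534634234234623432) (.leaf 0x3453467434234653432)) (.node 1 (.leaf 0x34653423476432) (.leaf 0x7346341234723432)))) (.node 4 (.node 2 (.node 1 (.leaf 0x34534634123432) (.leaf 0x34523462343423432)) (.node 1 (.leaf 0x534634234723432) (.leaf 0x4234734234234723432))) (.node 2 (.node 1 (.leaf 0x65412346342346123432) (.leaf 0x764234234234723432)) (.node 1 (.leaf 0x746745346123432) (.leaf 0x54745434234723432)))))) (.node 16 (.node 8 (.node 4 (.node 2 (.node 1 (.leaf 0x234754653423476432) (.leaf 0x234346434123473432)) (.node 1 (.leaf 0x47123462342346123432) (.leaf 0x63434643423463432))) (.node 2 (.node 1 (.leaf 0x4754341234723432) (.leaf 0x54674534623432)) (.node 1 (.leaf 0x4723434674234623432) (.leaf 0x53474234123476432)))) (.node 4 (.node 2 (.node 1 (.leaf 0x4654347642346423432) (.leaf 0x346543463423476432)) (.node 1 (.leaf 0x346534234123463432) (.leaf 0x75346534123476432))) (.node 2 (.node 1 (.leaf 0x4542342347123432) (.leaf 0x45234734123467432))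 (.node 1 (.leaf 0x4345234734123463432) (.leaf 0x2347454346423432))))) (.node 8 (.node 4 (.node 2 (.node 1 (.leaf 0x34754346423432) (.leaf 0x74234123432)) (.node 1 (.leaf 0x4764734123463432) (.leaf 0x4634234643423467432))) (.node 2 (.node 1 (.leaf 0x7642346743423476432) (.leaf 0x465234234234723432)) (.node 1 (.leaf 0x3463454341234723432) (.leaf 0x423434743423463432)))) (.node 4 (.node 2 (.node 1 (.leaf 0x4543423432) (.leaf 0x5476453423473432)) (.node 1 (.leaf 0x347454234623432) (.leaf 0x34653434723467432))) (.node 2 (.node 1 (.leaf 0x7453476434523473432) (.leaf 0x454234234653432)) (.node 1 (.leaf 0x4123474643423476432) (.leaf 0x234653423475423432))))))) (.node 32 (.node 16 (.node 8 (.node 4 (.node 2 (.node 1 (.leaf 0x74647434123467432) (.leaf 0x764764234123476432)) (.node 1 (.leaf 0x547123463423464123432) (.leaf 0x4623473452347423432))) (.node 2 (.node 1 (.leaf 0x4523465423432) (.leaf 0x465473423463423432)) (.node 1 (.leaf 0x76476453423467432)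 (.leaf 0x534342347346423432)))) (.node 4 (.node 2 (.node 1 (.leaf 0x43473434123473432) (.leaf 0x434752343423467432)) (.node 1 (.leaf 0x6543475341234723432) (.leaf 0x7645341234723432))) (.node 2 (.node 1 (.leaf 0x64345346345234623432) (.leaf 0x534123423423475432)) (.node 1 (.leaf 0x45234347462343423432) (.leaf 0x345434234753432))))) (.node 8 (.node 4 (.node 2 (.node 1 (.leaf 0x5463434234723432) (.leaf 0x423473423467432)) (.node 1 (.leaf 0x2347643423476432) (.leaf 0x6434534634123432))) (.node 2 (.node 1 (.leaf 0x654346734234653432) (.leaf 0x764234764234623432)) (.node 1 (.leaf 0x42346347234234123432) (.leaf 0x345434764234623432)))) (.node 4 (.node 2 (.node 1 (.leaf 0x34734672343423432) (.leaf 0x7342347434123463432)) (.node 1 (.leaf 0x23472341234723432) (.leaf 0x234534764234623432))) (.node 2 (.node 1 (.leaf 0x547345434234653432) (.leaf 0x76473412347423432)) (.node 1 (.leaf 0x72346343423432) (.leaf 0x4654343423473432)))))) (.node 16 (.node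 8 (.node 4 (.node 2 (.node 1 (.leaf 0x764734623475423432) (.leaf 0x345434634234623432)) (.node 1 (.leaf 0x74523463412346423432) (.leaf 0x76453423467423432))) (.node 2 (.node 1 (.leaf 0x74345234723432) (.leaf 0x72346343423473432)) (.node 1 (.leaf 0x4634723434123432) (.leaf 0x434654234723432)))) (.node 4 (.node 2 (.node 1 (.leaf 0x45346534123476432) (.leaf 0x43423473434234623432)) (.node 1 (.leaf 0x73452343423463432) (.leaf 0x34543475423432))) (.node 2 (.node 1 (.leaf 0x2347642346423432) (.leaf 0x23476434623432)) (.node 1 (.leaf 0x5463475343423463432) (.leaf 0x743453423463432))))) (.node 8 (.node 4 (.node 2 (.node 1 (.leaf 0x46234123463432) (.leaf 0x74674234123473432)) (.node 1 (.leaf 0x343423463423464123432) (.leaf 0x54764345234623432))) (.node 2 (.node 1 (.leaf 0x5463423467432) (.leaf 0x546543423467432)) (.node 1 (.leaf 0x5343452343423475432) (.leaf 0x23423474123432)))) (.node 4 (.node 2 (.node 1 (.leaf 0x6473452346423432) (.leaf 0x6347234234123432))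 (.node 1 (.leaf 0x5475343423473432) (.leaf 0x123463423453423432))) (.node 2 (.node 1 (.leaf 0x6534234123432) (.leaf 0x642346123434123432)) (.node 1 (.leaf 0x54653473452347423432) (.leaf 0x76347345234723432)))))))

def classATree_162 : Tree :=
  .node 64 (.node 32 (.node 16 (.node 8 (.node 4 (.node 2 (.node 1 (.leaf 0x472346534234623432) (.leaf 0x43474534234723432)) (.node 1 (.leaf 0x534674234623432) (.leaf 0x643474345234723432))) (.node 2 (.node 1 (.leaf 0x54752346342346123432) (.leaf 0x347434634234643432)) (.node 1 (.leaf 0x6543474342347123432) (.leaf 0x6423462343423432)))) (.node 4 (.node 2 (.node 1 (.leaf 0x2345347123432) (.leaf 0x23412347423432)) (.node 1 (.leaf 0x653434123476432) (.leaf 0x64346234347123432))) (.node 2 (.node 1 (.leaf 0x65347523434123432) (.leaf 0x46123434723432)) (.node 1 (.leaf 0x6434234123432) (.leaf 0x63453423432))))) (.node 8 (.node 4 (.node 2 (.node 1 (.leaf 0x453473452347423432) (.leaf 0x654123462343423432))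 (.node 1 (.leaf 0x34234734345423473432) (.leaf 0x2343423453423475432))) (.node 2 (.node 1 (.leaf 0x634234234123432) (.leaf 0x643423453423432)) (.node 1 (.leaf 0x343423453423475432) (.leaf 0x63452343423432)))) (.node 4 (.node 2 (.node 1 (.leaf 0x645343423476432) (.leaf 0x346123434723432)) (.node 1 (.leaf 0x7434634542346423432) (.leaf 0x346741234623432))) (.node 2 (.node 1 (.leaf 0x6343423476432) (.leaf 0x653473423463423432)) (.node 1 (.leaf 0x4234634347123432) (.leaf 0x5474346343423473432)))))) (.node 16 (.node 8 (.node 4 (.node 2 (.node 1 (.leaf 0x645423462343423432) (.leaf 0x63474342347123432)) (.node 1 (.leaf 0x234347123432) (.leaf 0x3474542347342347423432))) (.node 2 (.node 1 (.leaf 0x4653473423474123432) (.leaf 0x4543473423474123432)) (.node 1 (.leaf 0x34623474543423473432) (.leaf 0x345234753434234753432)))) (.node 4 (.node 2 (.node 1 (.leaf 0x7453462342346423432) (.leaf 0x543473423474123432)) (.node 1 (.leaf 0x343412347645343423432)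 (.leaf 0x3465412346342346423432))) (.node 2 (.node 1 (.leaf 0x7453467432) (.leaf 0x734234234643432)) (.node 1 (.leaf 0x64543476432) (.leaf 0x3463454234723432))))) (.node 8 (.node 4 (.node 2 (.node 1 (.leaf 0x7342346234347123432) (.leaf 0x4345341234723432)) (.node 1 (.leaf 0x6523475434523463432) (.leaf 0x45234234623432))) (.node 2 (.node 1 (.leaf 0x6345346741234723432) (.leaf 0x434734345234623432)) (.node 1 (.leaf 0x4764342347346423432) (.leaf 0x6434752343423467432)))) (.node 4 (.node 2 (.node 1 (.leaf 0x467423473423432) (.leaf 0x6543475423467432)) (.node 1 (.leaf 0x6347234234654123432) (.leaf 0x434647434234653432))) (.node 2 (.node 1 (.leaf 0x534345234623432) (.leaf 0x623434234653432)) (.node 1 (.leaf 0x645346434234723432) (.leaf 0x6746347123434623432))))))) (.node 32 (.node 16 (.node 8 (.node 4 (.node 2 (.node 1 (.leaf 0x467343462343423432) (.leaf 0x754653434123432)) (.node 1 (.leaf 0x4734534764234723432) (.leaf 0x4673462343423432)))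 (.node 2 (.node 1 (.leaf 0x46534342347123432) (.leaf 0x462342346123432)) (.node 1 (.leaf 0x4346712343423432) (.leaf 0x723453423473423432)))) (.node 4 (.node 2 (.node 1 (.leaf 0x743463434623432) (.leaf 0x476434674234723432)) (.node 1 (.leaf 0x123464234234723432) (.leaf 0x4754347123432))) (.node 2 (.node 1 (.leaf 0x462343464123432) (.leaf 0x345343464123432)) (.node 1 (.leaf 0x434734347123432) (.leaf 0x46347643423467432))))) (.node 8 (.node 4 (.node 2 (.node 1 (.leaf 0x34534734123432) (.leaf 0x7423463434234643432)) (.node 1 (.leaf 0x534723453423467432) (.leaf 0x7434623434623432))) (.node 2 (.node 1 (.leaf 0x764523463423467432) (.leaf 0x47523434723467432)) (.node 1 (.leaf 0x54347612343423432) (.leaf 0x63434754123432)))) (.node 4 (.node 2 (.node 1 (.leaf 0x745346743423467432) (.leaf 0x7423434234743432)) (.node 1 (.leaf 0x41234346423432) (.leaf 0x47645347123432))) (.node 2 (.node 1 (.leaf 0x464234734123476432) (.leaf 0x7123434623476432))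 (.node 1 (.leaf 0x543467432) (.leaf 0x7643476432)))))) (.node 16 (.node 8 (.node 4 (.node 2 (.node 1 (.leaf 0x3434723465432) (.leaf 0x734634234723432)) (.node 1 (.leaf 0x46343423453423465432) (.leaf 0x47643467463423473432))) (.node 2 (.node 1 (.leaf 0x623475434234653432) (.leaf 0x7634346742347123432)) (.node 1 (.leaf 0x42346743423463432) (.leaf 0x46723463423463432)))) (.node 4 (.node 2 (.node 1 (.leaf 0x7543467434234653432) (.leaf 0x34723453472343423432)) (.node 1 (.leaf 0x7643452347643432) (.leaf 0x54234743423432))) (.node 2 (.node 1 (.leaf 0x7345434234623432) (.leaf 0x2343462343464123432)) (.node 1 (.leaf 0x476434634123463432) (.leaf 0x54743462343423432))))) (.node 8 (.node 4 (.node 2 (.node 1 (.leaf 0x7453434523473432) (.leaf 0x346534734234643432)) (.node 1 (.leaf 0x234753434123463432) (.leaf 0x54346743423473432))) (.node 2 (.node 1 (.leaf 0x2346434123467432) (.leaf 0x464347234346123432)) (.node 1 (.leaf 0x743453465423432) (.leaf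 0x46745343423432)))) (.node 4 (.node 2 (.node 1 (.leaf 0x6347452343423467432) (.leaf 0x5475234634234723432)) (.node 1 (.leaf 0x7542342346123432) (.leaf 0x463453423432))) (.node 2 (.node 1 (.leaf 0x464745343423432) (.leaf 0x7634342345346423432)) (.node 1 (.leaf 0x46343464123432) (.leaf 0x47542347123432)))))))

def classATree_163 : Tree :=
  .node 64 (.node 32 (.node 16 (.node 8 (.node 4 (.node 2 (.node 1 (.leaf 0x342347453423476432) (.leaf 0x3465473423463423432)) (.node 1 (.leaf 0x74343475423432) (.leaf 0x6234734123476432))) (.node 2 (.node 1 (.leaf 0x7543464712343423432) (.leaf 0x5343467452343423432)) (.node 1 (.leaf 0x75465234234623432) (.leaf 0x4673453423432)))) (.node 4 (.node 2 (.node 1 (.leaf 0x463472342347123432) (.leaf 0x23453423474123432)) (.node 1 (.leaf 0x41234643423467432) (.leaf 0x47542345234623432))) (.node 2 (.node 1 (.leaf 0x5476434723432) (.leaf 0x512343463423432)) (.node 1 (.leaf 0x453467432) (.leaf 0x47343465432)))))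 (.node 8 (.node 4 (.node 2 (.node 1 (.leaf 0x34234234643432) (.leaf 0x3463434234643432)) (.node 1 (.leaf 0x6234754345423463432) (.leaf 0x342346234347123432))) (.node 2 (.node 1 (.leaf 0x46745346123434123432) (.leaf 0x4764346745234723432)) (.node 1 (.leaf 0x67434623453423476432) (.leaf 0x74673462343423432)))) (.node 4 (.node 2 (.node 1 (.leaf 0x74345341234723432) (.leaf 0x2346453423467432)) (.node 1 (.leaf 0x23453423473423432) (.leaf 0x7434647434234653432))) (.node 2 (.node 1 (.leaf 0x412347434123432) (.leaf 0x6743475423467432)) (.node 1 (.leaf 0x434742343423473432) (.leaf 0x7534345234623432)))))) (.node 16 (.node 8 (.node 4 (.node 2 (.node 1 (.leaf 0x7623434234653432) (.leaf 0x54653434123432)) (.node 1 (.leaf 0x43463434623432) (.leaf 0x745234234623432))) (.node 2 (.node 1 (.leaf 0x4346343423473423432) (.leaf 0x47454347123432)) (.node 1 (.leaf 0x461234346423432) (.leaf 0x34346434234743432)))) (.node 4 (.node 2 (.node 1 (.leaf 0x647634342346123432)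 (.leaf 0x234347541234723432)) (.node 1 (.leaf 0x547643453423432) (.leaf 0x47343465423432))) (.node 2 (.node 1 (.leaf 0x434673423453423432) (.leaf 0x234734234123463432)) (.node 1 (.leaf 0x54763434123432) (.leaf 0x45346743423467432))))) (.node 8 (.node 4 (.node 2 (.node 1 (.leaf 0x473434654234723432) (.leaf 0x6234753423476432)) (.node 1 (.leaf 0x7467343462343423432) (.leaf 0x346543423463423432))) (.node 2 (.node 1 (.leaf 0x3463434623432) (.leaf 0x4764345234346423432)) (.node 1 (.leaf 0x423434234743432) (.leaf 0x7462342346123432)))) (.node 4 (.node 2 (.node 1 (.leaf 0x64523463423467432) (.leaf 0x423463434234643432)) (.node 1 (.leaf 0x5347423453423467432) (.leaf 0x434623434623432))) (.node 2 (.node 1 (.leaf 0x4234346423432) (.leaf 0x4764534723432)) (.node 1 (.leaf 0x3472343423473432) (.leaf 0x743476472343423432))))))) (.node 32 (.node 16 (.node 8 (.node 4 (.node 2 (.node 1 (.leaf 0x65347534123476432) (.leaf 0x64743463423467432)) (.node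 1 (.leaf 0x5346434123467432) (.leaf 0x423423423475432))) (.node 2 (.node 1 (.leaf 0x465434723432) (.leaf 0x7423464341234623432)) (.node 1 (.leaf 0x74534752343423432) (.leaf 0x54342346743423476432)))) (.node 4 (.node 2 (.node 1 (.leaf 0x6474234234123432) (.leaf 0x53475341234723432)) (.node 1 (.leaf 0x74534234753432) (.leaf 0x75434647423432))) (.node 2 (.node 1 (.leaf 0x6453473463423463432) (.leaf 0x347534234723432)) (.node 1 (.leaf 0x54123423423475432) (.leaf 0x34745434234753432))))) (.node 8 (.node 4 (.node 2 (.node 1 (.leaf 0x4234634712343423432) (.leaf 0x423474343423473432)) (.node 1 (.leaf 0x7234645342346423432) (.leaf 0x3464347345234723432))) (.node 2 (.node 1 (.leaf 0x74346741234623432) (.leaf 0x4645343423473432)) (.node 1 (.leaf 0x74623434234623432) (.leaf 0x42345347345234723432)))) (.node 4 (.node 2 (.node 1 (.leaf 0x74623434723432) (.leaf 0x6234345234347123432)) (.node 1 (.leaf 0x534712343423473432) (.leaf 0x754345423473432)))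 (.node 2 (.node 1 (.leaf 0x43412346743423476432) (.leaf 0x634753423476432)) (.node 1 (.leaf 0x47453434723467432) (.leaf 0x734623434723432)))))) (.node 16 (.node 8 (.node 4 (.node 2 (.node 1 (.leaf 0x64754342346423432) (.leaf 0x4745434234753432)) (.node 1 (.leaf 0x7647523434123432) (.leaf 0x7453475423432))) (.node 2 (.node 1 (.leaf 0x34643423467432) (.leaf 0x54734534234753432)) (.node 1 (.leaf 0x546453434123473432) (.leaf 0x75434674234623432)))) (.node 4 (.node 2 (.node 1 (.leaf 0x346123434234753432) (.leaf 0x47453412346423432)) (.node 1 (.leaf 0x474345234346423432) (.leaf 0x6453465343423463432))) (.node 2 (.node 1 (.leaf 0x4734345423473432) (.leaf 0x234742343423463432)) (.node 1 (.leaf 0x5434745434234753432) (.leaf 0x734342347423432))))) (.node 8 (.node 4 (.node 2 (.node 1 (.leaf 0x4654347342347123432) (.leaf 0x523474343423473432)) (.node 1 (.leaf 0x674674343423473432) (.leaf 0x63452347342347123432))) (.node 2 (.node 1 (.leaf 0x4754347534234723432)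 (.leaf 0x4343423473432)) (.node 1 (.leaf 0x4763473423453423432) (.leaf 0x4752343423463432)))) (.node 4 (.node 2 (.node 1 (.leaf 0x74642347343423473432) (.leaf 0x6234347454234623432)) (.node 1 (.leaf 0x476347234234123432) (.leaf 0x3434674534234623432))) (.node 2 (.node 1 (.leaf 0x65434234346423432) (.leaf 0x3465423474123432)) (.node 1 (.leaf 0x4712346434123476432) (.leaf 0x123474343423473432)))))))

def classATree_164 : Tree :=
  .node 64 (.node 32 (.node 16 (.node 8 (.node 4 (.node 2 (.node 1 (.leaf 0x4674234723432) (.leaf 0x5234734234654123432)) (.node 1 (.leaf 0x4674234234653432) (.leaf 0x34752342346123432))) (.node 2 (.node 1 (.leaf 0x546741234234653432) (.leaf 0x43434234734123432)) (.node 1 (.leaf 0x54723453423463432) (.leaf 0x453464343423463432)))) (.node 4 (.node 2 (.node 1 (.leaf 0x65342347534234723432) (.leaf 0x23464347342347423432)) (.node 1 (.leaf 0x465423474123432) (.leaf 0x462347434123467432))) (.node 2 (.node 1 (.leaf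 0x123434523434723432) (.leaf 0x463475434523463432)) (.node 1 (.leaf 0x754341234347423432) (.leaf 0x434523475423432))))) (.node 8 (.node 4 (.node 2 (.node 1 (.leaf 0x46543452346743432) (.leaf 0x65472346343423473432)) (.node 1 (.leaf 0x4623473412347423432) (.leaf 0x43452346342346423432))) (.node 2 (.node 1 (.leaf 0x546741234723432) (.leaf 0x64341234346423432)) (.node 1 (.leaf 0x74234764534234623432) (.leaf 0x7434234347423432)))) (.node 4 (.node 2 (.node 1 (.leaf 0x47542346345234623432) (.leaf 0x1234734234654123432)) (.node 1 (.leaf 0x434347434234623432) (.leaf 0x53434234723432))) (.node 2 (.node 1 (.leaf 0x434734634234643432) (.leaf 0x45423473434123463432)) (.node 1 (.leaf 0x6452346342346423432) (.leaf 0x642346343423473432)))))) (.node 16 (.node 8 (.node 4 (.node 2 (.node 1 (.leaf 0x7623434523434623432) (.leaf 0x64534346123432)) (.node 1 (.leaf 0x234347542346123432) (.leaf 0x645343423432))) (.node 2 (.node 1 (.leaf 0x34623453465423432)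 (.leaf 0x43467453423463432)) (.node 1 (.leaf 0x4543423476423432) (.leaf 0x4234654123432)))) (.node 4 (.node 2 (.node 1 (.leaf 0x54734234634123432) (.leaf 0x534652343423476432)) (.node 1 (.leaf 0x65434674534234723432) (.leaf 0x4346534752343423432))) (.node 2 (.node 1 (.leaf 0x72343463423463432) (.leaf 0x75463472343423432)) (.node 1 (.leaf 0x43465434523473432) (.leaf 0x6543434654234623432))))) (.node 8 (.node 4 (.node 2 (.node 1 (.leaf 0x453472343423432) (.leaf 0x6434534634234623432)) (.node 1 (.leaf 0x54643453423473432) (.leaf 0x654347342347123432))) (.node 2 (.node 1 (.leaf 0x74674341234723432) (.leaf 0x746543462343423432)) (.node 1 (.leaf 0x72343473423432) (.leaf 0x464745341234723432)))) (.node 4 (.node 2 (.node 1 (.leaf 0x34764345423463432) (.leaf 0x234641234234623432)) (.node 1 (.leaf 0x47523434234623432) (.leaf 0x343467343423432))) (.node 2 (.node 1 (.leaf 0x4512347343423473432) (.leaf 0x634743463423473432)) (.node 1 (.leaf 0x6734346123434123432)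 (.leaf 0x76412343423473432))))))) (.node 32 (.node 16 (.node 8 (.node 4 (.node 2 (.node 1 (.leaf 0x434643423476432) (.leaf 0x45423473423474123432)) (.node 1 (.leaf 0x34764234623432) (.leaf 0x34764346423432))) (.node 2 (.node 1 (.leaf 0x4345342347123432) (.leaf 0x234653434523463432)) (.node 1 (.leaf 0x72345346543423473432) (.leaf 0x4634342347123432)))) (.node 4 (.node 2 (.node 1 (.leaf 0x672346743423467432) (.leaf 0x34534734234623432)) (.node 1 (.leaf 0x6234743452347423432) (.leaf 0x754345234623432))) (.node 2 (.node 1 (.leaf 0x746423453423432) (.leaf 0x643475462343423432)) (.node 1 (.leaf 0x74647434123463432) (.leaf 0x434123463432))))) (.node 8 (.node 4 (.node 2 (.node 1 (.leaf 0x453473423473423432) (.leaf 0x5467453423476432)) (.node 1 (.leaf 0x4673434234623432) (.leaf 0x54753434523473432))) (.node 2 (.node 1 (.leaf 0x4346454234723432) (.leaf 0x412342346342346123432)) (.node 1 (.leaf 0x475423472343423432) (.leaf 0x634534674234723432))))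 (.node 4 (.node 2 (.node 1 (.leaf 0x546743462343423432) (.leaf 0x5343474342347123432)) (.node 1 (.leaf 0x472346234347123432) (.leaf 0x76423475423432))) (.node 2 (.node 1 (.leaf 0x43434643423476432) (.leaf 0x45234346123432)) (.node 1 (.leaf 0x634734523475423432) (.leaf 0x475423473423432)))))) (.node 16 (.node 8 (.node 4 (.node 2 (.node 1 (.leaf 0x5473434123473423432) (.leaf 0x654234523473432)) (.node 1 (.leaf 0x64754234523473432) (.leaf 0x7641234234753432))) (.node 2 (.node 1 (.leaf 0x4753462343423432) (.leaf 0x64543476423432)) (.node 1 (.leaf 0x6547534234653432) (.leaf 0x4346434123432)))) (.node 4 (.node 2 (.node 1 (.leaf 0x523472343423432) (.leaf 0x76475434234653432)) (.node 1 (.leaf 0x4534653423432) (.leaf 0x764734234653432))) (.node 2 (.node 1 (.leaf 0x34674342346423432) (.leaf 0x75343463423473432)) (.node 1 (.leaf 0x4346434523473432) (.leaf 0x45346534234753432))))) (.node 8 (.node 4 (.node 2 (.node 1 (.leaf 0x546343423463432) (.leaf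 0x45347543423463432)) (.node 1 (.leaf 0x4542343423473432) (.leaf 0x423473434234643432))) (.node 2 (.node 1 (.leaf 0x462342346423432) (.leaf 0x45346534234623432)) (.node 1 (.leaf 0x67343463423473432) (.leaf 0x53434743423463432)))) (.node 4 (.node 2 (.node 1 (.leaf 0x75423475341234723432) (.leaf 0x5473463423453423432)) (.node 1 (.leaf 0x346434523473432) (.leaf 0x3452346341234623432))) (.node 2 (.node 1 (.leaf 0x74234234123473432) (.leaf 0x452347342347123432)) (.node 1 (.leaf 0x4523423464123432) (.leaf 0x43464345234623432)))))))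

def classATree_165 : Tree :=
  .node 64 (.node 32 (.node 16 (.node 8 (.node 4 (.node 2 (.node 1 (.leaf 0x5462343423473432) (.leaf 0x754346345234623432)) (.node 1 (.leaf 0x7345234634234623432) (.leaf 0x754652347342347123432))) (.node 2 (.node 1 (.leaf 0x46746343423463432) (.leaf 0x6734347434123463432)) (.node 1 (.leaf 0x74523465423432) (.leaf 0x434734523476423432)))) (.node 4 (.node 2 (.node 1 (.leaf 0x6476453423467432) (.leaf 0x434643423453423432)) (.node 1 (.leaf 0x7534342347346423432) (.leaf 0x34523423423475432))) (.node 2 (.node 1 (.leaf 0x2343467453423463432) (.leaf 0x7345434234753432)) (.node 1 (.leaf 0x7434752343423467432) (.leaf 0x4647423462343423432))))) (.node 8 (.node 4 (.node 2 (.node 1 (.leaf 0x347434672343423432) (.leaf 0x234742341234723432)) (.node 1 (.leaf 0x342347434123463432) (.leaf 0x6473412347423432))) (.node 2 (.node 1 (.leaf 0x647434634123463432) (.leaf 0x64734623475423432)) (.node 1 (.leaf 0x6743475341234723432)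 (.leaf 0x645341234723432)))) (.node 4 (.node 2 (.node 1 (.leaf 0x46234347123434123432) (.leaf 0x46434542346423432)) (.node 1 (.leaf 0x4345234723432) (.leaf 0x2346343423473432))) (.node 2 (.node 1 (.leaf 0x23453473423463432) (.leaf 0x6453423467423432)) (.node 1 (.leaf 0x7423473423467432) (.leaf 0x23474643423476432)))))) (.node 16 (.node 8 (.node 4 (.node 2 (.node 1 (.leaf 0x674346734234653432) (.leaf 0x465473453423432)) (.node 1 (.leaf 0x53423475341234723432) (.leaf 0x64234764234623432))) (.node 2 (.node 1 (.leaf 0x2346343423432) (.leaf 0x7345434634234623432)) (.node 1 (.leaf 0x5464743462343423432) (.leaf 0x7434654234723432)))) (.node 4 (.node 2 (.node 1 (.leaf 0x4523463412346423432) (.leaf 0x74634723434123432)) (.node 1 (.leaf 0x54723464342346423432) (.leaf 0x746234123463432))) (.node 2 (.node 1 (.leaf 0x4674234123473432) (.leaf 0x2345347342347423432)) (.node 1 (.leaf 0x43453423463432) (.leaf 0x434123463423464123432))))) (.node 8 (.node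 4 (.node 2 (.node 1 (.leaf 0x3452343423463432) (.leaf 0x46473453423432)) (.node 1 (.leaf 0x54734234234623432) (.leaf 0x463453423474123432))) (.node 2 (.node 1 (.leaf 0x234764234623432) (.leaf 0x234764346423432)) (.node 1 (.leaf 0x23463453423476432) (.leaf 0x23465343423476432)))) (.node 4 (.node 2 (.node 1 (.leaf 0x74543473423467432) (.leaf 0x67234347123432)) (.node 1 (.leaf 0x7453423467432) (.leaf 0x73464534234623432))) (.node 2 (.node 1 (.leaf 0x73454342345346423432) (.leaf 0x343452343423465432)) (.node 1 (.leaf 0x3452346423432) (.leaf 0x2346523434523463432))))))) (.node 32 (.node 16 (.node 8 (.node 4 (.node 2 (.node 1 (.leaf 0x546345234723432) (.leaf 0x75423462343423432)) (.node 1 (.leaf 0x712343472343423432) (.leaf 0x752343463423463432))) (.node 2 (.node 1 (.leaf 0x6341234723432) (.leaf 0x347534634234643432)) (.node 1 (.leaf 0x123434674234623432) (.leaf 0x723462343423432)))) (.node 4 (.node 2 (.node 1 (.leaf 0x43472343465432) (.leaf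 0x3423462343423473432)) (.node 1 (.leaf 0x754234623432) (.leaf 0x74534764234723432))) (.node 2 (.node 1 (.leaf 0x12342346423432) (.leaf 0x76434634123463432)) (.node 1 (.leaf 0x673467434523463432) (.leaf 0x3423474342347123432))))) (.node 8 (.node 4 (.node 2 (.node 1 (.leaf 0x43434234743432) (.leaf 0x4734543423432)) (.node 1 (.leaf 0x65234764234623432) (.leaf 0x7234623453423432))) (.node 2 (.node 1 (.leaf 0x5234643453423476432) (.leaf 0x4523464342346123432)) (.node 1 (.leaf 0x523423463423432) (.leaf 0x23473452346423432)))) (.node 4 (.node 2 (.node 1 (.leaf 0x7346345434234623432) (.leaf 0x523434754123432)) (.node 1 (.leaf 0x723462343423463432) (.leaf 0x7345434234653432))) (.node 2 (.node 1 (.leaf 0x734523434123432) (.leaf 0x5463453423463432)) (.node 1 (.leaf 0x4734634234723432) (.leaf 0x74347534234653432)))))) (.node 16 (.node 8 (.node 4 (.node 2 (.node 1 (.leaf 0x64734234734123432) (.leaf 0x63423467423432)) (.node 1 (.leaf 0x63452346342346423432)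 (.leaf 0x7546234123463432))) (.node 2 (.node 1 (.leaf 0x54674234123473432) (.leaf 0x734543423432)) (.node 1 (.leaf 0x5347643423473432) (.leaf 0x347423463423464123432)))) (.node 4 (.node 2 (.node 1 (.leaf 0x74523462342346123432) (.leaf 0x234653434623476432)) (.node 1 (.leaf 0x76123434723432) (.leaf 0x67434234234723432))) (.node 2 (.node 1 (.leaf 0x7543423467432) (.leaf 0x73464345234623432)) (.node 1 (.leaf 0x75343452343464123432) (.leaf 0x343423453423465432))))) (.node 8 (.node 4 (.node 2 (.node 1 (.leaf 0x347346341234643432) (.leaf 0x6345234723432)) (.node 1 (.leaf 0x3412346423432) (.leaf 0x2346523434234653432))) (.node 2 (.node 1 (.leaf 0x465341234723432) (.leaf 0x23475342346423432)) (.node 1 (.leaf 0x4234523462343423432) (.leaf 0x534234346423432)))) (.node 4 (.node 2 (.node 1 (.leaf 0x5234645343423476432) (.leaf 0x6234346434234643432)) (.node 1 (.leaf 0x34754672343423432) (.leaf 0x5347423453423432))) (.node 2 (.node 1 (.leaf 0x5473434123432)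 (.leaf 0x745234623432)) (.node 1 (.leaf 0x753434523463432) (.leaf 0x2347543412346423432)))))))

def classATree_166 : Tree :=
  .node 64 (.node 32 (.node 16 (.node 8 (.node 4 (.node 2 (.node 1 (.leaf 0x742347542346423432) (.leaf 0x74534674234623432)) (.node 1 (.leaf 0x123423464123432) (.leaf 0x674534653423463432))) (.node 2 (.node 1 (.leaf 0x3423474345234723432) (.leaf 0x4346543412347423432)) (.node 1 (.leaf 0x7463452347423432) (.leaf 0x4543463434234643432)))) (.node 4 (.node 2 (.node 1 (.leaf 0x3453423474123432) (.leaf 0x547634123476432)) (.node 1 (.leaf 0x74634123463432) (.leaf 0x467434123473432))) (.node 2 (.node 1 (.leaf 0x734674234623432) (.leaf 0x741234634234643432)) (.node 1 (.leaf 0x547634752343423432) (.leaf 0x47523463423464123432))))) (.node 8 (.node 4 (.node 2 (.node 1 (.leaf 0x12343475423432) (.leaf 0x734634342346123432)) (.node 1 (.leaf 0x534764234123473432) (.leaf 0x753434123432))) (.node 2 (.node 1 (.leaf 0x34234743452347423432)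 (.leaf 0x634234674123432)) (.node 1 (.leaf 0x73452343423432) (.leaf 0x75423472343423432)))) (.node 4 (.node 2 (.node 1 (.leaf 0x75341234234623432) (.leaf 0x347234346342346123432)) (.node 1 (.leaf 0x53467434123473432) (.leaf 0x64347623434123432))) (.node 2 (.node 1 (.leaf 0x647464234234723432) (.leaf 0x7454347643423473432)) (.node 1 (.leaf 0x53464234234753432) (.leaf 0x343465434234653432)))))) (.node 16 (.node 8 (.node 4 (.node 2 (.node 1 (.leaf 0x473434234534623432) (.leaf 0x46474234234723432)) (.node 1 (.leaf 0x45347643423476432) (.leaf 0x434542343423463432))) (.node 2 (.node 1 (.leaf 0x74534634723434623432) (.leaf 0x723434723434123432)) (.node 1 (.leaf 0x2347534672343423432) (.leaf 0x23453472343423432)))) (.node 4 (.node 2 (.node 1 (.leaf 0x45347234342346123432) (.leaf 0x453434654234623432)) (.node 1 (.leaf 0x4674342346347423432) (.leaf 0x4674347645234623432))) (.node 2 (.node 1 (.leaf 0x423434234643432) (.leaf 0x453463473423476432))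 (.node 1 (.leaf 0x547642346123432) (.leaf 0x4634534723434123432))))) (.node 8 (.node 4 (.node 2 (.node 1 (.leaf 0x45343473423432) (.leaf 0x72343452343464123432)) (.node 1 (.leaf 0x653434723432) (.leaf 0x46474534234653432))) (.node 2 (.node 1 (.leaf 0x42346423473423476432) (.leaf 0x723463423476423432)) (.node 1 (.leaf 0x23434123463423432) (.leaf 0x64764345423463432)))) (.node 4 (.node 2 (.node 1 (.leaf 0x45423462343423463432) (.leaf 0x2343454234346423432)) (.node 1 (.leaf 0x7453463423432) (.leaf 0x463434654234623432))) (.node 2 (.node 1 (.leaf 0x3434234234723432) (.leaf 0x47643462342346123432)) (.node 1 (.leaf 0x234743423463423432) (.leaf 0x62343452343465423432))))))) (.node 32 (.node 16 (.node 8 (.node 4 (.node 2 (.node 1 (.leaf 0x467467434234653432) (.leaf 0x547642341234723432)) (.node 1 (.leaf 0x453476434123473432) (.leaf 0x434642341234623432))) (.node 2 (.node 1 (.leaf 0x7634347123432) (.leaf 0x52346474342347123432)) (.node 1 (.leaf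 0x42346347423432) (.leaf 0x476434623432)))) (.node 4 (.node 2 (.node 1 (.leaf 0x23475423464123432) (.leaf 0x4673465434234753432)) (.node 1 (.leaf 0x47541234623432) (.leaf 0x54754346423432))) (.node 2 (.node 1 (.leaf 0x452347543423463432) (.leaf 0x46345234234723432)) (.node 1 (.leaf 0x4746434234623432) (.leaf 0x4234723434623432))))) (.node 8 (.node 4 (.node 2 (.node 1 (.leaf 0x523462347342347423432) (.leaf 0x534234674534234723432)) (.node 1 (.leaf 0x4234534123476432) (.leaf 0x4523434123476432))) (.node 2 (.node 1 (.leaf 0x234342346423432) (.leaf 0x4734634234754123432)) (.node 1 (.leaf 0x4674534764234623432) (.leaf 0x47454234234723432)))) (.node 4 (.node 2 (.node 1 (.leaf 0x434346543423463432) (.leaf 0x54764234234723432)) (.node 1 (.leaf 0x434764234123473432) (.leaf 0x674346743423476432))) (.node 2 (.node 1 (.leaf 0x645346743423476432) (.leaf 0x234534712343423432)) (.node 1 (.leaf 0x46745347642346423432) (.leaf 0x46746342345347423432))))))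 (.node 16 (.node 8 (.node 4 (.node 2 (.node 1 (.leaf 0x7434653423432) (.leaf 0x7234347123434123432)) (.node 1 (.leaf 0x7234342347346423432) (.leaf 0x2346234523465423432))) (.node 2 (.node 1 (.leaf 0x62343423453465423432) (.leaf 0x74347543423463432)) (.node 1 (.leaf 0x67467434234653432) (.leaf 0x474641234234723432)))) (.node 4 (.node 2 (.node 1 (.leaf 0x7434234123473423432) (.leaf 0x346434723434623432)) (.node 1 (.leaf 0x2345342345346423432) (.leaf 0x67345347123432))) (.node 2 (.node 1 (.leaf 0x4343465423464123432) (.leaf 0x42345347423432)) (.node 1 (.leaf 0x47645346123432) (.leaf 0x473465434234753432))))) (.node 8 (.node 4 (.node 2 (.node 1 (.leaf 0x6343423476453432) (.leaf 0x53434645434234653432)) (.node 1 (.leaf 0x73463473423467423432) (.leaf 0x634534723432))) (.node 2 (.node 1 (.leaf 0x434234234123463432) (.leaf 0x464742341234723432)) (.node 1 (.leaf 0x34346743423476432) (.leaf 0x742346234347123432)))) (.node 4 (.node 2 (.node 1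 (.leaf 0x6476434234653432) (.leaf 0x1234234643423473432)) (.node 1 (.leaf 0x23473453423464123432) (.leaf 0x4647434523463432))) (.node 2 (.node 1 (.leaf 0x2343423463423432) (.leaf 0x54234623434234623432)) (.node 1 (.leaf 0x54764234623432) (.leaf 0x54346347423432)))))))

def classATree_167 : Tree :=
  .node 64 (.node 32 (.node 16 (.node 8 (.node 4 (.node 2 (.node 1 (.leaf 0x23474542346423432) (.leaf 0x465343472343423432)) (.node 1 (.leaf 0x4754346423432) (.leaf 0x47454234623432))) (.node 2 (.node 1 (.leaf 0x46234534123476432) (.leaf 0x46523434123476432)) (.node 1 (.leaf 0x473463423476423432) (.leaf 0x746345234234723432)))) (.node 4 (.node 2 (.node 1 (.leaf 0x67467453423467432) (.leaf 0x5467453423463423432)) (.node 1 (.leaf 0x5474346342346123432) (.leaf 0x45234634123432))) (.node 2 (.node 1 (.leaf 0x23463452346423432) (.leaf 0x534346542347123432)) (.node 1 (.leaf 0x43476423423423465432) (.leaf 0x547434123476432))))) (.node 8 (.node 4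 (.node 2 (.node 1 (.leaf 0x23473463423464123432) (.leaf 0x534634123463432)) (.node 1 (.leaf 0x474542347342347423432) (.leaf 0x45434723434123432))) (.node 2 (.node 1 (.leaf 0x34534723434123432) (.leaf 0x23472342347123432)) (.node 1 (.leaf 0x734654342347423432) (.leaf 0x23453423476423432)))) (.node 4 (.node 2 (.node 1 (.leaf 0x43462343423432) (.leaf 0x343463434234753432)) (.node 1 (.leaf 0x674341234723432) (.leaf 0x462343423463432))) (.node 2 (.node 1 (.leaf 0x67463452346423432) (.leaf 0x5465341234623432)) (.node 1 (.leaf 0x4673434234723432) (.leaf 0x74542346342346123432)))))) (.node 16 (.node 8 (.node 4 (.node 2 (.node 1 (.leaf 0x23467434123476432) (.leaf 0x6745234764234623432)) (.node 1 (.leaf 0x63453465423432) (.leaf 0x2341234234723432))) (.node 2 (.node 1 (.leaf 0x6743423467423432) (.leaf 0x434754234623432)) (.node 1 (.leaf 0x347634342346123432) (.leaf 0x64764234123463432)))) (.node 4 (.node 2 (.node 1 (.leaf 0x654764234123463432)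 (.leaf 0x534123423423465432)) (.node 1 (.leaf 0x423412347345234723432) (.leaf 0x634534652343423432))) (.node 2 (.node 1 (.leaf 0x64523434123473432) (.leaf 0x462343423432)) (.node 1 (.leaf 0x345423473423467432) (.leaf 0x4623434234723432))))) (.node 8 (.node 4 (.node 2 (.node 1 (.leaf 0x47123434234653432) (.leaf 0x647642346423432)) (.node 1 (.leaf 0x346474342347423432) (.leaf 0x7412346343423473432))) (.node 2 (.node 1 (.leaf 0x46342345347423432) (.leaf 0x6347454342347423432)) (.node 1 (.leaf 0x34543465423432) (.leaf 0x634234734123432)))) (.node 4 (.node 2 (.node 1 (.leaf 0x12343423476423432) (.leaf 0x123476434123476432)) (.node 1 (.leaf 0x47434623475423432) (.leaf 0x3467434723432))) (.node 2 (.node 1 (.leaf 0x647343473423463432) (.leaf 0x6743473454234623432)) (.node 1 (.leaf 0x7342347534234723432) (.leaf 0x73434743423476432))))))) (.node 32 (.node 16 (.node 8 (.node 4 (.node 2 (.node 1 (.leaf 0x76434234674123432) (.leaf 0x523434234623432))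 (.node 1 (.leaf 0x62343423473432) (.leaf 0x52346743423463432))) (.node 2 (.node 1 (.leaf 0x23475342346123432) (.leaf 0x74654234123476432)) (.node 1 (.leaf 0x3423472343423463432) (.leaf 0x3474234234654123432)))) (.node 4 (.node 2 (.node 1 (.leaf 0x6234347643423467432) (.leaf 0x53471234634234643432)) (.node 1 (.leaf 0x46454342346123432) (.leaf 0x64234612342346423432))) (.node 2 (.node 1 (.leaf 0x342346343423473432) (.leaf 0x234534634234723432)) (.node 1 (.leaf 0x746453434234653432) (.leaf 0x74234653412346423432))))) (.node 8 (.node 4 (.node 2 (.node 1 (.leaf 0x6743474345234723432) (.leaf 0x764123462343423432)) (.node 1 (.leaf 0x47434234723432) (.leaf 0x74634753423467432))) (.node 2 (.node 1 (.leaf 0x74342347123432) (.leaf 0x43473452346423432)) (.node 1 (.leaf 0x52343423432) (.leaf 0x742346434234643432)))) (.node 4 (.node 2 (.node 1 (.leaf 0x74645343423432) (.leaf 0x464342345347423432)) (.node 1 (.leaf 0x523434234347423432) (.leaf 0x742346123434123432)))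 (.node 2 (.node 1 (.leaf 0x45434612343423432) (.leaf 0x5463475412346423432)) (.node 1 (.leaf 0x76234347123432) (.leaf 0x464743423463432)))))) (.node 16 (.node 8 (.node 4 (.node 2 (.node 1 (.leaf 0x743423463432) (.leaf 0x74643423453423432)) (.node 1 (.leaf 0x43434743423463432) (.leaf 0x534734523463432))) (.node 2 (.node 1 (.leaf 0x52343423473432) (.leaf 0x7234643423463432)) (.node 1 (.leaf 0x7423464123432) (.leaf 0x3473463412346423432)))) (.node 4 (.node 2 (.node 1 (.leaf 0x4745423423473423432) (.leaf 0x346347343423473432)) (.node 1 (.leaf 0x4734634342346123432) (.leaf 0x234534612343423432))) (.node 2 (.node 1 (.leaf 0x74342346342346123432) (.leaf 0x643412347342347123432)) (.node 1 (.leaf 0x5347523434123432) (.leaf 0x74534634234723432))))) (.node 8 (.node 4 (.node 2 (.node 1 (.leaf 0x7465434123467432) (.leaf 0x74634123467432)) (.node 1 (.leaf 0x4523463423476432) (.leaf 0x73412343423463432))) (.node 2 (.node 1 (.leaf 0x534342345347123432)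 (.leaf 0x34345234347123432)) (.node 1 (.leaf 0x3465347341234723432) (.leaf 0x3434734234723432)))) (.node 4 (.node 2 (.node 1 (.leaf 0x47643432) (.leaf 0x476434723465432)) (.node 1 (.leaf 0x5476434234653432) (.leaf 0x64346234123432))) (.node 2 (.node 1 (.leaf 0x453463432) (.leaf 0x4763434123432)) (.node 1 (.leaf 0x1234643423476423432) (.leaf 0x4342347423432)))))))

def classATree_168 : Tree :=
  .node 64 (.node 32 (.node 16 (.node 8 (.node 4 (.node 2 (.node 1 (.leaf 0x476434634123473432) (.leaf 0x4347534623453423432)) (.node 1 (.leaf 0x642347343423476432) (.leaf 0x73454347123432))) (.node 2 (.node 1 (.leaf 0x347543463423473432) (.leaf 0x764345347423432)) (.node 1 (.leaf 0x634234234653432) (.leaf 0x47643412347423432)))) (.node 4 (.node 2 (.node 1 (.leaf 0x64342345347423432) (.leaf 0x7634342347234123432)) (.node 1 (.leaf 0x46347123434623432) (.leaf 0x64734643423432))) (.node 2 (.node 1 (.leaf 0x64234623434723432) (.leaf 0x6234534123476432))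 (.node 1 (.leaf 0x6523434234623432) (.leaf 0x6434623453423476432))))) (.node 8 (.node 4 (.node 2 (.node 1 (.leaf 0x634347543423473432) (.leaf 0x47234346343423463432)) (.node 1 (.leaf 0x476434734123463432) (.leaf 0x6434634734234623432))) (.node 2 (.node 1 (.leaf 0x34754342347123432) (.leaf 0x47643453423432)) (.node 1 (.leaf 0x454346743423467432) (.leaf 0x634743423467423432)))) (.node 4 (.node 2 (.node 1 (.leaf 0x434234743423476432) (.leaf 0x47463423453423432)) (.node 1 (.leaf 0x473463434723432) (.leaf 0x47423463434723432))) (.node 2 (.node 1 (.leaf 0x4764343423473432) (.leaf 0x45346341234623432)) (.node 1 (.leaf 0x46434234634123432) (.leaf 0x43465341234623432)))))) (.node 16 (.node 8 (.node 4 (.node 2 (.node 1 (.leaf 0x46723434123432) (.leaf 0x73467453423476432)) (.node 1 (.leaf 0x64347642346123432) (.leaf 0x4347634234753432))) (.node 2 (.node 1 (.leaf 0x647234623434723432) (.leaf 0x67465434623432)) (.node 1 (.leaf 0x452343423473432)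 (.leaf 0x475434234734123432)))) (.node 4 (.node 2 (.node 1 (.leaf 0x475434764234623432) (.leaf 0x45434734234653432)) (.node 1 (.leaf 0x6745346342346423432) (.leaf 0x3464343423473432))) (.node 2 (.node 1 (.leaf 0x5434523476434123432) (.leaf 0x643473423465432)) (.node 1 (.leaf 0x434523476434123432) (.leaf 0x6743463423473432))))) (.node 8 (.node 4 (.node 2 (.node 1 (.leaf 0x63423473434123473432) (.leaf 0x764342345346423432)) (.node 1 (.leaf 0x3423463423453423432) (.leaf 0x73423475423432))) (.node 2 (.node 1 (.leaf 0x434623476432) (.leaf 0x6474534234723432)) (.node 1 (.leaf 0x346234734123476432) (.leaf 0x4642347234234723432)))) (.node 4 (.node 2 (.node 1 (.leaf 0x234654346342346423432) (.leaf 0x734634123463432)) (.node 1 (.leaf 0x67342343423463432) (.leaf 0x623473423467432))) (.node 2 (.node 1 (.leaf 0x634345234723432) (.leaf 0x43475423467432)) (.node 1 (.leaf 0x7342346343423463432) (.leaf 0x4523464743423467432))))))) (.node 32 (.node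 16 (.node 8 (.node 4 (.node 2 (.node 1 (.leaf 0x234634346123432) (.leaf 0x434534234623432)) (.node 1 (.leaf 0x6347346343423473432) (.leaf 0x7543453423463432))) (.node 2 (.node 1 (.leaf 0x434123476434123467432) (.leaf 0x43476434234623432)) (.node 1 (.leaf 0x75434634234623432) (.leaf 0x54734634123476432)))) (.node 4 (.node 2 (.node 1 (.leaf 0x62347343423432) (.leaf 0x54764534123476432)) (.node 1 (.leaf 0x23463434523473432) (.leaf 0x623474342347423432))) (.node 2 (.node 1 (.leaf 0x473465342347123432) (.leaf 0x634764234123476432)) (.node 1 (.leaf 0x46234342346347423432) (.leaf 0x34634734234623432))))) (.node 8 (.node 4 (.node 2 (.node 1 (.leaf 0x64745343423463432) (.leaf 0x452346341234623432)) (.node 1 (.leaf 0x4741234234234723432) (.leaf 0x7543463423473432))) (.node 2 (.node 1 (.leaf 0x34534634123476432) (.leaf 0x423452343464123432)) (.node 1 (.leaf 0x5434234623432) (.leaf 0x4534743423467432)))) (.node 4 (.node 2 (.node 1 (.leaf 0x546473462343423432)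 (.leaf 0x34347454234623432)) (.node 1 (.leaf 0x347343423467453432) (.leaf 0x34743452346423432))) (.node 2 (.node 1 (.leaf 0x343423463423467432) (.leaf 0x4653434234723432)) (.node 1 (.leaf 0x47634752343423432) (.leaf 0x1234534743423463432)))))) (.node 16 (.node 8 (.node 4 (.node 2 (.node 1 (.leaf 0x7434234754123432) (.leaf 0x46543423467453432)) (.node 1 (.leaf 0x4745434764234623432) (.leaf 0x547634723453423432))) (.node 2 (.node 1 (.leaf 0x43473423474123432) (.leaf 0x7345347534234723432)) (.node 1 (.leaf 0x534342346745343423432) (.leaf 0x2346542346342346423432)))) (.node 4 (.node 2 (.node 1 (.leaf 0x4746453423467432) (.leaf 0x746743423467432)) (.node 1 (.leaf 0x643452346743423432) (.leaf 0x123472343423463432))) (.node 2 (.node 1 (.leaf 0x734342347234123432) (.leaf 0x543465423476432)) (.node 1 (.leaf 0x34742341234623432) (.leaf 0x47234234653432))))) (.node 8 (.node 4 (.node 2 (.node 1 (.leaf 0x7434673434234623432) (.leaf 0x45347423453423432))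 (.node 1 (.leaf 0x54764342346423432) (.leaf 0x7643476473423463432))) (.node 2 (.node 1 (.leaf 0x5463473412347423432) (.leaf 0x4734346342346123432)) (.node 1 (.leaf 0x465342343423463432) (.leaf 0x4642341234234623432)))) (.node 4 (.node 2 (.node 1 (.leaf 0x534752343423432) (.leaf 0x7434234534634123432)) (.node 1 (.leaf 0x67346342346423432) (.leaf 0x7647346343423473432))) (.node 2 (.node 1 (.leaf 0x453473434123463432) (.leaf 0x6474346342346423432)) (.node 1 (.leaf 0x1234734123476432) (.leaf 0x52347434123476432)))))))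

def classATree_169 : Tree :=
  .node 64 (.node 32 (.node 16 (.node 8 (.node 4 (.node 2 (.node 1 (.leaf 0x7234342346347423432) (.leaf 0x764753434123432)) (.node 1 (.leaf 0x7234347454234623432) (.leaf 0x7643453423432))) (.node 2 (.node 1 (.leaf 0x45347534123476432) (.leaf 0x7647647234234653432)) (.node 1 (.leaf 0x4534734542347423432) (.leaf 0x53434734234723432)))) (.node 4 (.node 2 (.node 1 (.leaf 0x5473423465432) (.leaf 0x634234234743432)) (.node 1 (.leaf 0x12346745343423432) (.leaf 0x654234754234723432))) (.node 2 (.node 1 (.leaf 0x46743432) (.leaf 0x423467434123432)) (.node 1 (.leaf 0x642347543423473432) (.leaf 0x76434753432))))) (.node 8 (.node 4 (.node 2 (.node 1 (.leaf 0x6345234234753432) (.leaf 0x4643473423465432)) (.node 1 (.leaf 0x4347523434723432) (.leaf 0x63471234234623432))) (.node 2 (.node 1 (.leaf 0x476434234754123432) (.leaf 0x46743463423473432)) (.node 1 (.leaf 0x734523434234753432) (.leaf 0x7645341234623432)))) (.node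 4 (.node 2 (.node 1 (.leaf 0x423471234234723432) (.leaf 0x654345234623432)) (.node 1 (.leaf 0x34523434523473432) (.leaf 0x7647543423476432))) (.node 2 (.node 1 (.leaf 0x52346743423467432) (.leaf 0x34723434723432)) (.node 1 (.leaf 0x746434723465423432) (.leaf 0x42345234623432)))))) (.node 16 (.node 8 (.node 4 (.node 2 (.node 1 (.leaf 0x75412342346123432) (.leaf 0x6534347123434123432)) (.node 1 (.leaf 0x342346534234623432) (.leaf 0x47346542347423432))) (.node 2 (.node 1 (.leaf 0x434764534234623432) (.leaf 0x3434643423467432)) (.node 1 (.leaf 0x634743463423467432) (.leaf 0x674345346423432)))) (.node 4 (.node 2 (.node 1 (.leaf 0x434234734123432) (.leaf 0x7523434234723432)) (.node 1 (.leaf 0x5346234234234623432) (.leaf 0x74647453423476432))) (.node 2 (.node 1 (.leaf 0x673453472343423432) (.leaf 0x4674345234723432)) (.node 1 (.leaf 0x4674347123432) (.leaf 0x3475423423473423432))))) (.node 8 (.node 4 (.node 2 (.node 1 (.leaf 0x412343423473432)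 (.leaf 0x3463434734234723432)) (.node 1 (.leaf 0x54734534623434123432) (.leaf 0x74543423473423432))) (.node 2 (.node 1 (.leaf 0x654341234634123432) (.leaf 0x534734523465423432)) (.node 1 (.leaf 0x2346534734234623432) (.leaf 0x463473423467423432)))) (.node 4 (.node 2 (.node 1 (.leaf 0x7452346543423473432) (.leaf 0x5464743423476432)) (.node 1 (.leaf 0x75467434234653432) (.leaf 0x43474612343423432))) (.node 2 (.node 1 (.leaf 0x61234347123434123432) (.leaf 0x474643412346423432)) (.node 1 (.leaf 0x4342345342346123432) (.leaf 0x2345342346123432))))))) (.node 32 (.node 16 (.node 8 (.node 4 (.node 2 (.node 1 (.leaf 0x7543465423476432) (.leaf 0x34342347234123432)) (.node 1 (.leaf 0x634534234347423432) (.leaf 0x23434234623432))) (.node 2 (.node 1 (.leaf 0x4543473434123463432) (.leaf 0x7647346342346423432)) (.node 1 (.leaf 0x53474234234623432) (.leaf 0x6746743423467453432)))) (.node 4 (.node 2 (.node 1 (.leaf 0x674654342346423432) (.leaf 0x43464234734234723432))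 (.node 1 (.leaf 0x67346343423463432) (.leaf 0x123473434123473432))) (.node 2 (.node 1 (.leaf 0x634734623434123432) (.leaf 0x4764347345234723432)) (.node 1 (.leaf 0x23475434234347423432) (.leaf 0x6475346343423463432))))) (.node 8 (.node 4 (.node 2 (.node 1 (.leaf 0x7345342347123432) (.leaf 0x453434643423473432)) (.node 1 (.leaf 0x523473434123473432) (.leaf 0x6742347346423432))) (.node 2 (.node 1 (.leaf 0x764523423463423432) (.leaf 0x76234347542346123432)) (.node 1 (.leaf 0x7346542347423432) (.leaf 0x62343475423476432)))) (.node 4 (.node 2 (.node 1 (.leaf 0x475434734234653432) (.leaf 0x12347434523465423432)) (.node 1 (.leaf 0x7453423475423432) (.leaf 0x746542347423432))) (.node 2 (.node 1 (.leaf 0x62343465423467432) (.leaf 0x7123434234534723432)) (.node 1 (.leaf 0x746345342346423432) (.leaf 0x73463434234623432)))))) (.node 16 (.node 8 (.node 4 (.node 2 (.node 1 (.leaf 0x42341234734123432) (.leaf 0x42347645341234623432)) (.node 1 (.leaf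 0x47642346534234623432) (.leaf 0x4234742345346423432))) (.node 2 (.node 1 (.leaf 0x234634523434123432) (.leaf 0x7462347342347423432)) (.node 1 (.leaf 0x74674234523463432) (.leaf 0x74234653434523463432)))) (.node 4 (.node 2 (.node 1 (.leaf 0x34741234234623432) (.leaf 0x51234347342347123432)) (.node 1 (.leaf 0x674234634542346423432) (.leaf 0x647234347542346123432))) (.node 2 (.node 1 (.leaf 0x6742341234634123432) (.leaf 0x4754347342347123432)) (.node 1 (.leaf 0x7434543423473432) (.leaf 0x746742347123432))))) (.node 8 (.node 4 (.node 2 (.node 1 (.leaf 0x52347434523465423432) (.leaf 0x45423423473423432)) (.node 1 (.leaf 0x6473423474346423432) (.leaf 0x46423473434123473432))) (.node 2 (.node 1 (.leaf 0x234347342347123432) (.leaf 0x54623473452347423432)) (.node 1 (.leaf 0x6412346434234623432) (.leaf 0x643473434623432)))) (.node 4 (.node 2 (.node 1 (.leaf 0x746543465423476432) (.leaf 0x453434623476432)) (.node 1 (.leaf 0x54743423465432) (.leaf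 0x54753423465432))) (.node 2 (.node 1 (.leaf 0x34347342347123432) (.leaf 0x73453475341234723432)) (.node 1 (.leaf 0x67234534712343423432) (.leaf 0x47643412346423432)))))))

def classATree_170 : Tree :=
  .node 64 (.node 32 (.node 16 (.node 8 (.node 4 (.node 2 (.node 1 (.leaf 0x6434734234653432) (.leaf 0x73434623434123432)) (.node 1 (.leaf 0x543473423476432) (.leaf 0x54347543423476432))) (.node 2 (.node 1 (.leaf 0x54347342347423432) (.leaf 0x465347343423463432)) (.node 1 (.leaf 0x7634534234347423432) (.leaf 0x723434234623432)))) (.node 4 (.node 2 (.node 1 (.leaf 0x34234643423476432) (.leaf 0x742343423463432)) (.node 1 (.leaf 0x41234634234753432) (.leaf 0x6723453472343423432))) (.node 2 (.node 1 (.leaf 0x43452343423463432) (.leaf 0x2343454234623432)) (.node 1 (.leaf 0x4634523475423432) (.leaf 0x754674234234653432))))) (.node 8 (.node 4 (.node 2 (.node 1 (.leaf 0x7645346342346423432) (.leaf 0x53464343423473432)) (.node 1 (.leaf 0x4534642342346423432)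 (.leaf 0x5473463452346423432))) (.node 2 (.node 1 (.leaf 0x7543423467453432) (.leaf 0x347234234623432)) (.node 1 (.leaf 0x5423434643423463432) (.leaf 0x5462343423463432)))) (.node 4 (.node 2 (.node 1 (.leaf 0x34345423473423432) (.leaf 0x743452346743432)) (.node 1 (.leaf 0x523475343423473432) (.leaf 0x54653434123473432))) (.node 2 (.node 1 (.leaf 0x534654234234753432) (.leaf 0x647346345234623432)) (.node 1 (.leaf 0x464743423467432) (.leaf 0x42346234123432)))))) (.node 16 (.node 8 (.node 4 (.node 2 (.node 1 (.leaf 0x7534346454234723432) (.leaf 0x73434712343423432)) (.node 1 (.leaf 0x743472343423432) (.leaf 0x7434723453423467432))) (.node 2 (.node 1 (.leaf 0x47534123476432) (.leaf 0x467463423476432)) (.node 1 (.leaf 0x723465342346423432) (.leaf 0x54654341234723432)))) (.node 4 (.node 2 (.node 1 (.leaf 0x45234674345234723432) (.leaf 0x7534653423463432)) (.node 1 (.leaf 0x342347434234653432) (.leaf 0x234345234234723432))) (.node 2 (.node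 1 (.leaf 0x74234734534234753432) (.leaf 0x5423463434123473432)) (.node 1 (.leaf 0x64723462343423432) (.leaf 0x4723434123463432))))) (.node 8 (.node 4 (.node 2 (.node 1 (.leaf 0x643454234723432) (.leaf 0x4674347534234723432)) (.node 1 (.leaf 0x745434623434123432) (.leaf 0x647645234623432))) (.node 2 (.node 1 (.leaf 0x45347452343423432) (.leaf 0x7634123423423465432)) (.node 1 (.leaf 0x5347453434234623432) (.leaf 0x746345234623432)))) (.node 4 (.node 2 (.node 1 (.leaf 0x46473434123432) (.leaf 0x34673434234623432)) (.node 1 (.leaf 0x54653434234623432) (.leaf 0x673463452347423432))) (.node 2 (.node 1 (.leaf 0x642347642346123432) (.leaf 0x4673434123432)) (.node 1 (.leaf 0x46743412346423432) (.leaf 0x723467453423476432))))))) (.node 32 (.node 16 (.node 8 (.node 4 (.node 2 (.node 1 (.leaf 0x423465341234623432) (.leaf 0x46434234346423432)) (.node 1 (.leaf 0x76476434123463432) (.leaf 0x64746434123463432))) (.node 2 (.node 1 (.leaf 0x64763452343423432)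 (.leaf 0x6473452347423432)) (.node 1 (.leaf 0x547234342346123432) (.leaf 0x6746234734234623432)))) (.node 4 (.node 2 (.node 1 (.leaf 0x7434542346343423473432) (.leaf 0x674612343423432)) (.node 1 (.leaf 0x4347546342346423432) (.leaf 0x763423473423432))) (.node 2 (.node 1 (.leaf 0x75423465234234623432) (.leaf 0x234634523475423432)) (.node 1 (.leaf 0x642347645234623432) (.leaf 0x47634234123432))))) (.node 8 (.node 4 (.node 2 (.node 1 (.leaf 0x473423476432) (.leaf 0x42346534234753432)) (.node 1 (.leaf 0x7234674534123476432) (.leaf 0x73423473423432))) (.node 2 (.node 1 (.leaf 0x6434623475423432) (.leaf 0x7342343423473432)) (.node 1 (.leaf 0x42346534234623432) (.leaf 0x546345342346123432)))) (.node 4 (.node 2 (.node 1 (.leaf 0x347543463423463432) (.leaf 0x467346341234723432)) (.node 1 (.leaf 0x234634734234653432) (.leaf 0x345346423453423432))) (.node 2 (.node 1 (.leaf 0x234745234234723432) (.leaf 0x73434746423432)) (.node 1 (.leaf 0x3462343423476432)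 (.leaf 0x6347543412347423432)))))) (.node 16 (.node 8 (.node 4 (.node 2 (.node 1 (.leaf 0x647234612343423432) (.leaf 0x6434234723432)) (.node 1 (.leaf 0x6343473434234743432) (.leaf 0x7434723463412346423432))) (.node 2 (.node 1 (.leaf 0x542346343423473432) (.leaf 0x723434234764123432)) (.node 1 (.leaf 0x43465343423473432) (.leaf 0x754612343423432)))) (.node 4 (.node 2 (.node 1 (.leaf 0x746534234623432) (.leaf 0x43474234234123432)) (.node 1 (.leaf 0x45234674342347123432) (.leaf 0x73463423463432))) (.node 2 (.node 1 (.leaf 0x64234634534234653432) (.leaf 0x453412346434234643432)) (.node 1 (.leaf 0x75434612343423432) (.leaf 0x434754341234643432))))) (.node 8 (.node 4 (.node 2 (.node 1 (.leaf 0x745347123434123432) (.leaf 0x4642342346423432)) (.node 1 (.leaf 0x547634534234623432) (.leaf 0x472343423463432))) (.node 2 (.node 1 (.leaf 0x76476453423463432) (.leaf 0x64746453423463432)) (.node 1 (.leaf 0x64763423453423432) (.leaf 0x4234653423432))))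 (.node 4 (.node 2 (.node 1 (.leaf 0x346454234234753432) (.leaf 0x47346345234623432)) (.node 1 (.leaf 0x347543453423463432) (.leaf 0x46474234123476432))) (.node 2 (.node 1 (.leaf 0x647641234623432) (.leaf 0x734346454234723432)) (.node 1 (.leaf 0x674342347342347123432) (.leaf 0x543412346342346123432)))))))

def classATree_171 : Tree :=
  .node 64 (.node 32 (.node 16 (.node 8 (.node 4 (.node 2 (.node 1 (.leaf 0x54653434623476432) (.leaf 0x746745234234653432)) (.node 1 (.leaf 0x5463473452347423432) (.leaf 0x6473463412346423432))) (.node 2 (.node 1 (.leaf 0x6742346434234623432) (.leaf 0x434634347123432)) (.node 1 (.leaf 0x4653423475423432) (.leaf 0x754674234523463432)))) (.node 4 (.node 2 (.node 1 (.leaf 0x65343452343423465432) (.leaf 0x54743453423473432)) (.node 1 (.leaf 0x7634723453423432) (.leaf 0x76475342346423432))) (.node 2 (.node 1 (.leaf 0x7123463452343423432) (.leaf 0x7453474342347123432)) (.node 1 (.leaf 0x6412347343423473432)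 (.leaf 0x6347534234723432))))) (.node 8 (.node 4 (.node 2 (.node 1 (.leaf 0x65342346423432) (.leaf 0x546743472343423432)) (.node 1 (.leaf 0x7463473452343423432) (.leaf 0x673453423476432))) (.node 2 (.node 1 (.leaf 0x34347434123467432) (.leaf 0x7434642342346423432)) (.node 1 (.leaf 0x674346741234623432) (.leaf 0x63412346423432)))) (.node 4 (.node 2 (.node 1 (.leaf 0x7123462343423432) (.leaf 0x454346342346423432)) (.node 1 (.leaf 0x723434723432) (.leaf 0x5347534634234643432))) (.node 2 (.node 1 (.leaf 0x7523462343423432) (.leaf 0x6434534123476432)) (.node 1 (.leaf 0x6734623434723432) (.leaf 0x53473434234643432)))))) (.node 16 (.node 8 (.node 4 (.node 2 (.node 1 (.leaf 0x76434674234623432) (.leaf 0x7423463434234743432)) (.node 1 (.leaf 0x67343423432) (.leaf 0x7234534723432))) (.node 2 (.node 1 (.leaf 0x763434123432) (.leaf 0x674623434723432)) (.node 1 (.leaf 0x453463412346423432) (.leaf 0x3473465434234643432)))) (.node 4 (.node 2 (.node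 1 (.leaf 0x734234734534234753432) (.leaf 0x62343423453423465432)) (.node 1 (.leaf 0x673452343423432) (.leaf 0x6343423453423465432))) (.node 2 (.node 1 (.leaf 0x7643452343423432) (.leaf 0x763423453423432)) (.node 1 (.leaf 0x6347452343423432) (.leaf 0x7543462342346423432))))) (.node 8 (.node 4 (.node 2 (.node 1 (.leaf 0x764234612343423432) (.leaf 0x23452347342347423432)) (.node 1 (.leaf 0x467343423476432) (.leaf 0x67343423463423432))) (.node 2 (.node 1 (.leaf 0x7434612342346423432) (.leaf 0x7423463434723432)) (.node 1 (.leaf 0x6745343423432) (.leaf 0x346542346342346423432)))) (.node 4 (.node 2 (.node 1 (.leaf 0x34764341234723432) (.leaf 0x4623423475423432)) (.node 1 (.leaf 0x6434234234743432) (.leaf 0x4654753423465432))) (.node 2 (.node 1 (.leaf 0x523473423476432) (.leaf 0x1234743423476432)) (.node 1 (.leaf 0x642347643423432) (.leaf 0x6434753432))))))) (.node 32 (.node 16 (.node 8 (.node 4 (.node 2 (.node 1 (.leaf 0x6423462343464123432)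 (.leaf 0x674234754234723432)) (.node 1 (.leaf 0x6423474543423432) (.leaf 0x647543432))) (.node 2 (.node 1 (.leaf 0x76345234234753432) (.leaf 0x5347543423465432)) (.node 1 (.leaf 0x6341234234753432) (.leaf 0x634752342346123432)))) (.node 4 (.node 2 (.node 1 (.leaf 0x464523473423463432) (.leaf 0x763471234234623432)) (.node 1 (.leaf 0x645341234623432) (.leaf 0x123467434123467432))) (.node 2 (.node 1 (.leaf 0x34523434234753432) (.leaf 0x674345234623432)) (.node 1 (.leaf 0x53473434523473432) (.leaf 0x347234347123432))))) (.node 8 (.node 4 (.node 2 (.node 1 (.leaf 0x46434723465423432) (.leaf 0x752346743423467432)) (.node 1 (.leaf 0x647543423476432) (.leaf 0x742345234623432))) (.node 2 (.node 1 (.leaf 0x5412342346123432) (.leaf 0x474346542347423432)) (.node 1 (.leaf 0x7434764534234623432) (.leaf 0x7342346534234623432)))) (.node 4 (.node 2 (.node 1 (.leaf 0x64734234634123432) (.leaf 0x534753423465423432)) (.node 1 (.leaf 0x546745347123432)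 (.leaf 0x7434234734123432))) (.node 2 (.node 1 (.leaf 0x4754346345234623432) (.leaf 0x523434234723432)) (.node 1 (.leaf 0x6734347123434123432) (.leaf 0x74674345234723432)))))) (.node 16 (.node 8 (.node 4 (.node 2 (.node 1 (.leaf 0x7412343423473432) (.leaf 0x4643473434123473432)) (.node 1 (.leaf 0x74674347123432) (.leaf 0x4543423473423432))) (.node 2 (.node 1 (.leaf 0x5473423474346423432) (.leaf 0x64734347542346123432)) (.node 1 (.leaf 0x674341234634123432) (.leaf 0x5347434523465423432)))) (.node 4 (.node 2 (.node 1 (.leaf 0x3423465341234623432) (.leaf 0x452346543423473432)) (.node 1 (.leaf 0x4647453423476432) (.leaf 0x6746743423476432))) (.node 2 (.node 1 (.leaf 0x634543472343423432) (.leaf 0x7463473423467423432)) (.node 1 (.leaf 0x463473423476432) (.leaf 0x54674234523463432))))) (.node 8 (.node 4 (.node 2 (.node 1 (.leaf 0x647343423432) (.leaf 0x2343463472343423432)) (.node 1 (.leaf 0x46543467432) (.leaf 0x47543476432))) (.node 2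 (.node 1 (.leaf 0x7463434723465432) (.leaf 0x4754123472343423432)) (.node 1 (.leaf 0x67342346434234643432) (.leaf 0x47123434623434123432)))) (.node 4 (.node 2 (.node 1 (.leaf 0x53465343423463432) (.leaf 0x73463452347423432)) (.node 1 (.leaf 0x34534623453423432) (.leaf 0x5475343423432))) (.node 2 (.node 1 (.leaf 0x47434234123432) (.leaf 0x474123463423463432)) (.node 1 (.leaf 0x23423464534234623432) (.leaf 0x47647342345346423432)))))))

def classATree_172 : Tree :=
  .node 64 (.node 32 (.node 16 (.node 8 (.node 4 (.node 2 (.node 1 (.leaf 0x3465342347423432) (.leaf 0x475434764234723432)) (.node 1 (.leaf 0x64723434234653432) (.leaf 0x647543475423467432))) (.node 2 (.node 1 (.leaf 0x3454347543423463432) (.leaf 0x47123434623432)) (.node 1 (.leaf 0x464734345234623432) (.leaf 0x3453475434123463432)))) (.node 4 (.node 2 (.node 1 (.leaf 0x7434234123432) (.leaf 0x3467412342347123432)) (.node 1 (.leaf 0x54743453423432) (.leaf 0x346342345347423432)))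 (.node 2 (.node 1 (.leaf 0x54723434623434123432) (.leaf 0x453434123432)) (.node 1 (.leaf 0x763475434523463432) (.leaf 0x47641234723432))))) (.node 8 (.node 4 (.node 2 (.node 1 (.leaf 0x7434346423432) (.leaf 0x54764234723432)) (.node 1 (.leaf 0x75343463423432) (.leaf 0x347123434623432))) (.node 2 (.node 1 (.leaf 0x47343423467453432) (.leaf 0x4753434123432)) (.node 1 (.leaf 0x453472345234723432) (.leaf 0x423463453423463432)))) (.node 4 (.node 2 (.node 1 (.leaf 0x476412342346123432) (.leaf 0x64123463423467432)) (.node 1 (.leaf 0x65423473423476432) (.leaf 0x472343462343423432))) (.node 2 (.node 1 (.leaf 0x4234634123467432) (.leaf 0x7423463423467432)) (.node 1 (.leaf 0x64123473423476432) (.leaf 0x474645234234623432)))))) (.node 16 (.node 8 (.node 4 (.node 2 (.node 1 (.leaf 0x754123463423467432) (.leaf 0x547642342346123432)) (.node 1 (.leaf 0x12347434123476432) (.leaf 0x5234734123476432))) (.node 2 (.node 1 (.leaf 0x53464342346423432) (.leaf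 0x647346343423473432)) (.node 1 (.leaf 0x54342347645343423432) (.leaf 0x7543463423475432)))) (.node 4 (.node 2 (.node 1 (.leaf 0x542346542346123432) (.leaf 0x6423453423473432)) (.node 1 (.leaf 0x34723463423463432) (.leaf 0x67434734123463432))) (.node 2 (.node 1 (.leaf 0x467234346542347123432) (.leaf 0x7346743452346743432)) (.node 1 (.leaf 0x67342347346423432) (.leaf 0x7642347643423467432))))) (.node 8 (.node 4 (.node 2 (.node 1 (.leaf 0x34753434234723432) (.leaf 0x764234734542347423432)) (.node 1 (.leaf 0x6434734234723432) (.leaf 0x7542347346423432))) (.node 2 (.node 1 (.leaf 0x6343464543423473432) (.leaf 0x547434234723432)) (.node 1 (.leaf 0x54234634123473432) (.leaf 0x3475434234623432)))) (.node 4 (.node 2 (.node 1 (.leaf 0x4645434234623432) (.leaf 0x4734234234723432)) (.node 1 (.leaf 0x7542341234623432) (.leaf 0x4234674234123463432))) (.node 2 (.node 1 (.leaf 0x7623434234753432) (.leaf 0x54234634234234623432)) (.node 1 (.leaf 0x234753423476423432)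 (.leaf 0x346345342346123432))))))) (.node 32 (.node 16 (.node 8 (.node 4 (.node 2 (.node 1 (.leaf 0x54762343423432) (.leaf 0x4523467434123467432)) (.node 1 (.leaf 0x64234764342346123432) (.leaf 0x64346543423467432))) (.node 2 (.node 1 (.leaf 0x5474342347423432) (.leaf 0x5462347341234723432)) (.node 1 (.leaf 0x745342345346423432) (.leaf 0x46345234234653432)))) (.node 4 (.node 2 (.node 1 (.leaf 0x764234234234623432) (.leaf 0x546434734234623432)) (.node 1 (.leaf 0x75434523467423432) (.leaf 0x54634342347123432))) (.node 2 (.node 1 (.leaf 0x4523473423474123432) (.leaf 0x345342345347423432)) (.node 1 (.leaf 0x6543463423476432) (.leaf 0x64234753423432))))) (.node 8 (.node 4 (.node 2 (.node 1 (.leaf 0x342346343423476432) (.leaf 0x3475434723465423432)) (.node 1 (.leaf 0x72343475342346123432) (.leaf 0x64234643423463432))) (.node 2 (.node 1 (.leaf 0x6543462343423432) (.leaf 0x5434542347643423476432)) (.node 1 (.leaf 0x46745342346123432) (.leaf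 0x74674341234623432)))) (.node 4 (.node 2 (.node 1 (.leaf 0x74623434623476432) (.leaf 0x346543434234643432)) (.node 1 (.leaf 0x71234234234653432) (.leaf 0x34674234123473432))) (.node 2 (.node 1 (.leaf 0x541234234234623432) (.leaf 0x5234234234623432)) (.node 1 (.leaf 0x645346342346423432) (.leaf 0x67346343423473432)))))) (.node 16 (.node 8 (.node 4 (.node 2 (.node 1 (.leaf 0x6234743452346423432) (.leaf 0x475465342346423432)) (.node 1 (.leaf 0x4764347642346423432) (.leaf 0x7463453423473432))) (.node 2 (.node 1 (.leaf 0x6434234123473423432) (.leaf 0x47454342346423432)) (.node 1 (.leaf 0x763473423474123432) (.leaf 0x6434734653423463432)))) (.node 4 (.node 2 (.node 1 (.leaf 0x34734534234753432) (.leaf 0x347523434523473432)) (.node 1 (.leaf 0x42346534123476432) (.leaf 0x42346434123476432))) (.node 2 (.node 1 (.leaf 0x4534764345234723432) (.leaf 0x6475423423473423432)) (.node 1 (.leaf 0x23463474343423463432) (.leaf 0x543463423475432)))))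 (.node 8 (.node 4 (.node 2 (.node 1 (.leaf 0x7542346542346123432) (.leaf 0x4653434234623432)) (.node 1 (.leaf 0x347423463423463432) (.leaf 0x62345342345346423432))) (.node 2 (.node 1 (.leaf 0x65434734123463432) (.leaf 0x5346745234723432)) (.node 1 (.leaf 0x347453434234723432) (.leaf 0x64234734542347423432)))) (.node 4 (.node 2 (.node 1 (.leaf 0x542347346423432) (.leaf 0x76343464543423473432)) (.node 1 (.leaf 0x54734234723432) (.leaf 0x4523462345234623432))) (.node 2 (.node 1 (.leaf 0x346743452346743432) (.leaf 0x54346341234623432)) (.node 1 (.leaf 0x642347643423467432) (.leaf 0x452347434123467432)))))))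

def classATree_173 : Tree :=
  .node 64 (.node 32 (.node 16 (.node 8 (.node 4 (.node 2 (.node 1 (.leaf 0x64234234234623432) (.leaf 0x43475423473423432)) (.node 1 (.leaf 0x623434234753432) (.leaf 0x634234234123473432))) (.node 2 (.node 1 (.leaf 0x652343476423464123432) (.leaf 0x46743423476453432)) (.node 1 (.leaf 0x423476343423432) (.leaf 0x547342347423432)))) (.node 4 (.node 2 (.node 1 (.leaf 0x4674234634234623432) (.leaf 0x547634345234723432)) (.node 1 (.leaf 0x54623423463423432) (.leaf 0x465434734123463432))) (.node 2 (.node 1 (.leaf 0x74645434234623432) (.leaf 0x47434234234723432)) (.node 1 (.leaf 0x542341234623432) (.leaf 0x534347343423473432))))) (.node 8 (.node 4 (.node 2 (.node 1 (.leaf 0x5434523467423432) (.leaf 0x45342345346423432)) (.node 1 (.leaf 0x7345342345347423432) (.leaf 0x412347643423467432))) (.node 2 (.node 1 (.leaf 0x62343475423432) (.leaf 0x74523473423474123432)) (.node 1 (.leaf 0x67463434523473432) (.leaf 0x5434123467434123476432))))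 (.node 4 (.node 2 (.node 1 (.leaf 0x3472341234234653432) (.leaf 0x5473423473423432)) (.node 1 (.leaf 0x674634734234623432) (.leaf 0x6743462343423432))) (.node 2 (.node 1 (.leaf 0x453475343423467432) (.leaf 0x2343475342346123432)) (.node 1 (.leaf 0x467434234634123432) (.leaf 0x7464743423467432)))))) (.node 16 (.node 8 (.node 4 (.node 2 (.node 1 (.leaf 0x3423473462343423432) (.leaf 0x54234653423432)) (.node 1 (.leaf 0x434723453423467432) (.leaf 0x534346454234723432))) (.node 2 (.node 1 (.leaf 0x23465342346423432) (.leaf 0x43472343423432)) (.node 1 (.leaf 0x3434712343423432) (.leaf 0x4234734534234753432)))) (.node 4 (.node 2 (.node 1 (.leaf 0x234634712343423432) (.leaf 0x474534123476432)) (.node 1 (.leaf 0x7467463423476432) (.leaf 0x4723434234623432))) (.node 2 (.node 1 (.leaf 0x45434623434123432) (.leaf 0x534753434234623432)) (.node 1 (.leaf 0x23434523476423432) (.leaf 0x7342347434234653432))))) (.node 8 (.node 4 (.node 2 (.node 1 (.leaf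 0x23472345234723432) (.leaf 0x745347452343423432)) (.node 1 (.leaf 0x546234346542347123432) (.leaf 0x534653423463432))) (.node 2 (.node 1 (.leaf 0x6476434123463432) (.leaf 0x65476434123463432)) (.node 1 (.leaf 0x54347346234234123432) (.leaf 0x7643454234723432)))) (.node 4 (.node 2 (.node 1 (.leaf 0x6234347342347123432) (.leaf 0x5434754234623432)) (.node 1 (.leaf 0x6542346347423432) (.leaf 0x634123423423465432))) (.node 2 (.node 1 (.leaf 0x534723463423463432) (.leaf 0x46345234623432)) (.node 1 (.leaf 0x434542346343423473432) (.leaf 0x65423453423473432))))))) (.node 32 (.node 16 (.node 8 (.node 4 (.node 2 (.node 1 (.leaf 0x634346234234123432) (.leaf 0x546123434123432)) (.node 1 (.leaf 0x3452343423476423432) (.leaf 0x74673434123432))) (.node 2 (.node 1 (.leaf 0x643473463423473432) (.leaf 0x746743412346423432)) (.node 1 (.leaf 0x23467453423476432) (.leaf 0x7423465341234623432)))) (.node 4 (.node 2 (.node 1 (.leaf 0x23452342347123432) (.leaf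 0x76473452347423432)) (.node 1 (.leaf 0x54723434523463432) (.leaf 0x63423473423432))) (.node 2 (.node 1 (.leaf 0x53434654123432) (.leaf 0x734673434234623432)) (.node 1 (.leaf 0x461234234234623432) (.leaf 0x464234234234623432))))) (.node 8 (.node 4 (.node 2 (.node 1 (.leaf 0x2346434234674123432) (.leaf 0x52343423467423432)) (.node 1 (.leaf 0x746543423467432) (.leaf 0x3472346341234643432))) (.node 2 (.node 1 (.leaf 0x74653473423467432) (.leaf 0x7623434723432)) (.node 1 (.leaf 0x7645346534234623432) (.leaf 0x3454346343423473432)))) (.node 4 (.node 2 (.node 1 (.leaf 0x4654341234623432) (.leaf 0x7423465342346423432)) (.node 1 (.leaf 0x75423473434234623432) (.leaf 0x4123473423467432))) (.node 2 (.node 1 (.leaf 0x12347643423476432) (.leaf 0x643453463423432)) (.node 1 (.leaf 0x5473434234723432) (.leaf 0x7643452343475423432)))))) (.node 16 (.node 8 (.node 4 (.node 2 (.node 1 (.leaf 0x4234347434234653432) (.leaf 0x745341234723432)) (.node 1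 (.leaf 0x623434123473432) (.leaf 0x643453462343423432))) (.node 2 (.node 1 (.leaf 0x542343423463432) (.leaf 0x7434674234623432)) (.node 1 (.leaf 0x5463474542346423432) (.leaf 0x75463473452343423432)))) (.node 4 (.node 2 (.node 1 (.leaf 0x7647341234723432) (.leaf 0x434523423473423432)) (.node 1 (.leaf 0x54342345347423432) (.leaf 0x76473423467423432))) (.node 2 (.node 1 (.leaf 0x346734234653432) (.leaf 0x742346423432)) (.node 1 (.leaf 0x2345346341234723432) (.leaf 0x746434534234653432))))) (.node 8 (.node 4 (.node 2 (.node 1 (.leaf 0x412346434234643432) (.leaf 0x523463423463423432)) (.node 1 (.leaf 0x46743472343423432) (.leaf 0x41234234634234623432))) (.node 2 (.node 1 (.leaf 0x523434123473432) (.leaf 0x72346434123463432)) (.node 1 (.leaf 0x5434623434123432) (.leaf 0x74643452343423432)))) (.node 4 (.node 2 (.node 1 (.leaf 0x7534346472343423432) (.leaf 0x6742347643423467432)) (.node 1 (.leaf 0x3434753423476432) (.leaf 0x6423462342346423432)))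 (.node 2 (.node 1 (.leaf 0x4674634123473432) (.leaf 0x74234123463432)) (.node 1 (.leaf 0x343453472343423432) (.leaf 0x523434123432)))))))

def classATree_174 : Tree :=
  .node 64 (.node 32 (.node 16 (.node 8 (.node 4 (.node 2 (.node 1 (.leaf 0x74643453423432) (.leaf 0x34723434523463432)) (.node 1 (.leaf 0x543423467432) (.leaf 0x4347234123476432))) (.node 2 (.node 1 (.leaf 0x6123434723432) (.leaf 0x3464345234623432)) (.node 1 (.leaf 0x5343452343464123432) (.leaf 0x343423453423467432)))) (.node 4 (.node 2 (.node 1 (.leaf 0x73412346423432) (.leaf 0x543474534234723432)) (.node 1 (.leaf 0x76345234723432) (.leaf 0x45234623432))) (.node 2 (.node 1 (.leaf 0x73453423474123432) (.leaf 0x6234534643423463432)) (.node 1 (.leaf 0x46345234723432) (.leaf 0x4734123473423476432))))) (.node 8 (.node 4 (.node 2 (.node 1 (.leaf 0x234745342346423432) (.leaf 0x234123463423432)) (.node 1 (.leaf 0x2346434534123476432) (.leaf 0x45423464345234623432))) (.node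 2 (.node 1 (.leaf 0x3462343475423432) (.leaf 0x547343423432)) (.node 1 (.leaf 0x534723453423432) (.leaf 0x42347542346423432)))) (.node 4 (.node 2 (.node 1 (.leaf 0x4534674234623432) (.leaf 0x45343473423463432)) (.node 1 (.leaf 0x64123463423463432) (.leaf 0x63452347423432))) (.node 2 (.node 1 (.leaf 0x647612343423432) (.leaf 0x34634342346123432)) (.node 1 (.leaf 0x234623434123463432) (.leaf 0x53434523463432)))))) (.node 16 (.node 8 (.node 4 (.node 2 (.node 1 (.leaf 0x23463475423464123432) (.leaf 0x41234634234643432)) (.node 1 (.leaf 0x54763423476432) (.leaf 0x2346734623434723432))) (.node 2 (.node 1 (.leaf 0x5434342346347423432) (.leaf 0x4634123463432)) (.node 1 (.leaf 0x7467434123473432) (.leaf 0x463452347423432)))) (.node 4 (.node 2 (.node 1 (.leaf 0x5434654712343423432) (.leaf 0x534764734123463432)) (.node 1 (.leaf 0x53434123432) (.leaf 0x34674234623432))) (.node 2 (.node 1 (.leaf 0x634523467423432) (.leaf 0x23463434723434123432))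 (.node 1 (.leaf 0x5341234234623432) (.leaf 0x5423472343423432))))) (.node 8 (.node 4 (.node 2 (.node 1 (.leaf 0x3452343423432) (.leaf 0x34723463452346423432)) (.node 1 (.leaf 0x5346234734123463432) (.leaf 0x745346741234723432))) (.node 2 (.node 1 (.leaf 0x476434234347423432) (.leaf 0x764341234347423432)) (.node 1 (.leaf 0x5347534634234743432) (.leaf 0x45346741234723432)))) (.node 4 (.node 2 (.node 1 (.leaf 0x12343423473423432) (.leaf 0x46543454234623432)) (.node 1 (.leaf 0x643474343423463432) (.leaf 0x7643465342346423432))) (.node 2 (.node 1 (.leaf 0x54634734123476432) (.leaf 0x46745234234653432)) (.node 1 (.leaf 0x34753434234753432) (.leaf 0x347523434234753432))))))) (.node 32 (.node 16 (.node 8 (.node 4 (.node 2 (.node 1 (.leaf 0x453474342347423432) (.leaf 0x534734345423473432)) (.node 1 (.leaf 0x347464341234723432) (.leaf 0x74623423475423432))) (.node 2 (.node 1 (.leaf 0x4753423465432) (.leaf 0x4743423465432)) (.node 1 (.leaf 0x754346234347123432)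 (.leaf 0x746474234234653432)))) (.node 4 (.node 2 (.node 1 (.leaf 0x71234342346423432) (.leaf 0x743474342347123432)) (.node 1 (.leaf 0x754342341234723432) (.leaf 0x743476453423473432))) (.node 2 (.node 1 (.leaf 0x7453464234234623432) (.leaf 0x634534634234723432)) (.node 1 (.leaf 0x7543423473423432) (.leaf 0x34234623434723432))))) (.node 8 (.node 4 (.node 2 (.node 1 (.leaf 0x6723434234534723432) (.leaf 0x74341234346423432)) (.node 1 (.leaf 0x745346423432) (.leaf 0x743453423432))) (.node 2 (.node 1 (.leaf 0x123423423463423432) (.leaf 0x5423473434123473432)) (.node 1 (.leaf 0x434346542346423432) (.leaf 0x476434234634123432)))) (.node 4 (.node 2 (.node 1 (.leaf 0x7434534234347423432) (.leaf 0x643463473423476432)) (.node 1 (.leaf 0x4123473434123473432) (.leaf 0x743452343475423432))) (.node 2 (.node 1 (.leaf 0x123434623453476432) (.leaf 0x5234643473423476432)) (.node 1 (.leaf 0x7465342347123432) (.leaf 0x123434754123476432)))))) (.node 16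 (.node 8 (.node 4 (.node 2 (.node 1 (.leaf 0x123473452343423432) (.leaf 0x5474346423432)) (.node 1 (.leaf 0x4345423473423463432) (.leaf 0x743473434623432))) (.node 2 (.node 1 (.leaf 0x423473434623432) (.leaf 0x34743423463423432)) (.node 1 (.leaf 0x6343452343465423432) (.leaf 0x7543423434234743432)))) (.node 4 (.node 2 (.node 1 (.leaf 0x75434234346423432) (.leaf 0x5474643423473432)) (.node 1 (.leaf 0x7543423432) (.leaf 0x743452343423432))) (.node 2 (.node 1 (.leaf 0x7543474345234723432) (.leaf 0x7434123473423432)) (.node 1 (.leaf 0x6343452347643432) (.leaf 0x5343465342346423432))))) (.node 8 (.node 4 (.node 2 (.node 1 (.leaf 0x4746434123473432) (.leaf 0x7434123432)) (.node 1 (.leaf 0x4543423463423473432) (.leaf 0x1234643473423476432))) (.node 2 (.node 1 (.leaf 0x5463434234643432) (.leaf 0x74534734234623432)) (.node 1 (.leaf 0x5476434234347423432) (.leaf 0x65434234347423432)))) (.node 4 (.node 2 (.node 1 (.leaf 0x4123462345234623432)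 (.leaf 0x23463473423476432)) (.node 1 (.leaf 0x67343473423463432) (.leaf 0x534346123434123432))) (.node 2 (.node 1 (.leaf 0x63473463423473432) (.leaf 0x45434674234723432)) (.node 1 (.leaf 0x764734234234723432) (.leaf 0x75423465423432)))))))

def classATree_175 : Tree :=
  .node 64 (.node 32 (.node 16 (.node 8 (.node 4 (.node 2 (.node 1 (.leaf 0x6547643423467432) (.leaf 0x4754347343423473432)) (.node 1 (.leaf 0x75343454234346423432) (.leaf 0x54643412346423432))) (.node 2 (.node 1 (.leaf 0x753434523473432) (.leaf 0x2345346743423463432)) (.node 1 (.leaf 0x23474234234723432) (.leaf 0x34234743423463432)))) (.node 4 (.node 2 (.node 1 (.leaf 0x45347423453423467432) (.leaf 0x34123423423475432)) (.node 1 (.leaf 0x4654734123476432) (.leaf 0x647643472343423432))) (.node 2 (.node 1 (.leaf 0x734623434723467432) (.leaf 0x7645347342347123432)) (.node 1 (.leaf 0x654345234723432) (.leaf 0x4764342346423432))))) (.node 8 (.node 4 (.node 2 (.node 1 (.leaf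 0x723463412346423432) (.leaf 0x4753467434234723432)) (.node 1 (.leaf 0x764534734234653432) (.leaf 0x5342347534234723432))) (.node 2 (.node 1 (.leaf 0x23476473423467432) (.leaf 0x6234534674234623432)) (.node 1 (.leaf 0x753467434723432) (.leaf 0x2347464534123476432)))) (.node 4 (.node 2 (.node 1 (.leaf 0x5473434123463432) (.leaf 0x4734342346123432)) (.node 1 (.leaf 0x434763472343423432) (.leaf 0x5347434634234623432))) (.node 2 (.node 1 (.leaf 0x65434234674123432) (.leaf 0x423463434234723432)) (.node 1 (.leaf 0x754653472343423432) (.leaf 0x754634123463432)))))) (.node 16 (.node 8 (.node 4 (.node 2 (.node 1 (.leaf 0x5467434123473432) (.leaf 0x454341234723432)) (.node 1 (.leaf 0x234634543423432) (.leaf 0x2346347343423463432))) (.node 2 (.node 1 (.leaf 0x453434234623432) (.leaf 0x5472346343423473432)) (.node 1 (.leaf 0x434523473434123463432) (.leaf 0x75434654234723432)))) (.node 4 (.node 2 (.node 1 (.leaf 0x654763434123432) (.leaf 0x34523434123463432))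 (.node 1 (.leaf 0x234345347423432) (.leaf 0x2347642346123432))) (.node 2 (.node 1 (.leaf 0x6473423473423432) (.leaf 0x474645341234623432)) (.node 1 (.leaf 0x54234653423476432) (.leaf 0x75342343423463432))))) (.node 8 (.node 4 (.node 2 (.node 1 (.leaf 0x4634123467432) (.leaf 0x465434123467432)) (.node 1 (.leaf 0x5347343462343423432) (.leaf 0x67434234347423432))) (.node 2 (.node 1 (.leaf 0x534634543423463432) (.leaf 0x42341234723432)) (.node 1 (.leaf 0x534653423465423432) (.leaf 0x4234523463432)))) (.node 4 (.node 2 (.node 1 (.leaf 0x47343473462343423432) (.leaf 0x453474643423476432)) (.node 1 (.leaf 0x734653423476432) (.leaf 0x347453423467432))) (.node 2 (.node 1 (.leaf 0x7345346345234623432) (.leaf 0x346341234723432)) (.node 1 (.leaf 0x34543463423432) (.leaf 0x734523462343423432))))))) (.node 32 (.node 16 (.node 8 (.node 4 (.node 2 (.node 1 (.leaf 0x64234712342347123432) (.leaf 0x7534634234723432)) (.node 1 (.leaf 0x453476434234743432)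 (.leaf 0x64234234234723432))) (.node 2 (.node 1 (.leaf 0x67412346342346123432) (.leaf 0x745234734123467432)) (.node 1 (.leaf 0x467343473423432) (.leaf 0x46745346123432)))) (.node 4 (.node 2 (.node 1 (.leaf 0x5475434234723432) (.leaf 0x234653473423463432)) (.node 1 (.leaf 0x23475463423476432) (.leaf 0x462343423476423432))) (.node 2 (.node 1 (.leaf 0x642346743423476432) (.leaf 0x4346345434234623432)) (.node 1 (.leaf 0x4234123432) (.leaf 0x4764234123473432))))) (.node 8 (.node 4 (.node 2 (.node 1 (.leaf 0x4734523423463423432) (.leaf 0x67412346743423476432)) (.node 1 (.leaf 0x763434643423463432) (.leaf 0x47454341234723432))) (.node 2 (.node 1 (.leaf 0x5476473423463432) (.leaf 0x74543423432)) (.node 1 (.leaf 0x34754234623432) (.leaf 0x34346434523473432)))) (.node 4 (.node 2 (.node 1 (.leaf 0x74542342347123432) (.leaf 0x5346534123476432)) (.node 1 (.leaf 0x642346342346123432) (.leaf 0x3454346342346123432))) (.node 2 (.node 1 (.leaf 0x5347234123476432)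 (.leaf 0x346341234234623432)) (.node 1 (.leaf 0x63453473423474123432) (.leaf 0x347454346423432)))))) (.node 16 (.node 8 (.node 4 (.node 2 (.node 1 (.leaf 0x234754346423432) (.leaf 0x453476434523473432)) (.node 1 (.leaf 0x346341234234753432) (.leaf 0x7454234234653432))) (.node 2 (.node 1 (.leaf 0x47453423465432) (.leaf 0x473423465432)) (.node 1 (.leaf 0x453423476423432) (.leaf 0x75434234764123432)))) (.node 4 (.node 2 (.node 1 (.leaf 0x72343463472343423432) (.leaf 0x7647343423432)) (.node 1 (.leaf 0x434734123476432) (.leaf 0x43475434123476432))) (.node 2 (.node 1 (.leaf 0x3475434734234723432) (.leaf 0x754347342347423432)) (.node 1 (.leaf 0x74234634123432) (.leaf 0x3472343423432))))) (.node 8 (.node 4 (.node 2 (.node 1 (.leaf 0x34734234123476432) (.leaf 0x7345234346423432)) (.node 1 (.leaf 0x3452343464123432) (.leaf 0x647454234234653432))) (.node 2 (.node 1 (.leaf 0x347453434123467432) (.leaf 0x345234734123432)) (.node 1 (.leaf 0x346234346123432)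 (.leaf 0x234623473423474123432)))) (.node 4 (.node 2 (.node 1 (.leaf 0x43412346342346123432) (.leaf 0x4654347345234723432)) (.node 1 (.leaf 0x6342347534234723432) (.leaf 0x4723453423463432))) (.node 2 (.node 1 (.leaf 0x67234347542346123432) (.leaf 0x647346343423463432)) (.node 1 (.leaf 0x34742345346423432) (.leaf 0x476434734234653432)))))))

def classATree_176 : Tree :=
  .node 64 (.node 32 (.node 16 (.node 8 (.node 4 (.node 2 (.node 1 (.leaf 0x23474534634234723432) (.leaf 0x4764347342347123432)) (.node 1 (.leaf 0x34642342346423432) (.leaf 0x75342345346423432))) (.node 2 (.node 1 (.leaf 0x7534234753423432) (.leaf 0x53473453423467432)) (.node 1 (.leaf 0x61234347454234623432) (.leaf 0x3423474346423432)))) (.node 4 (.node 2 (.node 1 (.leaf 0x3423476473423467432) (.leaf 0x5342347346423432)) (.node 1 (.leaf 0x534745343423467432) (.leaf 0x472342346123432))) (.node 2 (.node 1 (.leaf 0x763473452347423432) (.leaf 0x54752343423463432)) (.node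 1 (.leaf 0x23475346341234723432) (.leaf 0x423474346423432))))) (.node 8 (.node 4 (.node 2 (.node 1 (.leaf 0x12343452343423465432) (.leaf 0x4742345346423432)) (.node 1 (.leaf 0x72343463434234643432) (.leaf 0x746454342346423432))) (.node 2 (.node 1 (.leaf 0x467343463423463432) (.leaf 0x423463423432)) (.node 1 (.leaf 0x534712343423432) (.leaf 0x647543452346743432)))) (.node 4 (.node 2 (.node 1 (.leaf 0x23472343423467432) (.leaf 0x2343452343423476432)) (.node 1 (.leaf 0x4634234634234623432) (.leaf 0x54342346342346123432))) (.node 2 (.node 1 (.leaf 0x734623434234723432) (.leaf 0x34642343423473432)) (.node 1 (.leaf 0x434673434234623432) (.leaf 0x54623434123463432)))))) (.node 16 (.node 8 (.node 4 (.node 2 (.node 1 (.leaf 0x23474234234623432) (.leaf 0x547534234653432)) (.node 1 (.leaf 0x465343423473432) (.leaf 0x123475343423473432))) (.node 2 (.node 1 (.leaf 0x63476434123473432) (.leaf 0x7454343423473432)) (.node 1 (.leaf 0x7453423465423432)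 (.leaf 0x434523465423432)))) (.node 4 (.node 2 (.node 1 (.leaf 0x465473423465432) (.leaf 0x6476473423465432)) (.node 1 (.leaf 0x7434523465423432) (.leaf 0x453423465423432))) (.node 2 (.node 1 (.leaf 0x743465434123473432) (.leaf 0x4754341234623432)) (.node 1 (.leaf 0x462347234346123432) (.leaf 0x546345234623432))))) (.node 8 (.node 4 (.node 2 (.node 1 (.leaf 0x745346234123476432) (.leaf 0x34645342347423432)) (.node 1 (.leaf 0x47452343423467432) (.leaf 0x346452342347123432))) (.node 2 (.node 1 (.leaf 0x67453473423476432) (.leaf 0x54746434523473432)) (.node 1 (.leaf 0x7345434623432) (.leaf 0x6347523434123432)))) (.node 4 (.node 2 (.node 1 (.leaf 0x4347234123432) (.leaf 0x7434712343423432)) (.node 1 (.leaf 0x5464342346423432) (.leaf 0x54742346342346423432))) (.node 2 (.node 1 (.leaf 0x6547523434123432) (.leaf 0x534734345234623432)) (.node 1 (.leaf 0x534674534234653432) (.leaf 0x75467434234753432))))))) (.node 32 (.node 16 (.node 8 (.node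 4 (.node 2 (.node 1 (.leaf 0x34764534234623432) (.leaf 0x4734345234623432)) (.node 1 (.leaf 0x6474346123434723432) (.leaf 0x46345234234753432))) (.node 2 (.node 1 (.leaf 0x65434542346423432) (.leaf 0x34742346343423473432)) (.node 1 (.leaf 0x6543472343423432) (.leaf 0x654347123434123432)))) (.node 4 (.node 2 (.node 1 (.leaf 0x623434123467432) (.leaf 0x47346543423473432)) (.node 1 (.leaf 0x6423464342346123432) (.leaf 0x434523467434123467432))) (.node 2 (.node 1 (.leaf 0x64746434234753432) (.leaf 0x343452342346123432)) (.node 1 (.leaf 0x47423465423432) (.leaf 0x3475346342346123432))))) (.node 8 (.node 4 (.node 2 (.node 1 (.leaf 0x52347341234723432) (.leaf 0x543423467434123476432)) (.node 1 (.leaf 0x463423423463423432) (.leaf 0x6453434123473432))) (.node 2 (.node 1 (.leaf 0x74542343423463432) (.leaf 0x4534634543423463432)) (.node 1 (.leaf 0x74347123432) (.leaf 0x46343472343465423432)))) (.node 4 (.node 2 (.node 1 (.leaf 0x434723434654123432)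 (.leaf 0x3423463472343423432)) (.node 1 (.leaf 0x6423453423432) (.leaf 0x734543423473432))) (.node 2 (.node 1 (.leaf 0x346453423463432) (.leaf 0x7463472343423432)) (.node 1 (.leaf 0x64534653423467432) (.leaf 0x6543473423476432)))))) (.node 16 (.node 8 (.node 4 (.node 2 (.node 1 (.leaf 0x754346543423473432) (.leaf 0x5475434234623432)) (.node 1 (.leaf 0x4643474342347423432) (.leaf 0x76453463423464123432))) (.node 2 (.node 1 (.leaf 0x43463423464123432) (.leaf 0x6345346534234623432)) (.node 1 (.leaf 0x4342346453423463432) (.leaf 0x6453463423464123432)))) (.node 4 (.node 2 (.node 1 (.leaf 0x734654734123463432) (.leaf 0x54342346123432)) (.node 1 (.leaf 0x52346234234623432) (.leaf 0x76473434623432))) (.node 2 (.node 1 (.leaf 0x43465434123473432) (.leaf 0x47454341234623432)) (.node 1 (.leaf 0x12346234234623432) (.leaf 0x6473434623432))))) (.node 8 (.node 4 (.node 2 (.node 1 (.leaf 0x7462347234346123432) (.leaf 0x7546345234623432)) (.node 1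 (.leaf 0x542347643423476432) (.leaf 0x763434623432))) (.node 2 (.node 1 (.leaf 0x746342346123432) (.leaf 0x7546234723434623432)) (.node 1 (.leaf 0x67343452343465423432) (.leaf 0x43423434234743432)))) (.node 4 (.node 2 (.node 1 (.leaf 0x3475463423467432) (.leaf 0x534346434123473432)) (.node 1 (.leaf 0x547542341234723432) (.leaf 0x543452342347123432))) (.node 2 (.node 1 (.leaf 0x343465434523463432) (.leaf 0x34653423467423432)) (.node 1 (.leaf 0x4754346743423476432) (.leaf 0x534634734123463432)))))))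

def classATree_177 : Tree :=
  .node 64 (.node 32 (.node 16 (.node 8 (.node 4 (.node 2 (.node 1 (.leaf 0x3465343423463432) (.leaf 0x76434347423432)) (.node 1 (.leaf 0x4634523462343423432) (.leaf 0x64542346345234623432))) (.node 2 (.node 1 (.leaf 0x62347645234234753432) (.leaf 0x43467434723432)) (.node 1 (.leaf 0x4754634123473432) (.leaf 0x634346234346423432)))) (.node 4 (.node 2 (.node 1 (.leaf 0x4647434123432) (.leaf 0x43423463452343423432)) (.node 1 (.leaf 0x4234234123473423432) (.leaf 0x47643454234723432))) (.node 2 (.node 1 (.leaf 0x34634543423463432) (.leaf 0x7534653423476432)) (.node 1 (.leaf 0x46454234234723432) (.leaf 0x4342343423473432))))) (.node 8 (.node 4 (.node 2 (.node 1 (.leaf 0x6347534672343423432) (.leaf 0x234634734234754123432)) (.node 1 (.leaf 0x234654234523473432) (.leaf 0x62345347341234723432))) (.node 2 (.node 1 (.leaf 0x734634347123432) (.leaf 0x42346543474123432)) (.node 1 (.leaf 0x67234346542346123432) (.leaf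 0x464543423432)))) (.node 4 (.node 2 (.node 1 (.leaf 0x5474643423463432) (.leaf 0x734346434234623432)) (.node 1 (.leaf 0x7462347343423473432) (.leaf 0x654764346123432))) (.node 2 (.node 1 (.leaf 0x46234753423467432) (.leaf 0x47543423463423432)) (.node 1 (.leaf 0x543476423464123432) (.leaf 0x346434523475423432)))))) (.node 16 (.node 8 (.node 4 (.node 2 (.node 1 (.leaf 0x47647342347123432) (.leaf 0x754123423473423432)) (.node 1 (.leaf 0x74123474342347123432) (.leaf 0x34653423465423432))) (.node 2 (.node 1 (.leaf 0x7634346542347123432) (.leaf 0x46454234234653432)) (.node 1 (.leaf 0x46745347641234623432) (.leaf 0x34346343423467432)))) (.node 4 (.node 2 (.node 1 (.leaf 0x4734634523475423432) (.leaf 0x674674234523463432)) (.node 1 (.leaf 0x34754634123467432) (.leaf 0x6434346542347123432))) (.node 2 (.node 1 (.leaf 0x53434643423473432) (.leaf 0x43454234234723432)) (.node 1 (.leaf 0x64534643423476432) (.leaf 0x534346434234743432))))) (.node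 8 (.node 4 (.node 2 (.node 1 (.leaf 0x34723452346423432) (.leaf 0x234534634234623432)) (.node 1 (.leaf 0x7423464743423467432) (.leaf 0x7642346534234623432))) (.node 2 (.node 1 (.leaf 0x434634346123432) (.leaf 0x654345347423432)) (.node 1 (.leaf 0x5343473423432) (.leaf 0x5342347343423467432)))) (.node 4 (.node 2 (.node 1 (.leaf 0x7454234234234723432) (.leaf 0x42346347234346123432)) (.node 1 (.leaf 0x473453472343423432) (.leaf 0x23464347234346123432))) (.node 2 (.node 1 (.leaf 0x463453423464123432) (.leaf 0x476453423432)) (.node 1 (.leaf 0x476453423463432) (.leaf 0x47346542347123432))))))) (.node 32 (.node 16 (.node 8 (.node 4 (.node 2 (.node 1 (.leaf 0x5467434234346423432) (.leaf 0x53423452342346123432)) (.node 1 (.leaf 0x47342347123434123432) (.leaf 0x534634347123432))) (.node 2 (.node 1 (.leaf 0x74234754346423432) (.leaf 0x5423474345234723432)) (.node 1 (.leaf 0x4234123473423432) (.leaf 0x534342346423432)))) (.node 4 (.node 2 (.node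 1 (.leaf 0x534643473423476432) (.leaf 0x53434623453476432)) (.node 1 (.leaf 0x745347642346423432) (.leaf 0x4754234123432))) (.node 2 (.node 1 (.leaf 0x4347543462343423432) (.leaf 0x4754234123463432)) (.node 1 (.leaf 0x47645234234723432) (.leaf 0x7346343423463432))))) (.node 8 (.node 4 (.node 2 (.node 1 (.leaf 0x534634123476432) (.leaf 0x542346534723453423432)) (.node 1 (.leaf 0x534346542346123432) (.leaf 0x734634523465423432))) (.node 2 (.node 1 (.leaf 0x634346454234723432) (.leaf 0x74654234523463432)) (.node 1 (.leaf 0x4764234123473423432) (.leaf 0x346454342347123432)))) (.node 4 (.node 2 (.node 1 (.leaf 0x7634734234623432) (.leaf 0x47463453423432)) (.node 1 (.leaf 0x47434123476432) (.leaf 0x434634523467423432))) (.node 2 (.node 1 (.leaf 0x7643423467423432) (.leaf 0x523467434123476432)) (.node 1 (.leaf 0x47463423464123432) (.leaf 0x7452346342346123432)))))) (.node 16 (.node 8 (.node 4 (.node 2 (.node 1 (.leaf 0x3412343423473432) (.leaf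 0x746234123476432)) (.node 1 (.leaf 0x4653434123473432) (.leaf 0x65423464342346423432))) (.node 2 (.node 1 (.leaf 0x423475343423467432) (.leaf 0x4634347542346123432)) (.node 1 (.leaf 0x5347234634234643432) (.leaf 0x54754342346123432)))) (.node 4 (.node 2 (.node 1 (.leaf 0x745346452343423432) (.leaf 0x34346543423463432)) (.node 1 (.leaf 0x723465434234623432) (.leaf 0x2347234534234753432))) (.node 2 (.node 1 (.leaf 0x46543423463423464123432) (.leaf 0x746345434234623432)) (.node 1 (.leaf 0x5234347462343423432) (.leaf 0x46523473452347423432))))) (.node 8 (.node 4 (.node 2 (.node 1 (.leaf 0x7643465341234623432) (.leaf 0x75465434234723432)) (.node 1 (.leaf 0x7453434643423463432) (.leaf 0x123434654123432))) (.node 2 (.node 1 (.leaf 0x343464543423463432) (.leaf 0x4734342346423432)) (.node 1 (.leaf 0x65347534234723432) (.leaf 0x764346741234623432)))) (.node 4 (.node 2 (.node 1 (.leaf 0x4634234634123432) (.leaf 0x74634543423432)) (.node 1 (.leaf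 0x763423423423465432) (.leaf 0x3467434234723432))) (.node 2 (.node 1 (.leaf 0x5346474342347123432) (.leaf 0x746542346123432)) (.node 1 (.leaf 0x764342347423432) (.leaf 0x734643423463432)))))))

def classATree_178 : Tree :=
  .node 64 (.node 32 (.node 16 (.node 8 (.node 4 (.node 2 (.node 1 (.leaf 0x5343423473432) (.leaf 0x746234712343423432)) (.node 1 (.leaf 0x43473462343423432) (.leaf 0x53465434234753432))) (.node 2 (.node 1 (.leaf 0x46543423463432) (.leaf 0x7546543423463432)) (.node 1 (.leaf 0x74634523434123432) (.leaf 0x745234347123432)))) (.node 4 (.node 2 (.node 1 (.leaf 0x74345234634123432) (.leaf 0x3473423453423432)) (.node 1 (.leaf 0x343475423476432) (.leaf 0x754234234653432))) (.node 2 (.node 1 (.leaf 0x734652343423473432) (.leaf 0x463434123463423432)) (.node 1 (.leaf 0x434764534234753432) (.leaf 0x34647434123476432))))) (.node 8 (.node 4 (.node 2 (.node 1 (.leaf 0x3473423467432) (.leaf 0x5463453423432)) (.node 1 (.leaf 0x423474234234723432)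 (.leaf 0x754234674234723432))) (.node 2 (.node 1 (.leaf 0x67234234234723432) (.leaf 0x3463476452343423432)) (.node 1 (.leaf 0x672346342346123432) (.leaf 0x4643473452343423432)))) (.node 4 (.node 2 (.node 1 (.leaf 0x47464234234723432) (.leaf 0x45434234734123432)) (.node 1 (.leaf 0x472346342346123432) (.leaf 0x34341234347423432))) (.node 2 (.node 1 (.leaf 0x45434623432) (.leaf 0x234754343423463432)) (.node 1 (.leaf 0x423476473423467432) (.leaf 0x5234634347123432)))))) (.node 16 (.node 8 (.node 4 (.node 2 (.node 1 (.leaf 0x76434347542347123432) (.leaf 0x7434754346423432)) (.node 1 (.leaf 0x474643423463432) (.leaf 0x5463452343423432))) (.node 2 (.node 1 (.leaf 0x474643423432) (.leaf 0x4654346123432)) (.node 1 (.leaf 0x3434123463423432) (.leaf 0x4543462343423463432)))) (.node 4 (.node 2 (.node 1 (.leaf 0x34745434123476432) (.leaf 0x434523434123463432)) (.node 1 (.leaf 0x46343423476423432) (.leaf 0x64346743423476432))) (.node 2 (.node 1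 (.leaf 0x4754634123463432) (.leaf 0x6534346234346423432)) (.node 1 (.leaf 0x54634123432) (.leaf 0x543467462343423432))))) (.node 8 (.node 4 (.node 2 (.node 1 (.leaf 0x52347434123467432) (.leaf 0x672346743423476432)) (.node 1 (.leaf 0x71234634123476432) (.leaf 0x512346343423463432))) (.node 2 (.node 1 (.leaf 0x454342347123432) (.leaf 0x546534734234623432)) (.node 1 (.leaf 0x4654345234723432) (.leaf 0x2343467463423476432)))) (.node 4 (.node 2 (.node 1 (.leaf 0x453465342346423432) (.leaf 0x754347343423463432)) (.node 1 (.leaf 0x347346542347423432) (.leaf 0x643465342346423432))) (.node 2 (.node 1 (.leaf 0x34734346123434123432) (.leaf 0x673465342346423432)) (.node 1 (.leaf 0x4623473423467432) (.leaf 0x123464234234623432))))))) (.node 32 (.node 16 (.node 8 (.node 4 (.node 2 (.node 1 (.leaf 0x474542343423463432) (.leaf 0x3473434723432)) (.node 1 (.leaf 0x75467434123476432) (.leaf 0x345234734234723432))) (.node 2 (.node 1 (.leaf 0x34347434234643432)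 (.leaf 0x54643423473423432)) (.node 1 (.leaf 0x546743423476432) (.leaf 0x34652343423476432)))) (.node 4 (.node 2 (.node 1 (.leaf 0x76345346342346123432) (.leaf 0x634534612343423432)) (.node 1 (.leaf 0x6123434234723432) (.leaf 0x7234653434234653432))) (.node 2 (.node 1 (.leaf 0x5234647434123467432) (.leaf 0x7434534734234623432)) (.node 1 (.leaf 0x75434523476423432) (.leaf 0x7453434234723432))))) (.node 8 (.node 4 (.node 2 (.node 1 (.leaf 0x4234347423432) (.leaf 0x6745347534234723432)) (.node 1 (.leaf 0x74347123434123432) (.leaf 0x46745342347123432))) (.node 2 (.node 1 (.leaf 0x6523473423474123432) (.leaf 0x46474534234723432)) (.node 1 (.leaf 0x464234234123432) (.leaf 0x74634734234623432)))) (.node 4 (.node 2 (.node 1 (.leaf 0x47342347342347423432) (.leaf 0x4234634234643432)) (.node 1 (.leaf 0x5342346347423432) (.leaf 0x743453473423432))) (.node 2 (.node 1 (.leaf 0x65434643423463432) (.leaf 0x23453465434123473432)) (.node 1 (.leaf 0x54234753463423463432)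 (.leaf 0x746347343423473432)))))) (.node 16 (.node 8 (.node 4 (.node 2 (.node 1 (.leaf 0x467463423473432) (.leaf 0x7453423463432)) (.node 1 (.leaf 0x74346542347123432) (.leaf 0x3434653423467432))) (.node 2 (.node 1 (.leaf 0x45434234623432) (.leaf 0x547634712343423432)) (.node 1 (.leaf 0x347346345234623432) (.leaf 0x7123465434523473432)))) (.node 4 (.node 2 (.node 1 (.leaf 0x46342341234734123432) (.leaf 0x67465343423473432)) (.node 1 (.leaf 0x647454342347423432) (.leaf 0x47523434234753432))) (.node 2 (.node 1 (.leaf 0x7423465423432) (.leaf 0x347346342346423432)) (.node 1 (.leaf 0x43475434234753432) (.leaf 0x74534342347423432))))) (.node 8 (.node 4 (.node 2 (.node 1 (.leaf 0x476423423473423432) (.leaf 0x64723423473423432)) (.node 1 (.leaf 0x452343423467423432) (.leaf 0x764534234347423432))) (.node 2 (.node 1 (.leaf 0x467463423464123432) (.leaf 0x734543462343423432)) (.node 1 (.leaf 0x347434634234743432) (.leaf 0x74346742347123432))))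 (.node 4 (.node 2 (.node 1 (.leaf 0x7234634234754123432) (.leaf 0x5423462345234623432)) (.node 1 (.leaf 0x53476434523463432) (.leaf 0x23464234234623432))) (.node 2 (.node 1 (.leaf 0x47542343423463432) (.leaf 0x34734347123432)) (.node 1 (.leaf 0x7546743423476432) (.leaf 0x346234734234723432)))))))

def classATree_179 : Tree :=
  .node 64 (.node 32 (.node 16 (.node 8 (.node 4 (.node 2 (.node 1 (.leaf 0x34623473423463432) (.leaf 0x5467434123476432)) (.node 1 (.leaf 0x67463423473423432) (.leaf 0x346234534123476432))) (.node 2 (.node 1 (.leaf 0x234653434234653432) (.leaf 0x6723467434123467432)) (.node 1 (.leaf 0x434534734234623432) (.leaf 0x6345346342346123432)))) (.node 4 (.node 2 (.node 1 (.leaf 0x7634534612343423432) (.leaf 0x34634234346423432)) (.node 1 (.leaf 0x6454347534234723432) (.leaf 0x4347123434123432))) (.node 2 (.node 1 (.leaf 0x64745434234723432) (.leaf 0x5434523476423432)) (.node 1 (.leaf 0x46474342347123432) (.leaf 0x7464234234123432)))))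 (.node 8 (.node 4 (.node 2 (.node 1 (.leaf 0x4634734234623432) (.leaf 0x74234634234643432)) (.node 1 (.leaf 0x5347645234623432) (.leaf 0x43453473423432))) (.node 2 (.node 1 (.leaf 0x46347343423473432) (.leaf 0x453434234723432)) (.node 1 (.leaf 0x423464234234754123432) (.leaf 0x46345434234723432)))) (.node 4 (.node 2 (.node 1 (.leaf 0x45234347342347123432) (.leaf 0x3462347342347423432)) (.node 1 (.leaf 0x234642343423473432) (.leaf 0x74234347423432))) (.node 2 (.node 1 (.leaf 0x745434234623432) (.leaf 0x5434234634123432)) (.node 1 (.leaf 0x476345342346123432) (.leaf 0x54734345423473432)))))) (.node 16 (.node 8 (.node 4 (.node 2 (.node 1 (.leaf 0x54645343423473432) (.leaf 0x3464734612343423432)) (.node 1 (.leaf 0x3474346345234623432) (.leaf 0x123465434523473432))) (.node 2 (.node 1 (.leaf 0x4345346543423463432) (.leaf 0x3474346342346423432)) (.node 1 (.leaf 0x453423463432) (.leaf 0x7467463423473432)))) (.node 4 (.node 2 (.node 1 (.leaf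 0x4346542347123432) (.leaf 0x423465423432)) (.node 1 (.leaf 0x45234634123476432) (.leaf 0x75234234234623432))) (.node 2 (.node 1 (.leaf 0x475434723465423432) (.leaf 0x65476434123467432)) (.node 1 (.leaf 0x7534634523465423432) (.leaf 0x434764345423473432))))) (.node 8 (.node 4 (.node 2 (.node 1 (.leaf 0x75346343423463432) (.leaf 0x7541234234653432)) (.node 1 (.leaf 0x43434654234623432) (.leaf 0x34734123467432))) (.node 2 (.node 1 (.leaf 0x7541234234723432) (.leaf 0x34634123476432)) (.node 1 (.leaf 0x3475434234734123432) (.leaf 0x73465342347123432)))) (.node 4 (.node 2 (.node 1 (.leaf 0x4343465423432) (.leaf 0x6423472342347123432)) (.node 1 (.leaf 0x42342345346423432) (.leaf 0x34346741234623432))) (.node 2 (.node 1 (.leaf 0x74523473423467432) (.leaf 0x723434643423473432)) (.node 1 (.leaf 0x343475434123463432) (.leaf 0x4754342347123432))))))) (.node 32 (.node 16 (.node 8 (.node 4 (.node 2 (.node 1 (.leaf 0x467434623432) (.leaf 0x75346343423432))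 (.node 1 (.leaf 0x642346345234623432) (.leaf 0x54234753423467432))) (.node 2 (.node 1 (.leaf 0x434746453423476432) (.leaf 0x534743423467432)) (.node 1 (.leaf 0x7534346534234623432) (.leaf 0x67412346345234623432)))) (.node 4 (.node 2 (.node 1 (.leaf 0x43423432) (.leaf 0x47643423473432)) (.node 1 (.leaf 0x347541234623432) (.leaf 0x74542347643423476432))) (.node 2 (.node 1 (.leaf 0x43475434234623432) (.leaf 0x34634345234723432)) (.node 1 (.leaf 0x753434674234623432) (.leaf 0x46474341234723432))))) (.node 8 (.node 4 (.node 2 (.node 1 (.leaf 0x234346743423476432) (.leaf 0x434234345423463432)) (.node 1 (.leaf 0x3463434123463432) (.leaf 0x4234234723432))) (.node 2 (.node 1 (.leaf 0x753463423476432) (.leaf 0x4753434234346423432)) (.node 1 (.leaf 0x2347543464123432) (.leaf 0x534754346423432)))) (.node 4 (.node 2 (.node 1 (.leaf 0x434234634234753432) (.leaf 0x54746434123473432)) (.node 1 (.leaf 0x75434123432) (.leaf 0x34634234654123432))) (.node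 2 (.node 1 (.leaf 0x4234234653432) (.leaf 0x54734342347346423432)) (.node 1 (.leaf 0x7543472343465423432) (.leaf 0x34723434123473432)))))) (.node 16 (.node 8 (.node 4 (.node 2 (.node 1 (.leaf 0x5346453423467432) (.leaf 0x653473423476432)) (.node 1 (.leaf 0x47434234654123432) (.leaf 0x74123423423475432))) (.node 2 (.node 1 (.leaf 0x742346434234623432) (.leaf 0x634523467434523463432)) (.node 1 (.leaf 0x4743423464123432) (.leaf 0x75434234753432)))) (.node 4 (.node 2 (.node 1 (.leaf 0x764752343423432) (.leaf 0x6473465342347423432)) (.node 1 (.leaf 0x7346234347123432) (.leaf 0x46454347123432))) (.node 2 (.node 1 (.leaf 0x7542346123434123432) (.leaf 0x647546342346423432)) (.node 1 (.leaf 0x347345234723432) (.leaf 0x7543475423432))))) (.node 8 (.node 4 (.node 2 (.node 1 (.leaf 0x5347342347123432) (.leaf 0x647423453423432)) (.node 1 (.leaf 0x7434754123432) (.leaf 0x642346434234753432))) (.node 2 (.node 1 (.leaf 0x3423475423472343423432) (.leaf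 0x7434523473432)) (.node 1 (.leaf 0x473467434523463432) (.leaf 0x746234347123432)))) (.node 4 (.node 2 (.node 1 (.leaf 0x6234342345347123432) (.leaf 0x634734123476432)) (.node 1 (.leaf 0x547434523465423432) (.leaf 0x74642343423463432))) (.node 2 (.node 1 (.leaf 0x7434712343465423432) (.leaf 0x475434523473432)) (.node 1 (.leaf 0x47234634234723432) (.leaf 0x74347234234123432)))))))

def classATree_180 : Tree :=
  .node 64 (.node 32 (.node 16 (.node 8 (.node 4 (.node 2 (.node 1 (.leaf 0x3464234123476432) (.leaf 0x534623434523473432)) (.node 1 (.leaf 0x6543463453423463432) (.leaf 0x54753434234753432))) (.node 2 (.node 1 (.leaf 0x234723434234623432) (.leaf 0x4234123423475432)) (.node 1 (.leaf 0x3475434523473432) (.leaf 0x647543472343423432)))) (.node 4 (.node 2 (.node 1 (.leaf 0x423463472343423432) (.leaf 0x423473434234723432)) (.node 1 (.leaf 0x7234643452346423432) (.leaf 0x4753434523473432))) (.node 2 (.node 1 (.leaf 0x4643453423473432)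 (.leaf 0x74523462343423432)) (.node 1 (.leaf 0x53464343423463432) (.leaf 0x46542346534234623432))))) (.node 8 (.node 4 (.node 2 (.node 1 (.leaf 0x546454342346423432) (.leaf 0x6474346343423463432)) (.node 1 (.leaf 0x46347452343423432) (.leaf 0x123473434234723432))) (.node 2 (.node 1 (.leaf 0x47542346342346123432) (.leaf 0x345342347123432)) (.node 1 (.leaf 0x53465347341234623432) (.leaf 0x5347234234623432)))) (.node 4 (.node 2 (.node 1 (.leaf 0x546745234234653432) (.leaf 0x46547234234653432)) (.node 1 (.leaf 0x453423475423432) (.leaf 0x4674234523463432))) (.node 2 (.node 1 (.leaf 0x46542347423432) (.leaf 0x46234743423467432)) (.node 1 (.leaf 0x123434234534723432) (.leaf 0x62345347343423463432)))))) (.node 16 (.node 8 (.node 4 (.node 2 (.node 1 (.leaf 0x46342343423463432) (.leaf 0x52347534634234723432)) (.node 1 (.leaf 0x3463434234623432) (.leaf 0x46345342346423432))) (.node 2 (.node 1 (.leaf 0x4752343462343423432) (.leaf 0x546745234723432))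 (.node 1 (.leaf 0x64523423463423432) (.leaf 0x546347423453423432)))) (.node 4 (.node 2 (.node 1 (.leaf 0x523473434234723432) (.leaf 0x7453434643423473432)) (.node 1 (.leaf 0x6234347542346123432) (.leaf 0x346542347423432))) (.node 2 (.node 1 (.leaf 0x471234643423476432) (.leaf 0x1234734523465423432)) (.node 1 (.leaf 0x3471234234623432) (.leaf 0x462347342347423432))))) (.node 8 (.node 4 (.node 2 (.node 1 (.leaf 0x534723465342346423432) (.leaf 0x7234347342347123432)) (.node 1 (.leaf 0x4542347343423463432) (.leaf 0x4234653434523463432))) (.node 2 (.node 1 (.leaf 0x23463434734234723432) (.leaf 0x547342343423473432)) (.node 1 (.leaf 0x3463474342347423432) (.leaf 0x745423423473423432)))) (.node 4 (.node 2 (.node 1 (.leaf 0x434543423473432) (.leaf 0x346534734234623432)) (.node 1 (.leaf 0x46742347123432) (.leaf 0x5234734523465423432))) (.node 2 (.node 1 (.leaf 0x23475423423473423432) (.leaf 0x751234347342347123432)) (.node 1 (.leaf 0x64345346123432)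 (.leaf 0x7623434234534623432))))))) (.node 32 (.node 16 (.node 8 (.node 4 (.node 2 (.node 1 (.leaf 0x643453423432) (.leaf 0x234347454234623432)) (.node 1 (.leaf 0x4734234734234723432) (.leaf 0x46341234634234623432))) (.node 2 (.node 1 (.leaf 0x42347123434623432) (.leaf 0x54654341234623432)) (.node 1 (.leaf 0x423453423476432) (.leaf 0x452343423476432)))) (.node 4 (.node 2 (.node 1 (.leaf 0x4623453423476432) (.leaf 0x4652343423476432)) (.node 1 (.leaf 0x65234347123432) (.leaf 0x4543473423467432))) (.node 2 (.node 1 (.leaf 0x453423467432) (.leaf 0x3454342345346423432)) (.node 1 (.leaf 0x3464534234623432) (.leaf 0x343452343423467432))))) (.node 8 (.node 4 (.node 2 (.node 1 (.leaf 0x2342346453423463432) (.leaf 0x453474345234723432)) (.node 1 (.leaf 0x76341234723432) (.leaf 0x73452346423432))) (.node 2 (.node 1 (.leaf 0x63412347423432) (.leaf 0x6434634123463432)) (.node 1 (.leaf 0x7123434674234623432) (.leaf 0x54234623432)))) (.node 4 (.node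 2 (.node 1 (.leaf 0x2345234634123432) (.leaf 0x5423462343423432)) (.node 1 (.leaf 0x12343472343423432) (.leaf 0x52343463423463432))) (.node 2 (.node 1 (.leaf 0x23462343423432) (.leaf 0x743434234743432)) (.node 1 (.leaf 0x4673423476432) (.leaf 0x2346347542346423432)))))) (.node 16 (.node 8 (.node 4 (.node 2 (.node 1 (.leaf 0x534647434523463432) (.leaf 0x423473463423467432)) (.node 1 (.leaf 0x23462343423463432) (.leaf 0x345434234653432))) (.node 2 (.node 1 (.leaf 0x346423475423432) (.leaf 0x467467434123463432)) (.node 1 (.leaf 0x546234123463432) (.leaf 0x47534234123432)))) (.node 4 (.node 2 (.node 1 (.leaf 0x34623434754123432) (.leaf 0x2346453434123476432)) (.node 1 (.leaf 0x234623453423432) (.leaf 0x423464534234623432))) (.node 2 (.node 1 (.leaf 0x2341234634123432) (.leaf 0x4534764234723432)) (.node 1 (.leaf 0x4347534234653432) (.leaf 0x34542342346123432))))) (.node 8 (.node 4 (.node 2 (.node 1 (.leaf 0x34723463423464123432) (.leaf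 0x234743452346423432)) (.node 1 (.leaf 0x34543423432) (.leaf 0x53474643423473432))) (.node 2 (.node 1 (.leaf 0x346345434234623432) (.leaf 0x6547623434123432)) (.node 1 (.leaf 0x34523434123432) (.leaf 0x4534623453423432)))) (.node 4 (.node 2 (.node 1 (.leaf 0x47434634234723432) (.leaf 0x64234734653423463432)) (.node 1 (.leaf 0x7546534234623432) (.leaf 0x4746234723434623432))) (.node 2 (.node 1 (.leaf 0x523462342346123432) (.leaf 0x6345346123432)) (.node 1 (.leaf 0x7523462342346123432) (.leaf 0x76345346123432)))))))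

def classATree_181 : Tree :=
  .node 64 (.node 32 (.node 16 (.node 8 (.node 4 (.node 2 (.node 1 (.leaf 0x7643463423467432) (.leaf 0x674534753423476432)) (.node 1 (.leaf 0x762343423467432) (.leaf 0x434643423467432))) (.node 2 (.node 1 (.leaf 0x674342346423432) (.leaf 0x6745347123434123432)) (.node 1 (.leaf 0x54723463412346423432) (.leaf 0x67453472343423432)))) (.node 4 (.node 2 (.node 1 (.leaf 0x76423464345234623432) (.leaf 0x6723463423473423432)) (.node 1 (.leaf 0x47523434123467432) (.leaf 0x73467434234653432))) (.node 2 (.node 1 (.leaf 0x343462343423463432) (.leaf 0x343423473432)) (.node 1 (.leaf 0x47634712343423432) (.leaf 0x4534723432))))) (.node 8 (.node 4 (.node 2 (.node 1 (.leaf 0x3434623432) (.leaf 0x743463434123463432)) (.node 1 (.leaf 0x54764534234753432) (.leaf 0x634347343423473432))) (.node 2 (.node 1 (.leaf 0x5347464342346123432) (.leaf 0x453463434234643432)) (.node 1 (.leaf 0x4523476423432) (.leaf 0x43463423475423432))))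 (.node 4 (.node 2 (.node 1 (.leaf 0x7464347345234723432) (.leaf 0x34523434634234623432)) (.node 1 (.leaf 0x673463423463432) (.leaf 0x6345342346342346123432))) (.node 2 (.node 1 (.leaf 0x54674345423473432) (.leaf 0x52347434234723432)) (.node 1 (.leaf 0x463434234723432) (.leaf 0x47345434234653432)))))) (.node 16 (.node 8 (.node 4 (.node 2 (.node 1 (.leaf 0x434654123423475432) (.leaf 0x6347423453423432)) (.node 1 (.leaf 0x34342347345234723432) (.leaf 0x647452343423432))) (.node 2 (.node 1 (.leaf 0x463434623432) (.leaf 0x67346234234723432)) (.node 1 (.leaf 0x3434234734123432) (.leaf 0x76434234123473432)))) (.node 4 (.node 2 (.node 1 (.leaf 0x67423453423432) (.leaf 0x63473463423463432)) (.node 1 (.leaf 0x4523434234623432) (.leaf 0x346347343423463432))) (.node 2 (.node 1 (.leaf 0x4534723434123432) (.leaf 0x234643453423463432)) (.node 1 (.leaf 0x34645343423463432) (.leaf 0x434634123467432))))) (.node 8 (.node 4 (.node 2 (.node 1 (.leaf 0x43474345234723432)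 (.leaf 0x474642341234723432)) (.node 1 (.leaf 0x53475434123476432) (.leaf 0x53473423463423432))) (.node 2 (.node 1 (.leaf 0x346523473423463432) (.leaf 0x3475434123467432)) (.node 1 (.leaf 0x453476434123476432) (.leaf 0x5434123473423432)))) (.node 4 (.node 2 (.node 1 (.leaf 0x453423453423463432) (.leaf 0x6234742342347123432)) (.node 1 (.leaf 0x3476347542347123432) (.leaf 0x5465343423432))) (.node 2 (.node 1 (.leaf 0x434743453423463432) (.leaf 0x234753434234623432)) (.node 1 (.leaf 0x4534674345234623432) (.leaf 0x634347542347123432))))))) (.node 32 (.node 16 (.node 8 (.node 4 (.node 2 (.node 1 (.leaf 0x523463434723432) (.leaf 0x74347543464123432)) (.node 1 (.leaf 0x4645434623432) (.leaf 0x672346345234623432))) (.node 2 (.node 1 (.leaf 0x472346345234623432) (.leaf 0x54346123432)) (.node 1 (.leaf 0x4754653423463432) (.leaf 0x5463423453423432)))) (.node 4 (.node 2 (.node 1 (.leaf 0x54653423432) (.leaf 0x47464234123463432)) (.node 1 (.leaf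 0x5465434123432) (.leaf 0x346434734234723432))) (.node 2 (.node 1 (.leaf 0x234346743423473432) (.leaf 0x5463475342346123432)) (.node 1 (.leaf 0x5234743423467432) (.leaf 0x4234746453423476432))))) (.node 8 (.node 4 (.node 2 (.node 1 (.leaf 0x547346234234623432) (.leaf 0x534753423467432)) (.node 1 (.leaf 0x534754342347423432) (.leaf 0x234634543423463432))) (.node 2 (.node 1 (.leaf 0x7123463423476432) (.leaf 0x4645434234723432)) (.node 1 (.leaf 0x546523423463423432) (.leaf 0x7546234234723432)))) (.node 4 (.node 2 (.node 1 (.leaf 0x53473423453423432) (.leaf 0x5343475423476432)) (.node 1 (.leaf 0x5434612343475423432) (.leaf 0x7452346234234623432))) (.node 2 (.node 1 (.leaf 0x54341234723432) (.leaf 0x754234523463432)) (.node 1 (.leaf 0x5463434123463423432) (.leaf 0x453476434234753432)))))) (.node 16 (.node 8 (.node 4 (.node 2 (.node 1 (.leaf 0x4523434723432) (.leaf 0x463423467432)) (.node 1 (.leaf 0x34745234634234643432) (.leaf 0x346474342347123432)))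 (.node 2 (.node 1 (.leaf 0x634234234723432) (.leaf 0x645346345234623432)) (.node 1 (.leaf 0x73453423473432) (.leaf 0x34123423423465432)))) (.node 4 (.node 2 (.node 1 (.leaf 0x4753423476432) (.leaf 0x6434542347423432)) (.node 1 (.leaf 0x5346453423463432) (.leaf 0x64523462343423432))) (.node 2 (.node 1 (.leaf 0x76347342347123432) (.leaf 0x647345234723432)) (.node 1 (.leaf 0x43464234234123432) (.leaf 0x434654723453423432))))) (.node 8 (.node 4 (.node 2 (.node 1 (.leaf 0x546543454234723432) (.leaf 0x4674634123476432)) (.node 1 (.leaf 0x5423474342347423432) (.leaf 0x462343472343423432))) (.node 2 (.node 1 (.leaf 0x465434674234623432) (.leaf 0x4654234623432)) (.node 1 (.leaf 0x54754341234623432) (.leaf 0x346734342346423432)))) (.node 4 (.node 2 (.node 1 (.leaf 0x46343423432) (.leaf 0x4634342346123432)) (.node 1 (.leaf 0x423476434234753432) (.leaf 0x7634346542346423432))) (.node 2 (.node 1 (.leaf 0x763434654234623432) (.leaf 0x464341234234623432))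 (.node 1 (.leaf 0x47542342347423432) (.leaf 0x5343423473423474123432)))))))

def classATree_182 : Tree :=
  .node 64 (.node 32 (.node 16 (.node 8 (.node 4 (.node 2 (.node 1 (.leaf 0x4634234234123432) (.leaf 0x467343423432)) (.node 1 (.leaf 0x34654734234623432) (.leaf 0x412342347423432))) (.node 2 (.node 1 (.leaf 0x752346743423476432) (.leaf 0x452346345234623432)) (.node 1 (.leaf 0x75234234234723432) (.leaf 0x34523473412347423432)))) (.node 4 (.node 2 (.node 1 (.leaf 0x473463434234753432) (.leaf 0x712343465423432)) (.node 1 (.leaf 0x6234764234123476432) (.leaf 0x4634342346347423432))) (.node 2 (.node 1 (.leaf 0x4623472343423432) (.leaf 0x54654234123463432)) (.node 1 (.leaf 0x74654234123463432) (.leaf 0x1234753434234753432))))) (.node 8 (.node 4 (.node 2 (.node 1 (.leaf 0x3475234634234643432) (.leaf 0x74523434723432)) (.node 1 (.leaf 0x346474534234723432) (.leaf 0x7463423467432))) (.node 2 (.node 1 (.leaf 0x7634234234723432) (.leaf 0x7645346345234623432))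 (.node 1 (.leaf 0x34612343423476432) (.leaf 0x46543472343423432)))) (.node 4 (.node 2 (.node 1 (.leaf 0x7647345234723432) (.leaf 0x6347342347123432)) (.node 1 (.leaf 0x743464234234123432) (.leaf 0x7434654723453423432))) (.node 2 (.node 1 (.leaf 0x47643434234643432) (.leaf 0x3453423473432)) (.node 1 (.leaf 0x47453423476432) (.leaf 0x6434734612343423432)))))) (.node 16 (.node 8 (.node 4 (.node 2 (.node 1 (.leaf 0x34645434234753432) (.leaf 0x5234734234653432)) (.node 1 (.leaf 0x6734653423463432) (.leaf 0x63434654234623432))) (.node 2 (.node 1 (.leaf 0x74674634123476432) (.leaf 0x634346542346423432)) (.node 1 (.leaf 0x46523473423474123432) (.leaf 0x4234623434623432)))) (.node 4 (.node 2 (.node 1 (.leaf 0x4634234123473432) (.leaf 0x6543462343475423432)) (.node 1 (.leaf 0x12343465423432) (.leaf 0x46534347542346123432))) (.node 2 (.node 1 (.leaf 0x4234753434123467432) (.leaf 0x74654234623432)) (.node 1 (.leaf 0x75423474342347423432) (.leaf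 0x74634342346123432))))) (.node 8 (.node 4 (.node 2 (.node 1 (.leaf 0x7423476434234753432) (.leaf 0x647543423473423432)) (.node 1 (.leaf 0x74623472343423432) (.leaf 0x634745342346123432))) (.node 2 (.node 1 (.leaf 0x7467343423432) (.leaf 0x52346743423476432)) (.node 1 (.leaf 0x634734234653432) (.leaf 0x7452346345234623432)))) (.node 4 (.node 2 (.node 1 (.leaf 0x5234234234723432) (.leaf 0x4654234123463432)) (.node 1 (.leaf 0x67465434123463432) (.leaf 0x746343423432))) (.node 2 (.node 1 (.leaf 0x63475434234723432) (.leaf 0x5473452346343423473432)) (.node 1 (.leaf 0x74634234234123432) (.leaf 0x2347523434234753432))))))) (.node 32 (.node 16 (.node 8 (.node 4 (.node 2 (.node 1 (.leaf 0x45434723465423432) (.leaf 0x7434523476423432)) (.node 1 (.leaf 0x46234234234623432) (.leaf 0x534234347423432))) (.node 2 (.node 1 (.leaf 0x434754342347123432) (.leaf 0x454343423473432)) (.node 1 (.leaf 0x453434234743432) (.leaf 0x43475434234743432)))) (.node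 4 (.node 2 (.node 1 (.leaf 0x743475434234753432) (.leaf 0x4534342347423432)) (.node 1 (.leaf 0x4764345234623432) (.leaf 0x45346543423473432))) (.node 2 (.node 1 (.leaf 0x47454342346123432) (.leaf 0x1234743423467423432)) (.node 1 (.leaf 0x647452343423467432) (.leaf 0x7543463423467432))))) (.node 8 (.node 4 (.node 2 (.node 1 (.leaf 0x34643452347423432) (.leaf 0x47345234234653432)) (.node 1 (.leaf 0x34641234234723432) (.leaf 0x7534346123432))) (.node 2 (.node 1 (.leaf 0x43423412346423432) (.leaf 0x4346347542347123432)) (.node 1 (.leaf 0x53467434523463432) (.leaf 0x7454347123434123432)))) (.node 4 (.node 2 (.node 1 (.leaf 0x6746343423473432) (.leaf 0x64723453423432)) (.node 1 (.leaf 0x7647346234347123432) (.leaf 0x64743463423463432))) (.node 2 (.node 1 (.leaf 0x1234734234723432) (.leaf 0x4543473423432)) (.node 1 (.leaf 0x5434542346743423467432) (.leaf 0x634752343423432)))))) (.node 16 (.node 8 (.node 4 (.node 2 (.node 1 (.leaf 0x643412346423432)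 (.leaf 0x5464347342347123432)) (.node 1 (.leaf 0x764764534234753432) (.leaf 0x54346343423463432))) (.node 2 (.node 1 (.leaf 0x623453423467432) (.leaf 0x64534712343423432)) (.node 1 (.leaf 0x2346234723434623432) (.leaf 0x2343473453423473432)))) (.node 4 (.node 2 (.node 1 (.leaf 0x642347123434623432) (.leaf 0x64534723434123432)) (.node 1 (.leaf 0x47123434634234623432) (.leaf 0x347346534234623432))) (.node 2 (.node 1 (.leaf 0x34764345234623432) (.leaf 0x74674534234753432)) (.node 1 (.leaf 0x76453463423467432) (.leaf 0x7454347123432))))) (.node 8 (.node 4 (.node 2 (.node 1 (.leaf 0x6234346234234123432) (.leaf 0x6543453423473432)) (.node 1 (.leaf 0x74234234123463432) (.leaf 0x64234643423432))) (.node 2 (.node 1 (.leaf 0x34534234234623432) (.leaf 0x346434123463432)) (.node 1 (.leaf 0x753434123473432) (.leaf 0x45342346743423476432)))) (.node 4 (.node 2 (.node 1 (.leaf 0x543465472343423432) (.leaf 0x74345347342347123432)) (.node 1 (.leaf 0x346473462343423432)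 (.leaf 0x6452343423432))) (.node 2 (.node 1 (.leaf 0x645347534123476432) (.leaf 0x43463423467432)) (.node 1 (.leaf 0x543463423467432) (.leaf 0x547234234123476432)))))))

def classATree_183 : Tree :=
  .node 64 (.node 32 (.node 16 (.node 8 (.node 4 (.node 2 (.node 1 (.leaf 0x467453423465423432) (.leaf 0x42346743423473432)) (.node 1 (.leaf 0x734643452347423432) (.leaf 0x5347345434234653432))) (.node 2 (.node 1 (.leaf 0x753467434523463432) (.leaf 0x454347123434123432)) (.node 1 (.leaf 0x5464343423473432) (.leaf 0x12347434234723432)))) (.node 4 (.node 2 (.node 1 (.leaf 0x54634346123432) (.leaf 0x5343412347345234723432)) (.node 1 (.leaf 0x534346123432) (.leaf 0x7634752343423432))) (.node 2 (.node 1 (.leaf 0x4764345423473432) (.leaf 0x64764534234753432)) (.node 1 (.leaf 0x6712343423467432) (.leaf 0x764534712343423432))))) (.node 8 (.node 4 (.node 2 (.node 1 (.leaf 0x64723463452343423432) (.leaf 0x234346434123476432)) (.node 1 (.leaf 0x764534723434123432)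 (.leaf 0x64723465342346423432))) (.node 2 (.node 1 (.leaf 0x4674534234753432) (.leaf 0x347464345234623432)) (.node 1 (.leaf 0x764723453423432) (.leaf 0x647346234347123432)))) (.node 4 (.node 2 (.node 1 (.leaf 0x4234234123463432) (.leaf 0x643473434234643432)) (.node 1 (.leaf 0x7643412346423432) (.leaf 0x65473463423463432))) (.node 2 (.node 1 (.leaf 0x454347123432) (.leaf 0x6453463423467432)) (.node 1 (.leaf 0x6746347342347123432) (.leaf 0x46342346743423476432)))))) (.node 16 (.node 8 (.node 4 (.node 2 (.node 1 (.leaf 0x4523463434123473432) (.leaf 0x7543465472343423432)) (.node 1 (.leaf 0x4345347342347123432) (.leaf 0x3474346534234623432))) (.node 2 (.node 1 (.leaf 0x54234764123432) (.leaf 0x734534234234623432)) (.node 1 (.leaf 0x54763472343423432) (.leaf 0x7346434123463432)))) (.node 4 (.node 2 (.node 1 (.leaf 0x53434123473432) (.leaf 0x76452343423432)) (.node 1 (.leaf 0x4674342345346423432) (.leaf 0x6743453423473432))) (.node 2 (.node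 1 (.leaf 0x64534753423476432) (.leaf 0x743463423467432)) (.node 1 (.leaf 0x6345434623432) (.leaf 0x123462342346123432))))) (.node 8 (.node 4 (.node 2 (.node 1 (.leaf 0x6734634123467432) (.leaf 0x7423423423475432)) (.node 1 (.leaf 0x34742343423473432) (.leaf 0x43476472343423432))) (.node 2 (.node 1 (.leaf 0x47634234754123432) (.leaf 0x54753423465423432)) (.node 1 (.leaf 0x4534752343423432) (.leaf 0x346234347542346123432)))) (.node 4 (.node 2 (.node 1 (.leaf 0x4623434234623432) (.leaf 0x64734346123434123432)) (.node 1 (.leaf 0x7465434723432) (.leaf 0x423464341234623432))) (.node 2 (.node 1 (.leaf 0x743412346743423476432) (.leaf 0x4623434723432)) (.node 1 (.leaf 0x4623473434723467432) (.leaf 0x234643453423432))))))) (.node 32 (.node 16 (.node 8 (.node 4 (.node 2 (.node 1 (.leaf 0x643473452343423432) (.leaf 0x4534234753432)) (.node 1 (.leaf 0x5434647423432) (.leaf 0x4346741234623432))) (.node 2 (.node 1 (.leaf 0x46742343423463432) (.leaf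 0x3474534234723432)) (.node 1 (.leaf 0x5434764712343423432) (.leaf 0x734643423467432)))) (.node 4 (.node 2 (.node 1 (.leaf 0x7634753423476432) (.leaf 0x4753434723467432)) (.node 1 (.leaf 0x764754342346423432) (.leaf 0x453475423432))) (.node 2 (.node 1 (.leaf 0x4523423423475432) (.leaf 0x6475434723434123432)) (.node 1 (.leaf 0x234643452343423432) (.leaf 0x6475434712343423432))))) (.node 8 (.node 4 (.node 2 (.node 1 (.leaf 0x3475434234753432) (.leaf 0x234645342346423432)) (.node 1 (.leaf 0x475434234753432) (.leaf 0x47345234346423432))) (.node 2 (.node 1 (.leaf 0x65473434623434123432) (.leaf 0x23472343423463432)) (.node 1 (.leaf 0x47434345423473432) (.leaf 0x34623434723432)))) (.node 4 (.node 2 (.node 1 (.leaf 0x3467453434234623432) (.leaf 0x54345423473432)) (.node 1 (.leaf 0x5434674234623432) (.leaf 0x647523434123432))) (.node 2 (.node 1 (.leaf 0x547342345346423432) (.leaf 0x4753412346423432)) (.node 1 (.leaf 0x643464734234653432) (.leaf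 0x47234534234753432)))))) (.node 16 (.node 8 (.node 4 (.node 2 (.node 1 (.leaf 0x4543474534234723432) (.leaf 0x434623434723432)) (.node 1 (.leaf 0x734234643423473432) (.leaf 0x53474543423476432))) (.node 2 (.node 1 (.leaf 0x434623434234743432) (.leaf 0x47343475423467432)) (.node 1 (.leaf 0x463423473423432) (.leaf 0x3474543423467432)))) (.node 4 (.node 2 (.node 1 (.leaf 0x7234634342347123432) (.leaf 0x6234345234234723432)) (.node 1 (.leaf 0x346347542347123432) (.leaf 0x4654234123463423432))) (.node 2 (.node 1 (.leaf 0x764346434234723432) (.leaf 0x4634234123432)) (.node 1 (.leaf 0x653423473423463432) (.leaf 0x423463423453423432))))) (.node 8 (.node 4 (.node 2 (.node 1 (.leaf 0x4654346423432) (.leaf 0x6343461234346423432)) (.node 1 (.leaf 0x23463434723432) (.leaf 0x4634734346123432))) (.node 2 (.node 1 (.leaf 0x4654234123432) (.leaf 0x54746434123463432)) (.node 1 (.leaf 0x634534734234723432) (.leaf 0x463423432)))) (.node 4 (.node 2 (.node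 1 (.leaf 0x47543423473432) (.leaf 0x463423453423432)) (.node 1 (.leaf 0x45346123432) (.leaf 0x2346543462343423432))) (.node 2 (.node 1 (.leaf 0x74652342347123432) (.leaf 0x53473452343423432)) (.node 1 (.leaf 0x53434754123476432) (.leaf 0x53464743423476432)))))))

def classATree_184 : Tree :=
  .node 64 (.node 32 (.node 16 (.node 8 (.node 4 (.node 2 (.node 1 (.leaf 0x346473434234623432) (.leaf 0x534734123467432)) (.node 1 (.leaf 0x75234634123476432) (.leaf 0x54654342347123432))) (.node 2 (.node 1 (.leaf 0x2346343423463432) (.leaf 0x53434234347423432)) (.node 1 (.leaf 0x2346543463423476432) (.leaf 0x12347434123467432)))) (.node 4 (.node 2 (.node 1 (.leaf 0x465347341234623432) (.leaf 0x4634234346423432)) (.node 1 (.leaf 0x546343423463423432) (.leaf 0x741234234653432))) (.node 2 (.node 1 (.leaf 0x5434764345423473432) (.leaf 0x43454234723432)) (.node 1 (.leaf 0x423465343423476432) (.leaf 0x434674612343423432))))) (.node 8 (.node 4 (.node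 2 (.node 1 (.leaf 0x74234534723432) (.leaf 0x346474345234723432)) (.node 1 (.leaf 0x754653423467432) (.leaf 0x3471234634234643432))) (.node 2 (.node 1 (.leaf 0x54763423463423432) (.leaf 0x674346534234623432)) (.node 1 (.leaf 0x3434123473432) (.leaf 0x734523423423465432)))) (.node 4 (.node 2 (.node 1 (.leaf 0x54743423476432) (.leaf 0x74654341234723432)) (.node 1 (.leaf 0x64745341234723432) (.leaf 0x3473434234643432))) (.node 2 (.node 1 (.leaf 0x54634347454234623432) (.leaf 0x762347643423467432)) (.node 1 (.leaf 0x6743412347423432) (.leaf 0x6734634123463432)))))) (.node 16 (.node 8 (.node 4 (.node 2 (.node 1 (.leaf 0x5465343423473432) (.leaf 0x67434674234623432)) (.node 1 (.leaf 0x5434734612343423432) (.leaf 0x3465434523473432))) (.node 2 (.node 1 (.leaf 0x73452347342347423432) (.leaf 0x1234347462343423432)) (.node 1 (.leaf 0x74234534234653432) (.leaf 0x64123464342346423432)))) (.node 4 (.node 2 (.node 1 (.leaf 0x746543412347423432)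 (.leaf 0x43475343423463432)) (.node 1 (.leaf 0x6343464542346423432) (.leaf 0x4754345234623432))) (.node 2 (.node 1 (.leaf 0x523434654123432) (.leaf 0x643467462343423432)) (.node 1 (.leaf 0x63474341234623432) (.leaf 0x7542346534234623432))))) (.node 8 (.node 4 (.node 2 (.node 1 (.leaf 0x3464734234653432) (.leaf 0x63434746423432)) (.node 1 (.leaf 0x123467434123476432) (.leaf 0x5342343423473432))) (.node 2 (.node 1 (.leaf 0x53473423473423432) (.leaf 0x5465434123463432)) (.node 1 (.leaf 0x7465434123463432) (.leaf 0x3464734342347123432)))) (.node 4 (.node 2 (.node 1 (.leaf 0x674654234623432) (.leaf 0x634346454234623432)) (.node 1 (.leaf 0x467434234234623432) (.leaf 0x674634543423432))) (.node 2 (.node 1 (.leaf 0x534674341234723432) (.leaf 0x46347423463423464123432)) (.node 1 (.leaf 0x754634234234123432) (.leaf 0x2347523434523473432))))))) (.node 32 (.node 16 (.node 8 (.node 4 (.node 2 (.node 1 (.leaf 0x764341234734123432) (.leaf 0x3423475341234723432))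 (.node 1 (.leaf 0x75423473423467432) (.leaf 0x47343423473432))) (.node 2 (.node 1 (.leaf 0x64534734234623432) (.leaf 0x473453475423432)) (.node 1 (.leaf 0x523474643423476432) (.leaf 0x64543423467423432)))) (.node 4 (.node 2 (.node 1 (.leaf 0x46547534123476432) (.leaf 0x4734523434234753432)) (.node 1 (.leaf 0x454342347423432) (.leaf 0x74347642346423432))) (.node 2 (.node 1 (.leaf 0x7412343423463432) (.leaf 0x6412347643423467432)) (.node 1 (.leaf 0x343464712343423432) (.leaf 0x4123473434234623432))))) (.node 8 (.node 4 (.node 2 (.node 1 (.leaf 0x674523473423474123432) (.leaf 0x5465434123467432)) (.node 1 (.leaf 0x47645342346123432) (.leaf 0x3453423423423475432))) (.node 2 (.node 1 (.leaf 0x43423463434123473432) (.leaf 0x4542346434234643432)) (.node 1 (.leaf 0x7546234734234623432) (.leaf 0x63473453423432)))) (.node 4 (.node 2 (.node 1 (.leaf 0x654234612343423432) (.leaf 0x463473423453423432)) (.node 1 (.leaf 0x654734234723432) (.leaf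 0x45434234723432))) (.node 2 (.node 1 (.leaf 0x7123434123432) (.leaf 0x743453472343423432)) (.node 1 (.leaf 0x46523434234653432) (.leaf 0x72343465342347123432)))))) (.node 16 (.node 8 (.node 4 (.node 2 (.node 1 (.leaf 0x45423463423464123432) (.leaf 0x54643423453423432)) (.node 1 (.leaf 0x4543423463432) (.leaf 0x67467453423463432))) (.node 2 (.node 1 (.leaf 0x5412346423432) (.leaf 0x6234534723432)) (.node 1 (.leaf 0x4647343423473432) (.leaf 0x6454342347423432)))) (.node 4 (.node 2 (.node 1 (.leaf 0x6453463423463432) (.leaf 0x643452342347123432)) (.node 1 (.leaf 0x74346123434123432) (.leaf 0x7463475423464123432))) (.node 2 (.node 1 (.leaf 0x54346741234623432) (.leaf 0x473434234347423432)) (.node 1 (.leaf 0x64543465341234623432) (.leaf 0x6434674534234723432))))) (.node 8 (.node 4 (.node 2 (.node 1 (.leaf 0x4234534723432) (.leaf 0x54653423467432)) (.node 1 (.leaf 0x3464745341234723432) (.leaf 0x6342341234723432))) (.node 2 (.node 1 (.leaf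 0x34741234634234643432) (.leaf 0x654346534234623432)) (.node 1 (.leaf 0x5473423476432) (.leaf 0x43473452343423432)))) (.node 4 (.node 2 (.node 1 (.leaf 0x5473434234643432) (.leaf 0x73434123473432)) (.node 1 (.leaf 0x34523423423465432) (.leaf 0x6543412347423432))) (.node 2 (.node 1 (.leaf 0x5346434123463432) (.leaf 0x4654341234723432)) (.node 1 (.leaf 0x47543454234623432) (.leaf 0x4623473434234623432)))))))

def classATree_185 : Tree :=
  .node 64 (.node 32 (.node 16 (.node 8 (.node 4 (.node 2 (.node 1 (.leaf 0x6434723463423467432) (.leaf 0x62347643423467432)) (.node 1 (.leaf 0x75465343423473432) (.leaf 0x743475343423463432))) (.node 2 (.node 1 (.leaf 0x46543412347423432) (.leaf 0x73465434523473432)) (.node 1 (.leaf 0x2347346342346123432) (.leaf 0x5423412347423432)))) (.node 4 (.node 2 (.node 1 (.leaf 0x542346534234623432) (.leaf 0x75342343423473432)) (.node 1 (.leaf 0x7123467434123476432) (.leaf 0x547634234123432))) (.node 2 (.node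 1 (.leaf 0x65347341234623432) (.leaf 0x65434674234623432)) (.node 1 (.leaf 0x65434623475423432) (.leaf 0x3452347342347423432))))) (.node 8 (.node 4 (.node 2 (.node 1 (.leaf 0x6746347642346123432) (.leaf 0x43473453423432)) (.node 1 (.leaf 0x4234534234653432) (.leaf 0x1234623473423476432))) (.node 2 (.node 1 (.leaf 0x4712342347342347123432) (.leaf 0x4673423462343423432)) (.node 1 (.leaf 0x54634234234123432) (.leaf 0x547623472343423432)))) (.node 4 (.node 2 (.node 1 (.leaf 0x7634346454234623432) (.leaf 0x464542346423432)) (.node 1 (.leaf 0x6475434234734123432) (.leaf 0x234673434234623432))) (.node 2 (.node 1 (.leaf 0x464723434123432) (.leaf 0x465434123463432)) (.node 1 (.leaf 0x75465434123463432) (.leaf 0x1234734534234753432)))))) (.node 16 (.node 8 (.node 4 (.node 2 (.node 1 (.leaf 0x4745434234347423432) (.leaf 0x7341234347423432)) (.node 1 (.leaf 0x5465342343423463432) (.leaf 0x523423473423432))) (.node 2 (.node 1 (.leaf 0x43464543423473432)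 (.leaf 0x4764534234623432)) (.node 1 (.leaf 0x43474342347123432) (.leaf 0x1234342346423432)))) (.node 4 (.node 2 (.node 1 (.leaf 0x7634534634234723432) (.leaf 0x46474234234653432)) (.node 1 (.leaf 0x54346234347123432) (.leaf 0x54342341234723432))) (.node 2 (.node 1 (.leaf 0x43476453423473432) (.leaf 0x543423473423432)) (.node 1 (.leaf 0x453464234234623432) (.leaf 0x734234623434723432))))) (.node 8 (.node 4 (.node 2 (.node 1 (.leaf 0x45346423432) (.leaf 0x6123434234534723432)) (.node 1 (.leaf 0x43453423432) (.leaf 0x54234643423453423432))) (.node 2 (.node 1 (.leaf 0x4341234346423432) (.leaf 0x64752346342346123432)) (.node 1 (.leaf 0x434523434234753432) (.leaf 0x3473423463423432)))) (.node 4 (.node 2 (.node 1 (.leaf 0x4534642343423463432) (.leaf 0x543423434234743432)) (.node 1 (.leaf 0x434523473423476432) (.leaf 0x543474345234723432))) (.node 2 (.node 1 (.leaf 0x434123473423432) (.leaf 0x5234342346423432)) (.node 1 (.leaf 0x4673462342346123432)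 (.leaf 0x43452342347123432))))))) (.node 32 (.node 16 (.node 8 (.node 4 (.node 2 (.node 1 (.leaf 0x434534234347423432) (.leaf 0x547346423432)) (.node 1 (.leaf 0x543423432) (.leaf 0x547643423473432))) (.node 2 (.node 1 (.leaf 0x43452343423432) (.leaf 0x476434123473432)) (.node 1 (.leaf 0x434123432) (.leaf 0x434523463423467432)))) (.node 4 (.node 2 (.node 1 (.leaf 0x4341234634234753432) (.leaf 0x343452343423432)) (.node 1 (.leaf 0x43473434623432) (.leaf 0x43452343475423432))) (.node 2 (.node 1 (.leaf 0x2346453423475423432) (.leaf 0x4754234123463423432)) (.node 1 (.leaf 0x465342347123432) (.leaf 0x4345234234234723432))))) (.node 8 (.node 4 (.node 2 (.node 1 (.leaf 0x1234743452343423432) (.leaf 0x4341234734234653432)) (.node 1 (.leaf 0x5434234346423432) (.leaf 0x2346434234754123432))) (.node 2 (.node 1 (.leaf 0x5463454234723432) (.leaf 0x4534734234623432)) (.node 1 (.leaf 0x74234653423476432) (.leaf 0x65423423473423432)))) (.node 4 (.node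 2 (.node 1 (.leaf 0x634764734123463432) (.leaf 0x543453423473432)) (.node 1 (.leaf 0x5234734523475423432) (.leaf 0x34342347423432))) (.node 2 (.node 1 (.leaf 0x543434234743432) (.leaf 0x4234734234754123432)) (.node 1 (.leaf 0x4342346342346123432) (.leaf 0x463412346345234623432)))))) (.node 16 (.node 8 (.node 4 (.node 2 (.node 1 (.leaf 0x64341234734123432) (.leaf 0x346745347123432)) (.node 1 (.leaf 0x5423473423467432) (.leaf 0x474343423473432))) (.node 2 (.node 1 (.leaf 0x73423475341234723432) (.leaf 0x52347643423476432)) (.node 1 (.leaf 0x764534734234623432) (.leaf 0x6476473423476432)))) (.node 4 (.node 2 (.node 1 (.leaf 0x647434623475423432) (.leaf 0x7454342347423432)) (.node 1 (.leaf 0x123467434123463432) (.leaf 0x4347642346423432))) (.node 2 (.node 1 (.leaf 0x7343464712343423432) (.leaf 0x76412347643423467432)) (.node 1 (.leaf 0x34234643452346423432) (.leaf 0x412343423463432))))) (.node 8 (.node 4 (.node 2 (.node 1 (.leaf 0x5465434234623432)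 (.leaf 0x645423473423474123432)) (.node 1 (.leaf 0x75465434123467432) (.leaf 0x3423463434123473432))) (.node 2 (.node 1 (.leaf 0x745434234723432) (.leaf 0x43453472343423432)) (.node 1 (.leaf 0x123434123432) (.leaf 0x53475234634234643432)))) (.node 4 (.node 2 (.node 1 (.leaf 0x2343465342347123432) (.leaf 0x64534643423463432)) (.node 1 (.leaf 0x745423463423464123432) (.leaf 0x674234612343423432))) (.node 2 (.node 1 (.leaf 0x647434234723432) (.leaf 0x7463473423453423432)) (.node 1 (.leaf 0x542346434234643432) (.leaf 0x674634234123432)))))))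

def classATree_186 : Tree :=
  .node 64 (.node 32 (.node 16 (.node 8 (.node 4 (.node 2 (.node 1 (.leaf 0x546234734234623432) (.leaf 0x7643452342347123432)) (.node 1 (.leaf 0x67123434723432) (.leaf 0x34346743423473432))) (.node 2 (.node 1 (.leaf 0x67463423453423432) (.leaf 0x74543423463432)) (.node 1 (.leaf 0x5467463423473432) (.leaf 0x34653473412347423432)))) (.node 4 (.node 2 (.node 1 (.leaf 0x75412346423432) (.leaf 0x4346123434123432)) (.node 1 (.leaf 0x754346741234623432) (.leaf 0x463475423464123432))) (.node 2 (.node 1 (.leaf 0x5347534234653432) (.leaf 0x123434123473432)) (.node 1 (.leaf 0x46723434234653432) (.leaf 0x3453463434123473432))))) (.node 8 (.node 4 (.node 2 (.node 1 (.leaf 0x23434234534623432) (.leaf 0x723434523434623432)) (.node 1 (.leaf 0x74534234234723432) (.leaf 0x7453423423473423432))) (.node 2 (.node 1 (.leaf 0x347234623434723432) (.leaf 0x74346123434723432)) (.node 1 (.leaf 0x6343465342347123432) (.leaf 0x7546743423467453432))))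 (.node 4 (.node 2 (.node 1 (.leaf 0x74534234734123432) (.leaf 0x75423434234643432)) (.node 1 (.leaf 0x473434523434623432) (.leaf 0x42343465423467432))) (.node 2 (.node 1 (.leaf 0x342346123434723432) (.leaf 0x6723434523434723432)) (.node 1 (.leaf 0x745343423432) (.leaf 0x412347343423473432)))))) (.node 16 (.node 8 (.node 4 (.node 2 (.node 1 (.leaf 0x3453463452346423432) (.leaf 0x754346423432)) (.node 1 (.leaf 0x534346343423467432) (.leaf 0x745347643423473432))) (.node 2 (.node 1 (.leaf 0x3434643423473423432) (.leaf 0x72346434523475423432)) (.node 1 (.leaf 0x12343465423467432) (.leaf 0x743475342346123432)))) (.node 4 (.node 2 (.node 1 (.leaf 0x542346743423463432) (.leaf 0x542347343423473432)) (.node 1 (.leaf 0x7343423463423432) (.leaf 0x746743452346743432))) (.node 2 (.node 1 (.leaf 0x6434534634234723432) (.leaf 0x754634234723432)) (.node 1 (.leaf 0x12343475423476432) (.leaf 0x123473423453423432))))) (.node 8 (.node 4 (.node 2 (.node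 1 (.leaf 0x434234634123473432) (.leaf 0x54764734123463432)) (.node 1 (.leaf 0x754234123432) (.leaf 0x3464234234753432))) (.node 2 (.node 1 (.leaf 0x7453474534234723432) (.leaf 0x75463423473423432)) (.node 1 (.leaf 0x743464123432) (.leaf 0x47342341234634123432)))) (.node 4 (.node 2 (.node 1 (.leaf 0x7434734346123432) (.leaf 0x4234734346123432)) (.node 1 (.leaf 0x74523423463423432) (.leaf 0x476473423463432))) (.node 2 (.node 1 (.leaf 0x7453423432) (.leaf 0x743423453423432)) (.node 1 (.leaf 0x4534346542346123432) (.leaf 0x746341234723432))))))) (.node 32 (.node 16 (.node 8 (.node 4 (.node 2 (.node 1 (.leaf 0x7434234534734123432) (.leaf 0x23465347234234623432)) (.node 1 (.leaf 0x45342343423463432) (.leaf 0x64123423473423432))) (.node 2 (.node 1 (.leaf 0x62345347123432) (.leaf 0x5464543423467432)) (.node 1 (.leaf 0x64534234234723432) (.leaf 0x64534674342347123432)))) (.node 4 (.node 2 (.node 1 (.leaf 0x654346345234623432) (.leaf 0x3474234634234643432))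 (.node 1 (.leaf 0x4623474342347423432) (.leaf 0x4764341234623432))) (.node 2 (.node 1 (.leaf 0x465473423476432) (.leaf 0x45234346342346123432)) (.node 1 (.leaf 0x634123473423474123432) (.leaf 0x43473434234753432))))) (.node 8 (.node 4 (.node 2 (.node 1 (.leaf 0x543452347423432) (.leaf 0x7123434234623432)) (.node 1 (.leaf 0x45423462343423432) (.leaf 0x746347542346423432))) (.node 2 (.node 1 (.leaf 0x643474342347123432) (.leaf 0x547341234723432)) (.node 1 (.leaf 0x46523434523463432) (.leaf 0x74234346542347123432)))) (.node 4 (.node 2 (.node 1 (.leaf 0x43472346343423463432) (.leaf 0x3473467434234623432)) (.node 1 (.leaf 0x34542347342347123432) (.leaf 0x34674534234623432))) (.node 2 (.node 1 (.leaf 0x4734543423473432) (.leaf 0x465476343423432)) (.node 1 (.leaf 0x643475342346123432) (.leaf 0x5234746434123476432)))))) (.node 16 (.node 8 (.node 4 (.node 2 (.node 1 (.leaf 0x347434234653432) (.leaf 0x54345234723432)) (.node 1 (.leaf 0x5412346434234643432)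 (.leaf 0x4542346423432))) (.node 2 (.node 1 (.leaf 0x7123434234347423432) (.leaf 0x2347434234623432)) (.node 1 (.leaf 0x65434523467423432) (.leaf 0x712343423432)))) (.node 4 (.node 2 (.node 1 (.leaf 0x52347643423473432) (.leaf 0x76453423473423432)) (.node 1 (.leaf 0x712343423473432) (.leaf 0x2346453423463432))) (.node 2 (.node 1 (.leaf 0x65423462343423432) (.leaf 0x7453462343423432)) (.node 1 (.leaf 0x347634534234623432) (.leaf 0x546453434123432))))) (.node 8 (.node 4 (.node 2 (.node 1 (.leaf 0x64234753463423463432) (.leaf 0x54643452343423432)) (.node 1 (.leaf 0x5434123463432) (.leaf 0x67467434123463432))) (.node 2 (.node 1 (.leaf 0x4763453423432) (.leaf 0x634734234623432)) (.node 1 (.leaf 0x4734123476432) (.leaf 0x4763423464123432)))) (.node 4 (.node 2 (.node 1 (.leaf 0x3423471234234723432) (.leaf 0x643423467423432)) (.node 1 (.leaf 0x476453463423476432) (.leaf 0x73412343423473432))) (.node 2 (.node 1 (.leaf 0x452346342346123432)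 (.leaf 0x46234123476432)) (.node 1 (.leaf 0x67423464342346423432) (.leaf 0x6453467434234653432)))))))

def classATree_187 : Tree :=
  .node 64 (.node 32 (.node 16 (.node 8 (.node 4 (.node 2 (.node 1 (.leaf 0x623476453423467432) (.leaf 0x43464734234653432)) (.node 1 (.leaf 0x5234734534234753432) (.leaf 0x3452342347342347123432))) (.node 2 (.node 1 (.leaf 0x623434234674123432) (.leaf 0x3434234123423475432)) (.node 1 (.leaf 0x63474534234723432) (.leaf 0x647534234723432)))) (.node 4 (.node 2 (.node 1 (.leaf 0x64346741234623432) (.leaf 0x453434643423463432)) (.node 1 (.leaf 0x7123434654123432) (.leaf 0x5465434234723432))) (.node 2 (.node 1 (.leaf 0x423476434523473432) (.leaf 0x43423472343423463432)) (.node 1 (.leaf 0x46345434234623432) (.leaf 0x45346452343423432))))) (.node 8 (.node 4 (.node 2 (.node 1 (.leaf 0x734346543423463432) (.leaf 0x23465434234623432)) (.node 1 (.leaf 0x347534342346423432) (.leaf 0x63423423423465432))) (.node 2 (.node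 1 (.leaf 0x4634543423432) (.leaf 0x73467434234723432)) (.node 1 (.leaf 0x643465341234623432) (.leaf 0x46542346123432)))) (.node 4 (.node 2 (.node 1 (.leaf 0x546543423463432) (.leaf 0x746543423463432)) (.node 1 (.leaf 0x4634523434123432) (.leaf 0x6734346542346123432))) (.node 2 (.node 1 (.leaf 0x64342347423432) (.leaf 0x34643423463432)) (.node 1 (.leaf 0x75343423473432) (.leaf 0x74634234634123432)))))) (.node 16 (.node 8 (.node 4 (.node 2 (.node 1 (.leaf 0x46234712343423432) (.leaf 0x753465434234753432)) (.node 1 (.leaf 0x743473462343423432) (.leaf 0x45234347123432))) (.node 2 (.node 1 (.leaf 0x46543423467432) (.leaf 0x3472343463423463432)) (.node 1 (.leaf 0x4653473423467432) (.leaf 0x623434723432)))) (.node 4 (.node 2 (.node 1 (.leaf 0x73454346343423473432) (.leaf 0x645346534234623432)) (.node 1 (.leaf 0x74654341234623432) (.leaf 0x423465342346423432))) (.node 2 (.node 1 (.leaf 0x5423473434234623432) (.leaf 0x6473423467423432)) (.node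 1 (.leaf 0x7434523423473423432) (.leaf 0x34674345234623432))))) (.node 8 (.node 4 (.node 2 (.node 1 (.leaf 0x123474643423476432) (.leaf 0x5473434123473432)) (.node 1 (.leaf 0x434643453423432) (.leaf 0x34542347345234723432))) (.node 2 (.node 1 (.leaf 0x643452343475423432) (.leaf 0x42346423432)) (.node 1 (.leaf 0x72345346341234723432) (.leaf 0x46434534234653432)))) (.node 4 (.node 2 (.node 1 (.leaf 0x6423412347423432) (.leaf 0x45341234723432)) (.node 1 (.leaf 0x754342345347423432) (.leaf 0x7542343423463432))) (.node 2 (.node 1 (.leaf 0x5463473452343423432) (.leaf 0x647341234723432)) (.node 1 (.leaf 0x7643453462343423432) (.leaf 0x453412347423432))))))) (.node 32 (.node 16 (.node 8 (.node 4 (.node 2 (.node 1 (.leaf 0x75434623434123432) (.leaf 0x534346472343423432)) (.node 1 (.leaf 0x6542347643423467432) (.leaf 0x434674234623432))) (.node 2 (.node 1 (.leaf 0x4623474542346423432) (.leaf 0x64234723465423432)) (.node 1 (.leaf 0x423464341234643432)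 (.leaf 0x67434234734123432)))) (.node 4 (.node 2 (.node 1 (.leaf 0x6453412347423432) (.leaf 0x2346434123463432)) (.node 1 (.leaf 0x4643452343423432) (.leaf 0x63423462342346423432))) (.node 2 (.node 1 (.leaf 0x7523434123432) (.leaf 0x123476434123473432)) (.node 1 (.leaf 0x4643453423432) (.leaf 0x347234342346123432))))) (.node 8 (.node 4 (.node 2 (.node 1 (.leaf 0x64534674234623432) (.leaf 0x612342347342347123432)) (.node 1 (.leaf 0x4234123463432) (.leaf 0x74674634123473432))) (.node 2 (.node 1 (.leaf 0x623473423473423432) (.leaf 0x434523476423432)) (.node 1 (.leaf 0x546434234234623432) (.leaf 0x71234234234723432)))) (.node 4 (.node 2 (.node 1 (.leaf 0x542342347423432) (.leaf 0x5423465341234623432)) (.node 1 (.leaf 0x54673434123432) (.leaf 0x342347234234723432))) (.node 2 (.node 1 (.leaf 0x3473434234743432) (.leaf 0x547534123476432)) (.node 1 (.leaf 0x5467463423476432) (.leaf 0x54634123467432)))))) (.node 16 (.node 8 (.node 4 (.node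 2 (.node 1 (.leaf 0x75463453423473432) (.leaf 0x43475423472343423432)) (.node 1 (.leaf 0x623476434123467432) (.leaf 0x4123474342347423432))) (.node 2 (.node 1 (.leaf 0x5234753434234753432) (.leaf 0x23423474534234723432)) (.node 1 (.leaf 0x475434234623432) (.leaf 0x6343476452343423432)))) (.node 4 (.node 2 (.node 1 (.leaf 0x434753434523463432) (.leaf 0x6472343423473432)) (.node 1 (.leaf 0x643423473423474123432) (.leaf 0x234674343423463432))) (.node 2 (.node 1 (.leaf 0x46472343423432) (.leaf 0x46454342347123432)) (.node 1 (.leaf 0x6542346123434123432) (.leaf 0x63474345234723432))))) (.node 8 (.node 4 (.node 2 (.node 1 (.leaf 0x6547342347123432) (.leaf 0x4234345423463432)) (.node 1 (.leaf 0x54123476434234753432) (.leaf 0x754234642342346423432))) (.node 2 (.node 1 (.leaf 0x6454346342346123432) (.leaf 0x7534234123473432)) (.node 1 (.leaf 0x64543423474123432) (.leaf 0x3464234123463432)))) (.node 4 (.node 2 (.node 1 (.leaf 0x53423423423465432)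 (.leaf 0x3423453423476423432)) (.node 1 (.leaf 0x5463434123432) (.leaf 0x3473453423464123432))) (.node 2 (.node 1 (.leaf 0x673465434523473432) (.leaf 0x4654123462343423432)) (.node 1 (.leaf 0x546123472343423432) (.leaf 0x465412346423432)))))))

def classATree_188 : Tree :=
  .node 64 (.node 32 (.node 16 (.node 8 (.node 4 (.node 2 (.node 1 (.leaf 0x54634523434123432) (.leaf 0x464543423463432)) (.node 1 (.leaf 0x6746543423463432) (.leaf 0x7345346543423463432))) (.node 2 (.node 1 (.leaf 0x65341234234723432) (.leaf 0x42345347123432)) (.node 1 (.leaf 0x341234347423432) (.leaf 0x475434234347423432)))) (.node 4 (.node 2 (.node 1 (.leaf 0x4234346472343423432) (.leaf 0x64734543423432)) (.node 1 (.leaf 0x534634523465423432) (.leaf 0x7434764345423473432))) (.node 2 (.node 1 (.leaf 0x347434123467432) (.leaf 0x465234734234623432)) (.node 1 (.leaf 0x541234234653432) (.leaf 0x5346343423463432))))) (.node 8 (.node 4 (.node 2 (.node 1 (.leaf 0x734634123476432)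 (.leaf 0x541234234723432)) (.node 1 (.leaf 0x6434634234754123432) (.leaf 0x3465342347123432))) (.node 2 (.node 1 (.leaf 0x53463434234643432) (.leaf 0x53434653423432)) (.node 1 (.leaf 0x734346741234623432) (.leaf 0x76423472342347123432)))) (.node 4 (.node 2 (.node 1 (.leaf 0x5346343423432) (.leaf 0x234347343423463432)) (.node 1 (.leaf 0x234674234234723432) (.leaf 0x7467434623432))) (.node 2 (.node 1 (.leaf 0x53434674234623432) (.leaf 0x4523473423467432)) (.node 1 (.leaf 0x54754345234723432) (.leaf 0x7234346743423476432)))))) (.node 16 (.node 8 (.node 4 (.node 2 (.node 1 (.leaf 0x534634342347123432) (.leaf 0x534347543423463432)) (.node 1 (.leaf 0x23434643423473432) (.leaf 0x47454342347123432))) (.node 2 (.node 1 (.leaf 0x65412346345234623432) (.leaf 0x434234653423467432)) (.node 1 (.leaf 0x347543464123432) (.leaf 0x5234754346423432)))) (.node 4 (.node 2 (.node 1 (.leaf 0x74234234723432) (.leaf 0x73463434123463432)) (.node 1 (.leaf 0x53463423476432)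 (.leaf 0x4542347643423476432))) (.node 2 (.node 1 (.leaf 0x63476434523463432) (.leaf 0x734634345234723432)) (.node 1 (.leaf 0x453423463423473432) (.leaf 0x5434123432))))) (.node 8 (.node 4 (.node 2 (.node 1 (.leaf 0x5476434123473432) (.leaf 0x3465342341234623432)) (.node 1 (.leaf 0x534346534234623432) (.leaf 0x53473423467432))) (.node 2 (.node 1 (.leaf 0x474643423473432) (.leaf 0x743423432)) (.node 1 (.leaf 0x347542346123432) (.leaf 0x734634234654123432)))) (.node 4 (.node 2 (.node 1 (.leaf 0x74234234653432) (.leaf 0x5434764534234753432)) (.node 1 (.leaf 0x4647434123467432) (.leaf 0x64764234123476432))) (.node 2 (.node 1 (.leaf 0x412347434234723432) (.leaf 0x43463434723432)) (.node 1 (.leaf 0x746543423467453432) (.leaf 0x434234754123432))))))) (.node 32 (.node 16 (.node 8 (.node 4 (.node 2 (.node 1 (.leaf 0x65343423453423465432) (.leaf 0x653423464123432)) (.node 1 (.leaf 0x465434712343423432) (.leaf 0x4754347343423463432))) (.node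 2 (.node 1 (.leaf 0x6347345234723432) (.leaf 0x76473452346423432)) (.node 1 (.leaf 0x76347234234123432) (.leaf 0x34734634234643432)))) (.node 4 (.node 2 (.node 1 (.leaf 0x63452346423432) (.leaf 0x64743423464123432)) (.node 1 (.leaf 0x4742346534234623432) (.leaf 0x673434123476432))) (.node 2 (.node 1 (.leaf 0x764346234347123432) (.leaf 0x7123463423453423432)) (.node 1 (.leaf 0x763453423432) (.leaf 0x6734234123432))))) (.node 8 (.node 4 (.node 2 (.node 1 (.leaf 0x72345347123432) (.leaf 0x473464343423463432)) (.node 1 (.leaf 0x746123434723432) (.leaf 0x434634542346423432))) (.node 2 (.node 1 (.leaf 0x7346741234623432) (.leaf 0x743474534234723432)) (.node 1 (.leaf 0x6723462343423432) (.leaf 0x64123473434123473432)))) (.node 4 (.node 2 (.node 1 (.leaf 0x674523462343423432) (.leaf 0x65347342347123432)) (.node 1 (.leaf 0x463434643423473432) (.leaf 0x76423462343423432))) (.node 2 (.node 1 (.leaf 0x76343423476432) (.leaf 0x634743423463423432))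 (.node 1 (.leaf 0x6423473434623432) (.leaf 0x63474523434123432)))))) (.node 16 (.node 8 (.node 4 (.node 2 (.node 1 (.leaf 0x6453434123476432) (.leaf 0x7346123434723432)) (.node 1 (.leaf 0x74653473423474123432) (.leaf 0x6743453423432))) (.node 2 (.node 1 (.leaf 0x7234347123432) (.leaf 0x434753463423463432)) (.node 1 (.leaf 0x674123462343423432) (.leaf 0x634234634534234653432)))) (.node 4 (.node 2 (.node 1 (.leaf 0x6343452343423465432) (.leaf 0x62343452343423465432)) (.node 1 (.leaf 0x673423453423432) (.leaf 0x6743452343423432))) (.node 2 (.node 1 (.leaf 0x763452343423432) (.leaf 0x347542347342347423432)) (.node 1 (.leaf 0x74543473423474123432) (.leaf 0x547346343423473432))))) (.node 8 (.node 4 (.node 2 (.node 1 (.leaf 0x345347534234723432) (.leaf 0x64346343423473432)) (.node 1 (.leaf 0x4623434623476432) (.leaf 0x543474623434123432))) (.node 2 (.node 1 (.leaf 0x346547643423463432) (.leaf 0x434234123473432)) (.node 1 (.leaf 0x746234234723432)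 (.leaf 0x6734634523475423432)))) (.node 4 (.node 2 (.node 1 (.leaf 0x46342342347123432) (.leaf 0x34346534234623432)) (.node 1 (.leaf 0x743476423464123432) (.leaf 0x34754342347423432))) (.node 2 (.node 1 (.leaf 0x754234234723432) (.leaf 0x47346234234623432)) (.node 1 (.leaf 0x4347343452346743432) (.leaf 0x754347645234623432)))))))

def classATree_189 : Tree :=
  .node 64 (.node 32 (.node 16 (.node 8 (.node 4 (.node 2 (.node 1 (.leaf 0x534754342347123432) (.leaf 0x4634734634234723432)) (.node 1 (.leaf 0x74347642346123432) (.leaf 0x7434746423432))) (.node 2 (.node 1 (.leaf 0x4754346123432) (.leaf 0x475423464123432)) (.node 1 (.leaf 0x473465434523473432) (.leaf 0x34754345234723432)))) (.node 4 (.node 2 (.node 1 (.leaf 0x7234346454234723432) (.leaf 0x3473463434234753432)) (.node 1 (.leaf 0x6234346454234723432) (.leaf 0x7465434523463432))) (.node 2 (.node 1 (.leaf 0x7234634523465423432) (.leaf 0x74345423463432)) (.node 1 (.leaf 0x54234764345423473432)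 (.leaf 0x73465434523463432))))) (.node 8 (.node 4 (.node 2 (.node 1 (.leaf 0x64234674534234723432) (.leaf 0x3475423464123432)) (.node 1 (.leaf 0x4346347423432) (.leaf 0x4764234623432))) (.node 2 (.node 1 (.leaf 0x7453465434234643432) (.leaf 0x745434234653432)) (.node 1 (.leaf 0x4523476434523473432) (.leaf 0x74345423463423432)))) (.node 4 (.node 2 (.node 1 (.leaf 0x754342346347423432) (.leaf 0x7346434234754123432)) (.node 1 (.leaf 0x4764346743423476432) (.leaf 0x543434654234623432))) (.node 2 (.node 1 (.leaf 0x53467463423467432) (.leaf 0x4345347123432)) (.node 1 (.leaf 0x746342346347423432) (.leaf 0x741234234723432)))))) (.node 16 (.node 8 (.node 4 (.node 2 (.node 1 (.leaf 0x543462341234623432) (.leaf 0x46543463423432)) (.node 1 (.leaf 0x23474346342346423432) (.leaf 0x54345347423432))) (.node 2 (.node 1 (.leaf 0x434346434234723432) (.leaf 0x547641234623432)) (.node 1 (.leaf 0x7234347542346123432) (.leaf 0x7645343423432)))) (.node 4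 (.node 2 (.node 1 (.leaf 0x74642341234623432) (.leaf 0x464234234623432)) (.node 1 (.leaf 0x64764345234623432) (.leaf 0x645346543423473432))) (.node 2 (.node 1 (.leaf 0x54234234234623432) (.leaf 0x654234123473423432)) (.node 1 (.leaf 0x534345234347123432) (.leaf 0x34342345347123432))))) (.node 8 (.node 4 (.node 2 (.node 1 (.leaf 0x546234534123476432) (.leaf 0x476423423423465432)) (.node 1 (.leaf 0x476434234623432) (.leaf 0x74234723434623432))) (.node 2 (.node 1 (.leaf 0x54623453423476432) (.leaf 0x54652343423476432)) (.node 1 (.leaf 0x346543452347643432) (.leaf 0x47543423476423432)))) (.node 4 (.node 2 (.node 1 (.leaf 0x547346342346123432) (.leaf 0x45423463423432)) (.node 1 (.leaf 0x54734123476432) (.leaf 0x723463452346423432))) (.node 2 (.node 1 (.leaf 0x7534346542347123432) (.leaf 0x7534634123463432)) (.node 1 (.leaf 0x54234674534234723432) (.leaf 0x45347452343423467432))))))) (.node 32 (.node 16 (.node 8 (.node 4 (.node 2 (.node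 1 (.leaf 0x47542347342347423432) (.leaf 0x234742342347123432)) (.node 1 (.leaf 0x34654342347423432) (.leaf 0x743462343423432))) (.node 2 (.node 1 (.leaf 0x745434723434123432) (.leaf 0x734534723434123432)) (.node 1 (.leaf 0x654341234723432) (.leaf 0x7343463434234753432)))) (.node 4 (.node 2 (.node 1 (.leaf 0x54643452346423432) (.leaf 0x7462343423463432)) (.node 1 (.leaf 0x74623434234723432) (.leaf 0x476345341234623432))) (.node 2 (.node 1 (.leaf 0x46543454234723432) (.leaf 0x6543423467423432)) (.node 1 (.leaf 0x4542346342346123432) (.leaf 0x72341234234723432))))) (.node 8 (.node 4 (.node 2 (.node 1 (.leaf 0x74673434234723432) (.leaf 0x6454234764234623432)) (.node 1 (.leaf 0x54763453423432) (.leaf 0x723467434123476432))) (.node 2 (.node 1 (.leaf 0x746342345347423432) (.leaf 0x534612343423476432)) (.node 1 (.leaf 0x5463434234743432) (.leaf 0x3476345342346123432)))) (.node 4 (.node 2 (.node 1 (.leaf 0x654763453423432) (.leaf 0x7346474342347423432))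 (.node 1 (.leaf 0x654764234623432) (.leaf 0x7434754234623432))) (.node 2 (.node 1 (.leaf 0x3474634342346123432) (.leaf 0x412346343423473432)) (.node 1 (.leaf 0x347234234234753432) (.leaf 0x647464234123463432)))))) (.node 16 (.node 8 (.node 4 (.node 2 (.node 1 (.leaf 0x7423412347345234723432) (.leaf 0x673465342347423432)) (.node 1 (.leaf 0x46343454234623432) (.leaf 0x7462343423432))) (.node 2 (.node 1 (.leaf 0x623475434234723432) (.leaf 0x7634234734123432)) (.node 1 (.leaf 0x464534234346423432) (.leaf 0x3452347234234723432)))) (.node 4 (.node 2 (.node 1 (.leaf 0x4734623475423432) (.leaf 0x464534752343423432)) (.node 1 (.leaf 0x73467434723432) (.leaf 0x3434743423476432))) (.node 2 (.node 1 (.leaf 0x6434234674123432) (.leaf 0x342347534234723432)) (.node 1 (.leaf 0x6434234534734123432) (.leaf 0x5423474343423463432))))) (.node 8 (.node 4 (.node 2 (.node 1 (.leaf 0x347234234654123432) (.leaf 0x65423476434123467432)) (.node 1 (.leaf 0x752346743423463432)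 (.leaf 0x43423474123432))) (.node 2 (.node 1 (.leaf 0x234745342346123432) (.leaf 0x7523434234623432)) (.node 1 (.leaf 0x764234612342346423432) (.leaf 0x4342346342346423432)))) (.node 4 (.node 2 (.node 1 (.leaf 0x5476434234623432) (.leaf 0x4654234123476432)) (.node 1 (.leaf 0x3434523423423475432) (.leaf 0x4342347123432))) (.node 2 (.node 1 (.leaf 0x752343423432) (.leaf 0x12347643423473432)) (.node 1 (.leaf 0x42346434234643432) (.leaf 0x4623473452346423432)))))))

def classATree_190 : Tree :=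
  .node 64 (.node 32 (.node 16 (.node 8 (.node 4 (.node 2 (.node 1 (.leaf 0x4645343423432) (.leaf 0x6543474345234723432)) (.node 1 (.leaf 0x64123462343423432) (.leaf 0x4734234723432))) (.node 2 (.node 1 (.leaf 0x7234534634234723432) (.leaf 0x4234653412346423432)) (.node 1 (.leaf 0x46453434234653432) (.leaf 0x6234347123432)))) (.node 4 (.node 2 (.node 1 (.leaf 0x42346123434123432) (.leaf 0x4623475423464123432)) (.node 1 (.leaf 0x745434612343423432) (.leaf 0x643423474123432))) (.node 2 (.node 1 (.leaf 0x234643423463432) (.leaf 0x642342347423432)) (.node 1 (.leaf 0x4634753423467432) (.leaf 0x64346342346123432))))) (.node 8 (.node 4 (.node 2 (.node 1 (.leaf 0x7464743423463432) (.leaf 0x43423463432)) (.node 1 (.leaf 0x4643423453423432) (.leaf 0x423464123432))) (.node 2 (.node 1 (.leaf 0x347234234523463432) (.leaf 0x3473434634234623432)) (.node 1 (.leaf 0x234634234754123432) (.leaf 0x3423472343423473432)))) (.node 4 (.node 2 (.node 1 (.leaf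 0x465434234623432) (.leaf 0x123434123473423432)) (.node 1 (.leaf 0x45434753423476432) (.leaf 0x647647234234653432))) (.node 2 (.node 1 (.leaf 0x654346342346423432) (.leaf 0x3465434634234623432)) (.node 1 (.leaf 0x54654343423473432) (.leaf 0x6123434723434123432)))))) (.node 16 (.node 8 (.node 4 (.node 2 (.node 1 (.leaf 0x653423423473423432) (.leaf 0x42343423463432)) (.node 1 (.leaf 0x7412347434234723432) (.leaf 0x743463434723432))) (.node 2 (.node 1 (.leaf 0x3472341234623432) (.leaf 0x474234234653432)) (.node 1 (.leaf 0x47546342346423432) (.leaf 0x123473453423473432)))) (.node 4 (.node 2 (.node 1 (.leaf 0x47434234734234723432) (.leaf 0x123462347342347423432)) (.node 1 (.leaf 0x54634234754123432) (.leaf 0x746741234234653432))) (.node 2 (.node 1 (.leaf 0x74634523475423432) (.leaf 0x54674234234653432)) (.node 1 (.leaf 0x463434723465432) (.leaf 0x474543476432))))) (.node 8 (.node 4 (.node 2 (.node 1 (.leaf 0x463453476432) (.leaf 0x643463472343423432))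 (.node 1 (.leaf 0x53463453423463432) (.leaf 0x4734234123432))) (.node 2 (.node 1 (.leaf 0x3434234123423465432) (.leaf 0x4723465342347423432)) (.node 1 (.leaf 0x34346523434123432) (.leaf 0x63412346434234643432)))) (.node 4 (.node 2 (.node 1 (.leaf 0x43423453423467423432) (.leaf 0x3463452347423432)) (.node 1 (.leaf 0x54745343423432) (.leaf 0x47123463423463432))) (.node 2 (.node 1 (.leaf 0x73465342347423432) (.leaf 0x434234123432)) (.node 1 (.leaf 0x7453434123432) (.leaf 0x543472342347123432))))))) (.node 32 (.node 16 (.node 8 (.node 4 (.node 2 (.node 1 (.leaf 0x5473453423432) (.leaf 0x5343463423432)) (.node 1 (.leaf 0x52347343423432) (.leaf 0x47453434123432))) (.node 2 (.node 1 (.leaf 0x434712342347123432) (.leaf 0x45346234342347123432)) (.node 1 (.leaf 0x7346342345347423432) (.leaf 0x74234634123467432)))) (.node 4 (.node 2 (.node 1 (.leaf 0x2346347342347123432) (.leaf 0x47543463423463432)) (.node 1 (.leaf 0x647543423476453432) (.leaf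 0x3434754234123463432))) (.node 2 (.node 1 (.leaf 0x5343474543423463432) (.leaf 0x471234346123432)) (.node 1 (.leaf 0x54723463423463432) (.leaf 0x3471234346123432))))) (.node 8 (.node 4 (.node 2 (.node 1 (.leaf 0x12347343423432) (.leaf 0x434346423432)) (.node 1 (.leaf 0x653475434234653432) (.leaf 0x63475434523463432))) (.node 2 (.node 1 (.leaf 0x473434523467423432) (.leaf 0x423463423467432)) (.node 1 (.leaf 0x641234734123476432) (.leaf 0x47645234234623432)))) (.node 4 (.node 2 (.node 1 (.leaf 0x7423463453423463432) (.leaf 0x4746412342346123432)) (.node 1 (.leaf 0x764123463423467432) (.leaf 0x67423473423476432))) (.node 2 (.node 1 (.leaf 0x54123463423467432) (.leaf 0x647343452346743432)) (.node 1 (.leaf 0x4342346234123432) (.leaf 0x454347642346423432)))))) (.node 16 (.node 8 (.node 4 (.node 2 (.node 1 (.leaf 0x452342347123432) (.leaf 0x73464743423476432)) (.node 1 (.leaf 0x347543423473423432) (.leaf 0x47634764234623432))) (.node 2 (.node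 1 (.leaf 0x734643473423476432) (.leaf 0x46542342347123432)) (.node 1 (.leaf 0x434723434234653432) (.leaf 0x45434764234623432)))) (.node 4 (.node 2 (.node 1 (.leaf 0x234643453423473432) (.leaf 0x534754341234723432)) (.node 1 (.leaf 0x5465434764234623432) (.leaf 0x45347641234623432))) (.node 2 (.node 1 (.leaf 0x3475434234723432) (.leaf 0x234346542347123432)) (.node 1 (.leaf 0x5434654123432) (.leaf 0x4643475423464123432))))) (.node 8 (.node 4 (.node 2 (.node 1 (.leaf 0x475434623432) (.leaf 0x474542346423432)) (.node 1 (.leaf 0x534652343423473432) (.leaf 0x542341234723432))) (.node 2 (.node 1 (.leaf 0x745346234234623432) (.leaf 0x434234653432)) (.node 1 (.leaf 0x43472346345234623432) (.leaf 0x234634234654123432)))) (.node 4 (.node 2 (.node 1 (.leaf 0x234653423465423432) (.leaf 0x76234346542347123432)) (.node 1 (.leaf 0x4645434234653432) (.leaf 0x5476434623432))) (.node 2 (.node 1 (.leaf 0x3474542346423432) (.leaf 0x542346347423432)) (.node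 1 (.leaf 0x434723434723432) (.leaf 0x423473434234743432)))))))

def classATree_191 : Tree :=
  .node 64 (.node 32 (.node 16 (.node 8 (.node 4 (.node 2 (.node 1 (.leaf 0x734634234234623432) (.leaf 0x23473463412346423432)) (.node 1 (.leaf 0x346453434623476432) (.leaf 0x462341234723432))) (.node 2 (.node 1 (.leaf 0x45342345347423432) (.leaf 0x34645434234653432)) (.node 1 (.leaf 0x74523476434234753432) (.leaf 0x5434523463432)))) (.node 4 (.node 2 (.node 1 (.leaf 0x2345346343423473432) (.leaf 0x74534347123432)) (.node 1 (.leaf 0x43465423432) (.leaf 0x4764346123432))) (.node 2 (.node 1 (.leaf 0x476423464123432) (.leaf 0x54634534723434123432)) (.node 1 (.leaf 0x634743423476432) (.leaf 0x4734234654123432))))) (.node 8 (.node 4 (.node 2 (.node 1 (.leaf 0x543472343465423432) (.leaf 0x34723434234723432)) (.node 1 (.leaf 0x6734653423467432) (.leaf 0x4123423423475432))) (.node 2 (.node 1 (.leaf 0x346234347454234623432) (.leaf 0x473423464123432))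 (.node 1 (.leaf 0x64752343423432) (.leaf 0x42346434234623432)))) (.node 4 (.node 2 (.node 1 (.leaf 0x476453434234723432) (.leaf 0x7634734123476432)) (.node 1 (.leaf 0x54734523465423432) (.leaf 0x463475343423463432))) (.node 2 (.node 1 (.leaf 0x5434234753432) (.leaf 0x4754345423473432)) (.node 1 (.leaf 0x53474342347123432) (.leaf 0x346234347123432)))))) (.node 16 (.node 8 (.node 4 (.node 2 (.node 1 (.leaf 0x434754123432) (.leaf 0x542346123434123432)) (.node 1 (.leaf 0x647542342347423432) (.leaf 0x6342347643473423463432))) (.node 2 (.node 1 (.leaf 0x67465434723432) (.leaf 0x46234347123432)) (.node 1 (.leaf 0x4623473423465423432) (.leaf 0x234723434123463432)))) (.node 4 (.node 2 (.node 1 (.leaf 0x47234345423473432) (.leaf 0x4642343423463432)) (.node 1 (.leaf 0x434523473432) (.leaf 0x6734654342347423432))) (.node 2 (.node 1 (.leaf 0x3474345234723432) (.leaf 0x5423423423475432)) (.node 1 (.leaf 0x34754345423473432) (.leaf 0x3464347342347123432)))))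 (.node 8 (.node 4 (.node 2 (.node 1 (.leaf 0x7423463472343423432) (.leaf 0x234643423453423432)) (.node 1 (.leaf 0x234643452346423432) (.leaf 0x543475423432))) (.node 2 (.node 1 (.leaf 0x654723453423432) (.leaf 0x46734234654123432)) (.node 1 (.leaf 0x5467346742347123432) (.leaf 0x6743463453423463432)))) (.node 4 (.node 2 (.node 1 (.leaf 0x434712343465423432) (.leaf 0x4523462343423432)) (.node 1 (.leaf 0x34234643423463432) (.leaf 0x4347234234123432))) (.node 2 (.node 1 (.leaf 0x47453434523473432) (.leaf 0x46723434234623432)) (.node 1 (.leaf 0x47464345234623432) (.leaf 0x745346543423473432))))))) (.node 32 (.node 16 (.node 8 (.node 4 (.node 2 (.node 1 (.leaf 0x743464543423473432) (.leaf 0x47464534234623432)) (.node 1 (.leaf 0x46543434234743432) (.leaf 0x7645346543423473432))) (.node 2 (.node 1 (.leaf 0x764734543423432) (.leaf 0x74234346472343423432)) (.node 1 (.leaf 0x754634234754123432) (.leaf 0x46741234234653432)))) (.node 4 (.node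 2 (.node 1 (.leaf 0x523473453423473432) (.leaf 0x463453423473432)) (.node 1 (.leaf 0x4634523434234623432) (.leaf 0x7543453423473432))) (.node 2 (.node 1 (.leaf 0x712343423473423432) (.leaf 0x54764341234623432)) (.node 1 (.leaf 0x6434734123476432) (.leaf 0x4534653423467432))))) (.node 8 (.node 4 (.node 2 (.node 1 (.leaf 0x6234234123476432) (.leaf 0x63434234634123432)) (.node 1 (.leaf 0x74645347345234723432) (.leaf 0x754634712343423432))) (.node 2 (.node 1 (.leaf 0x734234123473432) (.leaf 0x6434723434123432)) (.node 1 (.leaf 0x23462347234346123432) (.leaf 0x6434712343423432)))) (.node 4 (.node 2 (.node 1 (.leaf 0x7452346343423473432) (.leaf 0x64234723434623432)) (.node 1 (.leaf 0x547423453423467432) (.leaf 0x634764345234623432))) (.node 2 (.node 1 (.leaf 0x4753463473423463432) (.leaf 0x47463434234753432)) (.node 1 (.leaf 0x7345346123432) (.leaf 0x75434723432)))))) (.node 16 (.node 8 (.node 4 (.node 2 (.node 1 (.leaf 0x34734342346123432)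 (.leaf 0x547434634234723432)) (.node 1 (.leaf 0x76476434523473432) (.leaf 0x34674345423463432))) (.node 2 (.node 1 (.leaf 0x4234734653423463432) (.leaf 0x6453423464123432)) (.node 1 (.leaf 0x64523434123432) (.leaf 0x7464347342347123432)))) (.node 4 (.node 2 (.node 1 (.leaf 0x2346423453423432) (.leaf 0x75423476423432)) (.node 1 (.leaf 0x534342341234623432) (.leaf 0x6234346523434123432))) (.node 2 (.node 1 (.leaf 0x634534623453423432) (.leaf 0x7467434523473432)) (.node 1 (.leaf 0x5434753423432) (.leaf 0x547342347643423467432))))) (.node 8 (.node 4 (.node 2 (.node 1 (.leaf 0x4746434234753432) (.leaf 0x6434743423476432)) (.node 1 (.leaf 0x643434234634123432) (.leaf 0x12347341234723432))) (.node 2 (.node 1 (.leaf 0x7423453423463432) (.leaf 0x7345347342347423432)) (.node 1 (.leaf 0x764734623434723432) (.leaf 0x647234234123432)))) (.node 4 (.node 2 (.node 1 (.leaf 0x6454343423473432) (.leaf 0x7543472343423432)) (.node 1 (.leaf 0x54734342346123432)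 (.leaf 0x4643412346423432))) (.node 2 (.node 1 (.leaf 0x434123467434123476432) (.leaf 0x745434653423467432)) (.node 1 (.leaf 0x465423463423476432) (.leaf 0x7123423473423432)))))))

def classATree_192 : Tree :=
  .node 64 (.node 32 (.node 16 (.node 8 (.node 4 (.node 2 (.node 1 (.leaf 0x65347643423473432) (.leaf 0x7453434123473432)) (.node 1 (.leaf 0x63474643423473432) (.leaf 0x453434123473432))) (.node 2 (.node 1 (.leaf 0x7453423476423432) (.leaf 0x5434234764123432)) (.node 1 (.leaf 0x723434234534623432) (.leaf 0x23434523434623432)))) (.node 4 (.node 2 (.node 1 (.leaf 0x523462345234623432) (.leaf 0x63434623432)) (.node 1 (.leaf 0x6734346123432) (.leaf 0x412347643423476432))) (.node 2 (.node 1 (.leaf 0x45346234123476432) (.leaf 0x6734342346234123432)) (.node 1 (.leaf 0x34543423473423432) (.leaf 0x4752343423467432))))) (.node 8 (.node 4 (.node 2 (.node 1 (.leaf 0x46734634234723432) (.leaf 0x6474523434123432)) (.node 1 (.leaf 0x5476434523473432)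 (.leaf 0x5467434234753432))) (.node 2 (.node 1 (.leaf 0x347464534234623432) (.leaf 0x345434623432)) (.node 1 (.leaf 0x74347234123432) (.leaf 0x76347523434123432)))) (.node 4 (.node 2 (.node 1 (.leaf 0x3472346343423473432) (.leaf 0x6743472343423432)) (.node 1 (.leaf 0x674347123434123432) (.leaf 0x7623434123467432))) (.node 2 (.node 1 (.leaf 0x4723434743423463432) (.leaf 0x474346543423473432)) (.node 1 (.leaf 0x53473434234653432) (.leaf 0x434712343423473432)))))) (.node 16 (.node 8 (.node 4 (.node 2 (.node 1 (.leaf 0x434712343423432) (.leaf 0x6746342346423432)) (.node 1 (.leaf 0x5472346342346423432) (.leaf 0x473434234653432))) (.node 2 (.node 1 (.leaf 0x453465423423475432) (.leaf 0x523474341234723432)) (.node 1 (.leaf 0x54645347342347123432) (.leaf 0x3454342347342347123432)))) (.node 4 (.node 2 (.node 1 (.leaf 0x4347123432) (.leaf 0x4534347541234723432)) (.node 1 (.leaf 0x47346341234723432) (.leaf 0x45346453423467432))) (.node 2 (.node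 1 (.leaf 0x34745346342346123432) (.leaf 0x5234634234753432)) (.node 1 (.leaf 0x4542343423463432) (.leaf 0x5464347345234723432))))) (.node 8 (.node 4 (.node 2 (.node 1 (.leaf 0x4723465423432) (.leaf 0x7343452342346123432)) (.node 1 (.leaf 0x65476434234753432) (.leaf 0x463472343423432))) (.node 2 (.node 1 (.leaf 0x6534342346345234623432) (.leaf 0x7463423423463423432)) (.node 1 (.leaf 0x67453434234723432) (.leaf 0x34543423473432)))) (.node 4 (.node 2 (.node 1 (.leaf 0x7346453423463432) (.leaf 0x76423453423432)) (.node 1 (.leaf 0x764534653423467432) (.leaf 0x6743473423476432))) (.node 2 (.node 1 (.leaf 0x6534346123432) (.leaf 0x123462345234623432)) (.node 1 (.leaf 0x643473423476432) (.leaf 0x74534653423467432))))))) (.node 32 (.node 16 (.node 8 (.node 4 (.node 2 (.node 1 (.leaf 0x6434653423467432) (.leaf 0x46523423423475432)) (.node 1 (.leaf 0x346543434234743432) (.leaf 0x47643465342347123432))) (.node 2 (.node 1 (.leaf 0x345346123432)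 (.leaf 0x5434723432)) (.node 1 (.leaf 0x4645347345234723432) (.leaf 0x6476434523473432)))) (.node 4 (.node 2 (.node 1 (.leaf 0x734674345423463432) (.leaf 0x54634712343423432)) (.node 1 (.leaf 0x34234123473432) (.leaf 0x1234634234753432))) (.node 2 (.node 1 (.leaf 0x76434723434123432) (.leaf 0x64723463423453423432)) (.node 1 (.leaf 0x76434712343423432) (.leaf 0x452346343423473432))))) (.node 8 (.node 4 (.node 2 (.node 1 (.leaf 0x23434643423476432) (.leaf 0x54723453423467432)) (.node 1 (.leaf 0x5423476423432) (.leaf 0x34753463423476432))) (.node 2 (.node 1 (.leaf 0x467434523473432) (.leaf 0x4763434234753432)) (.node 1 (.leaf 0x3453412347342347123432) (.leaf 0x3473434523463432)))) (.node 4 (.node 2 (.node 1 (.leaf 0x464347342347123432) (.leaf 0x54734634234723432)) (.node 1 (.leaf 0x123474341234723432) (.leaf 0x34542346342346423432))) (.node 2 (.node 1 (.leaf 0x345347342347423432) (.leaf 0x423453423463432)) (.node 1 (.leaf 0x67452343423432)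 (.leaf 0x63474234234123432)))))) (.node 16 (.node 8 (.node 4 (.node 2 (.node 1 (.leaf 0x476434234753432) (.leaf 0x5473434523463432)) (.node 1 (.leaf 0x74643412346423432) (.leaf 0x6745343423473432))) (.node 2 (.node 1 (.leaf 0x7647234234123432) (.leaf 0x476434234654123432)) (.node 1 (.leaf 0x34634234734123432) (.leaf 0x234645343423463432)))) (.node 4 (.node 2 (.node 1 (.leaf 0x34643453423463432) (.leaf 0x64734623434723432)) (.node 1 (.leaf 0x75434753423432) (.leaf 0x434542347643423476432))) (.node 2 (.node 1 (.leaf 0x543472343423432) (.leaf 0x45434653423467432)) (.node 1 (.leaf 0x462341234234623432) (.leaf 0x123423473423432))))) (.node 8 (.node 4 (.node 2 (.node 1 (.leaf 0x41234234234623432) (.leaf 0x64534234347423432)) (.node 1 (.leaf 0x74342346234123432) (.leaf 0x7454347642346423432))) (.node 2 (.node 1 (.leaf 0x474634764234623432) (.leaf 0x7452342347123432)) (.node 1 (.leaf 0x3464743423476432) (.leaf 0x63434234764123432)))) (.node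 4 (.node 2 (.node 1 (.leaf 0x345346342346123432) (.leaf 0x3474543423473423432)) (.node 1 (.leaf 0x34643473423476432) (.leaf 0x2346723434234623432))) (.node 2 (.node 1 (.leaf 0x745434764234623432) (.leaf 0x463476473423463432)) (.node 1 (.leaf 0x745347641234623432) (.leaf 0x3453434643423463432)))))))

def classATree_193 : Tree :=
  .node 64 (.node 32 (.node 16 (.node 8 (.node 4 (.node 2 (.node 1 (.leaf 0x234634234234753432) (.leaf 0x6234346542347123432)) (.node 1 (.leaf 0x74645434234653432) (.leaf 0x75434654123432))) (.node 2 (.node 1 (.leaf 0x54764346423432) (.leaf 0x347542346423432)) (.node 1 (.leaf 0x547645234623432) (.leaf 0x734645434234653432)))) (.node 4 (.node 2 (.node 1 (.leaf 0x4523476434234753432) (.leaf 0x75434523463432)) (.node 1 (.leaf 0x34745434234723432) (.leaf 0x3454346345234623432))) (.node 2 (.node 1 (.leaf 0x7434723434723432) (.leaf 0x34634234234623432)) (.node 1 (.leaf 0x4534347123432) (.leaf 0x4652343472343423432)))))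 (.node 8 (.node 4 (.node 2 (.node 1 (.leaf 0x47542346423432) (.leaf 0x4745434623432)) (.node 1 (.leaf 0x743465423432) (.leaf 0x7234346542347123432))) (.node 2 (.node 1 (.leaf 0x23473434634234623432) (.leaf 0x346474343423463432)) (.node 1 (.leaf 0x7542341234723432) (.leaf 0x45346234234623432)))) (.node 4 (.node 2 (.node 1 (.leaf 0x72345346343423473432) (.leaf 0x7434234653432)) (.node 1 (.leaf 0x54234764534234753432) (.leaf 0x7234634234654123432))) (.node 2 (.node 1 (.leaf 0x7462341234723432) (.leaf 0x3465347234234623432)) (.node 1 (.leaf 0x745342345347423432) (.leaf 0x47643464123432)))))) (.node 16 (.node 8 (.node 4 (.node 2 (.node 1 (.leaf 0x3473464342346423432) (.leaf 0x47642346123432)) (.node 1 (.leaf 0x4642341234623432) (.leaf 0x7464234234623432))) (.node 2 (.node 1 (.leaf 0x643464543423473432) (.leaf 0x54764342346123432)) (.node 1 (.leaf 0x742347123434623432) (.leaf 0x47643454234623432)))) (.node 4 (.node 2 (.node 1 (.leaf 0x542347423432)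 (.leaf 0x764534234346423432)) (.node 1 (.leaf 0x76343462343423432) (.leaf 0x54123464345234623432))) (.node 2 (.node 1 (.leaf 0x42347123434234723432) (.leaf 0x45234234234623432)) (.node 1 (.leaf 0x34623473423453423432) (.leaf 0x4534743452343423432))))) (.node 8 (.node 4 (.node 2 (.node 1 (.leaf 0x5434542346423432) (.leaf 0x754634523475423432)) (.node 1 (.leaf 0x547234234653432) (.leaf 0x743465423476432))) (.node 2 (.node 1 (.leaf 0x612343474543423463432) (.leaf 0x463434123473432)) (.node 1 (.leaf 0x7454346343423463432) (.leaf 0x23475434234653432)))) (.node 4 (.node 2 (.node 1 (.leaf 0x6476434234347423432) (.leaf 0x7412347423432)) (.node 1 (.leaf 0x452347643423467432) (.leaf 0x654234123463423432))) (.node 2 (.node 1 (.leaf 0x7412346345234623432) (.leaf 0x453474543423476432)) (.node 1 (.leaf 0x74534753423476432) (.leaf 0x634234346423432))))))) (.node 32 (.node 16 (.node 8 (.node 4 (.node 2 (.node 1 (.leaf 0x654234346423432) (.leaf 0x674653434234723432))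 (.node 1 (.leaf 0x454347345234723432) (.leaf 0x4762347343423473432))) (.node 2 (.node 1 (.leaf 0x62343452343475423432) (.leaf 0x464234734234654123432)) (.node 1 (.leaf 0x475234634123476432) (.leaf 0x64346542347423432)))) (.node 4 (.node 2 (.node 1 (.leaf 0x453463434123463432) (.leaf 0x542346345234623432)) (.node 1 (.leaf 0x1234347434123463432) (.leaf 0x7546343423473432))) (.node 2 (.node 1 (.leaf 0x7453423464123432) (.leaf 0x5465347342347123432)) (.node 1 (.leaf 0x745347342347123432) (.leaf 0x46454343423473432))))) (.node 8 (.node 4 (.node 2 (.node 1 (.leaf 0x7423464345234623432) (.leaf 0x4634234754123432)) (.node 1 (.leaf 0x723464342346423432) (.leaf 0x6542346342346423432))) (.node 2 (.node 1 (.leaf 0x123434734234723432) (.leaf 0x76472346342346423432)) (.node 1 (.leaf 0x54723463452346423432) (.leaf 0x672346343423473432)))) (.node 4 (.node 2 (.node 1 (.leaf 0x62343423453475423432) (.leaf 0x743412346423432)) (.node 1 (.leaf 0x546347534234723432)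 (.leaf 0x7452347423432))) (.node 2 (.node 1 (.leaf 0x6234734623434723432) (.leaf 0x65423423463423432)) (.node 1 (.leaf 0x643465423474123432) (.leaf 0x47523463423476432)))))) (.node 16 (.node 8 (.node 4 (.node 2 (.node 1 (.leaf 0x7423464342346123432) (.leaf 0x743423467453432)) (.node 1 (.leaf 0x4653434623476432) (.leaf 0x652343463423432))) (.node 2 (.node 1 (.leaf 0x7623423463423432) (.leaf 0x464234734523465423432)) (.node 1 (.leaf 0x743465434234743432) (.leaf 0x123434743423463432)))) (.node 4 (.node 2 (.node 1 (.leaf 0x43412343423463432) (.leaf 0x4234723434234723432)) (.node 1 (.leaf 0x46543453423473432) (.leaf 0x74347534234723432))) (.node 2 (.node 1 (.leaf 0x5463473423476432) (.leaf 0x743473423476432)) (.node 1 (.leaf 0x54723463423464123432) (.leaf 0x4347543423476432))))) (.node 8 (.node 4 (.node 2 (.node 1 (.leaf 0x434634543423463432) (.leaf 0x542346342346123432)) (.node 1 (.leaf 0x463423473434234643432) (.leaf 0x5423474123432)))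 (.node 2 (.node 1 (.leaf 0x41234743423467432) (.leaf 0x23475434523463432)) (.node 1 (.leaf 0x1234754234523463432) (.leaf 0x5463412346423432)))) (.node 4 (.node 2 (.node 1 (.leaf 0x46234345234234723432) (.leaf 0x654764342346423432)) (.node 1 (.leaf 0x54123464342346123432) (.leaf 0x6745346343423463432))) (.node 2 (.node 1 (.leaf 0x746342346423432) (.leaf 0x543475341234723432)) (.node 1 (.leaf 0x7523434743423463432) (.leaf 0x7412346342346123432)))))))

def classATree_194 : Tree :=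
  .node 64 (.node 32 (.node 16 (.node 8 (.node 4 (.node 2 (.node 1 (.leaf 0x64346343423463432) (.leaf 0x54342346423432)) (.node 1 (.leaf 0x543452346743432) (.leaf 0x123463434234723432))) (.node 2 (.node 1 (.leaf 0x474123463423464123432) (.leaf 0x2346434542346423432)) (.node 1 (.leaf 0x7542347342347423432) (.leaf 0x412347342347423432)))) (.node 4 (.node 2 (.node 1 (.leaf 0x452347423432) (.leaf 0x4523474234234723432)) (.node 1 (.leaf 0x67234534734234623432) (.leaf 0x67423423463423432))) (.node 2 (.node 1 (.leaf 0x5434743423453423432) (.leaf 0x43412346423432)) (.node 1 (.leaf 0x7643465423474123432) (.leaf 0x54342343423463432))))) (.node 8 (.node 4 (.node 2 (.node 1 (.leaf 0x423464342346123432) (.leaf 0x43423467453432)) (.node 1 (.leaf 0x645234734623434723432) (.leaf 0x43465434234743432))) (.node 2 (.node 1 (.leaf 0x612343463423432) (.leaf 0x623423463423432)) (.node 1 (.leaf 0x43467434523473432) (.leaf 0x61234534734234623432)))) (.node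 4 (.node 2 (.node 1 (.leaf 0x7123434743423463432) (.leaf 0x4347534234723432)) (.node 1 (.leaf 0x647643412346423432) (.leaf 0x4634734123476432))) (.node 2 (.node 1 (.leaf 0x74347543423476432) (.leaf 0x43473423476432)) (.node 1 (.leaf 0x7542346342346123432) (.leaf 0x7434634543423463432)))))) (.node 16 (.node 8 (.node 4 (.node 2 (.node 1 (.leaf 0x234754345423463432) (.leaf 0x2347543452346743432)) (.node 1 (.leaf 0x476423467434234653432) (.leaf 0x62343464123432))) (.node 2 (.node 1 (.leaf 0x64123423463423432) (.leaf 0x75463412346423432)) (.node 1 (.leaf 0x23464734623434723432) (.leaf 0x54653423475423432)))) (.node 4 (.node 2 (.node 1 (.leaf 0x647464342346423432) (.leaf 0x6454346343423463432)) (.node 1 (.leaf 0x46342346423432) (.leaf 0x54723463423453423432))) (.node 2 (.node 1 (.leaf 0x523434743423463432) (.leaf 0x7543475341234723432)) (.node 1 (.leaf 0x412346342346123432) (.leaf 0x754342346423432))))) (.node 8 (.node 4 (.node 2 (.node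 1 (.leaf 0x43473434234643432) (.leaf 0x7543452346743432)) (.node 1 (.leaf 0x23434674534234723432) (.leaf 0x234643412346423432))) (.node 2 (.node 1 (.leaf 0x523463434234723432) (.leaf 0x7412347342347423432)) (.node 1 (.leaf 0x542347342347423432) (.leaf 0x47123463423464123432)))) (.node 4 (.node 2 (.node 1 (.leaf 0x63476453423473432) (.leaf 0x7434234123473432)) (.node 1 (.leaf 0x6343462343423432) (.leaf 0x6234346423432))) (.node 2 (.node 1 (.leaf 0x64534234346423432) (.leaf 0x54723463452343423432)) (.node 1 (.leaf 0x5423476453423467432) (.leaf 0x745234234234623432))))))) (.node 32 (.node 16 (.node 8 (.node 4 (.node 2 (.node 1 (.leaf 0x623423476423464123432) (.leaf 0x2346434234753432)) (.node 1 (.leaf 0x465347345234723432) (.leaf 0x54634523475423432))) (.node 2 (.node 1 (.leaf 0x641234346423432) (.leaf 0x6234123463423432)) (.node 1 (.leaf 0x546453434234723432) (.leaf 0x46542347643423467432)))) (.node 4 (.node 2 (.node 1 (.leaf 0x5234347434123463432)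 (.leaf 0x7454347345234723432)) (.node 1 (.leaf 0x762343452343475423432) (.leaf 0x673434612343423432))) (.node 2 (.node 1 (.leaf 0x5423452342346123432) (.leaf 0x74634234754123432)) (.node 1 (.leaf 0x4534753423476432) (.leaf 0x475234346472343423432))))) (.node 8 (.node 4 (.node 2 (.node 1 (.leaf 0x343475434523463432) (.leaf 0x647343462343423432)) (.node 1 (.leaf 0x412347423432) (.leaf 0x7452347643423467432))) (.node 2 (.node 1 (.leaf 0x4634542346423432) (.leaf 0x454346343423463432)) (.node 1 (.leaf 0x412346345234623432) (.leaf 0x674234123463423432)))) (.node 4 (.node 2 (.node 1 (.leaf 0x5474234234653432) (.leaf 0x647643465423476432)) (.node 1 (.leaf 0x43465423476432) (.leaf 0x7542346345234623432))) (.node 2 (.node 1 (.leaf 0x7453463434123463432) (.leaf 0x71234347434123463432)) (.node 1 (.leaf 0x546343423473432) (.leaf 0x45347342347123432)))))) (.node 16 (.node 8 (.node 4 (.node 2 (.node 1 (.leaf 0x641234634234753432) (.leaf 0x75465347342347123432))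 (.node 1 (.leaf 0x453423464123432) (.leaf 0x423464345234623432))) (.node 2 (.node 1 (.leaf 0x23464342346423432) (.leaf 0x67452346343423473432)) (.node 1 (.leaf 0x6472346342346423432) (.leaf 0x6412346342346423432)))) (.node 4 (.node 2 (.node 1 (.leaf 0x523434734234723432) (.leaf 0x523464343423473432)) (.node 1 (.leaf 0x7465434234623432) (.leaf 0x7123434123473423432))) (.node 2 (.node 1 (.leaf 0x5346434523475423432) (.leaf 0x46234234723432)) (.node 1 (.leaf 0x46534234653423432) (.leaf 0x734346534234623432))))) (.node 8 (.node 4 (.node 2 (.node 1 (.leaf 0x43476423464123432) (.leaf 0x347454342347423432)) (.node 1 (.leaf 0x54234234723432) (.leaf 0x3475463423473423432))) (.node 2 (.node 1 (.leaf 0x474346234234623432) (.leaf 0x4347642346123432)) (.node 1 (.leaf 0x54347645234623432) (.leaf 0x46347645234623432)))) (.node 4 (.node 2 (.node 1 (.leaf 0x234346454234723432) (.leaf 0x234645343423473432)) (.node 1 (.leaf 0x4634534674234623432) (.leaf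 0x4764534623432))) (.node 2 (.node 1 (.leaf 0x47642346423432) (.leaf 0x3475412346423432)) (.node 1 (.leaf 0x434746423432) (.leaf 0x41234234723432)))))))

def classATree_195 : Tree :=
  .node 15 (.node 7 (.node 3 (.node 1 (.leaf 0x43465343423476432) (.node 1 (.leaf 0x46342346347423432) (.leaf 0x546347642346123432))) (.node 2 (.node 1 (.leaf 0x23453463434123473432) (.leaf 0x343467463423476432)) (.node 1 (.leaf 0x46542345234723432) (.leaf 0x5465234734234623432)))) (.node 4 (.node 2 (.node 1 (.leaf 0x4345423463423432) (.leaf 0x54342346347423432)) (.node 1 (.leaf 0x346434234754123432) (.leaf 0x475412346423432))) (.node 2 (.node 1 (.leaf 0x5465343472343423432) (.leaf 0x47454346123432)) (.node 1 (.leaf 0x2347346342346423432) (.leaf 0x234634523465423432))))) (.node 7 (.node 3 (.node 1 (.leaf 0x23465434754234623432) (.node 1 (.leaf 0x465434523463432) (.leaf 0x423465423462343423432))) (.node 2 (.node 1 (.leaf 0x4345423463432) (.leaf 0x3465434523463432))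 (.node 1 (.leaf 0x4543465423432) (.leaf 0x453465434234643432)))) (.node 4 (.node 2 (.node 1 (.leaf 0x74523476434523473432) (.leaf 0x45434234653432)) (.node 1 (.leaf 0x74345347123432) (.leaf 0x542345347423432))) (.node 2 (.node 1 (.leaf 0x547645346123432) (.leaf 0x464347542346423432)) (.node 1 (.leaf 0x7643464543423473432) (.leaf 0x547464342346123432)))))

def classATree : Tree :=
  .node 12544 (.node 6272 (.node 3072 (.node 1536 (.node 768 (.node 384 (.node 128 (classATree_0) (.node 128 (classATree_1) (classATree_2))) (.node 128 (classATree_3) (.node 128 (classATree_4) (classATree_5)))) (.node 384 (.node 128 (classATree_6) (.node 128 (classATree_7) (classATree_8))) (.node 128 (classATree_9) (.node 128 (classATree_10) (classATree_11))))) (.node 768 (.node 384 (.node 128 (classATree_12) (.node 128 (classATree_13) (classATree_14))) (.node 128 (classATree_15) (.node 128 (classATree_16) (classATree_17)))) (.node 384 (.node 128 (classATree_18)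 (.node 128 (classATree_19) (classATree_20))) (.node 128 (classATree_21) (.node 128 (classATree_22) (classATree_23)))))) (.node 1536 (.node 768 (.node 384 (.node 128 (classATree_24) (.node 128 (classATree_25) (classATree_26))) (.node 128 (classATree_27) (.node 128 (classATree_28) (classATree_29)))) (.node 384 (.node 128 (classATree_30) (.node 128 (classATree_31) (classATree_32))) (.node 128 (classATree_33) (.node 128 (classATree_34) (classATree_35))))) (.node 768 (.node 384 (.node 128 (classATree_36) (.node 128 (classATree_37) (classATree_38))) (.node 128 (classATree_39) (.node 128 (classATree_40) (classATree_41)))) (.node 384 (.node 128 (classATree_42) (.node 128 (classATree_43) (classATree_44))) (.node 256 (.node 128 (classATree_45) (classATree_46)) (.node 128 (classATree_47) (classATree_48))))))) (.node 3072 (.node 1536 (.node 768 (.node 384 (.node 128 (classATree_49) (.node 128 (classATree_50) (classATree_51))) (.node 128 (classATree_52)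 (.node 128 (classATree_53) (classATree_54)))) (.node 384 (.node 128 (classATree_55) (.node 128 (classATree_56) (classATree_57))) (.node 128 (classATree_58) (.node 128 (classATree_59) (classATree_60))))) (.node 768 (.node 384 (.node 128 (classATree_61) (.node 128 (classATree_62) (classATree_63))) (.node 128 (classATree_64) (.node 128 (classATree_65) (classATree_66)))) (.node 384 (.node 128 (classATree_67) (.node 128 (classATree_68) (classATree_69))) (.node 128 (classATree_70) (.node 128 (classATree_71) (classATree_72)))))) (.node 1536 (.node 768 (.node 384 (.node 128 (classATree_73) (.node 128 (classATree_74) (classATree_75))) (.node 128 (classATree_76) (.node 128 (classATree_77) (classATree_78)))) (.node 384 (.node 128 (classATree_79) (.node 128 (classATree_80) (classATree_81))) (.node 128 (classATree_82) (.node 128 (classATree_83) (classATree_84))))) (.node 768 (.node 384 (.node 128 (classATree_85) (.node 128 (classATree_86) (classATree_87)))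 (.node 128 (classATree_88) (.node 128 (classATree_89) (classATree_90)))) (.node 384 (.node 128 (classATree_91) (.node 128 (classATree_92) (classATree_93))) (.node 256 (.node 128 (classATree_94) (classATree_95)) (.node 128 (classATree_96) (classATree_97)))))))) (.node 6272 (.node 3072 (.node 1536 (.node 768 (.node 384 (.node 128 (classATree_98) (.node 128 (classATree_99) (classATree_100))) (.node 128 (classATree_101) (.node 128 (classATree_102) (classATree_103)))) (.node 384 (.node 128 (classATree_104) (.node 128 (classATree_105) (classATree_106))) (.node 128 (classATree_107) (.node 128 (classATree_108) (classATree_109))))) (.node 768 (.node 384 (.node 128 (classATree_110) (.node 128 (classATree_111) (classATree_112))) (.node 128 (classATree_113) (.node 128 (classATree_114) (classATree_115)))) (.node 384 (.node 128 (classATree_116) (.node 128 (classATree_117) (classATree_118))) (.node 128 (classATree_119) (.node 128 (classATree_120)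 (classATree_121)))))) (.node 1536 (.node 768 (.node 384 (.node 128 (classATree_122) (.node 128 (classATree_123) (classATree_124))) (.node 128 (classATree_125) (.node 128 (classATree_126) (classATree_127)))) (.node 384 (.node 128 (classATree_128) (.node 128 (classATree_129) (classATree_130))) (.node 128 (classATree_131) (.node 128 (classATree_132) (classATree_133))))) (.node 768 (.node 384 (.node 128 (classATree_134) (.node 128 (classATree_135) (classATree_136))) (.node 128 (classATree_137) (.node 128 (classATree_138) (classATree_139)))) (.node 384 (.node 128 (classATree_140) (.node 128 (classATree_141) (classATree_142))) (.node 256 (.node 128 (classATree_143) (classATree_144)) (.node 128 (classATree_145) (classATree_146))))))) (.node 3072 (.node 1536 (.node 768 (.node 384 (.node 128 (classATree_147) (.node 128 (classATree_148) (classATree_149))) (.node 128 (classATree_150) (.node 128 (classATree_151) (classATree_152)))) (.node 384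 (.node 128 (classATree_153) (.node 128 (classATree_154) (classATree_155))) (.node 128 (classATree_156) (.node 128 (classATree_157) (classATree_158))))) (.node 768 (.node 384 (.node 128 (classATree_159) (.node 128 (classATree_160) (classATree_161))) (.node 128 (classATree_162) (.node 128 (classATree_163) (classATree_164)))) (.node 384 (.node 128 (classATree_165) (.node 128 (classATree_166) (classATree_167))) (.node 128 (classATree_168) (.node 128 (classATree_169) (classATree_170)))))) (.node 1536 (.node 768 (.node 384 (.node 128 (classATree_171) (.node 128 (classATree_172) (classATree_173))) (.node 128 (classATree_174) (.node 128 (classATree_175) (classATree_176)))) (.node 384 (.node 128 (classATree_177) (.node 128 (classATree_178) (classATree_179))) (.node 128 (classATree_180) (.node 128 (classATree_181) (classATree_182))))) (.node 768 (.node 384 (.node 128 (classATree_183) (.node 128 (classATree_184) (classATree_185))) (.node 128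 (classATree_186) (.node 128 (classATree_187) (classATree_188)))) (.node 384 (.node 128 (classATree_189) (.node 128 (classATree_190) (classATree_191))) (.node 256 (.node 128 (classATree_192) (classATree_193)) (.node 128 (classATree_194) (classATree_195))))))))

def classA (i : ℕ) : List ℕ := decode 1000 (classATree.get i)

def listATree_0 : Tree :=
  .node 63 (.node 31 (.node 15 (.node 7 (.node 3 (.node 1 (.leaf 0x434634723465432) (.node 1 (.leaf 0x4234634723465432) (.leaf 0x41234634723465432))) (.node 2 (.node 1 (.leaf 0x34234634723465432) (.leaf 0x73452343423465432)) (.node 1 (.leaf 0x63452343423475432) (.leaf 0x45346234234643432)))) (.node 4 (.node 2 (.node 1 (.leaf 0x341234634723465432) (.leaf 0x73423453423465432)) (.node 1 (.leaf 0x63423453423475432) (.leaf 0x7452343423465432))) (.node 2 (.node 1 (.leaf 0x6452343423475432) (.leaf 0x3452343423465432)) (.node 1 (.leaf 0x6472343423476432) (.leaf 0x3452343423475432))))) (.node 8 (.node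 4 (.node 2 (.node 1 (.leaf 0x7462343423467432) (.leaf 0x7423453423465432)) (.node 1 (.leaf 0x6423453423475432) (.leaf 0x3423453423465432))) (.node 2 (.node 1 (.leaf 0x4723434123476432) (.leaf 0x3423453423475432)) (.node 1 (.leaf 0x4623434123467432) (.leaf 0x745343423465432)))) (.node 4 (.node 2 (.node 1 (.leaf 0x452343423465432) (.leaf 0x645343423475432)) (.node 1 (.leaf 0x452343423475432) (.leaf 0x346543452343423465432))) (.node 2 (.node 1 (.leaf 0x4712343423476432) (.leaf 0x647343423476432)) (.node 1 (.leaf 0x472343423476432) (.leaf 0x3472343423476432)))))) (.node 16 (.node 8 (.node 4 (.node 2 (.node 1 (.leaf 0x346543423453423465432) (.leaf 0x746343423467432)) (.node 1 (.leaf 0x462343423467432) (.leaf 0x743453423465432))) (.node 2 (.node 1 (.leaf 0x423453423465432) (.leaf 0x643453423475432)) (.node 1 (.leaf 0x423453423475432) (.leaf 0x473434123476432)))) (.node 4 (.node 2 (.node 1 (.leaf 0x463434123467432) (.leaf 0x45343423465432))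 (.node 1 (.leaf 0x7453434723465432) (.leaf 0x46543452343423465432))) (.node 2 (.node 1 (.leaf 0x45343423475432) (.leaf 0x6476473423465432)) (.node 1 (.leaf 0x46543423453423465432) (.leaf 0x2346543452343423465432))))) (.node 8 (.node 4 (.node 2 (.node 1 (.leaf 0x6473434123476432) (.leaf 0x6347343423476432)) (.node 1 (.leaf 0x47343423476432) (.leaf 0x34634234534623432))) (.node 2 (.node 1 (.leaf 0x7463434123467432) (.leaf 0x2346543423453423465432)) (.node 1 (.leaf 0x7346343423467432) (.leaf 0x46343423467432)))) (.node 4 (.node 2 (.node 1 (.leaf 0x34734234534723432) (.leaf 0x43453423465432)) (.node 1 (.leaf 0x434234234643432) (.leaf 0x43453423475432))) (.node 2 (.node 1 (.leaf 0x434234234743432) (.leaf 0x3473434123476432)) (.node 1 (.leaf 0x4234234234743432) (.leaf 0x3463434123467432))))))) (.node 31 (.node 15 (.node 7 (.node 3 (.node 1 (.leaf 0x4234234234643432) (.node 1 (.leaf 0x453434723465432) (.leaf 0x476473423465432))) (.node 2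 (.node 1 (.leaf 0x2346343423467432) (.leaf 0x34634523434623432)) (.node 1 (.leaf 0x347343423476432) (.leaf 0x4634234534623432)))) (.node 4 (.node 2 (.node 1 (.leaf 0x4764723423465432) (.leaf 0x2347343423476432)) (.node 1 (.leaf 0x34734523434723432) (.leaf 0x346343423467432))) (.node 2 (.node 1 (.leaf 0x4734234534723432) (.leaf 0x4523434723465432)) (.node 1 (.leaf 0x7434234234643432) (.leaf 0x6434234234743432))))) (.node 8 (.node 4 (.node 2 (.node 1 (.leaf 0x46434523434623432) (.leaf 0x47434523434723432)) (.node 1 (.leaf 0x4634523434623432) (.leaf 0x46434234534623432))) (.node 2 (.node 1 (.leaf 0x4734523434723432) (.leaf 0x47434234534723432)) (.node 1 (.leaf 0x0) (.leaf 0x2)))) (.node 4 (.node 2 (.node 1 (.leaf 0x32) (.leaf 0x465432)) (.node 1 (.leaf 0x475432) (.leaf 0x3465432))) (.node 2 (.node 1 (.leaf 0x3475432) (.leaf 0x7465432)) (.node 1 (.leaf 0x47543476432) (.leaf 0x6475432)))))) (.node 16 (.node 8 (.node 4 (.node 2 (.node 1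 (.leaf 0x46543467432) (.leaf 0x23465432)) (.node 1 (.leaf 0x73465432) (.leaf 0x23475432))) (.node 2 (.node 1 (.leaf 0x63475432) (.leaf 0x463434643432)) (.node 1 (.leaf 0x474543476432) (.leaf 0x475423476432)))) (.node 4 (.node 2 (.node 1 (.leaf 0x463453476432) (.leaf 0x465423467432)) (.node 1 (.leaf 0x723465432) (.leaf 0x7463434723465432))) (.node 2 (.node 1 (.leaf 0x3463434643432) (.leaf 0x623475432)) (.node 1 (.leaf 0x4654753423465432) (.leaf 0x4623434643432))))) (.node 8 (.node 4 (.node 2 (.node 1 (.leaf 0x4754123476432) (.leaf 0x3475423476432)) (.node 1 (.leaf 0x46547123423465432) (.leaf 0x4623453476432))) (.node 2 (.node 1 (.leaf 0x3465423467432) (.leaf 0x46123434723465432)) (.node 1 (.leaf 0x463434723465432) (.leaf 0x465473423465432)))) (.node 4 (.node 2 (.node 1 (.leaf 0x34754123476432) (.leaf 0x4654723423465432)) (.node 1 (.leaf 0x467434523434623432) (.leaf 0x34623453476432))) (.node 2 (.node 1 (.leaf 0x4623434723465432) (.leaf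 0x476434523434723432)) (.node 1 (.leaf 0x34654723423465432) (.leaf 0x34623434723465432)))))))

def listATree : Tree :=
  listATree_0

def listA (i : ℕ) : List ℕ := decode 1000 (listATree.get i)

def listBTree_0 : Tree :=
  .node 64 (.node 32 (.node 16 (.node 8 (.node 4 (.node 2 (.node 1 (.leaf 0x4654) (.leaf 0x74654)) (.node 1 (.leaf 0x43464534) (.leaf 0x45346434))) (.node 2 (.node 1 (.leaf 0x423464534) (.leaf 0x452346434)) (.node 1 (.leaf 0x3423464534) (.leaf 0x4654341234634)))) (.node 4 (.node 2 (.node 1 (.leaf 0x3452346434) (.leaf 0x465434234634)) (.node 1 (.leaf 0x34654341234634) (.leaf 0x3465434234634))) (.node 2 (.node 1 (.leaf 0x234654341234634) (.leaf 0x23465434234634)) (.node 1 (.leaf 0x4754) (.leaf 0x64754))))) (.node 8 (.node 4 (.node 2 (.node 1 (.leaf 0x43474534) (.leaf 0x45347434)) (.node 1 (.leaf 0x423474534) (.leaf 0x452347434))) (.node 2 (.node 1 (.leaf 0x3423474534) (.leaf 0x4754341234734)) (.node 1 (.leaf 0x3452347434)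 (.leaf 0x475434234734)))) (.node 4 (.node 2 (.node 1 (.leaf 0x34754341234734) (.leaf 0x3475434234734)) (.node 1 (.leaf 0x234754341234734) (.leaf 0x23475434234734))) (.node 2 (.node 1 (.leaf 0x23465434523434) (.leaf 0x3465434523434)) (.node 1 (.leaf 0x723465434523434) (.leaf 0x72346547346123434)))))) (.node 16 (.node 8 (.node 4 (.node 2 (.node 1 (.leaf 0x3465434234534) (.leaf 0x465434523434)) (.node 1 (.leaf 0x73465434523434) (.leaf 0x34623434))) (.node 2 (.node 1 (.leaf 0x46534342342346234) (.leaf 0x2346547346123434)) (.node 1 (.leaf 0x7346547346123434) (.leaf 0x23465434234534)))) (.node 4 (.node 2 (.node 1 (.leaf 0x465434234534) (.leaf 0x73465434234534)) (.node 1 (.leaf 0x346123434) (.leaf 0x46543423423461234))) (.node 2 (.node 1 (.leaf 0x7465434523434) (.leaf 0x4623434)) (.node 1 (.leaf 0x47543476434523434) (.leaf 0x7346343464341234234))))) (.node 8 (.node 4 (.node 2 (.node 1 (.leaf 0x434746434764234234) (.leaf 0x734623434)) (.node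 1 (.leaf 0x34623412346234) (.leaf 0x434634754341234234))) (.node 2 (.node 1 (.leaf 0x4623412346234) (.leaf 0x346547346123434)) (.node 1 (.leaf 0x734654734623434) (.leaf 0x746547346123434)))) (.node 4 (.node 2 (.node 1 (.leaf 0x34634346434234234) (.leaf 0x723465434234534)) (.node 1 (.leaf 0x234654734623434) (.leaf 0x7465434234534))) (.node 2 (.node 1 (.leaf 0x46123434) (.leaf 0x47543476434234534)) (.node 1 (.leaf 0x734634346434234234) (.leaf 0x746543423423461234))))))) (.node 32 (.node 16 (.node 8 (.node 4 (.node 2 (.node 1 (.leaf 0x7346123434) (.leaf 0x73462342346234)) (.node 1 (.leaf 0x46543423452346234) (.leaf 0x43463475434234234))) (.node 2 (.node 1 (.leaf 0x7462342346234) (.leaf 0x746343464341234234)) (.node 1 (.leaf 0x473453467467234234) (.leaf 0x463434)))) (.node 4 (.node 2 (.node 1 (.leaf 0x74623434) (.leaf 0x475423476434523434)) (.node 1 (.leaf 0x43463476434234234) (.leaf 0x346343464341234234))) (.node 2 (.node 1 (.leaf 0x34642342346234)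 (.leaf 0x46543452342346234)) (.node 1 (.leaf 0x4642342346234) (.leaf 0x34654734623434))))) (.node 8 (.node 4 (.node 2 (.node 1 (.leaf 0x34612342346234) (.leaf 0x234623412346234)) (.node 1 (.leaf 0x346423412346234) (.leaf 0x46423412346234))) (.node 2 (.node 1 (.leaf 0x463412346234) (.leaf 0x4612342346234)) (.node 1 (.leaf 0x46547346123434) (.leaf 0x7234654734623434)))) (.node 4 (.node 2 (.node 1 (.leaf 0x74654734623434) (.leaf 0x4634346434234234)) (.node 1 (.leaf 0x74634346434234234) (.leaf 0x474543476434234534))) (.node 2 (.node 1 (.leaf 0x46345434) (.leaf 0x746123434)) (.node 1 (.leaf 0x475423476434234534) (.leaf 0x47345346474234234)))))) (.node 16 (.node 8 (.node 4 (.node 2 (.node 1 (.leaf 0x346412342346234) (.leaf 0x46412342346234)) (.node 1 (.leaf 0x3462342346234) (.leaf 0x123462342346234))) (.node 2 (.node 1 (.leaf 0x734642342346234) (.leaf 0x475343464742341234)) (.node 1 (.leaf 0x74642342346234) (.leaf 0x746342346234)))) (.node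 4 (.node 2 (.node 1 (.leaf 0x462342346234) (.leaf 0x7462343464341234234)) (.node 1 (.leaf 0x46343464341234234) (.leaf 0x4723453467467234234))) (.node 2 (.node 1 (.leaf 0x467434674342341234) (.leaf 0x7463434)) (.node 1 (.leaf 0x434634) (.leaf 0x4654734623434))))) (.node 8 (.node 4 (.node 2 (.node 1 (.leaf 0x423463476434234234) (.leaf 0x476475342346542341234)) (.node 1 (.leaf 0x234642342346234) (.leaf 0x464342346234))) (.node 2 (.node 1 (.leaf 0x234612342346234) (.leaf 0x23463412346234)) (.node 1 (.leaf 0x2346423412346234) (.leaf 0x64734234623473434234)))) (.node 4 (.node 2 (.node 1 (.leaf 0x4643412346234) (.leaf 0x46342346234)) (.node 1 (.leaf 0x3463412346234) (.leaf 0x7463412346234))) (.node 2 (.node 1 (.leaf 0x4234634) (.leaf 0x46234346434234234)) (.node 1 (.leaf 0x746234346434234234) (.leaf 0x3472345346474234234)))))))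

def listBTree_1 : Tree :=
  .node 64 (.node 32 (.node 16 (.node 8 (.node 4 (.node 2 (.node 1 (.leaf 0x746345434) (.leaf 0x43465434)) (.node 1 (.leaf 0x4752343464742341234) (.leaf 0x472345346474234234))) (.node 2 (.node 1 (.leaf 0x647647342346454234234) (.leaf 0x2346412342346234)) (.node 1 (.leaf 0x74643412346234) (.leaf 0x23462342346234)))) (.node 4 (.node 2 (.node 1 (.leaf 0x12346342346234) (.leaf 0x1234642342346234)) (.node 1 (.leaf 0x43452346234734346234) (.leaf 0x7464342346234))) (.node 2 (.node 1 (.leaf 0x7346342346234) (.leaf 0x423465434)) (.node 1 (.leaf 0x462343464341234234) (.leaf 0x2346543423464534))))) (.node 8 (.node 4 (.node 2 (.node 1 (.leaf 0x4674234674342341234) (.leaf 0x43463474234654341234)) (.node 1 (.leaf 0x7434634) (.leaf 0x47234234623473434234))) (.node 2 (.node 1 (.leaf 0x23464342346234) (.leaf 0x46547345234654234234)) (.node 1 (.leaf 0x3464342346234) (.leaf 0x346543423464534)))) (.node 4 (.node 2 (.node 1 (.leaf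 0x123463412346234) (.leaf 0x476472345234654234234)) (.node 1 (.leaf 0x234643412346234) (.leaf 0x45234234623473434234))) (.node 2 (.node 1 (.leaf 0x4734234623473434234) (.leaf 0x34643412346234)) (.node 1 (.leaf 0x346543452346434) (.leaf 0x346342346234)))))) (.node 16 (.node 8 (.node 4 (.node 2 (.node 1 (.leaf 0x41234634) (.leaf 0x73463412346234)) (.node 1 (.leaf 0x34234634) (.leaf 0x74234634))) (.node 2 (.node 1 (.leaf 0x46543452346434) (.leaf 0x2346543452346434)) (.node 1 (.leaf 0x23434654234654234) (.leaf 0x347647342346454234234)))) (.node 4 (.node 2 (.node 1 (.leaf 0x45346534) (.leaf 0x47647345234654234234)) (.node 1 (.leaf 0x47647342346454234234) (.leaf 0x1234643412346234))) (.node 2 (.node 1 (.leaf 0x47341234623473434234) (.leaf 0x734643412346234)) (.node 1 (.leaf 0x3434654234654234) (.leaf 0x2346342346234))))) (.node 8 (.node 4 (.node 2 (.node 1 (.leaf 0x34342346123473434234) (.leaf 0x123464342346234)) (.node 1 (.leaf 0x43452346234734341234)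 (.leaf 0x46547342346454234234))) (.node 2 (.node 1 (.leaf 0x73464342346234) (.leaf 0x7346543423464534)) (.node 1 (.leaf 0x3423465434) (.leaf 0x734234634)))) (.node 4 (.node 2 (.node 1 (.leaf 0x72346543423464534) (.leaf 0x343463474234654341234)) (.node 1 (.leaf 0x42342346123473434234) (.leaf 0x46543423464534))) (.node 2 (.node 1 (.leaf 0x341234634) (.leaf 0x423452346234734341234)) (.node 1 (.leaf 0x4534234623473434234) (.leaf 0x434654234654234))))))) (.node 32 (.node 16 (.node 8 (.node 4 (.node 2 (.node 1 (.leaf 0x45341234623473434234) (.leaf 0x746543423464534)) (.node 1 (.leaf 0x4342346123473434234) (.leaf 0x643452346234734341234))) (.node 2 (.node 1 (.leaf 0x23475434523434) (.leaf 0x3475434523434)) (.node 1 (.leaf 0x623475434523434) (.leaf 0x62347546347123434)))) (.node 4 (.node 2 (.node 1 (.leaf 0x3475434234534) (.leaf 0x475434523434)) (.node 1 (.leaf 0x63475434523434) (.leaf 0x47534342342347234))) (.node 2 (.node 1 (.leaf 0x34723434)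 (.leaf 0x2347546347123434)) (.node 1 (.leaf 0x6347546347123434) (.leaf 0x23475434234534))))) (.node 8 (.node 4 (.node 2 (.node 1 (.leaf 0x475434234534) (.leaf 0x63475434234534)) (.node 1 (.leaf 0x47543423423471234) (.leaf 0x347123434))) (.node 2 (.node 1 (.leaf 0x6475434523434) (.leaf 0x46543467434523434)) (.node 1 (.leaf 0x4723434) (.leaf 0x434647434674234234)))) (.node 4 (.node 2 (.node 1 (.leaf 0x6347343474341234234) (.leaf 0x434734654341234234)) (.node 1 (.leaf 0x4723412347234) (.leaf 0x634723434))) (.node 2 (.node 1 (.leaf 0x34723412347234) (.leaf 0x347546347123434)) (.node 1 (.leaf 0x634754634723434) (.leaf 0x647546347123434)))))) (.node 16 (.node 8 (.node 4 (.node 2 (.node 1 (.leaf 0x34734347434234234) (.leaf 0x623475434234534)) (.node 1 (.leaf 0x234754634723434) (.leaf 0x6475434234534))) (.node 2 (.node 1 (.leaf 0x46543467434234534) (.leaf 0x47123434)) (.node 1 (.leaf 0x647543423423471234) (.leaf 0x634734347434234234)))) (.node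 4 (.node 2 (.node 1 (.leaf 0x47543423452347234) (.leaf 0x43473465434234234)) (.node 1 (.leaf 0x6472342347234) (.leaf 0x6347123434))) (.node 2 (.node 1 (.leaf 0x63472342347234) (.leaf 0x463453476476234234)) (.node 1 (.leaf 0x647343474341234234) (.leaf 0x465423467434523434))))) (.node 8 (.node 4 (.node 2 (.node 1 (.leaf 0x43473467434234234) (.leaf 0x473434)) (.node 1 (.leaf 0x64723434) (.leaf 0x47543452342347234))) (.node 2 (.node 1 (.leaf 0x4742342347234) (.leaf 0x347343474341234234)) (.node 1 (.leaf 0x34742342347234) (.leaf 0x47423412347234)))) (.node 4 (.node 2 (.node 1 (.leaf 0x473412347234) (.leaf 0x4712342347234)) (.node 1 (.leaf 0x34712342347234) (.leaf 0x34754634723434))) (.node 2 (.node 1 (.leaf 0x234723412347234) (.leaf 0x347423412347234)) (.node 1 (.leaf 0x47546347123434) (.leaf 0x6234754634723434)))))))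

def listBTree_2 : Tree :=
  .node 64 (.node 32 (.node 16 (.node 8 (.node 4 (.node 2 (.node 1 (.leaf 0x64754634723434) (.leaf 0x4734347434234234)) (.node 1 (.leaf 0x464543467434234534) (.leaf 0x64734347434234234))) (.node 2 (.node 1 (.leaf 0x465423467434234534) (.leaf 0x46345347464234234)) (.node 1 (.leaf 0x47345434) (.leaf 0x647123434)))) (.node 4 (.node 2 (.node 1 (.leaf 0x47412342347234) (.leaf 0x347412342347234)) (.node 1 (.leaf 0x465343474642341234) (.leaf 0x64742342347234))) (.node 2 (.node 1 (.leaf 0x647342347234) (.leaf 0x472342347234)) (.node 1 (.leaf 0x3472342347234) (.leaf 0x123472342347234))))) (.node 8 (.node 4 (.node 2 (.node 1 (.leaf 0x634742342347234) (.leaf 0x4623453476476234234)) (.node 1 (.leaf 0x476434764342341234) (.leaf 0x6472343474341234234))) (.node 2 (.node 1 (.leaf 0x47343474341234234) (.leaf 0x423473467434234234)) (.node 1 (.leaf 0x467465342347542341234) (.leaf 0x6473434)))) (.node 4 (.node 2 (.node 1 (.leaf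 0x434734) (.leaf 0x4754634723434)) (.node 1 (.leaf 0x474342347234) (.leaf 0x234742342347234))) (.node 2 (.node 1 (.leaf 0x4743412347234) (.leaf 0x47342347234)) (.node 1 (.leaf 0x3473412347234) (.leaf 0x6473412347234)))))) (.node 16 (.node 8 (.node 4 (.node 2 (.node 1 (.leaf 0x4234734) (.leaf 0x234712342347234)) (.node 1 (.leaf 0x23473412347234) (.leaf 0x2347423412347234))) (.node 2 (.node 1 (.leaf 0x74634234723463434234) (.leaf 0x47234347434234234)) (.node 1 (.leaf 0x3462345347464234234) (.leaf 0x647234347434234234)))) (.node 4 (.node 2 (.node 1 (.leaf 0x4652343474642341234) (.leaf 0x462345347464234234)) (.node 1 (.leaf 0x746746342347454234234) (.leaf 0x647345434))) (.node 2 (.node 1 (.leaf 0x43475434) (.leaf 0x64743412347234)) (.node 1 (.leaf 0x2347412342347234) (.leaf 0x6474342347234))))) (.node 8 (.node 4 (.node 2 (.node 1 (.leaf 0x6347342347234) (.leaf 0x423475434)) (.node 1 (.leaf 0x23472342347234) (.leaf 0x12347342347234))) (.node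 2 (.node 1 (.leaf 0x1234742342347234) (.leaf 0x43452347234634347234)) (.node 1 (.leaf 0x4764234764342341234) (.leaf 0x43473464234754341234)))) (.node 4 (.node 2 (.node 1 (.leaf 0x472343474341234234) (.leaf 0x2347543423474534)) (.node 1 (.leaf 0x46234234723463434234) (.leaf 0x6434734))) (.node 2 (.node 1 (.leaf 0x3474342347234) (.leaf 0x347543423474534)) (.node 1 (.leaf 0x23474342347234) (.leaf 0x47546345234754234234))))))) (.node 32 (.node 16 (.node 8 (.node 4 (.node 2 (.node 1 (.leaf 0x34743412347234) (.leaf 0x347543452347434)) (.node 1 (.leaf 0x347342347234) (.leaf 0x41234734))) (.node 2 (.node 1 (.leaf 0x63473412347234) (.leaf 0x34234734)) (.node 1 (.leaf 0x64234734) (.leaf 0x47543452347434)))) (.node 4 (.node 2 (.node 1 (.leaf 0x123473412347234) (.leaf 0x467462345234754234234)) (.node 1 (.leaf 0x234743412347234) (.leaf 0x45234234723463434234))) (.node 2 (.node 1 (.leaf 0x4634234723463434234) (.leaf 0x2347543452347434)) (.node 1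 (.leaf 0x346746342347454234234) (.leaf 0x23434754234754234))))) (.node 8 (.node 4 (.node 2 (.node 1 (.leaf 0x46746345234754234234) (.leaf 0x46746342347454234234)) (.node 1 (.leaf 0x45347534) (.leaf 0x634743412347234))) (.node 2 (.node 1 (.leaf 0x3434754234754234) (.leaf 0x1234743412347234)) (.node 1 (.leaf 0x46341234723463434234) (.leaf 0x63474342347234)))) (.node 4 (.node 2 (.node 1 (.leaf 0x6347543423474534) (.leaf 0x3423475434)) (.node 1 (.leaf 0x634234734) (.leaf 0x2347342347234))) (.node 2 (.node 1 (.leaf 0x34342347123463434234) (.leaf 0x123474342347234)) (.node 1 (.leaf 0x43452347234634341234) (.leaf 0x47546342347454234234)))))) (.node 16 (.node 8 (.node 4 (.node 2 (.node 1 (.leaf 0x343473464234754341234) (.leaf 0x62347543423474534)) (.node 1 (.leaf 0x47543423474534) (.leaf 0x341234734))) (.node 2 (.node 1 (.leaf 0x42342347123463434234) (.leaf 0x434754234754234)) (.node 1 (.leaf 0x423452347234634341234) (.leaf 0x4534234723463434234))))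 (.node 4 (.node 2 (.node 1 (.leaf 0x647543423474534) (.leaf 0x45341234723463434234)) (.node 1 (.leaf 0x4342347123463434234) (.leaf 0x743452347234634341234))) (.node 2 (.node 1 (.leaf 0x0) (.leaf 0x434534)) (.node 1 (.leaf 0x4234534) (.leaf 0x4523434))))) (.node 8 (.node 4 (.node 2 (.node 1 (.leaf 0x34234534) (.leaf 0x4654346123434)) (.node 1 (.leaf 0x4754347123434) (.leaf 0x453434))) (.node 2 (.node 1 (.leaf 0x34523434) (.leaf 0x465434623434)) (.node 1 (.leaf 0x475434723434) (.leaf 0x34654346123434)))) (.node 4 (.node 2 (.node 1 (.leaf 0x34754347123434) (.leaf 0x74654346123434)) (.node 1 (.leaf 0x23473434234764) (.leaf 0x64754347123434))) (.node 2 (.node 1 (.leaf 0x23463434234674) (.leaf 0x3465434623434)) (.node 1 (.leaf 0x3475434723434) (.leaf 0x7465434623434)))))))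

def listBTree_3 : Tree :=
  .node 32 (.node 16 (.node 8 (.node 4 (.node 2 (.node 1 (.leaf 0x123473434234764) (.leaf 0x6475434723434)) (.node 1 (.leaf 0x123463434234674) (.leaf 0x234654346123434))) (.node 2 (.node 1 (.leaf 0x734654346123434) (.leaf 0x234754347123434)) (.node 1 (.leaf 0x634754347123434) (.leaf 0x434634346342341234)))) (.node 4 (.node 2 (.node 1 (.leaf 0x234347423464234) (.leaf 0x3473434234764)) (.node 1 (.leaf 0x623473434234764) (.leaf 0x234346423474234))) (.node 2 (.node 1 (.leaf 0x434734347342341234) (.leaf 0x3463434234674)) (.node 1 (.leaf 0x723463434234674) (.leaf 0x23465434623434))))) (.node 8 (.node 4 (.node 2 (.node 1 (.leaf 0x73465434623434) (.leaf 0x23475434723434)) (.node 1 (.leaf 0x63475434723434) (.leaf 0x634347423464234))) (.node 2 (.node 1 (.leaf 0x734346423474234) (.leaf 0x7234654346123434)) (.node 1 (.leaf 0x234674341234734) (.leaf 0x4347343474342341234)))) (.node 4 (.node 2 (.node 1 (.leaf 0x6234754347123434)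 (.leaf 0x234764341234634)) (.node 1 (.leaf 0x4346343464342341234) (.leaf 0x4234634346342341234))) (.node 2 (.node 1 (.leaf 0x34347423464234) (.leaf 0x473434234764)) (.node 1 (.leaf 0x63473434234764) (.leaf 0x34764341234634)))))) (.node 16 (.node 8 (.node 4 (.node 2 (.node 1 (.leaf 0x34346423474234) (.leaf 0x4234734347342341234)) (.node 1 (.leaf 0x463434234674) (.leaf 0x73463434234674))) (.node 2 (.node 1 (.leaf 0x34674341234734) (.leaf 0x723465434623434)) (.node 1 (.leaf 0x723467434234734) (.leaf 0x623475434723434)))) (.node 4 (.node 2 (.node 1 (.leaf 0x623476434234634) (.leaf 0x64347423464234)) (.node 1 (.leaf 0x63476434234634) (.leaf 0x74346423474234))) (.node 2 (.node 1 (.leaf 0x73467434234734) (.leaf 0x7234674341234734)) (.node 1 (.leaf 0x6234764341234634) (.leaf 0x4347423464234))))) (.node 8 (.node 4 (.node 2 (.node 1 (.leaf 0x3476434234634) (.leaf 0x6473434234764)) (.node 1 (.leaf 0x4764341234634) (.leaf 0x634764341234634)))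 (.node 2 (.node 1 (.leaf 0x4346423474234) (.leaf 0x3467434234734)) (.node 1 (.leaf 0x7463434234674) (.leaf 0x4674341234734)))) (.node 4 (.node 2 (.node 1 (.leaf 0x734674341234734) (.leaf 0x23467434234734)) (.node 1 (.leaf 0x23476434234634) (.leaf 0x6476434234634))) (.node 2 (.node 1 (.leaf 0x7467434234734) (.leaf 0x476434234634)) (.node 1 (.leaf 0x64764341234634) (.node 1 (.leaf 0x467434234734) (.leaf 0x74674341234734)))))))

def listBTree : Tree :=
  .node 256 (.node 128 (listBTree_0) (listBTree_1)) (.node 128 (listBTree_2) (listBTree_3))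

def listB (i : ℕ) : List ℕ := decode 1000 (listBTree.get i)

def conjL_0 : Tree :=
  .node 64 (.node 32 (.node 16 (.node 8 (.node 4 (.node 2 (.node 1 (.leaf 0x0) (.leaf 0x2)) (.node 1 (.leaf 0x1) (.leaf 0x7))) (.node 2 (.node 1 (.leaf 0x8) (.leaf 0x9)) (.node 1 (.leaf 0x6) (.leaf 0x3)))) (.node 4 (.node 2 (.node 1 (.leaf 0x4) (.leaf 0x5)) (.node 1 (.leaf 0x10) (.leaf 0x11))) (.node 2 (.node 1 (.leaf 0x12) (.leaf 0x13)) (.node 1 (.leaf 0x14) (.leaf 0x15))))) (.node 8 (.node 4 (.node 2 (.node 1 (.leaf 0xa) (.leaf 0xb)) (.node 1 (.leaf 0xc) (.leaf 0xd))) (.node 2 (.node 1 (.leaf 0xe) (.leaf 0xf)) (.node 1 (.leaf 0x16) (.leaf 0x23)))) (.node 4 (.node 2 (.node 1 (.leaf 0x18) (.leaf 0x25)) (.node 1 (.leaf 0x1f) (.leaf 0x1d))) (.node 2 (.node 1 (.leaf 0x2f) (.leaf 0x1b)) (.node 1 (.leaf 0x21) (.leaf 0x1a)))))) (.node 16 (.node 8 (.node 4 (.node 2 (.node 1 (.leaf 0x33) (.leaf 0x1e)) (.node 1 (.leaf 0x22) (.leaf 0x17))) (.node 2 (.node 1 (.leaf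 0x24) (.leaf 0x19)) (.node 1 (.leaf 0x31) (.leaf 0x36)))) (.node 4 (.node 2 (.node 1 (.leaf 0x28) (.leaf 0x29)) (.node 1 (.leaf 0x2d) (.leaf 0x2b))) (.node 2 (.node 1 (.leaf 0x2c) (.leaf 0x2a)) (.node 1 (.leaf 0x2e) (.leaf 0x1c))))) (.node 8 (.node 4 (.node 2 (.node 1 (.leaf 0x42) (.leaf 0x26)) (.node 1 (.leaf 0x43) (.leaf 0x20))) (.node 2 (.node 1 (.leaf 0x34) (.leaf 0x47)) (.node 1 (.leaf 0x27) (.leaf 0x48)))) (.node 4 (.node 2 (.node 1 (.leaf 0x38) (.leaf 0x39)) (.node 1 (.leaf 0x3a) (.leaf 0x3b))) (.node 2 (.node 1 (.leaf 0x44) (.leaf 0x46)) (.node 1 (.leaf 0x49) (.leaf 0x4b))))))) (.node 32 (.node 16 (.node 8 (.node 4 (.node 2 (.node 1 (.leaf 0x40) (.leaf 0x41)) (.node 1 (.leaf 0x30) (.leaf 0x32))) (.node 2 (.node 1 (.leaf 0x3c) (.leaf 0x50)) (.node 1 (.leaf 0x3d) (.leaf 0x35)))) (.node 4 (.node 2 (.node 1 (.leaf 0x37) (.leaf 0x3e)) (.node 1 (.leaf 0x52) (.leaf 0x3f))) (.node 2 (.node 1 (.leaf 0x4c) (.leaf 0x4d)) (.node 1 (.leaf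 0x51) (.leaf 0x53))))) (.node 8 (.node 4 (.node 2 (.node 1 (.leaf 0x45) (.leaf 0x4e)) (.node 1 (.leaf 0x4a) (.leaf 0x4f))) (.node 2 (.node 1 (.leaf 0x54) (.leaf 0x55)) (.node 1 (.leaf 0x56) (.leaf 0x57)))) (.node 4 (.node 2 (.node 1 (.leaf 0x58) (.leaf 0x59)) (.node 1 (.leaf 0x5a) (.leaf 0x5b))) (.node 2 (.node 1 (.leaf 0x5c) (.leaf 0x5d)) (.node 1 (.leaf 0x5e) (.leaf 0x5f)))))) (.node 16 (.node 8 (.node 4 (.node 2 (.node 1 (.leaf 0x60) (.leaf 0x61)) (.node 1 (.leaf 0x62) (.leaf 0x63))) (.node 2 (.node 1 (.leaf 0x64) (.leaf 0x6e)) (.node 1 (.leaf 0x66) (.leaf 0x71)))) (.node 4 (.node 2 (.node 1 (.leaf 0x68) (.leaf 0x69)) (.node 1 (.leaf 0x6a) (.leaf 0x6b))) (.node 2 (.node 1 (.leaf 0x6c) (.leaf 0x6d)) (.node 1 (.leaf 0x65) (.leaf 0x76))))) (.node 8 (.node 4 (.node 2 (.node 1 (.leaf 0x77) (.leaf 0x67)) (.node 1 (.leaf 0x79) (.leaf 0x7a))) (.node 2 (.node 1 (.leaf 0x74) (.leaf 0x75)) (.node 1 (.leaf 0x6f) (.leaf 0x70)))) (.node 4 (.node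 2 (.node 1 (.leaf 0x7c) (.leaf 0x72)) (.node 1 (.leaf 0x73) (.leaf 0x7d))) (.node 2 (.node 1 (.leaf 0x78) (.leaf 0x7b)) (.node 1 (.leaf 0x7e) (.leaf 0x7f)))))))

def conjL_1 : Tree :=
  .node 64 (.node 32 (.node 16 (.node 8 (.node 4 (.node 2 (.node 1 (.leaf 0x80) (.leaf 0x81)) (.node 1 (.leaf 0x83) (.leaf 0x82))) (.node 2 (.node 1 (.leaf 0x86) (.leaf 0x87)) (.node 1 (.leaf 0x84) (.leaf 0x85)))) (.node 4 (.node 2 (.node 1 (.leaf 0x89) (.leaf 0x88)) (.node 1 (.leaf 0x8a) (.leaf 0x8b))) (.node 2 (.node 1 (.leaf 0x8c) (.leaf 0x8d)) (.node 1 (.leaf 0x8e) (.leaf 0x8f))))) (.node 8 (.node 4 (.node 2 (.node 1 (.leaf 0x91) (.leaf 0x90)) (.node 1 (.leaf 0x94) (.leaf 0x95))) (.node 2 (.node 1 (.leaf 0x92) (.leaf 0x93)) (.node 1 (.leaf 0x97) (.leaf 0x96)))) (.node 4 (.node 2 (.node 1 (.leaf 0x98) (.leaf 0x99)) (.node 1 (.leaf 0x9a) (.leaf 0x9e))) (.node 2 (.node 1 (.leaf 0x9c) (.leaf 0x9d)) (.node 1 (.leaf 0x9b) (.leaf 0xa6)))))) (.node 16 (.node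 8 (.node 4 (.node 2 (.node 1 (.leaf 0xa7) (.leaf 0xa8)) (.node 1 (.leaf 0xa9) (.leaf 0xa3))) (.node 2 (.node 1 (.leaf 0xb4) (.leaf 0xa5)) (.node 1 (.leaf 0x9f) (.leaf 0xa0)))) (.node 4 (.node 2 (.node 1 (.leaf 0xa1) (.leaf 0xa2)) (.node 1 (.leaf 0xb9) (.leaf 0xba))) (.node 2 (.node 1 (.leaf 0xbb) (.leaf 0xbc)) (.node 1 (.leaf 0xbd) (.leaf 0xbe))))) (.node 8 (.node 4 (.node 2 (.node 1 (.leaf 0xbf) (.leaf 0xc1)) (.node 1 (.leaf 0xc2) (.leaf 0xcd))) (.node 2 (.node 1 (.leaf 0xa4) (.leaf 0xd6)) (.node 1 (.leaf 0xc9) (.leaf 0xb7)))) (.node 4 (.node 2 (.node 1 (.leaf 0xb8) (.leaf 0xaa)) (.node 1 (.leaf 0xab) (.leaf 0xac))) (.node 2 (.node 1 (.leaf 0xad) (.leaf 0xae)) (.node 1 (.leaf 0xaf) (.leaf 0xb0))))))) (.node 32 (.node 16 (.node 8 (.node 4 (.node 2 (.node 1 (.leaf 0xcb) (.leaf 0xb1)) (.node 1 (.leaf 0xb2) (.leaf 0xd8))) (.node 2 (.node 1 (.leaf 0xd9) (.leaf 0xc5)) (.node 1 (.leaf 0xdb) (.leaf 0xe9)))) (.node 4 (.node 2 (.node 1 (.leaf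 0xdd) (.leaf 0xb6)) (.node 1 (.leaf 0xde) (.leaf 0xc0))) (.node 2 (.node 1 (.leaf 0xdf) (.leaf 0xb3)) (.node 1 (.leaf 0xe0) (.leaf 0xf2))))) (.node 8 (.node 4 (.node 2 (.node 1 (.leaf 0xe2) (.leaf 0xe4)) (.node 1 (.leaf 0xf7) (.leaf 0xe6))) (.node 2 (.node 1 (.leaf 0xed) (.leaf 0xd5)) (.node 1 (.leaf 0xb5) (.leaf 0xe8)))) (.node 4 (.node 2 (.node 1 (.leaf 0xc3) (.leaf 0xc4)) (.node 1 (.leaf 0xda) (.leaf 0xc6))) (.node 2 (.node 1 (.leaf 0xfd) (.leaf 0xc8)) (.node 1 (.leaf 0xca) (.leaf 0xcc)))))) (.node 16 (.node 8 (.node 4 (.node 2 (.node 1 (.leaf 0xce) (.leaf 0x105)) (.node 1 (.leaf 0xd0) (.leaf 0xea))) (.node 2 (.node 1 (.leaf 0xd1) (.leaf 0xf9)) (.node 1 (.leaf 0xd3) (.leaf 0xe7)))) (.node 4 (.node 2 (.node 1 (.leaf 0xd7) (.leaf 0xc7)) (.node 1 (.leaf 0xe3) (.leaf 0xeb))) (.node 2 (.node 1 (.leaf 0xec) (.leaf 0xd4)) (.node 1 (.leaf 0x10e) (.leaf 0x10f))))) (.node 8 (.node 4 (.node 2 (.node 1 (.leaf 0x107) (.leaf 0xf6)) (.node 1 (.leaf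 0xcf) (.leaf 0x116))) (.node 2 (.node 1 (.leaf 0x103) (.leaf 0x117)) (.node 1 (.leaf 0xf1) (.leaf 0xd2)))) (.node 4 (.node 2 (.node 1 (.leaf 0x11d) (.leaf 0xe5)) (.node 1 (.leaf 0x11e) (.leaf 0xfb))) (.node 2 (.node 1 (.leaf 0xfc) (.leaf 0xdc)) (.node 1 (.leaf 0xfe) (.leaf 0xff)))))))

def conjL_2 : Tree :=
  .node 64 (.node 32 (.node 16 (.node 8 (.node 4 (.node 2 (.node 1 (.leaf 0x101) (.leaf 0x100)) (.node 1 (.leaf 0x125) (.leaf 0xf4))) (.node 2 (.node 1 (.leaf 0x109) (.leaf 0xe1)) (.node 1 (.leaf 0x12d) (.leaf 0xf0)))) (.node 4 (.node 2 (.node 1 (.leaf 0x12e) (.leaf 0x104)) (.node 1 (.leaf 0x11f) (.leaf 0x121))) (.node 2 (.node 1 (.leaf 0x10c) (.leaf 0x10d)) (.node 1 (.leaf 0xee) (.leaf 0xef))))) (.node 8 (.node 4 (.node 2 (.node 1 (.leaf 0x110) (.leaf 0x137)) (.node 1 (.leaf 0x12f) (.leaf 0x131))) (.node 2 (.node 1 (.leaf 0x11b) (.leaf 0x11c)) (.node 1 (.leaf 0xf3) (.leaf 0xf5)))) (.node 4 (.node 2 (.node 1 (.leaf 0x129) (.leaf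 0x13b)) (.node 1 (.leaf 0x12a) (.leaf 0x114))) (.node 2 (.node 1 (.leaf 0x115) (.leaf 0xf8)) (.node 1 (.leaf 0xfa) (.leaf 0x10a)))))) (.node 16 (.node 8 (.node 4 (.node 2 (.node 1 (.leaf 0x13a) (.leaf 0x10b)) (.node 1 (.leaf 0x139) (.leaf 0x123))) (.node 2 (.node 1 (.leaf 0x124) (.leaf 0x102)) (.node 1 (.leaf 0x126) (.leaf 0x128)))) (.node 4 (.node 2 (.node 1 (.leaf 0x127) (.leaf 0x118)) (.node 1 (.leaf 0x11a) (.leaf 0x132))) (.node 2 (.node 1 (.leaf 0x133) (.leaf 0x106)) (.node 1 (.leaf 0x108) (.leaf 0x112))))) (.node 8 (.node 4 (.node 2 (.node 1 (.leaf 0x140) (.leaf 0x113)) (.node 1 (.leaf 0x12b) (.leaf 0x12c))) (.node 2 (.node 1 (.leaf 0x135) (.leaf 0x134)) (.node 1 (.leaf 0x136) (.leaf 0x111)))) (.node 4 (.node 2 (.node 1 (.leaf 0x141) (.leaf 0x122)) (.node 1 (.leaf 0x120) (.leaf 0x119))) (.node 2 (.node 1 (.leaf 0x13e) (.leaf 0x13f)) (.node 1 (.leaf 0x13c) (.leaf 0x13d))))))) (.node 32 (.node 16 (.node 8 (.node 4 (.node 2 (.node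 1 (.leaf 0x130) (.leaf 0x138)) (.node 1 (.leaf 0x142) (.leaf 0x146))) (.node 2 (.node 1 (.leaf 0x144) (.leaf 0x145)) (.node 1 (.leaf 0x143) (.leaf 0x14e)))) (.node 4 (.node 2 (.node 1 (.leaf 0x14f) (.leaf 0x150)) (.node 1 (.leaf 0x151) (.leaf 0x14b))) (.node 2 (.node 1 (.leaf 0x15c) (.leaf 0x14d)) (.node 1 (.leaf 0x147) (.leaf 0x148))))) (.node 8 (.node 4 (.node 2 (.node 1 (.leaf 0x149) (.leaf 0x14a)) (.node 1 (.leaf 0x161) (.leaf 0x162))) (.node 2 (.node 1 (.leaf 0x163) (.leaf 0x164)) (.node 1 (.leaf 0x165) (.leaf 0x167)))) (.node 4 (.node 2 (.node 1 (.leaf 0x168) (.leaf 0x169)) (.node 1 (.leaf 0x16a) (.leaf 0x179))) (.node 2 (.node 1 (.leaf 0x14c) (.leaf 0x17e)) (.node 1 (.leaf 0x173) (.leaf 0x15f)))))) (.node 16 (.node 8 (.node 4 (.node 2 (.node 1 (.leaf 0x160) (.leaf 0x152)) (.node 1 (.leaf 0x153) (.leaf 0x154))) (.node 2 (.node 1 (.leaf 0x155) (.leaf 0x156)) (.node 1 (.leaf 0x171) (.leaf 0x157)))) (.node 4 (.node 2 (.node 1 (.leaf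 0x158) (.leaf 0x159)) (.node 1 (.leaf 0x15a) (.leaf 0x180))) (.node 2 (.node 1 (.leaf 0x181) (.leaf 0x18f)) (.node 1 (.leaf 0x183) (.leaf 0x16f))))) (.node 8 (.node 4 (.node 2 (.node 1 (.leaf 0x185) (.leaf 0x166)) (.node 1 (.leaf 0x186) (.leaf 0x15e))) (.node 2 (.node 1 (.leaf 0x187) (.leaf 0x189)) (.node 1 (.leaf 0x19b) (.leaf 0x18b)))) (.node 4 (.node 2 (.node 1 (.leaf 0x18c) (.leaf 0x15b)) (.node 1 (.leaf 0x19f) (.leaf 0x18e))) (.node 2 (.node 1 (.leaf 0x197) (.leaf 0x17d)) (.node 1 (.leaf 0x15d) (.leaf 0x192)))))))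

def conjL_3 : Tree :=
  .node 64 (.node 32 (.node 16 (.node 8 (.node 4 (.node 2 (.node 1 (.leaf 0x16b) (.leaf 0x16c)) (.node 1 (.leaf 0x1a4) (.leaf 0x16e))) (.node 2 (.node 1 (.leaf 0x184) (.leaf 0x170)) (.node 1 (.leaf 0x172) (.leaf 0x174)))) (.node 4 (.node 2 (.node 1 (.leaf 0x190) (.leaf 0x175)) (.node 1 (.leaf 0x19d) (.leaf 0x177))) (.node 2 (.node 1 (.leaf 0x178) (.leaf 0x1b0)) (.node 1 (.leaf 0x17b) (.leaf 0x16d))))) (.node 8 (.node 4 (.node 2 (.node 1 (.leaf 0x188) (.leaf 0x191)) (.node 1 (.leaf 0x17f) (.leaf 0x1b4))) (.node 2 (.node 1 (.leaf 0x1b5) (.leaf 0x195)) (.node 1 (.leaf 0x196) (.leaf 0x17c)))) (.node 4 (.node 2 (.node 1 (.leaf 0x19a) (.leaf 0x1b2)) (.node 1 (.leaf 0x198) (.leaf 0x176))) (.node 2 (.node 1 (.leaf 0x1c0) (.leaf 0x18a)) (.node 1 (.leaf 0x1c1) (.leaf 0x17a)))))) (.node 16 (.node 8 (.node 4 (.node 2 (.node 1 (.leaf 0x1c6) (.leaf 0x1ac)) (.node 1 (.leaf 0x1c7) (.leaf 0x1a3))) (.node 2 (.node 1 (.leaf 0x182)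 (.leaf 0x1a5)) (.node 1 (.leaf 0x1a7) (.leaf 0x1a6)))) (.node 4 (.node 2 (.node 1 (.leaf 0x1cc) (.leaf 0x1a9)) (.node 1 (.leaf 0x1aa) (.leaf 0x1ad))) (.node 2 (.node 1 (.leaf 0x1a1) (.leaf 0x1ab)) (.node 1 (.leaf 0x1c2) (.leaf 0x1c4))))) (.node 8 (.node 4 (.node 2 (.node 1 (.leaf 0x18d) (.leaf 0x1d9)) (.node 1 (.leaf 0x199) (.leaf 0x1da))) (.node 2 (.node 1 (.leaf 0x193) (.leaf 0x194)) (.node 1 (.leaf 0x1b6) (.leaf 0x1b7)))) (.node 4 (.node 2 (.node 1 (.leaf 0x1de) (.leaf 0x1b9)) (.node 1 (.leaf 0x1be) (.leaf 0x1bf))) (.node 2 (.node 1 (.leaf 0x1db) (.leaf 0x1dd)) (.node 1 (.leaf 0x1ba) (.leaf 0x1bb))))))) (.node 32 (.node 16 (.node 8 (.node 4 (.node 2 (.node 1 (.leaf 0x19c) (.leaf 0x19e)) (.node 1 (.leaf 0x1ae) (.leaf 0x1e1))) (.node 2 (.node 1 (.leaf 0x1af) (.leaf 0x1e0)) (.node 1 (.leaf 0x1a0) (.leaf 0x1a2)))) (.node 4 (.node 2 (.node 1 (.leaf 0x1d3) (.leaf 0x1e4)) (.node 1 (.leaf 0x1d4) (.leaf 0x1cb))) (.node 2 (.node 1 (.leaf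 0x1a8) (.leaf 0x1cd)) (.node 1 (.leaf 0x1cf) (.leaf 0x1ce))))) (.node 8 (.node 4 (.node 2 (.node 1 (.leaf 0x1d0) (.leaf 0x1d5)) (.node 1 (.leaf 0x1d6) (.leaf 0x1c8))) (.node 2 (.node 1 (.leaf 0x1ca) (.leaf 0x1d1)) (.node 1 (.leaf 0x1d2) (.leaf 0x1d8)))) (.node 4 (.node 2 (.node 1 (.leaf 0x1d7) (.leaf 0x1b1)) (.node 1 (.leaf 0x1b3) (.leaf 0x1bc))) (.node 2 (.node 1 (.leaf 0x1e8) (.leaf 0x1bd)) (.node 1 (.leaf 0x1b8) (.leaf 0x1df)))))) (.node 16 (.node 8 (.node 4 (.node 2 (.node 1 (.leaf 0x1c5) (.leaf 0x1c3)) (.node 1 (.leaf 0x1e9) (.leaf 0x1e6))) (.node 2 (.node 1 (.leaf 0x1c9) (.leaf 0x1e7)) (.node 1 (.leaf 0x1e3) (.leaf 0x1e5)))) (.node 4 (.node 2 (.node 1 (.leaf 0x1dc) (.leaf 0x1e2)) (.node 1 (.leaf 0x1ea) (.leaf 0x1eb))) (.node 2 (.node 1 (.leaf 0x1ed) (.leaf 0x1ec)) (.node 1 (.leaf 0x1f2) (.leaf 0x1f3))))) (.node 8 (.node 4 (.node 2 (.node 1 (.leaf 0x1f4) (.leaf 0x1f1)) (.node 1 (.leaf 0x1ee) (.leaf 0x1ef))) (.node 2 (.node 1 (.leaf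 0x1f0) (.leaf 0x1fb)) (.node 1 (.leaf 0x1fc) (.leaf 0x1fd)))) (.node 4 (.node 2 (.node 1 (.leaf 0x1fe) (.leaf 0x1ff)) (.node 1 (.leaf 0x200) (.leaf 0x1f5))) (.node 2 (.node 1 (.leaf 0x1f6) (.leaf 0x1f7)) (.node 1 (.leaf 0x1f8) (.leaf 0x1f9)))))))

def conjL_4 : Tree :=
  .node 64 (.node 32 (.node 16 (.node 8 (.node 4 (.node 2 (.node 1 (.leaf 0x1fa) (.leaf 0x201)) (.node 1 (.leaf 0x20e) (.leaf 0x203))) (.node 2 (.node 1 (.leaf 0x210) (.leaf 0x20a)) (.node 1 (.leaf 0x208) (.leaf 0x21a)))) (.node 4 (.node 2 (.node 1 (.leaf 0x206) (.leaf 0x20c)) (.node 1 (.leaf 0x205) (.leaf 0x21e))) (.node 2 (.node 1 (.leaf 0x209) (.leaf 0x20d)) (.node 1 (.leaf 0x202) (.leaf 0x20f))))) (.node 8 (.node 4 (.node 2 (.node 1 (.leaf 0x204) (.leaf 0x21c)) (.node 1 (.leaf 0x221) (.leaf 0x213))) (.node 2 (.node 1 (.leaf 0x214) (.leaf 0x218)) (.node 1 (.leaf 0x216) (.leaf 0x217)))) (.node 4 (.node 2 (.node 1 (.leaf 0x215) (.leaf 0x219)) (.node 1 (.leaf 0x207)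 (.leaf 0x22d))) (.node 2 (.node 1 (.leaf 0x211) (.leaf 0x22e)) (.node 1 (.leaf 0x20b) (.leaf 0x21f)))))) (.node 16 (.node 8 (.node 4 (.node 2 (.node 1 (.leaf 0x232) (.leaf 0x212)) (.node 1 (.leaf 0x233) (.leaf 0x223))) (.node 2 (.node 1 (.leaf 0x224) (.leaf 0x225)) (.node 1 (.leaf 0x226) (.leaf 0x22f)))) (.node 4 (.node 2 (.node 1 (.leaf 0x231) (.leaf 0x234)) (.node 1 (.leaf 0x236) (.leaf 0x22b))) (.node 2 (.node 1 (.leaf 0x22c) (.leaf 0x21b)) (.node 1 (.leaf 0x21d) (.leaf 0x227))))) (.node 8 (.node 4 (.node 2 (.node 1 (.leaf 0x23b) (.leaf 0x228)) (.node 1 (.leaf 0x220) (.leaf 0x222))) (.node 2 (.node 1 (.leaf 0x229) (.leaf 0x23d)) (.node 1 (.leaf 0x22a) (.leaf 0x237)))) (.node 4 (.node 2 (.node 1 (.leaf 0x238) (.leaf 0x23c)) (.node 1 (.leaf 0x23e) (.leaf 0x230))) (.node 2 (.node 1 (.leaf 0x239) (.leaf 0x235)) (.node 1 (.leaf 0x23a) (.leaf 0x1))))))) (.node 32 (.node 16 (.node 8 (.node 4 (.node 2 (.node 1 (.leaf 0x0) (.leaf 0x6)) (.node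 1 (.leaf 0x3) (.leaf 0x4))) (.node 2 (.node 1 (.leaf 0x5) (.leaf 0x2)) (.node 1 (.leaf 0x7) (.leaf 0x8)))) (.node 4 (.node 2 (.node 1 (.leaf 0x9) (.leaf 0x16)) (.node 1 (.leaf 0x18) (.leaf 0xc))) (.node 2 (.node 1 (.leaf 0x1c) (.leaf 0xe)) (.node 1 (.leaf 0x20) (.leaf 0x22))))) (.node 8 (.node 4 (.node 2 (.node 1 (.leaf 0x24) (.leaf 0x12)) (.node 1 (.leaf 0x26) (.leaf 0x14))) (.node 2 (.node 1 (.leaf 0x27) (.leaf 0xa)) (.node 1 (.leaf 0x28) (.leaf 0xb)))) (.node 4 (.node 2 (.node 1 (.leaf 0x2b) (.leaf 0x2e)) (.node 1 (.leaf 0x2f) (.leaf 0xd))) (.node 2 (.node 1 (.leaf 0x31) (.leaf 0x33)) (.node 1 (.leaf 0x34) (.leaf 0xf)))))) (.node 16 (.node 8 (.node 4 (.node 2 (.node 1 (.leaf 0x36) (.leaf 0x10)) (.node 1 (.leaf 0x38) (.leaf 0x11))) (.node 2 (.node 1 (.leaf 0x3a) (.leaf 0x13)) (.node 1 (.leaf 0x15) (.leaf 0x17)))) (.node 4 (.node 2 (.node 1 (.leaf 0x37) (.leaf 0x2a)) (.node 1 (.leaf 0x19) (.leaf 0x32))) (.node 2 (.node 1 (.leaf 0x2d)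 (.leaf 0x1a)) (.node 1 (.leaf 0x1b) (.leaf 0x35))))) (.node 8 (.node 4 (.node 2 (.node 1 (.leaf 0x1d) (.leaf 0x2c)) (.node 1 (.leaf 0x1e) (.leaf 0x1f))) (.node 2 (.node 1 (.leaf 0x30) (.leaf 0x21)) (.node 1 (.leaf 0x29) (.leaf 0x23)))) (.node 4 (.node 2 (.node 1 (.leaf 0x3f) (.leaf 0x25)) (.node 1 (.leaf 0x3d) (.leaf 0x3e))) (.node 2 (.node 1 (.leaf 0x3b) (.leaf 0x3c)) (.node 1 (.leaf 0x39) (.leaf 0x4b)))))))

def conjL_5 : Tree :=
  .node 64 (.node 32 (.node 16 (.node 8 (.node 4 (.node 2 (.node 1 (.leaf 0x46) (.leaf 0x49)) (.node 1 (.leaf 0x4d) (.leaf 0x47))) (.node 2 (.node 1 (.leaf 0x45) (.leaf 0x41)) (.node 1 (.leaf 0x44) (.leaf 0x4c)))) (.node 4 (.node 2 (.node 1 (.leaf 0x42) (.leaf 0x4a)) (.node 1 (.leaf 0x40) (.leaf 0x48))) (.node 2 (.node 1 (.leaf 0x43) (.leaf 0x4e)) (.node 1 (.leaf 0x4f) (.leaf 0x50))))) (.node 8 (.node 4 (.node 2 (.node 1 (.leaf 0x51) (.leaf 0x52)) (.node 1 (.leaf 0x53) (.leaf 0x55))) (.node 2 (.node 1 (.leaf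 0x54) (.leaf 0x56)) (.node 1 (.leaf 0x57) (.leaf 0x58)))) (.node 4 (.node 2 (.node 1 (.leaf 0x5f) (.leaf 0x61)) (.node 1 (.leaf 0x5b) (.leaf 0x65))) (.node 2 (.node 1 (.leaf 0x5d) (.leaf 0x67)) (.node 1 (.leaf 0x59) (.leaf 0x68)))))) (.node 16 (.node 8 (.node 4 (.node 2 (.node 1 (.leaf 0x5a) (.leaf 0x6b)) (.node 1 (.leaf 0x6d) (.leaf 0x6e))) (.node 2 (.node 1 (.leaf 0x5c) (.leaf 0x71)) (.node 1 (.leaf 0x5e) (.leaf 0x60)))) (.node 4 (.node 2 (.node 1 (.leaf 0x73) (.leaf 0x6a)) (.node 1 (.leaf 0x62) (.leaf 0x70))) (.node 2 (.node 1 (.leaf 0x63) (.leaf 0x64)) (.node 1 (.leaf 0x72) (.leaf 0x6c))))) (.node 8 (.node 4 (.node 2 (.node 1 (.leaf 0x66) (.leaf 0x6f)) (.node 1 (.leaf 0x69) (.leaf 0x7a))) (.node 2 (.node 1 (.leaf 0x77) (.leaf 0x79)) (.node 1 (.leaf 0x75) (.leaf 0x78)))) (.node 4 (.node 2 (.node 1 (.leaf 0x76) (.leaf 0x74)) (.node 1 (.leaf 0x7b) (.leaf 0x7c))) (.node 2 (.node 1 (.leaf 0x7d) (.leaf 0x7e)) (.node 1 (.leaf 0x7f) (.leaf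 0x82))))))) (.node 32 (.node 16 (.node 8 (.node 4 (.node 2 (.node 1 (.leaf 0x83) (.leaf 0x80)) (.node 1 (.leaf 0x81) (.leaf 0x84))) (.node 2 (.node 1 (.leaf 0x85) (.leaf 0x86)) (.node 1 (.leaf 0x87) (.leaf 0x8a)))) (.node 4 (.node 2 (.node 1 (.leaf 0x8b) (.leaf 0x88)) (.node 1 (.leaf 0x89) (.leaf 0x8c))) (.node 2 (.node 1 (.leaf 0x8d) (.leaf 0x90)) (.node 1 (.leaf 0x91) (.leaf 0x8e))))) (.node 8 (.node 4 (.node 2 (.node 1 (.leaf 0x8f) (.leaf 0x92)) (.node 1 (.leaf 0x93) (.leaf 0x94))) (.node 2 (.node 1 (.leaf 0x95) (.leaf 0x98)) (.node 1 (.leaf 0x99) (.leaf 0x96)))) (.node 4 (.node 2 (.node 1 (.leaf 0x97) (.leaf 0x9b)) (.node 1 (.leaf 0x9a) (.leaf 0xa0))) (.node 2 (.node 1 (.leaf 0xa4) (.leaf 0xa5)) (.node 1 (.leaf 0x9f) (.leaf 0x9c)))))) (.node 16 (.node 8 (.node 4 (.node 2 (.node 1 (.leaf 0xa1) (.leaf 0xb1)) (.node 1 (.leaf 0xb3) (.leaf 0x9d))) (.node 2 (.node 1 (.leaf 0x9e) (.leaf 0xa6)) (.node 1 (.leaf 0xb7) (.leaf 0xa8)))) (.node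 4 (.node 2 (.node 1 (.leaf 0xc0) (.leaf 0xaa)) (.node 1 (.leaf 0xc5) (.leaf 0xc7))) (.node 2 (.node 1 (.leaf 0xad) (.leaf 0xcb)) (.node 1 (.leaf 0xaf) (.leaf 0xcf))))) (.node 8 (.node 4 (.node 2 (.node 1 (.leaf 0xa2) (.leaf 0xd2)) (.node 1 (.leaf 0xa3) (.leaf 0xd5))) (.node 2 (.node 1 (.leaf 0xb5) (.leaf 0xb6)) (.node 1 (.leaf 0xa7) (.leaf 0xcd)))) (.node 4 (.node 2 (.node 1 (.leaf 0xb9) (.leaf 0xda)) (.node 1 (.leaf 0xdc) (.leaf 0xbc))) (.node 2 (.node 1 (.leaf 0xc1) (.leaf 0xbe)) (.node 1 (.leaf 0xe1) (.leaf 0xa9)))))))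

def conjL_6 : Tree :=
  .node 64 (.node 32 (.node 16 (.node 8 (.node 4 (.node 2 (.node 1 (.leaf 0xbd) (.leaf 0xe5)) (.node 1 (.leaf 0xe7) (.leaf 0xe9))) (.node 2 (.node 1 (.leaf 0xab) (.leaf 0xeb)) (.node 1 (.leaf 0xac) (.leaf 0xee)))) (.node 4 (.node 2 (.node 1 (.leaf 0xc9) (.leaf 0xf0)) (.node 1 (.leaf 0xae) (.leaf 0xf1))) (.node 2 (.node 1 (.leaf 0xb8) (.leaf 0xf2)) (.node 1 (.leaf 0xb0) (.leaf 0xf4))))) (.node 8 (.node 4 (.node 2 (.node 1 (.leaf 0xf6) (.leaf 0xb2)) (.node 1 (.leaf 0xf9) (.leaf 0xd4))) (.node 2 (.node 1 (.leaf 0xb4) (.leaf 0xd6)) (.node 1 (.leaf 0xfb) (.leaf 0xfc)))) (.node 4 (.node 2 (.node 1 (.leaf 0xfd) (.leaf 0xba)) (.node 1 (.leaf 0xfe) (.leaf 0xbb))) (.node 2 (.node 1 (.leaf 0x101) (.leaf 0x103)) (.node 1 (.leaf 0x104) (.leaf 0x105)))))) (.node 16 (.node 8 (.node 4 (.node 2 (.node 1 (.leaf 0xbf) (.leaf 0x107)) (.node 1 (.leaf 0x100) (.leaf 0x109))) (.node 2 (.node 1 (.leaf 0xc2) (.leaf 0xf7)) (.node 1 (.leaf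 0xc3) (.leaf 0x10c)))) (.node 4 (.node 2 (.node 1 (.leaf 0xc4) (.leaf 0x10e)) (.node 1 (.leaf 0xc6) (.leaf 0xfa))) (.node 2 (.node 1 (.leaf 0xed) (.leaf 0xc8)) (.node 1 (.leaf 0xf5) (.leaf 0xca))))) (.node 8 (.node 4 (.node 2 (.node 1 (.leaf 0xcc) (.leaf 0xce)) (.node 1 (.leaf 0xf8) (.leaf 0xd0))) (.node 2 (.node 1 (.leaf 0xef) (.leaf 0xd1)) (.node 1 (.leaf 0xe6) (.leaf 0xf3)))) (.node 4 (.node 2 (.node 1 (.leaf 0xd3) (.leaf 0xec)) (.node 1 (.leaf 0xd7) (.leaf 0xd8))) (.node 2 (.node 1 (.leaf 0xd9) (.leaf 0xdb)) (.node 1 (.leaf 0x10b) (.leaf 0xe3))))))) (.node 32 (.node 16 (.node 8 (.node 4 (.node 2 (.node 1 (.leaf 0xdd) (.leaf 0x108)) (.node 1 (.leaf 0xde) (.leaf 0xdf))) (.node 2 (.node 1 (.leaf 0xe0) (.leaf 0x10a)) (.node 1 (.leaf 0xe2) (.leaf 0x102)))) (.node 4 (.node 2 (.node 1 (.leaf 0xe4) (.leaf 0x106)) (.node 1 (.leaf 0xff) (.leaf 0xe8))) (.node 2 (.node 1 (.leaf 0x115) (.leaf 0xea)) (.node 1 (.leaf 0x113) (.leaf 0x121)))))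 (.node 8 (.node 4 (.node 2 (.node 1 (.leaf 0x11a) (.leaf 0x114)) (.node 1 (.leaf 0x10f) (.leaf 0x112))) (.node 2 (.node 1 (.leaf 0x10d) (.leaf 0x11f)) (.node 1 (.leaf 0x127) (.leaf 0x11b)))) (.node 4 (.node 2 (.node 1 (.leaf 0x13c) (.leaf 0x111)) (.node 1 (.leaf 0x118) (.leaf 0x123))) (.node 2 (.node 1 (.leaf 0x12d) (.leaf 0x126)) (.node 1 (.leaf 0x116) (.leaf 0x120)))))) (.node 16 (.node 8 (.node 4 (.node 2 (.node 1 (.leaf 0x110) (.leaf 0x122)) (.node 1 (.leaf 0x11c) (.leaf 0x12c))) (.node 2 (.node 1 (.leaf 0x12a) (.leaf 0x11e)) (.node 1 (.leaf 0x117) (.leaf 0x131)))) (.node 4 (.node 2 (.node 1 (.leaf 0x12b) (.leaf 0x125)) (.node 1 (.leaf 0x129) (.leaf 0x124))) (.node 2 (.node 1 (.leaf 0x11d) (.leaf 0x137)) (.node 1 (.leaf 0x132) (.leaf 0x13b))))) (.node 8 (.node 4 (.node 2 (.node 1 (.leaf 0x128) (.leaf 0x12f)) (.node 1 (.leaf 0x136) (.leaf 0x134))) (.node 2 (.node 1 (.leaf 0x135) (.leaf 0x133)) (.node 1 (.leaf 0x12e) (.leaf 0x140))))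 (.node 4 (.node 2 (.node 1 (.leaf 0x139) (.leaf 0x13a)) (.node 1 (.leaf 0x130) (.leaf 0x119))) (.node 2 (.node 1 (.leaf 0x13d) (.leaf 0x141)) (.node 1 (.leaf 0x13f) (.leaf 0x138)))))))

def conjL_7 : Tree :=
  .node 64 (.node 32 (.node 16 (.node 8 (.node 4 (.node 2 (.node 1 (.leaf 0x13e) (.leaf 0x143)) (.node 1 (.leaf 0x142) (.leaf 0x148))) (.node 2 (.node 1 (.leaf 0x14c) (.leaf 0x14d)) (.node 1 (.leaf 0x147) (.leaf 0x144)))) (.node 4 (.node 2 (.node 1 (.leaf 0x157) (.leaf 0x14a)) (.node 1 (.leaf 0x15b) (.leaf 0x145))) (.node 2 (.node 1 (.leaf 0x146) (.leaf 0x14e)) (.node 1 (.leaf 0x15f) (.leaf 0x166))))) (.node 8 (.node 4 (.node 2 (.node 1 (.leaf 0x151) (.leaf 0x152)) (.node 1 (.leaf 0x16d) (.leaf 0x16f))) (.node 2 (.node 1 (.leaf 0x171) (.leaf 0x156)) (.node 1 (.leaf 0x149) (.leaf 0x176)))) (.node 4 (.node 2 (.node 1 (.leaf 0x159) (.leaf 0x17a)) (.node 1 (.leaf 0x14b) (.leaf 0x17d))) (.node 2 (.node 1 (.leaf 0x15d) (.leaf 0x15e))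 (.node 1 (.leaf 0x14f) (.leaf 0x179)))))) (.node 16 (.node 8 (.node 4 (.node 2 (.node 1 (.leaf 0x161) (.leaf 0x182)) (.node 1 (.leaf 0x184) (.leaf 0x167))) (.node 2 (.node 1 (.leaf 0x165) (.leaf 0x150)) (.node 1 (.leaf 0x164) (.leaf 0x18a)))) (.node 4 (.node 2 (.node 1 (.leaf 0x169) (.leaf 0x18d)) (.node 1 (.leaf 0x18f) (.leaf 0x191))) (.node 2 (.node 1 (.leaf 0x153) (.leaf 0x193)) (.node 1 (.leaf 0x154) (.leaf 0x195))))) (.node 8 (.node 4 (.node 2 (.node 1 (.leaf 0x155) (.leaf 0x198)) (.node 1 (.leaf 0x173) (.leaf 0x199))) (.node 2 (.node 1 (.leaf 0x19a) (.leaf 0x158)) (.node 1 (.leaf 0x19d) (.leaf 0x19f)))) (.node 4 (.node 2 (.node 1 (.leaf 0x160) (.leaf 0x15a)) (.node 1 (.leaf 0x1a1) (.leaf 0x17c))) (.node 2 (.node 1 (.leaf 0x15c) (.leaf 0x17e)) (.node 1 (.leaf 0x1a3) (.leaf 0x1a4))))))) (.node 32 (.node 16 (.node 8 (.node 4 (.node 2 (.node 1 (.leaf 0x1a5) (.leaf 0x162)) (.node 1 (.leaf 0x1a7) (.leaf 0x163))) (.node 2 (.node 1 (.leaf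 0x1a9) (.leaf 0x1ab)) (.node 1 (.leaf 0x1ac) (.leaf 0x1a6)))) (.node 4 (.node 2 (.node 1 (.leaf 0x1ad) (.leaf 0x168)) (.node 1 (.leaf 0x19b) (.leaf 0x1b0))) (.node 2 (.node 1 (.leaf 0x16a) (.leaf 0x1b2)) (.node 1 (.leaf 0x16b) (.leaf 0x1b4))))) (.node 8 (.node 4 (.node 2 (.node 1 (.leaf 0x16c) (.leaf 0x1b6)) (.node 1 (.leaf 0x16e) (.leaf 0x1a2))) (.node 2 (.node 1 (.leaf 0x170) (.leaf 0x19e)) (.node 1 (.leaf 0x197) (.leaf 0x172)))) (.node 4 (.node 2 (.node 1 (.leaf 0x174) (.leaf 0x175)) (.node 1 (.leaf 0x18b) (.leaf 0x1a0))) (.node 2 (.node 1 (.leaf 0x177) (.leaf 0x196)) (.node 1 (.leaf 0x178) (.leaf 0x19c)))))) (.node 16 (.node 8 (.node 4 (.node 2 (.node 1 (.leaf 0x17b) (.leaf 0x194)) (.node 1 (.leaf 0x17f) (.leaf 0x180))) (.node 2 (.node 1 (.leaf 0x181) (.leaf 0x188)) (.node 1 (.leaf 0x183) (.leaf 0x1b3)))) (.node 4 (.node 2 (.node 1 (.leaf 0x185) (.leaf 0x1af)) (.node 1 (.leaf 0x186) (.leaf 0x187))) (.node 2 (.node 1 (.leaf 0x189)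 (.leaf 0x1b1)) (.node 1 (.leaf 0x1aa) (.leaf 0x18c))))) (.node 8 (.node 4 (.node 2 (.node 1 (.leaf 0x1ae) (.leaf 0x18e)) (.node 1 (.leaf 0x1a8) (.leaf 0x190))) (.node 2 (.node 1 (.leaf 0x1bd) (.leaf 0x192)) (.node 1 (.leaf 0x1bb) (.leaf 0x1ca)))) (.node 4 (.node 2 (.node 1 (.leaf 0x1c4) (.leaf 0x1bc)) (.node 1 (.leaf 0x1b7) (.leaf 0x1ba))) (.node 2 (.node 1 (.leaf 0x1b5) (.leaf 0x1c8)) (.node 1 (.leaf 0x1cb) (.leaf 0x1d9)))))))

def conjL_8 : Tree :=
  .node 64 (.node 32 (.node 16 (.node 8 (.node 4 (.node 2 (.node 1 (.leaf 0x1d0) (.leaf 0x1c6)) (.node 1 (.leaf 0x1c3) (.leaf 0x1b9))) (.node 2 (.node 1 (.leaf 0x1c5) (.leaf 0x1c2)) (.node 1 (.leaf 0x1ce) (.leaf 0x1be)))) (.node 4 (.node 2 (.node 1 (.leaf 0x1e5) (.leaf 0x1b8)) (.node 1 (.leaf 0x1bf) (.leaf 0x1d4))) (.node 2 (.node 1 (.leaf 0x1d2) (.leaf 0x1c7)) (.node 1 (.leaf 0x1dd) (.leaf 0x1c1))))) (.node 8 (.node 4 (.node 2 (.node 1 (.leaf 0x1d3) (.leaf 0x1cd)) (.node 1 (.leaf 0x1d1)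 (.leaf 0x1cc))) (.node 2 (.node 1 (.leaf 0x1db) (.leaf 0x1df)) (.node 1 (.leaf 0x1d7) (.leaf 0x1d8)))) (.node 4 (.node 2 (.node 1 (.leaf 0x1c0) (.leaf 0x1de)) (.node 1 (.leaf 0x1d5) (.leaf 0x1e4))) (.node 2 (.node 1 (.leaf 0x1cf) (.leaf 0x1da)) (.node 1 (.leaf 0x1d6) (.leaf 0x1e0)))))) (.node 16 (.node 8 (.node 4 (.node 2 (.node 1 (.leaf 0x1e1) (.leaf 0x1e8)) (.node 1 (.leaf 0x1e3) (.leaf 0x1dc))) (.node 2 (.node 1 (.leaf 0x1c9) (.leaf 0x1e6)) (.node 1 (.leaf 0x1e9) (.leaf 0x1e2)))) (.node 4 (.node 2 (.node 1 (.leaf 0x1e7) (.leaf 0x1ea)) (.node 1 (.leaf 0x1ec) (.leaf 0x1eb))) (.node 2 (.node 1 (.leaf 0x1f1) (.leaf 0x1ee)) (.node 1 (.leaf 0x1ef) (.leaf 0x1f0))))) (.node 8 (.node 4 (.node 2 (.node 1 (.leaf 0x1ed) (.leaf 0x1f2)) (.node 1 (.leaf 0x1f3) (.leaf 0x1f4))) (.node 2 (.node 1 (.leaf 0x201) (.leaf 0x203)) (.node 1 (.leaf 0x1f7) (.leaf 0x207)))) (.node 4 (.node 2 (.node 1 (.leaf 0x1f9) (.leaf 0x20b)) (.node 1 (.leaf 0x20d) (.leaf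 0x20f))) (.node 2 (.node 1 (.leaf 0x1fd) (.leaf 0x211)) (.node 1 (.leaf 0x1ff) (.leaf 0x212))))))) (.node 32 (.node 16 (.node 8 (.node 4 (.node 2 (.node 1 (.leaf 0x1f5) (.leaf 0x213)) (.node 1 (.leaf 0x1f6) (.leaf 0x216))) (.node 2 (.node 1 (.leaf 0x219) (.leaf 0x21a)) (.node 1 (.leaf 0x1f8) (.leaf 0x21c)))) (.node 4 (.node 2 (.node 1 (.leaf 0x21e) (.leaf 0x21f)) (.node 1 (.leaf 0x1fa) (.leaf 0x221))) (.node 2 (.node 1 (.leaf 0x1fb) (.leaf 0x223)) (.node 1 (.leaf 0x1fc) (.leaf 0x225))))) (.node 8 (.node 4 (.node 2 (.node 1 (.leaf 0x1fe) (.leaf 0x200)) (.node 1 (.leaf 0x202) (.leaf 0x222))) (.node 2 (.node 1 (.leaf 0x215) (.leaf 0x204)) (.node 1 (.leaf 0x21d) (.leaf 0x218)))) (.node 4 (.node 2 (.node 1 (.leaf 0x205) (.leaf 0x206)) (.node 1 (.leaf 0x220) (.leaf 0x208))) (.node 2 (.node 1 (.leaf 0x217) (.leaf 0x209)) (.node 1 (.leaf 0x20a) (.leaf 0x21b)))))) (.node 16 (.node 8 (.node 4 (.node 2 (.node 1 (.leaf 0x20c) (.leaf 0x214)) (.node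 1 (.leaf 0x20e) (.leaf 0x22a))) (.node 2 (.node 1 (.leaf 0x210) (.leaf 0x228)) (.node 1 (.leaf 0x229) (.leaf 0x226)))) (.node 4 (.node 2 (.node 1 (.leaf 0x227) (.leaf 0x224)) (.node 1 (.leaf 0x236) (.leaf 0x231))) (.node 2 (.node 1 (.leaf 0x234) (.leaf 0x238)) (.node 1 (.leaf 0x232) (.leaf 0x230))))) (.node 8 (.node 4 (.node 2 (.node 1 (.leaf 0x22c) (.leaf 0x22f)) (.node 1 (.leaf 0x237) (.leaf 0x22d))) (.node 2 (.node 1 (.leaf 0x235) (.leaf 0x22b)) (.node 1 (.leaf 0x233) (.leaf 0x22e)))) (.node 4 (.node 2 (.node 1 (.leaf 0x239) (.leaf 0x23a)) (.node 1 (.leaf 0x23b) (.leaf 0x23c))) (.node 2 (.node 1 (.leaf 0x23d) (.leaf 0x23e)) (.node 1 (.leaf 0x0) (.leaf 0x1)))))))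

def conjL_9 : Tree :=
  .node 64 (.node 32 (.node 16 (.node 8 (.node 4 (.node 2 (.node 1 (.leaf 0x2) (.leaf 0x3)) (.node 1 (.leaf 0x4) (.leaf 0x5))) (.node 2 (.node 1 (.leaf 0x6) (.leaf 0x7)) (.node 1 (.leaf 0x8) (.leaf 0x9)))) (.node 4 (.node 2 (.node 1 (.leaf 0xa) (.leaf 0xb)) (.node 1 (.leaf 0xc) (.leaf 0xd))) (.node 2 (.node 1 (.leaf 0xe) (.leaf 0xf)) (.node 1 (.leaf 0x10) (.leaf 0x11))))) (.node 8 (.node 4 (.node 2 (.node 1 (.leaf 0x12) (.leaf 0x13)) (.node 1 (.leaf 0x14) (.leaf 0x15))) (.node 2 (.node 1 (.leaf 0x16) (.leaf 0x17)) (.node 1 (.leaf 0x18) (.leaf 0x19)))) (.node 4 (.node 2 (.node 1 (.leaf 0x1a) (.leaf 0x1b)) (.node 1 (.leaf 0x1c) (.leaf 0x1d))) (.node 2 (.node 1 (.leaf 0x1e) (.leaf 0x1f)) (.node 1 (.leaf 0x20) (.leaf 0x21)))))) (.node 16 (.node 8 (.node 4 (.node 2 (.node 1 (.leaf 0x22) (.leaf 0x23)) (.node 1 (.leaf 0x24) (.leaf 0x25))) (.node 2 (.node 1 (.leaf 0x26) (.leaf 0x27)) (.node 1 (.leaf 0x28) (.leaf 0x29))))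 (.node 4 (.node 2 (.node 1 (.leaf 0x2a) (.leaf 0x2b)) (.node 1 (.leaf 0x2c) (.leaf 0x2d))) (.node 2 (.node 1 (.leaf 0x2e) (.leaf 0x2f)) (.node 1 (.leaf 0x30) (.leaf 0x31))))) (.node 8 (.node 4 (.node 2 (.node 1 (.leaf 0x32) (.leaf 0x33)) (.node 1 (.leaf 0x34) (.leaf 0x35))) (.node 2 (.node 1 (.leaf 0x36) (.leaf 0x37)) (.node 1 (.leaf 0x38) (.leaf 0x39)))) (.node 4 (.node 2 (.node 1 (.leaf 0x3a) (.leaf 0x3b)) (.node 1 (.leaf 0x3c) (.leaf 0x3d))) (.node 2 (.node 1 (.leaf 0x3e) (.leaf 0x3f)) (.node 1 (.leaf 0x40) (.leaf 0x41))))))) (.node 32 (.node 16 (.node 8 (.node 4 (.node 2 (.node 1 (.leaf 0x42) (.leaf 0x43)) (.node 1 (.leaf 0x44) (.leaf 0x45))) (.node 2 (.node 1 (.leaf 0x46) (.leaf 0x47)) (.node 1 (.leaf 0x48) (.leaf 0x49)))) (.node 4 (.node 2 (.node 1 (.leaf 0x4a) (.leaf 0x4b)) (.node 1 (.leaf 0x4c) (.leaf 0x4d))) (.node 2 (.node 1 (.leaf 0x4e) (.leaf 0x4f)) (.node 1 (.leaf 0x50) (.leaf 0x51))))) (.node 8 (.node 4 (.node 2 (.node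 1 (.leaf 0x52) (.leaf 0x53)) (.node 1 (.leaf 0x54) (.leaf 0x55))) (.node 2 (.node 1 (.leaf 0x56) (.leaf 0x57)) (.node 1 (.leaf 0x58) (.leaf 0x59)))) (.node 4 (.node 2 (.node 1 (.leaf 0x5a) (.leaf 0x5b)) (.node 1 (.leaf 0x5c) (.leaf 0x5d))) (.node 2 (.node 1 (.leaf 0x5e) (.leaf 0x5f)) (.node 1 (.leaf 0x60) (.leaf 0x61)))))) (.node 16 (.node 8 (.node 4 (.node 2 (.node 1 (.leaf 0x62) (.leaf 0x63)) (.node 1 (.leaf 0x64) (.leaf 0x65))) (.node 2 (.node 1 (.leaf 0x66) (.leaf 0x67)) (.node 1 (.leaf 0x68) (.leaf 0x69)))) (.node 4 (.node 2 (.node 1 (.leaf 0x6a) (.leaf 0x6b)) (.node 1 (.leaf 0x6c) (.leaf 0x6d))) (.node 2 (.node 1 (.leaf 0x6e) (.leaf 0x6f)) (.node 1 (.leaf 0x70) (.leaf 0x71))))) (.node 8 (.node 4 (.node 2 (.node 1 (.leaf 0x72) (.leaf 0x73)) (.node 1 (.leaf 0x74) (.leaf 0x75))) (.node 2 (.node 1 (.leaf 0x76) (.leaf 0x77)) (.node 1 (.leaf 0x78) (.leaf 0x79)))) (.node 4 (.node 2 (.node 1 (.leaf 0x7a) (.leaf 0x7b)) (.node 1 (.leaf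 0x7c) (.leaf 0x7d))) (.node 2 (.node 1 (.leaf 0x7e) (.leaf 0x7f)) (.node 1 (.leaf 0x80) (.leaf 0x81)))))))

def conjL_10 : Tree :=
  .node 64 (.node 32 (.node 16 (.node 8 (.node 4 (.node 2 (.node 1 (.leaf 0x82) (.leaf 0x83)) (.node 1 (.leaf 0x84) (.leaf 0x85))) (.node 2 (.node 1 (.leaf 0x86) (.leaf 0x87)) (.node 1 (.leaf 0x88) (.leaf 0x89)))) (.node 4 (.node 2 (.node 1 (.leaf 0x8a) (.leaf 0x8b)) (.node 1 (.leaf 0x8c) (.leaf 0x8d))) (.node 2 (.node 1 (.leaf 0x8e) (.leaf 0x8f)) (.node 1 (.leaf 0x90) (.leaf 0x91))))) (.node 8 (.node 4 (.node 2 (.node 1 (.leaf 0x92) (.leaf 0x93)) (.node 1 (.leaf 0x94) (.leaf 0x95))) (.node 2 (.node 1 (.leaf 0x96) (.leaf 0x97)) (.node 1 (.leaf 0x98) (.leaf 0x99)))) (.node 4 (.node 2 (.node 1 (.leaf 0x9a) (.leaf 0x9b)) (.node 1 (.leaf 0x9c) (.leaf 0x9d))) (.node 2 (.node 1 (.leaf 0x9e) (.leaf 0x9f)) (.node 1 (.leaf 0xa0) (.leaf 0xa1)))))) (.node 16 (.node 8 (.node 4 (.node 2 (.node 1 (.leaf 0xa2) (.leaf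 0xa3)) (.node 1 (.leaf 0xa4) (.leaf 0xa5))) (.node 2 (.node 1 (.leaf 0xa6) (.leaf 0xa7)) (.node 1 (.leaf 0xa8) (.leaf 0xa9)))) (.node 4 (.node 2 (.node 1 (.leaf 0xaa) (.leaf 0xab)) (.node 1 (.leaf 0xac) (.leaf 0xad))) (.node 2 (.node 1 (.leaf 0xae) (.leaf 0xaf)) (.node 1 (.leaf 0xb0) (.leaf 0xb1))))) (.node 8 (.node 4 (.node 2 (.node 1 (.leaf 0xb2) (.leaf 0xb3)) (.node 1 (.leaf 0xb4) (.leaf 0xb5))) (.node 2 (.node 1 (.leaf 0xb6) (.leaf 0xb7)) (.node 1 (.leaf 0xb8) (.leaf 0xb9)))) (.node 4 (.node 2 (.node 1 (.leaf 0xba) (.leaf 0xbb)) (.node 1 (.leaf 0xbc) (.leaf 0xbd))) (.node 2 (.node 1 (.leaf 0xbe) (.leaf 0xbf)) (.node 1 (.leaf 0xc0) (.leaf 0xc1))))))) (.node 32 (.node 16 (.node 8 (.node 4 (.node 2 (.node 1 (.leaf 0xc2) (.leaf 0xc3)) (.node 1 (.leaf 0xc4) (.leaf 0xc5))) (.node 2 (.node 1 (.leaf 0xc6) (.leaf 0xc7)) (.node 1 (.leaf 0xc8) (.leaf 0xc9)))) (.node 4 (.node 2 (.node 1 (.leaf 0xca) (.leaf 0xcb)) (.node 1 (.leaf 0xcc) (.leaf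 0xcd))) (.node 2 (.node 1 (.leaf 0xce) (.leaf 0xcf)) (.node 1 (.leaf 0xd0) (.leaf 0xd1))))) (.node 8 (.node 4 (.node 2 (.node 1 (.leaf 0xd2) (.leaf 0xd3)) (.node 1 (.leaf 0xd4) (.leaf 0xd5))) (.node 2 (.node 1 (.leaf 0xd6) (.leaf 0xd7)) (.node 1 (.leaf 0xd8) (.leaf 0xd9)))) (.node 4 (.node 2 (.node 1 (.leaf 0xda) (.leaf 0xdb)) (.node 1 (.leaf 0xdc) (.leaf 0xdd))) (.node 2 (.node 1 (.leaf 0xde) (.leaf 0xdf)) (.node 1 (.leaf 0xe0) (.leaf 0xe1)))))) (.node 16 (.node 8 (.node 4 (.node 2 (.node 1 (.leaf 0xe2) (.leaf 0xe3)) (.node 1 (.leaf 0xe4) (.leaf 0xe5))) (.node 2 (.node 1 (.leaf 0xe6) (.leaf 0xe7)) (.node 1 (.leaf 0xe8) (.leaf 0xe9)))) (.node 4 (.node 2 (.node 1 (.leaf 0xea) (.leaf 0xeb)) (.node 1 (.leaf 0xec) (.leaf 0xed))) (.node 2 (.node 1 (.leaf 0xee) (.leaf 0xef)) (.node 1 (.leaf 0xf0) (.leaf 0xf1))))) (.node 8 (.node 4 (.node 2 (.node 1 (.leaf 0xf2) (.leaf 0xf3)) (.node 1 (.leaf 0xf4) (.leaf 0xf5))) (.node 2 (.node 1 (.leaf 0xf6)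 (.leaf 0xf7)) (.node 1 (.leaf 0xf8) (.leaf 0xf9)))) (.node 4 (.node 2 (.node 1 (.leaf 0xfa) (.leaf 0xfb)) (.node 1 (.leaf 0xfc) (.leaf 0xfd))) (.node 2 (.node 1 (.leaf 0xfe) (.leaf 0xff)) (.node 1 (.leaf 0x100) (.leaf 0x101)))))))

def conjL_11 : Tree :=
  .node 64 (.node 32 (.node 16 (.node 8 (.node 4 (.node 2 (.node 1 (.leaf 0x102) (.leaf 0x103)) (.node 1 (.leaf 0x104) (.leaf 0x105))) (.node 2 (.node 1 (.leaf 0x106) (.leaf 0x107)) (.node 1 (.leaf 0x108) (.leaf 0x109)))) (.node 4 (.node 2 (.node 1 (.leaf 0x10a) (.leaf 0x10b)) (.node 1 (.leaf 0x10c) (.leaf 0x10d))) (.node 2 (.node 1 (.leaf 0x10e) (.leaf 0x10f)) (.node 1 (.leaf 0x110) (.leaf 0x111))))) (.node 8 (.node 4 (.node 2 (.node 1 (.leaf 0x112) (.leaf 0x113)) (.node 1 (.leaf 0x114) (.leaf 0x115))) (.node 2 (.node 1 (.leaf 0x116) (.leaf 0x117)) (.node 1 (.leaf 0x118) (.leaf 0x119)))) (.node 4 (.node 2 (.node 1 (.leaf 0x11a) (.leaf 0x11b)) (.node 1 (.leaf 0x11c) (.leaf 0x11d)))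 (.node 2 (.node 1 (.leaf 0x11e) (.leaf 0x11f)) (.node 1 (.leaf 0x120) (.leaf 0x121)))))) (.node 16 (.node 8 (.node 4 (.node 2 (.node 1 (.leaf 0x122) (.leaf 0x123)) (.node 1 (.leaf 0x124) (.leaf 0x125))) (.node 2 (.node 1 (.leaf 0x126) (.leaf 0x127)) (.node 1 (.leaf 0x128) (.leaf 0x129)))) (.node 4 (.node 2 (.node 1 (.leaf 0x12a) (.leaf 0x12b)) (.node 1 (.leaf 0x12c) (.leaf 0x12d))) (.node 2 (.node 1 (.leaf 0x12e) (.leaf 0x12f)) (.node 1 (.leaf 0x130) (.leaf 0x131))))) (.node 8 (.node 4 (.node 2 (.node 1 (.leaf 0x132) (.leaf 0x133)) (.node 1 (.leaf 0x134) (.leaf 0x135))) (.node 2 (.node 1 (.leaf 0x136) (.leaf 0x137)) (.node 1 (.leaf 0x138) (.leaf 0x139)))) (.node 4 (.node 2 (.node 1 (.leaf 0x13a) (.leaf 0x13b)) (.node 1 (.leaf 0x13c) (.leaf 0x13d))) (.node 2 (.node 1 (.leaf 0x13e) (.leaf 0x13f)) (.node 1 (.leaf 0x140) (.leaf 0x141))))))) (.node 32 (.node 16 (.node 8 (.node 4 (.node 2 (.node 1 (.leaf 0x142) (.leaf 0x143)) (.node 1 (.leaf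 0x144) (.leaf 0x145))) (.node 2 (.node 1 (.leaf 0x146) (.leaf 0x147)) (.node 1 (.leaf 0x148) (.leaf 0x149)))) (.node 4 (.node 2 (.node 1 (.leaf 0x14a) (.leaf 0x14b)) (.node 1 (.leaf 0x14c) (.leaf 0x14d))) (.node 2 (.node 1 (.leaf 0x14e) (.leaf 0x14f)) (.node 1 (.leaf 0x150) (.leaf 0x151))))) (.node 8 (.node 4 (.node 2 (.node 1 (.leaf 0x152) (.leaf 0x153)) (.node 1 (.leaf 0x154) (.leaf 0x155))) (.node 2 (.node 1 (.leaf 0x156) (.leaf 0x157)) (.node 1 (.leaf 0x158) (.leaf 0x159)))) (.node 4 (.node 2 (.node 1 (.leaf 0x15a) (.leaf 0x15b)) (.node 1 (.leaf 0x15c) (.leaf 0x15d))) (.node 2 (.node 1 (.leaf 0x15e) (.leaf 0x15f)) (.node 1 (.leaf 0x160) (.leaf 0x161)))))) (.node 16 (.node 8 (.node 4 (.node 2 (.node 1 (.leaf 0x162) (.leaf 0x163)) (.node 1 (.leaf 0x164) (.leaf 0x165))) (.node 2 (.node 1 (.leaf 0x166) (.leaf 0x167)) (.node 1 (.leaf 0x168) (.leaf 0x169)))) (.node 4 (.node 2 (.node 1 (.leaf 0x16a) (.leaf 0x16b)) (.node 1 (.leaf 0x16c)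 (.leaf 0x16d))) (.node 2 (.node 1 (.leaf 0x16e) (.leaf 0x16f)) (.node 1 (.leaf 0x170) (.leaf 0x171))))) (.node 8 (.node 4 (.node 2 (.node 1 (.leaf 0x172) (.leaf 0x173)) (.node 1 (.leaf 0x174) (.leaf 0x175))) (.node 2 (.node 1 (.leaf 0x176) (.leaf 0x177)) (.node 1 (.leaf 0x178) (.leaf 0x179)))) (.node 4 (.node 2 (.node 1 (.leaf 0x17a) (.leaf 0x17b)) (.node 1 (.leaf 0x17c) (.leaf 0x17d))) (.node 2 (.node 1 (.leaf 0x17e) (.leaf 0x17f)) (.node 1 (.leaf 0x180) (.leaf 0x181)))))))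

def conjL_12 : Tree :=
  .node 64 (.node 32 (.node 16 (.node 8 (.node 4 (.node 2 (.node 1 (.leaf 0x182) (.leaf 0x183)) (.node 1 (.leaf 0x184) (.leaf 0x185))) (.node 2 (.node 1 (.leaf 0x186) (.leaf 0x187)) (.node 1 (.leaf 0x188) (.leaf 0x189)))) (.node 4 (.node 2 (.node 1 (.leaf 0x18a) (.leaf 0x18b)) (.node 1 (.leaf 0x18c) (.leaf 0x18d))) (.node 2 (.node 1 (.leaf 0x18e) (.leaf 0x18f)) (.node 1 (.leaf 0x190) (.leaf 0x191))))) (.node 8 (.node 4 (.node 2 (.node 1 (.leaf 0x192) (.leaf 0x193)) (.node 1 (.leaf 0x194) (.leaf 0x195))) (.node 2 (.node 1 (.leaf 0x196) (.leaf 0x197)) (.node 1 (.leaf 0x198) (.leaf 0x199)))) (.node 4 (.node 2 (.node 1 (.leaf 0x19a) (.leaf 0x19b)) (.node 1 (.leaf 0x19c) (.leaf 0x19d))) (.node 2 (.node 1 (.leaf 0x19e) (.leaf 0x19f)) (.node 1 (.leaf 0x1a0) (.leaf 0x1a1)))))) (.node 16 (.node 8 (.node 4 (.node 2 (.node 1 (.leaf 0x1a2) (.leaf 0x1a3)) (.node 1 (.leaf 0x1a4) (.leaf 0x1a5))) (.node 2 (.node 1 (.leaf 0x1a6)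 (.leaf 0x1a7)) (.node 1 (.leaf 0x1a8) (.leaf 0x1a9)))) (.node 4 (.node 2 (.node 1 (.leaf 0x1aa) (.leaf 0x1ab)) (.node 1 (.leaf 0x1ac) (.leaf 0x1ad))) (.node 2 (.node 1 (.leaf 0x1ae) (.leaf 0x1af)) (.node 1 (.leaf 0x1b0) (.leaf 0x1b1))))) (.node 8 (.node 4 (.node 2 (.node 1 (.leaf 0x1b2) (.leaf 0x1b3)) (.node 1 (.leaf 0x1b4) (.leaf 0x1b5))) (.node 2 (.node 1 (.leaf 0x1b6) (.leaf 0x1b7)) (.node 1 (.leaf 0x1b8) (.leaf 0x1b9)))) (.node 4 (.node 2 (.node 1 (.leaf 0x1ba) (.leaf 0x1bb)) (.node 1 (.leaf 0x1bc) (.leaf 0x1bd))) (.node 2 (.node 1 (.leaf 0x1be) (.leaf 0x1bf)) (.node 1 (.leaf 0x1c0) (.leaf 0x1c1))))))) (.node 32 (.node 16 (.node 8 (.node 4 (.node 2 (.node 1 (.leaf 0x1c2) (.leaf 0x1c3)) (.node 1 (.leaf 0x1c4) (.leaf 0x1c5))) (.node 2 (.node 1 (.leaf 0x1c6) (.leaf 0x1c7)) (.node 1 (.leaf 0x1c8) (.leaf 0x1c9)))) (.node 4 (.node 2 (.node 1 (.leaf 0x1ca) (.leaf 0x1cb)) (.node 1 (.leaf 0x1cc) (.leaf 0x1cd))) (.node 2 (.node 1 (.leaf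 0x1ce) (.leaf 0x1cf)) (.node 1 (.leaf 0x1d0) (.leaf 0x1d1))))) (.node 8 (.node 4 (.node 2 (.node 1 (.leaf 0x1d2) (.leaf 0x1d3)) (.node 1 (.leaf 0x1d4) (.leaf 0x1d5))) (.node 2 (.node 1 (.leaf 0x1d6) (.leaf 0x1d7)) (.node 1 (.leaf 0x1d8) (.leaf 0x1d9)))) (.node 4 (.node 2 (.node 1 (.leaf 0x1da) (.leaf 0x1db)) (.node 1 (.leaf 0x1dc) (.leaf 0x1dd))) (.node 2 (.node 1 (.leaf 0x1de) (.leaf 0x1df)) (.node 1 (.leaf 0x1e0) (.leaf 0x1e1)))))) (.node 16 (.node 8 (.node 4 (.node 2 (.node 1 (.leaf 0x1e2) (.leaf 0x1e3)) (.node 1 (.leaf 0x1e4) (.leaf 0x1e5))) (.node 2 (.node 1 (.leaf 0x1e6) (.leaf 0x1e7)) (.node 1 (.leaf 0x1e8) (.leaf 0x1e9)))) (.node 4 (.node 2 (.node 1 (.leaf 0x1ea) (.leaf 0x1eb)) (.node 1 (.leaf 0x1ec) (.leaf 0x1ed))) (.node 2 (.node 1 (.leaf 0x1ee) (.leaf 0x1ef)) (.node 1 (.leaf 0x1f0) (.leaf 0x1f1))))) (.node 8 (.node 4 (.node 2 (.node 1 (.leaf 0x1f2) (.leaf 0x1f3)) (.node 1 (.leaf 0x1f4) (.leaf 0x1f5))) (.node 2 (.node 1 (.leaf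 0x1f6) (.leaf 0x1f7)) (.node 1 (.leaf 0x1f8) (.leaf 0x1f9)))) (.node 4 (.node 2 (.node 1 (.leaf 0x1fa) (.leaf 0x1fb)) (.node 1 (.leaf 0x1fc) (.leaf 0x1fd))) (.node 2 (.node 1 (.leaf 0x1fe) (.leaf 0x1ff)) (.node 1 (.leaf 0x200) (.leaf 0x201)))))))

def conjL_13 : Tree :=
  .node 64 (.node 32 (.node 16 (.node 8 (.node 4 (.node 2 (.node 1 (.leaf 0x202) (.leaf 0x203)) (.node 1 (.leaf 0x204) (.leaf 0x205))) (.node 2 (.node 1 (.leaf 0x206) (.leaf 0x207)) (.node 1 (.leaf 0x208) (.leaf 0x209)))) (.node 4 (.node 2 (.node 1 (.leaf 0x20a) (.leaf 0x20b)) (.node 1 (.leaf 0x20c) (.leaf 0x20d))) (.node 2 (.node 1 (.leaf 0x20e) (.leaf 0x20f)) (.node 1 (.leaf 0x210) (.leaf 0x211))))) (.node 8 (.node 4 (.node 2 (.node 1 (.leaf 0x212) (.leaf 0x213)) (.node 1 (.leaf 0x214) (.leaf 0x215))) (.node 2 (.node 1 (.leaf 0x216) (.leaf 0x217)) (.node 1 (.leaf 0x218) (.leaf 0x219)))) (.node 4 (.node 2 (.node 1 (.leaf 0x21a) (.leaf 0x21b)) (.node 1 (.leaf 0x21c)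 (.leaf 0x21d))) (.node 2 (.node 1 (.leaf 0x21e) (.leaf 0x21f)) (.node 1 (.leaf 0x220) (.leaf 0x221)))))) (.node 16 (.node 8 (.node 4 (.node 2 (.node 1 (.leaf 0x222) (.leaf 0x223)) (.node 1 (.leaf 0x224) (.leaf 0x225))) (.node 2 (.node 1 (.leaf 0x226) (.leaf 0x227)) (.node 1 (.leaf 0x228) (.leaf 0x229)))) (.node 4 (.node 2 (.node 1 (.leaf 0x22a) (.leaf 0x22b)) (.node 1 (.leaf 0x22c) (.leaf 0x22d))) (.node 2 (.node 1 (.leaf 0x22e) (.leaf 0x22f)) (.node 1 (.leaf 0x230) (.leaf 0x231))))) (.node 8 (.node 4 (.node 2 (.node 1 (.leaf 0x232) (.leaf 0x233)) (.node 1 (.leaf 0x234) (.leaf 0x235))) (.node 2 (.node 1 (.leaf 0x236) (.leaf 0x237)) (.node 1 (.leaf 0x238) (.leaf 0x239)))) (.node 4 (.node 2 (.node 1 (.leaf 0x23a) (.leaf 0x23b)) (.node 1 (.leaf 0x23c) (.leaf 0x23d))) (.node 2 (.node 1 (.leaf 0x23e) (.leaf 0x0)) (.node 1 (.leaf 0x3) (.leaf 0x7))))))) (.node 32 (.node 16 (.node 8 (.node 4 (.node 2 (.node 1 (.leaf 0x1) (.leaf 0xa)) (.node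 1 (.leaf 0xb) (.leaf 0x6))) (.node 2 (.node 1 (.leaf 0x2) (.leaf 0x10)) (.node 1 (.leaf 0x11) (.leaf 0x4)))) (.node 4 (.node 2 (.node 1 (.leaf 0x5) (.leaf 0x17)) (.node 1 (.leaf 0xf) (.leaf 0x19))) (.node 2 (.node 1 (.leaf 0xd) (.leaf 0x8)) (.node 1 (.leaf 0x9) (.leaf 0x23))))) (.node 8 (.node 4 (.node 2 (.node 1 (.leaf 0x15) (.leaf 0x25)) (.node 1 (.leaf 0x13) (.leaf 0x16))) (.node 2 (.node 1 (.leaf 0xc) (.leaf 0x18)) (.node 1 (.leaf 0xe) (.leaf 0x2a)))) (.node 4 (.node 2 (.node 1 (.leaf 0x21) (.leaf 0x30)) (.node 1 (.leaf 0x1e) (.leaf 0x1d))) (.node 2 (.node 1 (.leaf 0x2d) (.leaf 0x35)) (.node 1 (.leaf 0x1b) (.leaf 0x22)))))) (.node 16 (.node 8 (.node 4 (.node 2 (.node 1 (.leaf 0x12) (.leaf 0x24)) (.node 1 (.leaf 0x14) (.leaf 0x3c))) (.node 2 (.node 1 (.leaf 0x3e) (.leaf 0x28)) (.node 1 (.leaf 0x29) (.leaf 0x1a)))) (.node 4 (.node 2 (.node 1 (.leaf 0x2b) (.leaf 0x2c)) (.node 1 (.leaf 0x1f) (.leaf 0x2e))) (.node 2 (.node 1 (.leaf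 0x42) (.leaf 0x1c)) (.node 1 (.leaf 0x44) (.leaf 0x45))))) (.node 8 (.node 4 (.node 2 (.node 1 (.leaf 0x47) (.leaf 0x34)) (.node 1 (.leaf 0x20) (.leaf 0x49))) (.node 2 (.node 1 (.leaf 0x4a) (.leaf 0x38)) (.node 1 (.leaf 0x39) (.leaf 0x3a)))) (.node 4 (.node 2 (.node 1 (.leaf 0x3b) (.leaf 0x26)) (.node 1 (.leaf 0x4e) (.leaf 0x27))) (.node 2 (.node 1 (.leaf 0x4f) (.leaf 0x40)) (.node 1 (.leaf 0x41) (.leaf 0x2f)))))))

def conjL_14 : Tree :=
  .node 64 (.node 32 (.node 16 (.node 8 (.node 4 (.node 2 (.node 1 (.leaf 0x50) (.leaf 0x31)) (.node 1 (.leaf 0x32) (.leaf 0x51))) (.node 2 (.node 1 (.leaf 0x33) (.leaf 0x52)) (.node 1 (.leaf 0x36) (.leaf 0x37)))) (.node 4 (.node 2 (.node 1 (.leaf 0x53) (.leaf 0x4c)) (.node 1 (.leaf 0x4d) (.leaf 0x3d))) (.node 2 (.node 1 (.leaf 0x3f) (.leaf 0x43)) (.node 1 (.leaf 0x46) (.leaf 0x48))))) (.node 8 (.node 4 (.node 2 (.node 1 (.leaf 0x4b) (.leaf 0x54)) (.node 1 (.leaf 0x56) (.leaf 0x55))) (.node 2 (.node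 1 (.leaf 0x59) (.leaf 0x5a)) (.node 1 (.leaf 0x57) (.leaf 0x58)))) (.node 4 (.node 2 (.node 1 (.leaf 0x60) (.leaf 0x5e)) (.node 1 (.leaf 0x62) (.leaf 0x5c))) (.node 2 (.node 1 (.leaf 0x5f) (.leaf 0x5b)) (.node 1 (.leaf 0x61) (.leaf 0x5d)))))) (.node 16 (.node 8 (.node 4 (.node 2 (.node 1 (.leaf 0x6a) (.leaf 0x66)) (.node 1 (.leaf 0x6f) (.leaf 0x64))) (.node 2 (.node 1 (.leaf 0x72) (.leaf 0x68)) (.node 1 (.leaf 0x69) (.leaf 0x63)))) (.node 4 (.node 2 (.node 1 (.leaf 0x6b) (.leaf 0x6c)) (.node 1 (.leaf 0x6d) (.leaf 0x76))) (.node 2 (.node 1 (.leaf 0x65) (.leaf 0x78)) (.node 1 (.leaf 0x79) (.leaf 0x67))))) (.node 8 (.node 4 (.node 2 (.node 1 (.leaf 0x7b) (.leaf 0x74)) (.node 1 (.leaf 0x75) (.leaf 0x6e))) (.node 2 (.node 1 (.leaf 0x7c) (.leaf 0x70)) (.node 1 (.leaf 0x71) (.leaf 0x7d)))) (.node 4 (.node 2 (.node 1 (.leaf 0x73) (.leaf 0x77)) (.node 1 (.leaf 0x7a) (.leaf 0x7e))) (.node 2 (.node 1 (.leaf 0x7f) (.leaf 0x80)) (.node 1 (.leaf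 0x81) (.leaf 0x84))))))) (.node 32 (.node 16 (.node 8 (.node 4 (.node 2 (.node 1 (.leaf 0x86) (.leaf 0x82)) (.node 1 (.leaf 0x88) (.leaf 0x83))) (.node 2 (.node 1 (.leaf 0x89) (.leaf 0x85)) (.node 1 (.leaf 0x87) (.leaf 0x8a)))) (.node 4 (.node 2 (.node 1 (.leaf 0x8b) (.leaf 0x8c)) (.node 1 (.leaf 0x8d) (.leaf 0x8e))) (.node 2 (.node 1 (.leaf 0x8f) (.leaf 0x92)) (.node 1 (.leaf 0x94) (.leaf 0x90))))) (.node 8 (.node 4 (.node 2 (.node 1 (.leaf 0x96) (.leaf 0x91)) (.node 1 (.leaf 0x97) (.leaf 0x93))) (.node 2 (.node 1 (.leaf 0x95) (.leaf 0x98)) (.node 1 (.leaf 0x99) (.leaf 0x9a)))) (.node 4 (.node 2 (.node 1 (.leaf 0x9f) (.leaf 0x9c)) (.node 1 (.leaf 0x9d) (.leaf 0xa6))) (.node 2 (.node 1 (.leaf 0x9b) (.leaf 0xaa)) (.node 1 (.leaf 0xab) (.leaf 0xac)))))) (.node 16 (.node 8 (.node 4 (.node 2 (.node 1 (.leaf 0xa3) (.leaf 0xb5)) (.node 1 (.leaf 0xa5) (.leaf 0x9e))) (.node 2 (.node 1 (.leaf 0xb9) (.leaf 0xba)) (.node 1 (.leaf 0xbb) (.leaf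 0xa0)))) (.node 4 (.node 2 (.node 1 (.leaf 0xa1) (.leaf 0xa2)) (.node 1 (.leaf 0xc3) (.leaf 0xc4))) (.node 2 (.node 1 (.leaf 0xc6) (.leaf 0xb2)) (.node 1 (.leaf 0xc8) (.leaf 0xb0))))) (.node 8 (.node 4 (.node 2 (.node 1 (.leaf 0xd4) (.leaf 0xd6)) (.node 1 (.leaf 0xa4) (.leaf 0xd7))) (.node 2 (.node 1 (.leaf 0xb7) (.leaf 0xb8)) (.node 1 (.leaf 0xa7) (.leaf 0xa8)))) (.node 4 (.node 2 (.node 1 (.leaf 0xa9) (.leaf 0xd8)) (.node 1 (.leaf 0xd9) (.leaf 0xdb))) (.node 2 (.node 1 (.leaf 0xc2) (.leaf 0xe3)) (.node 1 (.leaf 0xdd) (.leaf 0xbf)))))))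

def conjL_15 : Tree :=
  .node 64 (.node 32 (.node 16 (.node 8 (.node 4 (.node 2 (.node 1 (.leaf 0xad) (.leaf 0xae)) (.node 1 (.leaf 0xc5) (.leaf 0xaf))) (.node 2 (.node 1 (.leaf 0xee) (.leaf 0xb1)) (.node 1 (.leaf 0xe8) (.leaf 0xcc)))) (.node 4 (.node 2 (.node 1 (.leaf 0xea) (.leaf 0xca)) (.node 1 (.leaf 0xed) (.leaf 0xd3))) (.node 2 (.node 1 (.leaf 0xf3) (.leaf 0xd1)) (.node 1 (.leaf 0xd0) (.leaf 0xf8))))) (.node 8 (.node 4 (.node 2 (.node 1 (.leaf 0xce) (.leaf 0xb3)) (.node 1 (.leaf 0xd5) (.leaf 0xb4))) (.node 2 (.node 1 (.leaf 0xb6) (.leaf 0xbc)) (.node 1 (.leaf 0xbd) (.leaf 0xda)))) (.node 4 (.node 2 (.node 1 (.leaf 0xbe) (.leaf 0x100)) (.node 1 (.leaf 0xc1) (.leaf 0xdf))) (.node 2 (.node 1 (.leaf 0xde) (.leaf 0xe6)) (.node 1 (.leaf 0x106) (.leaf 0xe4)))))) (.node 16 (.node 8 (.node 4 (.node 2 (.node 1 (.leaf 0xc0) (.leaf 0xe2)) (.node 1 (.leaf 0x10a) (.leaf 0xe0))) (.node 2 (.node 1 (.leaf 0xe7) (.leaf 0xc9)) (.node 1 (.leaf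 0x10e) (.leaf 0xcb)))) (.node 4 (.node 2 (.node 1 (.leaf 0xeb) (.leaf 0xec)) (.node 1 (.leaf 0xcd) (.leaf 0xc7))) (.node 2 (.node 1 (.leaf 0x111) (.leaf 0x112)) (.node 1 (.leaf 0x114) (.leaf 0x116))))) (.node 8 (.node 4 (.node 2 (.node 1 (.leaf 0xcf) (.leaf 0x118)) (.node 1 (.leaf 0x119) (.leaf 0x11b))) (.node 2 (.node 1 (.leaf 0x11d) (.leaf 0xd2)) (.node 1 (.leaf 0x11f) (.leaf 0x120)))) (.node 4 (.node 2 (.node 1 (.leaf 0xfb) (.leaf 0xfc)) (.node 1 (.leaf 0x101) (.leaf 0xfe))) (.node 2 (.node 1 (.leaf 0xff) (.leaf 0xdc)) (.node 1 (.leaf 0xfd) (.leaf 0x127))))))) (.node 32 (.node 16 (.node 8 (.node 4 (.node 2 (.node 1 (.leaf 0x129) (.leaf 0x12b)) (.node 1 (.leaf 0x12d) (.leaf 0xe1))) (.node 2 (.node 1 (.leaf 0x12f) (.leaf 0x130)) (.node 1 (.leaf 0x132) (.leaf 0xe5)))) (.node 4 (.node 2 (.node 1 (.leaf 0x134) (.leaf 0x10c)) (.node 1 (.leaf 0x10d) (.leaf 0xe9))) (.node 2 (.node 1 (.leaf 0x137) (.leaf 0x110)) (.node 1 (.leaf 0xef) (.leaf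 0xf0))))) (.node 8 (.node 4 (.node 2 (.node 1 (.leaf 0x138) (.leaf 0xf1)) (.node 1 (.leaf 0x139) (.leaf 0xf2))) (.node 2 (.node 1 (.leaf 0x13b) (.leaf 0xf4)) (.node 1 (.leaf 0xf5) (.leaf 0x13c)))) (.node 4 (.node 2 (.node 1 (.leaf 0xf6) (.leaf 0x122)) (.node 1 (.leaf 0xf7) (.leaf 0x13a))) (.node 2 (.node 1 (.leaf 0xf9) (.leaf 0xfa)) (.node 1 (.leaf 0x135) (.leaf 0x11c)))))) (.node 16 (.node 8 (.node 4 (.node 2 (.node 1 (.leaf 0x123) (.leaf 0x124)) (.node 1 (.leaf 0x128) (.leaf 0x126))) (.node 2 (.node 1 (.leaf 0x102) (.leaf 0x125)) (.node 1 (.leaf 0x103) (.leaf 0x13e)))) (.node 4 (.node 2 (.node 1 (.leaf 0x104) (.leaf 0x13d)) (.node 1 (.leaf 0x105) (.leaf 0x140))) (.node 2 (.node 1 (.leaf 0x107) (.leaf 0x108)) (.node 1 (.leaf 0x141) (.leaf 0x109))))) (.node 8 (.node 4 (.node 2 (.node 1 (.leaf 0x13f) (.leaf 0x10b)) (.node 1 (.leaf 0x121) (.leaf 0x136))) (.node 2 (.node 1 (.leaf 0x10f) (.leaf 0x113)) (.node 1 (.leaf 0x115) (.leaf 0x11e))))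 (.node 4 (.node 2 (.node 1 (.leaf 0x117) (.leaf 0x11a)) (.node 1 (.leaf 0x12c) (.leaf 0x12a))) (.node 2 (.node 1 (.leaf 0x133) (.leaf 0x12e)) (.node 1 (.leaf 0x131) (.leaf 0x142)))))))

def conjL_16 : Tree :=
  .node 64 (.node 32 (.node 16 (.node 8 (.node 4 (.node 2 (.node 1 (.leaf 0x147) (.leaf 0x144)) (.node 1 (.leaf 0x145) (.leaf 0x14e))) (.node 2 (.node 1 (.leaf 0x143) (.leaf 0x152)) (.node 1 (.leaf 0x153) (.leaf 0x154)))) (.node 4 (.node 2 (.node 1 (.leaf 0x14b) (.leaf 0x15d)) (.node 1 (.leaf 0x14d) (.leaf 0x146))) (.node 2 (.node 1 (.leaf 0x161) (.leaf 0x162)) (.node 1 (.leaf 0x163) (.leaf 0x148))))) (.node 8 (.node 4 (.node 2 (.node 1 (.leaf 0x149) (.leaf 0x14a)) (.node 1 (.leaf 0x16b) (.leaf 0x16c))) (.node 2 (.node 1 (.leaf 0x16e) (.leaf 0x15a)) (.node 1 (.leaf 0x170) (.leaf 0x158)))) (.node 4 (.node 2 (.node 1 (.leaf 0x17c) (.leaf 0x17e)) (.node 1 (.leaf 0x14c) (.leaf 0x17f))) (.node 2 (.node 1 (.leaf 0x15f) (.leaf 0x160))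 (.node 1 (.leaf 0x14f) (.leaf 0x150)))))) (.node 16 (.node 8 (.node 4 (.node 2 (.node 1 (.leaf 0x151) (.leaf 0x180)) (.node 1 (.leaf 0x181) (.leaf 0x188))) (.node 2 (.node 1 (.leaf 0x183) (.leaf 0x16a)) (.node 1 (.leaf 0x185) (.leaf 0x168)))) (.node 4 (.node 2 (.node 1 (.leaf 0x155) (.leaf 0x156)) (.node 1 (.leaf 0x193) (.leaf 0x157))) (.node 2 (.node 1 (.leaf 0x16f) (.leaf 0x159)) (.node 1 (.leaf 0x190) (.leaf 0x174))))) (.node 8 (.node 4 (.node 2 (.node 1 (.leaf 0x192) (.leaf 0x172)) (.node 1 (.leaf 0x17b) (.leaf 0x19c))) (.node 2 (.node 1 (.leaf 0x178) (.leaf 0x177)) (.node 1 (.leaf 0x197) (.leaf 0x1a0)))) (.node 4 (.node 2 (.node 1 (.leaf 0x175) (.leaf 0x15b)) (.node 1 (.leaf 0x17d) (.leaf 0x15c))) (.node 2 (.node 1 (.leaf 0x15e) (.leaf 0x164)) (.node 1 (.leaf 0x165) (.leaf 0x1a6))))))) (.node 32 (.node 16 (.node 8 (.node 4 (.node 2 (.node 1 (.leaf 0x167) (.leaf 0x184)) (.node 1 (.leaf 0x169) (.leaf 0x187))) (.node 2 (.node 1 (.leaf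 0x186) (.leaf 0x166)) (.node 1 (.leaf 0x18e) (.leaf 0x1ae)))) (.node 4 (.node 2 (.node 1 (.leaf 0x18c) (.leaf 0x18b)) (.node 1 (.leaf 0x1b1) (.leaf 0x189))) (.node 2 (.node 1 (.leaf 0x1b4) (.leaf 0x171)) (.node 1 (.leaf 0x191) (.leaf 0x173))))) (.node 8 (.node 4 (.node 2 (.node 1 (.leaf 0x16d) (.leaf 0x1b8)) (.node 1 (.leaf 0x195) (.leaf 0x196))) (.node 2 (.node 1 (.leaf 0x179) (.leaf 0x1ba)) (.node 1 (.leaf 0x1bc) (.leaf 0x1be)))) (.node 4 (.node 2 (.node 1 (.leaf 0x1c0) (.leaf 0x176)) (.node 1 (.leaf 0x1c2) (.leaf 0x1c3))) (.node 2 (.node 1 (.leaf 0x1c6) (.leaf 0x17a)) (.node 1 (.leaf 0x1c8) (.leaf 0x1c9)))))) (.node 16 (.node 8 (.node 4 (.node 2 (.node 1 (.leaf 0x1a3) (.leaf 0x1a7)) (.node 1 (.leaf 0x1a5) (.leaf 0x182))) (.node 2 (.node 1 (.leaf 0x1a4) (.leaf 0x1ce)) (.node 1 (.leaf 0x1a9) (.leaf 0x1aa)))) (.node 4 (.node 2 (.node 1 (.leaf 0x1d1) (.leaf 0x1d3)) (.node 1 (.leaf 0x1d5) (.leaf 0x18a))) (.node 2 (.node 1 (.leaf 0x1d7)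 (.leaf 0x1d9)) (.node 1 (.leaf 0x18d) (.leaf 0x1db))))) (.node 8 (.node 4 (.node 2 (.node 1 (.leaf 0x1dc) (.leaf 0x18f)) (.node 1 (.leaf 0x1de) (.leaf 0x1b6))) (.node 2 (.node 1 (.leaf 0x1b7) (.leaf 0x194)) (.node 1 (.leaf 0x1b9) (.leaf 0x198)))) (.node 4 (.node 2 (.node 1 (.leaf 0x1e0) (.leaf 0x199)) (.node 1 (.leaf 0x1e2) (.leaf 0x19a))) (.node 2 (.node 1 (.leaf 0x1c5) (.leaf 0x19b)) (.node 1 (.leaf 0x1e1) (.leaf 0x19d)))))))

def conjL_17 : Tree :=
  .node 64 (.node 32 (.node 16 (.node 8 (.node 4 (.node 2 (.node 1 (.leaf 0x19e) (.leaf 0x1d8)) (.node 1 (.leaf 0x1bf) (.leaf 0x19f))) (.node 2 (.node 1 (.leaf 0x1e4) (.leaf 0x1a1)) (.node 1 (.leaf 0x1a2) (.leaf 0x1e5)))) (.node 4 (.node 2 (.node 1 (.leaf 0x1cb) (.leaf 0x1cf)) (.node 1 (.leaf 0x1cd) (.leaf 0x1a8))) (.node 2 (.node 1 (.leaf 0x1cc) (.leaf 0x1d0)) (.node 1 (.leaf 0x1ab) (.leaf 0x1e3))))) (.node 8 (.node 4 (.node 2 (.node 1 (.leaf 0x1ac) (.leaf 0x1e7)) (.node 1 (.leaf 0x1ad)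 (.leaf 0x1e6))) (.node 2 (.node 1 (.leaf 0x1af) (.leaf 0x1c4)) (.node 1 (.leaf 0x1b0) (.leaf 0x1e8)))) (.node 4 (.node 2 (.node 1 (.leaf 0x1b2) (.leaf 0x1b3)) (.node 1 (.leaf 0x1e9) (.leaf 0x1b5))) (.node 2 (.node 1 (.leaf 0x1df) (.leaf 0x1bb)) (.node 1 (.leaf 0x1c1) (.leaf 0x1bd)))))) (.node 16 (.node 8 (.node 4 (.node 2 (.node 1 (.leaf 0x1d2) (.leaf 0x1c7)) (.node 1 (.leaf 0x1ca) (.leaf 0x1d6))) (.node 2 (.node 1 (.leaf 0x1d4) (.leaf 0x1da)) (.node 1 (.leaf 0x1dd) (.leaf 0x1ea)))) (.node 4 (.node 2 (.node 1 (.leaf 0x1eb) (.leaf 0x1ee)) (.node 1 (.leaf 0x1f2) (.leaf 0x1ec))) (.node 2 (.node 1 (.leaf 0x1f5) (.leaf 0x1f6)) (.node 1 (.leaf 0x1f1) (.leaf 0x1ed))))) (.node 8 (.node 4 (.node 2 (.node 1 (.leaf 0x1fb) (.leaf 0x1fc)) (.node 1 (.leaf 0x1ef) (.leaf 0x1f0))) (.node 2 (.node 1 (.leaf 0x202) (.leaf 0x1fa)) (.node 1 (.leaf 0x204) (.leaf 0x1f8)))) (.node 4 (.node 2 (.node 1 (.leaf 0x1f3) (.leaf 0x1f4)) (.node 1 (.leaf 0x20e) (.leaf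 0x200))) (.node 2 (.node 1 (.leaf 0x210) (.leaf 0x1fe)) (.node 1 (.leaf 0x201) (.leaf 0x1f7))))))) (.node 32 (.node 16 (.node 8 (.node 4 (.node 2 (.node 1 (.leaf 0x203) (.leaf 0x1f9)) (.node 1 (.leaf 0x215) (.leaf 0x20c))) (.node 2 (.node 1 (.leaf 0x21b) (.leaf 0x209)) (.node 1 (.leaf 0x208) (.leaf 0x218)))) (.node 4 (.node 2 (.node 1 (.leaf 0x220) (.leaf 0x206)) (.node 1 (.leaf 0x20d) (.leaf 0x1fd))) (.node 2 (.node 1 (.leaf 0x20f) (.leaf 0x1ff)) (.node 1 (.leaf 0x227) (.leaf 0x229))))) (.node 8 (.node 4 (.node 2 (.node 1 (.leaf 0x213) (.leaf 0x214)) (.node 1 (.leaf 0x205) (.leaf 0x216))) (.node 2 (.node 1 (.leaf 0x217) (.leaf 0x20a)) (.node 1 (.leaf 0x219) (.leaf 0x22d)))) (.node 4 (.node 2 (.node 1 (.leaf 0x207) (.leaf 0x22f)) (.node 1 (.leaf 0x230) (.leaf 0x232))) (.node 2 (.node 1 (.leaf 0x21f) (.leaf 0x20b)) (.node 1 (.leaf 0x234) (.leaf 0x235)))))) (.node 16 (.node 8 (.node 4 (.node 2 (.node 1 (.leaf 0x223) (.leaf 0x224)) (.node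 1 (.leaf 0x225) (.leaf 0x226))) (.node 2 (.node 1 (.leaf 0x211) (.leaf 0x239)) (.node 1 (.leaf 0x212) (.leaf 0x23a)))) (.node 4 (.node 2 (.node 1 (.leaf 0x22b) (.leaf 0x22c)) (.node 1 (.leaf 0x21a) (.leaf 0x23b))) (.node 2 (.node 1 (.leaf 0x21c) (.leaf 0x21d)) (.node 1 (.leaf 0x23c) (.leaf 0x21e))))) (.node 8 (.node 4 (.node 2 (.node 1 (.leaf 0x23d) (.leaf 0x221)) (.node 1 (.leaf 0x222) (.leaf 0x23e))) (.node 2 (.node 1 (.leaf 0x237) (.leaf 0x238)) (.node 1 (.leaf 0x228) (.leaf 0x22a)))) (.node 4 (.node 2 (.node 1 (.leaf 0x22e) (.leaf 0x231)) (.node 1 (.leaf 0x233) (.leaf 0x236))) (.node 2 (.node 1 (.leaf 0x0) (.leaf 0x1)) (.node 1 (.leaf 0x2) (.leaf 0x3)))))))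

def conjL_18 : Tree :=
  .node 64 (.node 32 (.node 16 (.node 8 (.node 4 (.node 2 (.node 1 (.leaf 0x4) (.leaf 0xe)) (.node 1 (.leaf 0x6) (.leaf 0x7))) (.node 2 (.node 1 (.leaf 0x8) (.leaf 0x14)) (.node 1 (.leaf 0xa) (.leaf 0x19)))) (.node 4 (.node 2 (.node 1 (.leaf 0xc) (.leaf 0x1d)) (.node 1 (.leaf 0x5) (.leaf 0x1e))) (.node 2 (.node 1 (.leaf 0x10) (.leaf 0x25)) (.node 1 (.leaf 0x12) (.leaf 0x1b))))) (.node 8 (.node 4 (.node 2 (.node 1 (.leaf 0x9) (.leaf 0x21)) (.node 1 (.leaf 0x16) (.leaf 0x17))) (.node 2 (.node 1 (.leaf 0x2b) (.leaf 0xb)) (.node 1 (.leaf 0x1a) (.leaf 0x13)))) (.node 4 (.node 2 (.node 1 (.leaf 0x31) (.leaf 0xd)) (.node 1 (.leaf 0xf) (.leaf 0x1f))) (.node 2 (.node 1 (.leaf 0x33) (.leaf 0x15)) (.node 1 (.leaf 0x22) (.leaf 0x23)))))) (.node 16 (.node 8 (.node 4 (.node 2 (.node 1 (.leaf 0x3a) (.leaf 0x11)) (.node 1 (.leaf 0x2f) (.leaf 0x36))) (.node 2 (.node 1 (.leaf 0x28) (.leaf 0x29)) (.node 1 (.leaf 0x2a) (.leaf 0x18))))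 (.node 4 (.node 2 (.node 1 (.leaf 0x41) (.leaf 0x2d)) (.node 1 (.leaf 0x2e) (.leaf 0x26))) (.node 2 (.node 1 (.leaf 0x44) (.leaf 0x1c)) (.node 1 (.leaf 0x46) (.leaf 0x20))))) (.node 8 (.node 4 (.node 2 (.node 1 (.leaf 0x34) (.leaf 0x47)) (.node 1 (.leaf 0x27) (.leaf 0x37))) (.node 2 (.node 1 (.leaf 0x38) (.leaf 0x39)) (.node 1 (.leaf 0x24) (.leaf 0x4d)))) (.node 4 (.node 2 (.node 1 (.leaf 0x42) (.leaf 0x43)) (.node 1 (.leaf 0x49) (.leaf 0x3f))) (.node 2 (.node 1 (.leaf 0x40) (.leaf 0x2c)) (.node 1 (.leaf 0x3c) (.leaf 0x3d))))))) (.node 32 (.node 16 (.node 8 (.node 4 (.node 2 (.node 1 (.leaf 0x30) (.leaf 0x51)) (.node 1 (.leaf 0x32) (.leaf 0x35))) (.node 2 (.node 1 (.leaf 0x48) (.leaf 0x3e)) (.node 1 (.leaf 0x4a) (.leaf 0x4b)))) (.node 4 (.node 2 (.node 1 (.leaf 0x4c) (.leaf 0x3b)) (.node 1 (.leaf 0x50) (.leaf 0x4f))) (.node 2 (.node 1 (.leaf 0x4e) (.leaf 0x45)) (.node 1 (.leaf 0x52) (.leaf 0x53))))) (.node 8 (.node 4 (.node 2 (.node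 1 (.leaf 0x54) (.leaf 0x55)) (.node 1 (.leaf 0x56) (.leaf 0x57))) (.node 2 (.node 1 (.leaf 0x5d) (.leaf 0x59)) (.node 1 (.leaf 0x62) (.leaf 0x5b)))) (.node 4 (.node 2 (.node 1 (.leaf 0x64) (.leaf 0x58)) (.node 1 (.leaf 0x66) (.leaf 0x5f))) (.node 2 (.node 1 (.leaf 0x60) (.leaf 0x6b)) (.node 1 (.leaf 0x5a) (.leaf 0x63)))))) (.node 16 (.node 8 (.node 4 (.node 2 (.node 1 (.leaf 0x5c) (.leaf 0x6e)) (.node 1 (.leaf 0x5e) (.leaf 0x71))) (.node 2 (.node 1 (.leaf 0x68) (.leaf 0x69)) (.node 1 (.leaf 0x6a) (.leaf 0x61)))) (.node 4 (.node 2 (.node 1 (.leaf 0x75) (.leaf 0x6d)) (.node 1 (.leaf 0x65) (.leaf 0x76))) (.node 2 (.node 1 (.leaf 0x77) (.leaf 0x67)) (.node 1 (.leaf 0x79) (.leaf 0x73))))) (.node 8 (.node 4 (.node 2 (.node 1 (.leaf 0x74) (.leaf 0x6c)) (.node 1 (.leaf 0x6f) (.leaf 0x70))) (.node 2 (.node 1 (.leaf 0x7c) (.leaf 0x72)) (.node 1 (.leaf 0x7a) (.leaf 0x7b)))) (.node 4 (.node 2 (.node 1 (.leaf 0x78) (.leaf 0x7d)) (.node 1 (.leaf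 0x7e) (.leaf 0x7f))) (.node 2 (.node 1 (.leaf 0x80) (.leaf 0x81)) (.node 1 (.leaf 0x82) (.leaf 0x83)))))))

def conjL_19 : Tree :=
  .node 64 (.node 32 (.node 16 (.node 8 (.node 4 (.node 2 (.node 1 (.leaf 0x84) (.leaf 0x85)) (.node 1 (.leaf 0x86) (.leaf 0x87))) (.node 2 (.node 1 (.leaf 0x88) (.leaf 0x89)) (.node 1 (.leaf 0x8a) (.leaf 0x8b)))) (.node 4 (.node 2 (.node 1 (.leaf 0x8d) (.leaf 0x8c)) (.node 1 (.leaf 0x8f) (.leaf 0x8e))) (.node 2 (.node 1 (.leaf 0x91) (.leaf 0x90)) (.node 1 (.leaf 0x94) (.leaf 0x93))))) (.node 8 (.node 4 (.node 2 (.node 1 (.leaf 0x92) (.leaf 0x95)) (.node 1 (.leaf 0x96) (.leaf 0x97))) (.node 2 (.node 1 (.leaf 0x98) (.leaf 0x99)) (.node 1 (.leaf 0x9a) (.leaf 0x9b)))) (.node 4 (.node 2 (.node 1 (.leaf 0x9c) (.leaf 0x9d)) (.node 1 (.leaf 0x9e) (.leaf 0x9f))) (.node 2 (.node 1 (.leaf 0xa0) (.leaf 0xa1)) (.node 1 (.leaf 0xb1) (.leaf 0xa3)))))) (.node 16 (.node 8 (.node 4 (.node 2 (.node 1 (.leaf 0xa4) (.leaf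 0xa5)) (.node 1 (.leaf 0xa6) (.leaf 0xa7))) (.node 2 (.node 1 (.leaf 0xa8) (.leaf 0xc1)) (.node 1 (.leaf 0xaa) (.leaf 0xab)))) (.node 4 (.node 2 (.node 1 (.leaf 0xc8) (.leaf 0xad)) (.node 1 (.leaf 0xcb) (.leaf 0xaf))) (.node 2 (.node 1 (.leaf 0xd0) (.leaf 0xa2)) (.node 1 (.leaf 0xd1) (.leaf 0xb3))))) (.node 8 (.node 4 (.node 2 (.node 1 (.leaf 0xb4) (.leaf 0xb5)) (.node 1 (.leaf 0xb6) (.leaf 0xb7))) (.node 2 (.node 1 (.leaf 0xb8) (.leaf 0xb9)) (.node 1 (.leaf 0xba) (.leaf 0xdd)))) (.node 4 (.node 2 (.node 1 (.leaf 0xbc) (.leaf 0xc0)) (.node 1 (.leaf 0xbe) (.leaf 0xe2))) (.node 2 (.node 1 (.leaf 0xbd) (.leaf 0xa9)) (.node 1 (.leaf 0xe4) (.leaf 0xc3))))))) (.node 32 (.node 16 (.node 8 (.node 4 (.node 2 (.node 1 (.leaf 0xea) (.leaf 0xc5)) (.node 1 (.leaf 0xc6) (.leaf 0xee))) (.node 2 (.node 1 (.leaf 0xac) (.leaf 0xc9)) (.node 1 (.leaf 0xe0) (.leaf 0xae)))) (.node 4 (.node 2 (.node 1 (.leaf 0xe6) (.leaf 0xcd)) (.node 1 (.leaf 0xde) (.leaf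 0xf4))) (.node 2 (.node 1 (.leaf 0xb0) (.leaf 0xb2)) (.node 1 (.leaf 0xf6) (.leaf 0xdf))))) (.node 8 (.node 4 (.node 2 (.node 1 (.leaf 0xd4) (.leaf 0xd5)) (.node 1 (.leaf 0xd6) (.leaf 0xd7))) (.node 2 (.node 1 (.leaf 0xd8) (.leaf 0xe3)) (.node 1 (.leaf 0xda) (.leaf 0xdb)))) (.node 4 (.node 2 (.node 1 (.leaf 0x101) (.leaf 0xbb)) (.node 1 (.leaf 0xce) (.leaf 0xd3))) (.node 2 (.node 1 (.leaf 0xca) (.leaf 0x107)) (.node 1 (.leaf 0xbf) (.leaf 0xd9)))))) (.node 16 (.node 8 (.node 4 (.node 2 (.node 1 (.leaf 0xc2) (.leaf 0x109)) (.node 1 (.leaf 0xcc) (.leaf 0xe7))) (.node 2 (.node 1 (.leaf 0xe8) (.leaf 0x10e)) (.node 1 (.leaf 0xc4) (.leaf 0xeb)))) (.node 4 (.node 2 (.node 1 (.leaf 0xec) (.leaf 0xed)) (.node 1 (.leaf 0xc7) (.leaf 0x111))) (.node 2 (.node 1 (.leaf 0x105) (.leaf 0xf7)) (.node 1 (.leaf 0x103) (.leaf 0x118))))) (.node 8 (.node 4 (.node 2 (.node 1 (.leaf 0xcf) (.leaf 0x11a)) (.node 1 (.leaf 0xd2) (.leaf 0xf1))) (.node 2 (.node 1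 (.leaf 0x11b) (.leaf 0x104)) (.node 1 (.leaf 0xfa) (.leaf 0xfb)))) (.node 4 (.node 2 (.node 1 (.leaf 0xfc) (.leaf 0x100)) (.node 1 (.leaf 0xfe) (.leaf 0xff))) (.node 2 (.node 1 (.leaf 0xfd) (.leaf 0xdc)) (.node 1 (.leaf 0x128) (.leaf 0xf2)))))))

def conjL_20 : Tree :=
  .node 64 (.node 32 (.node 16 (.node 8 (.node 4 (.node 2 (.node 1 (.leaf 0xf9) (.leaf 0xf0)) (.node 1 (.leaf 0x12f) (.leaf 0xe1))) (.node 2 (.node 1 (.leaf 0x131) (.leaf 0xe5)) (.node 1 (.leaf 0x132) (.leaf 0x10b)))) (.node 4 (.node 2 (.node 1 (.leaf 0x10c) (.leaf 0x10d)) (.node 1 (.leaf 0xe9) (.leaf 0x137))) (.node 2 (.node 1 (.leaf 0x110) (.leaf 0xef)) (.node 1 (.leaf 0x12d) (.leaf 0x12e))))) (.node 8 (.node 4 (.node 2 (.node 1 (.leaf 0x11d) (.leaf 0x115)) (.node 1 (.leaf 0x129) (.leaf 0x12a))) (.node 2 (.node 1 (.leaf 0xf3) (.leaf 0x13c)) (.node 1 (.leaf 0xf5) (.leaf 0xf8)))) (.node 4 (.node 2 (.node 1 (.leaf 0x11c) (.leaf 0x114)) (.node 1 (.leaf 0x11e) (.leaf 0x12b)))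 (.node 2 (.node 1 (.leaf 0x120) (.leaf 0x121)) (.node 1 (.leaf 0x122) (.leaf 0x123)))))) (.node 16 (.node 8 (.node 4 (.node 2 (.node 1 (.leaf 0x124) (.leaf 0x127)) (.node 1 (.leaf 0x126) (.leaf 0x125))) (.node 2 (.node 1 (.leaf 0x102) (.leaf 0x116)) (.node 1 (.leaf 0x117) (.leaf 0x11f)))) (.node 4 (.node 2 (.node 1 (.leaf 0x12c) (.leaf 0x112)) (.node 1 (.leaf 0x113) (.leaf 0x106))) (.node 2 (.node 1 (.leaf 0x141) (.leaf 0x108)) (.node 1 (.leaf 0x10a) (.leaf 0x133))))) (.node 8 (.node 4 (.node 2 (.node 1 (.leaf 0x134) (.leaf 0x135)) (.node 1 (.leaf 0x136) (.leaf 0x10f))) (.node 2 (.node 1 (.leaf 0x140) (.leaf 0x139)) (.node 1 (.leaf 0x13a) (.leaf 0x13e)))) (.node 4 (.node 2 (.node 1 (.leaf 0x119) (.leaf 0x13d)) (.node 1 (.leaf 0x13b) (.leaf 0x13f))) (.node 2 (.node 1 (.leaf 0x138) (.leaf 0x130)) (.node 1 (.leaf 0x144) (.leaf 0x148))))))) (.node 32 (.node 16 (.node 8 (.node 4 (.node 2 (.node 1 (.leaf 0x142) (.leaf 0x14b)) (.node 1 (.leaf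 0x14f) (.leaf 0x152))) (.node 2 (.node 1 (.leaf 0x143) (.leaf 0x155)) (.node 1 (.leaf 0x159) (.leaf 0x145)))) (.node 4 (.node 2 (.node 1 (.leaf 0x15b) (.leaf 0x15f)) (.node 1 (.leaf 0x161) (.leaf 0x146))) (.node 2 (.node 1 (.leaf 0x164) (.leaf 0x169)) (.node 1 (.leaf 0x147) (.leaf 0x16b))))) (.node 8 (.node 4 (.node 2 (.node 1 (.leaf 0x170) (.leaf 0x149)) (.node 1 (.leaf 0x173) (.leaf 0x171))) (.node 2 (.node 1 (.leaf 0x177) (.leaf 0x14a)) (.node 1 (.leaf 0x178) (.leaf 0x14c)))) (.node 4 (.node 2 (.node 1 (.leaf 0x179) (.leaf 0x17c)) (.node 1 (.leaf 0x165) (.leaf 0x14d))) (.node 2 (.node 1 (.leaf 0x17d) (.leaf 0x14e)) (.node 1 (.leaf 0x180) (.leaf 0x185)))))) (.node 16 (.node 8 (.node 4 (.node 2 (.node 1 (.leaf 0x150) (.leaf 0x15e)) (.node 1 (.leaf 0x167) (.leaf 0x166))) (.node 2 (.node 1 (.leaf 0x18b) (.leaf 0x151)) (.node 1 (.leaf 0x18c) (.leaf 0x153)))) (.node 4 (.node 2 (.node 1 (.leaf 0x192) (.leaf 0x18f)) (.node 1 (.leaf 0x190)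 (.leaf 0x195))) (.node 2 (.node 1 (.leaf 0x154) (.leaf 0x157)) (.node 1 (.leaf 0x189) (.leaf 0x156))))) (.node 8 (.node 4 (.node 2 (.node 1 (.leaf 0x18e) (.leaf 0x186)) (.node 1 (.leaf 0x19d) (.leaf 0x158))) (.node 2 (.node 1 (.leaf 0x15a) (.leaf 0x15c)) (.node 1 (.leaf 0x19f) (.leaf 0x187)))) (.node 4 (.node 2 (.node 1 (.leaf 0x15d) (.leaf 0x160)) (.node 1 (.leaf 0x197) (.leaf 0x181))) (.node 2 (.node 1 (.leaf 0x162) (.leaf 0x17f)) (.node 1 (.leaf 0x1a4) (.leaf 0x188)))))))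

def conjL_21 : Tree :=
  .node 64 (.node 32 (.node 16 (.node 8 (.node 4 (.node 2 (.node 1 (.leaf 0x1a9) (.leaf 0x163)) (.node 1 (.leaf 0x175) (.leaf 0x17b))) (.node 2 (.node 1 (.leaf 0x183) (.leaf 0x172)) (.node 1 (.leaf 0x19b) (.leaf 0x168)))) (.node 4 (.node 2 (.node 1 (.leaf 0x16a) (.leaf 0x1b0)) (.node 1 (.leaf 0x174) (.leaf 0x16d))) (.node 2 (.node 1 (.leaf 0x16e) (.leaf 0x1b6)) (.node 1 (.leaf 0x16c) (.leaf 0x1b4))))) (.node 8 (.node 4 (.node 2 (.node 1 (.leaf 0x194) (.leaf 0x16f)) (.node 1 (.leaf 0x1b9) (.leaf 0x17e))) (.node 2 (.node 1 (.leaf 0x1ad) (.leaf 0x1b2)) (.node 1 (.leaf 0x1ab) (.leaf 0x18a)))) (.node 4 (.node 2 (.node 1 (.leaf 0x1c2) (.leaf 0x176)) (.node 1 (.leaf 0x1c4) (.leaf 0x17a))) (.node 2 (.node 1 (.leaf 0x1c6) (.leaf 0x1ac)) (.node 1 (.leaf 0x1a2) (.leaf 0x1a5)))))) (.node 16 (.node 8 (.node 4 (.node 2 (.node 1 (.leaf 0x182) (.leaf 0x1a3)) (.node 1 (.leaf 0x1a7) (.leaf 0x1a6))) (.node 2 (.node 1 (.leaf 0x1a8)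 (.leaf 0x184)) (.node 1 (.leaf 0x1d0) (.leaf 0x19a)))) (.node 4 (.node 2 (.node 1 (.leaf 0x1a1) (.leaf 0x198)) (.node 1 (.leaf 0x1c0) (.leaf 0x1c1))) (.node 2 (.node 1 (.leaf 0x18d) (.leaf 0x1d9)) (.node 1 (.leaf 0x199) (.leaf 0x1b3))))) (.node 8 (.node 4 (.node 2 (.node 1 (.leaf 0x193) (.leaf 0x1b5)) (.node 1 (.leaf 0x191) (.leaf 0x1df))) (.node 2 (.node 1 (.leaf 0x1b8) (.leaf 0x196)) (.node 1 (.leaf 0x1d5) (.leaf 0x1d6)))) (.node 4 (.node 2 (.node 1 (.leaf 0x1db) (.leaf 0x1bd)) (.node 1 (.leaf 0x1d1) (.leaf 0x1d2))) (.node 2 (.node 1 (.leaf 0x1ae) (.leaf 0x1af)) (.node 1 (.leaf 0x19c) (.leaf 0x1d8))))))) (.node 32 (.node 16 (.node 8 (.node 4 (.node 2 (.node 1 (.leaf 0x19e) (.leaf 0x1e3)) (.node 1 (.leaf 0x1a0) (.leaf 0x1c7))) (.node 2 (.node 1 (.leaf 0x1d3) (.leaf 0x1c9)) (.node 1 (.leaf 0x1ca) (.leaf 0x1cd)))) (.node 4 (.node 2 (.node 1 (.leaf 0x1cc) (.leaf 0x1cb)) (.node 1 (.leaf 0x1ce) (.leaf 0x1cf))) (.node 2 (.node 1 (.leaf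 0x1aa) (.leaf 0x1be)) (.node 1 (.leaf 0x1bf) (.leaf 0x1c8))))) (.node 8 (.node 4 (.node 2 (.node 1 (.leaf 0x1d4) (.leaf 0x1ba)) (.node 1 (.leaf 0x1bb) (.leaf 0x1e1))) (.node 2 (.node 1 (.leaf 0x1c3) (.leaf 0x1b1)) (.node 1 (.leaf 0x1da) (.leaf 0x1bc)))) (.node 4 (.node 2 (.node 1 (.leaf 0x1dc) (.leaf 0x1dd)) (.node 1 (.leaf 0x1de) (.leaf 0x1b7))) (.node 2 (.node 1 (.leaf 0x1e6) (.leaf 0x1d7)) (.node 1 (.leaf 0x1e2) (.leaf 0x1c5)))))) (.node 16 (.node 8 (.node 4 (.node 2 (.node 1 (.leaf 0x1e4) (.leaf 0x1e5)) (.node 1 (.leaf 0x1e0) (.leaf 0x1e7))) (.node 2 (.node 1 (.leaf 0x1e8) (.leaf 0x1e9)) (.node 1 (.leaf 0x1ea) (.leaf 0x1eb)))) (.node 4 (.node 2 (.node 1 (.leaf 0x1ec) (.leaf 0x1ed)) (.node 1 (.leaf 0x1ee) (.leaf 0x1ef))) (.node 2 (.node 1 (.leaf 0x1f9) (.leaf 0x1f1)) (.node 1 (.leaf 0x1f2) (.leaf 0x1f3))))) (.node 8 (.node 4 (.node 2 (.node 1 (.leaf 0x1ff) (.leaf 0x1f5)) (.node 1 (.leaf 0x204) (.leaf 0x1f7))) (.node 2 (.node 1 (.leaf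 0x208) (.leaf 0x1f0)) (.node 1 (.leaf 0x209) (.leaf 0x1fb)))) (.node 4 (.node 2 (.node 1 (.leaf 0x210) (.leaf 0x1fd)) (.node 1 (.leaf 0x206) (.leaf 0x1f4))) (.node 2 (.node 1 (.leaf 0x20c) (.leaf 0x201)) (.node 1 (.leaf 0x202) (.leaf 0x216)))))))

def conjL_22 : Tree :=
  .node 64 (.node 32 (.node 16 (.node 8 (.node 4 (.node 2 (.node 1 (.leaf 0x1f6) (.leaf 0x205)) (.node 1 (.leaf 0x1fe) (.leaf 0x21c))) (.node 2 (.node 1 (.leaf 0x1f8) (.leaf 0x1fa)) (.node 1 (.leaf 0x20a) (.leaf 0x21e)))) (.node 4 (.node 2 (.node 1 (.leaf 0x200) (.leaf 0x20d)) (.node 1 (.leaf 0x20e) (.leaf 0x225))) (.node 2 (.node 1 (.leaf 0x1fc) (.leaf 0x21a)) (.node 1 (.leaf 0x221) (.leaf 0x213))))) (.node 8 (.node 4 (.node 2 (.node 1 (.leaf 0x214) (.leaf 0x215)) (.node 1 (.leaf 0x203) (.leaf 0x22c))) (.node 2 (.node 1 (.leaf 0x218) (.leaf 0x219)) (.node 1 (.leaf 0x211) (.leaf 0x22f)))) (.node 4 (.node 2 (.node 1 (.leaf 0x207) (.leaf 0x231)) (.node 1 (.leaf 0x20b)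 (.leaf 0x21f))) (.node 2 (.node 1 (.leaf 0x232) (.leaf 0x212)) (.node 1 (.leaf 0x222) (.leaf 0x223)))))) (.node 16 (.node 8 (.node 4 (.node 2 (.node 1 (.leaf 0x224) (.leaf 0x20f)) (.node 1 (.leaf 0x238) (.leaf 0x22d))) (.node 2 (.node 1 (.leaf 0x22e) (.leaf 0x234)) (.node 1 (.leaf 0x22a) (.leaf 0x22b)))) (.node 4 (.node 2 (.node 1 (.leaf 0x217) (.leaf 0x227)) (.node 1 (.leaf 0x228) (.leaf 0x21b))) (.node 2 (.node 1 (.leaf 0x23c) (.leaf 0x21d)) (.node 1 (.leaf 0x220) (.leaf 0x233))))) (.node 8 (.node 4 (.node 2 (.node 1 (.leaf 0x229) (.leaf 0x235)) (.node 1 (.leaf 0x236) (.leaf 0x237))) (.node 2 (.node 1 (.leaf 0x226) (.leaf 0x23b)) (.node 1 (.leaf 0x23a) (.leaf 0x239)))) (.node 4 (.node 2 (.node 1 (.leaf 0x230) (.leaf 0x23d)) (.node 1 (.leaf 0x23e) (.leaf 0x0))) (.node 2 (.node 1 (.leaf 0x1) (.leaf 0x2)) (.node 1 (.leaf 0x3) (.leaf 0xc))))))) (.node 32 (.node 16 (.node 8 (.node 4 (.node 2 (.node 1 (.leaf 0x5) (.leaf 0x6)) (.node 1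 (.leaf 0x7) (.leaf 0x12))) (.node 2 (.node 1 (.leaf 0x9) (.leaf 0x17)) (.node 1 (.leaf 0xb) (.leaf 0x4)))) (.node 4 (.node 2 (.node 1 (.leaf 0x1b) (.leaf 0xe)) (.node 1 (.leaf 0x21) (.leaf 0x23))) (.node 2 (.node 1 (.leaf 0x11) (.leaf 0x8)) (.node 1 (.leaf 0x1d) (.leaf 0x14))))) (.node 8 (.node 4 (.node 2 (.node 1 (.leaf 0x1e) (.leaf 0x28)) (.node 1 (.leaf 0xa) (.leaf 0x18))) (.node 2 (.node 1 (.leaf 0x19) (.leaf 0x1a)) (.node 1 (.leaf 0xd) (.leaf 0x2f)))) (.node 4 (.node 2 (.node 1 (.leaf 0x13) (.leaf 0x15)) (.node 1 (.leaf 0x1f) (.leaf 0x36))) (.node 2 (.node 1 (.leaf 0xf) (.leaf 0x38)) (.node 1 (.leaf 0x10) (.leaf 0x24)))))) (.node 16 (.node 8 (.node 4 (.node 2 (.node 1 (.leaf 0x25) (.leaf 0x31)) (.node 1 (.leaf 0x33) (.leaf 0x16))) (.node 2 (.node 1 (.leaf 0x40) (.leaf 0x2a)) (.node 1 (.leaf 0x2b) (.leaf 0x2c)))) (.node 4 (.node 2 (.node 1 (.leaf 0x2d) (.leaf 0x2e)) (.node 1 (.leaf 0x1c) (.leaf 0x42))) (.node 2 (.node 1 (.leaf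 0x26) (.leaf 0x32)) (.node 1 (.leaf 0x27) (.leaf 0x34))))) (.node 8 (.node 4 (.node 2 (.node 1 (.leaf 0x49) (.leaf 0x20)) (.node 1 (.leaf 0x4b) (.leaf 0x22))) (.node 2 (.node 1 (.leaf 0x4c) (.leaf 0x3a)) (.node 1 (.leaf 0x3b) (.leaf 0x44)))) (.node 4 (.node 2 (.node 1 (.leaf 0x3d) (.leaf 0x47)) (.node 1 (.leaf 0x48) (.leaf 0x29))) (.node 2 (.node 1 (.leaf 0x41) (.leaf 0x30)) (.node 1 (.leaf 0x43) (.leaf 0x3c)))))))

def conjL_23 : Tree :=
  .node 64 (.node 32 (.node 16 (.node 8 (.node 4 (.node 2 (.node 1 (.leaf 0x45) (.leaf 0x46)) (.node 1 (.leaf 0x3e) (.leaf 0x3f))) (.node 2 (.node 1 (.leaf 0x35) (.leaf 0x53)) (.node 1 (.leaf 0x37) (.leaf 0x39)))) (.node 4 (.node 2 (.node 1 (.leaf 0x4d) (.leaf 0x4e)) (.node 1 (.leaf 0x52) (.leaf 0x50))) (.node 2 (.node 1 (.leaf 0x51) (.leaf 0x4f)) (.node 1 (.leaf 0x4a) (.leaf 0x54))))) (.node 8 (.node 4 (.node 2 (.node 1 (.leaf 0x55) (.leaf 0x56)) (.node 1 (.leaf 0x5b) (.leaf 0x58))) (.node 2 (.node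 1 (.leaf 0x60) (.leaf 0x5a)) (.node 1 (.leaf 0x57) (.leaf 0x64)))) (.node 4 (.node 2 (.node 1 (.leaf 0x5d) (.leaf 0x66)) (.node 1 (.leaf 0x68) (.leaf 0x59))) (.node 2 (.node 1 (.leaf 0x61) (.leaf 0x62)) (.node 1 (.leaf 0x63) (.leaf 0x5c)))))) (.node 16 (.node 8 (.node 4 (.node 2 (.node 1 (.leaf 0x6e) (.leaf 0x5e)) (.node 1 (.leaf 0x71) (.leaf 0x5f))) (.node 2 (.node 1 (.leaf 0x74) (.leaf 0x6a)) (.node 1 (.leaf 0x6b) (.leaf 0x6c)))) (.node 4 (.node 2 (.node 1 (.leaf 0x6d) (.leaf 0x65)) (.node 1 (.leaf 0x76) (.leaf 0x70))) (.node 2 (.node 1 (.leaf 0x67) (.leaf 0x79)) (.node 1 (.leaf 0x7a) (.leaf 0x69))))) (.node 8 (.node 4 (.node 2 (.node 1 (.leaf 0x75) (.leaf 0x6f)) (.node 1 (.leaf 0x77) (.leaf 0x78))) (.node 2 (.node 1 (.leaf 0x72) (.leaf 0x73)) (.node 1 (.leaf 0x7d) (.leaf 0x7c)))) (.node 4 (.node 2 (.node 1 (.leaf 0x7b) (.leaf 0x7f)) (.node 1 (.leaf 0x7e) (.leaf 0x81))) (.node 2 (.node 1 (.leaf 0x80) (.leaf 0x83)) (.node 1 (.leaf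 0x82) (.leaf 0x86))))))) (.node 32 (.node 16 (.node 8 (.node 4 (.node 2 (.node 1 (.leaf 0x85) (.leaf 0x84)) (.node 1 (.leaf 0x87) (.leaf 0x88))) (.node 2 (.node 1 (.leaf 0x89) (.leaf 0x8a)) (.node 1 (.leaf 0x8b) (.leaf 0x8c)))) (.node 4 (.node 2 (.node 1 (.leaf 0x8d) (.leaf 0x8e)) (.node 1 (.leaf 0x8f) (.leaf 0x90))) (.node 2 (.node 1 (.leaf 0x91) (.leaf 0x92)) (.node 1 (.leaf 0x93) (.leaf 0x94))))) (.node 8 (.node 4 (.node 2 (.node 1 (.leaf 0x95) (.leaf 0x96)) (.node 1 (.leaf 0x97) (.leaf 0x98))) (.node 2 (.node 1 (.leaf 0x99) (.leaf 0x9c)) (.node 1 (.leaf 0xa0) (.leaf 0x9a)))) (.node 4 (.node 2 (.node 1 (.leaf 0xa3) (.leaf 0xa7)) (.node 1 (.leaf 0xaa) (.leaf 0x9b))) (.node 2 (.node 1 (.leaf 0xaf) (.leaf 0xae)) (.node 1 (.leaf 0x9d) (.leaf 0xb3)))))) (.node 16 (.node 8 (.node 4 (.node 2 (.node 1 (.leaf 0xb7) (.leaf 0xb9)) (.node 1 (.leaf 0x9e) (.leaf 0xbe))) (.node 2 (.node 1 (.leaf 0xbd) (.leaf 0x9f)) (.node 1 (.leaf 0xc6) (.leaf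 0xc4)))) (.node 4 (.node 2 (.node 1 (.leaf 0xc9) (.leaf 0xa2)) (.node 1 (.leaf 0xa1) (.leaf 0xce))) (.node 2 (.node 1 (.leaf 0xcb) (.leaf 0xd3)) (.node 1 (.leaf 0xa4) (.leaf 0xcd))))) (.node 8 (.node 4 (.node 2 (.node 1 (.leaf 0xd4) (.leaf 0xbc)) (.node 1 (.leaf 0xa5) (.leaf 0xd5))) (.node 2 (.node 1 (.leaf 0xa6) (.leaf 0xdb)) (.node 1 (.leaf 0xd9) (.leaf 0xb6)))) (.node 4 (.node 2 (.node 1 (.leaf 0xa9) (.leaf 0xa8)) (.node 1 (.leaf 0xe0) (.leaf 0xc1))) (.node 2 (.node 1 (.leaf 0xc0) (.leaf 0xe6)) (.node 1 (.leaf 0xe8) (.leaf 0xac)))))))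

def conjL_24 : Tree :=
  .node 64 (.node 32 (.node 16 (.node 8 (.node 4 (.node 2 (.node 1 (.leaf 0xeb) (.leaf 0xab)) (.node 1 (.leaf 0xe9) (.leaf 0xea))) (.node 2 (.node 1 (.leaf 0xad) (.leaf 0xe2)) (.node 1 (.leaf 0xb1) (.leaf 0xe4)))) (.node 4 (.node 2 (.node 1 (.leaf 0xb4) (.leaf 0xb0)) (.node 1 (.leaf 0xf2) (.leaf 0xde))) (.node 2 (.node 1 (.leaf 0xdf) (.leaf 0xf9)) (.node 1 (.leaf 0xb2) (.leaf 0xb5))))) (.node 8 (.node 4 (.node 2 (.node 1 (.leaf 0xb8) (.leaf 0xed)) (.node 1 (.leaf 0xd8) (.leaf 0xd7))) (.node 2 (.node 1 (.leaf 0xbb) (.leaf 0xfe)) (.node 1 (.leaf 0xba) (.leaf 0xfd)))) (.node 4 (.node 2 (.node 1 (.leaf 0xe3) (.leaf 0xd0)) (.node 1 (.leaf 0xd1) (.leaf 0xbf))) (.node 2 (.node 1 (.leaf 0x105) (.leaf 0xca)) (.node 1 (.leaf 0xdd) (.leaf 0xcc)))))) (.node 16 (.node 8 (.node 4 (.node 2 (.node 1 (.leaf 0xf7) (.leaf 0xc2)) (.node 1 (.leaf 0x10c) (.leaf 0xc3))) (.node 2 (.node 1 (.leaf 0xc7) (.leaf 0xc8)) (.node 1 (.leaf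 0xc5) (.leaf 0x110)))) (.node 4 (.node 2 (.node 1 (.leaf 0xd6) (.leaf 0x10e)) (.node 1 (.leaf 0xef) (.leaf 0x107))) (.node 2 (.node 1 (.leaf 0x109) (.leaf 0xcf)) (.node 1 (.leaf 0x116) (.leaf 0x103))))) (.node 8 (.node 4 (.node 2 (.node 1 (.leaf 0xf5) (.leaf 0x104)) (.node 1 (.leaf 0xe5) (.leaf 0x11f))) (.node 2 (.node 1 (.leaf 0xd2) (.leaf 0x121)) (.node 1 (.leaf 0xfc) (.leaf 0xfb)))) (.node 4 (.node 2 (.node 1 (.leaf 0xdc) (.leaf 0xda)) (.node 1 (.leaf 0x126) (.leaf 0x101))) (.node 2 (.node 1 (.leaf 0x100) (.leaf 0x102)) (.node 1 (.leaf 0xf4) (.leaf 0xf6))))))) (.node 32 (.node 16 (.node 8 (.node 4 (.node 2 (.node 1 (.leaf 0xe1) (.leaf 0x12d)) (.node 1 (.leaf 0xf0) (.leaf 0x108))) (.node 2 (.node 1 (.leaf 0xf1) (.leaf 0x11d)) (.node 1 (.leaf 0x11e) (.leaf 0xe7)))) (.node 4 (.node 2 (.node 1 (.leaf 0x136) (.leaf 0xee)) (.node 1 (.leaf 0x10f) (.leaf 0xec))) (.node 2 (.node 1 (.leaf 0x111) (.leaf 0x12f)) (.node 1 (.leaf 0x113) (.leaf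 0x132))))) (.node 8 (.node 4 (.node 2 (.node 1 (.leaf 0x133) (.leaf 0xf3)) (.node 1 (.leaf 0x117) (.leaf 0x129))) (.node 2 (.node 1 (.leaf 0x119) (.leaf 0x11a)) (.node 1 (.leaf 0x12b) (.leaf 0x12c)))) (.node 4 (.node 2 (.node 1 (.leaf 0x10a) (.leaf 0x10b)) (.node 1 (.leaf 0xf8) (.leaf 0x135))) (.node 2 (.node 1 (.leaf 0xfa) (.leaf 0x13d)) (.node 1 (.leaf 0x124) (.leaf 0x123)))))) (.node 16 (.node 8 (.node 4 (.node 2 (.node 1 (.leaf 0x125) (.leaf 0xff)) (.node 1 (.leaf 0x127) (.leaf 0x128))) (.node 2 (.node 1 (.leaf 0x118) (.leaf 0x12a)) (.node 1 (.leaf 0x11b) (.leaf 0x11c)))) (.node 4 (.node 2 (.node 1 (.leaf 0x106) (.leaf 0x12e)) (.node 1 (.leaf 0x112) (.leaf 0x130))) (.node 2 (.node 1 (.leaf 0x131) (.leaf 0x114)) (.node 1 (.leaf 0x115) (.leaf 0x13a))))) (.node 8 (.node 4 (.node 2 (.node 1 (.leaf 0x120) (.leaf 0x10d)) (.node 1 (.leaf 0x137) (.leaf 0x138))) (.node 2 (.node 1 (.leaf 0x13f) (.leaf 0x134)) (.node 1 (.leaf 0x13b) (.leaf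 0x13c)))) (.node 4 (.node 2 (.node 1 (.leaf 0x122) (.leaf 0x13e)) (.node 1 (.leaf 0x139) (.leaf 0x140))) (.node 2 (.node 1 (.leaf 0x141) (.leaf 0x142)) (.node 1 (.leaf 0x143) (.leaf 0x144)))))))

def conjL_25 : Tree :=
  .node 64 (.node 32 (.node 16 (.node 8 (.node 4 (.node 2 (.node 1 (.leaf 0x145) (.leaf 0x146)) (.node 1 (.leaf 0x147) (.leaf 0x148))) (.node 2 (.node 1 (.leaf 0x157) (.leaf 0x14a)) (.node 1 (.leaf 0x14b) (.leaf 0x14c)))) (.node 4 (.node 2 (.node 1 (.leaf 0x14d) (.leaf 0x14e)) (.node 1 (.leaf 0x14f) (.leaf 0x167))) (.node 2 (.node 1 (.leaf 0x151) (.leaf 0x152)) (.node 1 (.leaf 0x16e) (.leaf 0x154))))) (.node 8 (.node 4 (.node 2 (.node 1 (.leaf 0x171) (.leaf 0x156)) (.node 1 (.leaf 0x149) (.leaf 0x175))) (.node 2 (.node 1 (.leaf 0x159) (.leaf 0x17b)) (.node 1 (.leaf 0x15b) (.leaf 0x15c)))) (.node 4 (.node 2 (.node 1 (.leaf 0x15d) (.leaf 0x15e)) (.node 1 (.leaf 0x15f) (.leaf 0x160))) (.node 2 (.node 1 (.leaf 0x161) (.leaf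 0x183)) (.node 1 (.leaf 0x163) (.leaf 0x166)))))) (.node 16 (.node 8 (.node 4 (.node 2 (.node 1 (.leaf 0x165) (.leaf 0x164)) (.node 1 (.leaf 0x150) (.leaf 0x189))) (.node 2 (.node 1 (.leaf 0x169) (.leaf 0x18e)) (.node 1 (.leaf 0x190) (.leaf 0x16c)))) (.node 4 (.node 2 (.node 1 (.leaf 0x193) (.leaf 0x153)) (.node 1 (.leaf 0x16f) (.leaf 0x170))) (.node 2 (.node 1 (.leaf 0x155) (.leaf 0x18b)) (.node 1 (.leaf 0x173) (.leaf 0x18c))))) (.node 8 (.node 4 (.node 2 (.node 1 (.leaf 0x158) (.leaf 0x19a)) (.node 1 (.leaf 0x186) (.leaf 0x187))) (.node 2 (.node 1 (.leaf 0x179) (.leaf 0x1a1)) (.node 1 (.leaf 0x15a) (.leaf 0x17c)))) (.node 4 (.node 2 (.node 1 (.leaf 0x17d) (.leaf 0x17e)) (.node 1 (.leaf 0x17f) (.leaf 0x188))) (.node 2 (.node 1 (.leaf 0x181) (.leaf 0x1a7)) (.node 1 (.leaf 0x162) (.leaf 0x184))))))) (.node 32 (.node 16 (.node 8 (.node 4 (.node 2 (.node 1 (.leaf 0x185) (.leaf 0x177)) (.node 1 (.leaf 0x178) (.leaf 0x180))) (.node 2 (.node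 1 (.leaf 0x168) (.leaf 0x1ad)) (.node 1 (.leaf 0x172) (.leaf 0x174)))) (.node 4 (.node 2 (.node 1 (.leaf 0x1b2) (.leaf 0x16a)) (.node 1 (.leaf 0x1b4) (.leaf 0x16b))) (.node 2 (.node 1 (.leaf 0x191) (.leaf 0x192)) (.node 1 (.leaf 0x16d) (.leaf 0x1b8))))) (.node 8 (.node 4 (.node 2 (.node 1 (.leaf 0x195) (.leaf 0x196)) (.node 1 (.leaf 0x197) (.leaf 0x19b))) (.node 2 (.node 1 (.leaf 0x1b0) (.leaf 0x176)) (.node 1 (.leaf 0x198) (.leaf 0x1be)))) (.node 4 (.node 2 (.node 1 (.leaf 0x1ab) (.leaf 0x19e)) (.node 1 (.leaf 0x1ac) (.leaf 0x1c8))) (.node 2 (.node 1 (.leaf 0x17a) (.leaf 0x1ca)) (.node 1 (.leaf 0x1a3) (.leaf 0x1a6)))))) (.node 16 (.node 8 (.node 4 (.node 2 (.node 1 (.leaf 0x1a5) (.leaf 0x1a4)) (.node 1 (.leaf 0x182) (.leaf 0x1cf))) (.node 2 (.node 1 (.leaf 0x1a9) (.leaf 0x1aa)) (.node 1 (.leaf 0x19d) (.leaf 0x19f)))) (.node 4 (.node 2 (.node 1 (.leaf 0x18a) (.leaf 0x1d5)) (.node 1 (.leaf 0x1af) (.leaf 0x199))) (.node 2 (.node 1 (.leaf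 0x1db) (.leaf 0x18d)) (.node 1 (.leaf 0x1dd) (.leaf 0x18f))))) (.node 8 (.node 4 (.node 2 (.node 1 (.leaf 0x1de) (.leaf 0x1b6)) (.node 1 (.leaf 0x1b7) (.leaf 0x194))) (.node 2 (.node 1 (.leaf 0x1b9) (.leaf 0x1c0)) (.node 1 (.leaf 0x1bb) (.leaf 0x1d9)))) (.node 4 (.node 2 (.node 1 (.leaf 0x1da) (.leaf 0x19c)) (.node 1 (.leaf 0x1bf) (.leaf 0x1ba))) (.node 2 (.node 1 (.leaf 0x1c1) (.leaf 0x1d1)) (.node 1 (.leaf 0x1c3) (.leaf 0x1c4)))))))

def conjL_26 : Tree :=
  .node 64 (.node 32 (.node 16 (.node 8 (.node 4 (.node 2 (.node 1 (.leaf 0x1c5) (.leaf 0x1d3)) (.node 1 (.leaf 0x1d4) (.leaf 0x1a0))) (.node 2 (.node 1 (.leaf 0x1e5) (.leaf 0x1a2)) (.node 1 (.leaf 0x1cb) (.leaf 0x1ce)))) (.node 4 (.node 2 (.node 1 (.leaf 0x1cd) (.leaf 0x1cc)) (.node 1 (.leaf 0x1a8) (.leaf 0x1d0))) (.node 2 (.node 1 (.leaf 0x1c2) (.leaf 0x1d2)) (.node 1 (.leaf 0x1c6) (.leaf 0x1c7))))) (.node 8 (.node 4 (.node 2 (.node 1 (.leaf 0x1ae) (.leaf 0x1d6)) (.node 1 (.leaf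 0x1d7) (.leaf 0x1d8))) (.node 2 (.node 1 (.leaf 0x1bc) (.leaf 0x1bd)) (.node 1 (.leaf 0x1b1) (.leaf 0x1e9)))) (.node 4 (.node 2 (.node 1 (.leaf 0x1b3) (.leaf 0x1b5)) (.node 1 (.leaf 0x1df) (.leaf 0x1e0))) (.node 2 (.node 1 (.leaf 0x1e1) (.leaf 0x1e8)) (.node 1 (.leaf 0x1e3) (.leaf 0x1e7)))))) (.node 16 (.node 8 (.node 4 (.node 2 (.node 1 (.leaf 0x1c9) (.leaf 0x1e6)) (.node 1 (.leaf 0x1e4) (.leaf 0x1e2))) (.node 2 (.node 1 (.leaf 0x1dc) (.leaf 0x1ea)) (.node 1 (.leaf 0x1eb) (.leaf 0x1ec)))) (.node 4 (.node 2 (.node 1 (.leaf 0x1ed) (.leaf 0x1ee)) (.node 1 (.leaf 0x1f7) (.leaf 0x1f0))) (.node 2 (.node 1 (.leaf 0x1f1) (.leaf 0x1f2)) (.node 1 (.leaf 0x1fd) (.leaf 0x1f4))))) (.node 8 (.node 4 (.node 2 (.node 1 (.leaf 0x202) (.leaf 0x1f6)) (.node 1 (.leaf 0x1ef) (.leaf 0x206))) (.node 2 (.node 1 (.leaf 0x1f9) (.leaf 0x20c)) (.node 1 (.leaf 0x20e) (.leaf 0x1fc)))) (.node 4 (.node 2 (.node 1 (.leaf 0x1f3) (.leaf 0x208)) (.node 1 (.leaf 0x1ff)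 (.leaf 0x209))) (.node 2 (.node 1 (.leaf 0x213) (.leaf 0x1f5)) (.node 1 (.leaf 0x203) (.leaf 0x204))))))) (.node 32 (.node 16 (.node 8 (.node 4 (.node 2 (.node 1 (.leaf 0x205) (.leaf 0x1f8)) (.node 1 (.leaf 0x21a) (.leaf 0x1fe))) (.node 2 (.node 1 (.leaf 0x200) (.leaf 0x20a)) (.node 1 (.leaf 0x221) (.leaf 0x1fa)))) (.node 4 (.node 2 (.node 1 (.leaf 0x223) (.leaf 0x1fb)) (.node 1 (.leaf 0x20f) (.leaf 0x210))) (.node 2 (.node 1 (.leaf 0x21c) (.leaf 0x21e)) (.node 1 (.leaf 0x201) (.leaf 0x22b))))) (.node 8 (.node 4 (.node 2 (.node 1 (.leaf 0x215) (.leaf 0x216)) (.node 1 (.leaf 0x217) (.leaf 0x218))) (.node 2 (.node 1 (.leaf 0x219) (.leaf 0x207)) (.node 1 (.leaf 0x22d) (.leaf 0x211)))) (.node 4 (.node 2 (.node 1 (.leaf 0x21d) (.leaf 0x212)) (.node 1 (.leaf 0x21f) (.leaf 0x234))) (.node 2 (.node 1 (.leaf 0x20b) (.leaf 0x236)) (.node 1 (.leaf 0x20d) (.leaf 0x237)))))) (.node 16 (.node 8 (.node 4 (.node 2 (.node 1 (.leaf 0x225) (.leaf 0x226))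 (.node 1 (.leaf 0x22f) (.leaf 0x228))) (.node 2 (.node 1 (.leaf 0x232) (.leaf 0x233)) (.node 1 (.leaf 0x214) (.leaf 0x22c)))) (.node 4 (.node 2 (.node 1 (.leaf 0x21b) (.leaf 0x22e)) (.node 1 (.leaf 0x227) (.leaf 0x230))) (.node 2 (.node 1 (.leaf 0x231) (.leaf 0x229)) (.node 1 (.leaf 0x22a) (.leaf 0x220))))) (.node 8 (.node 4 (.node 2 (.node 1 (.leaf 0x23e) (.leaf 0x222)) (.node 1 (.leaf 0x224) (.leaf 0x238))) (.node 2 (.node 1 (.leaf 0x239) (.leaf 0x23d)) (.node 1 (.leaf 0x23b) (.leaf 0x23c)))) (.node 4 (.node 2 (.node 1 (.leaf 0x23a) (.leaf 0x235)) (.node 1 (.leaf 0x0) (.leaf 0x4))) (.node 2 (.node 1 (.leaf 0x8) (.leaf 0xa)) (.node 1 (.leaf 0x1) (.leaf 0xf)))))))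

def conjL_27 : Tree :=
  .node 64 (.node 32 (.node 16 (.node 8 (.node 4 (.node 2 (.node 1 (.leaf 0x6) (.leaf 0x10)) (.node 1 (.leaf 0x2) (.leaf 0x15))) (.node 2 (.node 1 (.leaf 0x3) (.leaf 0xd)) (.node 1 (.leaf 0x1a) (.leaf 0xb)))) (.node 4 (.node 2 (.node 1 (.leaf 0x1e) (.leaf 0x5)) (.node 1 (.leaf 0x7) (.leaf 0x13))) (.node 2 (.node 1 (.leaf 0x1f) (.leaf 0x11)) (.node 1 (.leaf 0x21) (.leaf 0x9))))) (.node 8 (.node 4 (.node 2 (.node 1 (.leaf 0x16) (.leaf 0x2a)) (.node 1 (.leaf 0x2c) (.leaf 0x1d))) (.node 2 (.node 1 (.leaf 0xc) (.leaf 0x25)) (.node 1 (.leaf 0x32) (.leaf 0x19)))) (.node 4 (.node 2 (.node 1 (.leaf 0xe) (.leaf 0x12)) (.node 1 (.leaf 0x20) (.leaf 0x14))) (.node 2 (.node 1 (.leaf 0x22) (.leaf 0x2d)) (.node 1 (.leaf 0x3b) (.leaf 0x1b)))))) (.node 16 (.node 8 (.node 4 (.node 2 (.node 1 (.leaf 0x3d) (.leaf 0x27)) (.node 1 (.leaf 0x28) (.leaf 0x29))) (.node 2 (.node 1 (.leaf 0x17) (.leaf 0x41)) (.node 1 (.leaf 0x18) (.leaf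 0x23)))) (.node 4 (.node 2 (.node 1 (.leaf 0x2e) (.leaf 0x43)) (.node 1 (.leaf 0x45) (.leaf 0x46))) (.node 2 (.node 1 (.leaf 0x1c) (.leaf 0x33)) (.node 1 (.leaf 0x34) (.leaf 0x35))))) (.node 8 (.node 4 (.node 2 (.node 1 (.leaf 0x36) (.leaf 0x4a)) (.node 1 (.leaf 0x38) (.leaf 0x39))) (.node 2 (.node 1 (.leaf 0x4d) (.leaf 0x24)) (.node 1 (.leaf 0x4e) (.leaf 0x26)))) (.node 4 (.node 2 (.node 1 (.leaf 0x3e) (.leaf 0x4f)) (.node 1 (.leaf 0x40) (.leaf 0x2b))) (.node 2 (.node 1 (.leaf 0x50) (.leaf 0x2f)) (.node 1 (.leaf 0x51) (.leaf 0x30))))))) (.node 32 (.node 16 (.node 8 (.node 4 (.node 2 (.node 1 (.leaf 0x31) (.leaf 0x47)) (.node 1 (.leaf 0x52) (.leaf 0x49))) (.node 2 (.node 1 (.leaf 0x37) (.leaf 0x53)) (.node 1 (.leaf 0x4c) (.leaf 0x3a)))) (.node 4 (.node 2 (.node 1 (.leaf 0x3c) (.leaf 0x3f)) (.node 1 (.leaf 0x42) (.leaf 0x44))) (.node 2 (.node 1 (.leaf 0x48) (.leaf 0x4b)) (.node 1 (.leaf 0x54) (.leaf 0x57))))) (.node 8 (.node 4 (.node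 2 (.node 1 (.leaf 0x59) (.leaf 0x55)) (.node 1 (.leaf 0x5e) (.leaf 0x56))) (.node 2 (.node 1 (.leaf 0x5c) (.leaf 0x63)) (.node 1 (.leaf 0x5a) (.leaf 0x66)))) (.node 4 (.node 2 (.node 1 (.leaf 0x58) (.leaf 0x5f)) (.node 1 (.leaf 0x6a) (.leaf 0x6c))) (.node 2 (.node 1 (.leaf 0x64) (.leaf 0x5b)) (.node 1 (.leaf 0x62) (.leaf 0x70)))))) (.node 16 (.node 8 (.node 4 (.node 2 (.node 1 (.leaf 0x5d) (.leaf 0x67)) (.node 1 (.leaf 0x68) (.leaf 0x69))) (.node 2 (.node 1 (.leaf 0x60) (.leaf 0x75)) (.node 1 (.leaf 0x61) (.leaf 0x6d)))) (.node 4 (.node 2 (.node 1 (.leaf 0x77) (.leaf 0x78)) (.node 1 (.leaf 0x65) (.leaf 0x71))) (.node 2 (.node 1 (.leaf 0x72) (.leaf 0x7b)) (.node 1 (.leaf 0x74) (.leaf 0x6b))))) (.node 8 (.node 4 (.node 2 (.node 1 (.leaf 0x7c) (.leaf 0x6e)) (.node 1 (.leaf 0x6f) (.leaf 0x79))) (.node 2 (.node 1 (.leaf 0x7d) (.leaf 0x73)) (.node 1 (.leaf 0x76) (.leaf 0x7a)))) (.node 4 (.node 2 (.node 1 (.leaf 0x7e) (.leaf 0x7f)) (.node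 1 (.leaf 0x80) (.leaf 0x81))) (.node 2 (.node 1 (.leaf 0x85) (.leaf 0x87)) (.node 1 (.leaf 0x88) (.leaf 0x82)))))))

def conjL_28 : Tree :=
  .node 64 (.node 32 (.node 16 (.node 8 (.node 4 (.node 2 (.node 1 (.leaf 0x89) (.leaf 0x83)) (.node 1 (.leaf 0x84) (.leaf 0x86))) (.node 2 (.node 1 (.leaf 0x8a) (.leaf 0x8b)) (.node 1 (.leaf 0x8e) (.leaf 0x8f)))) (.node 4 (.node 2 (.node 1 (.leaf 0x8c) (.leaf 0x8d)) (.node 1 (.leaf 0x90) (.leaf 0x91))) (.node 2 (.node 1 (.leaf 0x92) (.leaf 0x96)) (.node 1 (.leaf 0x94) (.leaf 0x97))))) (.node 8 (.node 4 (.node 2 (.node 1 (.leaf 0x93) (.leaf 0x95)) (.node 1 (.leaf 0x98) (.leaf 0x99))) (.node 2 (.node 1 (.leaf 0x9a) (.leaf 0xa1)) (.node 1 (.leaf 0x9c) (.leaf 0x9d)))) (.node 4 (.node 2 (.node 1 (.leaf 0xa8) (.leaf 0xab)) (.node 1 (.leaf 0xad) (.leaf 0x9b))) (.node 2 (.node 1 (.leaf 0xb2) (.leaf 0xa3)) (.node 1 (.leaf 0xb6) (.leaf 0xa5)))))) (.node 16 (.node 8 (.node 4 (.node 2 (.node 1 (.leaf 0xba)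 (.leaf 0xbc)) (.node 1 (.leaf 0x9e) (.leaf 0xc2))) (.node 2 (.node 1 (.leaf 0xc3) (.leaf 0x9f)) (.node 1 (.leaf 0xb0) (.leaf 0xa0)))) (.node 4 (.node 2 (.node 1 (.leaf 0xcc) (.leaf 0xcd)) (.node 1 (.leaf 0xac) (.leaf 0xd1))) (.node 2 (.node 1 (.leaf 0xa2) (.leaf 0xbe)) (.node 1 (.leaf 0xc9) (.leaf 0xd7))))) (.node 8 (.node 4 (.node 2 (.node 1 (.leaf 0xa4) (.leaf 0xb7)) (.node 1 (.leaf 0xb8) (.leaf 0xd8))) (.node 2 (.node 1 (.leaf 0xa6) (.leaf 0xbf)) (.node 1 (.leaf 0xa7) (.leaf 0xdf)))) (.node 4 (.node 2 (.node 1 (.leaf 0xb3) (.leaf 0xbb)) (.node 1 (.leaf 0xd3) (.leaf 0xe4))) (.node 2 (.node 1 (.leaf 0xa9) (.leaf 0xaa)) (.node 1 (.leaf 0xca) (.leaf 0xc5))))))) (.node 32 (.node 16 (.node 8 (.node 4 (.node 2 (.node 1 (.leaf 0xed) (.leaf 0xef)) (.node 1 (.leaf 0xd0) (.leaf 0xb4))) (.node 2 (.node 1 (.leaf 0xc4) (.leaf 0xe6)) (.node 1 (.leaf 0xae) (.leaf 0xaf)))) (.node 4 (.node 2 (.node 1 (.leaf 0xe3) (.leaf 0xf5)) (.node 1 (.leaf 0xc8)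 (.leaf 0xb1))) (.node 2 (.node 1 (.leaf 0xf6) (.leaf 0xc0)) (.node 1 (.leaf 0xdb) (.leaf 0xd5))))) (.node 8 (.node 4 (.node 2 (.node 1 (.leaf 0xe8) (.leaf 0xb5)) (.node 1 (.leaf 0xb9) (.leaf 0xde))) (.node 2 (.node 1 (.leaf 0xda) (.leaf 0xd4)) (.node 1 (.leaf 0x102) (.leaf 0xe2)))) (.node 4 (.node 2 (.node 1 (.leaf 0xd9) (.leaf 0xbd)) (.node 1 (.leaf 0xea) (.leaf 0x108))) (.node 2 (.node 1 (.leaf 0xdd) (.leaf 0xce)) (.node 1 (.leaf 0xc1) (.leaf 0xf9)))))) (.node 16 (.node 8 (.node 4 (.node 2 (.node 1 (.leaf 0xcb) (.leaf 0xe7)) (.node 1 (.leaf 0xd6) (.leaf 0x10f))) (.node 2 (.node 1 (.leaf 0xe0) (.leaf 0xeb)) (.node 1 (.leaf 0xec) (.leaf 0xc6)))) (.node 4 (.node 2 (.node 1 (.leaf 0x111) (.leaf 0xc7)) (.node 1 (.leaf 0x113) (.leaf 0xf7))) (.node 2 (.node 1 (.leaf 0x117) (.leaf 0x119)) (.node 1 (.leaf 0x11a) (.leaf 0xcf))))) (.node 8 (.node 4 (.node 2 (.node 1 (.leaf 0xd2) (.leaf 0xf1)) (.node 1 (.leaf 0x11b) (.leaf 0xe5))) (.node 2 (.node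 1 (.leaf 0x122) (.leaf 0xfb)) (.node 1 (.leaf 0xfc) (.leaf 0x125)))) (.node 4 (.node 2 (.node 1 (.leaf 0xfe) (.leaf 0xff)) (.node 1 (.leaf 0x127) (.leaf 0x128))) (.node 2 (.node 1 (.leaf 0xdc) (.leaf 0x12a)) (.node 1 (.leaf 0x109) (.leaf 0x12e)))))))

def conjL_29 : Tree :=
  .node 64 (.node 32 (.node 16 (.node 8 (.node 4 (.node 2 (.node 1 (.leaf 0x130) (.leaf 0x131)) (.node 1 (.leaf 0xe1) (.leaf 0x104))) (.node 2 (.node 1 (.leaf 0x11f) (.leaf 0x135)) (.node 1 (.leaf 0x10c) (.leaf 0x10d)))) (.node 4 (.node 2 (.node 1 (.leaf 0x137) (.leaf 0xe9)) (.node 1 (.leaf 0x110) (.leaf 0xee))) (.node 2 (.node 1 (.leaf 0x138) (.leaf 0xf0)) (.node 1 (.leaf 0x11d) (.leaf 0x13a))))) (.node 8 (.node 4 (.node 2 (.node 1 (.leaf 0x13b) (.leaf 0xf2)) (.node 1 (.leaf 0x13c) (.leaf 0xf3))) (.node 2 (.node 1 (.leaf 0xf4) (.leaf 0xf8)) (.node 1 (.leaf 0x120) (.leaf 0x114)))) (.node 4 (.node 2 (.node 1 (.leaf 0x139) (.leaf 0x10a)) (.node 1 (.leaf 0x11c) (.leaf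 0x134))) (.node 2 (.node 1 (.leaf 0xfa) (.leaf 0x123)) (.node 1 (.leaf 0x124) (.leaf 0xfd)))))) (.node 16 (.node 8 (.node 4 (.node 2 (.node 1 (.leaf 0x126) (.leaf 0x100)) (.node 1 (.leaf 0x101) (.leaf 0x13e))) (.node 2 (.node 1 (.leaf 0x103) (.leaf 0x132)) (.node 1 (.leaf 0x13f) (.leaf 0x140)))) (.node 4 (.node 2 (.node 1 (.leaf 0x105) (.leaf 0x141)) (.node 1 (.leaf 0x106) (.leaf 0x107))) (.node 2 (.node 1 (.leaf 0x12b) (.leaf 0x13d)) (.node 1 (.leaf 0x121) (.leaf 0x10b))))) (.node 8 (.node 4 (.node 2 (.node 1 (.leaf 0x136) (.leaf 0x10e)) (.node 1 (.leaf 0x112) (.leaf 0x11e))) (.node 2 (.node 1 (.leaf 0x115) (.leaf 0x116)) (.node 1 (.leaf 0x118) (.leaf 0x133)))) (.node 4 (.node 2 (.node 1 (.leaf 0x129) (.leaf 0x12c)) (.node 1 (.leaf 0x12d) (.leaf 0x12f))) (.node 2 (.node 1 (.leaf 0x145) (.leaf 0x149)) (.node 1 (.leaf 0x14b) (.leaf 0x142))))))) (.node 32 (.node 16 (.node 8 (.node 4 (.node 2 (.node 1 (.leaf 0x150) (.leaf 0x153)) (.node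 1 (.leaf 0x155) (.leaf 0x143))) (.node 2 (.node 1 (.leaf 0x15a) (.leaf 0x144)) (.node 1 (.leaf 0x157) (.leaf 0x160)))) (.node 4 (.node 2 (.node 1 (.leaf 0x162) (.leaf 0x164)) (.node 1 (.leaf 0x146) (.leaf 0x16a))) (.node 2 (.node 1 (.leaf 0x16b) (.leaf 0x147)) (.node 1 (.leaf 0x158) (.leaf 0x148))))) (.node 8 (.node 4 (.node 2 (.node 1 (.leaf 0x174) (.leaf 0x14c)) (.node 1 (.leaf 0x154) (.leaf 0x178))) (.node 2 (.node 1 (.leaf 0x14a) (.leaf 0x171)) (.node 1 (.leaf 0x167) (.leaf 0x16e)))) (.node 4 (.node 2 (.node 1 (.leaf 0x17b) (.leaf 0x17d)) (.node 1 (.leaf 0x14d) (.leaf 0x180))) (.node 2 (.node 1 (.leaf 0x14e) (.leaf 0x168)) (.node 1 (.leaf 0x14f) (.leaf 0x187)))))) (.node 16 (.node 8 (.node 4 (.node 2 (.node 1 (.leaf 0x179) (.leaf 0x15c)) (.node 1 (.leaf 0x163) (.leaf 0x18c))) (.node 2 (.node 1 (.leaf 0x151) (.leaf 0x152)) (.node 1 (.leaf 0x172) (.leaf 0x16d)))) (.node 4 (.node 2 (.node 1 (.leaf 0x15d) (.leaf 0x196)) (.node 1 (.leaf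 0x177) (.leaf 0x15b))) (.node 2 (.node 1 (.leaf 0x16c) (.leaf 0x18e)) (.node 1 (.leaf 0x156) (.leaf 0x17f))))) (.node 8 (.node 4 (.node 2 (.node 1 (.leaf 0x19e) (.leaf 0x170)) (.node 1 (.leaf 0x159) (.leaf 0x166))) (.node 2 (.node 1 (.leaf 0x17a) (.leaf 0x15e)) (.node 1 (.leaf 0x190) (.leaf 0x15f)))) (.node 4 (.node 2 (.node 1 (.leaf 0x183) (.leaf 0x175)) (.node 1 (.leaf 0x161) (.leaf 0x186))) (.node 2 (.node 1 (.leaf 0x182) (.leaf 0x17e)) (.node 1 (.leaf 0x1aa) (.leaf 0x18b)))))))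

def conjL_30 : Tree :=
  .node 64 (.node 32 (.node 16 (.node 8 (.node 4 (.node 2 (.node 1 (.leaf 0x181) (.leaf 0x165)) (.node 1 (.leaf 0x197) (.leaf 0x192))) (.node 2 (.node 1 (.leaf 0x1af) (.leaf 0x185)) (.node 1 (.leaf 0x169) (.leaf 0x18d)))) (.node 4 (.node 2 (.node 1 (.leaf 0x173) (.leaf 0x18f)) (.node 1 (.leaf 0x17c) (.leaf 0x1b7))) (.node 2 (.node 1 (.leaf 0x189) (.leaf 0x193)) (.node 1 (.leaf 0x1b8) (.leaf 0x1b9))))) (.node 8 (.node 4 (.node 2 (.node 1 (.leaf 0x16f) (.leaf 0x188)) (.node 1 (.leaf 0x1bb) (.leaf 0x199))) (.node 2 (.node 1 (.leaf 0x1bf) (.leaf 0x1c1)) (.node 1 (.leaf 0x1c3) (.leaf 0x1c4)))) (.node 4 (.node 2 (.node 1 (.leaf 0x176) (.leaf 0x19f)) (.node 1 (.leaf 0x1a0) (.leaf 0x1a1))) (.node 2 (.node 1 (.leaf 0x1c9) (.leaf 0x1cb)) (.node 1 (.leaf 0x1a4) (.leaf 0x1cd)))))) (.node 16 (.node 8 (.node 4 (.node 2 (.node 1 (.leaf 0x1a6) (.leaf 0x1a7)) (.node 1 (.leaf 0x1ce) (.leaf 0x1d0))) (.node 2 (.node 1 (.leaf 0x184)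 (.leaf 0x1d2)) (.node 1 (.leaf 0x1ac) (.leaf 0x1d6)))) (.node 4 (.node 2 (.node 1 (.leaf 0x1d7) (.leaf 0x18a)) (.node 1 (.leaf 0x1b0) (.leaf 0x1b1))) (.node 2 (.node 1 (.leaf 0x1b2) (.leaf 0x1dc)) (.node 1 (.leaf 0x1b4) (.leaf 0x1de))))) (.node 8 (.node 4 (.node 2 (.node 1 (.leaf 0x1df) (.leaf 0x191)) (.node 1 (.leaf 0x194) (.leaf 0x195))) (.node 2 (.node 1 (.leaf 0x1e0) (.leaf 0x198)) (.node 1 (.leaf 0x1bc) (.leaf 0x1e2)))) (.node 4 (.node 2 (.node 1 (.leaf 0x1c5) (.leaf 0x19a)) (.node 1 (.leaf 0x1e1) (.leaf 0x19b))) (.node 2 (.node 1 (.leaf 0x1d8) (.leaf 0x19c)) (.node 1 (.leaf 0x19d) (.leaf 0x1be))))))) (.node 32 (.node 16 (.node 8 (.node 4 (.node 2 (.node 1 (.leaf 0x1c6) (.leaf 0x1e4)) (.node 1 (.leaf 0x1c8) (.leaf 0x1a2))) (.node 2 (.node 1 (.leaf 0x1e5) (.leaf 0x1a3)) (.node 1 (.leaf 0x1cf) (.leaf 0x1a5)))) (.node 4 (.node 2 (.node 1 (.leaf 0x1a8) (.leaf 0x1cc)) (.node 1 (.leaf 0x1a9) (.leaf 0x1e3))) (.node 2 (.node 1 (.leaf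 0x1ab) (.leaf 0x1d3)) (.node 1 (.leaf 0x1e7) (.leaf 0x1e6))))) (.node 8 (.node 4 (.node 2 (.node 1 (.leaf 0x1ad) (.leaf 0x1ae)) (.node 1 (.leaf 0x1c2) (.leaf 0x1d9))) (.node 2 (.node 1 (.leaf 0x1e8) (.leaf 0x1db)) (.node 1 (.leaf 0x1b3) (.leaf 0x1e9)))) (.node 4 (.node 2 (.node 1 (.leaf 0x1b5) (.leaf 0x1b6)) (.node 1 (.leaf 0x1ba) (.leaf 0x1c0))) (.node 2 (.node 1 (.leaf 0x1bd) (.leaf 0x1d1)) (.node 1 (.leaf 0x1c7) (.leaf 0x1ca)))))) (.node 16 (.node 8 (.node 4 (.node 2 (.node 1 (.leaf 0x1d5) (.leaf 0x1d4)) (.node 1 (.leaf 0x1da) (.leaf 0x1dd))) (.node 2 (.node 1 (.leaf 0x1ea) (.leaf 0x1eb)) (.node 1 (.leaf 0x1ef) (.leaf 0x1f3)))) (.node 4 (.node 2 (.node 1 (.leaf 0x1f5) (.leaf 0x1ec)) (.node 1 (.leaf 0x1fa) (.leaf 0x1f1))) (.node 2 (.node 1 (.leaf 0x1fb) (.leaf 0x1ed)) (.node 1 (.leaf 0x200) (.leaf 0x1ee))))) (.node 8 (.node 4 (.node 2 (.node 1 (.leaf 0x1f8) (.leaf 0x205)) (.node 1 (.leaf 0x1f6) (.leaf 0x209))) (.node 2 (.node 1 (.leaf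 0x1f0) (.leaf 0x1f2)) (.node 1 (.leaf 0x1fe) (.leaf 0x20a)))) (.node 4 (.node 2 (.node 1 (.leaf 0x1fc) (.leaf 0x20c)) (.node 1 (.leaf 0x1f4) (.leaf 0x201))) (.node 2 (.node 1 (.leaf 0x215) (.leaf 0x217)) (.node 1 (.leaf 0x208) (.leaf 0x1f7)))))))

def conjL_31 : Tree :=
  .node 64 (.node 32 (.node 16 (.node 8 (.node 4 (.node 2 (.node 1 (.leaf 0x210) (.leaf 0x21d)) (.node 1 (.leaf 0x204) (.leaf 0x1f9))) (.node 2 (.node 1 (.leaf 0x1fd) (.leaf 0x20b)) (.node 1 (.leaf 0x1ff) (.leaf 0x20d)))) (.node 4 (.node 2 (.node 1 (.leaf 0x218) (.leaf 0x226)) (.node 1 (.leaf 0x206) (.leaf 0x228))) (.node 2 (.node 1 (.leaf 0x212) (.leaf 0x213)) (.node 1 (.leaf 0x214) (.leaf 0x202))))) (.node 8 (.node 4 (.node 2 (.node 1 (.leaf 0x22c) (.leaf 0x203)) (.node 1 (.leaf 0x20e) (.leaf 0x219))) (.node 2 (.node 1 (.leaf 0x22e) (.leaf 0x230)) (.node 1 (.leaf 0x231) (.leaf 0x207)))) (.node 4 (.node 2 (.node 1 (.leaf 0x21e) (.leaf 0x21f)) (.node 1 (.leaf 0x220)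 (.leaf 0x221))) (.node 2 (.node 1 (.leaf 0x235) (.leaf 0x223)) (.node 1 (.leaf 0x224) (.leaf 0x238)))))) (.node 16 (.node 8 (.node 4 (.node 2 (.node 1 (.leaf 0x20f) (.leaf 0x239)) (.node 1 (.leaf 0x211) (.leaf 0x229))) (.node 2 (.node 1 (.leaf 0x23a) (.leaf 0x22b)) (.node 1 (.leaf 0x216) (.leaf 0x23b)))) (.node 4 (.node 2 (.node 1 (.leaf 0x21a) (.leaf 0x23c)) (.node 1 (.leaf 0x21b) (.leaf 0x21c))) (.node 2 (.node 1 (.leaf 0x232) (.leaf 0x23d)) (.node 1 (.leaf 0x234) (.leaf 0x222))))) (.node 8 (.node 4 (.node 2 (.node 1 (.leaf 0x23e) (.leaf 0x237)) (.node 1 (.leaf 0x225) (.leaf 0x227))) (.node 2 (.node 1 (.leaf 0x22a) (.leaf 0x22d)) (.node 1 (.leaf 0x22f) (.leaf 0x233)))) (.node 4 (.node 2 (.node 1 (.leaf 0x236) (.leaf 0x0)) (.node 1 (.leaf 0x5) (.leaf 0x9))) (.node 2 (.node 1 (.leaf 0xb) (.leaf 0xd)) (.node 1 (.leaf 0x1) (.leaf 0x6))))))) (.node 32 (.node 16 (.node 8 (.node 4 (.node 2 (.node 1 (.leaf 0x11) (.leaf 0x13)) (.node 1 (.leaf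 0x2) (.leaf 0xf))) (.node 2 (.node 1 (.leaf 0x3) (.leaf 0x1b)) (.node 1 (.leaf 0x4) (.leaf 0x1f)))) (.node 4 (.node 2 (.node 1 (.leaf 0xa) (.leaf 0x15)) (.node 1 (.leaf 0x7) (.leaf 0x1d))) (.node 2 (.node 1 (.leaf 0x8) (.leaf 0x1a)) (.node 1 (.leaf 0x10) (.leaf 0x29))))) (.node 8 (.node 4 (.node 2 (.node 1 (.leaf 0x21) (.leaf 0x18)) (.node 1 (.leaf 0x2d) (.leaf 0x14))) (.node 2 (.node 1 (.leaf 0xc) (.leaf 0x1c)) (.node 1 (.leaf 0x12) (.leaf 0x23)))) (.node 4 (.node 2 (.node 1 (.leaf 0xe) (.leaf 0x37)) (.node 1 (.leaf 0x17) (.leaf 0x39))) (.node 2 (.node 1 (.leaf 0x1e) (.leaf 0x24)) (.node 1 (.leaf 0x2a) (.leaf 0x26)))))) (.node 16 (.node 8 (.node 4 (.node 2 (.node 1 (.leaf 0x3f) (.leaf 0x40)) (.node 1 (.leaf 0x16) (.leaf 0x25))) (.node 2 (.node 1 (.leaf 0x2b) (.leaf 0x2c)) (.node 1 (.leaf 0x19) (.leaf 0x2e)))) (.node 4 (.node 2 (.node 1 (.leaf 0x2f) (.leaf 0x30)) (.node 1 (.leaf 0x31) (.leaf 0x45))) (.node 2 (.node 1 (.leaf 0x48) (.leaf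 0x34)) (.node 1 (.leaf 0x4a) (.leaf 0x4b))))) (.node 8 (.node 4 (.node 2 (.node 1 (.leaf 0x20) (.leaf 0x4c)) (.node 1 (.leaf 0x22) (.leaf 0x3a))) (.node 2 (.node 1 (.leaf 0x3b) (.leaf 0x3c)) (.node 1 (.leaf 0x4e) (.leaf 0x4f)))) (.node 4 (.node 2 (.node 1 (.leaf 0x27) (.leaf 0x28)) (.node 1 (.leaf 0x41) (.leaf 0x42))) (.node 2 (.node 1 (.leaf 0x50) (.leaf 0x44)) (.node 1 (.leaf 0x32) (.leaf 0x51)))))))

def conjL_32 : Tree :=
  .node 64 (.node 32 (.node 16 (.node 8 (.node 4 (.node 2 (.node 1 (.leaf 0x52) (.leaf 0x33)) (.node 1 (.leaf 0x53) (.leaf 0x35))) (.node 2 (.node 1 (.leaf 0x36) (.leaf 0x38)) (.node 1 (.leaf 0x4d) (.leaf 0x3d)))) (.node 4 (.node 2 (.node 1 (.leaf 0x3e) (.leaf 0x43)) (.node 1 (.leaf 0x46) (.leaf 0x47))) (.node 2 (.node 1 (.leaf 0x49) (.leaf 0x54)) (.node 1 (.leaf 0x58) (.leaf 0x5a))))) (.node 8 (.node 4 (.node 2 (.node 1 (.leaf 0x5c) (.leaf 0x55)) (.node 1 (.leaf 0x5e) (.leaf 0x56))) (.node 2 (.node 1 (.leaf 0x64)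 (.leaf 0x57)) (.node 1 (.leaf 0x63) (.leaf 0x59)))) (.node 4 (.node 2 (.node 1 (.leaf 0x69) (.leaf 0x66)) (.node 1 (.leaf 0x61) (.leaf 0x6a))) (.node 2 (.node 1 (.leaf 0x5d) (.leaf 0x5b)) (.node 1 (.leaf 0x65) (.leaf 0x60)))))) (.node 16 (.node 8 (.node 4 (.node 2 (.node 1 (.leaf 0x73) (.leaf 0x74)) (.node 1 (.leaf 0x5f) (.leaf 0x62))) (.node 2 (.node 1 (.leaf 0x6b) (.leaf 0x6c)) (.node 1 (.leaf 0x6d) (.leaf 0x6e)))) (.node 4 (.node 2 (.node 1 (.leaf 0x6f) (.leaf 0x78)) (.node 1 (.leaf 0x7a) (.leaf 0x7b))) (.node 2 (.node 1 (.leaf 0x67) (.leaf 0x68)) (.node 1 (.leaf 0x75) (.leaf 0x76))))) (.node 8 (.node 4 (.node 2 (.node 1 (.leaf 0x7c) (.leaf 0x70)) (.node 1 (.leaf 0x7d) (.leaf 0x71))) (.node 2 (.node 1 (.leaf 0x72) (.leaf 0x77)) (.node 1 (.leaf 0x79) (.leaf 0x80)))) (.node 4 (.node 2 (.node 1 (.leaf 0x81) (.leaf 0x7e)) (.node 1 (.leaf 0x7f) (.leaf 0x82))) (.node 2 (.node 1 (.leaf 0x83) (.leaf 0x84)) (.node 1 (.leaf 0x88) (.leaf 0x86)))))))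 (.node 32 (.node 16 (.node 8 (.node 4 (.node 2 (.node 1 (.leaf 0x89) (.leaf 0x85)) (.node 1 (.leaf 0x87) (.leaf 0x8a))) (.node 2 (.node 1 (.leaf 0x8b) (.leaf 0x8c)) (.node 1 (.leaf 0x8d) (.leaf 0x8e)))) (.node 4 (.node 2 (.node 1 (.leaf 0x8f) (.leaf 0x93)) (.node 1 (.leaf 0x95) (.leaf 0x96))) (.node 2 (.node 1 (.leaf 0x90) (.leaf 0x97)) (.node 1 (.leaf 0x91) (.leaf 0x92))))) (.node 8 (.node 4 (.node 2 (.node 1 (.leaf 0x94) (.leaf 0x98)) (.node 1 (.leaf 0x99) (.leaf 0x9d))) (.node 2 (.node 1 (.leaf 0xa2) (.leaf 0xa3)) (.node 1 (.leaf 0x9a) (.leaf 0xa9)))) (.node 4 (.node 2 (.node 1 (.leaf 0xac) (.leaf 0xae)) (.node 1 (.leaf 0xb0) (.leaf 0x9b))) (.node 2 (.node 1 (.leaf 0x9c) (.leaf 0xb1)) (.node 1 (.leaf 0xb8) (.leaf 0xbb)))))) (.node 16 (.node 8 (.node 4 (.node 2 (.node 1 (.leaf 0xbd) (.leaf 0xbf)) (.node 1 (.leaf 0x9e) (.leaf 0xc4))) (.node 2 (.node 1 (.leaf 0xb2) (.leaf 0x9f)) (.node 1 (.leaf 0xca) (.leaf 0xa0)))) (.node 4 (.node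 2 (.node 1 (.leaf 0xce) (.leaf 0xa1)) (.node 1 (.leaf 0xa4) (.leaf 0xab))) (.node 2 (.node 1 (.leaf 0xcb) (.leaf 0xc1)) (.node 1 (.leaf 0xc8) (.leaf 0xd0))))) (.node 8 (.node 4 (.node 2 (.node 1 (.leaf 0xd5) (.leaf 0xa5)) (.node 1 (.leaf 0xd9) (.leaf 0xc2))) (.node 2 (.node 1 (.leaf 0xa6) (.leaf 0xde)) (.node 1 (.leaf 0xa7) (.leaf 0xe0)))) (.node 4 (.node 2 (.node 1 (.leaf 0xa8) (.leaf 0xcd)) (.node 1 (.leaf 0xb4) (.leaf 0xba))) (.node 2 (.node 1 (.leaf 0xcc) (.leaf 0xaa)) (.node 1 (.leaf 0xec) (.leaf 0xd3)))))))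

def conjL_33 : Tree :=
  .node 64 (.node 32 (.node 16 (.node 8 (.node 4 (.node 2 (.node 1 (.leaf 0xc7) (.leaf 0xb5)) (.node 1 (.leaf 0xe2) (.leaf 0xad))) (.node 2 (.node 1 (.leaf 0xb3) (.leaf 0xc3)) (.node 1 (.leaf 0xc0) (.leaf 0xaf)))) (.node 4 (.node 2 (.node 1 (.leaf 0xcf) (.leaf 0xb6)) (.node 1 (.leaf 0xd7) (.leaf 0xfa))) (.node 2 (.node 1 (.leaf 0xc6) (.leaf 0xea)) (.node 1 (.leaf 0xb7) (.leaf 0xdd))))) (.node 8 (.node 4 (.node 2 (.node 1 (.leaf 0xd1) (.leaf 0xdf)) (.node 1 (.leaf 0xb9) (.leaf 0xff))) (.node 2 (.node 1 (.leaf 0xe6) (.leaf 0xdc)) (.node 1 (.leaf 0xd6) (.leaf 0xbc)))) (.node 4 (.node 2 (.node 1 (.leaf 0xd8) (.leaf 0xbe)) (.node 1 (.leaf 0xe1) (.leaf 0xc9))) (.node 2 (.node 1 (.leaf 0xed) (.leaf 0xe8)) (.node 1 (.leaf 0x10b) (.leaf 0xdb)))))) (.node 16 (.node 8 (.node 4 (.node 2 (.node 1 (.leaf 0x10d) (.leaf 0xe4)) (.node 1 (.leaf 0xe9) (.leaf 0xd4))) (.node 2 (.node 1 (.leaf 0x110) (.leaf 0xc5)) (.node 1 (.leaf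 0xe3) (.leaf 0xee)))) (.node 4 (.node 2 (.node 1 (.leaf 0x111) (.leaf 0xf0)) (.node 1 (.leaf 0x115) (.leaf 0xf2))) (.node 2 (.node 1 (.leaf 0xf3) (.leaf 0xf4)) (.node 1 (.leaf 0x119) (.leaf 0x11c))))) (.node 8 (.node 4 (.node 2 (.node 1 (.leaf 0x11e) (.leaf 0x120)) (.node 1 (.leaf 0x121) (.leaf 0xd2))) (.node 2 (.node 1 (.leaf 0x123) (.leaf 0x124)) (.node 1 (.leaf 0xfd) (.leaf 0x126)))) (.node 4 (.node 2 (.node 1 (.leaf 0xda) (.leaf 0x100)) (.node 1 (.leaf 0x101) (.leaf 0x127))) (.node 2 (.node 1 (.leaf 0x103) (.leaf 0x12c)) (.node 1 (.leaf 0x105) (.leaf 0x106))))))) (.node 32 (.node 16 (.node 8 (.node 4 (.node 2 (.node 1 (.leaf 0x107) (.leaf 0x130)) (.node 1 (.leaf 0x133) (.leaf 0x134))) (.node 2 (.node 1 (.leaf 0xe5) (.leaf 0x136)) (.node 1 (.leaf 0xe7) (.leaf 0x10e)))) (.node 4 (.node 2 (.node 1 (.leaf 0x137) (.leaf 0xeb)) (.node 1 (.leaf 0xef) (.leaf 0x112))) (.node 2 (.node 1 (.leaf 0x138) (.leaf 0x139)) (.node 1 (.leaf 0xf1)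 (.leaf 0x116))))) (.node 8 (.node 4 (.node 2 (.node 1 (.leaf 0x13b) (.leaf 0x118)) (.node 1 (.leaf 0xf5) (.leaf 0x13c))) (.node 2 (.node 1 (.leaf 0x122) (.leaf 0xf6)) (.node 1 (.leaf 0x13a) (.leaf 0xf7)))) (.node 4 (.node 2 (.node 1 (.leaf 0x135) (.leaf 0xf8)) (.node 1 (.leaf 0xf9) (.leaf 0x11b))) (.node 2 (.node 1 (.leaf 0xfb) (.leaf 0xfc)) (.node 1 (.leaf 0x128) (.leaf 0xfe)))))) (.node 16 (.node 8 (.node 4 (.node 2 (.node 1 (.leaf 0x102) (.leaf 0x125)) (.node 1 (.leaf 0x129) (.leaf 0x13e))) (.node 2 (.node 1 (.leaf 0x13d) (.leaf 0x104)) (.node 1 (.leaf 0x12d) (.leaf 0x140)))) (.node 4 (.node 2 (.node 1 (.leaf 0x12f) (.leaf 0x108)) (.node 1 (.leaf 0x141) (.leaf 0x13f))) (.node 2 (.node 1 (.leaf 0x109) (.leaf 0x10a)) (.node 1 (.leaf 0x11f) (.leaf 0x10c))))) (.node 8 (.node 4 (.node 2 (.node 1 (.leaf 0x10f) (.leaf 0x113)) (.node 1 (.leaf 0x114) (.leaf 0x11d))) (.node 2 (.node 1 (.leaf 0x117) (.leaf 0x11a)) (.node 1 (.leaf 0x12b) (.leaf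 0x12a)))) (.node 4 (.node 2 (.node 1 (.leaf 0x132) (.leaf 0x12e)) (.node 1 (.leaf 0x131) (.leaf 0x142))) (.node 2 (.node 1 (.leaf 0x14a) (.leaf 0x144)) (.node 1 (.leaf 0x145) (.leaf 0x151)))))))

def conjL_34 : Tree :=
  .node 64 (.node 32 (.node 16 (.node 8 (.node 4 (.node 2 (.node 1 (.leaf 0x154) (.leaf 0x156)) (.node 1 (.leaf 0x158) (.leaf 0x143))) (.node 2 (.node 1 (.leaf 0x14b) (.leaf 0x15e)) (.node 1 (.leaf 0x14d) (.leaf 0x163)))) (.node 4 (.node 2 (.node 1 (.leaf 0x165) (.leaf 0x168)) (.node 1 (.leaf 0x146) (.leaf 0x16c))) (.node 2 (.node 1 (.leaf 0x15a) (.leaf 0x147)) (.node 1 (.leaf 0x172) (.leaf 0x148))))) (.node 8 (.node 4 (.node 2 (.node 1 (.leaf 0x175) (.leaf 0x149)) (.node 1 (.leaf 0x179) (.leaf 0x153))) (.node 2 (.node 1 (.leaf 0x169) (.leaf 0x173)) (.node 1 (.leaf 0x17f) (.leaf 0x14c)))) (.node 4 (.node 2 (.node 1 (.leaf 0x15f) (.leaf 0x160)) (.node 1 (.leaf 0x181) (.leaf 0x16a))) (.node 2 (.node 1 (.leaf 0x14e) (.leaf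 0x186)) (.node 1 (.leaf 0x14f) (.leaf 0x177)))))) (.node 16 (.node 8 (.node 4 (.node 2 (.node 1 (.leaf 0x189) (.leaf 0x150)) (.node 1 (.leaf 0x15b) (.leaf 0x162))) (.node 2 (.node 1 (.leaf 0x174) (.leaf 0x152)) (.node 1 (.leaf 0x194) (.leaf 0x17b)))) (.node 4 (.node 2 (.node 1 (.leaf 0x16f) (.leaf 0x197)) (.node 1 (.leaf 0x18b) (.leaf 0x155))) (.node 2 (.node 1 (.leaf 0x15c) (.leaf 0x16b)) (.node 1 (.leaf 0x157) (.leaf 0x19a))))) (.node 8 (.node 4 (.node 2 (.node 1 (.leaf 0x166) (.leaf 0x188)) (.node 1 (.leaf 0x159) (.leaf 0x1a2))) (.node 2 (.node 1 (.leaf 0x16e) (.leaf 0x185)) (.node 1 (.leaf 0x17d) (.leaf 0x192)))) (.node 4 (.node 2 (.node 1 (.leaf 0x15d) (.leaf 0x187)) (.node 1 (.leaf 0x161) (.leaf 0x1a8))) (.node 2 (.node 1 (.leaf 0x18e) (.leaf 0x184)) (.node 1 (.leaf 0x17c) (.leaf 0x164))))))) (.node 32 (.node 16 (.node 8 (.node 4 (.node 2 (.node 1 (.leaf 0x180) (.leaf 0x178)) (.node 1 (.leaf 0x167) (.leaf 0x19d))) (.node 2 (.node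 1 (.leaf 0x171) (.leaf 0x190)) (.node 1 (.leaf 0x1b3) (.leaf 0x183)))) (.node 4 (.node 2 (.node 1 (.leaf 0x1b5) (.leaf 0x18c)) (.node 1 (.leaf 0x191) (.leaf 0x17e))) (.node 2 (.node 1 (.leaf 0x1b8) (.leaf 0x16d)) (.node 1 (.leaf 0x195) (.leaf 0x196))))) (.node 8 (.node 4 (.node 2 (.node 1 (.leaf 0x170) (.leaf 0x19b)) (.node 1 (.leaf 0x1bd) (.leaf 0x176))) (.node 2 (.node 1 (.leaf 0x198) (.leaf 0x1be)) (.node 1 (.leaf 0x18a) (.leaf 0x1c5)))) (.node 4 (.node 2 (.node 1 (.leaf 0x1c7) (.leaf 0x1c9)) (.node 1 (.leaf 0x1ca) (.leaf 0x17a))) (.node 2 (.node 1 (.leaf 0x1a3) (.leaf 0x1cc)) (.node 1 (.leaf 0x1a5) (.leaf 0x1ce)))))) (.node 16 (.node 8 (.node 4 (.node 2 (.node 1 (.leaf 0x1cf) (.leaf 0x182)) (.node 1 (.leaf 0x1a9) (.leaf 0x1aa))) (.node 2 (.node 1 (.leaf 0x1ad) (.leaf 0x1d4)) (.node 1 (.leaf 0x1ab) (.leaf 0x1c2)))) (.node 4 (.node 2 (.node 1 (.leaf 0x1d8) (.leaf 0x1da)) (.node 1 (.leaf 0x1dc) (.leaf 0x1dd))) (.node 2 (.node 1 (.leaf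 0x18d) (.leaf 0x1de)) (.node 1 (.leaf 0x18f) (.leaf 0x1b6))))) (.node 8 (.node 4 (.node 2 (.node 1 (.leaf 0x1b7) (.leaf 0x193)) (.node 1 (.leaf 0x1b9) (.leaf 0x1c0))) (.node 2 (.node 1 (.leaf 0x1e1) (.leaf 0x1e2)) (.node 1 (.leaf 0x199) (.leaf 0x19c)))) (.node 4 (.node 2 (.node 1 (.leaf 0x1c3) (.leaf 0x1ba)) (.node 1 (.leaf 0x1e0) (.leaf 0x1ae))) (.node 2 (.node 1 (.leaf 0x1bf) (.leaf 0x1d7)) (.node 1 (.leaf 0x19e) (.leaf 0x1e4)))))))

def conjL_35 : Tree :=
  .node 60 (.node 30 (.node 15 (.node 7 (.node 3 (.node 1 (.leaf 0x19f) (.node 1 (.leaf 0x1e5) (.leaf 0x1a0))) (.node 2 (.node 1 (.leaf 0x1a1) (.leaf 0x1cb)) (.node 1 (.leaf 0x1a4) (.leaf 0x1cd)))) (.node 4 (.node 2 (.node 1 (.leaf 0x1a6) (.leaf 0x1a7)) (.node 1 (.leaf 0x1d0) (.leaf 0x1d5))) (.node 2 (.node 1 (.leaf 0x1e6) (.leaf 0x1e7)) (.node 1 (.leaf 0x1ac) (.leaf 0x1d1))))) (.node 7 (.node 3 (.node 1 (.leaf 0x1e3) (.node 1 (.leaf 0x1c4) (.leaf 0x1af))) (.node 2 (.node 1 (.leaf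 0x1e8) (.leaf 0x1b0)) (.node 1 (.leaf 0x1e9) (.leaf 0x1b1)))) (.node 4 (.node 2 (.node 1 (.leaf 0x1b2) (.leaf 0x1b4)) (.node 1 (.leaf 0x1df) (.leaf 0x1c1))) (.node 2 (.node 1 (.leaf 0x1bb) (.leaf 0x1bc)) (.node 1 (.leaf 0x1d6) (.leaf 0x1c6)))))) (.node 15 (.node 7 (.node 3 (.node 1 (.leaf 0x1c8) (.node 1 (.leaf 0x1d2) (.leaf 0x1d3))) (.node 2 (.node 1 (.leaf 0x1d9) (.leaf 0x1db)) (.node 1 (.leaf 0x1ea) (.leaf 0x1eb)))) (.node 4 (.node 2 (.node 1 (.leaf 0x1f0) (.leaf 0x1f4)) (.node 1 (.leaf 0x1f6) (.leaf 0x1f8))) (.node 2 (.node 1 (.leaf 0x1ec) (.leaf 0x1f1)) (.node 1 (.leaf 0x1fc) (.leaf 0x1fe))))) (.node 7 (.node 3 (.node 1 (.leaf 0x1ed) (.node 1 (.leaf 0x1fa) (.leaf 0x1ee))) (.node 2 (.node 1 (.leaf 0x206) (.leaf 0x1ef)) (.node 1 (.leaf 0x20a) (.leaf 0x1f5)))) (.node 4 (.node 2 (.node 1 (.leaf 0x200) (.leaf 0x1f2)) (.node 1 (.leaf 0x208) (.leaf 0x1f3))) (.node 2 (.node 1 (.leaf 0x205) (.leaf 0x1fb)) (.node 1 (.leaf 0x214) (.leaf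 0x20c))))))) (.node 30 (.node 15 (.node 7 (.node 3 (.node 1 (.leaf 0x203) (.node 1 (.leaf 0x218) (.leaf 0x1ff))) (.node 2 (.node 1 (.leaf 0x1f7) (.leaf 0x207)) (.node 1 (.leaf 0x1fd) (.leaf 0x20e)))) (.node 4 (.node 2 (.node 1 (.leaf 0x1f9) (.leaf 0x222)) (.node 1 (.leaf 0x202) (.leaf 0x224))) (.node 2 (.node 1 (.leaf 0x209) (.leaf 0x20f)) (.node 1 (.leaf 0x215) (.leaf 0x211))))) (.node 7 (.node 3 (.node 1 (.leaf 0x22a) (.node 1 (.leaf 0x22b) (.leaf 0x201))) (.node 2 (.node 1 (.leaf 0x210) (.leaf 0x216)) (.node 1 (.leaf 0x217) (.leaf 0x204)))) (.node 4 (.node 2 (.node 1 (.leaf 0x219) (.leaf 0x21a)) (.node 1 (.leaf 0x21b) (.leaf 0x21c))) (.node 2 (.node 1 (.leaf 0x230) (.leaf 0x233)) (.node 1 (.leaf 0x21f) (.leaf 0x235)))))) (.node 15 (.node 7 (.node 3 (.node 1 (.leaf 0x236) (.node 1 (.leaf 0x20b) (.leaf 0x237))) (.node 2 (.node 1 (.leaf 0x20d) (.leaf 0x225)) (.node 1 (.leaf 0x226) (.leaf 0x227)))) (.node 4 (.node 2 (.node 1 (.leaf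 0x239) (.leaf 0x23a)) (.node 1 (.leaf 0x212) (.leaf 0x213))) (.node 2 (.node 1 (.leaf 0x22c) (.leaf 0x22d)) (.node 1 (.leaf 0x23b) (.leaf 0x22f))))) (.node 7 (.node 3 (.node 1 (.leaf 0x21d) (.node 1 (.leaf 0x23c) (.leaf 0x23d))) (.node 2 (.node 1 (.leaf 0x21e) (.leaf 0x23e)) (.node 1 (.leaf 0x220) (.leaf 0x221)))) (.node 4 (.node 2 (.node 1 (.leaf 0x223) (.leaf 0x238)) (.node 1 (.leaf 0x228) (.leaf 0x229))) (.node 2 (.node 1 (.leaf 0x22e) (.leaf 0x231)) (.node 1 (.leaf 0x232) (.leaf 0x234)))))))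

def conjL : Tree :=
  .node 2304 (.node 1152 (.node 512 (.node 256 (.node 128 (conjL_0) (conjL_1)) (.node 128 (conjL_2) (conjL_3))) (.node 256 (.node 128 (conjL_4) (conjL_5)) (.node 128 (conjL_6) (.node 128 (conjL_7) (conjL_8))))) (.node 512 (.node 256 (.node 128 (conjL_9) (conjL_10)) (.node 128 (conjL_11) (conjL_12))) (.node 256 (.node 128 (conjL_13) (conjL_14)) (.node 128 (conjL_15) (.node 128 (conjL_16) (conjL_17)))))) (.node 1152 (.node 512 (.node 256 (.node 128 (conjL_18) (conjL_19)) (.node 128 (conjL_20) (conjL_21))) (.node 256 (.node 128 (conjL_22) (conjL_23)) (.node 128 (conjL_24) (.node 128 (conjL_25) (conjL_26))))) (.node 512 (.node 256 (.node 128 (conjL_27) (conjL_28)) (.node 128 (conjL_29) (conjL_30))) (.node 256 (.node 128 (conjL_31) (conjL_32)) (.node 128 (conjL_33) (.node 128 (conjL_34) (conjL_35))))))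

def conjD_0 : Tree :=
  .node 64 (.node 32 (.node 16 (.node 8 (.node 4 (.node 2 (.node 1 (.leaf 0x0) (.leaf 0x5)) (.node 1 (.leaf 0x7) (.leaf 0x3))) (.node 2 (.node 1 (.leaf 0x4) (.leaf 0x1)) (.node 1 (.leaf 0x120) (.leaf 0x2)))) (.node 4 (.node 2 (.node 1 (.leaf 0x121) (.leaf 0x123)) (.node 1 (.leaf 0x124) (.leaf 0x41))) (.node 2 (.node 1 (.leaf 0x30) (.leaf 0x117)) (.node 1 (.leaf 0xf2) (.leaf 0xf))))) (.node 8 (.node 4 (.node 2 (.node 1 (.leaf 0x10) (.leaf 0x11)) (.node 1 (.leaf 0x12) (.leaf 0x43))) (.node 2 (.node 1 (.leaf 0x12d) (.leaf 0x40)) (.node 1 (.leaf 0x132) (.leaf 0x1f)))) (.node 4 (.node 2 (.node 1 (.leaf 0x18) (.leaf 0x19)) (.node 1 (.leaf 0x1a) (.leaf 0x6a))) (.node 2 (.node 1 (.leaf 0x1c) (.leaf 0x50)) (.node 1 (.leaf 0x28) (.leaf 0x17)))))) (.node 16 (.node 8 (.node 4 (.node 2 (.node 1 (.leaf 0x42) (.leaf 0x62)) (.node 1 (.leaf 0x39) (.leaf 0xac))) (.node 2 (.node 1 (.leaf 0x64) (.leaf 0x45)) (.node 1 (.leaf 0xc6)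 (.leaf 0x6e)))) (.node 4 (.node 2 (.node 1 (.leaf 0x1e) (.leaf 0x67)) (.node 1 (.leaf 0x95) (.leaf 0x3c))) (.node 2 (.node 1 (.leaf 0x4a) (.leaf 0x4d)) (.node 1 (.leaf 0x52) (.leaf 0x66))))) (.node 8 (.node 4 (.node 2 (.node 1 (.leaf 0xc) (.leaf 0x84)) (.node 1 (.leaf 0x89) (.leaf 0xc4))) (.node 2 (.node 1 (.leaf 0xb9) (.leaf 0x87)) (.node 1 (.leaf 0xc7) (.leaf 0x99)))) (.node 4 (.node 2 (.node 1 (.leaf 0xb0) (.leaf 0x22)) (.node 1 (.leaf 0x5a) (.leaf 0xb1))) (.node 2 (.node 1 (.leaf 0x2b) (.leaf 0x129)) (.node 1 (.leaf 0x74) (.leaf 0x7f))))))) (.node 32 (.node 16 (.node 8 (.node 4 (.node 2 (.node 1 (.leaf 0x15) (.leaf 0xb)) (.node 1 (.leaf 0x20) (.leaf 0x13))) (.node 2 (.node 1 (.leaf 0x9b) (.leaf 0x25)) (.node 1 (.leaf 0x97) (.leaf 0x6f)))) (.node 4 (.node 2 (.node 1 (.leaf 0xbc) (.leaf 0xfb)) (.node 1 (.leaf 0x2c) (.leaf 0x116))) (.node 2 (.node 1 (.leaf 0x9a) (.leaf 0x2d)) (.node 1 (.leaf 0x65) (.leaf 0xbb))))) (.node 8 (.node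 4 (.node 2 (.node 1 (.leaf 0x1d) (.leaf 0x7a)) (.node 1 (.leaf 0x2e) (.leaf 0x85))) (.node 2 (.node 1 (.leaf 0x12f) (.leaf 0xc3)) (.node 1 (.leaf 0x6c) (.leaf 0xa5)))) (.node 4 (.node 2 (.node 1 (.leaf 0x110) (.leaf 0xec)) (.node 1 (.leaf 0x3a) (.leaf 0xf1))) (.node 2 (.node 1 (.leaf 0x8c) (.leaf 0x79)) (.node 1 (.leaf 0x82) (.leaf 0x5f)))))) (.node 16 (.node 8 (.node 4 (.node 2 (.node 1 (.leaf 0xa8) (.leaf 0x81)) (.node 1 (.leaf 0x21) (.leaf 0xbe))) (.node 2 (.node 1 (.leaf 0x24) (.leaf 0x4e)) (.node 1 (.leaf 0x2f) (.leaf 0x29)))) (.node 4 (.node 2 (.node 1 (.leaf 0xef) (.leaf 0xc5)) (.node 1 (.leaf 0x1b) (.leaf 0xe6))) (.node 2 (.node 1 (.leaf 0x56) (.leaf 0xd7)) (.node 1 (.leaf 0x27) (.leaf 0x47))))) (.node 8 (.node 4 (.node 2 (.node 1 (.leaf 0x9c) (.leaf 0xe8)) (.node 1 (.leaf 0xdb) (.leaf 0x11f))) (.node 2 (.node 1 (.leaf 0x3e) (.leaf 0x75)) (.node 1 (.leaf 0x11b) (.leaf 0xa3)))) (.node 4 (.node 2 (.node 1 (.leaf 0xd6) (.leaf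 0x5d)) (.node 1 (.leaf 0x51) (.leaf 0x93))) (.node 2 (.node 1 (.leaf 0x11c) (.leaf 0xf8)) (.node 1 (.leaf 0xd9) (.leaf 0x3f)))))))

def conjD_1 : Tree :=
  .node 64 (.node 32 (.node 16 (.node 8 (.node 4 (.node 2 (.node 1 (.leaf 0xd0) (.leaf 0x61)) (.node 1 (.leaf 0x5e) (.leaf 0x96))) (.node 2 (.node 1 (.leaf 0x31) (.leaf 0x53)) (.node 1 (.leaf 0x12c) (.leaf 0x35)))) (.node 4 (.node 2 (.node 1 (.leaf 0x8a) (.leaf 0x32)) (.node 1 (.leaf 0x88) (.leaf 0x137))) (.node 2 (.node 1 (.leaf 0x5c) (.leaf 0xc2)) (.node 1 (.leaf 0xdc) (.leaf 0xf4))))) (.node 8 (.node 4 (.node 2 (.node 1 (.leaf 0xb5) (.leaf 0x91)) (.node 1 (.leaf 0xe3) (.leaf 0x7b))) (.node 2 (.node 1 (.leaf 0xbf) (.leaf 0x2a)) (.node 1 (.leaf 0x83) (.leaf 0x46)))) (.node 4 (.node 2 (.node 1 (.leaf 0xf5) (.leaf 0x37)) (.node 1 (.leaf 0x4c) (.leaf 0x44))) (.node 2 (.node 1 (.leaf 0x70) (.leaf 0x114)) (.node 1 (.leaf 0x11d) (.leaf 0x128)))))) (.node 16 (.node 8 (.node 4 (.node 2 (.node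 1 (.leaf 0xf3) (.leaf 0x101)) (.node 1 (.leaf 0xa2) (.leaf 0x77))) (.node 2 (.node 1 (.leaf 0x102) (.leaf 0x57)) (.node 1 (.leaf 0xba) (.leaf 0xa7)))) (.node 4 (.node 2 (.node 1 (.leaf 0x60) (.leaf 0xe9)) (.node 1 (.leaf 0xb7) (.leaf 0xb3))) (.node 2 (.node 1 (.leaf 0x23) (.leaf 0x136)) (.node 1 (.leaf 0xe5) (.leaf 0xd5))))) (.node 8 (.node 4 (.node 2 (.node 1 (.leaf 0x38) (.leaf 0x3b)) (.node 1 (.leaf 0x10f) (.leaf 0xab))) (.node 2 (.node 1 (.leaf 0xdd) (.leaf 0x90)) (.node 1 (.leaf 0xd2) (.leaf 0xaa)))) (.node 4 (.node 2 (.node 1 (.leaf 0x134) (.leaf 0x34)) (.node 1 (.leaf 0xa6) (.leaf 0x4f))) (.node 2 (.node 1 (.leaf 0x48) (.leaf 0xea)) (.node 1 (.leaf 0x63) (.leaf 0x94))))))) (.node 32 (.node 16 (.node 8 (.node 4 (.node 2 (.node 1 (.leaf 0xcc) (.leaf 0x12b)) (.node 1 (.leaf 0x8d) (.leaf 0x55))) (.node 2 (.node 1 (.leaf 0x33) (.leaf 0x69)) (.node 1 (.leaf 0x26) (.leaf 0x36)))) (.node 4 (.node 2 (.node 1 (.leaf 0x12e) (.leaf 0x135))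 (.node 1 (.leaf 0xee) (.leaf 0x112))) (.node 2 (.node 1 (.leaf 0xc0) (.leaf 0xe0)) (.node 1 (.leaf 0xfa) (.leaf 0xe7))))) (.node 8 (.node 4 (.node 2 (.node 1 (.leaf 0x80) (.leaf 0xd1)) (.node 1 (.leaf 0xb6) (.leaf 0xd3))) (.node 2 (.node 1 (.leaf 0xd4) (.leaf 0xaf)) (.node 1 (.leaf 0x78) (.leaf 0x6d)))) (.node 4 (.node 2 (.node 1 (.leaf 0x109) (.leaf 0x7e)) (.node 1 (.leaf 0x11e) (.leaf 0x72))) (.node 2 (.node 1 (.leaf 0x8e) (.leaf 0xb4)) (.node 1 (.leaf 0x126) (.leaf 0xf9)))))) (.node 16 (.node 8 (.node 4 (.node 2 (.node 1 (.leaf 0xcd) (.leaf 0x113)) (.node 1 (.leaf 0x103) (.leaf 0x92))) (.node 2 (.node 1 (.leaf 0xed) (.leaf 0xae)) (.node 1 (.leaf 0x6b) (.leaf 0xcf)))) (.node 4 (.node 2 (.node 1 (.leaf 0x71) (.leaf 0xa9)) (.node 1 (.leaf 0xbd) (.leaf 0x105))) (.node 2 (.node 1 (.leaf 0x59) (.leaf 0xe4)) (.node 1 (.leaf 0xca) (.leaf 0x68))))) (.node 8 (.node 4 (.node 2 (.node 1 (.leaf 0x107) (.leaf 0x5b)) (.node 1 (.leaf 0xe) (.leaf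 0xa0))) (.node 2 (.node 1 (.leaf 0x8f) (.leaf 0x98)) (.node 1 (.leaf 0xfd) (.leaf 0x12a)))) (.node 4 (.node 2 (.node 1 (.leaf 0x7d) (.leaf 0xdf)) (.node 1 (.leaf 0xce) (.leaf 0x49))) (.node 2 (.node 1 (.leaf 0x10b) (.leaf 0xf6)) (.node 1 (.leaf 0x11a) (.leaf 0x10e)))))))

def conjD_2 : Tree :=
  .node 64 (.node 32 (.node 16 (.node 8 (.node 4 (.node 2 (.node 1 (.leaf 0x115) (.leaf 0xa1)) (.node 1 (.leaf 0xa4) (.leaf 0xe2))) (.node 2 (.node 1 (.leaf 0x111) (.leaf 0xeb)) (.node 1 (.leaf 0x10c) (.leaf 0xf0)))) (.node 4 (.node 2 (.node 1 (.leaf 0x10a) (.leaf 0xd8)) (.node 1 (.leaf 0x108) (.leaf 0xfc))) (.node 2 (.node 1 (.leaf 0x106) (.leaf 0x119)) (.node 1 (.leaf 0xff) (.leaf 0xb2))))) (.node 8 (.node 4 (.node 2 (.node 1 (.leaf 0x58) (.leaf 0x104)) (.node 1 (.leaf 0xcb) (.leaf 0xe1))) (.node 2 (.node 1 (.leaf 0x9d) (.leaf 0x100)) (.node 1 (.leaf 0x4b) (.leaf 0xd)))) (.node 4 (.node 2 (.node 1 (.leaf 0x127) (.leaf 0x10d)) (.node 1 (.leaf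 0xfe) (.leaf 0x76))) (.node 2 (.node 1 (.leaf 0x7c) (.leaf 0x9e)) (.node 1 (.leaf 0xda) (.leaf 0x73)))))) (.node 16 (.node 8 (.node 4 (.node 2 (.node 1 (.leaf 0x6) (.leaf 0x8)) (.node 1 (.leaf 0x122) (.leaf 0x9))) (.node 2 (.node 1 (.leaf 0xa) (.leaf 0x125)) (.node 1 (.leaf 0xde) (.leaf 0x118)))) (.node 4 (.node 2 (.node 1 (.leaf 0x9f) (.leaf 0x3d)) (.node 1 (.leaf 0xf7) (.leaf 0xc1))) (.node 2 (.node 1 (.leaf 0x86) (.leaf 0x14)) (.node 1 (.leaf 0xc8) (.leaf 0x54))))) (.node 8 (.node 4 (.node 2 (.node 1 (.leaf 0x130) (.leaf 0x131)) (.node 1 (.leaf 0x16) (.leaf 0x133))) (.node 2 (.node 1 (.leaf 0xb8) (.leaf 0xc9)) (.node 1 (.leaf 0xad) (.leaf 0x8b)))) (.node 4 (.node 2 (.node 1 (.leaf 0x138) (.leaf 0x139)) (.node 1 (.leaf 0x13a) (.leaf 0xf))) (.node 2 (.node 1 (.leaf 0x2f) (.leaf 0x2e)) (.node 1 (.leaf 0x125) (.leaf 0x122))))))) (.node 32 (.node 16 (.node 8 (.node 4 (.node 2 (.node 1 (.leaf 0x66) (.leaf 0xcf)) (.node 1 (.leaf 0x52)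 (.leaf 0xda))) (.node 2 (.node 1 (.leaf 0xaf) (.leaf 0xae)) (.node 1 (.leaf 0x25) (.leaf 0x17)))) (.node 4 (.node 2 (.node 1 (.leaf 0xe9) (.leaf 0x115)) (.node 1 (.leaf 0x0) (.leaf 0x10))) (.node 2 (.node 1 (.leaf 0x138) (.leaf 0x131)) (.node 1 (.leaf 0x1e) (.leaf 0x111))))) (.node 8 (.node 4 (.node 2 (.node 1 (.leaf 0x22) (.leaf 0x11d)) (.node 1 (.leaf 0xc) (.leaf 0x18))) (.node 2 (.node 1 (.leaf 0x19) (.leaf 0x1a)) (.node 1 (.leaf 0x1d) (.leaf 0x1c)))) (.node 4 (.node 2 (.node 1 (.leaf 0x1b) (.leaf 0x13)) (.node 1 (.leaf 0x30) (.leaf 0x95))) (.node 2 (.node 1 (.leaf 0x9b) (.leaf 0x15)) (.node 1 (.leaf 0x23) (.leaf 0x24)))))) (.node 16 (.node 8 (.node 4 (.node 2 (.node 1 (.leaf 0xb) (.leaf 0x2d)) (.node 1 (.leaf 0x2b) (.leaf 0x43))) (.node 2 (.node 1 (.leaf 0x99) (.leaf 0x42)) (.node 1 (.leaf 0x27) (.leaf 0x31)))) (.node 4 (.node 2 (.node 1 (.leaf 0x26) (.leaf 0x2)) (.node 1 (.leaf 0x1) (.leaf 0x1f))) (.node 2 (.node 1 (.leaf 0x2c)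 (.leaf 0x57)) (.node 1 (.leaf 0x92) (.leaf 0x3e))))) (.node 8 (.node 4 (.node 2 (.node 1 (.leaf 0x3a) (.leaf 0x3f)) (.node 1 (.leaf 0x67) (.leaf 0x97))) (.node 2 (.node 1 (.leaf 0x40) (.leaf 0x35)) (.node 1 (.leaf 0x3b) (.leaf 0x6e)))) (.node 4 (.node 2 (.node 1 (.leaf 0xc5) (.leaf 0x34)) (.node 1 (.leaf 0x36) (.leaf 0x39))) (.node 2 (.node 1 (.leaf 0x45) (.leaf 0x2a)) (.node 1 (.leaf 0x28) (.leaf 0x62)))))))

def conjD_3 : Tree :=
  .node 64 (.node 32 (.node 16 (.node 8 (.node 4 (.node 2 (.node 1 (.leaf 0x41) (.leaf 0xb0)) (.node 1 (.leaf 0x55) (.leaf 0xbb))) (.node 2 (.node 1 (.leaf 0x49) (.leaf 0x84)) (.node 1 (.leaf 0x7a) (.leaf 0x4c)))) (.node 4 (.node 2 (.node 1 (.leaf 0xc6) (.leaf 0xe4)) (.node 1 (.leaf 0xbc) (.leaf 0x6a))) (.node 2 (.node 1 (.leaf 0x116) (.leaf 0x7)) (.node 1 (.leaf 0x88) (.leaf 0x101))))) (.node 8 (.node 4 (.node 2 (.node 1 (.leaf 0x47) (.leaf 0xfc)) (.node 1 (.leaf 0x32) (.leaf 0xe1))) (.node 2 (.node 1 (.leaf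 0x73) (.leaf 0x87)) (.node 1 (.leaf 0xbe) (.leaf 0xce)))) (.node 4 (.node 2 (.node 1 (.leaf 0xeb) (.leaf 0xfd)) (.node 1 (.leaf 0x5f) (.leaf 0x94))) (.node 2 (.node 1 (.leaf 0xc0) (.leaf 0x44)) (.node 1 (.leaf 0xf1) (.leaf 0x64)))))) (.node 16 (.node 8 (.node 4 (.node 2 (.node 1 (.leaf 0xed) (.leaf 0x5)) (.node 1 (.leaf 0x37) (.leaf 0xba))) (.node 2 (.node 1 (.leaf 0x129) (.leaf 0x50)) (.node 1 (.leaf 0xd6) (.leaf 0x10b)))) (.node 4 (.node 2 (.node 1 (.leaf 0x8f) (.leaf 0x3c)) (.node 1 (.leaf 0xc3) (.leaf 0x10e))) (.node 2 (.node 1 (.leaf 0x7c) (.leaf 0xb3)) (.node 1 (.leaf 0x59) (.leaf 0xb9))))) (.node 8 (.node 4 (.node 2 (.node 1 (.leaf 0x75) (.leaf 0xb2)) (.node 1 (.leaf 0x9f) (.leaf 0xe6))) (.node 2 (.node 1 (.leaf 0x105) (.leaf 0x4b)) (.node 1 (.leaf 0x96) (.leaf 0x71)))) (.node 4 (.node 2 (.node 1 (.leaf 0xb7) (.leaf 0xe2)) (.node 1 (.leaf 0xc7) (.leaf 0xd0))) (.node 2 (.node 1 (.leaf 0xcc) (.leaf 0xf6)) (.node 1 (.leaf 0x93)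 (.leaf 0x4a))))))) (.node 32 (.node 16 (.node 8 (.node 4 (.node 2 (.node 1 (.leaf 0x8a) (.leaf 0xee)) (.node 1 (.leaf 0x5a) (.leaf 0x53))) (.node 2 (.node 1 (.leaf 0xa5) (.leaf 0x85)) (.node 1 (.leaf 0x98) (.leaf 0xfa)))) (.node 4 (.node 2 (.node 1 (.leaf 0x134) (.leaf 0xdc)) (.node 1 (.leaf 0x6d) (.leaf 0x127))) (.node 2 (.node 1 (.leaf 0x91) (.leaf 0x33)) (.node 1 (.leaf 0x83) (.leaf 0x60))))) (.node 8 (.node 4 (.node 2 (.node 1 (.leaf 0x20) (.leaf 0x7b)) (.node 1 (.leaf 0x38) (.leaf 0x8b))) (.node 2 (.node 1 (.leaf 0x29) (.leaf 0x9a)) (.node 1 (.leaf 0x21) (.leaf 0xff)))) (.node 4 (.node 2 (.node 1 (.leaf 0xbd) (.leaf 0x132)) (.node 1 (.leaf 0x77) (.leaf 0xf3))) (.node 2 (.node 1 (.leaf 0x12f) (.leaf 0xa2)) (.node 1 (.leaf 0x128) (.leaf 0xa4)))))) (.node 16 (.node 8 (.node 4 (.node 2 (.node 1 (.leaf 0x89) (.leaf 0xef)) (.node 1 (.leaf 0xa7) (.leaf 0xbf))) (.node 2 (.node 1 (.leaf 0x117) (.leaf 0xf8)) (.node 1 (.leaf 0xdb) (.leaf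 0xac)))) (.node 4 (.node 2 (.node 1 (.leaf 0xf9) (.leaf 0xa)) (.node 1 (.leaf 0x9) (.leaf 0x46))) (.node 2 (.node 1 (.leaf 0xb1) (.leaf 0x76)) (.node 1 (.leaf 0x72) (.leaf 0xdd))))) (.node 8 (.node 4 (.node 2 (.node 1 (.leaf 0x118) (.leaf 0xde)) (.node 1 (.leaf 0x7d) (.leaf 0xc2))) (.node 2 (.node 1 (.leaf 0x74) (.leaf 0x68)) (.node 1 (.leaf 0x48) (.leaf 0x4f)))) (.node 4 (.node 2 (.node 1 (.leaf 0x9d) (.leaf 0x5b)) (.node 1 (.leaf 0xa8) (.leaf 0x61))) (.node 2 (.node 1 (.leaf 0xfe) (.leaf 0xb8)) (.node 1 (.leaf 0x6f) (.leaf 0xe3)))))))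

def conjD_4 : Tree :=
  .node 64 (.node 32 (.node 16 (.node 8 (.node 4 (.node 2 (.node 1 (.leaf 0x3d) (.leaf 0x4d)) (.node 1 (.leaf 0x7f) (.leaf 0xd8))) (.node 2 (.node 1 (.leaf 0xf0) (.leaf 0x12c)) (.node 1 (.leaf 0xcd) (.leaf 0x81)))) (.node 4 (.node 2 (.node 1 (.leaf 0xcb) (.leaf 0x5c)) (.node 1 (.leaf 0x6) (.leaf 0x80))) (.node 2 (.node 1 (.leaf 0xd1) (.leaf 0x126)) (.node 1 (.leaf 0xd3) (.leaf 0xd4))))) (.node 8 (.node 4 (.node 2 (.node 1 (.leaf 0x123) (.leaf 0x6b)) (.node 1 (.leaf 0xf4) (.leaf 0xc8))) (.node 2 (.node 1 (.leaf 0x103) (.leaf 0x8)) (.node 1 (.leaf 0xab) (.leaf 0x8e)))) (.node 4 (.node 2 (.node 1 (.leaf 0xb4) (.leaf 0xb6)) (.node 1 (.leaf 0x136) (.leaf 0x112))) (.node 2 (.node 1 (.leaf 0x58) (.leaf 0x7e)) (.node 1 (.leaf 0xc4) (.leaf 0x4e)))))) (.node 16 (.node 8 (.node 4 (.node 2 (.node 1 (.leaf 0x124) (.leaf 0x78)) (.node 1 (.leaf 0x120) (.leaf 0x11c))) (.node 2 (.node 1 (.leaf 0xd) (.leaf 0x114)) (.node 1 (.leaf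 0x5d) (.leaf 0x11f)))) (.node 4 (.node 2 (.node 1 (.leaf 0x65) (.leaf 0x86)) (.node 1 (.leaf 0xa6) (.leaf 0xc9))) (.node 2 (.node 1 (.leaf 0x63) (.leaf 0x100)) (.node 1 (.leaf 0xa0) (.leaf 0xd7))))) (.node 8 (.node 4 (.node 2 (.node 1 (.leaf 0x137) (.leaf 0x82)) (.node 1 (.leaf 0x10d) (.leaf 0xaa))) (.node 2 (.node 1 (.leaf 0xad) (.leaf 0x8c)) (.node 1 (.leaf 0xfb) (.leaf 0x56)))) (.node 4 (.node 2 (.node 1 (.leaf 0x5e) (.leaf 0xc1)) (.node 1 (.leaf 0x9c) (.leaf 0xf2))) (.node 2 (.node 1 (.leaf 0x54) (.leaf 0x102)) (.node 1 (.leaf 0xd9) (.leaf 0x12d))))))) (.node 32 (.node 16 (.node 8 (.node 4 (.node 2 (.node 1 (.leaf 0x79) (.leaf 0x10c)) (.node 1 (.leaf 0x135) (.leaf 0x10a))) (.node 2 (.node 1 (.leaf 0x12e) (.leaf 0x108)) (.node 1 (.leaf 0x6c) (.leaf 0x106)))) (.node 4 (.node 2 (.node 1 (.leaf 0xf7) (.leaf 0x70)) (.node 1 (.leaf 0x11b) (.leaf 0x113))) (.node 2 (.node 1 (.leaf 0x14) (.leaf 0xe0)) (.node 1 (.leaf 0x110) (.leaf 0xea)))))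 (.node 8 (.node 4 (.node 2 (.node 1 (.leaf 0xe) (.leaf 0x51)) (.node 1 (.leaf 0xa9) (.leaf 0xb5))) (.node 2 (.node 1 (.leaf 0x12a) (.leaf 0x12b)) (.node 1 (.leaf 0x10f) (.leaf 0xe8)))) (.node 4 (.node 2 (.node 1 (.leaf 0x16) (.leaf 0x121)) (.node 1 (.leaf 0xec) (.leaf 0xe7))) (.node 2 (.node 1 (.leaf 0x11e) (.leaf 0x4)) (.node 1 (.leaf 0xd5) (.leaf 0xe5)))))) (.node 16 (.node 8 (.node 4 (.node 2 (.node 1 (.leaf 0x3) (.leaf 0xd2)) (.node 1 (.leaf 0x90) (.leaf 0xa3))) (.node 2 (.node 1 (.leaf 0x69) (.leaf 0x119)) (.node 1 (.leaf 0x11a) (.leaf 0xca)))) (.node 4 (.node 2 (.node 1 (.leaf 0x104) (.leaf 0x109)) (.node 1 (.leaf 0xa1) (.leaf 0x139))) (.node 2 (.node 1 (.leaf 0x12) (.leaf 0x9e)) (.node 1 (.leaf 0x133) (.leaf 0x8d))))) (.node 8 (.node 4 (.node 2 (.node 1 (.leaf 0x107) (.leaf 0xdf)) (.node 1 (.leaf 0xf5) (.leaf 0x11))) (.node 2 (.node 1 (.leaf 0x130) (.leaf 0x13a)) (.node 1 (.leaf 0x0) (.leaf 0x1)))) (.node 4 (.node 2 (.node 1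 (.leaf 0x2) (.leaf 0x3)) (.node 1 (.leaf 0x4) (.leaf 0x5))) (.node 2 (.node 1 (.leaf 0x6) (.leaf 0x7)) (.node 1 (.leaf 0x8) (.leaf 0x9)))))))

def conjD_5 : Tree :=
  .node 64 (.node 32 (.node 16 (.node 8 (.node 4 (.node 2 (.node 1 (.leaf 0xa) (.leaf 0xc)) (.node 1 (.leaf 0xb) (.leaf 0xe))) (.node 2 (.node 1 (.leaf 0xd) (.leaf 0xf)) (.node 1 (.leaf 0x10) (.leaf 0x11)))) (.node 4 (.node 2 (.node 1 (.leaf 0x12) (.leaf 0x15)) (.node 1 (.leaf 0x16) (.leaf 0x13))) (.node 2 (.node 1 (.leaf 0x14) (.leaf 0x1e)) (.node 1 (.leaf 0x1c) (.leaf 0x19))))) (.node 8 (.node 4 (.node 2 (.node 1 (.leaf 0x1a) (.leaf 0x23)) (.node 1 (.leaf 0x18) (.leaf 0x24))) (.node 2 (.node 1 (.leaf 0x17) (.leaf 0x28)) (.node 1 (.leaf 0x29) (.leaf 0x2a)))) (.node 4 (.node 2 (.node 1 (.leaf 0x25) (.leaf 0x1b)) (.node 1 (.leaf 0x1d) (.leaf 0x22))) (.node 2 (.node 1 (.leaf 0x33) (.leaf 0x34)) (.node 1 (.leaf 0x1f) (.leaf 0x20)))))) (.node 16 (.node 8 (.node 4 (.node 2 (.node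 1 (.leaf 0x21) (.leaf 0x3a)) (.node 1 (.leaf 0x3e) (.leaf 0x3f))) (.node 2 (.node 1 (.leaf 0x2f) (.leaf 0x2e)) (.node 1 (.leaf 0x41) (.leaf 0x35)))) (.node 4 (.node 2 (.node 1 (.leaf 0x36) (.leaf 0x26)) (.node 1 (.leaf 0x27) (.leaf 0x31))) (.node 2 (.node 1 (.leaf 0x32) (.leaf 0x46)) (.node 1 (.leaf 0x44) (.leaf 0x45))))) (.node 8 (.node 4 (.node 2 (.node 1 (.leaf 0x2b) (.leaf 0x59)) (.node 1 (.leaf 0x5a) (.leaf 0x5b))) (.node 2 (.node 1 (.leaf 0x2c) (.leaf 0x2d)) (.node 1 (.leaf 0x43) (.leaf 0x30)))) (.node 4 (.node 2 (.node 1 (.leaf 0x67) (.leaf 0x40)) (.node 1 (.leaf 0x38) (.leaf 0x39))) (.node 2 (.node 1 (.leaf 0x37) (.leaf 0x6f)) (.node 1 (.leaf 0x72) (.leaf 0x73))))))) (.node 32 (.node 16 (.node 8 (.node 4 (.node 2 (.node 1 (.leaf 0x74) (.leaf 0x7d)) (.node 1 (.leaf 0x7e) (.leaf 0x7f))) (.node 2 (.node 1 (.leaf 0x7a) (.leaf 0x63)) (.node 1 (.leaf 0x64) (.leaf 0x65)))) (.node 4 (.node 2 (.node 1 (.leaf 0x66) (.leaf 0x85)) (.node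 1 (.leaf 0x86) (.leaf 0x8a))) (.node 2 (.node 1 (.leaf 0x90) (.leaf 0x92)) (.node 1 (.leaf 0x9d) (.leaf 0x3b))))) (.node 8 (.node 4 (.node 2 (.node 1 (.leaf 0x3c) (.leaf 0x3d)) (.node 1 (.leaf 0x8c) (.leaf 0x5e))) (.node 2 (.node 1 (.leaf 0x5d) (.leaf 0xa7)) (.node 1 (.leaf 0x93) (.leaf 0xa3)))) (.node 4 (.node 2 (.node 1 (.leaf 0x95) (.leaf 0x4f)) (.node 1 (.leaf 0x50) (.leaf 0x51))) (.node 2 (.node 1 (.leaf 0x52) (.leaf 0x42)) (.node 1 (.leaf 0xaa) (.leaf 0xab)))))) (.node 16 (.node 8 (.node 4 (.node 2 (.node 1 (.leaf 0xac) (.leaf 0xb4)) (.node 1 (.leaf 0xb5) (.leaf 0xb6))) (.node 2 (.node 1 (.leaf 0xb9) (.leaf 0x47)) (.node 1 (.leaf 0x9c) (.leaf 0x76)))) (.node 4 (.node 2 (.node 1 (.leaf 0x48) (.leaf 0x49)) (.node 1 (.leaf 0x4a) (.leaf 0x91))) (.node 2 (.node 1 (.leaf 0x71) (.leaf 0x81)) (.node 1 (.leaf 0x80) (.leaf 0x82))))) (.node 8 (.node 4 (.node 2 (.node 1 (.leaf 0x4e) (.leaf 0xa8)) (.node 1 (.leaf 0xbd) (.leaf 0x4b))) (.node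 2 (.node 1 (.leaf 0x4c) (.leaf 0x4d)) (.node 1 (.leaf 0x78) (.leaf 0x77)))) (.node 4 (.node 2 (.node 1 (.leaf 0x79) (.leaf 0x96)) (.node 1 (.leaf 0x87) (.leaf 0x53))) (.node 2 (.node 1 (.leaf 0x54) (.leaf 0x84)) (.node 1 (.leaf 0xc3) (.leaf 0xc7)))))))

def conjD_6 : Tree :=
  .node 64 (.node 32 (.node 16 (.node 8 (.node 4 (.node 2 (.node 1 (.leaf 0x55) (.leaf 0xc9)) (.node 1 (.leaf 0x5c) (.leaf 0xca))) (.node 2 (.node 1 (.leaf 0xcb) (.leaf 0xcc)) (.node 1 (.leaf 0x56) (.leaf 0x75)))) (.node 4 (.node 2 (.node 1 (.leaf 0x57) (.leaf 0x60)) (.node 1 (.leaf 0xbf) (.leaf 0x62))) (.node 2 (.node 1 (.leaf 0x83) (.leaf 0x99)) (.node 1 (.leaf 0xd8) (.leaf 0x97))))) (.node 8 (.node 4 (.node 2 (.node 1 (.leaf 0xd9) (.leaf 0xb0)) (.node 1 (.leaf 0x70) (.leaf 0x58))) (.node 2 (.node 1 (.leaf 0xa9) (.leaf 0xde)) (.node 1 (.leaf 0xe0) (.leaf 0xdf)))) (.node 4 (.node 2 (.node 1 (.leaf 0xd3) (.leaf 0x61)) (.node 1 (.leaf 0xe2) (.leaf 0xe3))) (.node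 2 (.node 1 (.leaf 0xe4) (.leaf 0x5f)) (.node 1 (.leaf 0x7b) (.leaf 0x9e)))))) (.node 16 (.node 8 (.node 4 (.node 2 (.node 1 (.leaf 0x68) (.leaf 0x69)) (.node 1 (.leaf 0x6a) (.leaf 0xb8))) (.node 2 (.node 1 (.leaf 0xaf) (.leaf 0xae)) (.node 1 (.leaf 0x9b) (.leaf 0xec)))) (.node 4 (.node 2 (.node 1 (.leaf 0xe1) (.leaf 0xc5)) (.node 1 (.leaf 0x6b) (.leaf 0x6c))) (.node 2 (.node 1 (.leaf 0x6d) (.leaf 0xef)) (.node 1 (.leaf 0xad) (.leaf 0x6e))))) (.node 8 (.node 4 (.node 2 (.node 1 (.leaf 0xed) (.leaf 0xbe)) (.node 1 (.leaf 0xdb) (.leaf 0x7c))) (.node 2 (.node 1 (.leaf 0xbb) (.leaf 0x94)) (.node 1 (.leaf 0xf4) (.leaf 0xc8)))) (.node 4 (.node 2 (.node 1 (.leaf 0xee) (.leaf 0x88)) (.node 1 (.leaf 0xc6) (.leaf 0xb3))) (.node 2 (.node 1 (.leaf 0xc4) (.leaf 0x89)) (.node 1 (.leaf 0xc1) (.leaf 0x8b))))))) (.node 32 (.node 16 (.node 8 (.node 4 (.node 2 (.node 1 (.leaf 0x8d) (.leaf 0x8e)) (.node 1 (.leaf 0x8f) (.leaf 0xf3))) (.node 2 (.node 1 (.leaf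 0xff) (.leaf 0xda)) (.node 1 (.leaf 0xd6) (.leaf 0xd4)))) (.node 4 (.node 2 (.node 1 (.leaf 0xd7) (.leaf 0xa2)) (.node 1 (.leaf 0xd1) (.leaf 0xe5))) (.node 2 (.node 1 (.leaf 0xd0) (.leaf 0xd2)) (.node 1 (.leaf 0x98) (.leaf 0x9a))))) (.node 8 (.node 4 (.node 2 (.node 1 (.leaf 0xcf) (.leaf 0xbc)) (.node 1 (.leaf 0x112) (.leaf 0xe6))) (.node 2 (.node 1 (.leaf 0x9f) (.leaf 0xa1)) (.node 1 (.leaf 0xa0) (.leaf 0xb2)))) (.node 4 (.node 2 (.node 1 (.leaf 0xa4) (.leaf 0xa5)) (.node 1 (.leaf 0xa6) (.leaf 0xd5))) (.node 2 (.node 1 (.leaf 0xdd) (.leaf 0x11e)) (.node 1 (.leaf 0x11b) (.leaf 0x11d)))))) (.node 16 (.node 8 (.node 4 (.node 2 (.node 1 (.leaf 0x11c) (.leaf 0x127)) (.node 1 (.leaf 0xb1) (.leaf 0xba))) (.node 2 (.node 1 (.leaf 0xc2) (.leaf 0xb7)) (.node 1 (.leaf 0xfe) (.leaf 0x129)))) (.node 4 (.node 2 (.node 1 (.leaf 0x117) (.leaf 0xcd)) (.node 1 (.leaf 0xc0) (.leaf 0x109))) (.node 2 (.node 1 (.leaf 0x10b) (.leaf 0x10a)) (.node 1 (.leaf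 0x116) (.leaf 0x101))))) (.node 8 (.node 4 (.node 2 (.node 1 (.leaf 0x10e) (.leaf 0x11f)) (.node 1 (.leaf 0xfd) (.leaf 0xfc))) (.node 2 (.node 1 (.leaf 0xf0) (.leaf 0xce)) (.node 1 (.leaf 0x104) (.leaf 0xf9)))) (.node 4 (.node 2 (.node 1 (.leaf 0x103) (.leaf 0x102)) (.node 1 (.leaf 0x100) (.leaf 0x118))) (.node 2 (.node 1 (.leaf 0x119) (.leaf 0x11a)) (.node 1 (.leaf 0x12a) (.leaf 0xf5)))))))

def conjD_7 : Tree :=
  .node 64 (.node 32 (.node 16 (.node 8 (.node 4 (.node 2 (.node 1 (.leaf 0xf7) (.leaf 0xf6)) (.node 1 (.leaf 0x10d) (.leaf 0x10c))) (.node 2 (.node 1 (.leaf 0xfa) (.leaf 0x113)) (.node 1 (.leaf 0x114) (.leaf 0x115)))) (.node 4 (.node 2 (.node 1 (.leaf 0xdc) (.leaf 0x10f)) (.node 1 (.leaf 0x110) (.leaf 0x111))) (.node 2 (.node 1 (.leaf 0xf8) (.leaf 0xf2)) (.node 1 (.leaf 0x105) (.leaf 0x106))))) (.node 8 (.node 4 (.node 2 (.node 1 (.leaf 0x107) (.leaf 0xe8)) (.node 1 (.leaf 0xea) (.leaf 0xe9))) (.node 2 (.node 1 (.leaf 0xe7)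 (.leaf 0xfb)) (.node 1 (.leaf 0x120) (.leaf 0x121)))) (.node 4 (.node 2 (.node 1 (.leaf 0x122) (.leaf 0x123)) (.node 1 (.leaf 0x124) (.leaf 0x125))) (.node 2 (.node 1 (.leaf 0x128) (.leaf 0xeb)) (.node 1 (.leaf 0x126) (.leaf 0xf1)))))) (.node 16 (.node 8 (.node 4 (.node 2 (.node 1 (.leaf 0x108) (.leaf 0x12e)) (.node 1 (.leaf 0x12f) (.leaf 0x132))) (.node 2 (.node 1 (.leaf 0x12b) (.leaf 0x12c)) (.node 1 (.leaf 0x130) (.leaf 0x131)))) (.node 4 (.node 2 (.node 1 (.leaf 0x12d) (.leaf 0x13a)) (.node 1 (.leaf 0x136) (.leaf 0x137))) (.node 2 (.node 1 (.leaf 0x134) (.leaf 0x135)) (.node 1 (.leaf 0x138) (.leaf 0x139))))) (.node 8 (.node 4 (.node 2 (.node 1 (.leaf 0x133) (.leaf 0x0)) (.node 1 (.leaf 0x1) (.leaf 0x2))) (.node 2 (.node 1 (.leaf 0x3) (.leaf 0x4)) (.node 1 (.leaf 0x5) (.leaf 0x6)))) (.node 4 (.node 2 (.node 1 (.leaf 0x7) (.leaf 0x8)) (.node 1 (.leaf 0x9) (.leaf 0xa))) (.node 2 (.node 1 (.leaf 0xb) (.leaf 0xc)) (.node 1 (.leaf 0xd)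 (.leaf 0xe))))))) (.node 32 (.node 16 (.node 8 (.node 4 (.node 2 (.node 1 (.leaf 0xf) (.leaf 0x10)) (.node 1 (.leaf 0x11) (.leaf 0x12))) (.node 2 (.node 1 (.leaf 0x13) (.leaf 0x14)) (.node 1 (.leaf 0x15) (.leaf 0x16)))) (.node 4 (.node 2 (.node 1 (.leaf 0x17) (.leaf 0x18)) (.node 1 (.leaf 0x19) (.leaf 0x1a))) (.node 2 (.node 1 (.leaf 0x1b) (.leaf 0x1c)) (.node 1 (.leaf 0x1d) (.leaf 0x1e))))) (.node 8 (.node 4 (.node 2 (.node 1 (.leaf 0x1f) (.leaf 0x20)) (.node 1 (.leaf 0x21) (.leaf 0x22))) (.node 2 (.node 1 (.leaf 0x23) (.leaf 0x24)) (.node 1 (.leaf 0x25) (.leaf 0x26)))) (.node 4 (.node 2 (.node 1 (.leaf 0x27) (.leaf 0x28)) (.node 1 (.leaf 0x29) (.leaf 0x2a))) (.node 2 (.node 1 (.leaf 0x2b) (.leaf 0x2c)) (.node 1 (.leaf 0x2d) (.leaf 0x2e)))))) (.node 16 (.node 8 (.node 4 (.node 2 (.node 1 (.leaf 0x2f) (.leaf 0x30)) (.node 1 (.leaf 0x31) (.leaf 0x32))) (.node 2 (.node 1 (.leaf 0x33) (.leaf 0x34)) (.node 1 (.leaf 0x35) (.leaf 0x36))))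 (.node 4 (.node 2 (.node 1 (.leaf 0x37) (.leaf 0x38)) (.node 1 (.leaf 0x39) (.leaf 0x3a))) (.node 2 (.node 1 (.leaf 0x3b) (.leaf 0x3c)) (.node 1 (.leaf 0x3d) (.leaf 0x3e))))) (.node 8 (.node 4 (.node 2 (.node 1 (.leaf 0x3f) (.leaf 0x40)) (.node 1 (.leaf 0x41) (.leaf 0x42))) (.node 2 (.node 1 (.leaf 0x43) (.leaf 0x44)) (.node 1 (.leaf 0x45) (.leaf 0x46)))) (.node 4 (.node 2 (.node 1 (.leaf 0x47) (.leaf 0x48)) (.node 1 (.leaf 0x49) (.leaf 0x4a))) (.node 2 (.node 1 (.leaf 0x4b) (.leaf 0x4c)) (.node 1 (.leaf 0x4d) (.leaf 0x4e)))))))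

def conjD_8 : Tree :=
  .node 64 (.node 32 (.node 16 (.node 8 (.node 4 (.node 2 (.node 1 (.leaf 0x4f) (.leaf 0x50)) (.node 1 (.leaf 0x51) (.leaf 0x52))) (.node 2 (.node 1 (.leaf 0x53) (.leaf 0x54)) (.node 1 (.leaf 0x55) (.leaf 0x56)))) (.node 4 (.node 2 (.node 1 (.leaf 0x57) (.leaf 0x58)) (.node 1 (.leaf 0x59) (.leaf 0x5a))) (.node 2 (.node 1 (.leaf 0x5b) (.leaf 0x5c)) (.node 1 (.leaf 0x5d) (.leaf 0x5e))))) (.node 8 (.node 4 (.node 2 (.node 1 (.leaf 0x5f) (.leaf 0x60)) (.node 1 (.leaf 0x61) (.leaf 0x62))) (.node 2 (.node 1 (.leaf 0x63) (.leaf 0x64)) (.node 1 (.leaf 0x65) (.leaf 0x66)))) (.node 4 (.node 2 (.node 1 (.leaf 0x67) (.leaf 0x68)) (.node 1 (.leaf 0x69) (.leaf 0x6a))) (.node 2 (.node 1 (.leaf 0x6b) (.leaf 0x6c)) (.node 1 (.leaf 0x6d) (.leaf 0x6e)))))) (.node 16 (.node 8 (.node 4 (.node 2 (.node 1 (.leaf 0x6f) (.leaf 0x70)) (.node 1 (.leaf 0x71) (.leaf 0x72))) (.node 2 (.node 1 (.leaf 0x73) (.leaf 0x74)) (.node 1 (.leaf 0x75)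 (.leaf 0x76)))) (.node 4 (.node 2 (.node 1 (.leaf 0x77) (.leaf 0x78)) (.node 1 (.leaf 0x79) (.leaf 0x7a))) (.node 2 (.node 1 (.leaf 0x7b) (.leaf 0x7c)) (.node 1 (.leaf 0x7d) (.leaf 0x7e))))) (.node 8 (.node 4 (.node 2 (.node 1 (.leaf 0x7f) (.leaf 0x80)) (.node 1 (.leaf 0x81) (.leaf 0x82))) (.node 2 (.node 1 (.leaf 0x83) (.leaf 0x84)) (.node 1 (.leaf 0x85) (.leaf 0x86)))) (.node 4 (.node 2 (.node 1 (.leaf 0x87) (.leaf 0x88)) (.node 1 (.leaf 0x89) (.leaf 0x8a))) (.node 2 (.node 1 (.leaf 0x8b) (.leaf 0x8c)) (.node 1 (.leaf 0x8d) (.leaf 0x8e))))))) (.node 32 (.node 16 (.node 8 (.node 4 (.node 2 (.node 1 (.leaf 0x8f) (.leaf 0x90)) (.node 1 (.leaf 0x91) (.leaf 0x92))) (.node 2 (.node 1 (.leaf 0x93) (.leaf 0x94)) (.node 1 (.leaf 0x95) (.leaf 0x96)))) (.node 4 (.node 2 (.node 1 (.leaf 0x97) (.leaf 0x98)) (.node 1 (.leaf 0x99) (.leaf 0x9a))) (.node 2 (.node 1 (.leaf 0x9b) (.leaf 0x9c)) (.node 1 (.leaf 0x9d) (.leaf 0x9e))))) (.node 8 (.node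 4 (.node 2 (.node 1 (.leaf 0x9f) (.leaf 0xa0)) (.node 1 (.leaf 0xa1) (.leaf 0xa2))) (.node 2 (.node 1 (.leaf 0xa3) (.leaf 0xa4)) (.node 1 (.leaf 0xa5) (.leaf 0xa6)))) (.node 4 (.node 2 (.node 1 (.leaf 0xa7) (.leaf 0xa8)) (.node 1 (.leaf 0xa9) (.leaf 0xaa))) (.node 2 (.node 1 (.leaf 0xab) (.leaf 0xac)) (.node 1 (.leaf 0xad) (.leaf 0xae)))))) (.node 16 (.node 8 (.node 4 (.node 2 (.node 1 (.leaf 0xaf) (.leaf 0xb0)) (.node 1 (.leaf 0xb1) (.leaf 0xb2))) (.node 2 (.node 1 (.leaf 0xb3) (.leaf 0xb4)) (.node 1 (.leaf 0xb5) (.leaf 0xb6)))) (.node 4 (.node 2 (.node 1 (.leaf 0xb7) (.leaf 0xb8)) (.node 1 (.leaf 0xb9) (.leaf 0xba))) (.node 2 (.node 1 (.leaf 0xbb) (.leaf 0xbc)) (.node 1 (.leaf 0xbd) (.leaf 0xbe))))) (.node 8 (.node 4 (.node 2 (.node 1 (.leaf 0xbf) (.leaf 0xc0)) (.node 1 (.leaf 0xc1) (.leaf 0xc2))) (.node 2 (.node 1 (.leaf 0xc3) (.leaf 0xc4)) (.node 1 (.leaf 0xc5) (.leaf 0xc6)))) (.node 4 (.node 2 (.node 1 (.leaf 0xc7) (.leaf 0xc8))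 (.node 1 (.leaf 0xc9) (.leaf 0xca))) (.node 2 (.node 1 (.leaf 0xcb) (.leaf 0xcc)) (.node 1 (.leaf 0xcd) (.leaf 0xce)))))))

def conjD_9 : Tree :=
  .node 64 (.node 32 (.node 16 (.node 8 (.node 4 (.node 2 (.node 1 (.leaf 0xcf) (.leaf 0xd0)) (.node 1 (.leaf 0xd1) (.leaf 0xd2))) (.node 2 (.node 1 (.leaf 0xd3) (.leaf 0xd4)) (.node 1 (.leaf 0xd5) (.leaf 0xd6)))) (.node 4 (.node 2 (.node 1 (.leaf 0xd7) (.leaf 0xd8)) (.node 1 (.leaf 0xd9) (.leaf 0xda))) (.node 2 (.node 1 (.leaf 0xdb) (.leaf 0xdc)) (.node 1 (.leaf 0xdd) (.leaf 0xde))))) (.node 8 (.node 4 (.node 2 (.node 1 (.leaf 0xdf) (.leaf 0xe0)) (.node 1 (.leaf 0xe1) (.leaf 0xe2))) (.node 2 (.node 1 (.leaf 0xe3) (.leaf 0xe4)) (.node 1 (.leaf 0xe5) (.leaf 0xe6)))) (.node 4 (.node 2 (.node 1 (.leaf 0xe7) (.leaf 0xe8)) (.node 1 (.leaf 0xe9) (.leaf 0xea))) (.node 2 (.node 1 (.leaf 0xeb) (.leaf 0xec)) (.node 1 (.leaf 0xed) (.leaf 0xee)))))) (.node 16 (.node 8 (.node 4 (.node 2 (.node 1 (.leaf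 0xef) (.leaf 0xf0)) (.node 1 (.leaf 0xf1) (.leaf 0xf2))) (.node 2 (.node 1 (.leaf 0xf3) (.leaf 0xf4)) (.node 1 (.leaf 0xf5) (.leaf 0xf6)))) (.node 4 (.node 2 (.node 1 (.leaf 0xf7) (.leaf 0xf8)) (.node 1 (.leaf 0xf9) (.leaf 0xfa))) (.node 2 (.node 1 (.leaf 0xfb) (.leaf 0xfc)) (.node 1 (.leaf 0xfd) (.leaf 0xfe))))) (.node 8 (.node 4 (.node 2 (.node 1 (.leaf 0xff) (.leaf 0x100)) (.node 1 (.leaf 0x101) (.leaf 0x102))) (.node 2 (.node 1 (.leaf 0x103) (.leaf 0x104)) (.node 1 (.leaf 0x105) (.leaf 0x106)))) (.node 4 (.node 2 (.node 1 (.leaf 0x107) (.leaf 0x108)) (.node 1 (.leaf 0x109) (.leaf 0x10a))) (.node 2 (.node 1 (.leaf 0x10b) (.leaf 0x10c)) (.node 1 (.leaf 0x10d) (.leaf 0x10e))))))) (.node 32 (.node 16 (.node 8 (.node 4 (.node 2 (.node 1 (.leaf 0x10f) (.leaf 0x110)) (.node 1 (.leaf 0x111) (.leaf 0x112))) (.node 2 (.node 1 (.leaf 0x113) (.leaf 0x114)) (.node 1 (.leaf 0x115) (.leaf 0x116)))) (.node 4 (.node 2 (.node 1 (.leaf 0x117) (.leaf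 0x118)) (.node 1 (.leaf 0x119) (.leaf 0x11a))) (.node 2 (.node 1 (.leaf 0x11b) (.leaf 0x11c)) (.node 1 (.leaf 0x11d) (.leaf 0x11e))))) (.node 8 (.node 4 (.node 2 (.node 1 (.leaf 0x11f) (.leaf 0x120)) (.node 1 (.leaf 0x121) (.leaf 0x122))) (.node 2 (.node 1 (.leaf 0x123) (.leaf 0x124)) (.node 1 (.leaf 0x125) (.leaf 0x126)))) (.node 4 (.node 2 (.node 1 (.leaf 0x127) (.leaf 0x128)) (.node 1 (.leaf 0x129) (.leaf 0x12a))) (.node 2 (.node 1 (.leaf 0x12b) (.leaf 0x12c)) (.node 1 (.leaf 0x12d) (.leaf 0x12e)))))) (.node 16 (.node 8 (.node 4 (.node 2 (.node 1 (.leaf 0x12f) (.leaf 0x130)) (.node 1 (.leaf 0x131) (.leaf 0x132))) (.node 2 (.node 1 (.leaf 0x133) (.leaf 0x134)) (.node 1 (.leaf 0x135) (.leaf 0x136)))) (.node 4 (.node 2 (.node 1 (.leaf 0x137) (.leaf 0x138)) (.node 1 (.leaf 0x139) (.leaf 0x13a))) (.node 2 (.node 1 (.leaf 0x0) (.leaf 0x1)) (.node 1 (.leaf 0x2) (.leaf 0x4))))) (.node 8 (.node 4 (.node 2 (.node 1 (.leaf 0x3) (.leaf 0x7))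 (.node 1 (.leaf 0xa) (.leaf 0x5))) (.node 2 (.node 1 (.leaf 0x9) (.leaf 0x8)) (.node 1 (.leaf 0x6) (.leaf 0xb)))) (.node 4 (.node 2 (.node 1 (.leaf 0xc) (.leaf 0xe)) (.node 1 (.leaf 0xd) (.leaf 0xf))) (.node 2 (.node 1 (.leaf 0x10) (.leaf 0x12)) (.node 1 (.leaf 0x11) (.leaf 0x13)))))))

def conjD_10 : Tree :=
  .node 64 (.node 32 (.node 16 (.node 8 (.node 4 (.node 2 (.node 1 (.leaf 0x16) (.leaf 0x15)) (.node 1 (.leaf 0x14) (.leaf 0x17))) (.node 2 (.node 1 (.leaf 0x18) (.leaf 0x1a)) (.node 1 (.leaf 0x19) (.leaf 0x1b)))) (.node 4 (.node 2 (.node 1 (.leaf 0x1c) (.leaf 0x1d)) (.node 1 (.leaf 0x1e) (.leaf 0x39))) (.node 2 (.node 1 (.leaf 0x37) (.leaf 0x38)) (.node 1 (.leaf 0x22) (.leaf 0x23))))) (.node 8 (.node 4 (.node 2 (.node 1 (.leaf 0x24) (.leaf 0x25)) (.node 1 (.leaf 0x27) (.leaf 0x26))) (.node 2 (.node 1 (.leaf 0x45) (.leaf 0x46)) (.node 1 (.leaf 0x44) (.leaf 0x2d)))) (.node 4 (.node 2 (.node 1 (.leaf 0x57) (.leaf 0x2b)) (.node 1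 (.leaf 0x2e) (.leaf 0x2f))) (.node 2 (.node 1 (.leaf 0x40) (.leaf 0x32)) (.node 1 (.leaf 0x31) (.leaf 0x34)))))) (.node 16 (.node 8 (.node 4 (.node 2 (.node 1 (.leaf 0x33) (.leaf 0x36)) (.node 1 (.leaf 0x35) (.leaf 0x20))) (.node 2 (.node 1 (.leaf 0x21) (.leaf 0x1f)) (.node 1 (.leaf 0x3f) (.leaf 0xa4)))) (.node 4 (.node 2 (.node 1 (.leaf 0xa5) (.leaf 0xa6)) (.node 1 (.leaf 0x92) (.leaf 0x3a))) (.node 2 (.node 1 (.leaf 0x30) (.leaf 0x43)) (.node 1 (.leaf 0x62) (.leaf 0x41))))) (.node 8 (.node 4 (.node 2 (.node 1 (.leaf 0x2a) (.leaf 0x28)) (.node 1 (.leaf 0x29) (.leaf 0x55))) (.node 2 (.node 1 (.leaf 0x4b) (.leaf 0x4c)) (.node 1 (.leaf 0x4d) (.leaf 0x48)))) (.node 4 (.node 2 (.node 1 (.leaf 0x49) (.leaf 0x4a)) (.node 1 (.leaf 0xbe) (.leaf 0x68))) (.node 2 (.node 1 (.leaf 0x6a) (.leaf 0x69)) (.node 1 (.leaf 0x66) (.leaf 0x88))))))) (.node 32 (.node 16 (.node 8 (.node 4 (.node 2 (.node 1 (.leaf 0x8b) (.leaf 0x47)) (.node 1 (.leaf 0xd2)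 (.leaf 0x2c))) (.node 2 (.node 1 (.leaf 0xe1) (.leaf 0xe2)) (.node 1 (.leaf 0xe3) (.leaf 0xe4)))) (.node 4 (.node 2 (.node 1 (.leaf 0x60) (.leaf 0x61)) (.node 1 (.leaf 0xa3) (.leaf 0xd3))) (.node 2 (.node 1 (.leaf 0x5c) (.leaf 0x5d)) (.node 1 (.leaf 0x42) (.leaf 0xaa))))) (.node 8 (.node 4 (.node 2 (.node 1 (.leaf 0xac) (.leaf 0xab)) (.node 1 (.leaf 0x52) (.leaf 0x95))) (.node 2 (.node 1 (.leaf 0x4f) (.leaf 0x51)) (.node 1 (.leaf 0x50) (.leaf 0x80)))) (.node 4 (.node 2 (.node 1 (.leaf 0x81) (.leaf 0x82)) (.node 1 (.leaf 0x89) (.leaf 0x8a))) (.node 2 (.node 1 (.leaf 0x7b) (.leaf 0x7c)) (.node 1 (.leaf 0x7d) (.leaf 0x7e)))))) (.node 16 (.node 8 (.node 4 (.node 2 (.node 1 (.leaf 0x7f) (.leaf 0xd4)) (.node 1 (.leaf 0xbd) (.leaf 0xb5))) (.node 2 (.node 1 (.leaf 0xb4) (.leaf 0xb6)) (.node 1 (.leaf 0xbb) (.leaf 0x70)))) (.node 4 (.node 2 (.node 1 (.leaf 0x71) (.leaf 0x72)) (.node 1 (.leaf 0x73) (.leaf 0x74))) (.node 2 (.node 1 (.leaf 0x6b)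 (.leaf 0x6c)) (.node 1 (.leaf 0x6d) (.leaf 0xfa))))) (.node 8 (.node 4 (.node 2 (.node 1 (.leaf 0xc6) (.leaf 0xc3)) (.node 1 (.leaf 0xc9) (.leaf 0xc4))) (.node 2 (.node 1 (.leaf 0x53) (.leaf 0x6e)) (.node 1 (.leaf 0x6f) (.leaf 0x54)))) (.node 4 (.node 2 (.node 1 (.leaf 0x93) (.leaf 0xf5)) (.node 1 (.leaf 0xf7) (.leaf 0xf6))) (.node 2 (.node 1 (.leaf 0xd7) (.leaf 0xd1)) (.node 1 (.leaf 0x3e) (.leaf 0x8c)))))))

def conjD_11 : Tree :=
  .node 64 (.node 32 (.node 16 (.node 8 (.node 4 (.node 2 (.node 1 (.leaf 0xce) (.leaf 0x67)) (.node 1 (.leaf 0x10e) (.leaf 0x9b))) (.node 2 (.node 1 (.leaf 0x101) (.leaf 0xb0)) (.node 1 (.leaf 0xb1) (.leaf 0x97)))) (.node 4 (.node 2 (.node 1 (.leaf 0xa8) (.leaf 0xb2)) (.node 1 (.leaf 0xa9) (.leaf 0x118))) (.node 2 (.node 1 (.leaf 0x119) (.leaf 0x11a)) (.node 1 (.leaf 0xa7) (.leaf 0x5e))))) (.node 8 (.node 4 (.node 2 (.node 1 (.leaf 0x3b) (.leaf 0x3c)) (.node 1 (.leaf 0x3d) (.leaf 0xa2))) (.node 2 (.node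 1 (.leaf 0x9c) (.leaf 0x9e)) (.node 1 (.leaf 0x63) (.leaf 0x65)))) (.node 4 (.node 2 (.node 1 (.leaf 0x64) (.leaf 0xc8)) (.node 1 (.leaf 0xcf) (.leaf 0xda))) (.node 2 (.node 1 (.leaf 0x99) (.leaf 0x9a)) (.node 1 (.leaf 0x9d) (.leaf 0xb7)))))) (.node 16 (.node 8 (.node 4 (.node 2 (.node 1 (.leaf 0x78) (.leaf 0x77)) (.node 1 (.leaf 0x79) (.leaf 0xb3))) (.node 2 (.node 1 (.leaf 0xc1) (.leaf 0xc7)) (.node 1 (.leaf 0xbc) (.leaf 0x7a)))) (.node 4 (.node 2 (.node 1 (.leaf 0xba) (.leaf 0x76)) (.node 1 (.leaf 0x4e) (.leaf 0xff))) (.node 2 (.node 1 (.leaf 0xeb) (.leaf 0xb8)) (.node 1 (.leaf 0xfe) (.leaf 0x85))))) (.node 8 (.node 4 (.node 2 (.node 1 (.leaf 0x87) (.leaf 0xef)) (.node 1 (.leaf 0x84) (.leaf 0xb9))) (.node 2 (.node 1 (.leaf 0xad) (.leaf 0x86)) (.node 1 (.leaf 0x109) (.leaf 0x10a)))) (.node 4 (.node 2 (.node 1 (.leaf 0x10b) (.leaf 0x108)) (.node 1 (.leaf 0x94) (.leaf 0xae))) (.node 2 (.node 1 (.leaf 0xd6) (.leaf 0x91)) (.node 1 (.leaf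 0x56) (.leaf 0x5f))))))) (.node 32 (.node 16 (.node 8 (.node 4 (.node 2 (.node 1 (.leaf 0x75) (.leaf 0xe7)) (.node 1 (.leaf 0xd0) (.leaf 0x90))) (.node 2 (.node 1 (.leaf 0xf9) (.leaf 0xec)) (.node 1 (.leaf 0xaf) (.leaf 0xed)))) (.node 4 (.node 2 (.node 1 (.leaf 0x10d) (.leaf 0xe6)) (.node 1 (.leaf 0x105) (.leaf 0x107))) (.node 2 (.node 1 (.leaf 0x106) (.leaf 0x58)) (.node 1 (.leaf 0x59) (.leaf 0x5a))))) (.node 8 (.node 4 (.node 2 (.node 1 (.leaf 0x5b) (.leaf 0x11e)) (.node 1 (.leaf 0xdd) (.leaf 0xd5))) (.node 2 (.node 1 (.leaf 0x113) (.leaf 0x115)) (.node 1 (.leaf 0x114) (.leaf 0xc0)))) (.node 4 (.node 2 (.node 1 (.leaf 0xd9) (.leaf 0xdb)) (.node 1 (.leaf 0xf0) (.leaf 0xc5))) (.node 2 (.node 1 (.leaf 0xee) (.leaf 0xf8)) (.node 1 (.leaf 0x12d) (.leaf 0x12a)))))) (.node 16 (.node 8 (.node 4 (.node 2 (.node 1 (.leaf 0x127) (.leaf 0x8d)) (.node 1 (.leaf 0x8f) (.leaf 0x8e))) (.node 2 (.node 1 (.leaf 0xf1) (.leaf 0xd8)) (.node 1 (.leaf 0x83)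 (.leaf 0x102)))) (.node 4 (.node 2 (.node 1 (.leaf 0x126) (.leaf 0x128)) (.node 1 (.leaf 0xc2) (.leaf 0xbf))) (.node 2 (.node 1 (.leaf 0x104) (.leaf 0x98)) (.node 1 (.leaf 0xfb) (.leaf 0x11f))))) (.node 8 (.node 4 (.node 2 (.node 1 (.leaf 0x100) (.leaf 0xde)) (.node 1 (.leaf 0xe0) (.leaf 0xdf))) (.node 2 (.node 1 (.leaf 0xcd) (.leaf 0xca)) (.node 1 (.leaf 0xcb) (.leaf 0xcc)))) (.node 4 (.node 2 (.node 1 (.leaf 0x112) (.leaf 0xdc)) (.node 1 (.leaf 0x96) (.leaf 0x11b))) (.node 2 (.node 1 (.leaf 0x11c) (.leaf 0x11d)) (.node 1 (.leaf 0x10c) (.leaf 0xe8)))))))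

def conjD_12 : Tree :=
  .node 64 (.node 32 (.node 16 (.node 8 (.node 4 (.node 2 (.node 1 (.leaf 0xea) (.leaf 0xe9)) (.node 1 (.leaf 0x129) (.leaf 0x132))) (.node 2 (.node 1 (.leaf 0x9f) (.leaf 0xa0)) (.node 1 (.leaf 0xa1) (.leaf 0x10f)))) (.node 4 (.node 2 (.node 1 (.leaf 0x110) (.leaf 0x111)) (.node 1 (.leaf 0xe5) (.leaf 0x103))) (.node 2 (.node 1 (.leaf 0x123) (.leaf 0x124)) (.node 1 (.leaf 0x125) (.leaf 0x120))))) (.node 8 (.node 4 (.node 2 (.node 1 (.leaf 0x121) (.leaf 0x122)) (.node 1 (.leaf 0xfc) (.leaf 0xf4))) (.node 2 (.node 1 (.leaf 0xfd) (.leaf 0x116)) (.node 1 (.leaf 0xf3) (.leaf 0x12f)))) (.node 4 (.node 2 (.node 1 (.leaf 0x12e) (.leaf 0xf2)) (.node 1 (.leaf 0x12c) (.leaf 0x12b))) (.node 2 (.node 1 (.leaf 0x139) (.leaf 0x138)) (.node 1 (.leaf 0x117) (.leaf 0x13a)))))) (.node 16 (.node 8 (.node 4 (.node 2 (.node 1 (.leaf 0x137) (.leaf 0x136)) (.node 1 (.leaf 0x135) (.leaf 0x134))) (.node 2 (.node 1 (.leaf 0x131) (.leaf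 0x130)) (.node 1 (.leaf 0x133) (.leaf 0x130)))) (.node 4 (.node 2 (.node 1 (.leaf 0x47) (.leaf 0x53)) (.node 1 (.leaf 0x12) (.leaf 0x138))) (.node 2 (.node 1 (.leaf 0x6f) (.leaf 0x96)) (.node 1 (.leaf 0x85) (.leaf 0x94))))) (.node 8 (.node 4 (.node 2 (.node 1 (.leaf 0x5c) (.leaf 0x70)) (.node 1 (.leaf 0xe1) (.leaf 0x10f))) (.node 2 (.node 1 (.leaf 0x62) (.leaf 0x2a)) (.node 1 (.leaf 0x139) (.leaf 0x10)))) (.node 4 (.node 2 (.node 1 (.leaf 0x122) (.leaf 0x3)) (.node 1 (.leaf 0x7c) (.leaf 0x99))) (.node 2 (.node 1 (.leaf 0xea) (.leaf 0x46)) (.node 1 (.leaf 0x11b) (.leaf 0x18))))))) (.node 32 (.node 16 (.node 8 (.node 4 (.node 2 (.node 1 (.leaf 0x19) (.leaf 0x1a)) (.node 1 (.leaf 0x6a) (.leaf 0x1c))) (.node 2 (.node 1 (.leaf 0x50) (.leaf 0x71)) (.node 1 (.leaf 0x76) (.leaf 0x100)))) (.node 4 (.node 2 (.node 1 (.leaf 0x117) (.leaf 0x114)) (.node 1 (.leaf 0x23) (.leaf 0x24))) (.node 2 (.node 1 (.leaf 0x58) (.leaf 0x8f)) (.node 1 (.leaf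 0x82) (.leaf 0xe8))))) (.node 8 (.node 4 (.node 2 (.node 1 (.leaf 0x111) (.leaf 0xe)) (.node 1 (.leaf 0xf6) (.leaf 0x118))) (.node 2 (.node 1 (.leaf 0x6d) (.leaf 0x88)) (.node 1 (.leaf 0x55) (.leaf 0xb2)))) (.node 4 (.node 2 (.node 1 (.leaf 0xb5) (.leaf 0x9f)) (.node 1 (.leaf 0xc0) (.leaf 0x5d))) (.node 2 (.node 1 (.leaf 0x56) (.leaf 0x126)) (.node 1 (.leaf 0x12d) (.leaf 0x9e)))))) (.node 16 (.node 8 (.node 4 (.node 2 (.node 1 (.leaf 0x9d) (.leaf 0xfc)) (.node 1 (.leaf 0x3b) (.leaf 0xfd))) (.node 2 (.node 1 (.leaf 0xc8) (.leaf 0xeb)) (.node 1 (.leaf 0xd2) (.leaf 0xbd)))) (.node 4 (.node 2 (.node 1 (.leaf 0x113) (.leaf 0x115)) (.node 1 (.leaf 0x11c) (.leaf 0xe9))) (.node 2 (.node 1 (.leaf 0x110) (.leaf 0x16)) (.node 1 (.leaf 0x1) (.leaf 0xc9))))) (.node 8 (.node 4 (.node 2 (.node 1 (.leaf 0x49) (.leaf 0x127)) (.node 1 (.leaf 0xee) (.leaf 0x4c))) (.node 2 (.node 1 (.leaf 0xd7) (.leaf 0x12f)) (.node 1 (.leaf 0x107) (.leaf 0x1d)))) (.node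 4 (.node 2 (.node 1 (.leaf 0x12c) (.leaf 0x8a)) (.node 1 (.leaf 0x2) (.leaf 0x65))) (.node 2 (.node 1 (.leaf 0x2f) (.leaf 0x35)) (.node 1 (.leaf 0x77) (.leaf 0x25)))))))

def conjD_13 : Tree :=
  .node 64 (.node 32 (.node 16 (.node 8 (.node 4 (.node 2 (.node 1 (.leaf 0xec) (.leaf 0x10b)) (.node 1 (.leaf 0x12b) (.leaf 0x9))) (.node 2 (.node 1 (.leaf 0x34) (.leaf 0x6e)) (.node 1 (.leaf 0x5f) (.leaf 0xda)))) (.node 4 (.node 2 (.node 1 (.leaf 0x92) (.leaf 0xd)) (.node 1 (.leaf 0xfe) (.leaf 0x64))) (.node 2 (.node 1 (.leaf 0x54) (.leaf 0xc3)) (.node 1 (.leaf 0x104) (.leaf 0x136))))) (.node 8 (.node 4 (.node 2 (.node 1 (.leaf 0x109) (.leaf 0x1b)) (.node 1 (.leaf 0x78) (.leaf 0x87))) (.node 2 (.node 1 (.leaf 0x2d) (.leaf 0x5e)) (.node 1 (.leaf 0x5) (.leaf 0xa)))) (.node 4 (.node 2 (.node 1 (.leaf 0x1e) (.leaf 0x137)) (.node 1 (.leaf 0x11f) (.leaf 0x105))) (.node 2 (.node 1 (.leaf 0x75) (.leaf 0x1f)) (.node 1 (.leaf 0x57) (.leaf 0x6b))))))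 (.node 16 (.node 8 (.node 4 (.node 2 (.node 1 (.leaf 0xb9) (.leaf 0x86)) (.node 1 (.leaf 0xcf) (.leaf 0x13))) (.node 2 (.node 1 (.leaf 0x8d) (.leaf 0xd9)) (.node 1 (.leaf 0xb6) (.leaf 0xdd)))) (.node 4 (.node 2 (.node 1 (.leaf 0xe3) (.leaf 0x27)) (.node 1 (.leaf 0x120) (.leaf 0x90))) (.node 2 (.node 1 (.leaf 0x7) (.leaf 0x7a)) (.node 1 (.leaf 0x6c) (.leaf 0x2e))))) (.node 8 (.node 4 (.node 2 (.node 1 (.leaf 0x128) (.leaf 0x52)) (.node 1 (.leaf 0xdb) (.leaf 0x123))) (.node 2 (.node 1 (.leaf 0x7d) (.leaf 0xf3)) (.node 1 (.leaf 0x26) (.leaf 0x84)))) (.node 4 (.node 2 (.node 1 (.leaf 0x91) (.leaf 0x61)) (.node 1 (.leaf 0xe7) (.leaf 0x8))) (.node 2 (.node 1 (.leaf 0xf2) (.leaf 0x6)) (.node 1 (.leaf 0x132) (.leaf 0xab))))))) (.node 32 (.node 16 (.node 8 (.node 4 (.node 2 (.node 1 (.leaf 0x14) (.leaf 0x9a)) (.node 1 (.leaf 0xa9) (.leaf 0x124))) (.node 2 (.node 1 (.leaf 0x39) (.leaf 0x38)) (.node 1 (.leaf 0x32) (.leaf 0xdc)))) (.node 4 (.node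 2 (.node 1 (.leaf 0xe4) (.leaf 0xa2)) (.node 1 (.leaf 0xa5) (.leaf 0xa4))) (.node 2 (.node 1 (.leaf 0xa3) (.leaf 0xf9)) (.node 1 (.leaf 0xa7) (.leaf 0x11e))))) (.node 8 (.node 4 (.node 2 (.node 1 (.leaf 0x9b) (.leaf 0xb8)) (.node 1 (.leaf 0x98) (.leaf 0xac))) (.node 2 (.node 1 (.leaf 0xef) (.leaf 0x10e)) (.node 1 (.leaf 0xce) (.leaf 0x11d)))) (.node 4 (.node 2 (.node 1 (.leaf 0xb1) (.leaf 0x30)) (.node 1 (.leaf 0xf5) (.leaf 0xd0))) (.node 2 (.node 1 (.leaf 0x31) (.leaf 0x7f)) (.node 1 (.leaf 0x134) (.leaf 0xaa)))))) (.node 16 (.node 8 (.node 4 (.node 2 (.node 1 (.leaf 0x79) (.leaf 0xdf)) (.node 1 (.leaf 0xf0) (.leaf 0x135))) (.node 2 (.node 1 (.leaf 0x40) (.leaf 0x11a)) (.node 1 (.leaf 0x121) (.leaf 0x33)))) (.node 4 (.node 2 (.node 1 (.leaf 0xf1) (.leaf 0xf8)) (.node 1 (.leaf 0x66) (.leaf 0xcc))) (.node 2 (.node 1 (.leaf 0xd8) (.leaf 0xf4)) (.node 1 (.leaf 0xde) (.leaf 0x3d))))) (.node 8 (.node 4 (.node 2 (.node 1 (.leaf 0x48) (.leaf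 0x116)) (.node 1 (.leaf 0xe0) (.leaf 0xc4))) (.node 2 (.node 1 (.leaf 0x112) (.leaf 0xaf)) (.node 1 (.leaf 0x7b) (.leaf 0xb4)))) (.node 4 (.node 2 (.node 1 (.leaf 0xd1) (.leaf 0x3f)) (.node 1 (.leaf 0xd3) (.leaf 0xd4))) (.node 2 (.node 1 (.leaf 0xfa) (.leaf 0xe6)) (.node 1 (.leaf 0x4d) (.leaf 0xc5)))))))

def conjD_14 : Tree :=
  .node 64 (.node 32 (.node 16 (.node 8 (.node 4 (.node 2 (.node 1 (.leaf 0x7e) (.leaf 0x60)) (.node 1 (.leaf 0x8b) (.leaf 0xa0))) (.node 2 (.node 1 (.leaf 0x80) (.leaf 0xc7)) (.node 1 (.leaf 0xba) (.leaf 0xcb)))) (.node 4 (.node 2 (.node 1 (.leaf 0xb) (.leaf 0x103)) (.node 1 (.leaf 0x81) (.leaf 0xa1))) (.node 2 (.node 1 (.leaf 0xff) (.leaf 0xd6)) (.node 1 (.leaf 0x93) (.leaf 0x28))))) (.node 8 (.node 4 (.node 2 (.node 1 (.leaf 0x44) (.leaf 0x15)) (.node 1 (.leaf 0x3e) (.leaf 0x59))) (.node 2 (.node 1 (.leaf 0x101) (.leaf 0x4b)) (.node 1 (.leaf 0xad) (.leaf 0xbb)))) (.node 4 (.node 2 (.node 1 (.leaf 0xc1) (.leaf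 0x95)) (.node 1 (.leaf 0x8e) (.leaf 0xc6))) (.node 2 (.node 1 (.leaf 0xb3) (.leaf 0x2b)) (.node 1 (.leaf 0x119) (.leaf 0xc2)))))) (.node 16 (.node 8 (.node 4 (.node 2 (.node 1 (.leaf 0xa6) (.leaf 0xd5)) (.node 1 (.leaf 0xfb) (.leaf 0x3a))) (.node 2 (.node 1 (.leaf 0x3c) (.leaf 0x63)) (.node 1 (.leaf 0xe5) (.leaf 0x20)))) (.node 4 (.node 2 (.node 1 (.leaf 0xed) (.leaf 0x102)) (.node 1 (.leaf 0xe2) (.leaf 0x67))) (.node 2 (.node 1 (.leaf 0x74) (.leaf 0x108)) (.node 1 (.leaf 0x4f) (.leaf 0x106))))) (.node 8 (.node 4 (.node 2 (.node 1 (.leaf 0x69) (.leaf 0x10c)) (.node 1 (.leaf 0x5a) (.leaf 0x10a))) (.node 2 (.node 1 (.leaf 0x12a) (.leaf 0xae)) (.node 1 (.leaf 0xc) (.leaf 0x45)))) (.node 4 (.node 2 (.node 1 (.leaf 0x29) (.leaf 0xcd)) (.node 1 (.leaf 0x41) (.leaf 0x22))) (.node 2 (.node 1 (.leaf 0x42) (.leaf 0xca)) (.node 1 (.leaf 0x21) (.leaf 0x2c))))))) (.node 32 (.node 16 (.node 8 (.node 4 (.node 2 (.node 1 (.leaf 0xf7) (.leaf 0xbe))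 (.node 1 (.leaf 0x17) (.leaf 0x43))) (.node 2 (.node 1 (.leaf 0xb0) (.leaf 0xa8)) (.node 1 (.leaf 0x73) (.leaf 0x83)))) (.node 4 (.node 2 (.node 1 (.leaf 0xbf) (.leaf 0x11)) (.node 1 (.leaf 0x8c) (.leaf 0x9c))) (.node 2 (.node 1 (.leaf 0x131) (.leaf 0x36)) (.node 1 (.leaf 0x4a) (.leaf 0x89))))) (.node 8 (.node 4 (.node 2 (.node 1 (.leaf 0x12e) (.leaf 0x10d)) (.node 1 (.leaf 0x5b) (.leaf 0x51))) (.node 2 (.node 1 (.leaf 0x37) (.leaf 0x129)) (.node 1 (.leaf 0x4e) (.leaf 0x0)))) (.node 4 (.node 2 (.node 1 (.leaf 0x125) (.leaf 0x97)) (.node 1 (.leaf 0x133) (.leaf 0xb7))) (.node 2 (.node 1 (.leaf 0xbc) (.leaf 0x68)) (.node 1 (.leaf 0x72) (.leaf 0x4)))))) (.node 16 (.node 8 (.node 4 (.node 2 (.node 1 (.leaf 0xf) (.leaf 0x13a)) (.node 1 (.leaf 0x0) (.leaf 0x1))) (.node 2 (.node 1 (.leaf 0x2) (.leaf 0x3)) (.node 1 (.leaf 0x4) (.leaf 0x5)))) (.node 4 (.node 2 (.node 1 (.leaf 0x6) (.leaf 0x7)) (.node 1 (.leaf 0x8) (.leaf 0x9))) (.node 2 (.node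 1 (.leaf 0xa) (.leaf 0xe)) (.node 1 (.leaf 0xd) (.leaf 0xc))))) (.node 8 (.node 4 (.node 2 (.node 1 (.leaf 0xb) (.leaf 0xf)) (.node 1 (.leaf 0x10) (.leaf 0x11))) (.node 2 (.node 1 (.leaf 0x12) (.leaf 0x16)) (.node 1 (.leaf 0x15) (.leaf 0x14)))) (.node 4 (.node 2 (.node 1 (.leaf 0x13) (.leaf 0xa9)) (.node 1 (.leaf 0x133) (.leaf 0x19))) (.node 2 (.node 1 (.leaf 0x1a) (.leaf 0xd6)) (.node 1 (.leaf 0x13a) (.leaf 0xe6)))))))

def conjD_15 : Tree :=
  .node 64 (.node 32 (.node 16 (.node 8 (.node 4 (.node 2 (.node 1 (.leaf 0x9e) (.leaf 0xe9)) (.node 1 (.leaf 0xe8) (.leaf 0xea))) (.node 2 (.node 1 (.leaf 0x104) (.leaf 0xd0)) (.node 1 (.leaf 0xdd) (.leaf 0x100)))) (.node 4 (.node 2 (.node 1 (.leaf 0x12e) (.leaf 0x12f)) (.node 1 (.leaf 0x11d) (.leaf 0x11b))) (.node 2 (.node 1 (.leaf 0x11c) (.leaf 0x101)) (.node 1 (.leaf 0xc2) (.leaf 0xd8))))) (.node 8 (.node 4 (.node 2 (.node 1 (.leaf 0x52) (.leaf 0x66)) (.node 1 (.leaf 0x117) (.leaf 0x134)))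 (.node 2 (.node 1 (.leaf 0x135) (.leaf 0x12b)) (.node 1 (.leaf 0x12c) (.leaf 0x136)))) (.node 4 (.node 2 (.node 1 (.leaf 0x137) (.leaf 0x10f)) (.node 1 (.leaf 0x110) (.leaf 0x111))) (.node 2 (.node 1 (.leaf 0xf9) (.leaf 0xa0)) (.node 1 (.leaf 0xa1) (.leaf 0x9f)))))) (.node 16 (.node 8 (.node 4 (.node 2 (.node 1 (.leaf 0xee) (.leaf 0x98)) (.node 1 (.leaf 0x12d) (.leaf 0xf2))) (.node 2 (.node 1 (.leaf 0x71) (.leaf 0x132)) (.node 1 (.leaf 0x114) (.leaf 0x115)))) (.node 4 (.node 2 (.node 1 (.leaf 0x113) (.leaf 0x85)) (.node 1 (.leaf 0x8f) (.leaf 0x8e))) (.node 2 (.node 1 (.leaf 0x8d) (.leaf 0x10b)) (.node 1 (.leaf 0x10a) (.leaf 0x109))))) (.node 8 (.node 4 (.node 2 (.node 1 (.leaf 0x90) (.leaf 0x6d)) (.node 1 (.leaf 0x6b) (.leaf 0x6c))) (.node 2 (.node 1 (.leaf 0x2e) (.leaf 0x6f)) (.node 1 (.leaf 0x6e) (.leaf 0x88)))) (.node 4 (.node 2 (.node 1 (.leaf 0x7a) (.leaf 0xf0)) (.node 1 (.leaf 0xb0) (.leaf 0xe0))) (.node 2 (.node 1 (.leaf 0xdf)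 (.leaf 0xde)) (.node 1 (.leaf 0x9c) (.leaf 0xef))))))) (.node 32 (.node 16 (.node 8 (.node 4 (.node 2 (.node 1 (.leaf 0xb7) (.leaf 0xd1)) (.node 1 (.leaf 0x7b) (.leaf 0xb3))) (.node 2 (.node 1 (.leaf 0xbd) (.leaf 0xb6)) (.node 1 (.leaf 0xb4) (.leaf 0xb5)))) (.node 4 (.node 2 (.node 1 (.leaf 0x2f) (.leaf 0x76)) (.node 1 (.leaf 0x79) (.leaf 0x77))) (.node 2 (.node 1 (.leaf 0x78) (.leaf 0x50)) (.node 1 (.leaf 0x51) (.leaf 0x4f))))) (.node 8 (.node 4 (.node 2 (.node 1 (.leaf 0x54) (.leaf 0x53)) (.node 1 (.leaf 0x8c) (.leaf 0x42))) (.node 2 (.node 1 (.leaf 0xcc) (.leaf 0xcb)) (.node 1 (.leaf 0xca) (.leaf 0xd3)))) (.node 4 (.node 2 (.node 1 (.leaf 0x67) (.leaf 0x69)) (.node 1 (.leaf 0x6a) (.leaf 0x68))) (.node 2 (.node 1 (.leaf 0x56) (.leaf 0x60)) (.node 1 (.leaf 0x95) (.leaf 0xf6)))))) (.node 16 (.node 8 (.node 4 (.node 2 (.node 1 (.leaf 0xf7) (.leaf 0xf5)) (.node 1 (.leaf 0xac) (.leaf 0xab))) (.node 2 (.node 1 (.leaf 0xaa) (.leaf 0x94))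 (.node 1 (.leaf 0xb8) (.leaf 0x47)))) (.node 4 (.node 2 (.node 1 (.leaf 0xb9) (.leaf 0xad)) (.node 1 (.leaf 0x55) (.leaf 0xc9))) (.node 2 (.node 1 (.leaf 0xc3) (.leaf 0xc7)) (.node 1 (.leaf 0x70) (.leaf 0x4a))))) (.node 8 (.node 4 (.node 2 (.node 1 (.leaf 0x49) (.leaf 0x48)) (.node 1 (.leaf 0x4e) (.leaf 0xa2))) (.node 2 (.node 1 (.leaf 0xfe) (.leaf 0xa8)) (.node 1 (.leaf 0x83) (.leaf 0x7c)))) (.node 4 (.node 2 (.node 1 (.leaf 0xbf) (.leaf 0xe1)) (.node 1 (.leaf 0x3f) (.leaf 0xb2))) (.node 2 (.node 1 (.leaf 0x108) (.leaf 0x9d)) (.node 1 (.leaf 0x5c) (.leaf 0x9b)))))))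

def conjD_16 : Tree :=
  .node 64 (.node 32 (.node 16 (.node 8 (.node 4 (.node 2 (.node 1 (.leaf 0x1e) (.leaf 0x3d)) (.node 1 (.leaf 0x3b) (.leaf 0x3c))) (.node 2 (.node 1 (.leaf 0x91) (.leaf 0xc5)) (.node 1 (.leaf 0x106) (.leaf 0x107)))) (.node 4 (.node 2 (.node 1 (.leaf 0x105) (.leaf 0xd4)) (.node 1 (.leaf 0x93) (.leaf 0x17))) (.node 2 (.node 1 (.leaf 0x82) (.leaf 0x81)) (.node 1 (.leaf 0x80) (.leaf 0x87))))) (.node 8 (.node 4 (.node 2 (.node 1 (.leaf 0xe5) (.leaf 0xd5)) (.node 1 (.leaf 0x58) (.leaf 0xf3))) (.node 2 (.node 1 (.leaf 0x99) (.leaf 0x61)) (.node 1 (.leaf 0x64) (.leaf 0x65)))) (.node 4 (.node 2 (.node 1 (.leaf 0x63) (.leaf 0x5e)) (.node 1 (.leaf 0x84) (.leaf 0x86))) (.node 2 (.node 1 (.leaf 0xeb) (.leaf 0xd7)) (.node 1 (.leaf 0xf4) (.leaf 0x62)))))) (.node 16 (.node 8 (.node 4 (.node 2 (.node 1 (.leaf 0xd2) (.leaf 0x96)) (.node 1 (.leaf 0xdb) (.leaf 0xc4))) (.node 2 (.node 1 (.leaf 0x2c) (.leaf 0x8a)) (.node 1 (.leaf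 0xc1) (.leaf 0xa3)))) (.node 4 (.node 2 (.node 1 (.leaf 0xc8) (.leaf 0x8b)) (.node 1 (.leaf 0xc6) (.leaf 0x89))) (.node 2 (.node 1 (.leaf 0x74) (.leaf 0x73)) (.node 1 (.leaf 0x72) (.leaf 0xec))))) (.node 8 (.node 4 (.node 2 (.node 1 (.leaf 0x10e) (.leaf 0xe7)) (.node 1 (.leaf 0x23) (.leaf 0x5f))) (.node 2 (.node 1 (.leaf 0xbe) (.leaf 0x75)) (.node 1 (.leaf 0xa7) (.leaf 0xaf)))) (.node 4 (.node 2 (.node 1 (.leaf 0x1b) (.leaf 0xbb)) (.node 1 (.leaf 0x2d) (.leaf 0x12a))) (.node 2 (.node 1 (.leaf 0x11e) (.leaf 0xc0)) (.node 1 (.leaf 0xfb) (.leaf 0x24))))))) (.node 32 (.node 16 (.node 8 (.node 4 (.node 2 (.node 1 (.leaf 0x5b) (.leaf 0x5a)) (.node 1 (.leaf 0x59) (.leaf 0x97))) (.node 2 (.node 1 (.leaf 0x119) (.leaf 0x11a)) (.node 1 (.leaf 0x118) (.leaf 0xae)))) (.node 4 (.node 2 (.node 1 (.leaf 0x1d) (.leaf 0xcf)) (.node 1 (.leaf 0x20) (.leaf 0x1f))) (.node 2 (.node 1 (.leaf 0x21) (.leaf 0xba)) (.node 1 (.leaf 0xcd) (.leaf 0x127))))) (.node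 8 (.node 4 (.node 2 (.node 1 (.leaf 0x3e) (.leaf 0x5d)) (.node 1 (.leaf 0x57) (.leaf 0x126))) (.node 2 (.node 1 (.leaf 0x41) (.leaf 0xb1)) (.node 1 (.leaf 0xbc) (.leaf 0x7f)))) (.node 4 (.node 2 (.node 1 (.leaf 0x7d) (.leaf 0x7e)) (.node 1 (.leaf 0xfd) (.leaf 0x3a))) (.node 2 (.node 1 (.leaf 0xff) (.leaf 0xdc)) (.node 1 (.leaf 0x116) (.leaf 0xf8)))))) (.node 16 (.node 8 (.node 4 (.node 2 (.node 1 (.leaf 0x92) (.leaf 0xfa)) (.node 1 (.leaf 0x25) (.leaf 0x2b))) (.node 2 (.node 1 (.leaf 0x10c) (.leaf 0x10d)) (.node 1 (.leaf 0x22) (.leaf 0xa6)))) (.node 4 (.node 2 (.node 1 (.leaf 0xa4) (.leaf 0xa5)) (.node 1 (.leaf 0x9a) (.leaf 0x4d))) (.node 2 (.node 1 (.leaf 0x4c) (.leaf 0x4b)) (.node 1 (.leaf 0x102) (.leaf 0x103))))) (.node 8 (.node 4 (.node 2 (.node 1 (.leaf 0xce) (.leaf 0x37)) (.node 1 (.leaf 0x38) (.leaf 0x39))) (.node 2 (.node 1 (.leaf 0x11f) (.leaf 0x46)) (.node 1 (.leaf 0x44) (.leaf 0x45)))) (.node 4 (.node 2 (.node 1 (.leaf 0xfc)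 (.leaf 0x30)) (.node 1 (.leaf 0xe4) (.leaf 0xe2))) (.node 2 (.node 1 (.leaf 0xe3) (.leaf 0x29)) (.node 1 (.leaf 0x2a) (.leaf 0x28)))))))

def conjD_17 : Tree :=
  .node 64 (.node 32 (.node 16 (.node 8 (.node 4 (.node 2 (.node 1 (.leaf 0xda) (.leaf 0x112)) (.node 1 (.leaf 0x120) (.leaf 0x121))) (.node 2 (.node 1 (.leaf 0x122) (.leaf 0x123)) (.node 1 (.leaf 0x124) (.leaf 0x125)))) (.node 4 (.node 2 (.node 1 (.leaf 0xf1) (.leaf 0xed)) (.node 1 (.leaf 0x129) (.leaf 0x128))) (.node 2 (.node 1 (.leaf 0xd9) (.leaf 0x33)) (.node 1 (.leaf 0x34) (.leaf 0x40))))) (.node 8 (.node 4 (.node 2 (.node 1 (.leaf 0x26) (.leaf 0x27)) (.node 1 (.leaf 0x130) (.leaf 0x131))) (.node 2 (.node 1 (.leaf 0x43) (.leaf 0x18)) (.node 1 (.leaf 0x31) (.leaf 0x32)))) (.node 4 (.node 2 (.node 1 (.leaf 0x35) (.leaf 0x36)) (.node 1 (.leaf 0x138) (.leaf 0x139))) (.node 2 (.node 1 (.leaf 0x1c) (.leaf 0x0)) (.node 1 (.leaf 0x5) (.leaf 0x7)))))) (.node 16 (.node 8 (.node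 4 (.node 2 (.node 1 (.leaf 0x3) (.leaf 0x4)) (.node 1 (.leaf 0x1) (.leaf 0x120))) (.node 2 (.node 1 (.leaf 0x2) (.leaf 0x121)) (.node 1 (.leaf 0x123) (.leaf 0x124)))) (.node 4 (.node 2 (.node 1 (.leaf 0x41) (.leaf 0x30)) (.node 1 (.leaf 0x117) (.leaf 0xf2))) (.node 2 (.node 1 (.leaf 0xf) (.leaf 0x10)) (.node 1 (.leaf 0x11) (.leaf 0x12))))) (.node 8 (.node 4 (.node 2 (.node 1 (.leaf 0x43) (.leaf 0x12d)) (.node 1 (.leaf 0x40) (.leaf 0x132))) (.node 2 (.node 1 (.leaf 0x1f) (.leaf 0x18)) (.node 1 (.leaf 0x19) (.leaf 0x1a)))) (.node 4 (.node 2 (.node 1 (.leaf 0x6a) (.leaf 0x1c)) (.node 1 (.leaf 0x50) (.leaf 0x28))) (.node 2 (.node 1 (.leaf 0x17) (.leaf 0x42)) (.node 1 (.leaf 0x62) (.leaf 0x39))))))) (.node 32 (.node 16 (.node 8 (.node 4 (.node 2 (.node 1 (.leaf 0xac) (.leaf 0x64)) (.node 1 (.leaf 0x45) (.leaf 0xc6))) (.node 2 (.node 1 (.leaf 0x6e) (.leaf 0x1e)) (.node 1 (.leaf 0x67) (.leaf 0x95)))) (.node 4 (.node 2 (.node 1 (.leaf 0x3c)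 (.leaf 0x4a)) (.node 1 (.leaf 0x4d) (.leaf 0x52))) (.node 2 (.node 1 (.leaf 0x66) (.leaf 0xc)) (.node 1 (.leaf 0x84) (.leaf 0x89))))) (.node 8 (.node 4 (.node 2 (.node 1 (.leaf 0xc4) (.leaf 0xb9)) (.node 1 (.leaf 0x87) (.leaf 0xc7))) (.node 2 (.node 1 (.leaf 0x99) (.leaf 0xb0)) (.node 1 (.leaf 0x22) (.leaf 0x5a)))) (.node 4 (.node 2 (.node 1 (.leaf 0xb1) (.leaf 0x2b)) (.node 1 (.leaf 0x129) (.leaf 0x74))) (.node 2 (.node 1 (.leaf 0x7f) (.leaf 0x15)) (.node 1 (.leaf 0xb) (.leaf 0x20)))))) (.node 16 (.node 8 (.node 4 (.node 2 (.node 1 (.leaf 0x13) (.leaf 0x9b)) (.node 1 (.leaf 0x25) (.leaf 0x97))) (.node 2 (.node 1 (.leaf 0x6f) (.leaf 0xbc)) (.node 1 (.leaf 0xfb) (.leaf 0x2c)))) (.node 4 (.node 2 (.node 1 (.leaf 0x116) (.leaf 0x9a)) (.node 1 (.leaf 0x2d) (.leaf 0x65))) (.node 2 (.node 1 (.leaf 0xbb) (.leaf 0x1d)) (.node 1 (.leaf 0x7a) (.leaf 0x2e))))) (.node 8 (.node 4 (.node 2 (.node 1 (.leaf 0x85) (.leaf 0x12f)) (.node 1 (.leaf 0xc3)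 (.leaf 0x6c))) (.node 2 (.node 1 (.leaf 0xa5) (.leaf 0x110)) (.node 1 (.leaf 0xec) (.leaf 0x3a)))) (.node 4 (.node 2 (.node 1 (.leaf 0xf1) (.leaf 0x8c)) (.node 1 (.leaf 0x79) (.leaf 0x82))) (.node 2 (.node 1 (.leaf 0x5f) (.leaf 0xa8)) (.node 1 (.leaf 0x81) (.leaf 0x21)))))))

def conjD_18 : Tree :=
  .node 64 (.node 32 (.node 16 (.node 8 (.node 4 (.node 2 (.node 1 (.leaf 0xbe) (.leaf 0x24)) (.node 1 (.leaf 0x4e) (.leaf 0x2f))) (.node 2 (.node 1 (.leaf 0x29) (.leaf 0xef)) (.node 1 (.leaf 0xc5) (.leaf 0x1b)))) (.node 4 (.node 2 (.node 1 (.leaf 0xe6) (.leaf 0x56)) (.node 1 (.leaf 0xd7) (.leaf 0x27))) (.node 2 (.node 1 (.leaf 0x47) (.leaf 0x9c)) (.node 1 (.leaf 0xe8) (.leaf 0xdb))))) (.node 8 (.node 4 (.node 2 (.node 1 (.leaf 0x11f) (.leaf 0x3e)) (.node 1 (.leaf 0x75) (.leaf 0x11b))) (.node 2 (.node 1 (.leaf 0xa3) (.leaf 0xd6)) (.node 1 (.leaf 0x5d) (.leaf 0x51)))) (.node 4 (.node 2 (.node 1 (.leaf 0x93) (.leaf 0x11c)) (.node 1 (.leaf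 0xf8) (.leaf 0xd9))) (.node 2 (.node 1 (.leaf 0x3f) (.leaf 0xd0)) (.node 1 (.leaf 0x61) (.leaf 0x5e)))))) (.node 16 (.node 8 (.node 4 (.node 2 (.node 1 (.leaf 0x96) (.leaf 0x31)) (.node 1 (.leaf 0x53) (.leaf 0x12c))) (.node 2 (.node 1 (.leaf 0x35) (.leaf 0x8a)) (.node 1 (.leaf 0x32) (.leaf 0x88)))) (.node 4 (.node 2 (.node 1 (.leaf 0x137) (.leaf 0x5c)) (.node 1 (.leaf 0xc2) (.leaf 0xdc))) (.node 2 (.node 1 (.leaf 0xf4) (.leaf 0xb5)) (.node 1 (.leaf 0x91) (.leaf 0xe3))))) (.node 8 (.node 4 (.node 2 (.node 1 (.leaf 0x7b) (.leaf 0xbf)) (.node 1 (.leaf 0x2a) (.leaf 0x83))) (.node 2 (.node 1 (.leaf 0x46) (.leaf 0xf5)) (.node 1 (.leaf 0x37) (.leaf 0x4c)))) (.node 4 (.node 2 (.node 1 (.leaf 0x44) (.leaf 0x70)) (.node 1 (.leaf 0x114) (.leaf 0x11d))) (.node 2 (.node 1 (.leaf 0x128) (.leaf 0xf3)) (.node 1 (.leaf 0x101) (.leaf 0xa2))))))) (.node 32 (.node 16 (.node 8 (.node 4 (.node 2 (.node 1 (.leaf 0x77) (.leaf 0x102)) (.node 1 (.leaf 0x57)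 (.leaf 0xba))) (.node 2 (.node 1 (.leaf 0xa7) (.leaf 0x60)) (.node 1 (.leaf 0xe9) (.leaf 0xb7)))) (.node 4 (.node 2 (.node 1 (.leaf 0xb3) (.leaf 0x23)) (.node 1 (.leaf 0x136) (.leaf 0xe5))) (.node 2 (.node 1 (.leaf 0xd5) (.leaf 0x38)) (.node 1 (.leaf 0x3b) (.leaf 0x10f))))) (.node 8 (.node 4 (.node 2 (.node 1 (.leaf 0xab) (.leaf 0xdd)) (.node 1 (.leaf 0x90) (.leaf 0xd2))) (.node 2 (.node 1 (.leaf 0xaa) (.leaf 0x134)) (.node 1 (.leaf 0x34) (.leaf 0xa6)))) (.node 4 (.node 2 (.node 1 (.leaf 0x4f) (.leaf 0x48)) (.node 1 (.leaf 0xea) (.leaf 0x63))) (.node 2 (.node 1 (.leaf 0x94) (.leaf 0xcc)) (.node 1 (.leaf 0x12b) (.leaf 0x8d)))))) (.node 16 (.node 8 (.node 4 (.node 2 (.node 1 (.leaf 0x55) (.leaf 0x33)) (.node 1 (.leaf 0x69) (.leaf 0x26))) (.node 2 (.node 1 (.leaf 0x36) (.leaf 0x12e)) (.node 1 (.leaf 0x135) (.leaf 0xee)))) (.node 4 (.node 2 (.node 1 (.leaf 0x112) (.leaf 0xc0)) (.node 1 (.leaf 0xe0) (.leaf 0xfa))) (.node 2 (.node 1 (.leaf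 0xe7) (.leaf 0x80)) (.node 1 (.leaf 0xd1) (.leaf 0xb6))))) (.node 8 (.node 4 (.node 2 (.node 1 (.leaf 0xd3) (.leaf 0xd4)) (.node 1 (.leaf 0xaf) (.leaf 0x78))) (.node 2 (.node 1 (.leaf 0x6d) (.leaf 0x109)) (.node 1 (.leaf 0x7e) (.leaf 0x11e)))) (.node 4 (.node 2 (.node 1 (.leaf 0x72) (.leaf 0x8e)) (.node 1 (.leaf 0xb4) (.leaf 0x126))) (.node 2 (.node 1 (.leaf 0xf9) (.leaf 0xcd)) (.node 1 (.leaf 0x113) (.leaf 0x103)))))))

def conjD_19 : Tree :=
  .node 64 (.node 32 (.node 16 (.node 8 (.node 4 (.node 2 (.node 1 (.leaf 0x92) (.leaf 0xed)) (.node 1 (.leaf 0xae) (.leaf 0x6b))) (.node 2 (.node 1 (.leaf 0xcf) (.leaf 0x71)) (.node 1 (.leaf 0xa9) (.leaf 0xbd)))) (.node 4 (.node 2 (.node 1 (.leaf 0x105) (.leaf 0x59)) (.node 1 (.leaf 0xe4) (.leaf 0xca))) (.node 2 (.node 1 (.leaf 0x68) (.leaf 0x107)) (.node 1 (.leaf 0x5b) (.leaf 0xe))))) (.node 8 (.node 4 (.node 2 (.node 1 (.leaf 0xa0) (.leaf 0x8f)) (.node 1 (.leaf 0x98) (.leaf 0xfd))) (.node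 2 (.node 1 (.leaf 0x12a) (.leaf 0x7d)) (.node 1 (.leaf 0xdf) (.leaf 0xce)))) (.node 4 (.node 2 (.node 1 (.leaf 0x49) (.leaf 0x10b)) (.node 1 (.leaf 0xf6) (.leaf 0x11a))) (.node 2 (.node 1 (.leaf 0x10e) (.leaf 0x115)) (.node 1 (.leaf 0xa1) (.leaf 0xa4)))))) (.node 16 (.node 8 (.node 4 (.node 2 (.node 1 (.leaf 0xe2) (.leaf 0x111)) (.node 1 (.leaf 0xeb) (.leaf 0x10c))) (.node 2 (.node 1 (.leaf 0xf0) (.leaf 0x10a)) (.node 1 (.leaf 0xd8) (.leaf 0x108)))) (.node 4 (.node 2 (.node 1 (.leaf 0xfc) (.leaf 0x106)) (.node 1 (.leaf 0x119) (.leaf 0xff))) (.node 2 (.node 1 (.leaf 0xb2) (.leaf 0x58)) (.node 1 (.leaf 0x104) (.leaf 0xcb))))) (.node 8 (.node 4 (.node 2 (.node 1 (.leaf 0xe1) (.leaf 0x9d)) (.node 1 (.leaf 0x100) (.leaf 0x4b))) (.node 2 (.node 1 (.leaf 0xd) (.leaf 0x127)) (.node 1 (.leaf 0x10d) (.leaf 0xfe)))) (.node 4 (.node 2 (.node 1 (.leaf 0x76) (.leaf 0x7c)) (.node 1 (.leaf 0x9e) (.leaf 0xda))) (.node 2 (.node 1 (.leaf 0x73) (.leaf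 0x6)) (.node 1 (.leaf 0x8) (.leaf 0x122))))))) (.node 32 (.node 16 (.node 8 (.node 4 (.node 2 (.node 1 (.leaf 0x9) (.leaf 0xa)) (.node 1 (.leaf 0x125) (.leaf 0xde))) (.node 2 (.node 1 (.leaf 0x118) (.leaf 0x9f)) (.node 1 (.leaf 0x3d) (.leaf 0xf7)))) (.node 4 (.node 2 (.node 1 (.leaf 0xc1) (.leaf 0x86)) (.node 1 (.leaf 0x14) (.leaf 0xc8))) (.node 2 (.node 1 (.leaf 0x54) (.leaf 0x130)) (.node 1 (.leaf 0x131) (.leaf 0x16))))) (.node 8 (.node 4 (.node 2 (.node 1 (.leaf 0x133) (.leaf 0xb8)) (.node 1 (.leaf 0xc9) (.leaf 0xad))) (.node 2 (.node 1 (.leaf 0x8b) (.leaf 0x138)) (.node 1 (.leaf 0x139) (.leaf 0x13a)))) (.node 4 (.node 2 (.node 1 (.leaf 0x1e) (.leaf 0x23)) (.node 1 (.leaf 0x13) (.leaf 0xd5))) (.node 2 (.node 1 (.leaf 0xe7) (.leaf 0x5d)) (.node 1 (.leaf 0xeb) (.leaf 0x61)))))) (.node 16 (.node 8 (.node 4 (.node 2 (.node 1 (.leaf 0x7c) (.leaf 0x71)) (.node 1 (.leaf 0xc0) (.leaf 0x24))) (.node 2 (.node 1 (.leaf 0x18) (.leaf 0x4c))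 (.node 1 (.leaf 0x49) (.leaf 0x2e)))) (.node 4 (.node 2 (.node 1 (.leaf 0x22) (.leaf 0xa1)) (.node 1 (.leaf 0x11a) (.leaf 0x2))) (.node 2 (.node 1 (.leaf 0x12b) (.leaf 0x15)) (.node 1 (.leaf 0x12f) (.leaf 0x17))))) (.node 8 (.node 4 (.node 2 (.node 1 (.leaf 0xc) (.leaf 0x2b)) (.node 1 (.leaf 0x2d) (.leaf 0x1b))) (.node 2 (.node 1 (.leaf 0x1d) (.leaf 0x1c)) (.node 1 (.leaf 0x0) (.leaf 0x3c)))) (.node 4 (.node 2 (.node 1 (.leaf 0x60) (.leaf 0xcb)) (.node 1 (.leaf 0x10) (.leaf 0x1))) (.node 2 (.node 1 (.leaf 0xb) (.leaf 0x25)) (.node 1 (.leaf 0x26) (.leaf 0x27)))))))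

def conjD_20 : Tree :=
  .node 64 (.node 32 (.node 16 (.node 8 (.node 4 (.node 2 (.node 1 (.leaf 0x98) (.leaf 0x54)) (.node 1 (.leaf 0x55) (.leaf 0x19))) (.node 2 (.node 1 (.leaf 0x2c) (.leaf 0x1a)) (.node 1 (.leaf 0xf) (.leaf 0x2f)))) (.node 4 (.node 2 (.node 1 (.leaf 0x8f) (.leaf 0xd3)) (.node 1 (.leaf 0x5f) (.leaf 0x120))) (.node 2 (.node 1 (.leaf 0x123) (.leaf 0x9a)) (.node 1 (.leaf 0xb1) (.leaf 0x5c))))) (.node 8 (.node 4 (.node 2 (.node 1 (.leaf 0x10a) (.leaf 0xa5)) (.node 1 (.leaf 0x3a) (.leaf 0x134))) (.node 2 (.node 1 (.leaf 0x1f) (.leaf 0x85)) (.node 1 (.leaf 0x125) (.leaf 0x3f)))) (.node 4 (.node 2 (.node 1 (.leaf 0xf6) (.leaf 0x99)) (.node 1 (.leaf 0x62) (.leaf 0xb0))) (.node 2 (.node 1 (.leaf 0x47) (.leaf 0x101)) (.node 1 (.leaf 0x8b) (.leaf 0x44)))))) (.node 16 (.node 8 (.node 4 (.node 2 (.node 1 (.leaf 0x119) (.leaf 0xe)) (.node 1 (.leaf 0x4d) (.leaf 0xa0))) (.node 2 (.node 1 (.leaf 0xd) (.leaf 0x4a)) (.node 1 (.leaf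 0x87) (.leaf 0xbf)))) (.node 4 (.node 2 (.node 1 (.leaf 0xe2) (.leaf 0xf2)) (.node 1 (.leaf 0xae) (.leaf 0xb8))) (.node 2 (.node 1 (.leaf 0x29) (.leaf 0x2a)) (.node 1 (.leaf 0xd2) (.leaf 0x57))))) (.node 8 (.node 4 (.node 2 (.node 1 (.leaf 0x126) (.leaf 0x6a)) (.node 1 (.leaf 0xd8) (.leaf 0xad))) (.node 2 (.node 1 (.leaf 0x37) (.leaf 0x5)) (.node 1 (.leaf 0x5e) (.leaf 0x32)))) (.node 4 (.node 2 (.node 1 (.leaf 0x20) (.leaf 0x7)) (.node 1 (.leaf 0x42) (.leaf 0xb4))) (.node 2 (.node 1 (.leaf 0x135) (.leaf 0x96)) (.node 1 (.leaf 0xcf) (.leaf 0xd0))))))) (.node 32 (.node 16 (.node 8 (.node 4 (.node 2 (.node 1 (.leaf 0xff) (.leaf 0x12d)) (.node 1 (.leaf 0x59) (.leaf 0x94))) (.node 2 (.node 1 (.leaf 0xcd) (.leaf 0x6e)) (.node 1 (.leaf 0x6d) (.leaf 0xf7)))) (.node 4 (.node 2 (.node 1 (.leaf 0xe0) (.leaf 0x9)) (.node 1 (.leaf 0xa8) (.leaf 0x7e))) (.node 2 (.node 1 (.leaf 0x100) (.leaf 0x9d)) (.node 1 (.leaf 0x76) (.leaf 0x10f))))) (.node 8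 (.node 4 (.node 2 (.node 1 (.leaf 0xaa) (.leaf 0xf1)) (.node 1 (.leaf 0x11c) (.leaf 0x106))) (.node 2 (.node 1 (.leaf 0x8) (.leaf 0x9c)) (.node 1 (.leaf 0x73) (.leaf 0x104)))) (.node 4 (.node 2 (.node 1 (.leaf 0xce) (.leaf 0x108)) (.node 1 (.leaf 0x89) (.leaf 0x117))) (.node 2 (.node 1 (.leaf 0xea) (.leaf 0x3d)) (.node 1 (.leaf 0x93) (.leaf 0x4e)))))) (.node 16 (.node 8 (.node 4 (.node 2 (.node 1 (.leaf 0xc1) (.leaf 0x82)) (.node 1 (.leaf 0x8e) (.leaf 0x46))) (.node 2 (.node 1 (.leaf 0xc9) (.leaf 0x8d)) (.node 1 (.leaf 0x8a) (.leaf 0x30)))) (.node 4 (.node 2 (.node 1 (.leaf 0x13a) (.leaf 0x128)) (.node 1 (.leaf 0x122) (.leaf 0x86))) (.node 2 (.node 1 (.leaf 0x6b) (.leaf 0xd6)) (.node 1 (.leaf 0x65) (.leaf 0xcc))))) (.node 8 (.node 4 (.node 2 (.node 1 (.leaf 0x28) (.leaf 0x41)) (.node 1 (.leaf 0x35) (.leaf 0x10b))) (.node 2 (.node 1 (.leaf 0x7d) (.leaf 0x75)) (.node 1 (.leaf 0xf0) (.leaf 0x118)))) (.node 4 (.node 2 (.node 1 (.leaf 0x4b)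 (.leaf 0x11)) (.node 1 (.leaf 0xd9) (.leaf 0xa3))) (.node 2 (.node 1 (.leaf 0x137) (.leaf 0x39)) (.node 1 (.leaf 0xc3) (.leaf 0xec)))))))

def conjD_21 : Tree :=
  .node 64 (.node 32 (.node 16 (.node 8 (.node 4 (.node 2 (.node 1 (.leaf 0x72) (.leaf 0xee)) (.node 1 (.leaf 0x78) (.leaf 0x10e))) (.node 2 (.node 1 (.leaf 0x136) (.leaf 0x5b)) (.node 1 (.leaf 0x52) (.leaf 0xda)))) (.node 4 (.node 2 (.node 1 (.leaf 0x43) (.leaf 0x36)) (.node 1 (.leaf 0xd4) (.leaf 0xbc))) (.node 2 (.node 1 (.leaf 0x63) (.leaf 0x11b)) (.node 1 (.leaf 0xf8) (.leaf 0xba))))) (.node 8 (.node 4 (.node 2 (.node 1 (.leaf 0x53) (.leaf 0x116)) (.node 1 (.leaf 0xb7) (.leaf 0x110))) (.node 2 (.node 1 (.leaf 0xb3) (.leaf 0xbd)) (.node 1 (.leaf 0xc4) (.leaf 0x4f)))) (.node 4 (.node 2 (.node 1 (.leaf 0xa) (.leaf 0x88)) (.node 1 (.leaf 0xfe) (.leaf 0xa6))) (.node 2 (.node 1 (.leaf 0xbe) (.leaf 0xdc)) (.node 1 (.leaf 0x114) (.leaf 0x129)))))) (.node 16 (.node 8 (.node 4 (.node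 2 (.node 1 (.leaf 0xe4) (.leaf 0x8c)) (.node 1 (.leaf 0x139) (.leaf 0x21))) (.node 2 (.node 1 (.leaf 0x97) (.leaf 0x6c)) (.node 1 (.leaf 0x80) (.leaf 0x66)))) (.node 4 (.node 2 (.node 1 (.leaf 0x67) (.leaf 0xfd)) (.node 1 (.leaf 0x56) (.leaf 0x31))) (.node 2 (.node 1 (.leaf 0xb2) (.leaf 0x3)) (.node 1 (.leaf 0x95) (.leaf 0x133))))) (.node 8 (.node 4 (.node 2 (.node 1 (.leaf 0x5a) (.leaf 0xa2)) (.node 1 (.leaf 0xaf) (.leaf 0x112))) (.node 2 (.node 1 (.leaf 0xc5) (.leaf 0x105)) (.node 1 (.leaf 0xe6) (.leaf 0xdf)))) (.node 4 (.node 2 (.node 1 (.leaf 0x70) (.leaf 0xfc)) (.node 1 (.leaf 0x50) (.leaf 0xf9))) (.node 2 (.node 1 (.leaf 0xc8) (.leaf 0xe5)) (.node 1 (.leaf 0xde) (.leaf 0x4))))))) (.node 32 (.node 16 (.node 8 (.node 4 (.node 2 (.node 1 (.leaf 0xf3) (.leaf 0xe9)) (.node 1 (.leaf 0x84) (.leaf 0x6))) (.node 2 (.node 1 (.leaf 0xa7) (.leaf 0x10c)) (.node 1 (.leaf 0xa9) (.leaf 0x10d)))) (.node 4 (.node 2 (.node 1 (.leaf 0x9e) (.leaf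 0x79)) (.node 1 (.leaf 0x51) (.leaf 0xe8))) (.node 2 (.node 1 (.leaf 0xf4) (.leaf 0xf5)) (.node 1 (.leaf 0x40) (.leaf 0x6f))))) (.node 8 (.node 4 (.node 2 (.node 1 (.leaf 0xb6) (.leaf 0xe3)) (.node 1 (.leaf 0x132) (.leaf 0x121))) (.node 2 (.node 1 (.leaf 0xe1) (.leaf 0xd1)) (.node 1 (.leaf 0xc2) (.leaf 0x68)))) (.node 4 (.node 2 (.node 1 (.leaf 0x74) (.leaf 0x45)) (.node 1 (.leaf 0x124) (.leaf 0x103))) (.node 2 (.node 1 (.leaf 0x7f) (.leaf 0xdd)) (.node 1 (.leaf 0x7b) (.leaf 0x107)))))) (.node 16 (.node 8 (.node 4 (.node 2 (.node 1 (.leaf 0x81) (.leaf 0x130)) (.node 1 (.leaf 0x38) (.leaf 0x9b))) (.node 2 (.node 1 (.leaf 0xed) (.leaf 0xef)) (.node 1 (.leaf 0xab) (.leaf 0x77)))) (.node 4 (.node 2 (.node 1 (.leaf 0xbb) (.leaf 0x131)) (.node 1 (.leaf 0xdb) (.leaf 0x12a))) (.node 2 (.node 1 (.leaf 0xc6) (.leaf 0x115)) (.node 1 (.leaf 0xb9) (.leaf 0x83))))) (.node 8 (.node 4 (.node 2 (.node 1 (.leaf 0x9f) (.leaf 0x48)) (.node 1 (.leaf 0x12)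 (.leaf 0xb5))) (.node 2 (.node 1 (.leaf 0x7a) (.leaf 0x138)) (.node 1 (.leaf 0x11e) (.leaf 0x11f)))) (.node 4 (.node 2 (.node 1 (.leaf 0x33) (.leaf 0xfb)) (.node 1 (.leaf 0x92) (.leaf 0x34))) (.node 2 (.node 1 (.leaf 0x102) (.leaf 0x3e)) (.node 1 (.leaf 0x58) (.leaf 0x127)))))))

def conjD_22 : Tree :=
  .node 64 (.node 32 (.node 16 (.node 8 (.node 4 (.node 2 (.node 1 (.leaf 0x91) (.leaf 0xc7)) (.node 1 (.leaf 0x113) (.leaf 0x14))) (.node 2 (.node 1 (.leaf 0x12e) (.leaf 0x69)) (.node 1 (.leaf 0x12c) (.leaf 0x16)))) (.node 4 (.node 2 (.node 1 (.leaf 0x109) (.leaf 0x111)) (.node 1 (.leaf 0xfa) (.leaf 0xd7))) (.node 2 (.node 1 (.leaf 0x3b) (.leaf 0x64)) (.node 1 (.leaf 0xac) (.leaf 0xa4))))) (.node 8 (.node 4 (.node 2 (.node 1 (.leaf 0x11d) (.leaf 0xca)) (.node 1 (.leaf 0x90) (.leaf 0xf))) (.node 2 (.node 1 (.leaf 0x2f) (.leaf 0x2e)) (.node 1 (.leaf 0x125) (.leaf 0x122)))) (.node 4 (.node 2 (.node 1 (.leaf 0x66) (.leaf 0xcf)) (.node 1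 (.leaf 0x52) (.leaf 0xda))) (.node 2 (.node 1 (.leaf 0xaf) (.leaf 0xae)) (.node 1 (.leaf 0x25) (.leaf 0x17)))))) (.node 16 (.node 8 (.node 4 (.node 2 (.node 1 (.leaf 0xe9) (.leaf 0x115)) (.node 1 (.leaf 0x0) (.leaf 0x10))) (.node 2 (.node 1 (.leaf 0x138) (.leaf 0x131)) (.node 1 (.leaf 0x1e) (.leaf 0x111)))) (.node 4 (.node 2 (.node 1 (.leaf 0x22) (.leaf 0x11d)) (.node 1 (.leaf 0xc) (.leaf 0x18))) (.node 2 (.node 1 (.leaf 0x19) (.leaf 0x1a)) (.node 1 (.leaf 0x1d) (.leaf 0x1c))))) (.node 8 (.node 4 (.node 2 (.node 1 (.leaf 0x1b) (.leaf 0x13)) (.node 1 (.leaf 0x30) (.leaf 0x95))) (.node 2 (.node 1 (.leaf 0x9b) (.leaf 0x15)) (.node 1 (.leaf 0x23) (.leaf 0x24)))) (.node 4 (.node 2 (.node 1 (.leaf 0xb) (.leaf 0x2d)) (.node 1 (.leaf 0x2b) (.leaf 0x43))) (.node 2 (.node 1 (.leaf 0x99) (.leaf 0x42)) (.node 1 (.leaf 0x27) (.leaf 0x31))))))) (.node 32 (.node 16 (.node 8 (.node 4 (.node 2 (.node 1 (.leaf 0x26) (.leaf 0x2)) (.node 1 (.leaf 0x1)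 (.leaf 0x1f))) (.node 2 (.node 1 (.leaf 0x2c) (.leaf 0x57)) (.node 1 (.leaf 0x92) (.leaf 0x3e)))) (.node 4 (.node 2 (.node 1 (.leaf 0x3a) (.leaf 0x3f)) (.node 1 (.leaf 0x67) (.leaf 0x97))) (.node 2 (.node 1 (.leaf 0x40) (.leaf 0x35)) (.node 1 (.leaf 0x3b) (.leaf 0x6e))))) (.node 8 (.node 4 (.node 2 (.node 1 (.leaf 0xc5) (.leaf 0x34)) (.node 1 (.leaf 0x36) (.leaf 0x39))) (.node 2 (.node 1 (.leaf 0x45) (.leaf 0x2a)) (.node 1 (.leaf 0x28) (.leaf 0x62)))) (.node 4 (.node 2 (.node 1 (.leaf 0x41) (.leaf 0xb0)) (.node 1 (.leaf 0x55) (.leaf 0xbb))) (.node 2 (.node 1 (.leaf 0x49) (.leaf 0x84)) (.node 1 (.leaf 0x7a) (.leaf 0x4c)))))) (.node 16 (.node 8 (.node 4 (.node 2 (.node 1 (.leaf 0xc6) (.leaf 0xe4)) (.node 1 (.leaf 0xbc) (.leaf 0x6a))) (.node 2 (.node 1 (.leaf 0x116) (.leaf 0x7)) (.node 1 (.leaf 0x88) (.leaf 0x101)))) (.node 4 (.node 2 (.node 1 (.leaf 0x47) (.leaf 0xfc)) (.node 1 (.leaf 0x32) (.leaf 0xe1))) (.node 2 (.node 1 (.leaf 0x73)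 (.leaf 0x87)) (.node 1 (.leaf 0xbe) (.leaf 0xce))))) (.node 8 (.node 4 (.node 2 (.node 1 (.leaf 0xeb) (.leaf 0xfd)) (.node 1 (.leaf 0x5f) (.leaf 0x94))) (.node 2 (.node 1 (.leaf 0xc0) (.leaf 0x44)) (.node 1 (.leaf 0xf1) (.leaf 0x64)))) (.node 4 (.node 2 (.node 1 (.leaf 0xed) (.leaf 0x5)) (.node 1 (.leaf 0x37) (.leaf 0xba))) (.node 2 (.node 1 (.leaf 0x129) (.leaf 0x50)) (.node 1 (.leaf 0xd6) (.leaf 0x10b)))))))

def conjD_23 : Tree :=
  .node 64 (.node 32 (.node 16 (.node 8 (.node 4 (.node 2 (.node 1 (.leaf 0x8f) (.leaf 0x3c)) (.node 1 (.leaf 0xc3) (.leaf 0x10e))) (.node 2 (.node 1 (.leaf 0x7c) (.leaf 0xb3)) (.node 1 (.leaf 0x59) (.leaf 0xb9)))) (.node 4 (.node 2 (.node 1 (.leaf 0x75) (.leaf 0xb2)) (.node 1 (.leaf 0x9f) (.leaf 0xe6))) (.node 2 (.node 1 (.leaf 0x105) (.leaf 0x4b)) (.node 1 (.leaf 0x96) (.leaf 0x71))))) (.node 8 (.node 4 (.node 2 (.node 1 (.leaf 0xb7) (.leaf 0xe2)) (.node 1 (.leaf 0xc7) (.leaf 0xd0))) (.node 2 (.node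 1 (.leaf 0xcc) (.leaf 0xf6)) (.node 1 (.leaf 0x93) (.leaf 0x4a)))) (.node 4 (.node 2 (.node 1 (.leaf 0x8a) (.leaf 0xee)) (.node 1 (.leaf 0x5a) (.leaf 0x53))) (.node 2 (.node 1 (.leaf 0xa5) (.leaf 0x85)) (.node 1 (.leaf 0x98) (.leaf 0xfa)))))) (.node 16 (.node 8 (.node 4 (.node 2 (.node 1 (.leaf 0x134) (.leaf 0xdc)) (.node 1 (.leaf 0x6d) (.leaf 0x127))) (.node 2 (.node 1 (.leaf 0x91) (.leaf 0x33)) (.node 1 (.leaf 0x83) (.leaf 0x60)))) (.node 4 (.node 2 (.node 1 (.leaf 0x20) (.leaf 0x7b)) (.node 1 (.leaf 0x38) (.leaf 0x8b))) (.node 2 (.node 1 (.leaf 0x29) (.leaf 0x9a)) (.node 1 (.leaf 0x21) (.leaf 0xff))))) (.node 8 (.node 4 (.node 2 (.node 1 (.leaf 0xbd) (.leaf 0x132)) (.node 1 (.leaf 0x77) (.leaf 0xf3))) (.node 2 (.node 1 (.leaf 0x12f) (.leaf 0xa2)) (.node 1 (.leaf 0x128) (.leaf 0xa4)))) (.node 4 (.node 2 (.node 1 (.leaf 0x89) (.leaf 0xef)) (.node 1 (.leaf 0xa7) (.leaf 0xbf))) (.node 2 (.node 1 (.leaf 0x117) (.leaf 0xf8)) (.node 1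 (.leaf 0xdb) (.leaf 0xac))))))) (.node 32 (.node 16 (.node 8 (.node 4 (.node 2 (.node 1 (.leaf 0xf9) (.leaf 0xa)) (.node 1 (.leaf 0x9) (.leaf 0x46))) (.node 2 (.node 1 (.leaf 0xb1) (.leaf 0x76)) (.node 1 (.leaf 0x72) (.leaf 0xdd)))) (.node 4 (.node 2 (.node 1 (.leaf 0x118) (.leaf 0xde)) (.node 1 (.leaf 0x7d) (.leaf 0xc2))) (.node 2 (.node 1 (.leaf 0x74) (.leaf 0x68)) (.node 1 (.leaf 0x48) (.leaf 0x4f))))) (.node 8 (.node 4 (.node 2 (.node 1 (.leaf 0x9d) (.leaf 0x5b)) (.node 1 (.leaf 0xa8) (.leaf 0x61))) (.node 2 (.node 1 (.leaf 0xfe) (.leaf 0xb8)) (.node 1 (.leaf 0x6f) (.leaf 0xe3)))) (.node 4 (.node 2 (.node 1 (.leaf 0x3d) (.leaf 0x4d)) (.node 1 (.leaf 0x7f) (.leaf 0xd8))) (.node 2 (.node 1 (.leaf 0xf0) (.leaf 0x12c)) (.node 1 (.leaf 0xcd) (.leaf 0x81)))))) (.node 16 (.node 8 (.node 4 (.node 2 (.node 1 (.leaf 0xcb) (.leaf 0x5c)) (.node 1 (.leaf 0x6) (.leaf 0x80))) (.node 2 (.node 1 (.leaf 0xd1) (.leaf 0x126)) (.node 1 (.leaf 0xd3)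 (.leaf 0xd4)))) (.node 4 (.node 2 (.node 1 (.leaf 0x123) (.leaf 0x6b)) (.node 1 (.leaf 0xf4) (.leaf 0xc8))) (.node 2 (.node 1 (.leaf 0x103) (.leaf 0x8)) (.node 1 (.leaf 0xab) (.leaf 0x8e))))) (.node 8 (.node 4 (.node 2 (.node 1 (.leaf 0xb4) (.leaf 0xb6)) (.node 1 (.leaf 0x136) (.leaf 0x112))) (.node 2 (.node 1 (.leaf 0x58) (.leaf 0x7e)) (.node 1 (.leaf 0xc4) (.leaf 0x4e)))) (.node 4 (.node 2 (.node 1 (.leaf 0x124) (.leaf 0x78)) (.node 1 (.leaf 0x120) (.leaf 0x11c))) (.node 2 (.node 1 (.leaf 0xd) (.leaf 0x114)) (.node 1 (.leaf 0x5d) (.leaf 0x11f)))))))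

def conjD_24 : Tree :=
  .node 64 (.node 32 (.node 16 (.node 8 (.node 4 (.node 2 (.node 1 (.leaf 0x65) (.leaf 0x86)) (.node 1 (.leaf 0xa6) (.leaf 0xc9))) (.node 2 (.node 1 (.leaf 0x63) (.leaf 0x100)) (.node 1 (.leaf 0xa0) (.leaf 0xd7)))) (.node 4 (.node 2 (.node 1 (.leaf 0x137) (.leaf 0x82)) (.node 1 (.leaf 0x10d) (.leaf 0xaa))) (.node 2 (.node 1 (.leaf 0xad) (.leaf 0x8c)) (.node 1 (.leaf 0xfb) (.leaf 0x56))))) (.node 8 (.node 4 (.node 2 (.node 1 (.leaf 0x5e) (.leaf 0xc1)) (.node 1 (.leaf 0x9c) (.leaf 0xf2))) (.node 2 (.node 1 (.leaf 0x54) (.leaf 0x102)) (.node 1 (.leaf 0xd9) (.leaf 0x12d)))) (.node 4 (.node 2 (.node 1 (.leaf 0x79) (.leaf 0x10c)) (.node 1 (.leaf 0x135) (.leaf 0x10a))) (.node 2 (.node 1 (.leaf 0x12e) (.leaf 0x108)) (.node 1 (.leaf 0x6c) (.leaf 0x106)))))) (.node 16 (.node 8 (.node 4 (.node 2 (.node 1 (.leaf 0xf7) (.leaf 0x70)) (.node 1 (.leaf 0x11b) (.leaf 0x113))) (.node 2 (.node 1 (.leaf 0x14) (.leaf 0xe0)) (.node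 1 (.leaf 0x110) (.leaf 0xea)))) (.node 4 (.node 2 (.node 1 (.leaf 0xe) (.leaf 0x51)) (.node 1 (.leaf 0xa9) (.leaf 0xb5))) (.node 2 (.node 1 (.leaf 0x12a) (.leaf 0x12b)) (.node 1 (.leaf 0x10f) (.leaf 0xe8))))) (.node 8 (.node 4 (.node 2 (.node 1 (.leaf 0x16) (.leaf 0x121)) (.node 1 (.leaf 0xec) (.leaf 0xe7))) (.node 2 (.node 1 (.leaf 0x11e) (.leaf 0x4)) (.node 1 (.leaf 0xd5) (.leaf 0xe5)))) (.node 4 (.node 2 (.node 1 (.leaf 0x3) (.leaf 0xd2)) (.node 1 (.leaf 0x90) (.leaf 0xa3))) (.node 2 (.node 1 (.leaf 0x69) (.leaf 0x119)) (.node 1 (.leaf 0x11a) (.leaf 0xca))))))) (.node 32 (.node 16 (.node 8 (.node 4 (.node 2 (.node 1 (.leaf 0x104) (.leaf 0x109)) (.node 1 (.leaf 0xa1) (.leaf 0x139))) (.node 2 (.node 1 (.leaf 0x12) (.leaf 0x9e)) (.node 1 (.leaf 0x133) (.leaf 0x8d)))) (.node 4 (.node 2 (.node 1 (.leaf 0x107) (.leaf 0xdf)) (.node 1 (.leaf 0xf5) (.leaf 0x11))) (.node 2 (.node 1 (.leaf 0x130) (.leaf 0x13a)) (.node 1 (.leaf 0x0) (.leaf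 0x1))))) (.node 8 (.node 4 (.node 2 (.node 1 (.leaf 0x2) (.leaf 0x3)) (.node 1 (.leaf 0x4) (.leaf 0x5))) (.node 2 (.node 1 (.leaf 0x6) (.leaf 0x7)) (.node 1 (.leaf 0x8) (.leaf 0x9)))) (.node 4 (.node 2 (.node 1 (.leaf 0xa) (.leaf 0xc)) (.node 1 (.leaf 0xb) (.leaf 0xe))) (.node 2 (.node 1 (.leaf 0xd) (.leaf 0xf)) (.node 1 (.leaf 0x10) (.leaf 0x11)))))) (.node 16 (.node 8 (.node 4 (.node 2 (.node 1 (.leaf 0x12) (.leaf 0x15)) (.node 1 (.leaf 0x16) (.leaf 0x13))) (.node 2 (.node 1 (.leaf 0x14) (.leaf 0x1e)) (.node 1 (.leaf 0x1c) (.leaf 0x19)))) (.node 4 (.node 2 (.node 1 (.leaf 0x1a) (.leaf 0x23)) (.node 1 (.leaf 0x18) (.leaf 0x24))) (.node 2 (.node 1 (.leaf 0x17) (.leaf 0x28)) (.node 1 (.leaf 0x29) (.leaf 0x2a))))) (.node 8 (.node 4 (.node 2 (.node 1 (.leaf 0x25) (.leaf 0x1b)) (.node 1 (.leaf 0x1d) (.leaf 0x22))) (.node 2 (.node 1 (.leaf 0x33) (.leaf 0x34)) (.node 1 (.leaf 0x1f) (.leaf 0x20)))) (.node 4 (.node 2 (.node 1 (.leaf 0x21)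 (.leaf 0x3a)) (.node 1 (.leaf 0x3e) (.leaf 0x3f))) (.node 2 (.node 1 (.leaf 0x2f) (.leaf 0x2e)) (.node 1 (.leaf 0x41) (.leaf 0x35)))))))

def conjD_25 : Tree :=
  .node 64 (.node 32 (.node 16 (.node 8 (.node 4 (.node 2 (.node 1 (.leaf 0x36) (.leaf 0x26)) (.node 1 (.leaf 0x27) (.leaf 0x31))) (.node 2 (.node 1 (.leaf 0x32) (.leaf 0x46)) (.node 1 (.leaf 0x44) (.leaf 0x45)))) (.node 4 (.node 2 (.node 1 (.leaf 0x2b) (.leaf 0x59)) (.node 1 (.leaf 0x5a) (.leaf 0x5b))) (.node 2 (.node 1 (.leaf 0x2c) (.leaf 0x2d)) (.node 1 (.leaf 0x43) (.leaf 0x30))))) (.node 8 (.node 4 (.node 2 (.node 1 (.leaf 0x67) (.leaf 0x40)) (.node 1 (.leaf 0x38) (.leaf 0x39))) (.node 2 (.node 1 (.leaf 0x37) (.leaf 0x6f)) (.node 1 (.leaf 0x72) (.leaf 0x73)))) (.node 4 (.node 2 (.node 1 (.leaf 0x74) (.leaf 0x7d)) (.node 1 (.leaf 0x7e) (.leaf 0x7f))) (.node 2 (.node 1 (.leaf 0x7a) (.leaf 0x63)) (.node 1 (.leaf 0x64) (.leaf 0x65)))))) (.node 16 (.node 8 (.node 4 (.node 2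 (.node 1 (.leaf 0x66) (.leaf 0x85)) (.node 1 (.leaf 0x86) (.leaf 0x8a))) (.node 2 (.node 1 (.leaf 0x90) (.leaf 0x92)) (.node 1 (.leaf 0x9d) (.leaf 0x3b)))) (.node 4 (.node 2 (.node 1 (.leaf 0x3c) (.leaf 0x3d)) (.node 1 (.leaf 0x8c) (.leaf 0x5e))) (.node 2 (.node 1 (.leaf 0x5d) (.leaf 0xa7)) (.node 1 (.leaf 0x93) (.leaf 0xa3))))) (.node 8 (.node 4 (.node 2 (.node 1 (.leaf 0x95) (.leaf 0x4f)) (.node 1 (.leaf 0x50) (.leaf 0x51))) (.node 2 (.node 1 (.leaf 0x52) (.leaf 0x42)) (.node 1 (.leaf 0xaa) (.leaf 0xab)))) (.node 4 (.node 2 (.node 1 (.leaf 0xac) (.leaf 0xb4)) (.node 1 (.leaf 0xb5) (.leaf 0xb6))) (.node 2 (.node 1 (.leaf 0xb9) (.leaf 0x47)) (.node 1 (.leaf 0x9c) (.leaf 0x76))))))) (.node 32 (.node 16 (.node 8 (.node 4 (.node 2 (.node 1 (.leaf 0x48) (.leaf 0x49)) (.node 1 (.leaf 0x4a) (.leaf 0x91))) (.node 2 (.node 1 (.leaf 0x71) (.leaf 0x81)) (.node 1 (.leaf 0x80) (.leaf 0x82)))) (.node 4 (.node 2 (.node 1 (.leaf 0x4e) (.leaf 0xa8))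 (.node 1 (.leaf 0xbd) (.leaf 0x4b))) (.node 2 (.node 1 (.leaf 0x4c) (.leaf 0x4d)) (.node 1 (.leaf 0x78) (.leaf 0x77))))) (.node 8 (.node 4 (.node 2 (.node 1 (.leaf 0x79) (.leaf 0x96)) (.node 1 (.leaf 0x87) (.leaf 0x53))) (.node 2 (.node 1 (.leaf 0x54) (.leaf 0x84)) (.node 1 (.leaf 0xc3) (.leaf 0xc7)))) (.node 4 (.node 2 (.node 1 (.leaf 0x55) (.leaf 0xc9)) (.node 1 (.leaf 0x5c) (.leaf 0xca))) (.node 2 (.node 1 (.leaf 0xcb) (.leaf 0xcc)) (.node 1 (.leaf 0x56) (.leaf 0x75)))))) (.node 16 (.node 8 (.node 4 (.node 2 (.node 1 (.leaf 0x57) (.leaf 0x60)) (.node 1 (.leaf 0xbf) (.leaf 0x62))) (.node 2 (.node 1 (.leaf 0x83) (.leaf 0x99)) (.node 1 (.leaf 0xd8) (.leaf 0x97)))) (.node 4 (.node 2 (.node 1 (.leaf 0xd9) (.leaf 0xb0)) (.node 1 (.leaf 0x70) (.leaf 0x58))) (.node 2 (.node 1 (.leaf 0xa9) (.leaf 0xde)) (.node 1 (.leaf 0xe0) (.leaf 0xdf))))) (.node 8 (.node 4 (.node 2 (.node 1 (.leaf 0xd3) (.leaf 0x61)) (.node 1 (.leaf 0xe2) (.leaf 0xe3)))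 (.node 2 (.node 1 (.leaf 0xe4) (.leaf 0x5f)) (.node 1 (.leaf 0x7b) (.leaf 0x9e)))) (.node 4 (.node 2 (.node 1 (.leaf 0x68) (.leaf 0x69)) (.node 1 (.leaf 0x6a) (.leaf 0xb8))) (.node 2 (.node 1 (.leaf 0xaf) (.leaf 0xae)) (.node 1 (.leaf 0x9b) (.leaf 0xec)))))))

def conjD_26 : Tree :=
  .node 64 (.node 32 (.node 16 (.node 8 (.node 4 (.node 2 (.node 1 (.leaf 0xe1) (.leaf 0xc5)) (.node 1 (.leaf 0x6b) (.leaf 0x6c))) (.node 2 (.node 1 (.leaf 0x6d) (.leaf 0xef)) (.node 1 (.leaf 0xad) (.leaf 0x6e)))) (.node 4 (.node 2 (.node 1 (.leaf 0xed) (.leaf 0xbe)) (.node 1 (.leaf 0xdb) (.leaf 0x7c))) (.node 2 (.node 1 (.leaf 0xbb) (.leaf 0x94)) (.node 1 (.leaf 0xf4) (.leaf 0xc8))))) (.node 8 (.node 4 (.node 2 (.node 1 (.leaf 0xee) (.leaf 0x88)) (.node 1 (.leaf 0xc6) (.leaf 0xb3))) (.node 2 (.node 1 (.leaf 0xc4) (.leaf 0x89)) (.node 1 (.leaf 0xc1) (.leaf 0x8b)))) (.node 4 (.node 2 (.node 1 (.leaf 0x8d) (.leaf 0x8e)) (.node 1 (.leaf 0x8f) (.leaf 0xf3)))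 (.node 2 (.node 1 (.leaf 0xff) (.leaf 0xda)) (.node 1 (.leaf 0xd6) (.leaf 0xd4)))))) (.node 16 (.node 8 (.node 4 (.node 2 (.node 1 (.leaf 0xd7) (.leaf 0xa2)) (.node 1 (.leaf 0xd1) (.leaf 0xe5))) (.node 2 (.node 1 (.leaf 0xd0) (.leaf 0xd2)) (.node 1 (.leaf 0x98) (.leaf 0x9a)))) (.node 4 (.node 2 (.node 1 (.leaf 0xcf) (.leaf 0xbc)) (.node 1 (.leaf 0x112) (.leaf 0xe6))) (.node 2 (.node 1 (.leaf 0x9f) (.leaf 0xa1)) (.node 1 (.leaf 0xa0) (.leaf 0xb2))))) (.node 8 (.node 4 (.node 2 (.node 1 (.leaf 0xa4) (.leaf 0xa5)) (.node 1 (.leaf 0xa6) (.leaf 0xd5))) (.node 2 (.node 1 (.leaf 0xdd) (.leaf 0x11e)) (.node 1 (.leaf 0x11b) (.leaf 0x11d)))) (.node 4 (.node 2 (.node 1 (.leaf 0x11c) (.leaf 0x127)) (.node 1 (.leaf 0xb1) (.leaf 0xba))) (.node 2 (.node 1 (.leaf 0xc2) (.leaf 0xb7)) (.node 1 (.leaf 0xfe) (.leaf 0x129))))))) (.node 32 (.node 16 (.node 8 (.node 4 (.node 2 (.node 1 (.leaf 0x117) (.leaf 0xcd)) (.node 1 (.leaf 0xc0) (.leaf 0x109))) (.node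 2 (.node 1 (.leaf 0x10b) (.leaf 0x10a)) (.node 1 (.leaf 0x116) (.leaf 0x101)))) (.node 4 (.node 2 (.node 1 (.leaf 0x10e) (.leaf 0x11f)) (.node 1 (.leaf 0xfd) (.leaf 0xfc))) (.node 2 (.node 1 (.leaf 0xf0) (.leaf 0xce)) (.node 1 (.leaf 0x104) (.leaf 0xf9))))) (.node 8 (.node 4 (.node 2 (.node 1 (.leaf 0x103) (.leaf 0x102)) (.node 1 (.leaf 0x100) (.leaf 0x118))) (.node 2 (.node 1 (.leaf 0x119) (.leaf 0x11a)) (.node 1 (.leaf 0x12a) (.leaf 0xf5)))) (.node 4 (.node 2 (.node 1 (.leaf 0xf7) (.leaf 0xf6)) (.node 1 (.leaf 0x10d) (.leaf 0x10c))) (.node 2 (.node 1 (.leaf 0xfa) (.leaf 0x113)) (.node 1 (.leaf 0x114) (.leaf 0x115)))))) (.node 16 (.node 8 (.node 4 (.node 2 (.node 1 (.leaf 0xdc) (.leaf 0x10f)) (.node 1 (.leaf 0x110) (.leaf 0x111))) (.node 2 (.node 1 (.leaf 0xf8) (.leaf 0xf2)) (.node 1 (.leaf 0x105) (.leaf 0x106)))) (.node 4 (.node 2 (.node 1 (.leaf 0x107) (.leaf 0xe8)) (.node 1 (.leaf 0xea) (.leaf 0xe9))) (.node 2 (.node 1 (.leaf 0xe7)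 (.leaf 0xfb)) (.node 1 (.leaf 0x120) (.leaf 0x121))))) (.node 8 (.node 4 (.node 2 (.node 1 (.leaf 0x122) (.leaf 0x123)) (.node 1 (.leaf 0x124) (.leaf 0x125))) (.node 2 (.node 1 (.leaf 0x128) (.leaf 0xeb)) (.node 1 (.leaf 0x126) (.leaf 0xf1)))) (.node 4 (.node 2 (.node 1 (.leaf 0x108) (.leaf 0x12e)) (.node 1 (.leaf 0x12f) (.leaf 0x132))) (.node 2 (.node 1 (.leaf 0x12b) (.leaf 0x12c)) (.node 1 (.leaf 0x130) (.leaf 0x131)))))))

def conjD_27 : Tree :=
  .node 4 (.node 2 (.node 1 (.leaf 0x12d) (.leaf 0x13a)) (.node 1 (.leaf 0x136) (.leaf 0x137))) (.node 2 (.node 1 (.leaf 0x134) (.leaf 0x135)) (.node 1 (.leaf 0x138) (.node 1 (.leaf 0x139) (.leaf 0x133))))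

def conjD : Tree :=
  .node 1792 (.node 896 (.node 384 (.node 128 (conjD_0) (.node 128 (conjD_1) (conjD_2))) (.node 256 (.node 128 (conjD_3) (conjD_4)) (.node 128 (conjD_5) (conjD_6)))) (.node 384 (.node 128 (conjD_7) (.node 128 (conjD_8) (conjD_9))) (.node 256 (.node 128 (conjD_10) (conjD_11)) (.node 128 (conjD_12) (conjD_13))))) (.node 896 (.node 384 (.node 128 (conjD_14) (.node 128 (conjD_15) (conjD_16))) (.node 256 (.node 128 (conjD_17) (conjD_18)) (.node 128 (conjD_19) (conjD_20)))) (.node 384 (.node 128 (conjD_21) (.node 128 (conjD_22) (conjD_23))) (.node 256 (.node 128 (conjD_24) (conjD_25)) (.node 128 (conjD_26) (conjD_27)))))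

def witP_0 : Tree :=
  .node 64 (.node 32 (.node 16 (.node 8 (.node 4 (.node 2 (.node 1 (.leaf 0x0) (.leaf 0x0)) (.node 1 (.leaf 0x0) (.leaf 0x0))) (.node 2 (.node 1 (.leaf 0x0) (.leaf 0x0)) (.node 1 (.leaf 0x0) (.leaf 0x0)))) (.node 4 (.node 2 (.node 1 (.leaf 0x0) (.leaf 0x0)) (.node 1 (.leaf 0x0) (.leaf 0x0))) (.node 2 (.node 1 (.leaf 0x0) (.leaf 0x0)) (.node 1 (.leaf 0x0) (.leaf 0x0))))) (.node 8 (.node 4 (.node 2 (.node 1 (.leaf 0x0) (.leaf 0x8a)) (.node 1 (.leaf 0x78) (.leaf 0x0))) (.node 2 (.node 1 (.leaf 0x0) (.leaf 0x0)) (.node 1 (.leaf 0x0) (.leaf 0x0)))) (.node 4 (.node 2 (.node 1 (.leaf 0x0) (.leaf 0x98)) (.node 1 (.leaf 0x91) (.leaf 0x0))) (.node 2 (.node 1 (.leaf 0x0) (.leaf 0x0)) (.node 1 (.leaf 0x0) (.leaf 0x110)))))) (.node 16 (.node 8 (.node 4 (.node 2 (.node 1 (.leaf 0x129) (.leaf 0x88)) (.node 1 (.leaf 0x7d) (.leaf 0x0))) (.node 2 (.node 1 (.leaf 0x0) (.leaf 0x96)) (.node 1 (.leaf 0x93) (.leaf 0x0)))) (.node 4 (.node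 2 (.node 1 (.leaf 0x0) (.leaf 0x0)) (.node 1 (.leaf 0x0) (.leaf 0x0))) (.node 2 (.node 1 (.leaf 0x0) (.leaf 0x0)) (.node 1 (.leaf 0x0) (.leaf 0x138))))) (.node 8 (.node 4 (.node 2 (.node 1 (.leaf 0x126) (.leaf 0x0)) (.node 1 (.leaf 0x0) (.leaf 0x0))) (.node 2 (.node 1 (.leaf 0x0) (.leaf 0x0)) (.node 1 (.leaf 0x0) (.leaf 0x0)))) (.node 4 (.node 2 (.node 1 (.leaf 0x0) (.leaf 0x0)) (.node 1 (.leaf 0x0) (.leaf 0x0))) (.node 2 (.node 1 (.leaf 0x0) (.leaf 0x0)) (.node 1 (.leaf 0x0) (.leaf 0x0))))))) (.node 32 (.node 16 (.node 8 (.node 4 (.node 2 (.node 1 (.leaf 0x0) (.leaf 0x0)) (.node 1 (.leaf 0x0) (.leaf 0x0))) (.node 2 (.node 1 (.leaf 0x101) (.leaf 0x0)) (.node 1 (.leaf 0x0) (.leaf 0x0)))) (.node 4 (.node 2 (.node 1 (.leaf 0x0) (.leaf 0x0)) (.node 1 (.leaf 0x0) (.leaf 0x0))) (.node 2 (.node 1 (.leaf 0x0) (.leaf 0x0)) (.node 1 (.leaf 0x0) (.leaf 0x10f))))) (.node 8 (.node 4 (.node 2 (.node 1 (.leaf 0x0) (.leaf 0x0)) (.node 1 (.leaf 0x0)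 (.leaf 0x0))) (.node 2 (.node 1 (.leaf 0x0) (.leaf 0x0)) (.node 1 (.leaf 0x0) (.leaf 0x0)))) (.node 4 (.node 2 (.node 1 (.leaf 0x0) (.leaf 0x0)) (.node 1 (.leaf 0x0) (.leaf 0x0))) (.node 2 (.node 1 (.leaf 0x0) (.leaf 0x0)) (.node 1 (.leaf 0x0) (.leaf 0x0)))))) (.node 16 (.node 8 (.node 4 (.node 2 (.node 1 (.leaf 0x0) (.leaf 0x0)) (.node 1 (.leaf 0x0) (.leaf 0xf0))) (.node 2 (.node 1 (.leaf 0x128) (.leaf 0x97)) (.node 1 (.leaf 0x92) (.leaf 0x0)))) (.node 4 (.node 2 (.node 1 (.leaf 0x0) (.leaf 0x0)) (.node 1 (.leaf 0x0) (.leaf 0x0))) (.node 2 (.node 1 (.leaf 0x0) (.leaf 0x89)) (.node 1 (.leaf 0x71) (.leaf 0x0))))) (.node 8 (.node 4 (.node 2 (.node 1 (.leaf 0x0) (.leaf 0x83)) (.node 1 (.leaf 0x0) (.leaf 0x0))) (.node 2 (.node 1 (.leaf 0x0) (.leaf 0x0)) (.node 1 (.leaf 0x68) (.leaf 0x0)))) (.node 4 (.node 2 (.node 1 (.leaf 0x0) (.leaf 0x7b)) (.node 1 (.leaf 0x0) (.leaf 0x0))) (.node 2 (.node 1 (.leaf 0x0) (.leaf 0x0)) (.node 1 (.leaf 0x6f)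 (.leaf 0x0)))))))

def witP_1 : Tree :=
  .node 64 (.node 32 (.node 16 (.node 8 (.node 4 (.node 2 (.node 1 (.leaf 0x0) (.leaf 0x8d)) (.node 1 (.leaf 0x1b8) (.leaf 0x1cc))) (.node 2 (.node 1 (.leaf 0x5e) (.leaf 0x57)) (.node 1 (.leaf 0x0) (.leaf 0x0)))) (.node 4 (.node 2 (.node 1 (.leaf 0x63) (.leaf 0x56)) (.node 1 (.leaf 0x0) (.leaf 0x0))) (.node 2 (.node 1 (.leaf 0x62) (.leaf 0x6e)) (.node 1 (.leaf 0x3c) (.leaf 0x42))))) (.node 8 (.node 4 (.node 2 (.node 1 (.leaf 0x0) (.leaf 0x0)) (.node 1 (.leaf 0x112) (.leaf 0x103))) (.node 2 (.node 1 (.leaf 0x0) (.leaf 0x0)) (.node 1 (.leaf 0x0) (.leaf 0x0)))) (.node 4 (.node 2 (.node 1 (.leaf 0x94) (.leaf 0x95)) (.node 1 (.leaf 0x0) (.leaf 0x0))) (.node 2 (.node 1 (.leaf 0x86) (.leaf 0x79)) (.node 1 (.leaf 0x0) (.leaf 0x0)))))) (.node 16 (.node 8 (.node 4 (.node 2 (.node 1 (.leaf 0x85) (.leaf 0x0)) (.node 1 (.leaf 0x0) (.leaf 0x0))) (.node 2 (.node 1 (.leaf 0x7e) (.leaf 0x0)) (.node 1 (.leaf 0x0)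 (.leaf 0x0)))) (.node 4 (.node 2 (.node 1 (.leaf 0x0) (.leaf 0x73)) (.node 1 (.leaf 0x0) (.leaf 0x0))) (.node 2 (.node 1 (.leaf 0x0) (.leaf 0x77)) (.node 1 (.leaf 0x0) (.leaf 0x0))))) (.node 8 (.node 4 (.node 2 (.node 1 (.leaf 0x0) (.leaf 0x0)) (.node 1 (.leaf 0xef) (.leaf 0x0))) (.node 2 (.node 1 (.leaf 0x0) (.leaf 0x0)) (.node 1 (.leaf 0x0) (.leaf 0x0)))) (.node 4 (.node 2 (.node 1 (.leaf 0x0) (.leaf 0x0)) (.node 1 (.leaf 0x0) (.leaf 0x0))) (.node 2 (.node 1 (.leaf 0x0) (.leaf 0x0)) (.node 1 (.leaf 0x0) (.leaf 0x102))))))) (.node 32 (.node 16 (.node 8 (.node 4 (.node 2 (.node 1 (.leaf 0x143) (.leaf 0x1)) (.node 1 (.leaf 0x217) (.leaf 0x1aa))) (.node 2 (.node 1 (.leaf 0x0) (.leaf 0x0)) (.node 1 (.leaf 0x0) (.leaf 0x0)))) (.node 4 (.node 2 (.node 1 (.leaf 0x0) (.leaf 0x0)) (.node 1 (.leaf 0x0) (.leaf 0x0))) (.node 2 (.node 1 (.leaf 0x14e) (.leaf 0x7)) (.node 1 (.leaf 0x196) (.leaf 0x226))))) (.node 8 (.node 4 (.node 2 (.node 1 (.leaf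 0x0) (.leaf 0x0)) (.node 1 (.leaf 0x0) (.leaf 0x0))) (.node 2 (.node 1 (.leaf 0x0) (.leaf 0x0)) (.node 1 (.leaf 0x0) (.leaf 0x0)))) (.node 4 (.node 2 (.node 1 (.leaf 0x0) (.leaf 0x0)) (.node 1 (.leaf 0x0) (.leaf 0x0))) (.node 2 (.node 1 (.leaf 0x0) (.leaf 0x0)) (.node 1 (.leaf 0x0) (.leaf 0x0)))))) (.node 16 (.node 8 (.node 4 (.node 2 (.node 1 (.leaf 0x0) (.leaf 0x0)) (.node 1 (.leaf 0x0) (.leaf 0xdd))) (.node 2 (.node 1 (.leaf 0x0) (.leaf 0x0)) (.node 1 (.leaf 0x0) (.leaf 0x0)))) (.node 4 (.node 2 (.node 1 (.leaf 0x0) (.leaf 0x0)) (.node 1 (.leaf 0x0) (.leaf 0x0))) (.node 2 (.node 1 (.leaf 0x0) (.leaf 0x0)) (.node 1 (.leaf 0xea) (.leaf 0x0))))) (.node 8 (.node 4 (.node 2 (.node 1 (.leaf 0x0) (.leaf 0x66)) (.node 1 (.leaf 0x0) (.leaf 0x0))) (.node 2 (.node 1 (.leaf 0x74) (.leaf 0x0)) (.node 1 (.leaf 0x0) (.leaf 0x0)))) (.node 4 (.node 2 (.node 1 (.leaf 0x0) (.leaf 0x72)) (.node 1 (.leaf 0x0) (.leaf 0x0))) (.node 2 (.node 1 (.leaf 0x84)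 (.leaf 0x0)) (.node 1 (.leaf 0x0) (.leaf 0x0)))))))

def witP_2 : Tree :=
  .node 64 (.node 32 (.node 16 (.node 8 (.node 4 (.node 2 (.node 1 (.leaf 0x6c) (.leaf 0x55)) (.node 1 (.leaf 0x218) (.leaf 0x239))) (.node 2 (.node 1 (.leaf 0x5b) (.leaf 0x64)) (.node 1 (.leaf 0x0) (.leaf 0x0)))) (.node 4 (.node 2 (.node 1 (.leaf 0x59) (.leaf 0x6b)) (.node 1 (.leaf 0x0) (.leaf 0x0))) (.node 2 (.node 1 (.leaf 0x8e) (.leaf 0x1eb)) (.node 1 (.leaf 0x197) (.leaf 0x1d1))))) (.node 8 (.node 4 (.node 2 (.node 1 (.leaf 0x0) (.leaf 0x7f)) (.node 1 (.leaf 0x0) (.leaf 0x0))) (.node 2 (.node 1 (.leaf 0x0) (.leaf 0x5c)) (.node 1 (.leaf 0x0) (.leaf 0x0)))) (.node 4 (.node 2 (.node 1 (.leaf 0x0) (.leaf 0x61)) (.node 1 (.leaf 0x0) (.leaf 0x0))) (.node 2 (.node 1 (.leaf 0x0) (.leaf 0x60)) (.node 1 (.leaf 0x0) (.leaf 0x0)))))) (.node 16 (.node 8 (.node 4 (.node 2 (.node 1 (.leaf 0x0) (.leaf 0x70)) (.node 1 (.leaf 0x0) (.leaf 0x0))) (.node 2 (.node 1 (.leaf 0x0)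 (.leaf 0x7a)) (.node 1 (.leaf 0x0) (.leaf 0x0)))) (.node 4 (.node 2 (.node 1 (.leaf 0x7c) (.leaf 0x0)) (.node 1 (.leaf 0x0) (.leaf 0x0))) (.node 2 (.node 1 (.leaf 0x87) (.leaf 0x0)) (.node 1 (.leaf 0x0) (.leaf 0x0))))) (.node 8 (.node 4 (.node 2 (.node 1 (.leaf 0x160) (.leaf 0x1ec)) (.node 1 (.leaf 0x1b7) (.leaf 0x2c))) (.node 2 (.node 1 (.leaf 0x0) (.leaf 0x0)) (.node 1 (.leaf 0x0) (.leaf 0x0)))) (.node 4 (.node 2 (.node 1 (.leaf 0x0) (.leaf 0x0)) (.node 1 (.leaf 0x0) (.leaf 0x0))) (.node 2 (.node 1 (.leaf 0x145) (.leaf 0x1f2)) (.node 1 (.leaf 0x3b) (.leaf 0x1a4))))))) (.node 32 (.node 16 (.node 8 (.node 4 (.node 2 (.node 1 (.leaf 0x0) (.leaf 0x9b)) (.node 1 (.leaf 0x0) (.leaf 0x0))) (.node 2 (.node 1 (.leaf 0x0) (.leaf 0x0)) (.node 1 (.leaf 0x0) (.leaf 0x0)))) (.node 4 (.node 2 (.node 1 (.leaf 0x0) (.leaf 0x0)) (.node 1 (.leaf 0x0) (.leaf 0x0))) (.node 2 (.node 1 (.leaf 0x0) (.leaf 0xa6)) (.node 1 (.leaf 0x0) (.leaf 0x0))))) (.node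 8 (.node 4 (.node 2 (.node 1 (.leaf 0x0) (.leaf 0x0)) (.node 1 (.leaf 0xc8) (.leaf 0x0))) (.node 2 (.node 1 (.leaf 0x0) (.leaf 0x0)) (.node 1 (.leaf 0x0) (.leaf 0x0)))) (.node 4 (.node 2 (.node 1 (.leaf 0x0) (.leaf 0x0)) (.node 1 (.leaf 0x0) (.leaf 0x0))) (.node 2 (.node 1 (.leaf 0x0) (.leaf 0x0)) (.node 1 (.leaf 0x0) (.leaf 0xfe)))))) (.node 16 (.node 8 (.node 4 (.node 2 (.node 1 (.leaf 0x0) (.leaf 0x69)) (.node 1 (.leaf 0x0) (.leaf 0x0))) (.node 2 (.node 1 (.leaf 0x0) (.leaf 0x5a)) (.node 1 (.leaf 0x0) (.leaf 0x0)))) (.node 4 (.node 2 (.node 1 (.leaf 0x0) (.leaf 0x58)) (.node 1 (.leaf 0x0) (.leaf 0x0))) (.node 2 (.node 1 (.leaf 0x0) (.leaf 0x80)) (.node 1 (.leaf 0x0) (.leaf 0x0))))) (.node 8 (.node 4 (.node 2 (.node 1 (.leaf 0x0) (.leaf 0xb8)) (.node 1 (.leaf 0x0) (.leaf 0x0))) (.node 2 (.node 1 (.leaf 0x0) (.leaf 0x0)) (.node 1 (.leaf 0x0) (.leaf 0x0)))) (.node 4 (.node 2 (.node 1 (.leaf 0x0) (.leaf 0x0)) (.node 1 (.leaf 0x0) (.leaf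 0x0))) (.node 2 (.node 1 (.leaf 0x0) (.leaf 0x9d)) (.node 1 (.leaf 0x0) (.leaf 0x0)))))))

def witP_3 : Tree :=
  .node 64 (.node 32 (.node 16 (.node 8 (.node 4 (.node 2 (.node 1 (.leaf 0x195) (.leaf 0x0)) (.node 1 (.leaf 0x0) (.leaf 0x0))) (.node 2 (.node 1 (.leaf 0x0) (.leaf 0x0)) (.node 1 (.leaf 0x0) (.leaf 0x0)))) (.node 4 (.node 2 (.node 1 (.leaf 0x0) (.leaf 0x0)) (.node 1 (.leaf 0x0) (.leaf 0x0))) (.node 2 (.node 1 (.leaf 0x0) (.leaf 0x0)) (.node 1 (.leaf 0x0) (.leaf 0x0))))) (.node 8 (.node 4 (.node 2 (.node 1 (.leaf 0x0) (.leaf 0x16e)) (.node 1 (.leaf 0x0) (.leaf 0x0))) (.node 2 (.node 1 (.leaf 0x0) (.leaf 0x0)) (.node 1 (.leaf 0x0) (.leaf 0x0)))) (.node 4 (.node 2 (.node 1 (.leaf 0x0) (.leaf 0x0)) (.node 1 (.leaf 0x0) (.leaf 0x0))) (.node 2 (.node 1 (.leaf 0x0) (.leaf 0x0)) (.node 1 (.leaf 0x0) (.leaf 0x0)))))) (.node 16 (.node 8 (.node 4 (.node 2 (.node 1 (.leaf 0x0) (.leaf 0x0)) (.node 1 (.leaf 0x0) (.leaf 0x0))) (.node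 2 (.node 1 (.leaf 0x0) (.leaf 0x0)) (.node 1 (.leaf 0x0) (.leaf 0x0)))) (.node 4 (.node 2 (.node 1 (.leaf 0x1cf) (.leaf 0x0)) (.node 1 (.leaf 0x0) (.leaf 0x0))) (.node 2 (.node 1 (.leaf 0x0) (.leaf 0x0)) (.node 1 (.leaf 0x0) (.leaf 0x0))))) (.node 8 (.node 4 (.node 2 (.node 1 (.leaf 0x0) (.leaf 0x194)) (.node 1 (.leaf 0x0) (.leaf 0x0))) (.node 2 (.node 1 (.leaf 0x0) (.leaf 0x0)) (.node 1 (.leaf 0x0) (.leaf 0x0)))) (.node 4 (.node 2 (.node 1 (.leaf 0x0) (.leaf 0x0)) (.node 1 (.leaf 0x0) (.leaf 0x0))) (.node 2 (.node 1 (.leaf 0x0) (.leaf 0x0)) (.node 1 (.leaf 0x0) (.leaf 0x0))))))) (.node 32 (.node 16 (.node 8 (.node 4 (.node 2 (.node 1 (.leaf 0x0) (.leaf 0x0)) (.node 1 (.leaf 0x0) (.leaf 0x0))) (.node 2 (.node 1 (.leaf 0x0) (.leaf 0x0)) (.node 1 (.leaf 0x0) (.leaf 0x0)))) (.node 4 (.node 2 (.node 1 (.leaf 0x0) (.leaf 0x0)) (.node 1 (.leaf 0x0) (.leaf 0x0))) (.node 2 (.node 1 (.leaf 0x1b6) (.leaf 0x0)) (.node 1 (.leaf 0x0) (.leaf 0x0)))))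 (.node 8 (.node 4 (.node 2 (.node 1 (.leaf 0x1b9) (.leaf 0x0)) (.node 1 (.leaf 0x0) (.leaf 0x0))) (.node 2 (.node 1 (.leaf 0x0) (.leaf 0x0)) (.node 1 (.leaf 0x0) (.leaf 0x0)))) (.node 4 (.node 2 (.node 1 (.leaf 0x0) (.leaf 0x0)) (.node 1 (.leaf 0x0) (.leaf 0x0))) (.node 2 (.node 1 (.leaf 0x0) (.leaf 0x0)) (.node 1 (.leaf 0x0) (.leaf 0x0)))))) (.node 16 (.node 8 (.node 4 (.node 2 (.node 1 (.leaf 0x0) (.leaf 0x0)) (.node 1 (.leaf 0x0) (.leaf 0x0))) (.node 2 (.node 1 (.leaf 0x0) (.leaf 0x1a5)) (.node 1 (.leaf 0x0) (.leaf 0x0)))) (.node 4 (.node 2 (.node 1 (.leaf 0x0) (.leaf 0x0)) (.node 1 (.leaf 0x0) (.leaf 0x0))) (.node 2 (.node 1 (.leaf 0x0) (.leaf 0x0)) (.node 1 (.leaf 0x0) (.leaf 0x0))))) (.node 8 (.node 4 (.node 2 (.node 1 (.leaf 0x0) (.leaf 0x0)) (.node 1 (.leaf 0x0) (.leaf 0x0))) (.node 2 (.node 1 (.leaf 0x0) (.leaf 0x0)) (.node 1 (.leaf 0x0) (.leaf 0x0)))) (.node 4 (.node 2 (.node 1 (.leaf 0x0) (.leaf 0x0)) (.node 1 (.leaf 0x0)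 (.leaf 0x0))) (.node 2 (.node 1 (.leaf 0x0) (.leaf 0x190)) (.node 1 (.leaf 0x0) (.leaf 0x0)))))))

def witP_4 : Tree :=
  .node 64 (.node 32 (.node 16 (.node 8 (.node 4 (.node 2 (.node 1 (.leaf 0x0) (.leaf 0x0)) (.node 1 (.leaf 0x0) (.leaf 0x0))) (.node 2 (.node 1 (.leaf 0x1d0) (.leaf 0x0)) (.node 1 (.leaf 0x0) (.leaf 0x0)))) (.node 4 (.node 2 (.node 1 (.leaf 0x0) (.leaf 0x0)) (.node 1 (.leaf 0x0) (.leaf 0x0))) (.node 2 (.node 1 (.leaf 0x0) (.leaf 0x0)) (.node 1 (.leaf 0x0) (.leaf 0x0))))) (.node 8 (.node 4 (.node 2 (.node 1 (.leaf 0x0) (.leaf 0x0)) (.node 1 (.leaf 0x0) (.leaf 0x0))) (.node 2 (.node 1 (.leaf 0x0) (.leaf 0x0)) (.node 1 (.leaf 0x0) (.leaf 0x0)))) (.node 4 (.node 2 (.node 1 (.leaf 0x0) (.leaf 0x183)) (.node 1 (.leaf 0x0) (.leaf 0x0))) (.node 2 (.node 1 (.leaf 0x0) (.leaf 0x0)) (.node 1 (.leaf 0x0) (.leaf 0x0)))))) (.node 16 (.node 8 (.node 4 (.node 2 (.node 1 (.leaf 0x0) (.leaf 0x0)) (.node 1 (.leaf 0x0) (.leaf 0x0)))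 (.node 2 (.node 1 (.leaf 0x0) (.leaf 0x1a7)) (.node 1 (.leaf 0x0) (.leaf 0x0)))) (.node 4 (.node 2 (.node 1 (.leaf 0x0) (.leaf 0x0)) (.node 1 (.leaf 0x0) (.leaf 0x0))) (.node 2 (.node 1 (.leaf 0x0) (.leaf 0x0)) (.node 1 (.leaf 0x0) (.leaf 0x0))))) (.node 8 (.node 4 (.node 2 (.node 1 (.leaf 0x0) (.leaf 0x0)) (.node 1 (.leaf 0x0) (.leaf 0x0))) (.node 2 (.node 1 (.leaf 0x0) (.leaf 0x0)) (.node 1 (.leaf 0x0) (.leaf 0x0)))) (.node 4 (.node 2 (.node 1 (.leaf 0x1cd) (.leaf 0x0)) (.node 1 (.leaf 0x0) (.leaf 0x0))) (.node 2 (.node 1 (.leaf 0x0) (.leaf 0x0)) (.node 1 (.leaf 0x0) (.leaf 0x0))))))) (.node 32 (.node 16 (.node 8 (.node 4 (.node 2 (.node 1 (.leaf 0x0) (.leaf 0x0)) (.node 1 (.leaf 0x0) (.leaf 0x0))) (.node 2 (.node 1 (.leaf 0x0) (.leaf 0x0)) (.node 1 (.leaf 0x0) (.leaf 0x0)))) (.node 4 (.node 2 (.node 1 (.leaf 0x0) (.leaf 0x0)) (.node 1 (.leaf 0x0) (.leaf 0x0))) (.node 2 (.node 1 (.leaf 0x0) (.leaf 0x1b5)) (.node 1 (.leaf 0x0) (.leaf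 0x0))))) (.node 8 (.node 4 (.node 2 (.node 1 (.leaf 0x0) (.leaf 0x0)) (.node 1 (.leaf 0x0) (.leaf 0x0))) (.node 2 (.node 1 (.leaf 0x0) (.leaf 0x0)) (.node 1 (.leaf 0x0) (.leaf 0x0)))) (.node 4 (.node 2 (.node 1 (.leaf 0x0) (.leaf 0x0)) (.node 1 (.leaf 0x0) (.leaf 0x0))) (.node 2 (.node 1 (.leaf 0x1df) (.leaf 0x0)) (.node 1 (.leaf 0x0) (.leaf 0x0)))))) (.node 16 (.node 8 (.node 4 (.node 2 (.node 1 (.leaf 0x0) (.leaf 0x0)) (.node 1 (.leaf 0x0) (.leaf 0x0))) (.node 2 (.node 1 (.leaf 0x1a9) (.leaf 0x0)) (.node 1 (.leaf 0x0) (.leaf 0x0)))) (.node 4 (.node 2 (.node 1 (.leaf 0x0) (.leaf 0x0)) (.node 1 (.leaf 0x0) (.leaf 0x0))) (.node 2 (.node 1 (.leaf 0x0) (.leaf 0x0)) (.node 1 (.leaf 0x0) (.leaf 0x0))))) (.node 8 (.node 4 (.node 2 (.node 1 (.leaf 0x0) (.leaf 0x0)) (.node 1 (.leaf 0x0) (.leaf 0x0))) (.node 2 (.node 1 (.leaf 0x0) (.leaf 0x0)) (.node 1 (.leaf 0x0) (.leaf 0x0)))) (.node 4 (.node 2 (.node 1 (.leaf 0x0) (.leaf 0x1a8)) (.node 1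 (.leaf 0x0) (.leaf 0x0))) (.node 2 (.node 1 (.leaf 0x0) (.leaf 0x0)) (.node 1 (.leaf 0x0) (.leaf 0x0)))))))

def witP_5 : Tree :=
  .node 64 (.node 32 (.node 16 (.node 8 (.node 4 (.node 2 (.node 1 (.leaf 0x0) (.leaf 0x41)) (.node 1 (.leaf 0x0) (.leaf 0x0))) (.node 2 (.node 1 (.leaf 0x0) (.leaf 0x0)) (.node 1 (.leaf 0x0) (.leaf 0x0)))) (.node 4 (.node 2 (.node 1 (.leaf 0x0) (.leaf 0x0)) (.node 1 (.leaf 0x0) (.leaf 0x0))) (.node 2 (.node 1 (.leaf 0x0) (.leaf 0x124)) (.node 1 (.leaf 0x0) (.leaf 0x0))))) (.node 8 (.node 4 (.node 2 (.node 1 (.leaf 0x0) (.leaf 0x202)) (.node 1 (.leaf 0x0) (.leaf 0x0))) (.node 2 (.node 1 (.leaf 0x0) (.leaf 0x0)) (.node 1 (.leaf 0x0) (.leaf 0x0)))) (.node 4 (.node 2 (.node 1 (.leaf 0x0) (.leaf 0x0)) (.node 1 (.leaf 0x0) (.leaf 0x0))) (.node 2 (.node 1 (.leaf 0x0) (.leaf 0xc6)) (.node 1 (.leaf 0x0) (.leaf 0x0)))))) (.node 16 (.node 8 (.node 4 (.node 2 (.node 1 (.leaf 0x0) (.leaf 0x100)) (.node 1 (.leaf 0x0)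 (.leaf 0x0))) (.node 2 (.node 1 (.leaf 0x0) (.leaf 0x0)) (.node 1 (.leaf 0x0) (.leaf 0x0)))) (.node 4 (.node 2 (.node 1 (.leaf 0x0) (.leaf 0x0)) (.node 1 (.leaf 0x0) (.leaf 0x0))) (.node 2 (.node 1 (.leaf 0x0) (.leaf 0x225)) (.node 1 (.leaf 0x0) (.leaf 0x0))))) (.node 8 (.node 4 (.node 2 (.node 1 (.leaf 0x0) (.leaf 0x127)) (.node 1 (.leaf 0x0) (.leaf 0x0))) (.node 2 (.node 1 (.leaf 0x0) (.leaf 0x0)) (.node 1 (.leaf 0x0) (.leaf 0x0)))) (.node 4 (.node 2 (.node 1 (.leaf 0x0) (.leaf 0x0)) (.node 1 (.leaf 0x0) (.leaf 0x0))) (.node 2 (.node 1 (.leaf 0x0) (.leaf 0x238)) (.node 1 (.leaf 0x0) (.leaf 0x0))))))) (.node 32 (.node 16 (.node 8 (.node 4 (.node 2 (.node 1 (.leaf 0x0) (.leaf 0xe8)) (.node 1 (.leaf 0x0) (.leaf 0x0))) (.node 2 (.node 1 (.leaf 0x0) (.leaf 0x0)) (.node 1 (.leaf 0x0) (.leaf 0x0)))) (.node 4 (.node 2 (.node 1 (.leaf 0x0) (.leaf 0x0)) (.node 1 (.leaf 0x0) (.leaf 0x0))) (.node 2 (.node 1 (.leaf 0x0) (.leaf 0x23)) (.node 1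 (.leaf 0x0) (.leaf 0x0))))) (.node 8 (.node 4 (.node 2 (.node 1 (.leaf 0x0) (.leaf 0x2a)) (.node 1 (.leaf 0x0) (.leaf 0x0))) (.node 2 (.node 1 (.leaf 0x0) (.leaf 0x0)) (.node 1 (.leaf 0x0) (.leaf 0x0)))) (.node 4 (.node 2 (.node 1 (.leaf 0x0) (.leaf 0x0)) (.node 1 (.leaf 0x0) (.leaf 0x0))) (.node 2 (.node 1 (.leaf 0x0) (.leaf 0x125)) (.node 1 (.leaf 0x0) (.leaf 0x0)))))) (.node 16 (.node 8 (.node 4 (.node 2 (.node 1 (.leaf 0x0) (.leaf 0x224)) (.node 1 (.leaf 0x0) (.leaf 0x0))) (.node 2 (.node 1 (.leaf 0x0) (.leaf 0x0)) (.node 1 (.leaf 0x0) (.leaf 0x0)))) (.node 4 (.node 2 (.node 1 (.leaf 0x0) (.leaf 0x0)) (.node 1 (.leaf 0x0) (.leaf 0x0))) (.node 2 (.node 1 (.leaf 0x0) (.leaf 0xff)) (.node 1 (.leaf 0x0) (.leaf 0x0))))) (.node 8 (.node 4 (.node 2 (.node 1 (.leaf 0x0) (.leaf 0x3a)) (.node 1 (.leaf 0x0) (.leaf 0x0))) (.node 2 (.node 1 (.leaf 0x0) (.leaf 0x0)) (.node 1 (.leaf 0x0) (.leaf 0x0)))) (.node 4 (.node 2 (.node 1 (.leaf 0x0) (.leaf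 0x0)) (.node 1 (.leaf 0x0) (.leaf 0x0))) (.node 2 (.node 1 (.leaf 0x0) (.leaf 0x10e)) (.node 1 (.leaf 0x0) (.leaf 0x0)))))))

def witP_6 : Tree :=
  .node 64 (.node 32 (.node 16 (.node 8 (.node 4 (.node 2 (.node 1 (.leaf 0x0) (.leaf 0xfd)) (.node 1 (.leaf 0x0) (.leaf 0x0))) (.node 2 (.node 1 (.leaf 0x0) (.leaf 0x0)) (.node 1 (.leaf 0x0) (.leaf 0x0)))) (.node 4 (.node 2 (.node 1 (.leaf 0x0) (.leaf 0x0)) (.node 1 (.leaf 0x0) (.leaf 0x0))) (.node 2 (.node 1 (.leaf 0x0) (.leaf 0x17)) (.node 1 (.leaf 0x0) (.leaf 0x0))))) (.node 8 (.node 4 (.node 2 (.node 1 (.leaf 0x0) (.leaf 0x137)) (.node 1 (.leaf 0x0) (.leaf 0x0))) (.node 2 (.node 1 (.leaf 0x0) (.leaf 0x0)) (.node 1 (.leaf 0x0) (.leaf 0x0)))) (.node 4 (.node 2 (.node 1 (.leaf 0x0) (.leaf 0x0)) (.node 1 (.leaf 0x0) (.leaf 0x0))) (.node 2 (.node 1 (.leaf 0x0) (.leaf 0x4d)) (.node 1 (.leaf 0x0) (.leaf 0x0)))))) (.node 16 (.node 8 (.node 4 (.node 2 (.node 1 (.leaf 0x0) (.leaf 0xec)) (.node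 1 (.leaf 0x0) (.leaf 0x0))) (.node 2 (.node 1 (.leaf 0x0) (.leaf 0x0)) (.node 1 (.leaf 0x0) (.leaf 0x0)))) (.node 4 (.node 2 (.node 1 (.leaf 0x0) (.leaf 0x0)) (.node 1 (.leaf 0x0) (.leaf 0x0))) (.node 2 (.node 1 (.leaf 0x0) (.leaf 0x214)) (.node 1 (.leaf 0x0) (.leaf 0x0))))) (.node 8 (.node 4 (.node 2 (.node 1 (.leaf 0x0) (.leaf 0xfc)) (.node 1 (.leaf 0x0) (.leaf 0x0))) (.node 2 (.node 1 (.leaf 0x0) (.leaf 0x0)) (.node 1 (.leaf 0x0) (.leaf 0x0)))) (.node 4 (.node 2 (.node 1 (.leaf 0x0) (.leaf 0x0)) (.node 1 (.leaf 0x0) (.leaf 0x0))) (.node 2 (.node 1 (.leaf 0x0) (.leaf 0x29)) (.node 1 (.leaf 0x0) (.leaf 0x0))))))) (.node 32 (.node 16 (.node 8 (.node 4 (.node 2 (.node 1 (.leaf 0x0) (.leaf 0xed)) (.node 1 (.leaf 0x0) (.leaf 0x0))) (.node 2 (.node 1 (.leaf 0x0) (.leaf 0x0)) (.node 1 (.leaf 0x0) (.leaf 0x0)))) (.node 4 (.node 2 (.node 1 (.leaf 0x0) (.leaf 0x0)) (.node 1 (.leaf 0x0) (.leaf 0x0))) (.node 2 (.node 1 (.leaf 0x0) (.leaf 0x215))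 (.node 1 (.leaf 0x0) (.leaf 0x0))))) (.node 8 (.node 4 (.node 2 (.node 1 (.leaf 0x0) (.leaf 0x20e)) (.node 1 (.leaf 0x0) (.leaf 0x0))) (.node 2 (.node 1 (.leaf 0x0) (.leaf 0x0)) (.node 1 (.leaf 0x0) (.leaf 0x0)))) (.node 4 (.node 2 (.node 1 (.leaf 0x0) (.leaf 0x0)) (.node 1 (.leaf 0x0) (.leaf 0x0))) (.node 2 (.node 1 (.leaf 0x0) (.leaf 0xdb)) (.node 1 (.leaf 0x0) (.leaf 0x0)))))) (.node 16 (.node 8 (.node 4 (.node 2 (.node 1 (.leaf 0x0) (.leaf 0x22c)) (.node 1 (.leaf 0x0) (.leaf 0x0))) (.node 2 (.node 1 (.leaf 0x0) (.leaf 0x0)) (.node 1 (.leaf 0x0) (.leaf 0x0)))) (.node 4 (.node 2 (.node 1 (.leaf 0x0) (.leaf 0x0)) (.node 1 (.leaf 0x0) (.leaf 0x0))) (.node 2 (.node 1 (.leaf 0x0) (.leaf 0x111)) (.node 1 (.leaf 0x0) (.leaf 0x0))))) (.node 8 (.node 4 (.node 2 (.node 1 (.leaf 0x0) (.leaf 0x39)) (.node 1 (.leaf 0x0) (.leaf 0x0))) (.node 2 (.node 1 (.leaf 0x0) (.leaf 0x0)) (.node 1 (.leaf 0x0) (.leaf 0x0)))) (.node 4 (.node 2 (.node 1 (.leaf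 0x0) (.leaf 0x0)) (.node 1 (.leaf 0x0) (.leaf 0x0))) (.node 2 (.node 1 (.leaf 0x0) (.leaf 0x10d)) (.node 1 (.leaf 0x0) (.leaf 0x0)))))))

def witP_7 : Tree :=
  .node 64 (.node 32 (.node 16 (.node 8 (.node 4 (.node 2 (.node 1 (.leaf 0x146) (.leaf 0x2f)) (.node 1 (.leaf 0x170) (.leaf 0x19))) (.node 2 (.node 1 (.leaf 0x0) (.leaf 0x0)) (.node 1 (.leaf 0x0) (.leaf 0x0)))) (.node 4 (.node 2 (.node 1 (.leaf 0x0) (.leaf 0x0)) (.node 1 (.leaf 0x0) (.leaf 0x0))) (.node 2 (.node 1 (.leaf 0x161) (.leaf 0x21a)) (.node 1 (.leaf 0x204) (.leaf 0x1a6))))) (.node 8 (.node 4 (.node 2 (.node 1 (.leaf 0x17e) (.leaf 0x35)) (.node 1 (.leaf 0x25) (.leaf 0x185))) (.node 2 (.node 1 (.leaf 0x0) (.leaf 0x0)) (.node 1 (.leaf 0x0) (.leaf 0x0)))) (.node 4 (.node 2 (.node 1 (.leaf 0x0) (.leaf 0x0)) (.node 1 (.leaf 0x0) (.leaf 0x0))) (.node 2 (.node 1 (.leaf 0x14c) (.leaf 0x220)) (.node 1 (.leaf 0x192) (.leaf 0x210)))))) (.node 16 (.node 8 (.node 4 (.node 2 (.node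 1 (.leaf 0x8f) (.leaf 0x9a)) (.node 1 (.leaf 0x4e) (.leaf 0x227))) (.node 2 (.node 1 (.leaf 0x0) (.leaf 0x0)) (.node 1 (.leaf 0x0) (.leaf 0x0)))) (.node 4 (.node 2 (.node 1 (.leaf 0x0) (.leaf 0x0)) (.node 1 (.leaf 0x0) (.leaf 0x0))) (.node 2 (.node 1 (.leaf 0x6d) (.leaf 0x8b)) (.node 1 (.leaf 0x1e0) (.leaf 0x1ab))))) (.node 8 (.node 4 (.node 2 (.node 1 (.leaf 0x0) (.leaf 0x81)) (.node 1 (.leaf 0x0) (.leaf 0x0))) (.node 2 (.node 1 (.leaf 0x5f) (.leaf 0x0)) (.node 1 (.leaf 0x0) (.leaf 0x0)))) (.node 4 (.node 2 (.node 1 (.leaf 0x5d) (.leaf 0x0)) (.node 1 (.leaf 0x0) (.leaf 0x0))) (.node 2 (.node 1 (.leaf 0x0) (.leaf 0x6a)) (.node 1 (.leaf 0x0) (.leaf 0x0))))))) (.node 32 (.node 16 (.node 8 (.node 4 (.node 2 (.node 1 (.leaf 0x0) (.leaf 0xd6)) (.node 1 (.leaf 0x0) (.leaf 0x0))) (.node 2 (.node 1 (.leaf 0x0) (.leaf 0x0)) (.node 1 (.leaf 0x0) (.leaf 0x0)))) (.node 4 (.node 2 (.node 1 (.leaf 0x0) (.leaf 0x0)) (.node 1 (.leaf 0x0) (.leaf 0x0)))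 (.node 2 (.node 1 (.leaf 0x0) (.leaf 0xa4)) (.node 1 (.leaf 0x0) (.leaf 0x0))))) (.node 8 (.node 4 (.node 2 (.node 1 (.leaf 0x76) (.leaf 0x8c)) (.node 1 (.leaf 0x1ba) (.leaf 0x1ce))) (.node 2 (.node 1 (.leaf 0x0) (.leaf 0x0)) (.node 1 (.leaf 0x0) (.leaf 0x0)))) (.node 4 (.node 2 (.node 1 (.leaf 0x0) (.leaf 0x0)) (.node 1 (.leaf 0x0) (.leaf 0x0))) (.node 2 (.node 1 (.leaf 0x90) (.leaf 0x99)) (.node 1 (.leaf 0x22d) (.leaf 0x2d)))))) (.node 16 (.node 8 (.node 4 (.node 2 (.node 1 (.leaf 0x0) (.leaf 0x9e)) (.node 1 (.leaf 0x0) (.leaf 0x0))) (.node 2 (.node 1 (.leaf 0x0) (.leaf 0x0)) (.node 1 (.leaf 0x0) (.leaf 0x0)))) (.node 4 (.node 2 (.node 1 (.leaf 0x0) (.leaf 0x0)) (.node 1 (.leaf 0x0) (.leaf 0x0))) (.node 2 (.node 1 (.leaf 0x0) (.leaf 0xb9)) (.node 1 (.leaf 0x0) (.leaf 0x0))))) (.node 8 (.node 4 (.node 2 (.node 1 (.leaf 0x0) (.leaf 0x75)) (.node 1 (.leaf 0x0) (.leaf 0x0))) (.node 2 (.node 1 (.leaf 0x65) (.leaf 0x0)) (.node 1 (.leaf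 0x0) (.leaf 0x0)))) (.node 4 (.node 2 (.node 1 (.leaf 0x67) (.leaf 0x0)) (.node 1 (.leaf 0x0) (.leaf 0x0))) (.node 2 (.node 1 (.leaf 0x0) (.leaf 0x82)) (.node 1 (.leaf 0x0) (.leaf 0x0)))))))

def witP : Tree :=
  .node 512 (.node 256 (.node 128 (witP_0) (witP_1)) (.node 128 (witP_2) (witP_3))) (.node 256 (.node 128 (witP_4) (witP_5)) (.node 128 (witP_6) (witP_7)))

def listL (i : ℕ) : List ℕ :=
  cond (Nat.blt i 126) (conjW (listA i) [0]) (conjW (listB (Nat.sub i 126)) [4])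

def candA (i : ℕ) : List ℕ := conjW (listA i) [0]

def candB (i : ℕ) : List ℕ := conjW (listB i) [4]

def candD (i : ℕ) : List ℕ := conjW (subW gensA (orbE i)) [4]

def candsA : List (List ℕ) := (List.range 126).map candA

def candsB : List (List ℕ) := (List.range 449).map candB

def candsD : List (List ℕ) := (List.range 315).map candD

def moves1_0 : Tree :=
  .node 63 (.node 31 (.node 15 (.node 7 (.node 3 (.node 1 (.leaf 0x114990d1951cd149501) (.node 1 (.leaf 0x11590d1951cd149501) (.leaf 0x11590d1951cd1449501))) (.node 2 (.node 1 (.leaf 0x11590d1951d149501) (.leaf 0x1cd149501)) (.node 1 (.leaf 0x19d144990d19d0d1c9501) (.leaf 0x114990d1951cd1449501)))) (.node 4 (.node 2 (.node 1 (.leaf 0x11590d1951d1449501) (.leaf 0x1cd1449501)) (.node 1 (.leaf 0x19d1590d19d0d1c9501) (.leaf 0x1d149501))) (.node 2 (.node 1 (.leaf 0x1915d0d1d90d1849501) (.leaf 0xd149501)) (.node 1 (.leaf 0x115d0d1d51cd149501) (.leaf 0x11590d19d0d1c49501))))) (.node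 8 (.node 4 (.node 2 (.node 1 (.leaf 0x1915d0d1c49501) (.leaf 0x1d1449501)) (.node 1 (.leaf 0x1915d0d1d90d189501) (.leaf 0xd1449501))) (.node 2 (.node 1 (.leaf 0x1915d0d1d50d149501) (.leaf 0x11590d19d0d1c9501)) (.node 1 (.leaf 0x1915d0d1c9501) (.leaf 0x1c1)))) (.node 4 (.node 2 (.node 1 (.leaf 0x1149501) (.leaf 0x19149d0d1d90d1849501)) (.node 1 (.leaf 0x115d0d1d90d1849501) (.leaf 0xd14990d189501))) (.node 2 (.node 1 (.leaf 0x115d0d1d50d149501) (.leaf 0x1149d0d1d51cd149501)) (.node 1 (.leaf 0x115d0d1d50d1449501) (.leaf 0x115d0d1c49501)))))) (.node 16 (.node 8 (.node 4 (.node 2 (.node 1 (.leaf 0xd14990d1849501) (.leaf 0x19149d0d1c49501)) (.node 1 (.leaf 0x115d0d1c9501) (.leaf 0x1d14849501))) (.node 2 (.node 1 (.leaf 0x11449501) (.leaf 0x19149d0d1d90d189501)) (.node 1 (.leaf 0x115d0d1d90d189501) (.leaf 0x19149d0d1d50d149501)))) (.node 4 (.node 2 (.node 1 (.leaf 0x11449d0d1c9501) (.leaf 0x1)) (.node 1 (.leaf 0x115d0d1d51c1) (.leaf 0x11590d189501)))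 (.node 2 (.node 1 (.leaf 0x1149d0d1d90d1849501) (.leaf 0x19d1590d189d0d1d90d1849501)) (.node 1 (.leaf 0x11590d1849501) (.leaf 0x114990d1950d149501))))) (.node 8 (.node 4 (.node 2 (.node 1 (.leaf 0x1149d0d1d50d149501) (.leaf 0xd149d0d1d51cd149501)) (.node 1 (.leaf 0x1149d0d1d50d1449501) (.leaf 0x11590d189d0d1d51cd149501))) (.node 2 (.node 1 (.leaf 0x1149d0d1c49501) (.leaf 0x114990d1950d1449501)) (.node 1 (.leaf 0x18d149d0d1c49501) (.leaf 0x1149d0d1c9501)))) (.node 4 (.node 2 (.node 1 (.leaf 0x1149d0d1d51c1) (.leaf 0x114849501)) (.node 1 (.leaf 0x114849d0d1d501) (.leaf 0x1149d0d1d90d189501))) (.node 2 (.node 1 (.leaf 0x19d1590d189d0d1d90d189501) (.leaf 0x18d149d0d1d50d149501)) (.node 1 (.leaf 0x11590d189d0d1d51cd1449501) (.leaf 0xd1449d0d1c9501))))))) (.node 31 (.node 15 (.node 7 (.node 3 (.node 1 (.leaf 0x11449d0d1d501) (.node 1 (.leaf 0x115d0d1d501) (.leaf 0x11590d189d0d1d90d1849501))) (.node 2 (.node 1 (.leaf 0xd149d0d1d50d149501)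 (.leaf 0x11590d189d0d1d50d149501)) (.node 1 (.leaf 0xd149d0d1d50d1449501) (.leaf 0x11590d1950d149d0d1d51cd149501)))) (.node 4 (.node 2 (.node 1 (.leaf 0x11590d189d0d1d50d1449501) (.leaf 0xd149d0d1c49501)) (.node 1 (.leaf 0x11449d0d1d51c1) (.leaf 0xd149d0d1c9501))) (.node 2 (.node 1 (.leaf 0xd149d0d1d51c1) (.leaf 0x1149d0d1d501)) (.node 1 (.leaf 0x115d0d1c849501) (.leaf 0x11590d189d0d1d90d189501))))) (.node 8 (.node 4 (.node 2 (.node 1 (.leaf 0x11590d18950d1449d0d1c9501) (.leaf 0xd1449d0d1d501)) (.node 1 (.leaf 0xd14990d189d0d1c990d189501) (.leaf 0xd14990d189d0d1c990d1849501))) (.node 2 (.node 1 (.leaf 0xd1449d0d1d51c1) (.leaf 0xd149d0d1d501)) (.node 1 (.leaf 0x0) (.leaf 0x1149500)))) (.node 4 (.node 2 (.node 1 (.leaf 0xd149500) (.leaf 0x11590d189500)) (.node 1 (.leaf 0x115d0d1c9500) (.leaf 0xd14990d189500))) (.node 2 (.node 1 (.leaf 0xd149d0d1c9500) (.leaf 0x1d1590d189500)) (.node 1 (.leaf 0x115d0d1d90d189500) (.leaf 0x1915d0d1c9500))))))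 (.node 16 (.node 8 (.node 4 (.node 2 (.node 1 (.leaf 0x11590d19d0d1c9500) (.leaf 0x114990d1950d149500)) (.node 1 (.leaf 0x1cd14990d189500) (.leaf 0x1149d0d1d50d149500))) (.node 2 (.node 1 (.leaf 0x18d149d0d1c9500) (.leaf 0x11590d1951d1590d189500)) (.node 1 (.leaf 0x1915d0d1d90d189500) (.leaf 0x1149d0d1d90d189500)))) (.node 4 (.node 2 (.node 1 (.leaf 0x1d1590d19d0d1c9500) (.leaf 0x114990d19d0d1c9500)) (.node 1 (.leaf 0x1d14990d1950d149500) (.leaf 0x115d0d1c990d1950d149500))) (.node 2 (.node 1 (.leaf 0x11590d1951cd14990d189500) (.leaf 0x19149d0d1d50d149500)) (.node 1 (.leaf 0x11590d189d0d1d50d149500) (.leaf 0x114990d1951d1590d189500))))) (.node 8 (.node 4 (.node 2 (.node 1 (.leaf 0x11449d0d1d90d189500) (.leaf 0xd149d0d1d90d189500)) (.node 1 (.leaf 0x11590d189d0d1d90d189500) (.leaf 0x1144990d19d0d1c9500))) (.node 2 (.node 1 (.leaf 0xd14990d19d0d1c9500) (.leaf 0x115d0d1c990d19d0d1c9500)) (.node 1 (.leaf 0x1d915d0d1c990d1950d149500) (.leaf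 0x19d1590d189d0d1d50d149500)))) (.node 4 (.node 2 (.node 1 (.leaf 0xd1449d0d1d90d189500) (.leaf 0x11590d1849d0d1d90d189500)) (.node 1 (.leaf 0xd14990d189d0d1c950d149500) (.leaf 0xd144990d19d0d1c9500))) (.node 2 (.node 1 (.leaf 0x115d0d1c4990d19d0d1c9500) (.leaf 0xd149d0d1c990d18950d149500)) (.node 1 (.leaf 0xd144990d189d0d1c950d149500) (.leaf 0xd1449d0d1c990d18950d149500)))))))

def moves1 : Tree :=
  moves1_0

def reps1 : List (List (List ℕ)) := [[[4], [0]], [[4], [3, 4, 2, 3, 2, 3, 1, 2, 3, 5, 4, 3, 2, 1, 0, 1, 2, 3, 4, 5, 3, 2, 1, 3, 2, 3, 2, 4, 3]]]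

def level1 : Level := ⟨candsA, [], [], reps1, moves1⟩

def moves2_0 : Tree :=
  .node 64 (.node 32 (.node 16 (.node 8 (.node 4 (.node 2 (.node 1 (.leaf 0x0) (.leaf 0xc0)) (.node 1 (.leaf 0xd145500) (.leaf 0x0))) (.node 2 (.node 1 (.leaf 0x11590d1950c0) (.leaf 0x115d0d1d50c0)) (.node 1 (.leaf 0x0) (.leaf 0x1145500)))) (.node 4 (.node 2 (.node 1 (.leaf 0x11484990d1950c0) (.leaf 0x114849d0d1d50c0)) (.node 1 (.leaf 0x11590d19500) (.leaf 0x115d0d1d500))) (.node 2 (.node 1 (.leaf 0x1d1590d1950c0) (.leaf 0x11590d19d0d1d500)) (.node 1 (.leaf 0x1915d0d1d50c0) (.leaf 0x115d0d1d90d19500))))) (.node 8 (.node 4 (.node 2 (.node 1 (.leaf 0x11590d185500) (.leaf 0x115d0d1c5500)) (.node 1 (.leaf 0x1d1484990d1950c0) (.leaf 0x11590d19d0d1c5500))) (.node 2 (.node 1 (.leaf 0x1914849d0d1d50c0) (.leaf 0x115d0d1d90d185500)) (.node 1 (.leaf 0x0) (.leaf 0x1d1590d19500)))) (.node 4 (.node 2 (.node 1 (.leaf 0x0) (.leaf 0x1915d0d1d500)) (.node 1 (.leaf 0x11590d1951d1590d1950c0)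 (.leaf 0x1d1590d19d0d1d500))) (.node 2 (.node 1 (.leaf 0x183) (.leaf 0x1d1590d19d0d1c5500)) (.node 1 (.leaf 0x1915d0d1d90d19500) (.leaf 0x115d0d1d51915d0d1d50c0)))))) (.node 16 (.node 8 (.node 4 (.node 2 (.node 1 (.leaf 0x1c4) (.leaf 0x1915d0d1d90d185500)) (.node 1 (.leaf 0x0) (.leaf 0x1d1590d185500))) (.node 2 (.node 1 (.leaf 0x0) (.leaf 0x1915d0d1c5500)) (.node 1 (.leaf 0x1c3) (.leaf 0x184)))) (.node 4 (.node 2 (.node 1 (.leaf 0x0) (.leaf 0x0)) (.node 1 (.leaf 0x11590d1951d1590d19500) (.leaf 0x0))) (.node 2 (.node 1 (.leaf 0x0) (.leaf 0x115d0d1d51915d0d1d500)) (.node 1 (.leaf 0x0) (.leaf 0x1d83))))) (.node 8 (.node 4 (.node 2 (.node 1 (.leaf 0x18c3) (.leaf 0x3)) (.node 1 (.leaf 0x11590d195183) (.leaf 0x1d84))) (.node 2 (.node 1 (.leaf 0x0) (.leaf 0x1cc4)) (.node 1 (.leaf 0x4) (.leaf 0x115d0d1d51c4)))) (.node 4 (.node 2 (.node 1 (.leaf 0x0) (.leaf 0x0)) (.node 1 (.leaf 0x0) (.leaf 0x0))) (.node 2 (.node 1 (.leaf 0x1cc3) (.leaf 0x11590d185503))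 (.node 1 (.leaf 0x18c4) (.leaf 0x115d0d1c5504))))))) (.node 32 (.node 16 (.node 8 (.node 4 (.node 2 (.node 1 (.leaf 0x0) (.leaf 0x0)) (.node 1 (.leaf 0x1d8c3) (.leaf 0x11590d1951d83))) (.node 2 (.node 1 (.leaf 0xc3) (.leaf 0x11590d19518c3)) (.node 1 (.leaf 0x11590d19503) (.leaf 0x1d8c4)))) (.node 4 (.node 2 (.node 1 (.leaf 0x115d0d1d51d84) (.leaf 0xc4)) (.node 1 (.leaf 0x115d0d1d51cc4) (.leaf 0x115d0d1d504))) (.node 2 (.node 1 (.leaf 0x0) (.leaf 0x0)) (.node 1 (.leaf 0x11590d1951cc3) (.leaf 0x115d0d1d518c4))))) (.node 8 (.node 4 (.node 2 (.node 1 (.leaf 0x11590d1951d8c3) (.leaf 0x11590d1950c3)) (.node 1 (.leaf 0x115d0d1d51d8c4) (.leaf 0x115d0d1d50c4))) (.node 2 (.node 1 (.leaf 0x0) (.leaf 0x0)) (.node 1 (.leaf 0x0) (.leaf 0x0)))) (.node 4 (.node 2 (.node 1 (.leaf 0x0) (.leaf 0x0)) (.node 1 (.leaf 0x0) (.leaf 0x0))) (.node 2 (.node 1 (.leaf 0x0) (.leaf 0x0)) (.node 1 (.leaf 0x0) (.leaf 0x0)))))) (.node 16 (.node 8 (.node 4 (.node 2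 (.node 1 (.leaf 0x0) (.leaf 0x0)) (.node 1 (.leaf 0x0) (.leaf 0x0))) (.node 2 (.node 1 (.leaf 0x0) (.leaf 0x1)) (.node 1 (.leaf 0x0) (.leaf 0x2)))) (.node 4 (.node 2 (.node 1 (.leaf 0x0) (.leaf 0x0)) (.node 1 (.leaf 0x0) (.leaf 0x0))) (.node 2 (.node 1 (.leaf 0x0) (.leaf 0x0)) (.node 1 (.leaf 0x181) (.leaf 0xc1))))) (.node 8 (.node 4 (.node 2 (.node 1 (.leaf 0x11590d19501) (.leaf 0x182)) (.node 1 (.leaf 0xc2) (.leaf 0x115d0d1d502))) (.node 2 (.node 1 (.leaf 0x0) (.leaf 0x0)) (.node 1 (.leaf 0x18c1) (.leaf 0x11590d185501)))) (.node 4 (.node 2 (.node 1 (.leaf 0x11590d1950c1) (.leaf 0x18c2)) (.node 1 (.leaf 0x115d0d1c5502) (.leaf 0x115d0d1d50c2))) (.node 2 (.node 1 (.leaf 0x11590d19518c1) (.leaf 0x115d0d1d518c2)) (.node 1 (.leaf 0x0) (.leaf 0x0)))))))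

def moves2_1 : Tree :=
  .node 62 (.node 31 (.node 15 (.node 7 (.node 3 (.node 1 (.leaf 0x0) (.node 1 (.leaf 0x0) (.leaf 0x0))) (.node 2 (.node 1 (.leaf 0x18c9) (.leaf 0x0)) (.node 1 (.leaf 0x0) (.leaf 0x0)))) (.node 4 (.node 2 (.node 1 (.leaf 0x18d145509) (.leaf 0x0)) (.node 1 (.leaf 0x189) (.leaf 0x0))) (.node 2 (.node 1 (.leaf 0x11590d195189) (.leaf 0xc9)) (.node 1 (.leaf 0x11590d19518c9) (.leaf 0x0))))) (.node 8 (.node 4 (.node 2 (.node 1 (.leaf 0x19145509) (.leaf 0x0)) (.node 1 (.leaf 0x1d1590d1951c9) (.leaf 0xd145509))) (.node 2 (.node 1 (.leaf 0x1d1590d1951cc9) (.leaf 0x0)) (.node 1 (.leaf 0x0) (.leaf 0x188)))) (.node 4 (.node 2 (.node 1 (.leaf 0x9) (.leaf 0x0)) (.node 1 (.leaf 0x11590d185509) (.leaf 0x0))) (.node 2 (.node 1 (.leaf 0x11590d19509) (.leaf 0x11590d1950c9)) (.node 1 (.leaf 0x0) (.leaf 0x0)))))) (.node 15 (.node 7 (.node 3 (.node 1 (.leaf 0x1d1590d1951d8c9) (.node 1 (.leaf 0x0) (.leaf 0x0))) (.node 2 (.node 1 (.leaf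 0x114990d1951d1590d189508) (.leaf 0x1145509)) (.node 1 (.leaf 0x0) (.leaf 0x0)))) (.node 4 (.node 2 (.node 1 (.leaf 0x0) (.leaf 0x0)) (.node 1 (.leaf 0x0) (.leaf 0x8))) (.node 2 (.node 1 (.leaf 0x11590d195188) (.leaf 0x0)) (.node 1 (.leaf 0x0) (.leaf 0x0))))) (.node 8 (.node 4 (.node 2 (.node 1 (.leaf 0x0) (.leaf 0x0)) (.node 1 (.leaf 0x0) (.leaf 0x0))) (.node 2 (.node 1 (.leaf 0x0) (.leaf 0x0)) (.node 1 (.leaf 0x0) (.leaf 0x115d0d1c990d1950d149d0d1d5188)))) (.node 4 (.node 2 (.node 1 (.leaf 0x0) (.leaf 0x0)) (.node 1 (.leaf 0x114990d19519d1590d189508) (.leaf 0x114990d1951d14990d189508))) (.node 2 (.node 1 (.leaf 0x0) (.leaf 0x0)) (.node 1 (.leaf 0x0) (.leaf 0x1d915d0d1c990d1950d149d0d1d51c8))))))) (.node 31 (.node 15 (.node 7 (.node 3 (.node 1 (.leaf 0x0) (.node 1 (.leaf 0x11590d19508) (.leaf 0x0))) (.node 2 (.node 1 (.leaf 0x0) (.leaf 0x0)) (.node 1 (.leaf 0x0) (.leaf 0x0)))) (.node 4 (.node 2 (.node 1 (.leaf 0x0) (.leaf 0x1149d0d1c990d189d0d1c9508))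 (.node 1 (.leaf 0x0) (.leaf 0xd149d0d1c990d189d0d1d519149508))) (.node 2 (.node 1 (.leaf 0x1149d0d1c4990d189d0d1c49508) (.leaf 0x0)) (.node 1 (.leaf 0x114990d19519d14990d189508) (.leaf 0x0))))) (.node 8 (.node 4 (.node 2 (.node 1 (.leaf 0xd149d0d1d90d1951d14990d19d0d1c9508) (.leaf 0x0)) (.node 1 (.leaf 0x0) (.leaf 0xd149d0d1c990d189d0d1c9508))) (.node 2 (.node 1 (.leaf 0xd149d0d1c4990d189d0d1c49508) (.leaf 0x0)) (.node 1 (.leaf 0x5) (.leaf 0xc5)))) (.node 4 (.node 2 (.node 1 (.leaf 0x11590d19505) (.leaf 0x6)) (.node 1 (.leaf 0x11590d1950c5) (.leaf 0xc6))) (.node 2 (.node 1 (.leaf 0x1d1590d1951c5) (.leaf 0x11590d1950c6)) (.node 1 (.leaf 0x186) (.leaf 0x11590d19506)))))) (.node 15 (.node 7 (.node 3 (.node 1 (.leaf 0x0) (.node 1 (.leaf 0x1d1590d1951cc5) (.leaf 0x7))) (.node 2 (.node 1 (.leaf 0x18c6) (.leaf 0x115d0d1d51915d0d1d505)) (.node 1 (.leaf 0x11590d19518c6) (.leaf 0x1149d0d1c990d189d0d1c9505)))) (.node 4 (.node 2 (.node 1 (.leaf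 0x11590d195186) (.leaf 0x0)) (.node 1 (.leaf 0x0) (.leaf 0x0))) (.node 2 (.node 1 (.leaf 0x115d0d1d51915d0d1d50c5) (.leaf 0x187)) (.node 1 (.leaf 0x11590d19507) (.leaf 0x0))))) (.node 8 (.node 4 (.node 2 (.node 1 (.leaf 0x19149d0d1c990d189d0d1c9505) (.leaf 0xd149d0d1c990d189d0d1c9505)) (.node 1 (.leaf 0x11590d189d0d1c990d189d0d1c9505) (.leaf 0x0))) (.node 2 (.node 1 (.leaf 0x0) (.leaf 0x1149d0d1c990d189d0d1c9507)) (.node 1 (.leaf 0x0) (.leaf 0x11590d195187)))) (.node 4 (.node 2 (.node 1 (.leaf 0x18d149d0d1c990d189d0d1c9505) (.leaf 0x115d0d1c990d19518d149d0d1d90d19505)) (.node 1 (.leaf 0x115d0d1c990d1950d149d0d1d50c5) (.leaf 0x0))) (.node 2 (.node 1 (.leaf 0x115d0d1c990d1950d149d0d1d5187) (.leaf 0xd149d0d1c990d189d0d1c9507)) (.node 1 (.leaf 0x1149d0d1c4990d189d0d1c4950c5) (.leaf 0xd149d0d1c990d189d0d1d519149507)))))))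

def moves2 : Tree :=
  .node 128 (moves2_0) (moves2_1)

def reps2 : List (List (List ℕ)) := [[[4], [0], [1]], [[4], [0], [3, 6, 4, 3, 1, 2, 3, 6, 5, 3, 2, 1, 0, 1, 2, 3, 5, 6, 3, 2, 1, 3, 4, 6, 3]], [[4], [0], [3, 5, 4, 3, 1, 2, 3, 5, 6, 3, 2, 1, 0, 1, 2, 3, 6, 5, 3, 2, 1, 3, 4, 5, 3]], [[4], [0], [3, 6, 2, 3, 2, 3, 1, 2, 3, 6, 5, 3, 2, 1, 0, 1, 2, 3, 5, 6, 3, 2, 1, 3, 2, 3, 2, 6, 3]], [[4], [0], [3, 5, 2, 3, 2, 3, 1, 2, 3, 5, 6, 3, 2, 1, 0, 1, 2, 3, 6, 5, 3, 2, 1, 3, 2, 3, 2, 5, 3]], [[4], [3, 4, 2, 3, 2, 3, 1, 2, 3, 5, 4, 3, 2, 1, 0, 1, 2, 3, 4, 5, 3, 2, 1, 3, 2, 3, 2, 4, 3], [1, 0, 1]], [[4], [3, 4, 2, 3, 2, 3, 1, 2, 3, 5, 4, 3, 2, 1, 0, 1, 2, 3, 4, 5, 3, 2, 1, 3, 2, 3, 2, 4, 3], [3, 6, 4, 3, 2, 1, 0, 1, 2, 3, 4, 6, 3]], [[4], [3, 4, 2, 3, 2, 3, 1, 2, 3, 5, 4, 3, 2, 1, 0, 1, 2, 3, 4, 5, 3, 2, 1, 3, 2, 3, 2, 4, 3], [1, 2, 3, 6, 4, 3, 2, 1, 0, 1, 2, 3, 4, 6, 3, 2, 1]], [[4], [3, 4, 2, 3, 2, 3, 1, 2, 3, 5, 4, 3, 2, 1, 0, 1, 2, 3,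 4, 5, 3, 2, 1, 3, 2, 3, 2, 4, 3], [3, 4, 2, 3, 2, 3, 1, 2, 3, 6, 4, 3, 2, 1, 0, 1, 2, 3, 4, 6, 3, 2, 1, 3, 2, 3, 2, 4, 3]], [[4], [3, 4, 2, 3, 2, 3, 1, 2, 3, 5, 4, 3, 2, 1, 0, 1, 2, 3, 4, 5, 3, 2, 1, 3, 2, 3, 2, 4, 3], [3, 4, 1, 2, 3, 2, 3, 1, 2, 3, 6, 4, 3, 2, 1, 0, 1, 2, 3, 4, 6, 3, 2, 1, 3, 2, 3, 2, 1, 4, 3]]]

def level2 : Level := ⟨candsA, [[2, 1, 2, 1, 2, 1, 2, 1]], [[2, 1], [2, 1, 2, 1]], reps2, moves2⟩

def moves3_0 : Tree :=
  .node 64 (.node 32 (.node 16 (.node 8 (.node 4 (.node 2 (.node 1 (.leaf 0x0) (.leaf 0x0)) (.node 1 (.leaf 0x0) (.leaf 0x0))) (.node 2 (.node 1 (.leaf 0x0) (.leaf 0x0)) (.node 1 (.leaf 0x1148485500) (.leaf 0x0)))) (.node 4 (.node 2 (.node 1 (.leaf 0x0) (.leaf 0x0)) (.node 1 (.leaf 0x0) (.leaf 0x0))) (.node 2 (.node 1 (.leaf 0x0) (.leaf 0x0)) (.node 1 (.leaf 0x0) (.leaf 0x0))))) (.node 8 (.node 4 (.node 2 (.node 1 (.leaf 0x0) (.leaf 0x0)) (.node 1 (.leaf 0x0) (.leaf 0x0))) (.node 2 (.node 1 (.leaf 0x0)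 (.leaf 0x0)) (.node 1 (.leaf 0x0) (.leaf 0x0)))) (.node 4 (.node 2 (.node 1 (.leaf 0x0) (.leaf 0x0)) (.node 1 (.leaf 0x0) (.leaf 0x0))) (.node 2 (.node 1 (.leaf 0x0) (.leaf 0x0)) (.node 1 (.leaf 0x0) (.leaf 0x0)))))) (.node 16 (.node 8 (.node 4 (.node 2 (.node 1 (.leaf 0x0) (.leaf 0x0)) (.node 1 (.leaf 0x0) (.leaf 0x0))) (.node 2 (.node 1 (.leaf 0x0) (.leaf 0x0)) (.node 1 (.leaf 0x0) (.leaf 0x0)))) (.node 4 (.node 2 (.node 1 (.leaf 0x0) (.leaf 0x0)) (.node 1 (.leaf 0x0) (.leaf 0x0))) (.node 2 (.node 1 (.leaf 0x0) (.leaf 0x0)) (.node 1 (.leaf 0x0) (.leaf 0x0))))) (.node 8 (.node 4 (.node 2 (.node 1 (.leaf 0x0) (.leaf 0x0)) (.node 1 (.leaf 0x0) (.leaf 0x0))) (.node 2 (.node 1 (.leaf 0x0) (.leaf 0x0)) (.node 1 (.leaf 0x0) (.leaf 0x0)))) (.node 4 (.node 2 (.node 1 (.leaf 0x0) (.leaf 0x0)) (.node 1 (.leaf 0x0) (.leaf 0x0))) (.node 2 (.node 1 (.leaf 0x0) (.leaf 0x0)) (.node 1 (.leaf 0x0) (.leaf 0x0))))))) (.node 32 (.node 16 (.node 8 (.node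 4 (.node 2 (.node 1 (.leaf 0x0) (.leaf 0x0)) (.node 1 (.leaf 0x0) (.leaf 0x0))) (.node 2 (.node 1 (.leaf 0x0) (.leaf 0x0)) (.node 1 (.leaf 0x0) (.leaf 0x0)))) (.node 4 (.node 2 (.node 1 (.leaf 0x0) (.leaf 0x0)) (.node 1 (.leaf 0x0) (.leaf 0x0))) (.node 2 (.node 1 (.leaf 0x0) (.leaf 0x0)) (.node 1 (.leaf 0x0) (.leaf 0x0))))) (.node 8 (.node 4 (.node 2 (.node 1 (.leaf 0x0) (.leaf 0x0)) (.node 1 (.leaf 0x0) (.leaf 0x0))) (.node 2 (.node 1 (.leaf 0x0) (.leaf 0x0)) (.node 1 (.leaf 0x0) (.leaf 0x0)))) (.node 4 (.node 2 (.node 1 (.leaf 0x0) (.leaf 0x0)) (.node 1 (.leaf 0x0) (.leaf 0x0))) (.node 2 (.node 1 (.leaf 0x0) (.leaf 0x0)) (.node 1 (.leaf 0x0) (.leaf 0x0)))))) (.node 16 (.node 8 (.node 4 (.node 2 (.node 1 (.leaf 0x0) (.leaf 0x0)) (.node 1 (.leaf 0x0) (.leaf 0x0))) (.node 2 (.node 1 (.leaf 0x0) (.leaf 0x0)) (.node 1 (.leaf 0x0) (.leaf 0x0)))) (.node 4 (.node 2 (.node 1 (.leaf 0x0) (.leaf 0x0)) (.node 1 (.leaf 0x0) (.leaf 0x0))) (.node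 2 (.node 1 (.leaf 0x0) (.leaf 0x0)) (.node 1 (.leaf 0x0) (.leaf 0x0))))) (.node 8 (.node 4 (.node 2 (.node 1 (.leaf 0x0) (.leaf 0x0)) (.node 1 (.leaf 0x0) (.leaf 0x0))) (.node 2 (.node 1 (.leaf 0x0) (.leaf 0x0)) (.node 1 (.leaf 0x0) (.leaf 0x0)))) (.node 4 (.node 2 (.node 1 (.leaf 0x0) (.leaf 0x0)) (.node 1 (.leaf 0x0) (.leaf 0x0))) (.node 2 (.node 1 (.leaf 0x0) (.leaf 0x0)) (.node 1 (.leaf 0x0) (.leaf 0x0)))))))

def moves3_1 : Tree :=
  .node 64 (.node 32 (.node 16 (.node 8 (.node 4 (.node 2 (.node 1 (.leaf 0x0) (.leaf 0x0)) (.node 1 (.leaf 0x0) (.leaf 0x0))) (.node 2 (.node 1 (.leaf 0x0) (.leaf 0x0)) (.node 1 (.leaf 0x0) (.leaf 0x0)))) (.node 4 (.node 2 (.node 1 (.leaf 0x0) (.leaf 0x0)) (.node 1 (.leaf 0x0) (.leaf 0x0))) (.node 2 (.node 1 (.leaf 0x0) (.leaf 0x0)) (.node 1 (.leaf 0x0) (.leaf 0x0))))) (.node 8 (.node 4 (.node 2 (.node 1 (.leaf 0x0) (.leaf 0x0)) (.node 1 (.leaf 0x0) (.leaf 0x0))) (.node 2 (.node 1 (.leaf 0x0) (.leaf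 0x0)) (.node 1 (.leaf 0x0) (.leaf 0x0)))) (.node 4 (.node 2 (.node 1 (.leaf 0x0) (.leaf 0x0)) (.node 1 (.leaf 0x0) (.leaf 0x0))) (.node 2 (.node 1 (.leaf 0x0) (.leaf 0x0)) (.node 1 (.leaf 0x0) (.leaf 0x0)))))) (.node 16 (.node 8 (.node 4 (.node 2 (.node 1 (.leaf 0x0) (.leaf 0x0)) (.node 1 (.leaf 0x0) (.leaf 0x0))) (.node 2 (.node 1 (.leaf 0x0) (.leaf 0x0)) (.node 1 (.leaf 0x0) (.leaf 0x0)))) (.node 4 (.node 2 (.node 1 (.leaf 0x0) (.leaf 0x0)) (.node 1 (.leaf 0x0) (.leaf 0x0))) (.node 2 (.node 1 (.leaf 0x0) (.leaf 0x0)) (.node 1 (.leaf 0x0) (.leaf 0x0))))) (.node 8 (.node 4 (.node 2 (.node 1 (.leaf 0x0) (.leaf 0x0)) (.node 1 (.leaf 0x0) (.leaf 0x0))) (.node 2 (.node 1 (.leaf 0x0) (.leaf 0x0)) (.node 1 (.leaf 0x0) (.leaf 0x0)))) (.node 4 (.node 2 (.node 1 (.leaf 0x0) (.leaf 0x0)) (.node 1 (.leaf 0x0) (.leaf 0x0))) (.node 2 (.node 1 (.leaf 0x0) (.leaf 0x0)) (.node 1 (.leaf 0x0) (.leaf 0x0))))))) (.node 32 (.node 16 (.node 8 (.node 4 (.node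 2 (.node 1 (.leaf 0x0) (.leaf 0x0)) (.node 1 (.leaf 0x0) (.leaf 0x0))) (.node 2 (.node 1 (.leaf 0x0) (.leaf 0x0)) (.node 1 (.leaf 0x0) (.leaf 0x0)))) (.node 4 (.node 2 (.node 1 (.leaf 0x0) (.leaf 0x0)) (.node 1 (.leaf 0x0) (.leaf 0x0))) (.node 2 (.node 1 (.leaf 0x0) (.leaf 0x0)) (.node 1 (.leaf 0x0) (.leaf 0x0))))) (.node 8 (.node 4 (.node 2 (.node 1 (.leaf 0x0) (.leaf 0x0)) (.node 1 (.leaf 0x0) (.leaf 0x0))) (.node 2 (.node 1 (.leaf 0x0) (.leaf 0x0)) (.node 1 (.leaf 0x0) (.leaf 0x0)))) (.node 4 (.node 2 (.node 1 (.leaf 0x0) (.leaf 0x0)) (.node 1 (.leaf 0x0) (.leaf 0x0))) (.node 2 (.node 1 (.leaf 0x0) (.leaf 0x0)) (.node 1 (.leaf 0x0) (.leaf 0x0)))))) (.node 16 (.node 8 (.node 4 (.node 2 (.node 1 (.leaf 0x0) (.leaf 0x0)) (.node 1 (.leaf 0x0) (.leaf 0x0))) (.node 2 (.node 1 (.leaf 0x0) (.leaf 0x0)) (.node 1 (.leaf 0x0) (.leaf 0x0)))) (.node 4 (.node 2 (.node 1 (.leaf 0x0) (.leaf 0x0)) (.node 1 (.leaf 0x0) (.leaf 0x0))) (.node 2 (.node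 1 (.leaf 0x0) (.leaf 0x0)) (.node 1 (.leaf 0x0) (.leaf 0x0))))) (.node 8 (.node 4 (.node 2 (.node 1 (.leaf 0x0) (.leaf 0x0)) (.node 1 (.leaf 0x0) (.leaf 0x0))) (.node 2 (.node 1 (.leaf 0x0) (.leaf 0x0)) (.node 1 (.leaf 0x0) (.leaf 0x0)))) (.node 4 (.node 2 (.node 1 (.leaf 0x0) (.leaf 0x0)) (.node 1 (.leaf 0x0) (.leaf 0x0))) (.node 2 (.node 1 (.leaf 0x0) (.leaf 0x0)) (.node 1 (.leaf 0x0) (.leaf 0x0)))))))

def moves3_2 : Tree :=
  .node 64 (.node 32 (.node 16 (.node 8 (.node 4 (.node 2 (.node 1 (.leaf 0x0) (.leaf 0x0)) (.node 1 (.leaf 0x0) (.leaf 0x0))) (.node 2 (.node 1 (.leaf 0x0) (.leaf 0x0)) (.node 1 (.leaf 0x0) (.leaf 0x0)))) (.node 4 (.node 2 (.node 1 (.leaf 0x0) (.leaf 0x0)) (.node 1 (.leaf 0x0) (.leaf 0x0))) (.node 2 (.node 1 (.leaf 0x0) (.leaf 0x0)) (.node 1 (.leaf 0x0) (.leaf 0x0))))) (.node 8 (.node 4 (.node 2 (.node 1 (.leaf 0x0) (.leaf 0x0)) (.node 1 (.leaf 0x0) (.leaf 0x0))) (.node 2 (.node 1 (.leaf 0x0) (.leaf 0x0)) (.node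 1 (.leaf 0x0) (.leaf 0x0)))) (.node 4 (.node 2 (.node 1 (.leaf 0x0) (.leaf 0x0)) (.node 1 (.leaf 0x0) (.leaf 0x0))) (.node 2 (.node 1 (.leaf 0x0) (.leaf 0x0)) (.node 1 (.leaf 0x0) (.leaf 0x0)))))) (.node 16 (.node 8 (.node 4 (.node 2 (.node 1 (.leaf 0x0) (.leaf 0x0)) (.node 1 (.leaf 0x0) (.leaf 0x0))) (.node 2 (.node 1 (.leaf 0x0) (.leaf 0x0)) (.node 1 (.leaf 0x0) (.leaf 0x0)))) (.node 4 (.node 2 (.node 1 (.leaf 0x0) (.leaf 0x0)) (.node 1 (.leaf 0x0) (.leaf 0x0))) (.node 2 (.node 1 (.leaf 0x0) (.leaf 0x0)) (.node 1 (.leaf 0x0) (.leaf 0x0))))) (.node 8 (.node 4 (.node 2 (.node 1 (.leaf 0x0) (.leaf 0x0)) (.node 1 (.leaf 0x0) (.leaf 0x0))) (.node 2 (.node 1 (.leaf 0x0) (.leaf 0x0)) (.node 1 (.leaf 0x0) (.leaf 0x0)))) (.node 4 (.node 2 (.node 1 (.leaf 0x0) (.leaf 0x0)) (.node 1 (.leaf 0x0) (.leaf 0x0))) (.node 2 (.node 1 (.leaf 0x0) (.leaf 0x0)) (.node 1 (.leaf 0x0) (.leaf 0x0))))))) (.node 32 (.node 16 (.node 8 (.node 4 (.node 2 (.node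 1 (.leaf 0x0) (.leaf 0x0)) (.node 1 (.leaf 0x0) (.leaf 0x0))) (.node 2 (.node 1 (.leaf 0x0) (.leaf 0x0)) (.node 1 (.leaf 0x0) (.leaf 0x0)))) (.node 4 (.node 2 (.node 1 (.leaf 0x0) (.leaf 0x0)) (.node 1 (.leaf 0x0) (.leaf 0x0))) (.node 2 (.node 1 (.leaf 0x0) (.leaf 0x0)) (.node 1 (.leaf 0x0) (.leaf 0x0))))) (.node 8 (.node 4 (.node 2 (.node 1 (.leaf 0x0) (.leaf 0x0)) (.node 1 (.leaf 0x0) (.leaf 0x0))) (.node 2 (.node 1 (.leaf 0x0) (.leaf 0x0)) (.node 1 (.leaf 0x0) (.leaf 0x0)))) (.node 4 (.node 2 (.node 1 (.leaf 0x0) (.leaf 0x0)) (.node 1 (.leaf 0x0) (.leaf 0x0))) (.node 2 (.node 1 (.leaf 0x0) (.leaf 0x0)) (.node 1 (.leaf 0x0) (.leaf 0x0)))))) (.node 16 (.node 8 (.node 4 (.node 2 (.node 1 (.leaf 0x0) (.leaf 0x0)) (.node 1 (.leaf 0x0) (.leaf 0x0))) (.node 2 (.node 1 (.leaf 0x0) (.leaf 0x0)) (.node 1 (.leaf 0x0) (.leaf 0x0)))) (.node 4 (.node 2 (.node 1 (.leaf 0x0) (.leaf 0x0)) (.node 1 (.leaf 0x0) (.leaf 0x0))) (.node 2 (.node 1 (.leaf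 0x0) (.leaf 0x0)) (.node 1 (.leaf 0x0) (.leaf 0x0))))) (.node 8 (.node 4 (.node 2 (.node 1 (.leaf 0x0) (.leaf 0x0)) (.node 1 (.leaf 0x0) (.leaf 0x0))) (.node 2 (.node 1 (.leaf 0x0) (.leaf 0x0)) (.node 1 (.leaf 0x0) (.leaf 0x0)))) (.node 4 (.node 2 (.node 1 (.leaf 0x0) (.leaf 0x0)) (.node 1 (.leaf 0x0) (.leaf 0x0))) (.node 2 (.node 1 (.leaf 0x0) (.leaf 0x0)) (.node 1 (.leaf 0x0) (.leaf 0x0)))))))

def moves3_3 : Tree :=
  .node 64 (.node 32 (.node 16 (.node 8 (.node 4 (.node 2 (.node 1 (.leaf 0x0) (.leaf 0x0)) (.node 1 (.leaf 0x0) (.leaf 0x0))) (.node 2 (.node 1 (.leaf 0x0) (.leaf 0x0)) (.node 1 (.leaf 0x0) (.leaf 0x0)))) (.node 4 (.node 2 (.node 1 (.leaf 0x0) (.leaf 0x0)) (.node 1 (.leaf 0x0) (.leaf 0x0))) (.node 2 (.node 1 (.leaf 0x0) (.leaf 0x0)) (.node 1 (.leaf 0x0) (.leaf 0x0))))) (.node 8 (.node 4 (.node 2 (.node 1 (.leaf 0x0) (.leaf 0x0)) (.node 1 (.leaf 0x0) (.leaf 0x0))) (.node 2 (.node 1 (.leaf 0x0) (.leaf 0x0)) (.node 1 (.leaf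 0x0) (.leaf 0x0)))) (.node 4 (.node 2 (.node 1 (.leaf 0x0) (.leaf 0x0)) (.node 1 (.leaf 0x0) (.leaf 0x0))) (.node 2 (.node 1 (.leaf 0x0) (.leaf 0x0)) (.node 1 (.leaf 0x0) (.leaf 0x0)))))) (.node 16 (.node 8 (.node 4 (.node 2 (.node 1 (.leaf 0x0) (.leaf 0x0)) (.node 1 (.leaf 0x0) (.leaf 0x0))) (.node 2 (.node 1 (.leaf 0x0) (.leaf 0x0)) (.node 1 (.leaf 0x0) (.leaf 0x0)))) (.node 4 (.node 2 (.node 1 (.leaf 0x0) (.leaf 0x0)) (.node 1 (.leaf 0x0) (.leaf 0x0))) (.node 2 (.node 1 (.leaf 0x0) (.leaf 0x0)) (.node 1 (.leaf 0x0) (.leaf 0x0))))) (.node 8 (.node 4 (.node 2 (.node 1 (.leaf 0x0) (.leaf 0x0)) (.node 1 (.leaf 0x0) (.leaf 0x0))) (.node 2 (.node 1 (.leaf 0x0) (.leaf 0x0)) (.node 1 (.leaf 0x0) (.leaf 0x0)))) (.node 4 (.node 2 (.node 1 (.leaf 0x0) (.leaf 0x0)) (.node 1 (.leaf 0x0) (.leaf 0x0))) (.node 2 (.node 1 (.leaf 0x0) (.leaf 0x0)) (.node 1 (.leaf 0x0) (.leaf 0x0))))))) (.node 32 (.node 16 (.node 8 (.node 4 (.node 2 (.node 1 (.leaf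 0x0) (.leaf 0x0)) (.node 1 (.leaf 0x0) (.leaf 0x0))) (.node 2 (.node 1 (.leaf 0x0) (.leaf 0x0)) (.node 1 (.leaf 0x0) (.leaf 0x0)))) (.node 4 (.node 2 (.node 1 (.leaf 0x0) (.leaf 0x0)) (.node 1 (.leaf 0x0) (.leaf 0x0))) (.node 2 (.node 1 (.leaf 0x0) (.leaf 0x0)) (.node 1 (.leaf 0x0) (.leaf 0x0))))) (.node 8 (.node 4 (.node 2 (.node 1 (.leaf 0x0) (.leaf 0x0)) (.node 1 (.leaf 0x0) (.leaf 0x0))) (.node 2 (.node 1 (.leaf 0x0) (.leaf 0x0)) (.node 1 (.leaf 0x0) (.leaf 0x0)))) (.node 4 (.node 2 (.node 1 (.leaf 0x0) (.leaf 0x0)) (.node 1 (.leaf 0x0) (.leaf 0x0))) (.node 2 (.node 1 (.leaf 0x0) (.leaf 0x0)) (.node 1 (.leaf 0x0) (.leaf 0x0)))))) (.node 16 (.node 8 (.node 4 (.node 2 (.node 1 (.leaf 0x0) (.leaf 0x0)) (.node 1 (.leaf 0x0) (.leaf 0x0))) (.node 2 (.node 1 (.leaf 0x0) (.leaf 0x0)) (.node 1 (.leaf 0x0) (.leaf 0x0)))) (.node 4 (.node 2 (.node 1 (.leaf 0x0) (.leaf 0x0)) (.node 1 (.leaf 0x0) (.leaf 0x0))) (.node 2 (.node 1 (.leaf 0x0) (.leaf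 0x0)) (.node 1 (.leaf 0x0) (.leaf 0x0))))) (.node 8 (.node 4 (.node 2 (.node 1 (.leaf 0x0) (.leaf 0x0)) (.node 1 (.leaf 0x0) (.leaf 0x0))) (.node 2 (.node 1 (.leaf 0x0) (.leaf 0x0)) (.node 1 (.leaf 0x0) (.leaf 0x0)))) (.node 4 (.node 2 (.node 1 (.leaf 0x0) (.leaf 0x0)) (.node 1 (.leaf 0x0) (.leaf 0x0))) (.node 2 (.node 1 (.leaf 0x0) (.leaf 0x0)) (.node 1 (.leaf 0x0) (.leaf 0x0)))))))

def moves3_4 : Tree :=
  .node 64 (.node 32 (.node 16 (.node 8 (.node 4 (.node 2 (.node 1 (.leaf 0x0) (.leaf 0x0)) (.node 1 (.leaf 0x0) (.leaf 0x0))) (.node 2 (.node 1 (.leaf 0x0) (.leaf 0x0)) (.node 1 (.leaf 0x0) (.leaf 0x0)))) (.node 4 (.node 2 (.node 1 (.leaf 0x0) (.leaf 0x0)) (.node 1 (.leaf 0x0) (.leaf 0x0))) (.node 2 (.node 1 (.leaf 0x0) (.leaf 0x0)) (.node 1 (.leaf 0x0) (.leaf 0x0))))) (.node 8 (.node 4 (.node 2 (.node 1 (.leaf 0x0) (.leaf 0x0)) (.node 1 (.leaf 0x0) (.leaf 0x0))) (.node 2 (.node 1 (.leaf 0x0) (.leaf 0x0)) (.node 1 (.leaf 0x0) (.leaf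 0x0)))) (.node 4 (.node 2 (.node 1 (.leaf 0x0) (.leaf 0x0)) (.node 1 (.leaf 0x0) (.leaf 0x0))) (.node 2 (.node 1 (.leaf 0x0) (.leaf 0x0)) (.node 1 (.leaf 0x0) (.leaf 0x0)))))) (.node 16 (.node 8 (.node 4 (.node 2 (.node 1 (.leaf 0x0) (.leaf 0x0)) (.node 1 (.leaf 0x0) (.leaf 0x0))) (.node 2 (.node 1 (.leaf 0x0) (.leaf 0x0)) (.node 1 (.leaf 0x0) (.leaf 0x0)))) (.node 4 (.node 2 (.node 1 (.leaf 0x0) (.leaf 0x0)) (.node 1 (.leaf 0x0) (.leaf 0x0))) (.node 2 (.node 1 (.leaf 0x0) (.leaf 0x0)) (.node 1 (.leaf 0x0) (.leaf 0x0))))) (.node 8 (.node 4 (.node 2 (.node 1 (.leaf 0x0) (.leaf 0x0)) (.node 1 (.leaf 0x0) (.leaf 0x0))) (.node 2 (.node 1 (.leaf 0x0) (.leaf 0x0)) (.node 1 (.leaf 0x0) (.leaf 0x0)))) (.node 4 (.node 2 (.node 1 (.leaf 0x0) (.leaf 0x0)) (.node 1 (.leaf 0x0) (.leaf 0x0))) (.node 2 (.node 1 (.leaf 0x0) (.leaf 0x0)) (.node 1 (.leaf 0x0) (.leaf 0x0))))))) (.node 32 (.node 16 (.node 8 (.node 4 (.node 2 (.node 1 (.leaf 0x0) (.leaf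 0x0)) (.node 1 (.leaf 0x0) (.leaf 0x0))) (.node 2 (.node 1 (.leaf 0x0) (.leaf 0x0)) (.node 1 (.leaf 0x0) (.leaf 0x0)))) (.node 4 (.node 2 (.node 1 (.leaf 0x0) (.leaf 0x0)) (.node 1 (.leaf 0x0) (.leaf 0x0))) (.node 2 (.node 1 (.leaf 0x0) (.leaf 0x0)) (.node 1 (.leaf 0x0) (.leaf 0x0))))) (.node 8 (.node 4 (.node 2 (.node 1 (.leaf 0x0) (.leaf 0x0)) (.node 1 (.leaf 0x0) (.leaf 0x0))) (.node 2 (.node 1 (.leaf 0x0) (.leaf 0x0)) (.node 1 (.leaf 0x0) (.leaf 0x0)))) (.node 4 (.node 2 (.node 1 (.leaf 0x0) (.leaf 0x0)) (.node 1 (.leaf 0x0) (.leaf 0x0))) (.node 2 (.node 1 (.leaf 0x0) (.leaf 0x0)) (.node 1 (.leaf 0x0) (.leaf 0x0)))))) (.node 16 (.node 8 (.node 4 (.node 2 (.node 1 (.leaf 0x0) (.leaf 0x0)) (.node 1 (.leaf 0x0) (.leaf 0x0))) (.node 2 (.node 1 (.leaf 0x0) (.leaf 0x0)) (.node 1 (.leaf 0x0) (.leaf 0x0)))) (.node 4 (.node 2 (.node 1 (.leaf 0x0) (.leaf 0x0)) (.node 1 (.leaf 0x0) (.leaf 0x0))) (.node 2 (.node 1 (.leaf 0x0) (.leaf 0x0))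 (.node 1 (.leaf 0x0) (.leaf 0x0))))) (.node 8 (.node 4 (.node 2 (.node 1 (.leaf 0x0) (.leaf 0x0)) (.node 1 (.leaf 0x0) (.leaf 0x0))) (.node 2 (.node 1 (.leaf 0x0) (.leaf 0x0)) (.node 1 (.leaf 0x0) (.leaf 0x0)))) (.node 4 (.node 2 (.node 1 (.leaf 0x0) (.leaf 0x0)) (.node 1 (.leaf 0x0) (.leaf 0x0))) (.node 2 (.node 1 (.leaf 0x0) (.leaf 0x0)) (.node 1 (.leaf 0x0) (.leaf 0x0)))))))

def moves3_5 : Tree :=
  .node 64 (.node 32 (.node 16 (.node 8 (.node 4 (.node 2 (.node 1 (.leaf 0x0) (.leaf 0x0)) (.node 1 (.leaf 0x0) (.leaf 0x0))) (.node 2 (.node 1 (.leaf 0x0) (.leaf 0x0)) (.node 1 (.leaf 0x0) (.leaf 0x0)))) (.node 4 (.node 2 (.node 1 (.leaf 0x0) (.leaf 0x0)) (.node 1 (.leaf 0x0) (.leaf 0x0))) (.node 2 (.node 1 (.leaf 0x0) (.leaf 0x0)) (.node 1 (.leaf 0x0) (.leaf 0x0))))) (.node 8 (.node 4 (.node 2 (.node 1 (.leaf 0x0) (.leaf 0x0)) (.node 1 (.leaf 0x0) (.leaf 0x0))) (.node 2 (.node 1 (.leaf 0x0) (.leaf 0x0)) (.node 1 (.leaf 0x0) (.leaf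 0x0)))) (.node 4 (.node 2 (.node 1 (.leaf 0x0) (.leaf 0x0)) (.node 1 (.leaf 0x0) (.leaf 0x0))) (.node 2 (.node 1 (.leaf 0x0) (.leaf 0x0)) (.node 1 (.leaf 0x0) (.leaf 0x0)))))) (.node 16 (.node 8 (.node 4 (.node 2 (.node 1 (.leaf 0x0) (.leaf 0x0)) (.node 1 (.leaf 0x0) (.leaf 0x0))) (.node 2 (.node 1 (.leaf 0x0) (.leaf 0x0)) (.node 1 (.leaf 0x0) (.leaf 0x0)))) (.node 4 (.node 2 (.node 1 (.leaf 0x0) (.leaf 0x0)) (.node 1 (.leaf 0x0) (.leaf 0x0))) (.node 2 (.node 1 (.leaf 0x0) (.leaf 0x0)) (.node 1 (.leaf 0x0) (.leaf 0x0))))) (.node 8 (.node 4 (.node 2 (.node 1 (.leaf 0x0) (.leaf 0x0)) (.node 1 (.leaf 0x0) (.leaf 0x0))) (.node 2 (.node 1 (.leaf 0x0) (.leaf 0x0)) (.node 1 (.leaf 0x0) (.leaf 0x0)))) (.node 4 (.node 2 (.node 1 (.leaf 0x0) (.leaf 0x0)) (.node 1 (.leaf 0x0) (.leaf 0x0))) (.node 2 (.node 1 (.leaf 0x0) (.leaf 0x0)) (.node 1 (.leaf 0x0) (.leaf 0x0))))))) (.node 32 (.node 16 (.node 8 (.node 4 (.node 2 (.node 1 (.leaf 0x0) (.leaf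 0x0)) (.node 1 (.leaf 0x0) (.leaf 0x0))) (.node 2 (.node 1 (.leaf 0x0) (.leaf 0x0)) (.node 1 (.leaf 0x0) (.leaf 0x0)))) (.node 4 (.node 2 (.node 1 (.leaf 0x0) (.leaf 0x0)) (.node 1 (.leaf 0x0) (.leaf 0x0))) (.node 2 (.node 1 (.leaf 0x0) (.leaf 0x0)) (.node 1 (.leaf 0x0) (.leaf 0x0))))) (.node 8 (.node 4 (.node 2 (.node 1 (.leaf 0x0) (.leaf 0x0)) (.node 1 (.leaf 0x0) (.leaf 0x0))) (.node 2 (.node 1 (.leaf 0x0) (.leaf 0x0)) (.node 1 (.leaf 0x0) (.leaf 0x0)))) (.node 4 (.node 2 (.node 1 (.leaf 0x0) (.leaf 0x0)) (.node 1 (.leaf 0x0) (.leaf 0x0))) (.node 2 (.node 1 (.leaf 0x0) (.leaf 0x0)) (.node 1 (.leaf 0x0) (.leaf 0x0)))))) (.node 16 (.node 8 (.node 4 (.node 2 (.node 1 (.leaf 0x0) (.leaf 0x0)) (.node 1 (.leaf 0x0) (.leaf 0x0))) (.node 2 (.node 1 (.leaf 0x0) (.leaf 0x0)) (.node 1 (.leaf 0x0) (.leaf 0x0)))) (.node 4 (.node 2 (.node 1 (.leaf 0x0) (.leaf 0x0)) (.node 1 (.leaf 0x0) (.leaf 0x0))) (.node 2 (.node 1 (.leaf 0x0) (.leaf 0x0))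 (.node 1 (.leaf 0x0) (.leaf 0x0))))) (.node 8 (.node 4 (.node 2 (.node 1 (.leaf 0x0) (.leaf 0x0)) (.node 1 (.leaf 0x0) (.leaf 0x0))) (.node 2 (.node 1 (.leaf 0x0) (.leaf 0x0)) (.node 1 (.leaf 0x0) (.leaf 0x0)))) (.node 4 (.node 2 (.node 1 (.leaf 0x0) (.leaf 0x0)) (.node 1 (.leaf 0x0) (.leaf 0x0))) (.node 2 (.node 1 (.leaf 0x0) (.leaf 0x0)) (.node 1 (.leaf 0x0) (.leaf 0x0)))))))

def moves3_6 : Tree :=
  .node 64 (.node 32 (.node 16 (.node 8 (.node 4 (.node 2 (.node 1 (.leaf 0x0) (.leaf 0x0)) (.node 1 (.leaf 0x0) (.leaf 0x0))) (.node 2 (.node 1 (.leaf 0x0) (.leaf 0x0)) (.node 1 (.leaf 0x0) (.leaf 0x0)))) (.node 4 (.node 2 (.node 1 (.leaf 0x0) (.leaf 0x0)) (.node 1 (.leaf 0x0) (.leaf 0x0))) (.node 2 (.node 1 (.leaf 0x0) (.leaf 0x0)) (.node 1 (.leaf 0x0) (.leaf 0x0))))) (.node 8 (.node 4 (.node 2 (.node 1 (.leaf 0x0) (.leaf 0x0)) (.node 1 (.leaf 0x0) (.leaf 0x0))) (.node 2 (.node 1 (.leaf 0x0) (.leaf 0x0)) (.node 1 (.leaf 0x0) (.leaf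 0x0)))) (.node 4 (.node 2 (.node 1 (.leaf 0x0) (.leaf 0x0)) (.node 1 (.leaf 0x0) (.leaf 0x0))) (.node 2 (.node 1 (.leaf 0x0) (.leaf 0x0)) (.node 1 (.leaf 0x0) (.leaf 0x0)))))) (.node 16 (.node 8 (.node 4 (.node 2 (.node 1 (.leaf 0x0) (.leaf 0x0)) (.node 1 (.leaf 0x0) (.leaf 0x0))) (.node 2 (.node 1 (.leaf 0x0) (.leaf 0x0)) (.node 1 (.leaf 0x0) (.leaf 0x0)))) (.node 4 (.node 2 (.node 1 (.leaf 0x0) (.leaf 0x0)) (.node 1 (.leaf 0x0) (.leaf 0x0))) (.node 2 (.node 1 (.leaf 0x0) (.leaf 0x0)) (.node 1 (.leaf 0x0) (.leaf 0x0))))) (.node 8 (.node 4 (.node 2 (.node 1 (.leaf 0x0) (.leaf 0x0)) (.node 1 (.leaf 0x0) (.leaf 0x0))) (.node 2 (.node 1 (.leaf 0x0) (.leaf 0x0)) (.node 1 (.leaf 0x0) (.leaf 0x0)))) (.node 4 (.node 2 (.node 1 (.leaf 0x0) (.leaf 0x0)) (.node 1 (.leaf 0x0) (.leaf 0x0))) (.node 2 (.node 1 (.leaf 0x0) (.leaf 0x0)) (.node 1 (.leaf 0x0) (.leaf 0x0))))))) (.node 32 (.node 16 (.node 8 (.node 4 (.node 2 (.node 1 (.leaf 0x0) (.leaf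 0x0)) (.node 1 (.leaf 0x0) (.leaf 0x0))) (.node 2 (.node 1 (.leaf 0x0) (.leaf 0x0)) (.node 1 (.leaf 0x0) (.leaf 0x0)))) (.node 4 (.node 2 (.node 1 (.leaf 0x0) (.leaf 0x0)) (.node 1 (.leaf 0x0) (.leaf 0x0))) (.node 2 (.node 1 (.leaf 0x0) (.leaf 0x0)) (.node 1 (.leaf 0x0) (.leaf 0x0))))) (.node 8 (.node 4 (.node 2 (.node 1 (.leaf 0x0) (.leaf 0x0)) (.node 1 (.leaf 0x0) (.leaf 0x0))) (.node 2 (.node 1 (.leaf 0x0) (.leaf 0x0)) (.node 1 (.leaf 0x0) (.leaf 0x0)))) (.node 4 (.node 2 (.node 1 (.leaf 0x0) (.leaf 0x0)) (.node 1 (.leaf 0x0) (.leaf 0x0))) (.node 2 (.node 1 (.leaf 0x0) (.leaf 0x0)) (.node 1 (.leaf 0x0) (.leaf 0x0)))))) (.node 16 (.node 8 (.node 4 (.node 2 (.node 1 (.leaf 0x0) (.leaf 0x0)) (.node 1 (.leaf 0x0) (.leaf 0x0))) (.node 2 (.node 1 (.leaf 0x0) (.leaf 0x0)) (.node 1 (.leaf 0x0) (.leaf 0x0)))) (.node 4 (.node 2 (.node 1 (.leaf 0x0) (.leaf 0x0)) (.node 1 (.leaf 0x0) (.leaf 0x0))) (.node 2 (.node 1 (.leaf 0x0) (.leaf 0x0))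 (.node 1 (.leaf 0x0) (.leaf 0x0))))) (.node 8 (.node 4 (.node 2 (.node 1 (.leaf 0x0) (.leaf 0x0)) (.node 1 (.leaf 0x0) (.leaf 0x0))) (.node 2 (.node 1 (.leaf 0x0) (.leaf 0x0)) (.node 1 (.leaf 0x0) (.leaf 0x0)))) (.node 4 (.node 2 (.node 1 (.leaf 0x0) (.leaf 0x0)) (.node 1 (.leaf 0x0) (.leaf 0x0))) (.node 2 (.node 1 (.leaf 0x0) (.leaf 0x0)) (.node 1 (.leaf 0x0) (.leaf 0x0)))))))

def moves3_7 : Tree :=
  .node 64 (.node 32 (.node 16 (.node 8 (.node 4 (.node 2 (.node 1 (.leaf 0x0) (.leaf 0x0)) (.node 1 (.leaf 0x0) (.leaf 0x0))) (.node 2 (.node 1 (.leaf 0x0) (.leaf 0x0)) (.node 1 (.leaf 0x0) (.leaf 0x0)))) (.node 4 (.node 2 (.node 1 (.leaf 0x0) (.leaf 0x0)) (.node 1 (.leaf 0x0) (.leaf 0x0))) (.node 2 (.node 1 (.leaf 0x0) (.leaf 0x0)) (.node 1 (.leaf 0x0) (.leaf 0x0))))) (.node 8 (.node 4 (.node 2 (.node 1 (.leaf 0x0) (.leaf 0x0)) (.node 1 (.leaf 0x0) (.leaf 0x0))) (.node 2 (.node 1 (.leaf 0x0) (.leaf 0x0)) (.node 1 (.leaf 0x0) (.leaf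 0x0)))) (.node 4 (.node 2 (.node 1 (.leaf 0x0) (.leaf 0x0)) (.node 1 (.leaf 0x0) (.leaf 0x0))) (.node 2 (.node 1 (.leaf 0x0) (.leaf 0x0)) (.node 1 (.leaf 0x0) (.leaf 0x0)))))) (.node 16 (.node 8 (.node 4 (.node 2 (.node 1 (.leaf 0x0) (.leaf 0x0)) (.node 1 (.leaf 0x0) (.leaf 0x0))) (.node 2 (.node 1 (.leaf 0x0) (.leaf 0x0)) (.node 1 (.leaf 0x0) (.leaf 0x0)))) (.node 4 (.node 2 (.node 1 (.leaf 0x0) (.leaf 0x0)) (.node 1 (.leaf 0x0) (.leaf 0x0))) (.node 2 (.node 1 (.leaf 0x0) (.leaf 0x0)) (.node 1 (.leaf 0x0) (.leaf 0x0))))) (.node 8 (.node 4 (.node 2 (.node 1 (.leaf 0x0) (.leaf 0x0)) (.node 1 (.leaf 0x0) (.leaf 0x0))) (.node 2 (.node 1 (.leaf 0x0) (.leaf 0x0)) (.node 1 (.leaf 0x0) (.leaf 0x0)))) (.node 4 (.node 2 (.node 1 (.leaf 0x0) (.leaf 0x0)) (.node 1 (.leaf 0x0) (.leaf 0x0))) (.node 2 (.node 1 (.leaf 0x0) (.leaf 0x0)) (.node 1 (.leaf 0x0) (.leaf 0x0))))))) (.node 32 (.node 16 (.node 8 (.node 4 (.node 2 (.node 1 (.leaf 0x0) (.leaf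 0x0)) (.node 1 (.leaf 0x0) (.leaf 0x0))) (.node 2 (.node 1 (.leaf 0x0) (.leaf 0x0)) (.node 1 (.leaf 0x0) (.leaf 0x0)))) (.node 4 (.node 2 (.node 1 (.leaf 0x0) (.leaf 0x0)) (.node 1 (.leaf 0x0) (.leaf 0x0))) (.node 2 (.node 1 (.leaf 0x0) (.leaf 0x0)) (.node 1 (.leaf 0x0) (.leaf 0x0))))) (.node 8 (.node 4 (.node 2 (.node 1 (.leaf 0x0) (.leaf 0x0)) (.node 1 (.leaf 0x0) (.leaf 0x0))) (.node 2 (.node 1 (.leaf 0x0) (.leaf 0x0)) (.node 1 (.leaf 0x0) (.leaf 0x0)))) (.node 4 (.node 2 (.node 1 (.leaf 0x0) (.leaf 0x0)) (.node 1 (.leaf 0x0) (.leaf 0x0))) (.node 2 (.node 1 (.leaf 0x0) (.leaf 0x0)) (.node 1 (.leaf 0x0) (.leaf 0x0)))))) (.node 16 (.node 8 (.node 4 (.node 2 (.node 1 (.leaf 0x0) (.leaf 0x0)) (.node 1 (.leaf 0x0) (.leaf 0x0))) (.node 2 (.node 1 (.leaf 0x0) (.leaf 0x0)) (.node 1 (.leaf 0x0) (.leaf 0x0)))) (.node 4 (.node 2 (.node 1 (.leaf 0x0) (.leaf 0x0)) (.node 1 (.leaf 0x0) (.leaf 0x0))) (.node 2 (.node 1 (.leaf 0x0) (.leaf 0x0))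 (.node 1 (.leaf 0x0) (.leaf 0x0))))) (.node 8 (.node 4 (.node 2 (.node 1 (.leaf 0x0) (.leaf 0x0)) (.node 1 (.leaf 0x0) (.leaf 0x0))) (.node 2 (.node 1 (.leaf 0x0) (.leaf 0x0)) (.node 1 (.leaf 0x0) (.leaf 0x0)))) (.node 4 (.node 2 (.node 1 (.leaf 0x0) (.leaf 0x0)) (.node 1 (.leaf 0x0) (.leaf 0x0))) (.node 2 (.node 1 (.leaf 0x0) (.leaf 0x0)) (.node 1 (.leaf 0x0) (.leaf 0x0)))))))

def moves3_8 : Tree :=
  .node 64 (.node 32 (.node 16 (.node 8 (.node 4 (.node 2 (.node 1 (.leaf 0x0) (.leaf 0x0)) (.node 1 (.leaf 0x0) (.leaf 0x0))) (.node 2 (.node 1 (.leaf 0x0) (.leaf 0x0)) (.node 1 (.leaf 0x0) (.leaf 0x0)))) (.node 4 (.node 2 (.node 1 (.leaf 0x0) (.leaf 0x0)) (.node 1 (.leaf 0x0) (.leaf 0x0))) (.node 2 (.node 1 (.leaf 0x0) (.leaf 0x0)) (.node 1 (.leaf 0x0) (.leaf 0x0))))) (.node 8 (.node 4 (.node 2 (.node 1 (.leaf 0x0) (.leaf 0x0)) (.node 1 (.leaf 0x0) (.leaf 0x0))) (.node 2 (.node 1 (.leaf 0x0) (.leaf 0x0)) (.node 1 (.leaf 0x0) (.leaf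 0x1145501)))) (.node 4 (.node 2 (.node 1 (.leaf 0x0) (.leaf 0x0)) (.node 1 (.leaf 0x0) (.leaf 0x0))) (.node 2 (.node 1 (.leaf 0x0) (.leaf 0x0)) (.node 1 (.leaf 0x0) (.leaf 0x0)))))) (.node 16 (.node 8 (.node 4 (.node 2 (.node 1 (.leaf 0x0) (.leaf 0x0)) (.node 1 (.leaf 0x0) (.leaf 0x0))) (.node 2 (.node 1 (.leaf 0x0) (.leaf 0x0)) (.node 1 (.leaf 0x1) (.leaf 0x0)))) (.node 4 (.node 2 (.node 1 (.leaf 0x0) (.leaf 0x0)) (.node 1 (.leaf 0x0) (.leaf 0x0))) (.node 2 (.node 1 (.leaf 0x0) (.leaf 0x0)) (.node 1 (.leaf 0xd145501) (.leaf 0x0))))) (.node 8 (.node 4 (.node 2 (.node 1 (.leaf 0x0) (.leaf 0x0)) (.node 1 (.leaf 0x0) (.leaf 0x0))) (.node 2 (.node 1 (.leaf 0x0) (.leaf 0x0)) (.node 1 (.leaf 0x0) (.leaf 0x0)))) (.node 4 (.node 2 (.node 1 (.leaf 0x0) (.leaf 0xc1)) (.node 1 (.leaf 0x0) (.leaf 0x0))) (.node 2 (.node 1 (.leaf 0x0) (.leaf 0x0)) (.node 1 (.leaf 0x0) (.leaf 0x0))))))) (.node 32 (.node 16 (.node 8 (.node 4 (.node 2 (.node 1 (.leaf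 0x0) (.leaf 0x0)) (.node 1 (.leaf 0x0) (.leaf 0x0))) (.node 2 (.node 1 (.leaf 0x0) (.leaf 0x0)) (.node 1 (.leaf 0x0) (.leaf 0x0)))) (.node 4 (.node 2 (.node 1 (.leaf 0x0) (.leaf 0x0)) (.node 1 (.leaf 0x0) (.leaf 0x0))) (.node 2 (.node 1 (.leaf 0x0) (.leaf 0x0)) (.node 1 (.leaf 0x0) (.leaf 0x0))))) (.node 8 (.node 4 (.node 2 (.node 1 (.leaf 0x0) (.leaf 0x0)) (.node 1 (.leaf 0x0) (.leaf 0x0))) (.node 2 (.node 1 (.leaf 0x0) (.leaf 0x0)) (.node 1 (.leaf 0x0) (.leaf 0x0)))) (.node 4 (.node 2 (.node 1 (.leaf 0x0) (.leaf 0x0)) (.node 1 (.leaf 0x0) (.leaf 0x0))) (.node 2 (.node 1 (.leaf 0x0) (.leaf 0x0)) (.node 1 (.leaf 0x0) (.leaf 0x0)))))) (.node 16 (.node 8 (.node 4 (.node 2 (.node 1 (.leaf 0x0) (.leaf 0x0)) (.node 1 (.leaf 0x0) (.leaf 0x0))) (.node 2 (.node 1 (.leaf 0x0) (.leaf 0x0)) (.node 1 (.leaf 0x0) (.leaf 0x0)))) (.node 4 (.node 2 (.node 1 (.leaf 0x0) (.leaf 0x0)) (.node 1 (.leaf 0x0) (.leaf 0x0))) (.node 2 (.node 1 (.leaf 0x0) (.leaf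 0x0)) (.node 1 (.leaf 0x2) (.leaf 0x0))))) (.node 8 (.node 4 (.node 2 (.node 1 (.leaf 0x0) (.leaf 0x0)) (.node 1 (.leaf 0x0) (.leaf 0x0))) (.node 2 (.node 1 (.leaf 0x0) (.leaf 0x0)) (.node 1 (.leaf 0x0) (.leaf 0x0)))) (.node 4 (.node 2 (.node 1 (.leaf 0x0) (.leaf 0x0)) (.node 1 (.leaf 0x0) (.leaf 0x0))) (.node 2 (.node 1 (.leaf 0x0) (.leaf 0x0)) (.node 1 (.leaf 0x0) (.leaf 0x0)))))))

def moves3_9 : Tree :=
  .node 54 (.node 27 (.node 13 (.node 6 (.node 3 (.node 1 (.leaf 0x0) (.node 1 (.leaf 0x0) (.leaf 0x0))) (.node 1 (.leaf 0x0) (.node 1 (.leaf 0x0) (.leaf 0x0)))) (.node 3 (.node 1 (.leaf 0x0) (.node 1 (.leaf 0x0) (.leaf 0x0))) (.node 2 (.node 1 (.leaf 0x0) (.leaf 0x0)) (.node 1 (.leaf 0x0) (.leaf 0x0))))) (.node 7 (.node 3 (.node 1 (.leaf 0x0) (.node 1 (.leaf 0x0) (.leaf 0x0))) (.node 2 (.node 1 (.leaf 0x0) (.leaf 0x0)) (.node 1 (.leaf 0x0) (.leaf 0x0)))) (.node 3 (.node 1 (.leaf 0x0) (.node 1 (.leaf 0x0) (.leaf 0x0))) (.node 2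 (.node 1 (.leaf 0x11590d189d0d1c990d189d0d1c9502) (.leaf 0x0)) (.node 1 (.leaf 0x0) (.leaf 0x0)))))) (.node 13 (.node 6 (.node 3 (.node 1 (.leaf 0x0) (.node 1 (.leaf 0x114990d1951d1590d189502) (.leaf 0x0))) (.node 1 (.leaf 0x0) (.node 1 (.leaf 0x0) (.leaf 0x0)))) (.node 3 (.node 1 (.leaf 0x0) (.node 1 (.leaf 0x0) (.leaf 0x0))) (.node 2 (.node 1 (.leaf 0x0) (.leaf 0x0)) (.node 1 (.leaf 0x0) (.leaf 0x0))))) (.node 7 (.node 3 (.node 1 (.leaf 0x0) (.node 1 (.leaf 0x0) (.leaf 0x0))) (.node 2 (.node 1 (.leaf 0x0) (.leaf 0x0)) (.node 1 (.leaf 0x0) (.leaf 0x11590d189d0d1d90d1951d14990d19d0d1c9502)))) (.node 3 (.node 1 (.leaf 0x0) (.node 1 (.leaf 0x0) (.leaf 0x0))) (.node 2 (.node 1 (.leaf 0x0) (.leaf 0x0)) (.node 1 (.leaf 0x0) (.leaf 0x0))))))) (.node 27 (.node 13 (.node 6 (.node 3 (.node 1 (.leaf 0x0) (.node 1 (.leaf 0x0) (.leaf 0x0))) (.node 1 (.leaf 0x0) (.node 1 (.leaf 0x0) (.leaf 0x0)))) (.node 3 (.node 1 (.leaf 0x0) (.node 1 (.leaf 0x0)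 (.leaf 0x0))) (.node 2 (.node 1 (.leaf 0x0) (.leaf 0x0)) (.node 1 (.leaf 0x0) (.leaf 0x0))))) (.node 7 (.node 3 (.node 1 (.leaf 0x0) (.node 1 (.leaf 0x0) (.leaf 0x0))) (.node 2 (.node 1 (.leaf 0x0) (.leaf 0x0)) (.node 1 (.leaf 0x0) (.leaf 0x0)))) (.node 3 (.node 1 (.leaf 0x0) (.node 1 (.leaf 0x0) (.leaf 0x0))) (.node 2 (.node 1 (.leaf 0x0) (.leaf 0x0)) (.node 1 (.leaf 0x0) (.leaf 0x0)))))) (.node 13 (.node 6 (.node 3 (.node 1 (.leaf 0x0) (.node 1 (.leaf 0x0) (.leaf 0x0))) (.node 1 (.leaf 0x0) (.node 1 (.leaf 0x0) (.leaf 0x0)))) (.node 3 (.node 1 (.leaf 0x0) (.node 1 (.leaf 0x0) (.leaf 0x0))) (.node 2 (.node 1 (.leaf 0x0) (.leaf 0x0)) (.node 1 (.leaf 0x0) (.leaf 0x0))))) (.node 7 (.node 3 (.node 1 (.leaf 0x0) (.node 1 (.leaf 0x0) (.leaf 0x0))) (.node 2 (.node 1 (.leaf 0x0) (.leaf 0x0)) (.node 1 (.leaf 0x0) (.leaf 0x0)))) (.node 3 (.node 1 (.leaf 0x0) (.node 1 (.leaf 0x0) (.leaf 0x0))) (.node 2 (.node 1 (.leaf 0x0) (.leaf 0x0)) (.node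 1 (.leaf 0x0) (.leaf 0x0)))))))

def moves3 : Tree :=
  .node 640 (.node 256 (.node 128 (moves3_0) (moves3_1)) (.node 128 (moves3_2) (.node 128 (moves3_3) (moves3_4)))) (.node 256 (.node 128 (moves3_5) (moves3_6)) (.node 128 (moves3_7) (.node 128 (moves3_8) (moves3_9))))

def reps3 : List (List (List ℕ)) := [[[4], [0], [1], [2]], [[4], [3, 4, 2, 3, 2, 3, 1, 2, 3, 5, 4, 3, 2, 1, 0, 1, 2, 3, 4, 5, 3, 2, 1, 3, 2, 3, 2, 4, 3], [3, 4, 2, 3, 2, 3, 1, 2, 3, 6, 4, 3, 2, 1, 0, 1, 2, 3, 4, 6, 3, 2, 1, 3, 2, 3, 2, 4, 3], [3, 5, 2, 3, 2, 3, 1, 2, 3, 5, 6, 3, 2, 1, 0, 1, 2, 3, 6, 5, 3, 2, 1, 3, 2, 3, 2, 5, 3]], [[4], [3, 4, 2, 3, 2, 3, 1, 2, 3, 5, 4, 3, 2, 1, 0, 1, 2, 3, 4, 5, 3, 2, 1, 3, 2, 3, 2, 4, 3], [3, 4, 1, 2, 3, 2, 3, 1, 2, 3, 6, 4, 3, 2, 1, 0, 1, 2, 3, 4, 6, 3, 2, 1, 3, 2, 3, 2, 1, 4, 3], [2]]]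

def level3 : Level := ⟨candsA, [[3, 1, 3, 1], [3, 2, 3, 2, 3, 2], [0, 1, 2, 3, 1, 2, 3, 1, 2, 3]], [[3, 1], [3, 2]], reps3, moves3⟩

def moves4_0 : Tree :=
  .node 64 (.node 32 (.node 16 (.node 8 (.node 4 (.node 2 (.node 1 (.leaf 0x0) (.leaf 0x1c0)) (.node 1 (.leaf 0x0) (.leaf 0x0))) (.node 2 (.node 1 (.leaf 0x0) (.leaf 0x0)) (.node 1 (.leaf 0x0) (.leaf 0x0)))) (.node 4 (.node 2 (.node 1 (.leaf 0x0) (.leaf 0x0)) (.node 1 (.leaf 0x0) (.leaf 0x0))) (.node 2 (.node 1 (.leaf 0x0) (.leaf 0x0)) (.node 1 (.leaf 0x2) (.leaf 0x182))))) (.node 8 (.node 4 (.node 2 (.node 1 (.leaf 0x0) (.leaf 0x0)) (.node 1 (.leaf 0x0) (.leaf 0x0))) (.node 2 (.node 1 (.leaf 0x0) (.leaf 0x0)) (.node 1 (.leaf 0x0) (.leaf 0x0)))) (.node 4 (.node 2 (.node 1 (.leaf 0x0) (.leaf 0x0)) (.node 1 (.leaf 0x0) (.leaf 0x0))) (.node 2 (.node 1 (.leaf 0x0) (.leaf 0x0)) (.node 1 (.leaf 0x0) (.leaf 0x0)))))) (.node 16 (.node 8 (.node 4 (.node 2 (.node 1 (.leaf 0x0) (.leaf 0x0))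 (.node 1 (.leaf 0x0) (.leaf 0x0))) (.node 2 (.node 1 (.leaf 0x0) (.leaf 0x0)) (.node 1 (.leaf 0x0) (.leaf 0x0)))) (.node 4 (.node 2 (.node 1 (.leaf 0x0) (.leaf 0x0)) (.node 1 (.leaf 0x0) (.leaf 0x0))) (.node 2 (.node 1 (.leaf 0x0) (.leaf 0x0)) (.node 1 (.leaf 0x0) (.leaf 0x0))))) (.node 8 (.node 4 (.node 2 (.node 1 (.leaf 0x0) (.leaf 0x0)) (.node 1 (.leaf 0x0) (.leaf 0x0))) (.node 2 (.node 1 (.leaf 0x0) (.leaf 0x0)) (.node 1 (.leaf 0x0) (.leaf 0x0)))) (.node 4 (.node 2 (.node 1 (.leaf 0x0) (.leaf 0x0)) (.node 1 (.leaf 0x0) (.leaf 0x0))) (.node 2 (.node 1 (.leaf 0x0) (.leaf 0x0)) (.node 1 (.leaf 0x0) (.leaf 0x0))))))) (.node 32 (.node 16 (.node 8 (.node 4 (.node 2 (.node 1 (.leaf 0x0) (.leaf 0x0)) (.node 1 (.leaf 0x0) (.leaf 0x0))) (.node 2 (.node 1 (.leaf 0x0) (.leaf 0x0)) (.node 1 (.leaf 0x0) (.leaf 0x0)))) (.node 4 (.node 2 (.node 1 (.leaf 0x0) (.leaf 0x0)) (.node 1 (.leaf 0x0) (.leaf 0x0))) (.node 2 (.node 1 (.leaf 0x0) (.leaf 0x0))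 (.node 1 (.leaf 0x0) (.leaf 0x0))))) (.node 8 (.node 4 (.node 2 (.node 1 (.leaf 0x0) (.leaf 0x0)) (.node 1 (.leaf 0x0) (.leaf 0x0))) (.node 2 (.node 1 (.leaf 0x0) (.leaf 0x0)) (.node 1 (.leaf 0x0) (.leaf 0x0)))) (.node 4 (.node 2 (.node 1 (.leaf 0x0) (.leaf 0x0)) (.node 1 (.leaf 0x0) (.leaf 0x0))) (.node 2 (.node 1 (.leaf 0x0) (.leaf 0x0)) (.node 1 (.leaf 0x0) (.leaf 0x0)))))) (.node 16 (.node 8 (.node 4 (.node 2 (.node 1 (.leaf 0x0) (.leaf 0x0)) (.node 1 (.leaf 0x0) (.leaf 0x0))) (.node 2 (.node 1 (.leaf 0x0) (.leaf 0x0)) (.node 1 (.leaf 0x0) (.leaf 0x0)))) (.node 4 (.node 2 (.node 1 (.leaf 0x0) (.leaf 0x0)) (.node 1 (.leaf 0x0) (.leaf 0x0))) (.node 2 (.node 1 (.leaf 0x0) (.leaf 0x0)) (.node 1 (.leaf 0x0) (.leaf 0x0))))) (.node 8 (.node 4 (.node 2 (.node 1 (.leaf 0x0) (.leaf 0x0)) (.node 1 (.leaf 0x0) (.leaf 0x0))) (.node 2 (.node 1 (.leaf 0x0) (.leaf 0x0)) (.node 1 (.leaf 0x0) (.leaf 0x0)))) (.node 4 (.node 2 (.node 1 (.leaf 0x0)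 (.leaf 0x0)) (.node 1 (.leaf 0x0) (.leaf 0x0))) (.node 2 (.node 1 (.leaf 0x0) (.leaf 0x0)) (.node 1 (.leaf 0x0) (.leaf 0x0)))))))

def moves4_1 : Tree :=
  .node 64 (.node 32 (.node 16 (.node 8 (.node 4 (.node 2 (.node 1 (.leaf 0x0) (.leaf 0x0)) (.node 1 (.leaf 0x0) (.leaf 0x0))) (.node 2 (.node 1 (.leaf 0x0) (.leaf 0x0)) (.node 1 (.leaf 0x0) (.leaf 0x0)))) (.node 4 (.node 2 (.node 1 (.leaf 0x0) (.leaf 0x0)) (.node 1 (.leaf 0x0) (.leaf 0x0))) (.node 2 (.node 1 (.leaf 0x0) (.leaf 0x0)) (.node 1 (.leaf 0x0) (.leaf 0x0))))) (.node 8 (.node 4 (.node 2 (.node 1 (.leaf 0x0) (.leaf 0x0)) (.node 1 (.leaf 0x0) (.leaf 0x0))) (.node 2 (.node 1 (.leaf 0x0) (.leaf 0x0)) (.node 1 (.leaf 0x0) (.leaf 0x0)))) (.node 4 (.node 2 (.node 1 (.leaf 0x0) (.leaf 0x0)) (.node 1 (.leaf 0x0) (.leaf 0x0))) (.node 2 (.node 1 (.leaf 0x0) (.leaf 0x0)) (.node 1 (.leaf 0x0) (.leaf 0x0)))))) (.node 16 (.node 8 (.node 4 (.node 2 (.node 1 (.leaf 0x0) (.leaf 0x0)) (.node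 1 (.leaf 0x0) (.leaf 0x0))) (.node 2 (.node 1 (.leaf 0x0) (.leaf 0x0)) (.node 1 (.leaf 0x0) (.leaf 0x0)))) (.node 4 (.node 2 (.node 1 (.leaf 0x0) (.leaf 0x0)) (.node 1 (.leaf 0x0) (.leaf 0x0))) (.node 2 (.node 1 (.leaf 0x0) (.leaf 0x0)) (.node 1 (.leaf 0x0) (.leaf 0x0))))) (.node 8 (.node 4 (.node 2 (.node 1 (.leaf 0x0) (.leaf 0x0)) (.node 1 (.leaf 0x0) (.leaf 0x0))) (.node 2 (.node 1 (.leaf 0x0) (.leaf 0x0)) (.node 1 (.leaf 0x0) (.leaf 0x0)))) (.node 4 (.node 2 (.node 1 (.leaf 0x0) (.leaf 0x0)) (.node 1 (.leaf 0x0) (.leaf 0x0))) (.node 2 (.node 1 (.leaf 0x0) (.leaf 0x0)) (.node 1 (.leaf 0x0) (.leaf 0x0))))))) (.node 32 (.node 16 (.node 8 (.node 4 (.node 2 (.node 1 (.leaf 0x0) (.leaf 0x0)) (.node 1 (.leaf 0x0) (.leaf 0x0))) (.node 2 (.node 1 (.leaf 0x0) (.leaf 0x0)) (.node 1 (.leaf 0x0) (.leaf 0x0)))) (.node 4 (.node 2 (.node 1 (.leaf 0x0) (.leaf 0x0)) (.node 1 (.leaf 0x0) (.leaf 0x0))) (.node 2 (.node 1 (.leaf 0x0) (.leaf 0x0)) (.node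 1 (.leaf 0x0) (.leaf 0x0))))) (.node 8 (.node 4 (.node 2 (.node 1 (.leaf 0x0) (.leaf 0x0)) (.node 1 (.leaf 0x0) (.leaf 0x0))) (.node 2 (.node 1 (.leaf 0x0) (.leaf 0x0)) (.node 1 (.leaf 0x0) (.leaf 0x0)))) (.node 4 (.node 2 (.node 1 (.leaf 0x0) (.leaf 0x0)) (.node 1 (.leaf 0x0) (.leaf 0x0))) (.node 2 (.node 1 (.leaf 0x0) (.leaf 0x0)) (.node 1 (.leaf 0x0) (.leaf 0x0)))))) (.node 16 (.node 8 (.node 4 (.node 2 (.node 1 (.leaf 0x0) (.leaf 0x0)) (.node 1 (.leaf 0x0) (.leaf 0x0))) (.node 2 (.node 1 (.leaf 0x0) (.leaf 0x0)) (.node 1 (.leaf 0x0) (.leaf 0x0)))) (.node 4 (.node 2 (.node 1 (.leaf 0x0) (.leaf 0x0)) (.node 1 (.leaf 0x0) (.leaf 0x0))) (.node 2 (.node 1 (.leaf 0x0) (.leaf 0x0)) (.node 1 (.leaf 0x0) (.leaf 0x0))))) (.node 8 (.node 4 (.node 2 (.node 1 (.leaf 0x0) (.leaf 0x0)) (.node 1 (.leaf 0x0) (.leaf 0x0))) (.node 2 (.node 1 (.leaf 0x0) (.leaf 0x0)) (.node 1 (.leaf 0x0) (.leaf 0x0)))) (.node 4 (.node 2 (.node 1 (.leaf 0x0) (.leaf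 0x0)) (.node 1 (.leaf 0x0) (.leaf 0x0))) (.node 2 (.node 1 (.leaf 0x0) (.leaf 0x0)) (.node 1 (.leaf 0x0) (.leaf 0x0)))))))

def moves4_2 : Tree :=
  .node 64 (.node 32 (.node 16 (.node 8 (.node 4 (.node 2 (.node 1 (.leaf 0x0) (.leaf 0x0)) (.node 1 (.leaf 0x0) (.leaf 0x0))) (.node 2 (.node 1 (.leaf 0x0) (.leaf 0x0)) (.node 1 (.leaf 0x0) (.leaf 0x0)))) (.node 4 (.node 2 (.node 1 (.leaf 0x0) (.leaf 0x0)) (.node 1 (.leaf 0x0) (.leaf 0x0))) (.node 2 (.node 1 (.leaf 0x0) (.leaf 0x0)) (.node 1 (.leaf 0x0) (.leaf 0x0))))) (.node 8 (.node 4 (.node 2 (.node 1 (.leaf 0x0) (.leaf 0x0)) (.node 1 (.leaf 0x0) (.leaf 0x0))) (.node 2 (.node 1 (.leaf 0x0) (.leaf 0x0)) (.node 1 (.leaf 0x0) (.leaf 0x0)))) (.node 4 (.node 2 (.node 1 (.leaf 0x0) (.leaf 0x0)) (.node 1 (.leaf 0x0) (.leaf 0x0))) (.node 2 (.node 1 (.leaf 0x0) (.leaf 0x0)) (.node 1 (.leaf 0x0) (.leaf 0x0)))))) (.node 16 (.node 8 (.node 4 (.node 2 (.node 1 (.leaf 0x0) (.leaf 0x0)) (.node 1 (.leaf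 0x0) (.leaf 0x0))) (.node 2 (.node 1 (.leaf 0x0) (.leaf 0x0)) (.node 1 (.leaf 0x0) (.leaf 0x0)))) (.node 4 (.node 2 (.node 1 (.leaf 0x0) (.leaf 0x0)) (.node 1 (.leaf 0x0) (.leaf 0x0))) (.node 2 (.node 1 (.leaf 0x0) (.leaf 0x0)) (.node 1 (.leaf 0x0) (.leaf 0x0))))) (.node 8 (.node 4 (.node 2 (.node 1 (.leaf 0x0) (.leaf 0x0)) (.node 1 (.leaf 0x0) (.leaf 0x0))) (.node 2 (.node 1 (.leaf 0x0) (.leaf 0x0)) (.node 1 (.leaf 0x0) (.leaf 0x0)))) (.node 4 (.node 2 (.node 1 (.leaf 0x0) (.leaf 0x0)) (.node 1 (.leaf 0x0) (.leaf 0x0))) (.node 2 (.node 1 (.leaf 0x0) (.leaf 0x0)) (.node 1 (.leaf 0x0) (.leaf 0x0))))))) (.node 32 (.node 16 (.node 8 (.node 4 (.node 2 (.node 1 (.leaf 0x0) (.leaf 0x0)) (.node 1 (.leaf 0x0) (.leaf 0x0))) (.node 2 (.node 1 (.leaf 0x0) (.leaf 0x0)) (.node 1 (.leaf 0x0) (.leaf 0x0)))) (.node 4 (.node 2 (.node 1 (.leaf 0x0) (.leaf 0x0)) (.node 1 (.leaf 0x0) (.leaf 0x0))) (.node 2 (.node 1 (.leaf 0x0) (.leaf 0x0)) (.node 1 (.leaf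 0x0) (.leaf 0x0))))) (.node 8 (.node 4 (.node 2 (.node 1 (.leaf 0x0) (.leaf 0x0)) (.node 1 (.leaf 0x0) (.leaf 0x0))) (.node 2 (.node 1 (.leaf 0x0) (.leaf 0x0)) (.node 1 (.leaf 0x0) (.leaf 0x0)))) (.node 4 (.node 2 (.node 1 (.leaf 0x0) (.leaf 0x0)) (.node 1 (.leaf 0x0) (.leaf 0x0))) (.node 2 (.node 1 (.leaf 0x0) (.leaf 0x0)) (.node 1 (.leaf 0x0) (.leaf 0x0)))))) (.node 16 (.node 8 (.node 4 (.node 2 (.node 1 (.leaf 0x0) (.leaf 0x0)) (.node 1 (.leaf 0x0) (.leaf 0x0))) (.node 2 (.node 1 (.leaf 0x0) (.leaf 0x0)) (.node 1 (.leaf 0x0) (.leaf 0x0)))) (.node 4 (.node 2 (.node 1 (.leaf 0x0) (.leaf 0x0)) (.node 1 (.leaf 0x0) (.leaf 0x0))) (.node 2 (.node 1 (.leaf 0x1) (.leaf 0x0)) (.node 1 (.leaf 0x0) (.leaf 0x0))))) (.node 8 (.node 4 (.node 2 (.node 1 (.leaf 0x0) (.leaf 0x0)) (.node 1 (.leaf 0x0) (.leaf 0x0))) (.node 2 (.node 1 (.leaf 0x0) (.leaf 0x0)) (.node 1 (.leaf 0x0) (.leaf 0x0)))) (.node 4 (.node 2 (.node 1 (.leaf 0x0) (.leaf 0x0)) (.node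 1 (.leaf 0x0) (.leaf 0x0))) (.node 2 (.node 1 (.leaf 0x0) (.leaf 0x0)) (.node 1 (.leaf 0x0) (.leaf 0x0)))))))

def moves4_3 : Tree :=
  .node 64 (.node 32 (.node 16 (.node 8 (.node 4 (.node 2 (.node 1 (.leaf 0x0) (.leaf 0x0)) (.node 1 (.leaf 0x0) (.leaf 0x0))) (.node 2 (.node 1 (.leaf 0x0) (.leaf 0x0)) (.node 1 (.leaf 0x0) (.leaf 0x0)))) (.node 4 (.node 2 (.node 1 (.leaf 0x0) (.leaf 0x0)) (.node 1 (.leaf 0x0) (.leaf 0x0))) (.node 2 (.node 1 (.leaf 0x0) (.leaf 0x0)) (.node 1 (.leaf 0x0) (.leaf 0x0))))) (.node 8 (.node 4 (.node 2 (.node 1 (.leaf 0x0) (.leaf 0x0)) (.node 1 (.leaf 0x0) (.leaf 0x0))) (.node 2 (.node 1 (.leaf 0x0) (.leaf 0x0)) (.node 1 (.leaf 0x0) (.leaf 0x0)))) (.node 4 (.node 2 (.node 1 (.leaf 0x0) (.leaf 0x0)) (.node 1 (.leaf 0x0) (.leaf 0x0))) (.node 2 (.node 1 (.leaf 0x0) (.leaf 0x0)) (.node 1 (.leaf 0x0) (.leaf 0x0)))))) (.node 16 (.node 8 (.node 4 (.node 2 (.node 1 (.leaf 0x0) (.leaf 0x0)) (.node 1 (.leaf 0x0) (.leaf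 0x0))) (.node 2 (.node 1 (.leaf 0x0) (.leaf 0x0)) (.node 1 (.leaf 0x0) (.leaf 0x0)))) (.node 4 (.node 2 (.node 1 (.leaf 0x0) (.leaf 0x0)) (.node 1 (.leaf 0x0) (.leaf 0x0))) (.node 2 (.node 1 (.leaf 0x0) (.leaf 0x0)) (.node 1 (.leaf 0x0) (.leaf 0x0))))) (.node 8 (.node 4 (.node 2 (.node 1 (.leaf 0x0) (.leaf 0x0)) (.node 1 (.leaf 0x0) (.leaf 0x0))) (.node 2 (.node 1 (.leaf 0x0) (.leaf 0x0)) (.node 1 (.leaf 0x0) (.leaf 0x0)))) (.node 4 (.node 2 (.node 1 (.leaf 0x0) (.leaf 0x0)) (.node 1 (.leaf 0x0) (.leaf 0x0))) (.node 2 (.node 1 (.leaf 0x0) (.leaf 0x0)) (.node 1 (.leaf 0x0) (.leaf 0x0))))))) (.node 32 (.node 16 (.node 8 (.node 4 (.node 2 (.node 1 (.leaf 0x0) (.leaf 0x0)) (.node 1 (.leaf 0x0) (.leaf 0x0))) (.node 2 (.node 1 (.leaf 0x0) (.leaf 0x0)) (.node 1 (.leaf 0x0) (.leaf 0x0)))) (.node 4 (.node 2 (.node 1 (.leaf 0x0) (.leaf 0x0)) (.node 1 (.leaf 0x0) (.leaf 0x0))) (.node 2 (.node 1 (.leaf 0x0) (.leaf 0x0)) (.node 1 (.leaf 0x0) (.leaf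 0x0))))) (.node 8 (.node 4 (.node 2 (.node 1 (.leaf 0x0) (.leaf 0x0)) (.node 1 (.leaf 0x0) (.leaf 0x0))) (.node 2 (.node 1 (.leaf 0x0) (.leaf 0x0)) (.node 1 (.leaf 0x0) (.leaf 0x0)))) (.node 4 (.node 2 (.node 1 (.leaf 0x0) (.leaf 0x0)) (.node 1 (.leaf 0x0) (.leaf 0x5))) (.node 2 (.node 1 (.leaf 0x4) (.leaf 0x0)) (.node 1 (.leaf 0x0) (.leaf 0x0)))))) (.node 16 (.node 8 (.node 4 (.node 2 (.node 1 (.leaf 0x0) (.leaf 0x0)) (.node 1 (.leaf 0x0) (.leaf 0x0))) (.node 2 (.node 1 (.leaf 0x0) (.leaf 0x0)) (.node 1 (.leaf 0x0) (.leaf 0x0)))) (.node 4 (.node 2 (.node 1 (.leaf 0x0) (.leaf 0x0)) (.node 1 (.leaf 0x0) (.leaf 0x0))) (.node 2 (.node 1 (.leaf 0x0) (.leaf 0x0)) (.node 1 (.leaf 0x0) (.leaf 0x0))))) (.node 8 (.node 4 (.node 2 (.node 1 (.leaf 0x0) (.leaf 0x0)) (.node 1 (.leaf 0x0) (.leaf 0x0))) (.node 2 (.node 1 (.leaf 0x0) (.leaf 0x0)) (.node 1 (.leaf 0x0) (.leaf 0x0)))) (.node 4 (.node 2 (.node 1 (.leaf 0x0) (.leaf 0x0)) (.node 1 (.leaf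 0x0) (.leaf 0x0))) (.node 2 (.node 1 (.leaf 0x0) (.leaf 0x0)) (.node 1 (.leaf 0x0) (.leaf 0x0)))))))

def moves4_4 : Tree :=
  .node 64 (.node 32 (.node 16 (.node 8 (.node 4 (.node 2 (.node 1 (.leaf 0x0) (.leaf 0x0)) (.node 1 (.leaf 0x0) (.leaf 0x0))) (.node 2 (.node 1 (.leaf 0x0) (.leaf 0x0)) (.node 1 (.leaf 0x0) (.leaf 0x0)))) (.node 4 (.node 2 (.node 1 (.leaf 0x0) (.leaf 0x0)) (.node 1 (.leaf 0x0) (.leaf 0x0))) (.node 2 (.node 1 (.leaf 0x0) (.leaf 0x0)) (.node 1 (.leaf 0x0) (.leaf 0x0))))) (.node 8 (.node 4 (.node 2 (.node 1 (.leaf 0x0) (.leaf 0x0)) (.node 1 (.leaf 0x0) (.leaf 0x0))) (.node 2 (.node 1 (.leaf 0x0) (.leaf 0x0)) (.node 1 (.leaf 0x0) (.leaf 0x0)))) (.node 4 (.node 2 (.node 1 (.leaf 0x0) (.leaf 0x0)) (.node 1 (.leaf 0x0) (.leaf 0x0))) (.node 2 (.node 1 (.leaf 0x0) (.leaf 0x0)) (.node 1 (.leaf 0x0) (.leaf 0x0)))))) (.node 16 (.node 8 (.node 4 (.node 2 (.node 1 (.leaf 0x0) (.leaf 0x0)) (.node 1 (.leaf 0x0) (.leaf 0x0)))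 (.node 2 (.node 1 (.leaf 0x0) (.leaf 0x0)) (.node 1 (.leaf 0x0) (.leaf 0x0)))) (.node 4 (.node 2 (.node 1 (.leaf 0x0) (.leaf 0x0)) (.node 1 (.leaf 0x0) (.leaf 0x0))) (.node 2 (.node 1 (.leaf 0x0) (.leaf 0x0)) (.node 1 (.leaf 0x0) (.leaf 0x0))))) (.node 8 (.node 4 (.node 2 (.node 1 (.leaf 0x0) (.leaf 0x0)) (.node 1 (.leaf 0x0) (.leaf 0x0))) (.node 2 (.node 1 (.leaf 0x0) (.leaf 0x0)) (.node 1 (.leaf 0x0) (.leaf 0x0)))) (.node 4 (.node 2 (.node 1 (.leaf 0x0) (.leaf 0x0)) (.node 1 (.leaf 0x0) (.leaf 0x0))) (.node 2 (.node 1 (.leaf 0x0) (.leaf 0x0)) (.node 1 (.leaf 0x0) (.leaf 0x0))))))) (.node 32 (.node 16 (.node 8 (.node 4 (.node 2 (.node 1 (.leaf 0x0) (.leaf 0x0)) (.node 1 (.leaf 0x0) (.leaf 0x0))) (.node 2 (.node 1 (.leaf 0x0) (.leaf 0x0)) (.node 1 (.leaf 0x0) (.leaf 0x0)))) (.node 4 (.node 2 (.node 1 (.leaf 0x0) (.leaf 0x0)) (.node 1 (.leaf 0x0) (.leaf 0x0))) (.node 2 (.node 1 (.leaf 0x0) (.leaf 0x0)) (.node 1 (.leaf 0x0) (.leaf 0x0)))))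 (.node 8 (.node 4 (.node 2 (.node 1 (.leaf 0x0) (.leaf 0x0)) (.node 1 (.leaf 0x0) (.leaf 0x0))) (.node 2 (.node 1 (.leaf 0x0) (.leaf 0x0)) (.node 1 (.leaf 0x0) (.leaf 0x0)))) (.node 4 (.node 2 (.node 1 (.leaf 0x0) (.leaf 0x0)) (.node 1 (.leaf 0x0) (.leaf 0x0))) (.node 2 (.node 1 (.leaf 0x0) (.leaf 0x0)) (.node 1 (.leaf 0x0) (.leaf 0x0)))))) (.node 16 (.node 8 (.node 4 (.node 2 (.node 1 (.leaf 0x0) (.leaf 0x0)) (.node 1 (.leaf 0x0) (.leaf 0x0))) (.node 2 (.node 1 (.leaf 0x0) (.leaf 0x0)) (.node 1 (.leaf 0x0) (.leaf 0x0)))) (.node 4 (.node 2 (.node 1 (.leaf 0x0) (.leaf 0x0)) (.node 1 (.leaf 0x0) (.leaf 0x0))) (.node 2 (.node 1 (.leaf 0x0) (.leaf 0x0)) (.node 1 (.leaf 0x0) (.leaf 0x0))))) (.node 8 (.node 4 (.node 2 (.node 1 (.leaf 0x0) (.leaf 0x0)) (.node 1 (.leaf 0x0) (.leaf 0x0))) (.node 2 (.node 1 (.leaf 0x0) (.leaf 0x0)) (.node 1 (.leaf 0x0) (.leaf 0x0)))) (.node 4 (.node 2 (.node 1 (.leaf 0x0) (.leaf 0x0)) (.node 1 (.leaf 0x0) (.leaf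 0x0))) (.node 2 (.node 1 (.leaf 0x0) (.leaf 0x0)) (.node 1 (.leaf 0x0) (.leaf 0x0)))))))

def moves4_5 : Tree :=
  .node 64 (.node 32 (.node 16 (.node 8 (.node 4 (.node 2 (.node 1 (.leaf 0x0) (.leaf 0x0)) (.node 1 (.leaf 0x0) (.leaf 0x0))) (.node 2 (.node 1 (.leaf 0x0) (.leaf 0x0)) (.node 1 (.leaf 0x0) (.leaf 0x0)))) (.node 4 (.node 2 (.node 1 (.leaf 0x0) (.leaf 0x0)) (.node 1 (.leaf 0x0) (.leaf 0x0))) (.node 2 (.node 1 (.leaf 0x0) (.leaf 0x0)) (.node 1 (.leaf 0x0) (.leaf 0x0))))) (.node 8 (.node 4 (.node 2 (.node 1 (.leaf 0x0) (.leaf 0x0)) (.node 1 (.leaf 0x0) (.leaf 0x0))) (.node 2 (.node 1 (.leaf 0x0) (.leaf 0x0)) (.node 1 (.leaf 0x0) (.leaf 0x0)))) (.node 4 (.node 2 (.node 1 (.leaf 0x0) (.leaf 0x0)) (.node 1 (.leaf 0x0) (.leaf 0x0))) (.node 2 (.node 1 (.leaf 0x0) (.leaf 0x0)) (.node 1 (.leaf 0x0) (.leaf 0x0)))))) (.node 16 (.node 8 (.node 4 (.node 2 (.node 1 (.leaf 0x0) (.leaf 0x0)) (.node 1 (.leaf 0x0) (.leaf 0x0))) (.node 2 (.node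 1 (.leaf 0x0) (.leaf 0x0)) (.node 1 (.leaf 0x0) (.leaf 0x0)))) (.node 4 (.node 2 (.node 1 (.leaf 0x0) (.leaf 0x0)) (.node 1 (.leaf 0x0) (.leaf 0x0))) (.node 2 (.node 1 (.leaf 0x0) (.leaf 0x0)) (.node 1 (.leaf 0x0) (.leaf 0x0))))) (.node 8 (.node 4 (.node 2 (.node 1 (.leaf 0x0) (.leaf 0x0)) (.node 1 (.leaf 0x0) (.leaf 0x0))) (.node 2 (.node 1 (.leaf 0x0) (.leaf 0x0)) (.node 1 (.leaf 0x0) (.leaf 0x0)))) (.node 4 (.node 2 (.node 1 (.leaf 0x0) (.leaf 0x0)) (.node 1 (.leaf 0x0) (.leaf 0x0))) (.node 2 (.node 1 (.leaf 0x0) (.leaf 0x0)) (.node 1 (.leaf 0x0) (.leaf 0x0))))))) (.node 32 (.node 16 (.node 8 (.node 4 (.node 2 (.node 1 (.leaf 0x0) (.leaf 0x0)) (.node 1 (.leaf 0x0) (.leaf 0x0))) (.node 2 (.node 1 (.leaf 0x0) (.leaf 0x0)) (.node 1 (.leaf 0x0) (.leaf 0x0)))) (.node 4 (.node 2 (.node 1 (.leaf 0x0) (.leaf 0x0)) (.node 1 (.leaf 0x0) (.leaf 0x0))) (.node 2 (.node 1 (.leaf 0x0) (.leaf 0x0)) (.node 1 (.leaf 0x0) (.leaf 0x0))))) (.node 8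 (.node 4 (.node 2 (.node 1 (.leaf 0x0) (.leaf 0x0)) (.node 1 (.leaf 0x0) (.leaf 0x0))) (.node 2 (.node 1 (.leaf 0x0) (.leaf 0x0)) (.node 1 (.leaf 0x0) (.leaf 0x0)))) (.node 4 (.node 2 (.node 1 (.leaf 0x0) (.leaf 0x0)) (.node 1 (.leaf 0x0) (.leaf 0x0))) (.node 2 (.node 1 (.leaf 0x0) (.leaf 0x0)) (.node 1 (.leaf 0x0) (.leaf 0x0)))))) (.node 16 (.node 8 (.node 4 (.node 2 (.node 1 (.leaf 0x0) (.leaf 0x0)) (.node 1 (.leaf 0x0) (.leaf 0x0))) (.node 2 (.node 1 (.leaf 0x0) (.leaf 0x0)) (.node 1 (.leaf 0x0) (.leaf 0x0)))) (.node 4 (.node 2 (.node 1 (.leaf 0x0) (.leaf 0x0)) (.node 1 (.leaf 0x0) (.leaf 0x0))) (.node 2 (.node 1 (.leaf 0x0) (.leaf 0x0)) (.node 1 (.leaf 0x0) (.leaf 0x0))))) (.node 8 (.node 4 (.node 2 (.node 1 (.leaf 0x0) (.leaf 0x0)) (.node 1 (.leaf 0x0) (.leaf 0x0))) (.node 2 (.node 1 (.leaf 0x0) (.leaf 0x0)) (.node 1 (.leaf 0x0) (.leaf 0x0)))) (.node 4 (.node 2 (.node 1 (.leaf 0x0) (.leaf 0x0)) (.node 1 (.leaf 0x0) (.leaf 0x0)))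 (.node 2 (.node 1 (.leaf 0x0) (.leaf 0x0)) (.node 1 (.leaf 0x0) (.leaf 0x0)))))))

def moves4_6 : Tree :=
  .node 64 (.node 32 (.node 16 (.node 8 (.node 4 (.node 2 (.node 1 (.leaf 0x0) (.leaf 0x0)) (.node 1 (.leaf 0x0) (.leaf 0x0))) (.node 2 (.node 1 (.leaf 0x0) (.leaf 0x0)) (.node 1 (.leaf 0x0) (.leaf 0x0)))) (.node 4 (.node 2 (.node 1 (.leaf 0x0) (.leaf 0x0)) (.node 1 (.leaf 0x0) (.leaf 0x0))) (.node 2 (.node 1 (.leaf 0x0) (.leaf 0x0)) (.node 1 (.leaf 0x0) (.leaf 0x0))))) (.node 8 (.node 4 (.node 2 (.node 1 (.leaf 0x0) (.leaf 0x0)) (.node 1 (.leaf 0x0) (.leaf 0x0))) (.node 2 (.node 1 (.leaf 0x0) (.leaf 0x0)) (.node 1 (.leaf 0x0) (.leaf 0x0)))) (.node 4 (.node 2 (.node 1 (.leaf 0x0) (.leaf 0x0)) (.node 1 (.leaf 0x0) (.leaf 0x0))) (.node 2 (.node 1 (.leaf 0x0) (.leaf 0x0)) (.node 1 (.leaf 0x0) (.leaf 0x0)))))) (.node 16 (.node 8 (.node 4 (.node 2 (.node 1 (.leaf 0x0) (.leaf 0x0)) (.node 1 (.leaf 0x0) (.leaf 0x0))) (.node 2 (.node 1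 (.leaf 0x0) (.leaf 0x0)) (.node 1 (.leaf 0x0) (.leaf 0x0)))) (.node 4 (.node 2 (.node 1 (.leaf 0x0) (.leaf 0x0)) (.node 1 (.leaf 0x0) (.leaf 0x0))) (.node 2 (.node 1 (.leaf 0x0) (.leaf 0x3)) (.node 1 (.leaf 0x0) (.leaf 0x0))))) (.node 8 (.node 4 (.node 2 (.node 1 (.leaf 0x0) (.leaf 0x0)) (.node 1 (.leaf 0x0) (.leaf 0x0))) (.node 2 (.node 1 (.leaf 0x0) (.leaf 0x0)) (.node 1 (.leaf 0x0) (.leaf 0x0)))) (.node 4 (.node 2 (.node 1 (.leaf 0x0) (.leaf 0x0)) (.node 1 (.leaf 0x0) (.leaf 0x0))) (.node 2 (.node 1 (.leaf 0x0) (.leaf 0x0)) (.node 1 (.leaf 0x0) (.leaf 0x0))))))) (.node 32 (.node 16 (.node 8 (.node 4 (.node 2 (.node 1 (.leaf 0x0) (.leaf 0x0)) (.node 1 (.leaf 0x0) (.leaf 0x0))) (.node 2 (.node 1 (.leaf 0x0) (.leaf 0x0)) (.node 1 (.leaf 0x0) (.leaf 0x0)))) (.node 4 (.node 2 (.node 1 (.leaf 0x0) (.leaf 0x0)) (.node 1 (.leaf 0x0) (.leaf 0x0))) (.node 2 (.node 1 (.leaf 0x0) (.leaf 0x0)) (.node 1 (.leaf 0x0) (.leaf 0x0))))) (.node 8 (.node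 4 (.node 2 (.node 1 (.leaf 0x0) (.leaf 0x0)) (.node 1 (.leaf 0x0) (.leaf 0x0))) (.node 2 (.node 1 (.leaf 0x0) (.leaf 0x0)) (.node 1 (.leaf 0x0) (.leaf 0x0)))) (.node 4 (.node 2 (.node 1 (.leaf 0x0) (.leaf 0x0)) (.node 1 (.leaf 0x0) (.leaf 0x0))) (.node 2 (.node 1 (.leaf 0x0) (.leaf 0x0)) (.node 1 (.leaf 0x0) (.leaf 0x0)))))) (.node 16 (.node 8 (.node 4 (.node 2 (.node 1 (.leaf 0x0) (.leaf 0x0)) (.node 1 (.leaf 0x0) (.leaf 0x0))) (.node 2 (.node 1 (.leaf 0x0) (.leaf 0x0)) (.node 1 (.leaf 0x0) (.leaf 0x0)))) (.node 4 (.node 2 (.node 1 (.leaf 0x0) (.leaf 0x0)) (.node 1 (.leaf 0x0) (.leaf 0x0))) (.node 2 (.node 1 (.leaf 0x0) (.leaf 0x0)) (.node 1 (.leaf 0x0) (.leaf 0x0))))) (.node 8 (.node 4 (.node 2 (.node 1 (.leaf 0x0) (.leaf 0x0)) (.node 1 (.leaf 0x0) (.leaf 0x0))) (.node 2 (.node 1 (.leaf 0x0) (.leaf 0x0)) (.node 1 (.leaf 0x0) (.leaf 0x0)))) (.node 4 (.node 2 (.node 1 (.leaf 0x0) (.leaf 0x0)) (.node 1 (.leaf 0x0) (.leaf 0x0))) (.node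 2 (.node 1 (.leaf 0x0) (.leaf 0x0)) (.node 1 (.leaf 0x0) (.leaf 0x0)))))))

def moves4_7 : Tree :=
  .node 64 (.node 32 (.node 16 (.node 8 (.node 4 (.node 2 (.node 1 (.leaf 0x0) (.leaf 0x0)) (.node 1 (.leaf 0x0) (.leaf 0x0))) (.node 2 (.node 1 (.leaf 0x7) (.leaf 0x8)) (.node 1 (.leaf 0x0) (.leaf 0x0)))) (.node 4 (.node 2 (.node 1 (.leaf 0x0) (.leaf 0x0)) (.node 1 (.leaf 0x0) (.leaf 0x0))) (.node 2 (.node 1 (.leaf 0x0) (.leaf 0x0)) (.node 1 (.leaf 0x0) (.leaf 0x0))))) (.node 8 (.node 4 (.node 2 (.node 1 (.leaf 0x0) (.leaf 0x0)) (.node 1 (.leaf 0x0) (.leaf 0x0))) (.node 2 (.node 1 (.leaf 0x0) (.leaf 0x0)) (.node 1 (.leaf 0x0) (.leaf 0x0)))) (.node 4 (.node 2 (.node 1 (.leaf 0x0) (.leaf 0x0)) (.node 1 (.leaf 0x0) (.leaf 0x0))) (.node 2 (.node 1 (.leaf 0x0) (.leaf 0x0)) (.node 1 (.leaf 0x0) (.leaf 0x0)))))) (.node 16 (.node 8 (.node 4 (.node 2 (.node 1 (.leaf 0x0) (.leaf 0x0)) (.node 1 (.leaf 0x0) (.leaf 0x0))) (.node 2 (.node 1 (.leaf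 0x0) (.leaf 0x0)) (.node 1 (.leaf 0x0) (.leaf 0x0)))) (.node 4 (.node 2 (.node 1 (.leaf 0x0) (.leaf 0x0)) (.node 1 (.leaf 0x0) (.leaf 0x0))) (.node 2 (.node 1 (.leaf 0x0) (.leaf 0x0)) (.node 1 (.leaf 0x0) (.leaf 0x0))))) (.node 8 (.node 4 (.node 2 (.node 1 (.leaf 0x0) (.leaf 0x0)) (.node 1 (.leaf 0x0) (.leaf 0x0))) (.node 2 (.node 1 (.leaf 0x0) (.leaf 0x0)) (.node 1 (.leaf 0x0) (.leaf 0x0)))) (.node 4 (.node 2 (.node 1 (.leaf 0x0) (.leaf 0x0)) (.node 1 (.leaf 0x0) (.leaf 0x0))) (.node 2 (.node 1 (.leaf 0x0) (.leaf 0x0)) (.node 1 (.leaf 0x0) (.leaf 0x0))))))) (.node 32 (.node 16 (.node 8 (.node 4 (.node 2 (.node 1 (.leaf 0x0) (.leaf 0x0)) (.node 1 (.leaf 0x0) (.leaf 0x0))) (.node 2 (.node 1 (.leaf 0x0) (.leaf 0x0)) (.node 1 (.leaf 0x0) (.leaf 0x0)))) (.node 4 (.node 2 (.node 1 (.leaf 0x0) (.leaf 0x0)) (.node 1 (.leaf 0x0) (.leaf 0x0))) (.node 2 (.node 1 (.leaf 0x0) (.leaf 0x0)) (.node 1 (.leaf 0x0) (.leaf 0x0))))) (.node 8 (.node 4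 (.node 2 (.node 1 (.leaf 0x0) (.leaf 0x0)) (.node 1 (.leaf 0x0) (.leaf 0x0))) (.node 2 (.node 1 (.leaf 0x0) (.leaf 0x0)) (.node 1 (.leaf 0x0) (.leaf 0x0)))) (.node 4 (.node 2 (.node 1 (.leaf 0x0) (.leaf 0x0)) (.node 1 (.leaf 0x0) (.leaf 0x0))) (.node 2 (.node 1 (.leaf 0x0) (.leaf 0x0)) (.node 1 (.leaf 0x0) (.leaf 0x0)))))) (.node 16 (.node 8 (.node 4 (.node 2 (.node 1 (.leaf 0x0) (.leaf 0x0)) (.node 1 (.leaf 0x0) (.leaf 0x0))) (.node 2 (.node 1 (.leaf 0x0) (.leaf 0x0)) (.node 1 (.leaf 0x0) (.leaf 0x0)))) (.node 4 (.node 2 (.node 1 (.leaf 0x0) (.leaf 0x0)) (.node 1 (.leaf 0x0) (.leaf 0x0))) (.node 2 (.node 1 (.leaf 0x0) (.leaf 0x0)) (.node 1 (.leaf 0x0) (.leaf 0x0))))) (.node 8 (.node 4 (.node 2 (.node 1 (.leaf 0x0) (.leaf 0x0)) (.node 1 (.leaf 0x0) (.leaf 0x0))) (.node 2 (.node 1 (.leaf 0x0) (.leaf 0x0)) (.node 1 (.leaf 0x0) (.leaf 0x0)))) (.node 4 (.node 2 (.node 1 (.leaf 0x0) (.leaf 0x0)) (.node 1 (.leaf 0x0) (.leaf 0x0))) (.node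 2 (.node 1 (.leaf 0x0) (.leaf 0x0)) (.node 1 (.leaf 0x0) (.leaf 0x0)))))))

def moves4_8 : Tree :=
  .node 64 (.node 32 (.node 16 (.node 8 (.node 4 (.node 2 (.node 1 (.leaf 0x0) (.leaf 0x0)) (.node 1 (.leaf 0x0) (.leaf 0x0))) (.node 2 (.node 1 (.leaf 0x0) (.leaf 0x0)) (.node 1 (.leaf 0x0) (.leaf 0x0)))) (.node 4 (.node 2 (.node 1 (.leaf 0x0) (.leaf 0x0)) (.node 1 (.leaf 0x0) (.leaf 0x0))) (.node 2 (.node 1 (.leaf 0x0) (.leaf 0x0)) (.node 1 (.leaf 0x0) (.leaf 0x0))))) (.node 8 (.node 4 (.node 2 (.node 1 (.leaf 0x0) (.leaf 0x0)) (.node 1 (.leaf 0x0) (.leaf 0x0))) (.node 2 (.node 1 (.leaf 0x0) (.leaf 0x0)) (.node 1 (.leaf 0x0) (.leaf 0x0)))) (.node 4 (.node 2 (.node 1 (.leaf 0x0) (.leaf 0x0)) (.node 1 (.leaf 0x0) (.leaf 0x0))) (.node 2 (.node 1 (.leaf 0x0) (.leaf 0x0)) (.node 1 (.leaf 0x0) (.leaf 0x0)))))) (.node 16 (.node 8 (.node 4 (.node 2 (.node 1 (.leaf 0x0) (.leaf 0x0)) (.node 1 (.leaf 0x0) (.leaf 0x0))) (.node 2 (.node 1 (.leaf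 0x0) (.leaf 0x0)) (.node 1 (.leaf 0x0) (.leaf 0x0)))) (.node 4 (.node 2 (.node 1 (.leaf 0x0) (.leaf 0x0)) (.node 1 (.leaf 0x0) (.leaf 0x0))) (.node 2 (.node 1 (.leaf 0x0) (.leaf 0x0)) (.node 1 (.leaf 0x0) (.leaf 0x0))))) (.node 8 (.node 4 (.node 2 (.node 1 (.leaf 0x0) (.leaf 0x0)) (.node 1 (.leaf 0x0) (.leaf 0x0))) (.node 2 (.node 1 (.leaf 0x0) (.leaf 0x0)) (.node 1 (.leaf 0x0) (.leaf 0x0)))) (.node 4 (.node 2 (.node 1 (.leaf 0x0) (.leaf 0x0)) (.node 1 (.leaf 0x0) (.leaf 0x0))) (.node 2 (.node 1 (.leaf 0x0) (.leaf 0x0)) (.node 1 (.leaf 0x0) (.leaf 0x0))))))) (.node 32 (.node 16 (.node 8 (.node 4 (.node 2 (.node 1 (.leaf 0x0) (.leaf 0x0)) (.node 1 (.leaf 0x0) (.leaf 0x0))) (.node 2 (.node 1 (.leaf 0x0) (.leaf 0x0)) (.node 1 (.leaf 0x0) (.leaf 0x0)))) (.node 4 (.node 2 (.node 1 (.leaf 0x0) (.leaf 0x0)) (.node 1 (.leaf 0x0) (.leaf 0x0))) (.node 2 (.node 1 (.leaf 0x0) (.leaf 0x0)) (.node 1 (.leaf 0x0) (.leaf 0x0))))) (.node 8 (.node 4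 (.node 2 (.node 1 (.leaf 0x0) (.leaf 0x0)) (.node 1 (.leaf 0x0) (.leaf 0x0))) (.node 2 (.node 1 (.leaf 0x0) (.leaf 0x0)) (.node 1 (.leaf 0x0) (.leaf 0x0)))) (.node 4 (.node 2 (.node 1 (.leaf 0x0) (.leaf 0x0)) (.node 1 (.leaf 0x0) (.leaf 0x0))) (.node 2 (.node 1 (.leaf 0x0) (.leaf 0x0)) (.node 1 (.leaf 0x0) (.leaf 0x0)))))) (.node 16 (.node 8 (.node 4 (.node 2 (.node 1 (.leaf 0x0) (.leaf 0x0)) (.node 1 (.leaf 0x0) (.leaf 0x0))) (.node 2 (.node 1 (.leaf 0x0) (.leaf 0x0)) (.node 1 (.leaf 0x0) (.leaf 0x0)))) (.node 4 (.node 2 (.node 1 (.leaf 0x0) (.leaf 0x0)) (.node 1 (.leaf 0x0) (.leaf 0x0))) (.node 2 (.node 1 (.leaf 0x0) (.leaf 0x0)) (.node 1 (.leaf 0x0) (.leaf 0x0))))) (.node 8 (.node 4 (.node 2 (.node 1 (.leaf 0x0) (.leaf 0x0)) (.node 1 (.leaf 0x0) (.leaf 0x0))) (.node 2 (.node 1 (.leaf 0x0) (.leaf 0x0)) (.node 1 (.leaf 0x0) (.leaf 0x0)))) (.node 4 (.node 2 (.node 1 (.leaf 0x0) (.leaf 0x0)) (.node 1 (.leaf 0x0) (.leaf 0x0))) (.node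 2 (.node 1 (.leaf 0x0) (.leaf 0x0)) (.node 1 (.leaf 0x0) (.leaf 0x0)))))))

def moves4_9 : Tree :=
  .node 64 (.node 32 (.node 16 (.node 8 (.node 4 (.node 2 (.node 1 (.leaf 0x0) (.leaf 0x0)) (.node 1 (.leaf 0x0) (.leaf 0x0))) (.node 2 (.node 1 (.leaf 0x0) (.leaf 0x0)) (.node 1 (.leaf 0x0) (.leaf 0x0)))) (.node 4 (.node 2 (.node 1 (.leaf 0x0) (.leaf 0x0)) (.node 1 (.leaf 0x0) (.leaf 0x0))) (.node 2 (.node 1 (.leaf 0x0) (.leaf 0x0)) (.node 1 (.leaf 0x0) (.leaf 0x0))))) (.node 8 (.node 4 (.node 2 (.node 1 (.leaf 0x0) (.leaf 0x0)) (.node 1 (.leaf 0x0) (.leaf 0x0))) (.node 2 (.node 1 (.leaf 0x0) (.leaf 0x0)) (.node 1 (.leaf 0x0) (.leaf 0x0)))) (.node 4 (.node 2 (.node 1 (.leaf 0x0) (.leaf 0x0)) (.node 1 (.leaf 0x0) (.leaf 0x0))) (.node 2 (.node 1 (.leaf 0x0) (.leaf 0x0)) (.node 1 (.leaf 0x0) (.leaf 0x0)))))) (.node 16 (.node 8 (.node 4 (.node 2 (.node 1 (.leaf 0x0) (.leaf 0x0)) (.node 1 (.leaf 0x0) (.leaf 0x0))) (.node 2 (.node 1 (.leaf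 0x0) (.leaf 0x0)) (.node 1 (.leaf 0x0) (.leaf 0x0)))) (.node 4 (.node 2 (.node 1 (.leaf 0x0) (.leaf 0x0)) (.node 1 (.leaf 0x0) (.leaf 0x0))) (.node 2 (.node 1 (.leaf 0x0) (.leaf 0x0)) (.node 1 (.leaf 0x0) (.leaf 0x0))))) (.node 8 (.node 4 (.node 2 (.node 1 (.leaf 0x0) (.leaf 0x0)) (.node 1 (.leaf 0x0) (.leaf 0x0))) (.node 2 (.node 1 (.leaf 0x0) (.leaf 0x0)) (.node 1 (.leaf 0x0) (.leaf 0x0)))) (.node 4 (.node 2 (.node 1 (.leaf 0x0) (.leaf 0x0)) (.node 1 (.leaf 0x0) (.leaf 0x0))) (.node 2 (.node 1 (.leaf 0x0) (.leaf 0x0)) (.node 1 (.leaf 0x0) (.leaf 0x0))))))) (.node 32 (.node 16 (.node 8 (.node 4 (.node 2 (.node 1 (.leaf 0x0) (.leaf 0x0)) (.node 1 (.leaf 0x0) (.leaf 0x0))) (.node 2 (.node 1 (.leaf 0x0) (.leaf 0x0)) (.node 1 (.leaf 0x0) (.leaf 0x0)))) (.node 4 (.node 2 (.node 1 (.leaf 0x0) (.leaf 0x0)) (.node 1 (.leaf 0x0) (.leaf 0x0))) (.node 2 (.node 1 (.leaf 0x0) (.leaf 0x0)) (.node 1 (.leaf 0x0) (.leaf 0x0))))) (.node 8 (.node 4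 (.node 2 (.node 1 (.leaf 0x0) (.leaf 0x0)) (.node 1 (.leaf 0x0) (.leaf 0x0))) (.node 2 (.node 1 (.leaf 0x0) (.leaf 0x0)) (.node 1 (.leaf 0x0) (.leaf 0x0)))) (.node 4 (.node 2 (.node 1 (.leaf 0x0) (.leaf 0x0)) (.node 1 (.leaf 0x0) (.leaf 0x0))) (.node 2 (.node 1 (.leaf 0x0) (.leaf 0x0)) (.node 1 (.leaf 0x0) (.leaf 0x0)))))) (.node 16 (.node 8 (.node 4 (.node 2 (.node 1 (.leaf 0x0) (.leaf 0x0)) (.node 1 (.leaf 0x0) (.leaf 0x0))) (.node 2 (.node 1 (.leaf 0x0) (.leaf 0x0)) (.node 1 (.leaf 0x0) (.leaf 0x0)))) (.node 4 (.node 2 (.node 1 (.leaf 0x0) (.leaf 0x0)) (.node 1 (.leaf 0x0) (.leaf 0x0))) (.node 2 (.node 1 (.leaf 0x0) (.leaf 0x0)) (.node 1 (.leaf 0x6) (.leaf 0x0))))) (.node 8 (.node 4 (.node 2 (.node 1 (.leaf 0x0) (.leaf 0x0)) (.node 1 (.leaf 0x0) (.leaf 0x0))) (.node 2 (.node 1 (.leaf 0x0) (.leaf 0x0)) (.node 1 (.leaf 0x0) (.leaf 0x0)))) (.node 4 (.node 2 (.node 1 (.leaf 0x0) (.leaf 0x0)) (.node 1 (.leaf 0x0) (.leaf 0x0))) (.node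 2 (.node 1 (.leaf 0x0) (.leaf 0x0)) (.node 1 (.leaf 0x0) (.leaf 0x0)))))))

def moves4_10 : Tree :=
  .node 33 (.node 16 (.node 8 (.node 4 (.node 2 (.node 1 (.leaf 0x0) (.leaf 0x0)) (.node 1 (.leaf 0x0) (.leaf 0x0))) (.node 2 (.node 1 (.leaf 0x0) (.leaf 0x0)) (.node 1 (.leaf 0x0) (.leaf 0x0)))) (.node 4 (.node 2 (.node 1 (.leaf 0x0) (.leaf 0x0)) (.node 1 (.leaf 0x0) (.leaf 0x0))) (.node 2 (.node 1 (.leaf 0x0) (.leaf 0x0)) (.node 1 (.leaf 0x0) (.leaf 0x0))))) (.node 8 (.node 4 (.node 2 (.node 1 (.leaf 0x0) (.leaf 0x0)) (.node 1 (.leaf 0x0) (.leaf 0x0))) (.node 2 (.node 1 (.leaf 0x0) (.leaf 0x0)) (.node 1 (.leaf 0x0) (.leaf 0x0)))) (.node 4 (.node 2 (.node 1 (.leaf 0x0) (.leaf 0x0)) (.node 1 (.leaf 0x0) (.leaf 0x0))) (.node 2 (.node 1 (.leaf 0x0) (.leaf 0x0)) (.node 1 (.leaf 0x0) (.node 1 (.leaf 0x0) (.leaf 0x0))))))) (.node 17 (.node 8 (.node 4 (.node 2 (.node 1 (.leaf 0x0) (.leaf 0x0)) (.node 1 (.leaf 0x0) (.leaf 0x0))) (.node 2 (.node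 1 (.leaf 0x0) (.leaf 0x0)) (.node 1 (.leaf 0x0) (.leaf 0x0)))) (.node 4 (.node 2 (.node 1 (.leaf 0x0) (.leaf 0x0)) (.node 1 (.leaf 0x0) (.leaf 0x0))) (.node 2 (.node 1 (.leaf 0x0) (.leaf 0x0)) (.node 1 (.leaf 0x0) (.node 1 (.leaf 0x0) (.leaf 0x0)))))) (.node 8 (.node 4 (.node 2 (.node 1 (.leaf 0x0) (.leaf 0x0)) (.node 1 (.leaf 0x0) (.leaf 0x0))) (.node 2 (.node 1 (.leaf 0x0) (.leaf 0x0)) (.node 1 (.leaf 0x0) (.leaf 0x0)))) (.node 4 (.node 2 (.node 1 (.leaf 0x0) (.leaf 0x0)) (.node 1 (.leaf 0x0) (.leaf 0x0))) (.node 2 (.node 1 (.leaf 0x0) (.leaf 0x0)) (.node 1 (.leaf 0x0) (.node 1 (.leaf 0x0) (.leaf 0x0)))))))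

def moves4 : Tree :=
  .node 640 (.node 256 (.node 128 (moves4_0) (moves4_1)) (.node 128 (moves4_2) (.node 128 (moves4_3) (moves4_4)))) (.node 384 (.node 128 (moves4_5) (.node 128 (moves4_6) (moves4_7))) (.node 128 (moves4_8) (.node 128 (moves4_9) (moves4_10))))

def reps4 : List (List (List ℕ)) := [[[4], [0], [1], [2], [5]], [[4], [0], [1], [2], [4]], [[4], [0], [1], [2], [3, 6, 4, 3, 4, 3, 4, 6, 3]], [[4], [3, 4, 2, 3, 2, 3, 1, 2, 3, 5, 4, 3, 2, 1, 0, 1, 2, 3, 4, 5, 3, 2, 1, 3, 2, 3, 2, 4, 3], [3, 4, 2, 3, 2, 3, 1, 2, 3, 6, 4, 3, 2, 1, 0, 1, 2, 3, 4, 6, 3, 2, 1, 3, 2, 3, 2, 4, 3], [3, 5, 2, 3, 2, 3, 1, 2, 3, 5, 6, 3, 2, 1, 0, 1, 2, 3, 6, 5, 3, 2, 1, 3, 2, 3, 2, 5, 3], [4]], [[4], [3, 4, 2, 3, 2, 3, 1, 2, 3, 5, 4, 3, 2, 1, 0, 1, 2, 3, 4, 5, 3, 2, 1, 3, 2, 3, 2, 4, 3], [3, 4, 2, 3, 2, 3, 1, 2, 3, 6, 4, 3, 2, 1, 0, 1, 2, 3, 4, 6, 3, 2, 1, 3, 2, 3, 2, 4, 3], [3, 5, 2, 3, 2, 3, 1, 2, 3, 5, 6, 3, 2, 1, 0, 1, 2, 3, 6, 5, 3, 2, 1, 3, 2,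 3, 2, 5, 3], [1, 2, 3, 6, 4, 3, 2, 3, 1, 2, 3, 6, 2, 3, 4, 3, 2, 6, 3, 2, 1, 3, 2, 3, 4, 6, 3, 2, 1]], [[4], [3, 4, 2, 3, 2, 3, 1, 2, 3, 5, 4, 3, 2, 1, 0, 1, 2, 3, 4, 5, 3, 2, 1, 3, 2, 3, 2, 4, 3], [3, 4, 2, 3, 2, 3, 1, 2, 3, 6, 4, 3, 2, 1, 0, 1, 2, 3, 4, 6, 3, 2, 1, 3, 2, 3, 2, 4, 3], [3, 5, 2, 3, 2, 3, 1, 2, 3, 5, 6, 3, 2, 1, 0, 1, 2, 3, 6, 5, 3, 2, 1, 3, 2, 3, 2, 5, 3], [1, 2, 3, 6, 4, 3, 2, 3, 0, 1, 2, 3, 6, 2, 3, 4, 3, 2, 6, 3, 2, 1, 0, 3, 2, 3, 4, 6, 3, 2, 1]], [[4], [3, 4, 2, 3, 2, 3, 1, 2, 3, 5, 4, 3, 2, 1, 0, 1, 2, 3, 4, 5, 3, 2, 1, 3, 2, 3, 2, 4, 3], [3, 4, 1, 2, 3, 2, 3, 1, 2, 3, 6, 4, 3, 2, 1, 0, 1, 2, 3, 4, 6, 3, 2, 1, 3, 2, 3, 2, 1, 4, 3], [2], [4]], [[4], [3, 4, 2, 3, 2, 3, 1, 2, 3, 5, 4, 3, 2, 1, 0, 1, 2, 3, 4, 5, 3, 2, 1, 3, 2, 3, 2, 4, 3], [3, 4, 1, 2, 3, 2, 3, 1, 2, 3, 6, 4, 3, 2, 1, 0, 1, 2, 3, 4, 6, 3, 2, 1, 3, 2, 3, 2, 1, 4, 3], [2], [3, 2, 3, 5, 3, 4, 2, 3, 4, 3, 2, 4, 3, 5, 3, 2, 3]], [[4], [3, 4, 2, 3, 2, 3,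 1, 2, 3, 5, 4, 3, 2, 1, 0, 1, 2, 3, 4, 5, 3, 2, 1, 3, 2, 3, 2, 4, 3], [3, 4, 1, 2, 3, 2, 3, 1, 2, 3, 6, 4, 3, 2, 1, 0, 1, 2, 3, 4, 6, 3, 2, 1, 3, 2, 3, 2, 1, 4, 3], [2], [3, 4, 2, 3, 5, 3, 2, 3, 4, 3, 2, 3, 5, 3, 2, 4, 3]]]

def level4 : Level := ⟨candsB, [[4, 1, 4, 1], [4, 2, 4, 2], [4, 3, 4, 3]], [[4, 1], [4, 2], [4, 3]], reps4, moves4⟩

def moves5_0 : Tree :=
  .node 64 (.node 32 (.node 16 (.node 8 (.node 4 (.node 2 (.node 1 (.leaf 0x0) (.leaf 0x0)) (.node 1 (.leaf 0x0) (.leaf 0x0))) (.node 2 (.node 1 (.leaf 0x0) (.leaf 0x0)) (.node 1 (.leaf 0x0) (.leaf 0x0)))) (.node 4 (.node 2 (.node 1 (.leaf 0x0) (.leaf 0x0)) (.node 1 (.leaf 0x0) (.leaf 0x0))) (.node 2 (.node 1 (.leaf 0x0) (.leaf 0x0)) (.node 1 (.leaf 0x0) (.leaf 0x180))))) (.node 8 (.node 4 (.node 2 (.node 1 (.leaf 0x0) (.leaf 0x0)) (.node 1 (.leaf 0x0) (.leaf 0x0))) (.node 2 (.node 1 (.leaf 0x0) (.leaf 0x0)) (.node 1 (.leaf 0x0) (.leaf 0x0)))) (.node 4 (.node 2 (.node 1 (.leaf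 0x0) (.leaf 0x0)) (.node 1 (.leaf 0x0) (.leaf 0x0))) (.node 2 (.node 1 (.leaf 0x0) (.leaf 0x0)) (.node 1 (.leaf 0x0) (.leaf 0x0)))))) (.node 16 (.node 8 (.node 4 (.node 2 (.node 1 (.leaf 0x0) (.leaf 0x0)) (.node 1 (.leaf 0x0) (.leaf 0x0))) (.node 2 (.node 1 (.leaf 0x0) (.leaf 0x0)) (.node 1 (.leaf 0x0) (.leaf 0x0)))) (.node 4 (.node 2 (.node 1 (.leaf 0x0) (.leaf 0x0)) (.node 1 (.leaf 0x0) (.leaf 0x0))) (.node 2 (.node 1 (.leaf 0x0) (.leaf 0x0)) (.node 1 (.leaf 0x0) (.leaf 0x0))))) (.node 8 (.node 4 (.node 2 (.node 1 (.leaf 0x0) (.leaf 0x0)) (.node 1 (.leaf 0x0) (.leaf 0x0))) (.node 2 (.node 1 (.leaf 0x0) (.leaf 0x0)) (.node 1 (.leaf 0x0) (.leaf 0x0)))) (.node 4 (.node 2 (.node 1 (.leaf 0x0) (.leaf 0x0)) (.node 1 (.leaf 0x0) (.leaf 0x0))) (.node 2 (.node 1 (.leaf 0x0) (.leaf 0x0)) (.node 1 (.leaf 0x0) (.leaf 0x0))))))) (.node 32 (.node 16 (.node 8 (.node 4 (.node 2 (.node 1 (.leaf 0x0) (.leaf 0x0)) (.node 1 (.leaf 0x0) (.leaf 0x0)))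 (.node 2 (.node 1 (.leaf 0x0) (.leaf 0x0)) (.node 1 (.leaf 0x0) (.leaf 0x0)))) (.node 4 (.node 2 (.node 1 (.leaf 0x0) (.leaf 0x0)) (.node 1 (.leaf 0x0) (.leaf 0x0))) (.node 2 (.node 1 (.leaf 0x0) (.leaf 0x0)) (.node 1 (.leaf 0x0) (.leaf 0x0))))) (.node 8 (.node 4 (.node 2 (.node 1 (.leaf 0x0) (.leaf 0x0)) (.node 1 (.leaf 0x0) (.leaf 0x0))) (.node 2 (.node 1 (.leaf 0x0) (.leaf 0x0)) (.node 1 (.leaf 0x0) (.leaf 0x0)))) (.node 4 (.node 2 (.node 1 (.leaf 0x0) (.leaf 0x0)) (.node 1 (.leaf 0x0) (.leaf 0x0))) (.node 2 (.node 1 (.leaf 0x0) (.leaf 0x0)) (.node 1 (.leaf 0x0) (.leaf 0x0)))))) (.node 16 (.node 8 (.node 4 (.node 2 (.node 1 (.leaf 0x0) (.leaf 0x0)) (.node 1 (.leaf 0x0) (.leaf 0x0))) (.node 2 (.node 1 (.leaf 0x0) (.leaf 0x0)) (.node 1 (.leaf 0x0) (.leaf 0x0)))) (.node 4 (.node 2 (.node 1 (.leaf 0x0) (.leaf 0x0)) (.node 1 (.leaf 0x0) (.leaf 0x0))) (.node 2 (.node 1 (.leaf 0x0) (.leaf 0x0)) (.node 1 (.leaf 0x0) (.leaf 0x0))))) (.node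 8 (.node 4 (.node 2 (.node 1 (.leaf 0x0) (.leaf 0x0)) (.node 1 (.leaf 0x0) (.leaf 0x0))) (.node 2 (.node 1 (.leaf 0x0) (.leaf 0x0)) (.node 1 (.leaf 0x0) (.leaf 0x0)))) (.node 4 (.node 2 (.node 1 (.leaf 0x0) (.leaf 0x0)) (.node 1 (.leaf 0x0) (.leaf 0x0))) (.node 2 (.node 1 (.leaf 0x0) (.leaf 0x0)) (.node 1 (.leaf 0x0) (.leaf 0x0)))))))

def moves5_1 : Tree :=
  .node 64 (.node 32 (.node 16 (.node 8 (.node 4 (.node 2 (.node 1 (.leaf 0x0) (.leaf 0x0)) (.node 1 (.leaf 0x0) (.leaf 0x0))) (.node 2 (.node 1 (.leaf 0x0) (.leaf 0x0)) (.node 1 (.leaf 0x0) (.leaf 0x0)))) (.node 4 (.node 2 (.node 1 (.leaf 0x0) (.leaf 0x0)) (.node 1 (.leaf 0x0) (.leaf 0x0))) (.node 2 (.node 1 (.leaf 0x0) (.leaf 0x0)) (.node 1 (.leaf 0x0) (.leaf 0x0))))) (.node 8 (.node 4 (.node 2 (.node 1 (.leaf 0x0) (.leaf 0x0)) (.node 1 (.leaf 0x0) (.leaf 0x0))) (.node 2 (.node 1 (.leaf 0x0) (.leaf 0x0)) (.node 1 (.leaf 0x0) (.leaf 0x0)))) (.node 4 (.node 2 (.node 1 (.leaf 0x0)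 (.leaf 0x0)) (.node 1 (.leaf 0x0) (.leaf 0x0))) (.node 2 (.node 1 (.leaf 0x0) (.leaf 0x0)) (.node 1 (.leaf 0x0) (.leaf 0x0)))))) (.node 16 (.node 8 (.node 4 (.node 2 (.node 1 (.leaf 0x0) (.leaf 0x0)) (.node 1 (.leaf 0x0) (.leaf 0x0))) (.node 2 (.node 1 (.leaf 0x0) (.leaf 0x0)) (.node 1 (.leaf 0x0) (.leaf 0x0)))) (.node 4 (.node 2 (.node 1 (.leaf 0x0) (.leaf 0x0)) (.node 1 (.leaf 0x0) (.leaf 0x0))) (.node 2 (.node 1 (.leaf 0x0) (.leaf 0x0)) (.node 1 (.leaf 0x0) (.leaf 0x0))))) (.node 8 (.node 4 (.node 2 (.node 1 (.leaf 0x0) (.leaf 0x0)) (.node 1 (.leaf 0x0) (.leaf 0x0))) (.node 2 (.node 1 (.leaf 0x0) (.leaf 0x0)) (.node 1 (.leaf 0x0) (.leaf 0x0)))) (.node 4 (.node 2 (.node 1 (.leaf 0x0) (.leaf 0x0)) (.node 1 (.leaf 0x0) (.leaf 0x0))) (.node 2 (.node 1 (.leaf 0x0) (.leaf 0x0)) (.node 1 (.leaf 0x0) (.leaf 0x0))))))) (.node 32 (.node 16 (.node 8 (.node 4 (.node 2 (.node 1 (.leaf 0x0) (.leaf 0x0)) (.node 1 (.leaf 0x0) (.leaf 0x0))) (.node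 2 (.node 1 (.leaf 0x0) (.leaf 0x0)) (.node 1 (.leaf 0x0) (.leaf 0x0)))) (.node 4 (.node 2 (.node 1 (.leaf 0x0) (.leaf 0x0)) (.node 1 (.leaf 0x0) (.leaf 0x0))) (.node 2 (.node 1 (.leaf 0x0) (.leaf 0x0)) (.node 1 (.leaf 0x0) (.leaf 0x0))))) (.node 8 (.node 4 (.node 2 (.node 1 (.leaf 0x0) (.leaf 0x0)) (.node 1 (.leaf 0x0) (.leaf 0x0))) (.node 2 (.node 1 (.leaf 0x0) (.leaf 0x0)) (.node 1 (.leaf 0x0) (.leaf 0x0)))) (.node 4 (.node 2 (.node 1 (.leaf 0x0) (.leaf 0x0)) (.node 1 (.leaf 0x0) (.leaf 0x0))) (.node 2 (.node 1 (.leaf 0x0) (.leaf 0x0)) (.node 1 (.leaf 0x0) (.leaf 0x0)))))) (.node 16 (.node 8 (.node 4 (.node 2 (.node 1 (.leaf 0x0) (.leaf 0x0)) (.node 1 (.leaf 0x0) (.leaf 0x0))) (.node 2 (.node 1 (.leaf 0x0) (.leaf 0x0)) (.node 1 (.leaf 0x0) (.leaf 0x0)))) (.node 4 (.node 2 (.node 1 (.leaf 0x0) (.leaf 0x0)) (.node 1 (.leaf 0x0) (.leaf 0x0))) (.node 2 (.node 1 (.leaf 0x0) (.leaf 0x0)) (.node 1 (.leaf 0x0) (.leaf 0x0))))) (.node 8 (.node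 4 (.node 2 (.node 1 (.leaf 0x0) (.leaf 0x0)) (.node 1 (.leaf 0x0) (.leaf 0x0))) (.node 2 (.node 1 (.leaf 0x0) (.leaf 0x0)) (.node 1 (.leaf 0x0) (.leaf 0x0)))) (.node 4 (.node 2 (.node 1 (.leaf 0x0) (.leaf 0x0)) (.node 1 (.leaf 0x0) (.leaf 0x0))) (.node 2 (.node 1 (.leaf 0x0) (.leaf 0x0)) (.node 1 (.leaf 0x0) (.leaf 0x0)))))))

def moves5_2 : Tree :=
  .node 64 (.node 32 (.node 16 (.node 8 (.node 4 (.node 2 (.node 1 (.leaf 0x0) (.leaf 0x0)) (.node 1 (.leaf 0x0) (.leaf 0x0))) (.node 2 (.node 1 (.leaf 0x0) (.leaf 0x0)) (.node 1 (.leaf 0x0) (.leaf 0x0)))) (.node 4 (.node 2 (.node 1 (.leaf 0x0) (.leaf 0x0)) (.node 1 (.leaf 0x0) (.leaf 0x0))) (.node 2 (.node 1 (.leaf 0x0) (.leaf 0x0)) (.node 1 (.leaf 0x0) (.leaf 0x0))))) (.node 8 (.node 4 (.node 2 (.node 1 (.leaf 0x0) (.leaf 0x0)) (.node 1 (.leaf 0x0) (.leaf 0x0))) (.node 2 (.node 1 (.leaf 0x0) (.leaf 0x0)) (.node 1 (.leaf 0x0) (.leaf 0x0)))) (.node 4 (.node 2 (.node 1 (.leaf 0x0) (.leaf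 0x0)) (.node 1 (.leaf 0x0) (.leaf 0x0))) (.node 2 (.node 1 (.leaf 0x0) (.leaf 0x0)) (.node 1 (.leaf 0x0) (.leaf 0x0)))))) (.node 16 (.node 8 (.node 4 (.node 2 (.node 1 (.leaf 0x0) (.leaf 0x0)) (.node 1 (.leaf 0x0) (.leaf 0x0))) (.node 2 (.node 1 (.leaf 0x0) (.leaf 0x0)) (.node 1 (.leaf 0x0) (.leaf 0x0)))) (.node 4 (.node 2 (.node 1 (.leaf 0x0) (.leaf 0x0)) (.node 1 (.leaf 0x0) (.leaf 0x0))) (.node 2 (.node 1 (.leaf 0x0) (.leaf 0x0)) (.node 1 (.leaf 0x0) (.leaf 0x0))))) (.node 8 (.node 4 (.node 2 (.node 1 (.leaf 0x0) (.leaf 0x0)) (.node 1 (.leaf 0x0) (.leaf 0x0))) (.node 2 (.node 1 (.leaf 0x0) (.leaf 0x0)) (.node 1 (.leaf 0x0) (.leaf 0x0)))) (.node 4 (.node 2 (.node 1 (.leaf 0x0) (.leaf 0x0)) (.node 1 (.leaf 0x0) (.leaf 0x0))) (.node 2 (.node 1 (.leaf 0x0) (.leaf 0x0)) (.node 1 (.leaf 0x0) (.leaf 0x0))))))) (.node 32 (.node 16 (.node 8 (.node 4 (.node 2 (.node 1 (.leaf 0x0) (.leaf 0x0)) (.node 1 (.leaf 0x0) (.leaf 0x0))) (.node 2 (.node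 1 (.leaf 0x0) (.leaf 0x0)) (.node 1 (.leaf 0x0) (.leaf 0x0)))) (.node 4 (.node 2 (.node 1 (.leaf 0x0) (.leaf 0x0)) (.node 1 (.leaf 0x0) (.leaf 0x0))) (.node 2 (.node 1 (.leaf 0x0) (.leaf 0x0)) (.node 1 (.leaf 0x0) (.leaf 0x0))))) (.node 8 (.node 4 (.node 2 (.node 1 (.leaf 0x0) (.leaf 0x0)) (.node 1 (.leaf 0x0) (.leaf 0x0))) (.node 2 (.node 1 (.leaf 0x0) (.leaf 0x0)) (.node 1 (.leaf 0x0) (.leaf 0x0)))) (.node 4 (.node 2 (.node 1 (.leaf 0x0) (.leaf 0x0)) (.node 1 (.leaf 0x0) (.leaf 0x0))) (.node 2 (.node 1 (.leaf 0x0) (.leaf 0x0)) (.node 1 (.leaf 0x0) (.leaf 0x0)))))) (.node 16 (.node 8 (.node 4 (.node 2 (.node 1 (.leaf 0x0) (.leaf 0x0)) (.node 1 (.leaf 0x0) (.leaf 0x0))) (.node 2 (.node 1 (.leaf 0x0) (.leaf 0x0)) (.node 1 (.leaf 0x0) (.leaf 0x0)))) (.node 4 (.node 2 (.node 1 (.leaf 0x0) (.leaf 0x0)) (.node 1 (.leaf 0x0) (.leaf 0x0))) (.node 2 (.node 1 (.leaf 0x0) (.leaf 0x0)) (.node 1 (.leaf 0x0) (.leaf 0x0))))) (.node 8 (.node 4 (.node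 2 (.node 1 (.leaf 0x0) (.leaf 0x0)) (.node 1 (.leaf 0x0) (.leaf 0x0))) (.node 2 (.node 1 (.leaf 0x0) (.leaf 0x0)) (.node 1 (.leaf 0x0) (.leaf 0x0)))) (.node 4 (.node 2 (.node 1 (.leaf 0x0) (.leaf 0x0)) (.node 1 (.leaf 0x0) (.leaf 0x0))) (.node 2 (.node 1 (.leaf 0x0) (.leaf 0x0)) (.node 1 (.leaf 0x0) (.leaf 0x0)))))))

def moves5_3 : Tree :=
  .node 64 (.node 32 (.node 16 (.node 8 (.node 4 (.node 2 (.node 1 (.leaf 0x0) (.leaf 0x0)) (.node 1 (.leaf 0x0) (.leaf 0x0))) (.node 2 (.node 1 (.leaf 0x0) (.leaf 0x0)) (.node 1 (.leaf 0x0) (.leaf 0x0)))) (.node 4 (.node 2 (.node 1 (.leaf 0x0) (.leaf 0x0)) (.node 1 (.leaf 0x0) (.leaf 0x0))) (.node 2 (.node 1 (.leaf 0x0) (.leaf 0x0)) (.node 1 (.leaf 0x0) (.leaf 0x0))))) (.node 8 (.node 4 (.node 2 (.node 1 (.leaf 0x0) (.leaf 0x0)) (.node 1 (.leaf 0x0) (.leaf 0x0))) (.node 2 (.node 1 (.leaf 0x0) (.leaf 0x0)) (.node 1 (.leaf 0x0) (.leaf 0x0)))) (.node 4 (.node 2 (.node 1 (.leaf 0x0) (.leaf 0x0)) (.node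 1 (.leaf 0x0) (.leaf 0x0))) (.node 2 (.node 1 (.leaf 0x0) (.leaf 0x0)) (.node 1 (.leaf 0x0) (.leaf 0x0)))))) (.node 16 (.node 8 (.node 4 (.node 2 (.node 1 (.leaf 0x0) (.leaf 0x0)) (.node 1 (.leaf 0x0) (.leaf 0x0))) (.node 2 (.node 1 (.leaf 0x0) (.leaf 0x0)) (.node 1 (.leaf 0x0) (.leaf 0x0)))) (.node 4 (.node 2 (.node 1 (.leaf 0x0) (.leaf 0x0)) (.node 1 (.leaf 0x0) (.leaf 0x0))) (.node 2 (.node 1 (.leaf 0x0) (.leaf 0x0)) (.node 1 (.leaf 0x0) (.leaf 0x0))))) (.node 8 (.node 4 (.node 2 (.node 1 (.leaf 0x0) (.leaf 0x0)) (.node 1 (.leaf 0x0) (.leaf 0x0))) (.node 2 (.node 1 (.leaf 0x0) (.leaf 0x0)) (.node 1 (.leaf 0x0) (.leaf 0x0)))) (.node 4 (.node 2 (.node 1 (.leaf 0x0) (.leaf 0x0)) (.node 1 (.leaf 0x0) (.leaf 0x0))) (.node 2 (.node 1 (.leaf 0x0) (.leaf 0x0)) (.node 1 (.leaf 0x0) (.leaf 0x0))))))) (.node 32 (.node 16 (.node 8 (.node 4 (.node 2 (.node 1 (.leaf 0x0) (.leaf 0x0)) (.node 1 (.leaf 0x0) (.leaf 0x0))) (.node 2 (.node 1 (.leaf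 0x0) (.leaf 0x0)) (.node 1 (.leaf 0x0) (.leaf 0x0)))) (.node 4 (.node 2 (.node 1 (.leaf 0x0) (.leaf 0x0)) (.node 1 (.leaf 0x0) (.leaf 0x0))) (.node 2 (.node 1 (.leaf 0x0) (.leaf 0x0)) (.node 1 (.leaf 0x0) (.leaf 0x0))))) (.node 8 (.node 4 (.node 2 (.node 1 (.leaf 0x0) (.leaf 0x0)) (.node 1 (.leaf 0x0) (.leaf 0x0))) (.node 2 (.node 1 (.leaf 0x0) (.leaf 0x0)) (.node 1 (.leaf 0x0) (.leaf 0x0)))) (.node 4 (.node 2 (.node 1 (.leaf 0x0) (.leaf 0x0)) (.node 1 (.leaf 0x0) (.leaf 0x0))) (.node 2 (.node 1 (.leaf 0x0) (.leaf 0x0)) (.node 1 (.leaf 0x0) (.leaf 0x0)))))) (.node 16 (.node 8 (.node 4 (.node 2 (.node 1 (.leaf 0x0) (.leaf 0x0)) (.node 1 (.leaf 0x0) (.leaf 0x0))) (.node 2 (.node 1 (.leaf 0x0) (.leaf 0x0)) (.node 1 (.leaf 0x0) (.leaf 0x0)))) (.node 4 (.node 2 (.node 1 (.leaf 0x0) (.leaf 0x0)) (.node 1 (.leaf 0x0) (.leaf 0x0))) (.node 2 (.node 1 (.leaf 0x0) (.leaf 0x0)) (.node 1 (.leaf 0x0) (.leaf 0x0))))) (.node 8 (.node 4 (.node 2 (.node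 1 (.leaf 0x0) (.leaf 0x0)) (.node 1 (.leaf 0x0) (.leaf 0x0))) (.node 2 (.node 1 (.leaf 0x0) (.leaf 0x0)) (.node 1 (.leaf 0x0) (.leaf 0x0)))) (.node 4 (.node 2 (.node 1 (.leaf 0x0) (.leaf 0x0)) (.node 1 (.leaf 0x0) (.leaf 0x0))) (.node 2 (.node 1 (.leaf 0x0) (.leaf 0x0)) (.node 1 (.leaf 0x0) (.leaf 0x0)))))))

def moves5_4 : Tree :=
  .node 64 (.node 32 (.node 16 (.node 8 (.node 4 (.node 2 (.node 1 (.leaf 0x0) (.leaf 0x0)) (.node 1 (.leaf 0x0) (.leaf 0x0))) (.node 2 (.node 1 (.leaf 0x0) (.leaf 0x0)) (.node 1 (.leaf 0x0) (.leaf 0x0)))) (.node 4 (.node 2 (.node 1 (.leaf 0x0) (.leaf 0x0)) (.node 1 (.leaf 0x0) (.leaf 0x0))) (.node 2 (.node 1 (.leaf 0x0) (.leaf 0x0)) (.node 1 (.leaf 0x0) (.leaf 0x0))))) (.node 8 (.node 4 (.node 2 (.node 1 (.leaf 0x0) (.leaf 0x0)) (.node 1 (.leaf 0x0) (.leaf 0x0))) (.node 2 (.node 1 (.leaf 0x0) (.leaf 0x0)) (.node 1 (.leaf 0x0) (.leaf 0x0)))) (.node 4 (.node 2 (.node 1 (.leaf 0x0) (.leaf 0x0)) (.node 1 (.leaf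 0x0) (.leaf 0x0))) (.node 2 (.node 1 (.leaf 0x0) (.leaf 0x0)) (.node 1 (.leaf 0x0) (.leaf 0x0)))))) (.node 16 (.node 8 (.node 4 (.node 2 (.node 1 (.leaf 0x0) (.leaf 0x0)) (.node 1 (.leaf 0x0) (.leaf 0x0))) (.node 2 (.node 1 (.leaf 0x0) (.leaf 0x0)) (.node 1 (.leaf 0x0) (.leaf 0x0)))) (.node 4 (.node 2 (.node 1 (.leaf 0x0) (.leaf 0x0)) (.node 1 (.leaf 0x0) (.leaf 0x0))) (.node 2 (.node 1 (.leaf 0x0) (.leaf 0x0)) (.node 1 (.leaf 0x0) (.leaf 0x0))))) (.node 8 (.node 4 (.node 2 (.node 1 (.leaf 0x0) (.leaf 0x0)) (.node 1 (.leaf 0x0) (.leaf 0x0))) (.node 2 (.node 1 (.leaf 0x0) (.leaf 0x0)) (.node 1 (.leaf 0x0) (.leaf 0x0)))) (.node 4 (.node 2 (.node 1 (.leaf 0x0) (.leaf 0x0)) (.node 1 (.leaf 0x0) (.leaf 0x0))) (.node 2 (.node 1 (.leaf 0x0) (.leaf 0x0)) (.node 1 (.leaf 0x0) (.leaf 0x0))))))) (.node 32 (.node 16 (.node 8 (.node 4 (.node 2 (.node 1 (.leaf 0x0) (.leaf 0x0)) (.node 1 (.leaf 0x0) (.leaf 0x0))) (.node 2 (.node 1 (.leaf 0x0) (.leaf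 0x0)) (.node 1 (.leaf 0x0) (.leaf 0x0)))) (.node 4 (.node 2 (.node 1 (.leaf 0x0) (.leaf 0x0)) (.node 1 (.leaf 0x0) (.leaf 0x0))) (.node 2 (.node 1 (.leaf 0x0) (.leaf 0x0)) (.node 1 (.leaf 0x0) (.leaf 0x0))))) (.node 8 (.node 4 (.node 2 (.node 1 (.leaf 0x0) (.leaf 0x0)) (.node 1 (.leaf 0x0) (.leaf 0x0))) (.node 2 (.node 1 (.leaf 0x0) (.leaf 0x0)) (.node 1 (.leaf 0x0) (.leaf 0x0)))) (.node 4 (.node 2 (.node 1 (.leaf 0x0) (.leaf 0x0)) (.node 1 (.leaf 0x0) (.leaf 0x0))) (.node 2 (.node 1 (.leaf 0x0) (.leaf 0x0)) (.node 1 (.leaf 0x0) (.leaf 0x0)))))) (.node 16 (.node 8 (.node 4 (.node 2 (.node 1 (.leaf 0x0) (.leaf 0x0)) (.node 1 (.leaf 0x0) (.leaf 0x0))) (.node 2 (.node 1 (.leaf 0x0) (.leaf 0x0)) (.node 1 (.leaf 0x0) (.leaf 0x0)))) (.node 4 (.node 2 (.node 1 (.leaf 0x0) (.leaf 0x0)) (.node 1 (.leaf 0x0) (.leaf 0x0))) (.node 2 (.node 1 (.leaf 0x0) (.leaf 0x0)) (.node 1 (.leaf 0x0) (.leaf 0x0))))) (.node 8 (.node 4 (.node 2 (.node 1 (.leaf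 0x0) (.leaf 0x0)) (.node 1 (.leaf 0x0) (.leaf 0x0))) (.node 2 (.node 1 (.leaf 0x0) (.leaf 0x0)) (.node 1 (.leaf 0x0) (.leaf 0x0)))) (.node 4 (.node 2 (.node 1 (.leaf 0x0) (.leaf 0x0)) (.node 1 (.leaf 0x0) (.leaf 0x0))) (.node 2 (.node 1 (.leaf 0x0) (.leaf 0x0)) (.node 1 (.leaf 0x0) (.leaf 0x0)))))))

def moves5_5 : Tree :=
  .node 64 (.node 32 (.node 16 (.node 8 (.node 4 (.node 2 (.node 1 (.leaf 0x0) (.leaf 0x0)) (.node 1 (.leaf 0x0) (.leaf 0x0))) (.node 2 (.node 1 (.leaf 0x0) (.leaf 0x0)) (.node 1 (.leaf 0x0) (.leaf 0x0)))) (.node 4 (.node 2 (.node 1 (.leaf 0x0) (.leaf 0x0)) (.node 1 (.leaf 0x0) (.leaf 0x0))) (.node 2 (.node 1 (.leaf 0x0) (.leaf 0x0)) (.node 1 (.leaf 0x0) (.leaf 0x0))))) (.node 8 (.node 4 (.node 2 (.node 1 (.leaf 0x0) (.leaf 0x0)) (.node 1 (.leaf 0x0) (.leaf 0x0))) (.node 2 (.node 1 (.leaf 0x0) (.leaf 0x0)) (.node 1 (.leaf 0x0) (.leaf 0x0)))) (.node 4 (.node 2 (.node 1 (.leaf 0x0) (.leaf 0x0)) (.node 1 (.leaf 0x0)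 (.leaf 0x0))) (.node 2 (.node 1 (.leaf 0x0) (.leaf 0x0)) (.node 1 (.leaf 0x0) (.leaf 0x0)))))) (.node 16 (.node 8 (.node 4 (.node 2 (.node 1 (.leaf 0x0) (.leaf 0x0)) (.node 1 (.leaf 0x0) (.leaf 0x0))) (.node 2 (.node 1 (.leaf 0x0) (.leaf 0x0)) (.node 1 (.leaf 0x0) (.leaf 0x0)))) (.node 4 (.node 2 (.node 1 (.leaf 0x0) (.leaf 0x0)) (.node 1 (.leaf 0x0) (.leaf 0x0))) (.node 2 (.node 1 (.leaf 0x0) (.leaf 0x0)) (.node 1 (.leaf 0x0) (.leaf 0x0))))) (.node 8 (.node 4 (.node 2 (.node 1 (.leaf 0x0) (.leaf 0x0)) (.node 1 (.leaf 0x0) (.leaf 0x0))) (.node 2 (.node 1 (.leaf 0x0) (.leaf 0x0)) (.node 1 (.leaf 0x0) (.leaf 0x0)))) (.node 4 (.node 2 (.node 1 (.leaf 0x0) (.leaf 0x0)) (.node 1 (.leaf 0x0) (.leaf 0x0))) (.node 2 (.node 1 (.leaf 0x0) (.leaf 0x0)) (.node 1 (.leaf 0x0) (.leaf 0x0))))))) (.node 32 (.node 16 (.node 8 (.node 4 (.node 2 (.node 1 (.leaf 0x0) (.leaf 0x0)) (.node 1 (.leaf 0x0) (.leaf 0x0))) (.node 2 (.node 1 (.leaf 0x0) (.leaf 0x0))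 (.node 1 (.leaf 0x0) (.leaf 0x0)))) (.node 4 (.node 2 (.node 1 (.leaf 0x0) (.leaf 0x0)) (.node 1 (.leaf 0x0) (.leaf 0x0))) (.node 2 (.node 1 (.leaf 0x0) (.leaf 0x0)) (.node 1 (.leaf 0x0) (.leaf 0x0))))) (.node 8 (.node 4 (.node 2 (.node 1 (.leaf 0x0) (.leaf 0x0)) (.node 1 (.leaf 0x0) (.leaf 0x0))) (.node 2 (.node 1 (.leaf 0x0) (.leaf 0x0)) (.node 1 (.leaf 0x0) (.leaf 0x0)))) (.node 4 (.node 2 (.node 1 (.leaf 0x0) (.leaf 0x0)) (.node 1 (.leaf 0x0) (.leaf 0x0))) (.node 2 (.node 1 (.leaf 0x0) (.leaf 0x0)) (.node 1 (.leaf 0x0) (.leaf 0x0)))))) (.node 16 (.node 8 (.node 4 (.node 2 (.node 1 (.leaf 0x0) (.leaf 0x0)) (.node 1 (.leaf 0x0) (.leaf 0x0))) (.node 2 (.node 1 (.leaf 0x0) (.leaf 0x0)) (.node 1 (.leaf 0x0) (.leaf 0x0)))) (.node 4 (.node 2 (.node 1 (.leaf 0x0) (.leaf 0x0)) (.node 1 (.leaf 0x0) (.leaf 0x0))) (.node 2 (.node 1 (.leaf 0x0) (.leaf 0x0)) (.node 1 (.leaf 0x0) (.leaf 0x0))))) (.node 8 (.node 4 (.node 2 (.node 1 (.leaf 0x0)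 (.leaf 0x0)) (.node 1 (.leaf 0x0) (.leaf 0x0))) (.node 2 (.node 1 (.leaf 0x0) (.leaf 0x0)) (.node 1 (.leaf 0x0) (.leaf 0x0)))) (.node 4 (.node 2 (.node 1 (.leaf 0x0) (.leaf 0x0)) (.node 1 (.leaf 0x0) (.leaf 0x0))) (.node 2 (.node 1 (.leaf 0x0) (.leaf 0x0)) (.node 1 (.leaf 0x0) (.leaf 0x0)))))))

def moves5_6 : Tree :=
  .node 64 (.node 32 (.node 16 (.node 8 (.node 4 (.node 2 (.node 1 (.leaf 0x0) (.leaf 0x0)) (.node 1 (.leaf 0x0) (.leaf 0x0))) (.node 2 (.node 1 (.leaf 0x0) (.leaf 0x0)) (.node 1 (.leaf 0x0) (.leaf 0x0)))) (.node 4 (.node 2 (.node 1 (.leaf 0x0) (.leaf 0x0)) (.node 1 (.leaf 0x0) (.leaf 0x0))) (.node 2 (.node 1 (.leaf 0x0) (.leaf 0x0)) (.node 1 (.leaf 0x0) (.leaf 0x0))))) (.node 8 (.node 4 (.node 2 (.node 1 (.leaf 0x0) (.leaf 0x0)) (.node 1 (.leaf 0x0) (.leaf 0x0))) (.node 2 (.node 1 (.leaf 0x0) (.leaf 0x0)) (.node 1 (.leaf 0x0) (.leaf 0x0)))) (.node 4 (.node 2 (.node 1 (.leaf 0x0) (.leaf 0x0)) (.node 1 (.leaf 0x0) (.leaf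 0x0))) (.node 2 (.node 1 (.leaf 0x0) (.leaf 0x0)) (.node 1 (.leaf 0x0) (.leaf 0x0)))))) (.node 16 (.node 8 (.node 4 (.node 2 (.node 1 (.leaf 0x0) (.leaf 0x0)) (.node 1 (.leaf 0x0) (.leaf 0x0))) (.node 2 (.node 1 (.leaf 0x0) (.leaf 0x0)) (.node 1 (.leaf 0x0) (.leaf 0x0)))) (.node 4 (.node 2 (.node 1 (.leaf 0x0) (.leaf 0x0)) (.node 1 (.leaf 0x0) (.leaf 0x0))) (.node 2 (.node 1 (.leaf 0x0) (.leaf 0x0)) (.node 1 (.leaf 0x0) (.leaf 0x0))))) (.node 8 (.node 4 (.node 2 (.node 1 (.leaf 0x0) (.leaf 0x0)) (.node 1 (.leaf 0x0) (.leaf 0x0))) (.node 2 (.node 1 (.leaf 0x0) (.leaf 0x0)) (.node 1 (.leaf 0x0) (.leaf 0x0)))) (.node 4 (.node 2 (.node 1 (.leaf 0x0) (.leaf 0x0)) (.node 1 (.leaf 0x0) (.leaf 0x0))) (.node 2 (.node 1 (.leaf 0x0) (.leaf 0x0)) (.node 1 (.leaf 0x0) (.leaf 0x0))))))) (.node 32 (.node 16 (.node 8 (.node 4 (.node 2 (.node 1 (.leaf 0x0) (.leaf 0x0)) (.node 1 (.leaf 0x0) (.leaf 0x0))) (.node 2 (.node 1 (.leaf 0x0) (.leaf 0x0)) (.node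 1 (.leaf 0x0) (.leaf 0x0)))) (.node 4 (.node 2 (.node 1 (.leaf 0x0) (.leaf 0x0)) (.node 1 (.leaf 0x0) (.leaf 0x0))) (.node 2 (.node 1 (.leaf 0x0) (.leaf 0x0)) (.node 1 (.leaf 0x0) (.leaf 0x0))))) (.node 8 (.node 4 (.node 2 (.node 1 (.leaf 0x0) (.leaf 0x0)) (.node 1 (.leaf 0x0) (.leaf 0x0))) (.node 2 (.node 1 (.leaf 0x0) (.leaf 0x0)) (.node 1 (.leaf 0x0) (.leaf 0x0)))) (.node 4 (.node 2 (.node 1 (.leaf 0x0) (.leaf 0x0)) (.node 1 (.leaf 0x0) (.leaf 0x0))) (.node 2 (.node 1 (.leaf 0x0) (.leaf 0x0)) (.node 1 (.leaf 0x0) (.leaf 0x0)))))) (.node 16 (.node 8 (.node 4 (.node 2 (.node 1 (.leaf 0x0) (.leaf 0x0)) (.node 1 (.leaf 0x0) (.leaf 0x0))) (.node 2 (.node 1 (.leaf 0x0) (.leaf 0x0)) (.node 1 (.leaf 0x0) (.leaf 0x0)))) (.node 4 (.node 2 (.node 1 (.leaf 0x0) (.leaf 0x0)) (.node 1 (.leaf 0x0) (.leaf 0x0))) (.node 2 (.node 1 (.leaf 0x0) (.leaf 0x0)) (.node 1 (.leaf 0x0) (.leaf 0x0))))) (.node 8 (.node 4 (.node 2 (.node 1 (.leaf 0x0) (.leaf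 0x0)) (.node 1 (.leaf 0x0) (.leaf 0x0))) (.node 2 (.node 1 (.leaf 0x0) (.leaf 0x0)) (.node 1 (.leaf 0x0) (.leaf 0x0)))) (.node 4 (.node 2 (.node 1 (.leaf 0x0) (.leaf 0x0)) (.node 1 (.leaf 0x0) (.leaf 0x0))) (.node 2 (.node 1 (.leaf 0x0) (.leaf 0x0)) (.node 1 (.leaf 0x0) (.leaf 0x0)))))))

def moves5_7 : Tree :=
  .node 64 (.node 32 (.node 16 (.node 8 (.node 4 (.node 2 (.node 1 (.leaf 0x0) (.leaf 0x0)) (.node 1 (.leaf 0x1) (.leaf 0x1c1))) (.node 2 (.node 1 (.leaf 0x0) (.leaf 0x0)) (.node 1 (.leaf 0x0) (.leaf 0x0)))) (.node 4 (.node 2 (.node 1 (.leaf 0x0) (.leaf 0x0)) (.node 1 (.leaf 0x0) (.leaf 0x0))) (.node 2 (.node 1 (.leaf 0x0) (.leaf 0x0)) (.node 1 (.leaf 0x0) (.leaf 0x0))))) (.node 8 (.node 4 (.node 2 (.node 1 (.leaf 0x0) (.leaf 0x0)) (.node 1 (.leaf 0x0) (.leaf 0x0))) (.node 2 (.node 1 (.leaf 0x0) (.leaf 0x0)) (.node 1 (.leaf 0x0) (.leaf 0x0)))) (.node 4 (.node 2 (.node 1 (.leaf 0x0) (.leaf 0x0)) (.node 1 (.leaf 0x0) (.leaf 0x0)))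 (.node 2 (.node 1 (.leaf 0x0) (.leaf 0x0)) (.node 1 (.leaf 0x0) (.leaf 0x0)))))) (.node 16 (.node 8 (.node 4 (.node 2 (.node 1 (.leaf 0x0) (.leaf 0x0)) (.node 1 (.leaf 0x0) (.leaf 0x0))) (.node 2 (.node 1 (.leaf 0x0) (.leaf 0x0)) (.node 1 (.leaf 0x0) (.leaf 0x0)))) (.node 4 (.node 2 (.node 1 (.leaf 0x0) (.leaf 0x0)) (.node 1 (.leaf 0x0) (.leaf 0x0))) (.node 2 (.node 1 (.leaf 0x0) (.leaf 0x0)) (.node 1 (.leaf 0x0) (.leaf 0x0))))) (.node 8 (.node 4 (.node 2 (.node 1 (.leaf 0x0) (.leaf 0x0)) (.node 1 (.leaf 0x0) (.leaf 0x0))) (.node 2 (.node 1 (.leaf 0x0) (.leaf 0x0)) (.node 1 (.leaf 0x0) (.leaf 0x0)))) (.node 4 (.node 2 (.node 1 (.leaf 0x0) (.leaf 0x0)) (.node 1 (.leaf 0x0) (.leaf 0x0))) (.node 2 (.node 1 (.leaf 0x0) (.leaf 0x0)) (.node 1 (.leaf 0x0) (.leaf 0x0))))))) (.node 32 (.node 16 (.node 8 (.node 4 (.node 2 (.node 1 (.leaf 0x0) (.leaf 0x0)) (.node 1 (.leaf 0x0) (.leaf 0x0))) (.node 2 (.node 1 (.leaf 0x0) (.leaf 0x0)) (.node 1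 (.leaf 0x0) (.leaf 0x0)))) (.node 4 (.node 2 (.node 1 (.leaf 0x0) (.leaf 0x0)) (.node 1 (.leaf 0x0) (.leaf 0x0))) (.node 2 (.node 1 (.leaf 0x0) (.leaf 0x0)) (.node 1 (.leaf 0x0) (.leaf 0x0))))) (.node 8 (.node 4 (.node 2 (.node 1 (.leaf 0x0) (.leaf 0x0)) (.node 1 (.leaf 0x0) (.leaf 0x0))) (.node 2 (.node 1 (.leaf 0x0) (.leaf 0x0)) (.node 1 (.leaf 0x0) (.leaf 0x0)))) (.node 4 (.node 2 (.node 1 (.leaf 0x0) (.leaf 0x0)) (.node 1 (.leaf 0x0) (.leaf 0x0))) (.node 2 (.node 1 (.leaf 0x0) (.leaf 0x0)) (.node 1 (.leaf 0x0) (.leaf 0x0)))))) (.node 16 (.node 8 (.node 4 (.node 2 (.node 1 (.leaf 0x0) (.leaf 0x0)) (.node 1 (.leaf 0x0) (.leaf 0x0))) (.node 2 (.node 1 (.leaf 0x0) (.leaf 0x0)) (.node 1 (.leaf 0x0) (.leaf 0x0)))) (.node 4 (.node 2 (.node 1 (.leaf 0x0) (.leaf 0x0)) (.node 1 (.leaf 0x0) (.leaf 0x0))) (.node 2 (.node 1 (.leaf 0x0) (.leaf 0x0)) (.node 1 (.leaf 0x0) (.leaf 0x0))))) (.node 8 (.node 4 (.node 2 (.node 1 (.leaf 0x0) (.leaf 0x0))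 (.node 1 (.leaf 0x0) (.leaf 0x0))) (.node 2 (.node 1 (.leaf 0x0) (.leaf 0x0)) (.node 1 (.leaf 0x0) (.leaf 0x0)))) (.node 4 (.node 2 (.node 1 (.leaf 0x0) (.leaf 0x0)) (.node 1 (.leaf 0x0) (.leaf 0x0))) (.node 2 (.node 1 (.leaf 0x0) (.leaf 0x0)) (.node 1 (.leaf 0x0) (.leaf 0x0)))))))

def moves5_8 : Tree :=
  .node 64 (.node 32 (.node 16 (.node 8 (.node 4 (.node 2 (.node 1 (.leaf 0x0) (.leaf 0x0)) (.node 1 (.leaf 0x0) (.leaf 0x0))) (.node 2 (.node 1 (.leaf 0x0) (.leaf 0x0)) (.node 1 (.leaf 0x0) (.leaf 0x0)))) (.node 4 (.node 2 (.node 1 (.leaf 0x0) (.leaf 0x0)) (.node 1 (.leaf 0x0) (.leaf 0x0))) (.node 2 (.node 1 (.leaf 0x0) (.leaf 0x0)) (.node 1 (.leaf 0x0) (.leaf 0x0))))) (.node 8 (.node 4 (.node 2 (.node 1 (.leaf 0x0) (.leaf 0x0)) (.node 1 (.leaf 0x0) (.leaf 0x0))) (.node 2 (.node 1 (.leaf 0x0) (.leaf 0x0)) (.node 1 (.leaf 0x0) (.leaf 0x0)))) (.node 4 (.node 2 (.node 1 (.leaf 0x0) (.leaf 0x0)) (.node 1 (.leaf 0x0) (.leaf 0x0))) (.node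 2 (.node 1 (.leaf 0x0) (.leaf 0x0)) (.node 1 (.leaf 0x0) (.leaf 0x0)))))) (.node 16 (.node 8 (.node 4 (.node 2 (.node 1 (.leaf 0x0) (.leaf 0x0)) (.node 1 (.leaf 0x0) (.leaf 0x0))) (.node 2 (.node 1 (.leaf 0x0) (.leaf 0x0)) (.node 1 (.leaf 0x0) (.leaf 0x0)))) (.node 4 (.node 2 (.node 1 (.leaf 0x0) (.leaf 0x0)) (.node 1 (.leaf 0x0) (.leaf 0x0))) (.node 2 (.node 1 (.leaf 0x0) (.leaf 0x0)) (.node 1 (.leaf 0x0) (.leaf 0x0))))) (.node 8 (.node 4 (.node 2 (.node 1 (.leaf 0x0) (.leaf 0x0)) (.node 1 (.leaf 0x0) (.leaf 0x0))) (.node 2 (.node 1 (.leaf 0x0) (.leaf 0x0)) (.node 1 (.leaf 0x0) (.leaf 0x0)))) (.node 4 (.node 2 (.node 1 (.leaf 0x0) (.leaf 0x0)) (.node 1 (.leaf 0x0) (.leaf 0x0))) (.node 2 (.node 1 (.leaf 0x0) (.leaf 0x0)) (.node 1 (.leaf 0x0) (.leaf 0x0))))))) (.node 32 (.node 16 (.node 8 (.node 4 (.node 2 (.node 1 (.leaf 0x0) (.leaf 0x0)) (.node 1 (.leaf 0x0) (.leaf 0x0))) (.node 2 (.node 1 (.leaf 0x0) (.leaf 0x0)) (.node 1 (.leaf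 0x0) (.leaf 0x0)))) (.node 4 (.node 2 (.node 1 (.leaf 0x0) (.leaf 0x0)) (.node 1 (.leaf 0x0) (.leaf 0x0))) (.node 2 (.node 1 (.leaf 0x0) (.leaf 0x0)) (.node 1 (.leaf 0x0) (.leaf 0x0))))) (.node 8 (.node 4 (.node 2 (.node 1 (.leaf 0x0) (.leaf 0x0)) (.node 1 (.leaf 0x0) (.leaf 0x0))) (.node 2 (.node 1 (.leaf 0x0) (.leaf 0x0)) (.node 1 (.leaf 0x0) (.leaf 0x0)))) (.node 4 (.node 2 (.node 1 (.leaf 0x0) (.leaf 0x0)) (.node 1 (.leaf 0x0) (.leaf 0x0))) (.node 2 (.node 1 (.leaf 0x0) (.leaf 0x0)) (.node 1 (.leaf 0x0) (.leaf 0x0)))))) (.node 16 (.node 8 (.node 4 (.node 2 (.node 1 (.leaf 0x0) (.leaf 0x0)) (.node 1 (.leaf 0x0) (.leaf 0x0))) (.node 2 (.node 1 (.leaf 0x0) (.leaf 0x0)) (.node 1 (.leaf 0x0) (.leaf 0x0)))) (.node 4 (.node 2 (.node 1 (.leaf 0x0) (.leaf 0x0)) (.node 1 (.leaf 0x0) (.leaf 0x0))) (.node 2 (.node 1 (.leaf 0x0) (.leaf 0x0)) (.node 1 (.leaf 0x0) (.leaf 0x0))))) (.node 8 (.node 4 (.node 2 (.node 1 (.leaf 0x0) (.leaf 0x0)) (.node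 1 (.leaf 0x0) (.leaf 0x0))) (.node 2 (.node 1 (.leaf 0x0) (.leaf 0x0)) (.node 1 (.leaf 0x0) (.leaf 0x0)))) (.node 4 (.node 2 (.node 1 (.leaf 0x0) (.leaf 0x0)) (.node 1 (.leaf 0x0) (.leaf 0x0))) (.node 2 (.node 1 (.leaf 0x0) (.leaf 0x0)) (.node 1 (.leaf 0x0) (.leaf 0x0)))))))

def moves5_9 : Tree :=
  .node 64 (.node 32 (.node 16 (.node 8 (.node 4 (.node 2 (.node 1 (.leaf 0x0) (.leaf 0x0)) (.node 1 (.leaf 0x0) (.leaf 0x0))) (.node 2 (.node 1 (.leaf 0x0) (.leaf 0x0)) (.node 1 (.leaf 0x0) (.leaf 0x0)))) (.node 4 (.node 2 (.node 1 (.leaf 0x0) (.leaf 0x0)) (.node 1 (.leaf 0x0) (.leaf 0x0))) (.node 2 (.node 1 (.leaf 0x0) (.leaf 0x0)) (.node 1 (.leaf 0x0) (.leaf 0x0))))) (.node 8 (.node 4 (.node 2 (.node 1 (.leaf 0x0) (.leaf 0x0)) (.node 1 (.leaf 0x0) (.leaf 0x0))) (.node 2 (.node 1 (.leaf 0x0) (.leaf 0x0)) (.node 1 (.leaf 0x0) (.leaf 0x0)))) (.node 4 (.node 2 (.node 1 (.leaf 0x0) (.leaf 0x0)) (.node 1 (.leaf 0x0) (.leaf 0x0))) (.node 2 (.node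 1 (.leaf 0x0) (.leaf 0x0)) (.node 1 (.leaf 0x0) (.leaf 0x0)))))) (.node 16 (.node 8 (.node 4 (.node 2 (.node 1 (.leaf 0x0) (.leaf 0x0)) (.node 1 (.leaf 0x0) (.leaf 0x0))) (.node 2 (.node 1 (.leaf 0x0) (.leaf 0x0)) (.node 1 (.leaf 0x0) (.leaf 0x0)))) (.node 4 (.node 2 (.node 1 (.leaf 0x0) (.leaf 0x0)) (.node 1 (.leaf 0x0) (.leaf 0x0))) (.node 2 (.node 1 (.leaf 0x0) (.leaf 0x0)) (.node 1 (.leaf 0x0) (.leaf 0x0))))) (.node 8 (.node 4 (.node 2 (.node 1 (.leaf 0x0) (.leaf 0x0)) (.node 1 (.leaf 0x0) (.leaf 0x0))) (.node 2 (.node 1 (.leaf 0x0) (.leaf 0x0)) (.node 1 (.leaf 0x0) (.leaf 0x0)))) (.node 4 (.node 2 (.node 1 (.leaf 0x0) (.leaf 0x0)) (.node 1 (.leaf 0x0) (.leaf 0x0))) (.node 2 (.node 1 (.leaf 0x0) (.leaf 0x0)) (.node 1 (.leaf 0x0) (.leaf 0x0))))))) (.node 32 (.node 16 (.node 8 (.node 4 (.node 2 (.node 1 (.leaf 0x0) (.leaf 0x0)) (.node 1 (.leaf 0x0) (.leaf 0x0))) (.node 2 (.node 1 (.leaf 0x0) (.leaf 0x0)) (.node 1 (.leaf 0x0) (.leaf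 0x0)))) (.node 4 (.node 2 (.node 1 (.leaf 0x0) (.leaf 0x0)) (.node 1 (.leaf 0x0) (.leaf 0x0))) (.node 2 (.node 1 (.leaf 0x0) (.leaf 0x0)) (.node 1 (.leaf 0x0) (.leaf 0x0))))) (.node 8 (.node 4 (.node 2 (.node 1 (.leaf 0x0) (.leaf 0x0)) (.node 1 (.leaf 0x0) (.leaf 0x0))) (.node 2 (.node 1 (.leaf 0x0) (.leaf 0x0)) (.node 1 (.leaf 0x0) (.leaf 0x0)))) (.node 4 (.node 2 (.node 1 (.leaf 0x0) (.leaf 0x0)) (.node 1 (.leaf 0x0) (.leaf 0x0))) (.node 2 (.node 1 (.leaf 0x0) (.leaf 0x0)) (.node 1 (.leaf 0x0) (.leaf 0x0)))))) (.node 16 (.node 8 (.node 4 (.node 2 (.node 1 (.leaf 0x0) (.leaf 0x0)) (.node 1 (.leaf 0x0) (.leaf 0x0))) (.node 2 (.node 1 (.leaf 0x0) (.leaf 0x0)) (.node 1 (.leaf 0x0) (.leaf 0x0)))) (.node 4 (.node 2 (.node 1 (.leaf 0x0) (.leaf 0x0)) (.node 1 (.leaf 0x0) (.leaf 0x0))) (.node 2 (.node 1 (.leaf 0x0) (.leaf 0x0)) (.node 1 (.leaf 0x0) (.leaf 0x0))))) (.node 8 (.node 4 (.node 2 (.node 1 (.leaf 0x0) (.leaf 0x0)) (.node 1 (.leaf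 0x0) (.leaf 0x0))) (.node 2 (.node 1 (.leaf 0x0) (.leaf 0x0)) (.node 1 (.leaf 0x0) (.leaf 0x0)))) (.node 4 (.node 2 (.node 1 (.leaf 0x0) (.leaf 0x0)) (.node 1 (.leaf 0x0) (.leaf 0x0))) (.node 2 (.node 1 (.leaf 0x0) (.leaf 0x0)) (.node 1 (.leaf 0x0) (.leaf 0x0)))))))

def moves5_10 : Tree :=
  .node 64 (.node 32 (.node 16 (.node 8 (.node 4 (.node 2 (.node 1 (.leaf 0x0) (.leaf 0x0)) (.node 1 (.leaf 0x0) (.leaf 0x0))) (.node 2 (.node 1 (.leaf 0x0) (.leaf 0x0)) (.node 1 (.leaf 0x0) (.leaf 0x0)))) (.node 4 (.node 2 (.node 1 (.leaf 0x0) (.leaf 0x0)) (.node 1 (.leaf 0x0) (.leaf 0x0))) (.node 2 (.node 1 (.leaf 0x0) (.leaf 0x0)) (.node 1 (.leaf 0x0) (.leaf 0x0))))) (.node 8 (.node 4 (.node 2 (.node 1 (.leaf 0x0) (.leaf 0x0)) (.node 1 (.leaf 0x0) (.leaf 0x0))) (.node 2 (.node 1 (.leaf 0x0) (.leaf 0x0)) (.node 1 (.leaf 0x0) (.leaf 0x0)))) (.node 4 (.node 2 (.node 1 (.leaf 0x0) (.leaf 0x0)) (.node 1 (.leaf 0x0) (.leaf 0x0))) (.node 2 (.node 1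 (.leaf 0x0) (.leaf 0x0)) (.node 1 (.leaf 0x0) (.leaf 0x0)))))) (.node 16 (.node 8 (.node 4 (.node 2 (.node 1 (.leaf 0x0) (.leaf 0x0)) (.node 1 (.leaf 0x0) (.leaf 0x0))) (.node 2 (.node 1 (.leaf 0x0) (.leaf 0x0)) (.node 1 (.leaf 0x0) (.leaf 0x0)))) (.node 4 (.node 2 (.node 1 (.leaf 0x0) (.leaf 0x0)) (.node 1 (.leaf 0x0) (.leaf 0x0))) (.node 2 (.node 1 (.leaf 0x0) (.leaf 0x0)) (.node 1 (.leaf 0x0) (.leaf 0x0))))) (.node 8 (.node 4 (.node 2 (.node 1 (.leaf 0x0) (.leaf 0x0)) (.node 1 (.leaf 0x0) (.leaf 0x0))) (.node 2 (.node 1 (.leaf 0x0) (.leaf 0x0)) (.node 1 (.leaf 0x0) (.leaf 0x0)))) (.node 4 (.node 2 (.node 1 (.leaf 0x0) (.leaf 0x0)) (.node 1 (.leaf 0x0) (.leaf 0x0))) (.node 2 (.node 1 (.leaf 0x0) (.leaf 0x0)) (.node 1 (.leaf 0x0) (.leaf 0x0))))))) (.node 32 (.node 16 (.node 8 (.node 4 (.node 2 (.node 1 (.leaf 0x0) (.leaf 0x0)) (.node 1 (.leaf 0x0) (.leaf 0x0))) (.node 2 (.node 1 (.leaf 0x0) (.leaf 0x0)) (.node 1 (.leaf 0x0) (.leaf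 0x0)))) (.node 4 (.node 2 (.node 1 (.leaf 0x0) (.leaf 0x0)) (.node 1 (.leaf 0x0) (.leaf 0x0))) (.node 2 (.node 1 (.leaf 0x0) (.leaf 0x0)) (.node 1 (.leaf 0x0) (.leaf 0x0))))) (.node 8 (.node 4 (.node 2 (.node 1 (.leaf 0x0) (.leaf 0x0)) (.node 1 (.leaf 0x0) (.leaf 0x0))) (.node 2 (.node 1 (.leaf 0x0) (.leaf 0x0)) (.node 1 (.leaf 0x0) (.leaf 0x0)))) (.node 4 (.node 2 (.node 1 (.leaf 0x0) (.leaf 0x0)) (.node 1 (.leaf 0x0) (.leaf 0x0))) (.node 2 (.node 1 (.leaf 0x0) (.leaf 0x0)) (.node 1 (.leaf 0x0) (.leaf 0x0)))))) (.node 16 (.node 8 (.node 4 (.node 2 (.node 1 (.leaf 0x0) (.leaf 0x0)) (.node 1 (.leaf 0x0) (.leaf 0x0))) (.node 2 (.node 1 (.leaf 0x0) (.leaf 0x0)) (.node 1 (.leaf 0x0) (.leaf 0x0)))) (.node 4 (.node 2 (.node 1 (.leaf 0x0) (.leaf 0x0)) (.node 1 (.leaf 0x0) (.leaf 0x0))) (.node 2 (.node 1 (.leaf 0x0) (.leaf 0x0)) (.node 1 (.leaf 0x0) (.leaf 0x0))))) (.node 8 (.node 4 (.node 2 (.node 1 (.leaf 0x0) (.leaf 0x0)) (.node 1 (.leaf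 0x0) (.leaf 0x0))) (.node 2 (.node 1 (.leaf 0x0) (.leaf 0x0)) (.node 1 (.leaf 0x0) (.leaf 0x0)))) (.node 4 (.node 2 (.node 1 (.leaf 0x0) (.leaf 0x0)) (.node 1 (.leaf 0x0) (.leaf 0x0))) (.node 2 (.node 1 (.leaf 0x0) (.leaf 0x0)) (.node 1 (.leaf 0x0) (.leaf 0x0)))))))

def moves5_11 : Tree :=
  .node 64 (.node 32 (.node 16 (.node 8 (.node 4 (.node 2 (.node 1 (.leaf 0x0) (.leaf 0x0)) (.node 1 (.leaf 0x0) (.leaf 0x0))) (.node 2 (.node 1 (.leaf 0x0) (.leaf 0x0)) (.node 1 (.leaf 0x0) (.leaf 0x0)))) (.node 4 (.node 2 (.node 1 (.leaf 0x0) (.leaf 0x0)) (.node 1 (.leaf 0x0) (.leaf 0x0))) (.node 2 (.node 1 (.leaf 0x0) (.leaf 0x0)) (.node 1 (.leaf 0x0) (.leaf 0x0))))) (.node 8 (.node 4 (.node 2 (.node 1 (.leaf 0x0) (.leaf 0x0)) (.node 1 (.leaf 0x0) (.leaf 0x0))) (.node 2 (.node 1 (.leaf 0x0) (.leaf 0x0)) (.node 1 (.leaf 0x0) (.leaf 0x0)))) (.node 4 (.node 2 (.node 1 (.leaf 0x0) (.leaf 0x0)) (.node 1 (.leaf 0x0) (.leaf 0x0))) (.node 2 (.node 1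 (.leaf 0x0) (.leaf 0x0)) (.node 1 (.leaf 0x0) (.leaf 0x0)))))) (.node 16 (.node 8 (.node 4 (.node 2 (.node 1 (.leaf 0x0) (.leaf 0x0)) (.node 1 (.leaf 0x0) (.leaf 0x0))) (.node 2 (.node 1 (.leaf 0x0) (.leaf 0x0)) (.node 1 (.leaf 0x0) (.leaf 0x0)))) (.node 4 (.node 2 (.node 1 (.leaf 0x0) (.leaf 0x0)) (.node 1 (.leaf 0x0) (.leaf 0x0))) (.node 2 (.node 1 (.leaf 0x0) (.leaf 0x0)) (.node 1 (.leaf 0x0) (.leaf 0x0))))) (.node 8 (.node 4 (.node 2 (.node 1 (.leaf 0x0) (.leaf 0x0)) (.node 1 (.leaf 0x0) (.leaf 0x0))) (.node 2 (.node 1 (.leaf 0x0) (.leaf 0x0)) (.node 1 (.leaf 0x0) (.leaf 0x0)))) (.node 4 (.node 2 (.node 1 (.leaf 0x0) (.leaf 0x0)) (.node 1 (.leaf 0x0) (.leaf 0x0))) (.node 2 (.node 1 (.leaf 0x0) (.leaf 0x0)) (.node 1 (.leaf 0x0) (.leaf 0x0))))))) (.node 32 (.node 16 (.node 8 (.node 4 (.node 2 (.node 1 (.leaf 0x0) (.leaf 0x0)) (.node 1 (.leaf 0x0) (.leaf 0x0))) (.node 2 (.node 1 (.leaf 0x0) (.leaf 0x0)) (.node 1 (.leaf 0x0) (.leaf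 0x0)))) (.node 4 (.node 2 (.node 1 (.leaf 0x0) (.leaf 0x0)) (.node 1 (.leaf 0x0) (.leaf 0x0))) (.node 2 (.node 1 (.leaf 0x0) (.leaf 0x0)) (.node 1 (.leaf 0x0) (.leaf 0x0))))) (.node 8 (.node 4 (.node 2 (.node 1 (.leaf 0x0) (.leaf 0x0)) (.node 1 (.leaf 0x0) (.leaf 0x0))) (.node 2 (.node 1 (.leaf 0x0) (.leaf 0x0)) (.node 1 (.leaf 0x0) (.leaf 0x0)))) (.node 4 (.node 2 (.node 1 (.leaf 0x0) (.leaf 0x0)) (.node 1 (.leaf 0x0) (.leaf 0x0))) (.node 2 (.node 1 (.leaf 0x0) (.leaf 0x0)) (.node 1 (.leaf 0x0) (.leaf 0x0)))))) (.node 16 (.node 8 (.node 4 (.node 2 (.node 1 (.leaf 0x0) (.leaf 0x0)) (.node 1 (.leaf 0x0) (.leaf 0x0))) (.node 2 (.node 1 (.leaf 0x0) (.leaf 0x0)) (.node 1 (.leaf 0x0) (.leaf 0x0)))) (.node 4 (.node 2 (.node 1 (.leaf 0x0) (.leaf 0x0)) (.node 1 (.leaf 0x0) (.leaf 0x0))) (.node 2 (.node 1 (.leaf 0x0) (.leaf 0x0)) (.node 1 (.leaf 0x0) (.leaf 0x0))))) (.node 8 (.node 4 (.node 2 (.node 1 (.leaf 0x0) (.leaf 0x0)) (.node 1 (.leaf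 0x0) (.leaf 0x0))) (.node 2 (.node 1 (.leaf 0x0) (.leaf 0x0)) (.node 1 (.leaf 0x0) (.leaf 0x0)))) (.node 4 (.node 2 (.node 1 (.leaf 0x0) (.leaf 0x0)) (.node 1 (.leaf 0x0) (.leaf 0x0))) (.node 2 (.node 1 (.leaf 0x0) (.leaf 0x0)) (.node 1 (.leaf 0x0) (.leaf 0x0)))))))

def moves5_12 : Tree :=
  .node 64 (.node 32 (.node 16 (.node 8 (.node 4 (.node 2 (.node 1 (.leaf 0x0) (.leaf 0x0)) (.node 1 (.leaf 0x0) (.leaf 0x0))) (.node 2 (.node 1 (.leaf 0x0) (.leaf 0x0)) (.node 1 (.leaf 0x0) (.leaf 0x0)))) (.node 4 (.node 2 (.node 1 (.leaf 0x0) (.leaf 0x0)) (.node 1 (.leaf 0x0) (.leaf 0x0))) (.node 2 (.node 1 (.leaf 0x0) (.leaf 0x0)) (.node 1 (.leaf 0x0) (.leaf 0x0))))) (.node 8 (.node 4 (.node 2 (.node 1 (.leaf 0x0) (.leaf 0x0)) (.node 1 (.leaf 0x0) (.leaf 0x0))) (.node 2 (.node 1 (.leaf 0x0) (.leaf 0x0)) (.node 1 (.leaf 0x0) (.leaf 0x0)))) (.node 4 (.node 2 (.node 1 (.leaf 0x0) (.leaf 0x0)) (.node 1 (.leaf 0x0) (.leaf 0x0))) (.node 2 (.node 1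 (.leaf 0x0) (.leaf 0x0)) (.node 1 (.leaf 0x0) (.leaf 0x0)))))) (.node 16 (.node 8 (.node 4 (.node 2 (.node 1 (.leaf 0x0) (.leaf 0x0)) (.node 1 (.leaf 0x0) (.leaf 0x0))) (.node 2 (.node 1 (.leaf 0x0) (.leaf 0x0)) (.node 1 (.leaf 0x0) (.leaf 0x0)))) (.node 4 (.node 2 (.node 1 (.leaf 0x0) (.leaf 0x0)) (.node 1 (.leaf 0x0) (.leaf 0x0))) (.node 2 (.node 1 (.leaf 0x0) (.leaf 0x0)) (.node 1 (.leaf 0x0) (.leaf 0x0))))) (.node 8 (.node 4 (.node 2 (.node 1 (.leaf 0x0) (.leaf 0x0)) (.node 1 (.leaf 0x0) (.leaf 0x0))) (.node 2 (.node 1 (.leaf 0x0) (.leaf 0x0)) (.node 1 (.leaf 0x0) (.leaf 0x0)))) (.node 4 (.node 2 (.node 1 (.leaf 0x0) (.leaf 0x0)) (.node 1 (.leaf 0x0) (.leaf 0x0))) (.node 2 (.node 1 (.leaf 0x0) (.leaf 0x0)) (.node 1 (.leaf 0x0) (.leaf 0x0))))))) (.node 32 (.node 16 (.node 8 (.node 4 (.node 2 (.node 1 (.leaf 0x0) (.leaf 0x0)) (.node 1 (.leaf 0x0) (.leaf 0x0))) (.node 2 (.node 1 (.leaf 0x0) (.leaf 0x0)) (.node 1 (.leaf 0x0) (.leaf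 0x0)))) (.node 4 (.node 2 (.node 1 (.leaf 0x0) (.leaf 0x0)) (.node 1 (.leaf 0x0) (.leaf 0x0))) (.node 2 (.node 1 (.leaf 0x0) (.leaf 0x0)) (.node 1 (.leaf 0x0) (.leaf 0x0))))) (.node 8 (.node 4 (.node 2 (.node 1 (.leaf 0x0) (.leaf 0x0)) (.node 1 (.leaf 0x0) (.leaf 0x0))) (.node 2 (.node 1 (.leaf 0x0) (.leaf 0x0)) (.node 1 (.leaf 0x0) (.leaf 0x0)))) (.node 4 (.node 2 (.node 1 (.leaf 0x0) (.leaf 0x0)) (.node 1 (.leaf 0x0) (.leaf 0x0))) (.node 2 (.node 1 (.leaf 0x0) (.leaf 0x0)) (.node 1 (.leaf 0x0) (.leaf 0x0)))))) (.node 16 (.node 8 (.node 4 (.node 2 (.node 1 (.leaf 0x0) (.leaf 0x0)) (.node 1 (.leaf 0x0) (.leaf 0x0))) (.node 2 (.node 1 (.leaf 0x0) (.leaf 0x0)) (.node 1 (.leaf 0x0) (.leaf 0x0)))) (.node 4 (.node 2 (.node 1 (.leaf 0x0) (.leaf 0x0)) (.node 1 (.leaf 0x0) (.leaf 0x0))) (.node 2 (.node 1 (.leaf 0x0) (.leaf 0x0)) (.node 1 (.leaf 0x0) (.leaf 0x0))))) (.node 8 (.node 4 (.node 2 (.node 1 (.leaf 0x0) (.leaf 0x0)) (.node 1 (.leaf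 0x0) (.leaf 0x0))) (.node 2 (.node 1 (.leaf 0x0) (.leaf 0x0)) (.node 1 (.leaf 0x0) (.leaf 0x0)))) (.node 4 (.node 2 (.node 1 (.leaf 0x0) (.leaf 0x0)) (.node 1 (.leaf 0x0) (.leaf 0x0))) (.node 2 (.node 1 (.leaf 0x0) (.leaf 0x0)) (.node 1 (.leaf 0x0) (.leaf 0x0)))))))

def moves5_13 : Tree :=
  .node 64 (.node 32 (.node 16 (.node 8 (.node 4 (.node 2 (.node 1 (.leaf 0x0) (.leaf 0x0)) (.node 1 (.leaf 0x0) (.leaf 0x0))) (.node 2 (.node 1 (.leaf 0x0) (.leaf 0x0)) (.node 1 (.leaf 0x0) (.leaf 0x0)))) (.node 4 (.node 2 (.node 1 (.leaf 0x0) (.leaf 0x0)) (.node 1 (.leaf 0x0) (.leaf 0x0))) (.node 2 (.node 1 (.leaf 0x0) (.leaf 0x0)) (.node 1 (.leaf 0x0) (.leaf 0x0))))) (.node 8 (.node 4 (.node 2 (.node 1 (.leaf 0x0) (.leaf 0x0)) (.node 1 (.leaf 0x0) (.leaf 0x0))) (.node 2 (.node 1 (.leaf 0x0) (.leaf 0x0)) (.node 1 (.leaf 0x0) (.leaf 0x0)))) (.node 4 (.node 2 (.node 1 (.leaf 0x0) (.leaf 0x0)) (.node 1 (.leaf 0x0) (.leaf 0x0))) (.node 2 (.node 1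 (.leaf 0x0) (.leaf 0x0)) (.node 1 (.leaf 0x0) (.leaf 0x0)))))) (.node 16 (.node 8 (.node 4 (.node 2 (.node 1 (.leaf 0x0) (.leaf 0x0)) (.node 1 (.leaf 0x0) (.leaf 0x0))) (.node 2 (.node 1 (.leaf 0x0) (.leaf 0x0)) (.node 1 (.leaf 0x0) (.leaf 0x0)))) (.node 4 (.node 2 (.node 1 (.leaf 0x0) (.leaf 0x0)) (.node 1 (.leaf 0x0) (.leaf 0x0))) (.node 2 (.node 1 (.leaf 0x0) (.leaf 0x0)) (.node 1 (.leaf 0x0) (.leaf 0x0))))) (.node 8 (.node 4 (.node 2 (.node 1 (.leaf 0x0) (.leaf 0x0)) (.node 1 (.leaf 0x0) (.leaf 0x0))) (.node 2 (.node 1 (.leaf 0x0) (.leaf 0x0)) (.node 1 (.leaf 0x0) (.leaf 0x0)))) (.node 4 (.node 2 (.node 1 (.leaf 0x0) (.leaf 0x0)) (.node 1 (.leaf 0x0) (.leaf 0x0))) (.node 2 (.node 1 (.leaf 0x0) (.leaf 0x0)) (.node 1 (.leaf 0x0) (.leaf 0x0))))))) (.node 32 (.node 16 (.node 8 (.node 4 (.node 2 (.node 1 (.leaf 0x0) (.leaf 0x0)) (.node 1 (.leaf 0x0) (.leaf 0x0))) (.node 2 (.node 1 (.leaf 0x0) (.leaf 0x0)) (.node 1 (.leaf 0x0) (.leaf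 0x0)))) (.node 4 (.node 2 (.node 1 (.leaf 0x0) (.leaf 0x0)) (.node 1 (.leaf 0x0) (.leaf 0x0))) (.node 2 (.node 1 (.leaf 0x0) (.leaf 0x0)) (.node 1 (.leaf 0x0) (.leaf 0x0))))) (.node 8 (.node 4 (.node 2 (.node 1 (.leaf 0x0) (.leaf 0x0)) (.node 1 (.leaf 0x0) (.leaf 0x0))) (.node 2 (.node 1 (.leaf 0x0) (.leaf 0x0)) (.node 1 (.leaf 0x0) (.leaf 0x0)))) (.node 4 (.node 2 (.node 1 (.leaf 0x0) (.leaf 0x0)) (.node 1 (.leaf 0x0) (.leaf 0x0))) (.node 2 (.node 1 (.leaf 0x0) (.leaf 0x0)) (.node 1 (.leaf 0x0) (.leaf 0x0)))))) (.node 16 (.node 8 (.node 4 (.node 2 (.node 1 (.leaf 0x0) (.leaf 0x0)) (.node 1 (.leaf 0x0) (.leaf 0x0))) (.node 2 (.node 1 (.leaf 0x0) (.leaf 0x0)) (.node 1 (.leaf 0x0) (.leaf 0x0)))) (.node 4 (.node 2 (.node 1 (.leaf 0x0) (.leaf 0x0)) (.node 1 (.leaf 0x0) (.leaf 0x0))) (.node 2 (.node 1 (.leaf 0x0) (.leaf 0x0)) (.node 1 (.leaf 0x0) (.leaf 0x0))))) (.node 8 (.node 4 (.node 2 (.node 1 (.leaf 0x0) (.leaf 0x0)) (.node 1 (.leaf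 0x0) (.leaf 0x0))) (.node 2 (.node 1 (.leaf 0x0) (.leaf 0x0)) (.node 1 (.leaf 0x0) (.leaf 0x0)))) (.node 4 (.node 2 (.node 1 (.leaf 0x0) (.leaf 0x0)) (.node 1 (.leaf 0x0) (.leaf 0x0))) (.node 2 (.node 1 (.leaf 0x0) (.leaf 0x0)) (.node 1 (.leaf 0x0) (.leaf 0x0)))))))

def moves5_14 : Tree :=
  .node 64 (.node 32 (.node 16 (.node 8 (.node 4 (.node 2 (.node 1 (.leaf 0x0) (.leaf 0x0)) (.node 1 (.leaf 0x0) (.leaf 0x0))) (.node 2 (.node 1 (.leaf 0x0) (.leaf 0x0)) (.node 1 (.leaf 0x0) (.leaf 0x0)))) (.node 4 (.node 2 (.node 1 (.leaf 0x0) (.leaf 0x0)) (.node 1 (.leaf 0x0) (.leaf 0x0))) (.node 2 (.node 1 (.leaf 0x0) (.leaf 0x0)) (.node 1 (.leaf 0x0) (.leaf 0x0))))) (.node 8 (.node 4 (.node 2 (.node 1 (.leaf 0x0) (.leaf 0x0)) (.node 1 (.leaf 0x0) (.leaf 0x0))) (.node 2 (.node 1 (.leaf 0x0) (.leaf 0x0)) (.node 1 (.leaf 0x0) (.leaf 0x0)))) (.node 4 (.node 2 (.node 1 (.leaf 0x0) (.leaf 0x0)) (.node 1 (.leaf 0x0) (.leaf 0x0))) (.node 2 (.node 1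 (.leaf 0x0) (.leaf 0x0)) (.node 1 (.leaf 0x0) (.leaf 0x0)))))) (.node 16 (.node 8 (.node 4 (.node 2 (.node 1 (.leaf 0x0) (.leaf 0x0)) (.node 1 (.leaf 0x0) (.leaf 0x0))) (.node 2 (.node 1 (.leaf 0x0) (.leaf 0x0)) (.node 1 (.leaf 0x0) (.leaf 0x0)))) (.node 4 (.node 2 (.node 1 (.leaf 0x0) (.leaf 0x0)) (.node 1 (.leaf 0x0) (.leaf 0x0))) (.node 2 (.node 1 (.leaf 0x0) (.leaf 0x0)) (.node 1 (.leaf 0x0) (.leaf 0x0))))) (.node 8 (.node 4 (.node 2 (.node 1 (.leaf 0x0) (.leaf 0x0)) (.node 1 (.leaf 0x0) (.leaf 0x0))) (.node 2 (.node 1 (.leaf 0x0) (.leaf 0x0)) (.node 1 (.leaf 0x0) (.leaf 0x0)))) (.node 4 (.node 2 (.node 1 (.leaf 0x0) (.leaf 0x0)) (.node 1 (.leaf 0x0) (.leaf 0x0))) (.node 2 (.node 1 (.leaf 0x0) (.leaf 0x0)) (.node 1 (.leaf 0x0) (.leaf 0x0))))))) (.node 32 (.node 16 (.node 8 (.node 4 (.node 2 (.node 1 (.leaf 0x0) (.leaf 0x0)) (.node 1 (.leaf 0x0) (.leaf 0x0))) (.node 2 (.node 1 (.leaf 0x0) (.leaf 0x0)) (.node 1 (.leaf 0x0) (.leaf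 0x0)))) (.node 4 (.node 2 (.node 1 (.leaf 0x0) (.leaf 0x0)) (.node 1 (.leaf 0x0) (.leaf 0x0))) (.node 2 (.node 1 (.leaf 0x0) (.leaf 0x0)) (.node 1 (.leaf 0x0) (.leaf 0x0))))) (.node 8 (.node 4 (.node 2 (.node 1 (.leaf 0x0) (.leaf 0x0)) (.node 1 (.leaf 0x0) (.leaf 0x0))) (.node 2 (.node 1 (.leaf 0x0) (.leaf 0x0)) (.node 1 (.leaf 0x0) (.leaf 0x0)))) (.node 4 (.node 2 (.node 1 (.leaf 0x0) (.leaf 0x0)) (.node 1 (.leaf 0x0) (.leaf 0x0))) (.node 2 (.node 1 (.leaf 0x0) (.leaf 0x0)) (.node 1 (.leaf 0x0) (.leaf 0x0)))))) (.node 16 (.node 8 (.node 4 (.node 2 (.node 1 (.leaf 0x0) (.leaf 0x0)) (.node 1 (.leaf 0x0) (.leaf 0x0))) (.node 2 (.node 1 (.leaf 0x0) (.leaf 0x0)) (.node 1 (.leaf 0x0) (.leaf 0x0)))) (.node 4 (.node 2 (.node 1 (.leaf 0x0) (.leaf 0x0)) (.node 1 (.leaf 0x0) (.leaf 0x0))) (.node 2 (.node 1 (.leaf 0x0) (.leaf 0x0)) (.node 1 (.leaf 0x0) (.leaf 0x0))))) (.node 8 (.node 4 (.node 2 (.node 1 (.leaf 0x0) (.leaf 0x0)) (.node 1 (.leaf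 0x0) (.leaf 0x0))) (.node 2 (.node 1 (.leaf 0x0) (.leaf 0x0)) (.node 1 (.leaf 0x0) (.leaf 0x0)))) (.node 4 (.node 2 (.node 1 (.leaf 0x0) (.leaf 0x0)) (.node 1 (.leaf 0x0) (.leaf 0x0))) (.node 2 (.node 1 (.leaf 0x0) (.leaf 0x0)) (.node 1 (.leaf 0x0) (.leaf 0x0)))))))

def moves5_15 : Tree :=
  .node 64 (.node 32 (.node 16 (.node 8 (.node 4 (.node 2 (.node 1 (.leaf 0x0) (.leaf 0x0)) (.node 1 (.leaf 0x0) (.leaf 0x0))) (.node 2 (.node 1 (.leaf 0x0) (.leaf 0x0)) (.node 1 (.leaf 0x0) (.leaf 0x0)))) (.node 4 (.node 2 (.node 1 (.leaf 0x0) (.leaf 0x0)) (.node 1 (.leaf 0x0) (.leaf 0x0))) (.node 2 (.node 1 (.leaf 0x0) (.leaf 0x0)) (.node 1 (.leaf 0x0) (.leaf 0x0))))) (.node 8 (.node 4 (.node 2 (.node 1 (.leaf 0x0) (.leaf 0x0)) (.node 1 (.leaf 0x0) (.leaf 0x0))) (.node 2 (.node 1 (.leaf 0x0) (.leaf 0x0)) (.node 1 (.leaf 0x0) (.leaf 0x0)))) (.node 4 (.node 2 (.node 1 (.leaf 0x0) (.leaf 0x0)) (.node 1 (.leaf 0x0) (.leaf 0x0))) (.node 2 (.node 1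 (.leaf 0x0) (.leaf 0x0)) (.node 1 (.leaf 0x0) (.leaf 0x0)))))) (.node 16 (.node 8 (.node 4 (.node 2 (.node 1 (.leaf 0x0) (.leaf 0x0)) (.node 1 (.leaf 0x0) (.leaf 0x0))) (.node 2 (.node 1 (.leaf 0x0) (.leaf 0x0)) (.node 1 (.leaf 0x0) (.leaf 0x0)))) (.node 4 (.node 2 (.node 1 (.leaf 0x0) (.leaf 0x0)) (.node 1 (.leaf 0x0) (.leaf 0x0))) (.node 2 (.node 1 (.leaf 0x0) (.leaf 0x0)) (.node 1 (.leaf 0x0) (.leaf 0x0))))) (.node 8 (.node 4 (.node 2 (.node 1 (.leaf 0x0) (.leaf 0x0)) (.node 1 (.leaf 0x0) (.leaf 0x0))) (.node 2 (.node 1 (.leaf 0x0) (.leaf 0x0)) (.node 1 (.leaf 0x0) (.leaf 0x0)))) (.node 4 (.node 2 (.node 1 (.leaf 0x0) (.leaf 0x0)) (.node 1 (.leaf 0x0) (.leaf 0x0))) (.node 2 (.node 1 (.leaf 0x0) (.leaf 0x0)) (.node 1 (.leaf 0x0) (.leaf 0x0))))))) (.node 32 (.node 16 (.node 8 (.node 4 (.node 2 (.node 1 (.leaf 0x0) (.leaf 0x0)) (.node 1 (.leaf 0x0) (.leaf 0x0))) (.node 2 (.node 1 (.leaf 0x0) (.leaf 0x0)) (.node 1 (.leaf 0x0) (.leaf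 0x0)))) (.node 4 (.node 2 (.node 1 (.leaf 0x0) (.leaf 0x0)) (.node 1 (.leaf 0x0) (.leaf 0x0))) (.node 2 (.node 1 (.leaf 0x0) (.leaf 0x0)) (.node 1 (.leaf 0x0) (.leaf 0x0))))) (.node 8 (.node 4 (.node 2 (.node 1 (.leaf 0x0) (.leaf 0x0)) (.node 1 (.leaf 0x0) (.leaf 0x0))) (.node 2 (.node 1 (.leaf 0x0) (.leaf 0x0)) (.node 1 (.leaf 0x0) (.leaf 0x0)))) (.node 4 (.node 2 (.node 1 (.leaf 0x0) (.leaf 0x0)) (.node 1 (.leaf 0x0) (.leaf 0x0))) (.node 2 (.node 1 (.leaf 0x0) (.leaf 0x0)) (.node 1 (.leaf 0x0) (.leaf 0x0)))))) (.node 16 (.node 8 (.node 4 (.node 2 (.node 1 (.leaf 0x0) (.leaf 0x0)) (.node 1 (.leaf 0x0) (.leaf 0x0))) (.node 2 (.node 1 (.leaf 0x0) (.leaf 0x0)) (.node 1 (.leaf 0x0) (.leaf 0x0)))) (.node 4 (.node 2 (.node 1 (.leaf 0x0) (.leaf 0x0)) (.node 1 (.leaf 0x0) (.leaf 0x0))) (.node 2 (.node 1 (.leaf 0x0) (.leaf 0x0)) (.node 1 (.leaf 0x0) (.leaf 0x0))))) (.node 8 (.node 4 (.node 2 (.node 1 (.leaf 0x0) (.leaf 0x0)) (.node 1 (.leaf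 0x0) (.leaf 0x0))) (.node 2 (.node 1 (.leaf 0x0) (.leaf 0x0)) (.node 1 (.leaf 0x0) (.leaf 0x0)))) (.node 4 (.node 2 (.node 1 (.leaf 0x0) (.leaf 0x0)) (.node 1 (.leaf 0x0) (.leaf 0x0))) (.node 2 (.node 1 (.leaf 0x0) (.leaf 0x0)) (.node 1 (.leaf 0x0) (.leaf 0x0)))))))

def moves5_16 : Tree :=
  .node 64 (.node 32 (.node 16 (.node 8 (.node 4 (.node 2 (.node 1 (.leaf 0x0) (.leaf 0x0)) (.node 1 (.leaf 0x0) (.leaf 0x0))) (.node 2 (.node 1 (.leaf 0x0) (.leaf 0x0)) (.node 1 (.leaf 0x0) (.leaf 0x0)))) (.node 4 (.node 2 (.node 1 (.leaf 0x0) (.leaf 0x0)) (.node 1 (.leaf 0x0) (.leaf 0x0))) (.node 2 (.node 1 (.leaf 0x0) (.leaf 0x0)) (.node 1 (.leaf 0x0) (.leaf 0x0))))) (.node 8 (.node 4 (.node 2 (.node 1 (.leaf 0x0) (.leaf 0x0)) (.node 1 (.leaf 0x0) (.leaf 0x0))) (.node 2 (.node 1 (.leaf 0x0) (.leaf 0x0)) (.node 1 (.leaf 0x0) (.leaf 0x0)))) (.node 4 (.node 2 (.node 1 (.leaf 0x0) (.leaf 0x0)) (.node 1 (.leaf 0x0) (.leaf 0x0))) (.node 2 (.node 1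 (.leaf 0x0) (.leaf 0x0)) (.node 1 (.leaf 0x0) (.leaf 0x0)))))) (.node 16 (.node 8 (.node 4 (.node 2 (.node 1 (.leaf 0x0) (.leaf 0x0)) (.node 1 (.leaf 0x0) (.leaf 0x0))) (.node 2 (.node 1 (.leaf 0x0) (.leaf 0x0)) (.node 1 (.leaf 0x0) (.leaf 0x0)))) (.node 4 (.node 2 (.node 1 (.leaf 0x0) (.leaf 0x0)) (.node 1 (.leaf 0x0) (.leaf 0x0))) (.node 2 (.node 1 (.leaf 0x0) (.leaf 0x0)) (.node 1 (.leaf 0x0) (.leaf 0x0))))) (.node 8 (.node 4 (.node 2 (.node 1 (.leaf 0x0) (.leaf 0x0)) (.node 1 (.leaf 0x0) (.leaf 0x0))) (.node 2 (.node 1 (.leaf 0x0) (.leaf 0x0)) (.node 1 (.leaf 0x0) (.leaf 0x0)))) (.node 4 (.node 2 (.node 1 (.leaf 0x0) (.leaf 0x0)) (.node 1 (.leaf 0x0) (.leaf 0x0))) (.node 2 (.node 1 (.leaf 0x0) (.leaf 0x0)) (.node 1 (.leaf 0x0) (.leaf 0x0))))))) (.node 32 (.node 16 (.node 8 (.node 4 (.node 2 (.node 1 (.leaf 0x0) (.leaf 0x0)) (.node 1 (.leaf 0x0) (.leaf 0x0))) (.node 2 (.node 1 (.leaf 0x0) (.leaf 0x0)) (.node 1 (.leaf 0x0) (.leaf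 0x0)))) (.node 4 (.node 2 (.node 1 (.leaf 0x0) (.leaf 0x0)) (.node 1 (.leaf 0x0) (.leaf 0x0))) (.node 2 (.node 1 (.leaf 0x0) (.leaf 0x0)) (.node 1 (.leaf 0x0) (.leaf 0x0))))) (.node 8 (.node 4 (.node 2 (.node 1 (.leaf 0x0) (.leaf 0x0)) (.node 1 (.leaf 0x0) (.leaf 0x0))) (.node 2 (.node 1 (.leaf 0x0) (.leaf 0x0)) (.node 1 (.leaf 0x0) (.leaf 0x0)))) (.node 4 (.node 2 (.node 1 (.leaf 0x0) (.leaf 0x0)) (.node 1 (.leaf 0x0) (.leaf 0x0))) (.node 2 (.node 1 (.leaf 0x0) (.leaf 0x0)) (.node 1 (.leaf 0x0) (.leaf 0x0)))))) (.node 16 (.node 8 (.node 4 (.node 2 (.node 1 (.leaf 0x0) (.leaf 0x0)) (.node 1 (.leaf 0x0) (.leaf 0x0))) (.node 2 (.node 1 (.leaf 0x0) (.leaf 0x0)) (.node 1 (.leaf 0x0) (.leaf 0x0)))) (.node 4 (.node 2 (.node 1 (.leaf 0x0) (.leaf 0x0)) (.node 1 (.leaf 0x0) (.leaf 0x0))) (.node 2 (.node 1 (.leaf 0x0) (.leaf 0x0)) (.node 1 (.leaf 0x0) (.leaf 0x0))))) (.node 8 (.node 4 (.node 2 (.node 1 (.leaf 0x0) (.leaf 0x0)) (.node 1 (.leaf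 0x0) (.leaf 0x0))) (.node 2 (.node 1 (.leaf 0x0) (.leaf 0x0)) (.node 1 (.leaf 0x0) (.leaf 0x0)))) (.node 4 (.node 2 (.node 1 (.leaf 0x0) (.leaf 0x0)) (.node 1 (.leaf 0x0) (.leaf 0x0))) (.node 2 (.node 1 (.leaf 0x0) (.leaf 0x0)) (.node 1 (.leaf 0x0) (.leaf 0x0)))))))

def moves5_17 : Tree :=
  .node 64 (.node 32 (.node 16 (.node 8 (.node 4 (.node 2 (.node 1 (.leaf 0x0) (.leaf 0x0)) (.node 1 (.leaf 0x0) (.leaf 0x0))) (.node 2 (.node 1 (.leaf 0x0) (.leaf 0x0)) (.node 1 (.leaf 0x0) (.leaf 0x0)))) (.node 4 (.node 2 (.node 1 (.leaf 0x0) (.leaf 0x0)) (.node 1 (.leaf 0x0) (.leaf 0x0))) (.node 2 (.node 1 (.leaf 0x0) (.leaf 0x0)) (.node 1 (.leaf 0x0) (.leaf 0x0))))) (.node 8 (.node 4 (.node 2 (.node 1 (.leaf 0x0) (.leaf 0x0)) (.node 1 (.leaf 0x0) (.leaf 0x0))) (.node 2 (.node 1 (.leaf 0x0) (.leaf 0x0)) (.node 1 (.leaf 0x0) (.leaf 0x0)))) (.node 4 (.node 2 (.node 1 (.leaf 0x0) (.leaf 0x0)) (.node 1 (.leaf 0x0) (.leaf 0x0))) (.node 2 (.node 1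 (.leaf 0x0) (.leaf 0x0)) (.node 1 (.leaf 0x0) (.leaf 0x0)))))) (.node 16 (.node 8 (.node 4 (.node 2 (.node 1 (.leaf 0x0) (.leaf 0x0)) (.node 1 (.leaf 0x0) (.leaf 0x0))) (.node 2 (.node 1 (.leaf 0x0) (.leaf 0x0)) (.node 1 (.leaf 0x0) (.leaf 0x0)))) (.node 4 (.node 2 (.node 1 (.leaf 0x0) (.leaf 0x0)) (.node 1 (.leaf 0x0) (.leaf 0x0))) (.node 2 (.node 1 (.leaf 0x0) (.leaf 0x0)) (.node 1 (.leaf 0x0) (.leaf 0x0))))) (.node 8 (.node 4 (.node 2 (.node 1 (.leaf 0x0) (.leaf 0x0)) (.node 1 (.leaf 0x0) (.leaf 0x0))) (.node 2 (.node 1 (.leaf 0x0) (.leaf 0x0)) (.node 1 (.leaf 0x0) (.leaf 0x0)))) (.node 4 (.node 2 (.node 1 (.leaf 0x0) (.leaf 0x0)) (.node 1 (.leaf 0x0) (.leaf 0x0))) (.node 2 (.node 1 (.leaf 0x0) (.leaf 0x0)) (.node 1 (.leaf 0x0) (.leaf 0x0))))))) (.node 32 (.node 16 (.node 8 (.node 4 (.node 2 (.node 1 (.leaf 0x0) (.leaf 0x0)) (.node 1 (.leaf 0x0) (.leaf 0x0))) (.node 2 (.node 1 (.leaf 0x0) (.leaf 0x0)) (.node 1 (.leaf 0x0) (.leaf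 0x0)))) (.node 4 (.node 2 (.node 1 (.leaf 0x0) (.leaf 0x0)) (.node 1 (.leaf 0x0) (.leaf 0x0))) (.node 2 (.node 1 (.leaf 0x0) (.leaf 0x0)) (.node 1 (.leaf 0x0) (.leaf 0x0))))) (.node 8 (.node 4 (.node 2 (.node 1 (.leaf 0x0) (.leaf 0x0)) (.node 1 (.leaf 0x0) (.leaf 0x0))) (.node 2 (.node 1 (.leaf 0x0) (.leaf 0x0)) (.node 1 (.leaf 0x0) (.leaf 0x0)))) (.node 4 (.node 2 (.node 1 (.leaf 0x0) (.leaf 0x0)) (.node 1 (.leaf 0x0) (.leaf 0x0))) (.node 2 (.node 1 (.leaf 0x0) (.leaf 0x0)) (.node 1 (.leaf 0x0) (.leaf 0x0)))))) (.node 16 (.node 8 (.node 4 (.node 2 (.node 1 (.leaf 0x0) (.leaf 0x0)) (.node 1 (.leaf 0x0) (.leaf 0x0))) (.node 2 (.node 1 (.leaf 0x0) (.leaf 0x0)) (.node 1 (.leaf 0x0) (.leaf 0x0)))) (.node 4 (.node 2 (.node 1 (.leaf 0x0) (.leaf 0x0)) (.node 1 (.leaf 0x0) (.leaf 0x0))) (.node 2 (.node 1 (.leaf 0x0) (.leaf 0x0)) (.node 1 (.leaf 0x0) (.leaf 0x0))))) (.node 8 (.node 4 (.node 2 (.node 1 (.leaf 0x0) (.leaf 0x0)) (.node 1 (.leaf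 0x0) (.leaf 0x0))) (.node 2 (.node 1 (.leaf 0x0) (.leaf 0x0)) (.node 1 (.leaf 0x0) (.leaf 0x0)))) (.node 4 (.node 2 (.node 1 (.leaf 0x0) (.leaf 0x0)) (.node 1 (.leaf 0x0) (.leaf 0x0))) (.node 2 (.node 1 (.leaf 0x0) (.leaf 0x0)) (.node 1 (.leaf 0x0) (.leaf 0x0)))))))

def moves5_18 : Tree :=
  .node 64 (.node 32 (.node 16 (.node 8 (.node 4 (.node 2 (.node 1 (.leaf 0x0) (.leaf 0x0)) (.node 1 (.leaf 0x0) (.leaf 0x0))) (.node 2 (.node 1 (.leaf 0x0) (.leaf 0x0)) (.node 1 (.leaf 0x0) (.leaf 0x0)))) (.node 4 (.node 2 (.node 1 (.leaf 0x0) (.leaf 0x0)) (.node 1 (.leaf 0x0) (.leaf 0x0))) (.node 2 (.node 1 (.leaf 0x0) (.leaf 0x0)) (.node 1 (.leaf 0x0) (.leaf 0x0))))) (.node 8 (.node 4 (.node 2 (.node 1 (.leaf 0x0) (.leaf 0x0)) (.node 1 (.leaf 0x0) (.leaf 0x0))) (.node 2 (.node 1 (.leaf 0x0) (.leaf 0x0)) (.node 1 (.leaf 0x0) (.leaf 0x0)))) (.node 4 (.node 2 (.node 1 (.leaf 0x0) (.leaf 0x0)) (.node 1 (.leaf 0x0) (.leaf 0x0))) (.node 2 (.node 1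 (.leaf 0x0) (.leaf 0x0)) (.node 1 (.leaf 0x0) (.leaf 0x0)))))) (.node 16 (.node 8 (.node 4 (.node 2 (.node 1 (.leaf 0x0) (.leaf 0x0)) (.node 1 (.leaf 0x0) (.leaf 0x0))) (.node 2 (.node 1 (.leaf 0x0) (.leaf 0x0)) (.node 1 (.leaf 0x0) (.leaf 0x0)))) (.node 4 (.node 2 (.node 1 (.leaf 0x0) (.leaf 0x0)) (.node 1 (.leaf 0x0) (.leaf 0x0))) (.node 2 (.node 1 (.leaf 0x0) (.leaf 0x0)) (.node 1 (.leaf 0x0) (.leaf 0x0))))) (.node 8 (.node 4 (.node 2 (.node 1 (.leaf 0x0) (.leaf 0x0)) (.node 1 (.leaf 0x0) (.leaf 0x0))) (.node 2 (.node 1 (.leaf 0x0) (.leaf 0x0)) (.node 1 (.leaf 0x0) (.leaf 0x0)))) (.node 4 (.node 2 (.node 1 (.leaf 0x0) (.leaf 0x0)) (.node 1 (.leaf 0x0) (.leaf 0x0))) (.node 2 (.node 1 (.leaf 0x0) (.leaf 0x0)) (.node 1 (.leaf 0x0) (.leaf 0x0))))))) (.node 32 (.node 16 (.node 8 (.node 4 (.node 2 (.node 1 (.leaf 0x0) (.leaf 0x0)) (.node 1 (.leaf 0x0) (.leaf 0x0))) (.node 2 (.node 1 (.leaf 0x0) (.leaf 0x0)) (.node 1 (.leaf 0x0) (.leaf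 0x0)))) (.node 4 (.node 2 (.node 1 (.leaf 0x0) (.leaf 0x0)) (.node 1 (.leaf 0x0) (.leaf 0x0))) (.node 2 (.node 1 (.leaf 0x0) (.leaf 0x0)) (.node 1 (.leaf 0x0) (.leaf 0x0))))) (.node 8 (.node 4 (.node 2 (.node 1 (.leaf 0x0) (.leaf 0x0)) (.node 1 (.leaf 0x0) (.leaf 0x0))) (.node 2 (.node 1 (.leaf 0x0) (.leaf 0x0)) (.node 1 (.leaf 0x0) (.leaf 0x0)))) (.node 4 (.node 2 (.node 1 (.leaf 0x0) (.leaf 0x0)) (.node 1 (.leaf 0x0) (.leaf 0x0))) (.node 2 (.node 1 (.leaf 0x0) (.leaf 0x0)) (.node 1 (.leaf 0x0) (.leaf 0x0)))))) (.node 16 (.node 8 (.node 4 (.node 2 (.node 1 (.leaf 0x0) (.leaf 0x0)) (.node 1 (.leaf 0x0) (.leaf 0x0))) (.node 2 (.node 1 (.leaf 0x0) (.leaf 0x0)) (.node 1 (.leaf 0x0) (.leaf 0x0)))) (.node 4 (.node 2 (.node 1 (.leaf 0x0) (.leaf 0x0)) (.node 1 (.leaf 0x0) (.leaf 0x0))) (.node 2 (.node 1 (.leaf 0x0) (.leaf 0x0)) (.node 1 (.leaf 0x0) (.leaf 0x0))))) (.node 8 (.node 4 (.node 2 (.node 1 (.leaf 0x0) (.leaf 0x0)) (.node 1 (.leaf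 0x0) (.leaf 0x0))) (.node 2 (.node 1 (.leaf 0x0) (.leaf 0x0)) (.node 1 (.leaf 0x0) (.leaf 0x0)))) (.node 4 (.node 2 (.node 1 (.leaf 0x0) (.leaf 0x0)) (.node 1 (.leaf 0x0) (.leaf 0x0))) (.node 2 (.node 1 (.leaf 0x0) (.leaf 0x0)) (.node 1 (.leaf 0x0) (.leaf 0x0)))))))

def moves5_19 : Tree :=
  .node 64 (.node 32 (.node 16 (.node 8 (.node 4 (.node 2 (.node 1 (.leaf 0x0) (.leaf 0x0)) (.node 1 (.leaf 0x0) (.leaf 0x0))) (.node 2 (.node 1 (.leaf 0x0) (.leaf 0x0)) (.node 1 (.leaf 0x0) (.leaf 0x0)))) (.node 4 (.node 2 (.node 1 (.leaf 0x0) (.leaf 0x0)) (.node 1 (.leaf 0x0) (.leaf 0x0))) (.node 2 (.node 1 (.leaf 0x0) (.leaf 0x0)) (.node 1 (.leaf 0x0) (.leaf 0x0))))) (.node 8 (.node 4 (.node 2 (.node 1 (.leaf 0x0) (.leaf 0x0)) (.node 1 (.leaf 0x0) (.leaf 0x0))) (.node 2 (.node 1 (.leaf 0x0) (.leaf 0x0)) (.node 1 (.leaf 0x0) (.leaf 0x0)))) (.node 4 (.node 2 (.node 1 (.leaf 0x0) (.leaf 0x0)) (.node 1 (.leaf 0x0) (.leaf 0x0))) (.node 2 (.node 1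 (.leaf 0x0) (.leaf 0x0)) (.node 1 (.leaf 0x0) (.leaf 0x0)))))) (.node 16 (.node 8 (.node 4 (.node 2 (.node 1 (.leaf 0x0) (.leaf 0x0)) (.node 1 (.leaf 0x0) (.leaf 0x0))) (.node 2 (.node 1 (.leaf 0x0) (.leaf 0x0)) (.node 1 (.leaf 0x0) (.leaf 0x0)))) (.node 4 (.node 2 (.node 1 (.leaf 0x0) (.leaf 0x0)) (.node 1 (.leaf 0x0) (.leaf 0x0))) (.node 2 (.node 1 (.leaf 0x0) (.leaf 0x0)) (.node 1 (.leaf 0x0) (.leaf 0x0))))) (.node 8 (.node 4 (.node 2 (.node 1 (.leaf 0x0) (.leaf 0x0)) (.node 1 (.leaf 0x0) (.leaf 0x0))) (.node 2 (.node 1 (.leaf 0x0) (.leaf 0x0)) (.node 1 (.leaf 0x0) (.leaf 0x0)))) (.node 4 (.node 2 (.node 1 (.leaf 0x0) (.leaf 0x0)) (.node 1 (.leaf 0x0) (.leaf 0x0))) (.node 2 (.node 1 (.leaf 0x0) (.leaf 0x0)) (.node 1 (.leaf 0x0) (.leaf 0x0))))))) (.node 32 (.node 16 (.node 8 (.node 4 (.node 2 (.node 1 (.leaf 0x0) (.leaf 0x0)) (.node 1 (.leaf 0x0) (.leaf 0x0))) (.node 2 (.node 1 (.leaf 0x0) (.leaf 0x0)) (.node 1 (.leaf 0x0) (.leaf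 0x0)))) (.node 4 (.node 2 (.node 1 (.leaf 0x0) (.leaf 0x0)) (.node 1 (.leaf 0x0) (.leaf 0x0))) (.node 2 (.node 1 (.leaf 0x0) (.leaf 0x0)) (.node 1 (.leaf 0x0) (.leaf 0x0))))) (.node 8 (.node 4 (.node 2 (.node 1 (.leaf 0x0) (.leaf 0x0)) (.node 1 (.leaf 0x0) (.leaf 0x0))) (.node 2 (.node 1 (.leaf 0x0) (.leaf 0x0)) (.node 1 (.leaf 0x0) (.leaf 0x0)))) (.node 4 (.node 2 (.node 1 (.leaf 0x0) (.leaf 0x0)) (.node 1 (.leaf 0x0) (.leaf 0x0))) (.node 2 (.node 1 (.leaf 0x0) (.leaf 0x0)) (.node 1 (.leaf 0x0) (.leaf 0x0)))))) (.node 16 (.node 8 (.node 4 (.node 2 (.node 1 (.leaf 0x0) (.leaf 0x0)) (.node 1 (.leaf 0x0) (.leaf 0x0))) (.node 2 (.node 1 (.leaf 0x0) (.leaf 0x0)) (.node 1 (.leaf 0x0) (.leaf 0x0)))) (.node 4 (.node 2 (.node 1 (.leaf 0x0) (.leaf 0x0)) (.node 1 (.leaf 0x0) (.leaf 0x0))) (.node 2 (.node 1 (.leaf 0x0) (.leaf 0x0)) (.node 1 (.leaf 0x0) (.leaf 0x0))))) (.node 8 (.node 4 (.node 2 (.node 1 (.leaf 0x0) (.leaf 0x0)) (.node 1 (.leaf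 0x0) (.leaf 0x0))) (.node 2 (.node 1 (.leaf 0x0) (.leaf 0x0)) (.node 1 (.leaf 0x0) (.leaf 0x0)))) (.node 4 (.node 2 (.node 1 (.leaf 0x0) (.leaf 0x0)) (.node 1 (.leaf 0x0) (.leaf 0x0))) (.node 2 (.node 1 (.leaf 0x0) (.leaf 0x0)) (.node 1 (.leaf 0x0) (.leaf 0x0)))))))

def moves5_20 : Tree :=
  .node 64 (.node 32 (.node 16 (.node 8 (.node 4 (.node 2 (.node 1 (.leaf 0x0) (.leaf 0x0)) (.node 1 (.leaf 0x0) (.leaf 0x0))) (.node 2 (.node 1 (.leaf 0x0) (.leaf 0x0)) (.node 1 (.leaf 0x0) (.leaf 0x0)))) (.node 4 (.node 2 (.node 1 (.leaf 0x0) (.leaf 0x0)) (.node 1 (.leaf 0x0) (.leaf 0x0))) (.node 2 (.node 1 (.leaf 0x0) (.leaf 0x0)) (.node 1 (.leaf 0x0) (.leaf 0x0))))) (.node 8 (.node 4 (.node 2 (.node 1 (.leaf 0x0) (.leaf 0x0)) (.node 1 (.leaf 0x0) (.leaf 0x0))) (.node 2 (.node 1 (.leaf 0x0) (.leaf 0x0)) (.node 1 (.leaf 0x0) (.leaf 0x0)))) (.node 4 (.node 2 (.node 1 (.leaf 0x0) (.leaf 0x0)) (.node 1 (.leaf 0x0) (.leaf 0x0))) (.node 2 (.node 1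 (.leaf 0x0) (.leaf 0x0)) (.node 1 (.leaf 0x0) (.leaf 0x0)))))) (.node 16 (.node 8 (.node 4 (.node 2 (.node 1 (.leaf 0x0) (.leaf 0x0)) (.node 1 (.leaf 0x0) (.leaf 0x0))) (.node 2 (.node 1 (.leaf 0x0) (.leaf 0x0)) (.node 1 (.leaf 0x0) (.leaf 0x0)))) (.node 4 (.node 2 (.node 1 (.leaf 0x0) (.leaf 0x0)) (.node 1 (.leaf 0x0) (.leaf 0x0))) (.node 2 (.node 1 (.leaf 0x0) (.leaf 0x0)) (.node 1 (.leaf 0x0) (.leaf 0x0))))) (.node 8 (.node 4 (.node 2 (.node 1 (.leaf 0x0) (.leaf 0x0)) (.node 1 (.leaf 0x0) (.leaf 0x0))) (.node 2 (.node 1 (.leaf 0x0) (.leaf 0x0)) (.node 1 (.leaf 0x0) (.leaf 0x0)))) (.node 4 (.node 2 (.node 1 (.leaf 0x0) (.leaf 0x0)) (.node 1 (.leaf 0x0) (.leaf 0x0))) (.node 2 (.node 1 (.leaf 0x0) (.leaf 0x0)) (.node 1 (.leaf 0x0) (.leaf 0x0))))))) (.node 32 (.node 16 (.node 8 (.node 4 (.node 2 (.node 1 (.leaf 0x0) (.leaf 0x0)) (.node 1 (.leaf 0x0) (.leaf 0x0))) (.node 2 (.node 1 (.leaf 0x0) (.leaf 0x0)) (.node 1 (.leaf 0x0) (.leaf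 0x0)))) (.node 4 (.node 2 (.node 1 (.leaf 0x0) (.leaf 0x0)) (.node 1 (.leaf 0x0) (.leaf 0x0))) (.node 2 (.node 1 (.leaf 0x0) (.leaf 0x0)) (.node 1 (.leaf 0x0) (.leaf 0x0))))) (.node 8 (.node 4 (.node 2 (.node 1 (.leaf 0x0) (.leaf 0x0)) (.node 1 (.leaf 0x0) (.leaf 0x0))) (.node 2 (.node 1 (.leaf 0x0) (.leaf 0x0)) (.node 1 (.leaf 0x0) (.leaf 0x0)))) (.node 4 (.node 2 (.node 1 (.leaf 0x0) (.leaf 0x0)) (.node 1 (.leaf 0x0) (.leaf 0x0))) (.node 2 (.node 1 (.leaf 0x0) (.leaf 0x0)) (.node 1 (.leaf 0x0) (.leaf 0x0)))))) (.node 16 (.node 8 (.node 4 (.node 2 (.node 1 (.leaf 0x0) (.leaf 0x0)) (.node 1 (.leaf 0x0) (.leaf 0x0))) (.node 2 (.node 1 (.leaf 0x0) (.leaf 0x0)) (.node 1 (.leaf 0x0) (.leaf 0x0)))) (.node 4 (.node 2 (.node 1 (.leaf 0x0) (.leaf 0x0)) (.node 1 (.leaf 0x0) (.leaf 0x0))) (.node 2 (.node 1 (.leaf 0x0) (.leaf 0x0)) (.node 1 (.leaf 0x0) (.leaf 0x0))))) (.node 8 (.node 4 (.node 2 (.node 1 (.leaf 0x0) (.leaf 0x0)) (.node 1 (.leaf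 0x0) (.leaf 0x0))) (.node 2 (.node 1 (.leaf 0x0) (.leaf 0x0)) (.node 1 (.leaf 0x0) (.leaf 0x0)))) (.node 4 (.node 2 (.node 1 (.leaf 0x0) (.leaf 0x0)) (.node 1 (.leaf 0x0) (.leaf 0x0))) (.node 2 (.node 1 (.leaf 0x0) (.leaf 0x0)) (.node 1 (.leaf 0x0) (.leaf 0x0)))))))

def moves5_21 : Tree :=
  .node 64 (.node 32 (.node 16 (.node 8 (.node 4 (.node 2 (.node 1 (.leaf 0x0) (.leaf 0x0)) (.node 1 (.leaf 0x0) (.leaf 0x0))) (.node 2 (.node 1 (.leaf 0x0) (.leaf 0x0)) (.node 1 (.leaf 0x0) (.leaf 0x0)))) (.node 4 (.node 2 (.node 1 (.leaf 0x0) (.leaf 0x0)) (.node 1 (.leaf 0x0) (.leaf 0x0))) (.node 2 (.node 1 (.leaf 0x0) (.leaf 0x0)) (.node 1 (.leaf 0x0) (.leaf 0x0))))) (.node 8 (.node 4 (.node 2 (.node 1 (.leaf 0x0) (.leaf 0x0)) (.node 1 (.leaf 0x0) (.leaf 0x0))) (.node 2 (.node 1 (.leaf 0x0) (.leaf 0x0)) (.node 1 (.leaf 0x0) (.leaf 0x0)))) (.node 4 (.node 2 (.node 1 (.leaf 0x0) (.leaf 0x0)) (.node 1 (.leaf 0x0) (.leaf 0x0))) (.node 2 (.node 1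 (.leaf 0x0) (.leaf 0x0)) (.node 1 (.leaf 0x0) (.leaf 0x0)))))) (.node 16 (.node 8 (.node 4 (.node 2 (.node 1 (.leaf 0x0) (.leaf 0x0)) (.node 1 (.leaf 0x0) (.leaf 0x0))) (.node 2 (.node 1 (.leaf 0x0) (.leaf 0x0)) (.node 1 (.leaf 0x0) (.leaf 0x0)))) (.node 4 (.node 2 (.node 1 (.leaf 0x0) (.leaf 0x0)) (.node 1 (.leaf 0x0) (.leaf 0x0))) (.node 2 (.node 1 (.leaf 0x0) (.leaf 0x0)) (.node 1 (.leaf 0x0) (.leaf 0x0))))) (.node 8 (.node 4 (.node 2 (.node 1 (.leaf 0x0) (.leaf 0x0)) (.node 1 (.leaf 0x0) (.leaf 0x0))) (.node 2 (.node 1 (.leaf 0x0) (.leaf 0x0)) (.node 1 (.leaf 0x0) (.leaf 0x0)))) (.node 4 (.node 2 (.node 1 (.leaf 0x0) (.leaf 0x0)) (.node 1 (.leaf 0x0) (.leaf 0x0))) (.node 2 (.node 1 (.leaf 0x0) (.leaf 0x0)) (.node 1 (.leaf 0x0) (.leaf 0x0))))))) (.node 32 (.node 16 (.node 8 (.node 4 (.node 2 (.node 1 (.leaf 0x0) (.leaf 0x0)) (.node 1 (.leaf 0x0) (.leaf 0x0))) (.node 2 (.node 1 (.leaf 0x0) (.leaf 0x0)) (.node 1 (.leaf 0x0) (.leaf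 0x0)))) (.node 4 (.node 2 (.node 1 (.leaf 0x0) (.leaf 0x0)) (.node 1 (.leaf 0x0) (.leaf 0x0))) (.node 2 (.node 1 (.leaf 0x0) (.leaf 0x0)) (.node 1 (.leaf 0x0) (.leaf 0x0))))) (.node 8 (.node 4 (.node 2 (.node 1 (.leaf 0x0) (.leaf 0x0)) (.node 1 (.leaf 0x0) (.leaf 0x0))) (.node 2 (.node 1 (.leaf 0x0) (.leaf 0x0)) (.node 1 (.leaf 0x0) (.leaf 0x0)))) (.node 4 (.node 2 (.node 1 (.leaf 0x0) (.leaf 0x0)) (.node 1 (.leaf 0x0) (.leaf 0x0))) (.node 2 (.node 1 (.leaf 0x0) (.leaf 0x0)) (.node 1 (.leaf 0x0) (.leaf 0x0)))))) (.node 16 (.node 8 (.node 4 (.node 2 (.node 1 (.leaf 0x0) (.leaf 0x0)) (.node 1 (.leaf 0x0) (.leaf 0x0))) (.node 2 (.node 1 (.leaf 0x0) (.leaf 0x0)) (.node 1 (.leaf 0x0) (.leaf 0x0)))) (.node 4 (.node 2 (.node 1 (.leaf 0x0) (.leaf 0x0)) (.node 1 (.leaf 0x0) (.leaf 0x0))) (.node 2 (.node 1 (.leaf 0x0) (.leaf 0x0)) (.node 1 (.leaf 0x0) (.leaf 0x0))))) (.node 8 (.node 4 (.node 2 (.node 1 (.leaf 0x0) (.leaf 0x0)) (.node 1 (.leaf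 0x0) (.leaf 0x0))) (.node 2 (.node 1 (.leaf 0x0) (.leaf 0x0)) (.node 1 (.leaf 0x0) (.leaf 0x0)))) (.node 4 (.node 2 (.node 1 (.leaf 0x0) (.leaf 0x0)) (.node 1 (.leaf 0x0) (.leaf 0x0))) (.node 2 (.node 1 (.leaf 0x0) (.leaf 0x0)) (.node 1 (.leaf 0x0) (.leaf 0x0)))))))

def moves5_22 : Tree :=
  .node 64 (.node 32 (.node 16 (.node 8 (.node 4 (.node 2 (.node 1 (.leaf 0x0) (.leaf 0x0)) (.node 1 (.leaf 0x0) (.leaf 0x0))) (.node 2 (.node 1 (.leaf 0x0) (.leaf 0x0)) (.node 1 (.leaf 0x0) (.leaf 0x0)))) (.node 4 (.node 2 (.node 1 (.leaf 0x0) (.leaf 0x0)) (.node 1 (.leaf 0x0) (.leaf 0x0))) (.node 2 (.node 1 (.leaf 0x0) (.leaf 0x0)) (.node 1 (.leaf 0x0) (.leaf 0x0))))) (.node 8 (.node 4 (.node 2 (.node 1 (.leaf 0x0) (.leaf 0x0)) (.node 1 (.leaf 0x0) (.leaf 0x0))) (.node 2 (.node 1 (.leaf 0x0) (.leaf 0x0)) (.node 1 (.leaf 0x0) (.leaf 0x0)))) (.node 4 (.node 2 (.node 1 (.leaf 0x0) (.leaf 0x0)) (.node 1 (.leaf 0x0) (.leaf 0x0))) (.node 2 (.node 1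 (.leaf 0x0) (.leaf 0x0)) (.node 1 (.leaf 0x0) (.leaf 0x0)))))) (.node 16 (.node 8 (.node 4 (.node 2 (.node 1 (.leaf 0x0) (.leaf 0x0)) (.node 1 (.leaf 0x0) (.leaf 0x0))) (.node 2 (.node 1 (.leaf 0x0) (.leaf 0x0)) (.node 1 (.leaf 0x0) (.leaf 0x0)))) (.node 4 (.node 2 (.node 1 (.leaf 0x0) (.leaf 0x0)) (.node 1 (.leaf 0x0) (.leaf 0x0))) (.node 2 (.node 1 (.leaf 0x0) (.leaf 0x0)) (.node 1 (.leaf 0x0) (.leaf 0x0))))) (.node 8 (.node 4 (.node 2 (.node 1 (.leaf 0x0) (.leaf 0x0)) (.node 1 (.leaf 0x0) (.leaf 0x0))) (.node 2 (.node 1 (.leaf 0x0) (.leaf 0x0)) (.node 1 (.leaf 0x0) (.leaf 0x0)))) (.node 4 (.node 2 (.node 1 (.leaf 0x0) (.leaf 0x0)) (.node 1 (.leaf 0x0) (.leaf 0x0))) (.node 2 (.node 1 (.leaf 0x0) (.leaf 0x0)) (.node 1 (.leaf 0x0) (.leaf 0x0))))))) (.node 32 (.node 16 (.node 8 (.node 4 (.node 2 (.node 1 (.leaf 0x0) (.leaf 0x0)) (.node 1 (.leaf 0x0) (.leaf 0x0))) (.node 2 (.node 1 (.leaf 0x0) (.leaf 0x0)) (.node 1 (.leaf 0x0) (.leaf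 0x0)))) (.node 4 (.node 2 (.node 1 (.leaf 0x0) (.leaf 0x0)) (.node 1 (.leaf 0x0) (.leaf 0x0))) (.node 2 (.node 1 (.leaf 0x0) (.leaf 0x0)) (.node 1 (.leaf 0x0) (.leaf 0x0))))) (.node 8 (.node 4 (.node 2 (.node 1 (.leaf 0x0) (.leaf 0x0)) (.node 1 (.leaf 0x0) (.leaf 0x0))) (.node 2 (.node 1 (.leaf 0x0) (.leaf 0x0)) (.node 1 (.leaf 0x0) (.leaf 0x0)))) (.node 4 (.node 2 (.node 1 (.leaf 0x0) (.leaf 0x0)) (.node 1 (.leaf 0x0) (.leaf 0x0))) (.node 2 (.node 1 (.leaf 0x0) (.leaf 0x0)) (.node 1 (.leaf 0x0) (.leaf 0x0)))))) (.node 16 (.node 8 (.node 4 (.node 2 (.node 1 (.leaf 0x0) (.leaf 0x0)) (.node 1 (.leaf 0x0) (.leaf 0x0))) (.node 2 (.node 1 (.leaf 0x0) (.leaf 0x0)) (.node 1 (.leaf 0x0) (.leaf 0x0)))) (.node 4 (.node 2 (.node 1 (.leaf 0x0) (.leaf 0x0)) (.node 1 (.leaf 0x0) (.leaf 0x0))) (.node 2 (.node 1 (.leaf 0x0) (.leaf 0x0)) (.node 1 (.leaf 0x0) (.leaf 0x0))))) (.node 8 (.node 4 (.node 2 (.node 1 (.leaf 0x0) (.leaf 0x0)) (.node 1 (.leaf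 0x0) (.leaf 0x0))) (.node 2 (.node 1 (.leaf 0x0) (.leaf 0x0)) (.node 1 (.leaf 0x0) (.leaf 0x0)))) (.node 4 (.node 2 (.node 1 (.leaf 0x0) (.leaf 0x0)) (.node 1 (.leaf 0x0) (.leaf 0x0))) (.node 2 (.node 1 (.leaf 0x0) (.leaf 0x0)) (.node 1 (.leaf 0x0) (.leaf 0x0)))))))

def moves5_23 : Tree :=
  .node 64 (.node 32 (.node 16 (.node 8 (.node 4 (.node 2 (.node 1 (.leaf 0x0) (.leaf 0x0)) (.node 1 (.leaf 0x0) (.leaf 0x0))) (.node 2 (.node 1 (.leaf 0x0) (.leaf 0x0)) (.node 1 (.leaf 0x0) (.leaf 0x0)))) (.node 4 (.node 2 (.node 1 (.leaf 0x0) (.leaf 0x0)) (.node 1 (.leaf 0x0) (.leaf 0x0))) (.node 2 (.node 1 (.leaf 0x0) (.leaf 0x0)) (.node 1 (.leaf 0x0) (.leaf 0x0))))) (.node 8 (.node 4 (.node 2 (.node 1 (.leaf 0x0) (.leaf 0x0)) (.node 1 (.leaf 0x0) (.leaf 0x0))) (.node 2 (.node 1 (.leaf 0x0) (.leaf 0x0)) (.node 1 (.leaf 0x0) (.leaf 0x0)))) (.node 4 (.node 2 (.node 1 (.leaf 0x0) (.leaf 0x0)) (.node 1 (.leaf 0x0) (.leaf 0x0))) (.node 2 (.node 1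 (.leaf 0x0) (.leaf 0x0)) (.node 1 (.leaf 0x0) (.leaf 0x0)))))) (.node 16 (.node 8 (.node 4 (.node 2 (.node 1 (.leaf 0x0) (.leaf 0x0)) (.node 1 (.leaf 0x0) (.leaf 0x0))) (.node 2 (.node 1 (.leaf 0x0) (.leaf 0x0)) (.node 1 (.leaf 0x0) (.leaf 0x0)))) (.node 4 (.node 2 (.node 1 (.leaf 0x0) (.leaf 0x0)) (.node 1 (.leaf 0x0) (.leaf 0x0))) (.node 2 (.node 1 (.leaf 0x0) (.leaf 0x0)) (.node 1 (.leaf 0x0) (.leaf 0x0))))) (.node 8 (.node 4 (.node 2 (.node 1 (.leaf 0x0) (.leaf 0x0)) (.node 1 (.leaf 0x0) (.leaf 0x0))) (.node 2 (.node 1 (.leaf 0x0) (.leaf 0x0)) (.node 1 (.leaf 0x0) (.leaf 0x0)))) (.node 4 (.node 2 (.node 1 (.leaf 0x0) (.leaf 0x0)) (.node 1 (.leaf 0x0) (.leaf 0x0))) (.node 2 (.node 1 (.leaf 0x0) (.leaf 0x0)) (.node 1 (.leaf 0x0) (.leaf 0x0))))))) (.node 32 (.node 16 (.node 8 (.node 4 (.node 2 (.node 1 (.leaf 0x0) (.leaf 0x0)) (.node 1 (.leaf 0x0) (.leaf 0x0))) (.node 2 (.node 1 (.leaf 0x0) (.leaf 0x0)) (.node 1 (.leaf 0x0) (.leaf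 0x0)))) (.node 4 (.node 2 (.node 1 (.leaf 0x0) (.leaf 0x0)) (.node 1 (.leaf 0x0) (.leaf 0x0))) (.node 2 (.node 1 (.leaf 0x0) (.leaf 0x0)) (.node 1 (.leaf 0x0) (.leaf 0x0))))) (.node 8 (.node 4 (.node 2 (.node 1 (.leaf 0x0) (.leaf 0x0)) (.node 1 (.leaf 0x0) (.leaf 0x0))) (.node 2 (.node 1 (.leaf 0x0) (.leaf 0x0)) (.node 1 (.leaf 0x0) (.leaf 0x0)))) (.node 4 (.node 2 (.node 1 (.leaf 0x0) (.leaf 0x0)) (.node 1 (.leaf 0x0) (.leaf 0x0))) (.node 2 (.node 1 (.leaf 0x0) (.leaf 0x0)) (.node 1 (.leaf 0x0) (.leaf 0x0)))))) (.node 16 (.node 8 (.node 4 (.node 2 (.node 1 (.leaf 0x0) (.leaf 0x0)) (.node 1 (.leaf 0x0) (.leaf 0x0))) (.node 2 (.node 1 (.leaf 0x0) (.leaf 0x0)) (.node 1 (.leaf 0x0) (.leaf 0x0)))) (.node 4 (.node 2 (.node 1 (.leaf 0x0) (.leaf 0x0)) (.node 1 (.leaf 0x0) (.leaf 0x0))) (.node 2 (.node 1 (.leaf 0x0) (.leaf 0x0)) (.node 1 (.leaf 0x0) (.leaf 0x0))))) (.node 8 (.node 4 (.node 2 (.node 1 (.leaf 0x0) (.leaf 0x0)) (.node 1 (.leaf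 0x0) (.leaf 0x0))) (.node 2 (.node 1 (.leaf 0x0) (.leaf 0x0)) (.node 1 (.leaf 0x0) (.leaf 0x0)))) (.node 4 (.node 2 (.node 1 (.leaf 0x0) (.leaf 0x0)) (.node 1 (.leaf 0x0) (.leaf 0x0))) (.node 2 (.node 1 (.leaf 0x0) (.leaf 0x0)) (.node 1 (.leaf 0x0) (.leaf 0x0)))))))

def moves5_24 : Tree :=
  .node 64 (.node 32 (.node 16 (.node 8 (.node 4 (.node 2 (.node 1 (.leaf 0x0) (.leaf 0x0)) (.node 1 (.leaf 0x0) (.leaf 0x0))) (.node 2 (.node 1 (.leaf 0x0) (.leaf 0x0)) (.node 1 (.leaf 0x0) (.leaf 0x0)))) (.node 4 (.node 2 (.node 1 (.leaf 0x0) (.leaf 0x0)) (.node 1 (.leaf 0x0) (.leaf 0x0))) (.node 2 (.node 1 (.leaf 0x0) (.leaf 0x0)) (.node 1 (.leaf 0x0) (.leaf 0x0))))) (.node 8 (.node 4 (.node 2 (.node 1 (.leaf 0x0) (.leaf 0x0)) (.node 1 (.leaf 0x0) (.leaf 0x0))) (.node 2 (.node 1 (.leaf 0x0) (.leaf 0x0)) (.node 1 (.leaf 0x0) (.leaf 0x0)))) (.node 4 (.node 2 (.node 1 (.leaf 0x0) (.leaf 0x0)) (.node 1 (.leaf 0x0) (.leaf 0x0))) (.node 2 (.node 1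 (.leaf 0x0) (.leaf 0x0)) (.node 1 (.leaf 0x0) (.leaf 0x0)))))) (.node 16 (.node 8 (.node 4 (.node 2 (.node 1 (.leaf 0x0) (.leaf 0x0)) (.node 1 (.leaf 0x0) (.leaf 0x0))) (.node 2 (.node 1 (.leaf 0x0) (.leaf 0x0)) (.node 1 (.leaf 0x0) (.leaf 0x0)))) (.node 4 (.node 2 (.node 1 (.leaf 0x0) (.leaf 0x0)) (.node 1 (.leaf 0x0) (.leaf 0x0))) (.node 2 (.node 1 (.leaf 0x0) (.leaf 0x0)) (.node 1 (.leaf 0x0) (.leaf 0x0))))) (.node 8 (.node 4 (.node 2 (.node 1 (.leaf 0x0) (.leaf 0x0)) (.node 1 (.leaf 0x0) (.leaf 0x0))) (.node 2 (.node 1 (.leaf 0x0) (.leaf 0x0)) (.node 1 (.leaf 0x0) (.leaf 0x0)))) (.node 4 (.node 2 (.node 1 (.leaf 0x0) (.leaf 0x0)) (.node 1 (.leaf 0x0) (.leaf 0x0))) (.node 2 (.node 1 (.leaf 0x0) (.leaf 0x0)) (.node 1 (.leaf 0x0) (.leaf 0x0))))))) (.node 32 (.node 16 (.node 8 (.node 4 (.node 2 (.node 1 (.leaf 0x0) (.leaf 0x0)) (.node 1 (.leaf 0x0) (.leaf 0x0))) (.node 2 (.node 1 (.leaf 0x0) (.leaf 0x0)) (.node 1 (.leaf 0x0) (.leaf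 0x0)))) (.node 4 (.node 2 (.node 1 (.leaf 0x0) (.leaf 0x0)) (.node 1 (.leaf 0x0) (.leaf 0x0))) (.node 2 (.node 1 (.leaf 0x0) (.leaf 0x0)) (.node 1 (.leaf 0x0) (.leaf 0x0))))) (.node 8 (.node 4 (.node 2 (.node 1 (.leaf 0x0) (.leaf 0x0)) (.node 1 (.leaf 0x0) (.leaf 0x0))) (.node 2 (.node 1 (.leaf 0x0) (.leaf 0x0)) (.node 1 (.leaf 0x0) (.leaf 0x0)))) (.node 4 (.node 2 (.node 1 (.leaf 0x0) (.leaf 0x0)) (.node 1 (.leaf 0x0) (.leaf 0x0))) (.node 2 (.node 1 (.leaf 0x0) (.leaf 0x0)) (.node 1 (.leaf 0x0) (.leaf 0x0)))))) (.node 16 (.node 8 (.node 4 (.node 2 (.node 1 (.leaf 0x0) (.leaf 0x0)) (.node 1 (.leaf 0x0) (.leaf 0x0))) (.node 2 (.node 1 (.leaf 0x0) (.leaf 0x0)) (.node 1 (.leaf 0x0) (.leaf 0x0)))) (.node 4 (.node 2 (.node 1 (.leaf 0x0) (.leaf 0x0)) (.node 1 (.leaf 0x0) (.leaf 0x0))) (.node 2 (.node 1 (.leaf 0x0) (.leaf 0x0)) (.node 1 (.leaf 0x0) (.leaf 0x0))))) (.node 8 (.node 4 (.node 2 (.node 1 (.leaf 0x0) (.leaf 0x0)) (.node 1 (.leaf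 0x0) (.leaf 0x0))) (.node 2 (.node 1 (.leaf 0x0) (.leaf 0x0)) (.node 1 (.leaf 0x0) (.leaf 0x0)))) (.node 4 (.node 2 (.node 1 (.leaf 0x0) (.leaf 0x0)) (.node 1 (.leaf 0x0) (.leaf 0x0))) (.node 2 (.node 1 (.leaf 0x0) (.leaf 0x0)) (.node 1 (.leaf 0x0) (.leaf 0x0)))))))

def moves5_25 : Tree :=
  .node 64 (.node 32 (.node 16 (.node 8 (.node 4 (.node 2 (.node 1 (.leaf 0x0) (.leaf 0x0)) (.node 1 (.leaf 0x0) (.leaf 0x0))) (.node 2 (.node 1 (.leaf 0x0) (.leaf 0x0)) (.node 1 (.leaf 0x0) (.leaf 0x0)))) (.node 4 (.node 2 (.node 1 (.leaf 0x0) (.leaf 0x0)) (.node 1 (.leaf 0x0) (.leaf 0x0))) (.node 2 (.node 1 (.leaf 0x0) (.leaf 0x0)) (.node 1 (.leaf 0x0) (.leaf 0x0))))) (.node 8 (.node 4 (.node 2 (.node 1 (.leaf 0x0) (.leaf 0x0)) (.node 1 (.leaf 0x0) (.leaf 0x0))) (.node 2 (.node 1 (.leaf 0x0) (.leaf 0x0)) (.node 1 (.leaf 0x0) (.leaf 0x0)))) (.node 4 (.node 2 (.node 1 (.leaf 0x0) (.leaf 0x0)) (.node 1 (.leaf 0x0) (.leaf 0x0))) (.node 2 (.node 1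 (.leaf 0x0) (.leaf 0x0)) (.node 1 (.leaf 0x0) (.leaf 0x0)))))) (.node 16 (.node 8 (.node 4 (.node 2 (.node 1 (.leaf 0x0) (.leaf 0x0)) (.node 1 (.leaf 0x0) (.leaf 0x0))) (.node 2 (.node 1 (.leaf 0x0) (.leaf 0x0)) (.node 1 (.leaf 0x0) (.leaf 0x0)))) (.node 4 (.node 2 (.node 1 (.leaf 0x0) (.leaf 0x0)) (.node 1 (.leaf 0x0) (.leaf 0x0))) (.node 2 (.node 1 (.leaf 0x0) (.leaf 0x0)) (.node 1 (.leaf 0x0) (.leaf 0x0))))) (.node 8 (.node 4 (.node 2 (.node 1 (.leaf 0x0) (.leaf 0x0)) (.node 1 (.leaf 0x0) (.leaf 0x0))) (.node 2 (.node 1 (.leaf 0x0) (.leaf 0x0)) (.node 1 (.leaf 0x0) (.leaf 0x0)))) (.node 4 (.node 2 (.node 1 (.leaf 0x0) (.leaf 0x0)) (.node 1 (.leaf 0x0) (.leaf 0x0))) (.node 2 (.node 1 (.leaf 0x0) (.leaf 0x0)) (.node 1 (.leaf 0x0) (.leaf 0x0))))))) (.node 32 (.node 16 (.node 8 (.node 4 (.node 2 (.node 1 (.leaf 0x0) (.leaf 0x0)) (.node 1 (.leaf 0x0) (.leaf 0x0))) (.node 2 (.node 1 (.leaf 0x0) (.leaf 0x0)) (.node 1 (.leaf 0x0) (.leaf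 0x0)))) (.node 4 (.node 2 (.node 1 (.leaf 0x0) (.leaf 0x0)) (.node 1 (.leaf 0x0) (.leaf 0x0))) (.node 2 (.node 1 (.leaf 0x0) (.leaf 0x0)) (.node 1 (.leaf 0x0) (.leaf 0x0))))) (.node 8 (.node 4 (.node 2 (.node 1 (.leaf 0x0) (.leaf 0x0)) (.node 1 (.leaf 0x0) (.leaf 0x0))) (.node 2 (.node 1 (.leaf 0x0) (.leaf 0x0)) (.node 1 (.leaf 0x0) (.leaf 0x0)))) (.node 4 (.node 2 (.node 1 (.leaf 0x0) (.leaf 0x0)) (.node 1 (.leaf 0x0) (.leaf 0x0))) (.node 2 (.node 1 (.leaf 0x0) (.leaf 0x0)) (.node 1 (.leaf 0x0) (.leaf 0x0)))))) (.node 16 (.node 8 (.node 4 (.node 2 (.node 1 (.leaf 0x0) (.leaf 0x0)) (.node 1 (.leaf 0x0) (.leaf 0x0))) (.node 2 (.node 1 (.leaf 0x0) (.leaf 0x0)) (.node 1 (.leaf 0x0) (.leaf 0x0)))) (.node 4 (.node 2 (.node 1 (.leaf 0x0) (.leaf 0x0)) (.node 1 (.leaf 0x0) (.leaf 0x0))) (.node 2 (.node 1 (.leaf 0x0) (.leaf 0x0)) (.node 1 (.leaf 0x0) (.leaf 0x0))))) (.node 8 (.node 4 (.node 2 (.node 1 (.leaf 0x0) (.leaf 0x0)) (.node 1 (.leaf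 0x0) (.leaf 0x0))) (.node 2 (.node 1 (.leaf 0x0) (.leaf 0x0)) (.node 1 (.leaf 0x0) (.leaf 0x0)))) (.node 4 (.node 2 (.node 1 (.leaf 0x0) (.leaf 0x0)) (.node 1 (.leaf 0x0) (.leaf 0x0))) (.node 2 (.node 1 (.leaf 0x0) (.leaf 0x0)) (.node 1 (.leaf 0x0) (.leaf 0x0)))))))

def moves5_26 : Tree :=
  .node 64 (.node 32 (.node 16 (.node 8 (.node 4 (.node 2 (.node 1 (.leaf 0x0) (.leaf 0x0)) (.node 1 (.leaf 0x0) (.leaf 0x0))) (.node 2 (.node 1 (.leaf 0x0) (.leaf 0x0)) (.node 1 (.leaf 0x0) (.leaf 0x0)))) (.node 4 (.node 2 (.node 1 (.leaf 0x0) (.leaf 0x0)) (.node 1 (.leaf 0x0) (.leaf 0x0))) (.node 2 (.node 1 (.leaf 0x0) (.leaf 0x0)) (.node 1 (.leaf 0x0) (.leaf 0x0))))) (.node 8 (.node 4 (.node 2 (.node 1 (.leaf 0x0) (.leaf 0x0)) (.node 1 (.leaf 0x0) (.leaf 0x0))) (.node 2 (.node 1 (.leaf 0x0) (.leaf 0x0)) (.node 1 (.leaf 0x0) (.leaf 0x0)))) (.node 4 (.node 2 (.node 1 (.leaf 0x0) (.leaf 0x0)) (.node 1 (.leaf 0x0) (.leaf 0x0))) (.node 2 (.node 1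 (.leaf 0x0) (.leaf 0x0)) (.node 1 (.leaf 0x0) (.leaf 0x0)))))) (.node 16 (.node 8 (.node 4 (.node 2 (.node 1 (.leaf 0x0) (.leaf 0x0)) (.node 1 (.leaf 0x0) (.leaf 0x0))) (.node 2 (.node 1 (.leaf 0x0) (.leaf 0x0)) (.node 1 (.leaf 0x0) (.leaf 0x0)))) (.node 4 (.node 2 (.node 1 (.leaf 0x0) (.leaf 0x0)) (.node 1 (.leaf 0x0) (.leaf 0x0))) (.node 2 (.node 1 (.leaf 0x0) (.leaf 0x0)) (.node 1 (.leaf 0x0) (.leaf 0x0))))) (.node 8 (.node 4 (.node 2 (.node 1 (.leaf 0x0) (.leaf 0x0)) (.node 1 (.leaf 0x0) (.leaf 0x0))) (.node 2 (.node 1 (.leaf 0x0) (.leaf 0x0)) (.node 1 (.leaf 0x0) (.leaf 0x0)))) (.node 4 (.node 2 (.node 1 (.leaf 0x0) (.leaf 0x0)) (.node 1 (.leaf 0x0) (.leaf 0x0))) (.node 2 (.node 1 (.leaf 0x0) (.leaf 0x0)) (.node 1 (.leaf 0x0) (.leaf 0x0))))))) (.node 32 (.node 16 (.node 8 (.node 4 (.node 2 (.node 1 (.leaf 0x0) (.leaf 0x0)) (.node 1 (.leaf 0x0) (.leaf 0x0))) (.node 2 (.node 1 (.leaf 0x0) (.leaf 0x0)) (.node 1 (.leaf 0x0) (.leaf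 0x0)))) (.node 4 (.node 2 (.node 1 (.leaf 0x0) (.leaf 0x0)) (.node 1 (.leaf 0x0) (.leaf 0x0))) (.node 2 (.node 1 (.leaf 0x0) (.leaf 0x0)) (.node 1 (.leaf 0x0) (.leaf 0x0))))) (.node 8 (.node 4 (.node 2 (.node 1 (.leaf 0x0) (.leaf 0x0)) (.node 1 (.leaf 0x0) (.leaf 0x0))) (.node 2 (.node 1 (.leaf 0x0) (.leaf 0x0)) (.node 1 (.leaf 0x0) (.leaf 0x0)))) (.node 4 (.node 2 (.node 1 (.leaf 0x0) (.leaf 0x0)) (.node 1 (.leaf 0x0) (.leaf 0x0))) (.node 2 (.node 1 (.leaf 0x0) (.leaf 0x0)) (.node 1 (.leaf 0x0) (.leaf 0x0)))))) (.node 16 (.node 8 (.node 4 (.node 2 (.node 1 (.leaf 0x0) (.leaf 0x0)) (.node 1 (.leaf 0x0) (.leaf 0x0))) (.node 2 (.node 1 (.leaf 0x0) (.leaf 0x0)) (.node 1 (.leaf 0x0) (.leaf 0x0)))) (.node 4 (.node 2 (.node 1 (.leaf 0x0) (.leaf 0x0)) (.node 1 (.leaf 0x0) (.leaf 0x0))) (.node 2 (.node 1 (.leaf 0x0) (.leaf 0x0)) (.node 1 (.leaf 0x0) (.leaf 0x0))))) (.node 8 (.node 4 (.node 2 (.node 1 (.leaf 0x0) (.leaf 0x0)) (.node 1 (.leaf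 0x0) (.leaf 0x0))) (.node 2 (.node 1 (.leaf 0x0) (.leaf 0x0)) (.node 1 (.leaf 0x0) (.leaf 0x0)))) (.node 4 (.node 2 (.node 1 (.leaf 0x0) (.leaf 0x0)) (.node 1 (.leaf 0x0) (.leaf 0x0))) (.node 2 (.node 1 (.leaf 0x0) (.leaf 0x0)) (.node 1 (.leaf 0x0) (.leaf 0x0)))))))

def moves5_27 : Tree :=
  .node 64 (.node 32 (.node 16 (.node 8 (.node 4 (.node 2 (.node 1 (.leaf 0x0) (.leaf 0x0)) (.node 1 (.leaf 0x0) (.leaf 0x0))) (.node 2 (.node 1 (.leaf 0x0) (.leaf 0x0)) (.node 1 (.leaf 0x0) (.leaf 0x0)))) (.node 4 (.node 2 (.node 1 (.leaf 0x0) (.leaf 0x0)) (.node 1 (.leaf 0x0) (.leaf 0x0))) (.node 2 (.node 1 (.leaf 0x0) (.leaf 0x0)) (.node 1 (.leaf 0x0) (.leaf 0x0))))) (.node 8 (.node 4 (.node 2 (.node 1 (.leaf 0x0) (.leaf 0x0)) (.node 1 (.leaf 0x0) (.leaf 0x0))) (.node 2 (.node 1 (.leaf 0x0) (.leaf 0x0)) (.node 1 (.leaf 0x0) (.leaf 0x0)))) (.node 4 (.node 2 (.node 1 (.leaf 0x0) (.leaf 0x0)) (.node 1 (.leaf 0x0) (.leaf 0x0))) (.node 2 (.node 1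 (.leaf 0x0) (.leaf 0x0)) (.node 1 (.leaf 0x0) (.leaf 0x0)))))) (.node 16 (.node 8 (.node 4 (.node 2 (.node 1 (.leaf 0x0) (.leaf 0x0)) (.node 1 (.leaf 0x0) (.leaf 0x0))) (.node 2 (.node 1 (.leaf 0x0) (.leaf 0x0)) (.node 1 (.leaf 0x0) (.leaf 0x0)))) (.node 4 (.node 2 (.node 1 (.leaf 0x0) (.leaf 0x0)) (.node 1 (.leaf 0x0) (.leaf 0x0))) (.node 2 (.node 1 (.leaf 0x0) (.leaf 0x0)) (.node 1 (.leaf 0x0) (.leaf 0x0))))) (.node 8 (.node 4 (.node 2 (.node 1 (.leaf 0x0) (.leaf 0x0)) (.node 1 (.leaf 0x0) (.leaf 0x0))) (.node 2 (.node 1 (.leaf 0x0) (.leaf 0x0)) (.node 1 (.leaf 0x0) (.leaf 0x0)))) (.node 4 (.node 2 (.node 1 (.leaf 0x0) (.leaf 0x0)) (.node 1 (.leaf 0x0) (.leaf 0x0))) (.node 2 (.node 1 (.leaf 0x0) (.leaf 0x0)) (.node 1 (.leaf 0x0) (.leaf 0x0))))))) (.node 32 (.node 16 (.node 8 (.node 4 (.node 2 (.node 1 (.leaf 0x0) (.leaf 0x0)) (.node 1 (.leaf 0x0) (.leaf 0x0))) (.node 2 (.node 1 (.leaf 0x0) (.leaf 0x0)) (.node 1 (.leaf 0x0) (.leaf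 0x0)))) (.node 4 (.node 2 (.node 1 (.leaf 0x0) (.leaf 0x0)) (.node 1 (.leaf 0x0) (.leaf 0x0))) (.node 2 (.node 1 (.leaf 0x0) (.leaf 0x0)) (.node 1 (.leaf 0x0) (.leaf 0x0))))) (.node 8 (.node 4 (.node 2 (.node 1 (.leaf 0x0) (.leaf 0x0)) (.node 1 (.leaf 0x0) (.leaf 0x0))) (.node 2 (.node 1 (.leaf 0x0) (.leaf 0x0)) (.node 1 (.leaf 0x0) (.leaf 0x0)))) (.node 4 (.node 2 (.node 1 (.leaf 0x0) (.leaf 0x0)) (.node 1 (.leaf 0x0) (.leaf 0x0))) (.node 2 (.node 1 (.leaf 0x0) (.leaf 0x0)) (.node 1 (.leaf 0x0) (.leaf 0x0)))))) (.node 16 (.node 8 (.node 4 (.node 2 (.node 1 (.leaf 0x0) (.leaf 0x0)) (.node 1 (.leaf 0x0) (.leaf 0x0))) (.node 2 (.node 1 (.leaf 0x0) (.leaf 0x0)) (.node 1 (.leaf 0x0) (.leaf 0x0)))) (.node 4 (.node 2 (.node 1 (.leaf 0x0) (.leaf 0x0)) (.node 1 (.leaf 0x0) (.leaf 0x0))) (.node 2 (.node 1 (.leaf 0x0) (.leaf 0x0)) (.node 1 (.leaf 0x0) (.leaf 0x0))))) (.node 8 (.node 4 (.node 2 (.node 1 (.leaf 0x0) (.leaf 0x0)) (.node 1 (.leaf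 0x0) (.leaf 0x0))) (.node 2 (.node 1 (.leaf 0x0) (.leaf 0x0)) (.node 1 (.leaf 0x0) (.leaf 0x0)))) (.node 4 (.node 2 (.node 1 (.leaf 0x0) (.leaf 0x0)) (.node 1 (.leaf 0x0) (.leaf 0x0))) (.node 2 (.node 1 (.leaf 0x0) (.leaf 0x0)) (.node 1 (.leaf 0x0) (.leaf 0x0)))))))

def moves5_28 : Tree :=
  .node 64 (.node 32 (.node 16 (.node 8 (.node 4 (.node 2 (.node 1 (.leaf 0x0) (.leaf 0x0)) (.node 1 (.leaf 0x0) (.leaf 0x0))) (.node 2 (.node 1 (.leaf 0x0) (.leaf 0x0)) (.node 1 (.leaf 0x0) (.leaf 0x0)))) (.node 4 (.node 2 (.node 1 (.leaf 0x0) (.leaf 0x0)) (.node 1 (.leaf 0x0) (.leaf 0x0))) (.node 2 (.node 1 (.leaf 0x0) (.leaf 0x0)) (.node 1 (.leaf 0x0) (.leaf 0x0))))) (.node 8 (.node 4 (.node 2 (.node 1 (.leaf 0x0) (.leaf 0x0)) (.node 1 (.leaf 0x0) (.leaf 0x0))) (.node 2 (.node 1 (.leaf 0x0) (.leaf 0x0)) (.node 1 (.leaf 0x0) (.leaf 0x0)))) (.node 4 (.node 2 (.node 1 (.leaf 0x0) (.leaf 0x0)) (.node 1 (.leaf 0x0) (.leaf 0x0))) (.node 2 (.node 1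 (.leaf 0x0) (.leaf 0x0)) (.node 1 (.leaf 0x0) (.leaf 0x0)))))) (.node 16 (.node 8 (.node 4 (.node 2 (.node 1 (.leaf 0x0) (.leaf 0x0)) (.node 1 (.leaf 0x0) (.leaf 0x0))) (.node 2 (.node 1 (.leaf 0x0) (.leaf 0x0)) (.node 1 (.leaf 0x0) (.leaf 0x0)))) (.node 4 (.node 2 (.node 1 (.leaf 0x0) (.leaf 0x0)) (.node 1 (.leaf 0x0) (.leaf 0x0))) (.node 2 (.node 1 (.leaf 0x0) (.leaf 0x0)) (.node 1 (.leaf 0x0) (.leaf 0x0))))) (.node 8 (.node 4 (.node 2 (.node 1 (.leaf 0x0) (.leaf 0x0)) (.node 1 (.leaf 0x0) (.leaf 0x0))) (.node 2 (.node 1 (.leaf 0x0) (.leaf 0x0)) (.node 1 (.leaf 0x0) (.leaf 0x0)))) (.node 4 (.node 2 (.node 1 (.leaf 0x0) (.leaf 0x0)) (.node 1 (.leaf 0x0) (.leaf 0x0))) (.node 2 (.node 1 (.leaf 0x0) (.leaf 0x0)) (.node 1 (.leaf 0x0) (.leaf 0x0))))))) (.node 32 (.node 16 (.node 8 (.node 4 (.node 2 (.node 1 (.leaf 0x0) (.leaf 0x0)) (.node 1 (.leaf 0x0) (.leaf 0x0))) (.node 2 (.node 1 (.leaf 0x0) (.leaf 0x0)) (.node 1 (.leaf 0x0) (.leaf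 0x0)))) (.node 4 (.node 2 (.node 1 (.leaf 0x0) (.leaf 0x0)) (.node 1 (.leaf 0x0) (.leaf 0x0))) (.node 2 (.node 1 (.leaf 0x0) (.leaf 0x0)) (.node 1 (.leaf 0x0) (.leaf 0x0))))) (.node 8 (.node 4 (.node 2 (.node 1 (.leaf 0x0) (.leaf 0x0)) (.node 1 (.leaf 0x0) (.leaf 0x0))) (.node 2 (.node 1 (.leaf 0x0) (.leaf 0x0)) (.node 1 (.leaf 0x0) (.leaf 0x0)))) (.node 4 (.node 2 (.node 1 (.leaf 0x0) (.leaf 0x0)) (.node 1 (.leaf 0x0) (.leaf 0x0))) (.node 2 (.node 1 (.leaf 0x0) (.leaf 0x0)) (.node 1 (.leaf 0x0) (.leaf 0x0)))))) (.node 16 (.node 8 (.node 4 (.node 2 (.node 1 (.leaf 0x0) (.leaf 0x0)) (.node 1 (.leaf 0x0) (.leaf 0x0))) (.node 2 (.node 1 (.leaf 0x0) (.leaf 0x0)) (.node 1 (.leaf 0x0) (.leaf 0x0)))) (.node 4 (.node 2 (.node 1 (.leaf 0x0) (.leaf 0x0)) (.node 1 (.leaf 0x0) (.leaf 0x0))) (.node 2 (.node 1 (.leaf 0x0) (.leaf 0x0)) (.node 1 (.leaf 0x0) (.leaf 0x0))))) (.node 8 (.node 4 (.node 2 (.node 1 (.leaf 0x0) (.leaf 0x0)) (.node 1 (.leaf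 0x0) (.leaf 0x0))) (.node 2 (.node 1 (.leaf 0x0) (.leaf 0x0)) (.node 1 (.leaf 0x0) (.leaf 0x0)))) (.node 4 (.node 2 (.node 1 (.leaf 0x0) (.leaf 0x0)) (.node 1 (.leaf 0x0) (.leaf 0x0))) (.node 2 (.node 1 (.leaf 0x0) (.leaf 0x0)) (.node 1 (.leaf 0x0) (.leaf 0x0)))))))

def moves5_29 : Tree :=
  .node 64 (.node 32 (.node 16 (.node 8 (.node 4 (.node 2 (.node 1 (.leaf 0x0) (.leaf 0x0)) (.node 1 (.leaf 0x0) (.leaf 0x0))) (.node 2 (.node 1 (.leaf 0x0) (.leaf 0x0)) (.node 1 (.leaf 0x0) (.leaf 0x0)))) (.node 4 (.node 2 (.node 1 (.leaf 0x0) (.leaf 0x0)) (.node 1 (.leaf 0x0) (.leaf 0x0))) (.node 2 (.node 1 (.leaf 0x0) (.leaf 0x0)) (.node 1 (.leaf 0x0) (.leaf 0x0))))) (.node 8 (.node 4 (.node 2 (.node 1 (.leaf 0x0) (.leaf 0x0)) (.node 1 (.leaf 0x0) (.leaf 0x0))) (.node 2 (.node 1 (.leaf 0x0) (.leaf 0x0)) (.node 1 (.leaf 0x0) (.leaf 0x0)))) (.node 4 (.node 2 (.node 1 (.leaf 0x0) (.leaf 0x0)) (.node 1 (.leaf 0x0) (.leaf 0x0))) (.node 2 (.node 1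 (.leaf 0x0) (.leaf 0x0)) (.node 1 (.leaf 0x0) (.leaf 0x0)))))) (.node 16 (.node 8 (.node 4 (.node 2 (.node 1 (.leaf 0x0) (.leaf 0x0)) (.node 1 (.leaf 0x0) (.leaf 0x0))) (.node 2 (.node 1 (.leaf 0x0) (.leaf 0x0)) (.node 1 (.leaf 0x0) (.leaf 0x0)))) (.node 4 (.node 2 (.node 1 (.leaf 0x0) (.leaf 0x0)) (.node 1 (.leaf 0x0) (.leaf 0x0))) (.node 2 (.node 1 (.leaf 0x0) (.leaf 0x0)) (.node 1 (.leaf 0x0) (.leaf 0x0))))) (.node 8 (.node 4 (.node 2 (.node 1 (.leaf 0x0) (.leaf 0x0)) (.node 1 (.leaf 0x0) (.leaf 0x0))) (.node 2 (.node 1 (.leaf 0x0) (.leaf 0x0)) (.node 1 (.leaf 0x0) (.leaf 0x0)))) (.node 4 (.node 2 (.node 1 (.leaf 0x0) (.leaf 0x0)) (.node 1 (.leaf 0x0) (.leaf 0x0))) (.node 2 (.node 1 (.leaf 0x0) (.leaf 0x0)) (.node 1 (.leaf 0x0) (.leaf 0x0))))))) (.node 32 (.node 16 (.node 8 (.node 4 (.node 2 (.node 1 (.leaf 0x0) (.leaf 0x0)) (.node 1 (.leaf 0x0) (.leaf 0x0))) (.node 2 (.node 1 (.leaf 0x0) (.leaf 0x0)) (.node 1 (.leaf 0x0) (.leaf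 0x0)))) (.node 4 (.node 2 (.node 1 (.leaf 0x0) (.leaf 0x0)) (.node 1 (.leaf 0x0) (.leaf 0x0))) (.node 2 (.node 1 (.leaf 0x0) (.leaf 0x0)) (.node 1 (.leaf 0x0) (.leaf 0x0))))) (.node 8 (.node 4 (.node 2 (.node 1 (.leaf 0x0) (.leaf 0x0)) (.node 1 (.leaf 0x0) (.leaf 0x0))) (.node 2 (.node 1 (.leaf 0x0) (.leaf 0x0)) (.node 1 (.leaf 0x0) (.leaf 0x0)))) (.node 4 (.node 2 (.node 1 (.leaf 0x0) (.leaf 0x0)) (.node 1 (.leaf 0x0) (.leaf 0x0))) (.node 2 (.node 1 (.leaf 0x0) (.leaf 0x0)) (.node 1 (.leaf 0x0) (.leaf 0x0)))))) (.node 16 (.node 8 (.node 4 (.node 2 (.node 1 (.leaf 0x0) (.leaf 0x0)) (.node 1 (.leaf 0x0) (.leaf 0x0))) (.node 2 (.node 1 (.leaf 0x0) (.leaf 0x0)) (.node 1 (.leaf 0x0) (.leaf 0x0)))) (.node 4 (.node 2 (.node 1 (.leaf 0x0) (.leaf 0x0)) (.node 1 (.leaf 0x0) (.leaf 0x0))) (.node 2 (.node 1 (.leaf 0x0) (.leaf 0x0)) (.node 1 (.leaf 0x0) (.leaf 0x0))))) (.node 8 (.node 4 (.node 2 (.node 1 (.leaf 0x0) (.leaf 0x0)) (.node 1 (.leaf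 0x0) (.leaf 0x0))) (.node 2 (.node 1 (.leaf 0x0) (.leaf 0x0)) (.node 1 (.leaf 0x0) (.leaf 0x0)))) (.node 4 (.node 2 (.node 1 (.leaf 0x0) (.leaf 0x0)) (.node 1 (.leaf 0x0) (.leaf 0x0))) (.node 2 (.node 1 (.leaf 0x0) (.leaf 0x0)) (.node 1 (.leaf 0x0) (.leaf 0x0)))))))

def moves5_30 : Tree :=
  .node 64 (.node 32 (.node 16 (.node 8 (.node 4 (.node 2 (.node 1 (.leaf 0x0) (.leaf 0x0)) (.node 1 (.leaf 0x0) (.leaf 0x0))) (.node 2 (.node 1 (.leaf 0x0) (.leaf 0x0)) (.node 1 (.leaf 0x0) (.leaf 0x0)))) (.node 4 (.node 2 (.node 1 (.leaf 0x0) (.leaf 0x0)) (.node 1 (.leaf 0x0) (.leaf 0x0))) (.node 2 (.node 1 (.leaf 0x0) (.leaf 0x0)) (.node 1 (.leaf 0x0) (.leaf 0x0))))) (.node 8 (.node 4 (.node 2 (.node 1 (.leaf 0x0) (.leaf 0x0)) (.node 1 (.leaf 0x0) (.leaf 0x0))) (.node 2 (.node 1 (.leaf 0x0) (.leaf 0x0)) (.node 1 (.leaf 0x0) (.leaf 0x0)))) (.node 4 (.node 2 (.node 1 (.leaf 0x0) (.leaf 0x0)) (.node 1 (.leaf 0x0) (.leaf 0x0))) (.node 2 (.node 1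 (.leaf 0x0) (.leaf 0x0)) (.node 1 (.leaf 0x0) (.leaf 0x0)))))) (.node 16 (.node 8 (.node 4 (.node 2 (.node 1 (.leaf 0x0) (.leaf 0x0)) (.node 1 (.leaf 0x0) (.leaf 0x0))) (.node 2 (.node 1 (.leaf 0x0) (.leaf 0x0)) (.node 1 (.leaf 0x0) (.leaf 0x0)))) (.node 4 (.node 2 (.node 1 (.leaf 0x0) (.leaf 0x0)) (.node 1 (.leaf 0x0) (.leaf 0x0))) (.node 2 (.node 1 (.leaf 0x0) (.leaf 0x0)) (.node 1 (.leaf 0x0) (.leaf 0x0))))) (.node 8 (.node 4 (.node 2 (.node 1 (.leaf 0x0) (.leaf 0x0)) (.node 1 (.leaf 0x0) (.leaf 0x0))) (.node 2 (.node 1 (.leaf 0x0) (.leaf 0x0)) (.node 1 (.leaf 0x0) (.leaf 0x0)))) (.node 4 (.node 2 (.node 1 (.leaf 0x0) (.leaf 0x0)) (.node 1 (.leaf 0x0) (.leaf 0x0))) (.node 2 (.node 1 (.leaf 0x0) (.leaf 0x0)) (.node 1 (.leaf 0x0) (.leaf 0x0))))))) (.node 32 (.node 16 (.node 8 (.node 4 (.node 2 (.node 1 (.leaf 0x0) (.leaf 0x0)) (.node 1 (.leaf 0x0) (.leaf 0x0))) (.node 2 (.node 1 (.leaf 0x0) (.leaf 0x0)) (.node 1 (.leaf 0x0) (.leaf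 0x0)))) (.node 4 (.node 2 (.node 1 (.leaf 0x0) (.leaf 0x0)) (.node 1 (.leaf 0x0) (.leaf 0x0))) (.node 2 (.node 1 (.leaf 0x0) (.leaf 0x0)) (.node 1 (.leaf 0x0) (.leaf 0x0))))) (.node 8 (.node 4 (.node 2 (.node 1 (.leaf 0x0) (.leaf 0x0)) (.node 1 (.leaf 0x0) (.leaf 0x0))) (.node 2 (.node 1 (.leaf 0x0) (.leaf 0x0)) (.node 1 (.leaf 0x0) (.leaf 0x0)))) (.node 4 (.node 2 (.node 1 (.leaf 0x0) (.leaf 0x0)) (.node 1 (.leaf 0x0) (.leaf 0x0))) (.node 2 (.node 1 (.leaf 0x0) (.leaf 0x0)) (.node 1 (.leaf 0x0) (.leaf 0x0)))))) (.node 16 (.node 8 (.node 4 (.node 2 (.node 1 (.leaf 0x0) (.leaf 0x0)) (.node 1 (.leaf 0x0) (.leaf 0x0))) (.node 2 (.node 1 (.leaf 0x0) (.leaf 0x0)) (.node 1 (.leaf 0x0) (.leaf 0x0)))) (.node 4 (.node 2 (.node 1 (.leaf 0x0) (.leaf 0x0)) (.node 1 (.leaf 0x0) (.leaf 0x0))) (.node 2 (.node 1 (.leaf 0x0) (.leaf 0x0)) (.node 1 (.leaf 0x0) (.leaf 0x0))))) (.node 8 (.node 4 (.node 2 (.node 1 (.leaf 0x0) (.leaf 0x0)) (.node 1 (.leaf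 0x0) (.leaf 0x0))) (.node 2 (.node 1 (.leaf 0x0) (.leaf 0x0)) (.node 1 (.leaf 0x0) (.leaf 0x0)))) (.node 4 (.node 2 (.node 1 (.leaf 0x0) (.leaf 0x0)) (.node 1 (.leaf 0x0) (.leaf 0x0))) (.node 2 (.node 1 (.leaf 0x0) (.leaf 0x0)) (.node 1 (.leaf 0x0) (.leaf 0x0)))))))

def moves5_31 : Tree :=
  .node 36 (.node 18 (.node 9 (.node 4 (.node 2 (.node 1 (.leaf 0x0) (.leaf 0x0)) (.node 1 (.leaf 0x0) (.leaf 0x0))) (.node 2 (.node 1 (.leaf 0x0) (.leaf 0x0)) (.node 1 (.leaf 0x0) (.node 1 (.leaf 0x0) (.leaf 0x0))))) (.node 4 (.node 2 (.node 1 (.leaf 0x0) (.leaf 0x0)) (.node 1 (.leaf 0x0) (.leaf 0x0))) (.node 2 (.node 1 (.leaf 0x0) (.leaf 0x0)) (.node 1 (.leaf 0x0) (.node 1 (.leaf 0x0) (.leaf 0x0)))))) (.node 9 (.node 4 (.node 2 (.node 1 (.leaf 0x0) (.leaf 0x0)) (.node 1 (.leaf 0x0) (.leaf 0x0))) (.node 2 (.node 1 (.leaf 0x0) (.leaf 0x0)) (.node 1 (.leaf 0x0) (.node 1 (.leaf 0x0) (.leaf 0x0))))) (.node 4 (.node 2 (.node 1 (.leaf 0x0) (.leaf 0x0))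 (.node 1 (.leaf 0x0) (.leaf 0x0))) (.node 2 (.node 1 (.leaf 0x0) (.leaf 0x0)) (.node 1 (.leaf 0x0) (.node 1 (.leaf 0x0) (.leaf 0x0))))))) (.node 18 (.node 9 (.node 4 (.node 2 (.node 1 (.leaf 0x0) (.leaf 0x0)) (.node 1 (.leaf 0x0) (.leaf 0x0))) (.node 2 (.node 1 (.leaf 0x0) (.leaf 0x0)) (.node 1 (.leaf 0x0) (.node 1 (.leaf 0x0) (.leaf 0x0))))) (.node 4 (.node 2 (.node 1 (.leaf 0x0) (.leaf 0x0)) (.node 1 (.leaf 0x0) (.leaf 0x0))) (.node 2 (.node 1 (.leaf 0x0) (.leaf 0x0)) (.node 1 (.leaf 0x0) (.node 1 (.leaf 0x0) (.leaf 0x0)))))) (.node 9 (.node 4 (.node 2 (.node 1 (.leaf 0x0) (.leaf 0x0)) (.node 1 (.leaf 0x0) (.leaf 0x0))) (.node 2 (.node 1 (.leaf 0x0) (.leaf 0x0)) (.node 1 (.leaf 0x0) (.node 1 (.leaf 0x0) (.leaf 0x0))))) (.node 5 (.node 2 (.node 1 (.leaf 0x0) (.leaf 0x0)) (.node 1 (.leaf 0x0) (.node 1 (.leaf 0x0) (.leaf 0x0)))) (.node 2 (.node 1 (.leaf 0x0) (.leaf 0x0)) (.node 1 (.leaf 0x0) (.node 1 (.leaf 0x0) (.leaf 0x0)))))))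

def moves5 : Tree :=
  .node 2048 (.node 1024 (.node 512 (.node 256 (.node 128 (moves5_0) (moves5_1)) (.node 128 (moves5_2) (moves5_3))) (.node 256 (.node 128 (moves5_4) (moves5_5)) (.node 128 (moves5_6) (moves5_7)))) (.node 512 (.node 256 (.node 128 (moves5_8) (moves5_9)) (.node 128 (moves5_10) (moves5_11))) (.node 256 (.node 128 (moves5_12) (moves5_13)) (.node 128 (moves5_14) (moves5_15))))) (.node 1024 (.node 512 (.node 256 (.node 128 (moves5_16) (moves5_17)) (.node 128 (moves5_18) (moves5_19))) (.node 256 (.node 128 (moves5_20) (moves5_21)) (.node 128 (moves5_22) (moves5_23)))) (.node 512 (.node 256 (.node 128 (moves5_24) (moves5_25)) (.node 128 (moves5_26) (moves5_27))) (.node 256 (.node 128 (moves5_28) (moves5_29)) (.node 128 (moves5_30) (moves5_31)))))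

def reps5 : List (List (List ℕ)) := [[[4], [0], [1], [2], [5], [6]], [[4], [0], [1], [2], [3, 6, 4, 3, 4, 3, 4, 6, 3], [3, 5, 4, 3, 4, 3, 4, 5, 3]]]

def level5 : Level := ⟨candsB, [[5, 1, 5, 1], [5, 2, 5, 2], [5, 3, 5, 3], [5, 4, 5, 4, 5, 4, 5, 4], [0, 4, 5, 4, 5]], [[5, 1], [5, 2], [5, 3], [5, 4], [5, 4, 5, 4]], reps5, moves5⟩

def moves6_0 : Tree :=
  .node 64 (.node 32 (.node 16 (.node 8 (.node 4 (.node 2 (.node 1 (.leaf 0x0) (.leaf 0x0)) (.node 1 (.leaf 0x0) (.leaf 0x0))) (.node 2 (.node 1 (.leaf 0x0) (.leaf 0x0)) (.node 1 (.leaf 0x0) (.leaf 0x0)))) (.node 4 (.node 2 (.node 1 (.leaf 0x0) (.leaf 0x0)) (.node 1 (.leaf 0x0) (.leaf 0x0))) (.node 2 (.node 1 (.leaf 0x0) (.leaf 0x0)) (.node 1 (.leaf 0x0) (.leaf 0x0))))) (.node 8 (.node 4 (.node 2 (.node 1 (.leaf 0x0) (.leaf 0x0)) (.node 1 (.leaf 0x0) (.leaf 0x0))) (.node 2 (.node 1 (.leaf 0x0) (.leaf 0x0)) (.node 1 (.leaf 0x0) (.leaf 0x0)))) (.node 4 (.node 2 (.node 1 (.leaf 0x0) (.leaf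 0x0)) (.node 1 (.leaf 0x0) (.leaf 0x0))) (.node 2 (.node 1 (.leaf 0x0) (.leaf 0x0)) (.node 1 (.leaf 0x0) (.leaf 0x0)))))) (.node 16 (.node 8 (.node 4 (.node 2 (.node 1 (.leaf 0x0) (.leaf 0x0)) (.node 1 (.leaf 0x1151500) (.leaf 0x0))) (.node 2 (.node 1 (.leaf 0x0) (.leaf 0x0)) (.node 1 (.leaf 0x0) (.leaf 0x0)))) (.node 4 (.node 2 (.node 1 (.leaf 0x0) (.leaf 0x0)) (.node 1 (.leaf 0x0) (.leaf 0x0))) (.node 2 (.node 1 (.leaf 0x0) (.leaf 0x0)) (.node 1 (.leaf 0x0) (.leaf 0x0))))) (.node 8 (.node 4 (.node 2 (.node 1 (.leaf 0x0) (.leaf 0x0)) (.node 1 (.leaf 0x0) (.leaf 0x0))) (.node 2 (.node 1 (.leaf 0x0) (.leaf 0x0)) (.node 1 (.leaf 0x0) (.leaf 0x0)))) (.node 4 (.node 2 (.node 1 (.leaf 0x0) (.leaf 0x0)) (.node 1 (.leaf 0x0) (.leaf 0x0))) (.node 2 (.node 1 (.leaf 0x0) (.leaf 0x0)) (.node 1 (.leaf 0x0) (.leaf 0x0))))))) (.node 32 (.node 16 (.node 8 (.node 4 (.node 2 (.node 1 (.leaf 0x0) (.leaf 0x0)) (.node 1 (.leaf 0x0) (.leaf 0x0))) (.node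 2 (.node 1 (.leaf 0x0) (.leaf 0x0)) (.node 1 (.leaf 0x0) (.leaf 0x0)))) (.node 4 (.node 2 (.node 1 (.leaf 0x0) (.leaf 0x0)) (.node 1 (.leaf 0x0) (.leaf 0x0))) (.node 2 (.node 1 (.leaf 0x0) (.leaf 0x0)) (.node 1 (.leaf 0x0) (.leaf 0x0))))) (.node 8 (.node 4 (.node 2 (.node 1 (.leaf 0x0) (.leaf 0x0)) (.node 1 (.leaf 0x0) (.leaf 0x0))) (.node 2 (.node 1 (.leaf 0x0) (.leaf 0x0)) (.node 1 (.leaf 0x0) (.leaf 0x0)))) (.node 4 (.node 2 (.node 1 (.leaf 0x0) (.leaf 0x0)) (.node 1 (.leaf 0x0) (.leaf 0x0))) (.node 2 (.node 1 (.leaf 0x0) (.leaf 0x0)) (.node 1 (.leaf 0x0) (.leaf 0x0)))))) (.node 16 (.node 8 (.node 4 (.node 2 (.node 1 (.leaf 0x0) (.leaf 0x0)) (.node 1 (.leaf 0x0) (.leaf 0x0))) (.node 2 (.node 1 (.leaf 0x0) (.leaf 0x0)) (.node 1 (.leaf 0x0) (.leaf 0x0)))) (.node 4 (.node 2 (.node 1 (.leaf 0x0) (.leaf 0x0)) (.node 1 (.leaf 0x0) (.leaf 0x0))) (.node 2 (.node 1 (.leaf 0x0) (.leaf 0x0)) (.node 1 (.leaf 0x0) (.leaf 0x0))))) (.node 8 (.node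 4 (.node 2 (.node 1 (.leaf 0x0) (.leaf 0x0)) (.node 1 (.leaf 0x0) (.leaf 0x0))) (.node 2 (.node 1 (.leaf 0x0) (.leaf 0x0)) (.node 1 (.leaf 0x0) (.leaf 0x0)))) (.node 4 (.node 2 (.node 1 (.leaf 0x0) (.leaf 0x0)) (.node 1 (.leaf 0x0) (.leaf 0x0))) (.node 2 (.node 1 (.leaf 0x0) (.leaf 0x0)) (.node 1 (.leaf 0x0) (.leaf 0x0)))))))

def moves6_1 : Tree :=
  .node 64 (.node 32 (.node 16 (.node 8 (.node 4 (.node 2 (.node 1 (.leaf 0x0) (.leaf 0x0)) (.node 1 (.leaf 0x0) (.leaf 0x0))) (.node 2 (.node 1 (.leaf 0x0) (.leaf 0x0)) (.node 1 (.leaf 0x0) (.leaf 0x0)))) (.node 4 (.node 2 (.node 1 (.leaf 0x0) (.leaf 0x0)) (.node 1 (.leaf 0x0) (.leaf 0x0))) (.node 2 (.node 1 (.leaf 0x0) (.leaf 0x0)) (.node 1 (.leaf 0x0) (.leaf 0x0))))) (.node 8 (.node 4 (.node 2 (.node 1 (.leaf 0x0) (.leaf 0x0)) (.node 1 (.leaf 0x0) (.leaf 0x0))) (.node 2 (.node 1 (.leaf 0x0) (.leaf 0x0)) (.node 1 (.leaf 0x0) (.leaf 0x0)))) (.node 4 (.node 2 (.node 1 (.leaf 0x0) (.leaf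 0x0)) (.node 1 (.leaf 0x0) (.leaf 0x0))) (.node 2 (.node 1 (.leaf 0x0) (.leaf 0x0)) (.node 1 (.leaf 0x0) (.leaf 0x0)))))) (.node 16 (.node 8 (.node 4 (.node 2 (.node 1 (.leaf 0x0) (.leaf 0x0)) (.node 1 (.leaf 0x0) (.leaf 0x0))) (.node 2 (.node 1 (.leaf 0x0) (.leaf 0x0)) (.node 1 (.leaf 0x0) (.leaf 0x0)))) (.node 4 (.node 2 (.node 1 (.leaf 0x0) (.leaf 0x0)) (.node 1 (.leaf 0x0) (.leaf 0x0))) (.node 2 (.node 1 (.leaf 0x0) (.leaf 0x0)) (.node 1 (.leaf 0x0) (.leaf 0x0))))) (.node 8 (.node 4 (.node 2 (.node 1 (.leaf 0x0) (.leaf 0x0)) (.node 1 (.leaf 0x0) (.leaf 0x0))) (.node 2 (.node 1 (.leaf 0x0) (.leaf 0x0)) (.node 1 (.leaf 0x0) (.leaf 0x0)))) (.node 4 (.node 2 (.node 1 (.leaf 0x0) (.leaf 0x0)) (.node 1 (.leaf 0x0) (.leaf 0x0))) (.node 2 (.node 1 (.leaf 0x0) (.leaf 0x0)) (.node 1 (.leaf 0x0) (.leaf 0x0))))))) (.node 32 (.node 16 (.node 8 (.node 4 (.node 2 (.node 1 (.leaf 0x0) (.leaf 0x0)) (.node 1 (.leaf 0x0) (.leaf 0x0))) (.node 2 (.node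 1 (.leaf 0x0) (.leaf 0x0)) (.node 1 (.leaf 0x0) (.leaf 0x0)))) (.node 4 (.node 2 (.node 1 (.leaf 0x0) (.leaf 0x0)) (.node 1 (.leaf 0x0) (.leaf 0x0))) (.node 2 (.node 1 (.leaf 0x0) (.leaf 0x0)) (.node 1 (.leaf 0x0) (.leaf 0x0))))) (.node 8 (.node 4 (.node 2 (.node 1 (.leaf 0x0) (.leaf 0x0)) (.node 1 (.leaf 0x0) (.leaf 0x0))) (.node 2 (.node 1 (.leaf 0x0) (.leaf 0x0)) (.node 1 (.leaf 0x0) (.leaf 0x0)))) (.node 4 (.node 2 (.node 1 (.leaf 0x0) (.leaf 0x0)) (.node 1 (.leaf 0x0) (.leaf 0x0))) (.node 2 (.node 1 (.leaf 0x0) (.leaf 0x0)) (.node 1 (.leaf 0x0) (.leaf 0x0)))))) (.node 16 (.node 8 (.node 4 (.node 2 (.node 1 (.leaf 0x0) (.leaf 0x0)) (.node 1 (.leaf 0x0) (.leaf 0x0))) (.node 2 (.node 1 (.leaf 0x0) (.leaf 0x0)) (.node 1 (.leaf 0x0) (.leaf 0x0)))) (.node 4 (.node 2 (.node 1 (.leaf 0x0) (.leaf 0x0)) (.node 1 (.leaf 0x0) (.leaf 0x0))) (.node 2 (.node 1 (.leaf 0x0) (.leaf 0x0)) (.node 1 (.leaf 0x0) (.leaf 0x0))))) (.node 8 (.node 4 (.node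 2 (.node 1 (.leaf 0x0) (.leaf 0x0)) (.node 1 (.leaf 0x0) (.leaf 0x0))) (.node 2 (.node 1 (.leaf 0x0) (.leaf 0x0)) (.node 1 (.leaf 0x0) (.leaf 0x0)))) (.node 4 (.node 2 (.node 1 (.leaf 0x0) (.leaf 0x0)) (.node 1 (.leaf 0x0) (.leaf 0x0))) (.node 2 (.node 1 (.leaf 0x0) (.leaf 0x0)) (.node 1 (.leaf 0x0) (.leaf 0x0)))))))

def moves6_2 : Tree :=
  .node 64 (.node 32 (.node 16 (.node 8 (.node 4 (.node 2 (.node 1 (.leaf 0x0) (.leaf 0x0)) (.node 1 (.leaf 0x0) (.leaf 0x0))) (.node 2 (.node 1 (.leaf 0x0) (.leaf 0x0)) (.node 1 (.leaf 0x0) (.leaf 0x0)))) (.node 4 (.node 2 (.node 1 (.leaf 0x0) (.leaf 0x0)) (.node 1 (.leaf 0x0) (.leaf 0x0))) (.node 2 (.node 1 (.leaf 0x0) (.leaf 0x0)) (.node 1 (.leaf 0x0) (.leaf 0x0))))) (.node 8 (.node 4 (.node 2 (.node 1 (.leaf 0x0) (.leaf 0x0)) (.node 1 (.leaf 0x0) (.leaf 0x0))) (.node 2 (.node 1 (.leaf 0x0) (.leaf 0x0)) (.node 1 (.leaf 0x0) (.leaf 0x0)))) (.node 4 (.node 2 (.node 1 (.leaf 0x0) (.leaf 0x0)) (.node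 1 (.leaf 0x0) (.leaf 0x0))) (.node 2 (.node 1 (.leaf 0x0) (.leaf 0x0)) (.node 1 (.leaf 0x0) (.leaf 0x0)))))) (.node 16 (.node 8 (.node 4 (.node 2 (.node 1 (.leaf 0x0) (.leaf 0x0)) (.node 1 (.leaf 0x0) (.leaf 0x0))) (.node 2 (.node 1 (.leaf 0x0) (.leaf 0x0)) (.node 1 (.leaf 0x0) (.leaf 0x0)))) (.node 4 (.node 2 (.node 1 (.leaf 0x0) (.leaf 0x0)) (.node 1 (.leaf 0x0) (.leaf 0x0))) (.node 2 (.node 1 (.leaf 0x0) (.leaf 0x0)) (.node 1 (.leaf 0x0) (.leaf 0x0))))) (.node 8 (.node 4 (.node 2 (.node 1 (.leaf 0x0) (.leaf 0x0)) (.node 1 (.leaf 0x0) (.leaf 0x0))) (.node 2 (.node 1 (.leaf 0x0) (.leaf 0x0)) (.node 1 (.leaf 0x0) (.leaf 0x0)))) (.node 4 (.node 2 (.node 1 (.leaf 0x0) (.leaf 0x0)) (.node 1 (.leaf 0x0) (.leaf 0x0))) (.node 2 (.node 1 (.leaf 0x0) (.leaf 0x0)) (.node 1 (.leaf 0x0) (.leaf 0x0))))))) (.node 32 (.node 16 (.node 8 (.node 4 (.node 2 (.node 1 (.leaf 0x0) (.leaf 0x0)) (.node 1 (.leaf 0x0) (.leaf 0x0))) (.node 2 (.node 1 (.leaf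 0x0) (.leaf 0x0)) (.node 1 (.leaf 0x0) (.leaf 0x0)))) (.node 4 (.node 2 (.node 1 (.leaf 0x0) (.leaf 0x0)) (.node 1 (.leaf 0x0) (.leaf 0x0))) (.node 2 (.node 1 (.leaf 0x0) (.leaf 0x0)) (.node 1 (.leaf 0x0) (.leaf 0x0))))) (.node 8 (.node 4 (.node 2 (.node 1 (.leaf 0x0) (.leaf 0x0)) (.node 1 (.leaf 0x1) (.leaf 0x0))) (.node 2 (.node 1 (.leaf 0x0) (.leaf 0x0)) (.node 1 (.leaf 0x0) (.leaf 0x0)))) (.node 4 (.node 2 (.node 1 (.leaf 0x0) (.leaf 0x0)) (.node 1 (.leaf 0x0) (.leaf 0x0))) (.node 2 (.node 1 (.leaf 0x0) (.leaf 0x1151501)) (.node 1 (.leaf 0x0) (.leaf 0x0)))))) (.node 16 (.node 8 (.node 4 (.node 2 (.node 1 (.leaf 0x0) (.leaf 0x0)) (.node 1 (.leaf 0x0) (.leaf 0x0))) (.node 2 (.node 1 (.leaf 0x0) (.leaf 0x0)) (.node 1 (.leaf 0x0) (.leaf 0x0)))) (.node 4 (.node 2 (.node 1 (.leaf 0x0) (.leaf 0x0)) (.node 1 (.leaf 0x0) (.leaf 0x0))) (.node 2 (.node 1 (.leaf 0x0) (.leaf 0x0)) (.node 1 (.leaf 0x0) (.leaf 0x0))))) (.node 8 (.node 4 (.node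 2 (.node 1 (.leaf 0x0) (.leaf 0x0)) (.node 1 (.leaf 0x0) (.leaf 0x0))) (.node 2 (.node 1 (.leaf 0x0) (.leaf 0x0)) (.node 1 (.leaf 0x0) (.leaf 0x0)))) (.node 4 (.node 2 (.node 1 (.leaf 0x0) (.leaf 0x0)) (.node 1 (.leaf 0x0) (.leaf 0x0))) (.node 2 (.node 1 (.leaf 0x0) (.leaf 0x0)) (.node 1 (.leaf 0x0) (.leaf 0x0)))))))

def moves6_3 : Tree :=
  .node 64 (.node 32 (.node 16 (.node 8 (.node 4 (.node 2 (.node 1 (.leaf 0x0) (.leaf 0x0)) (.node 1 (.leaf 0x0) (.leaf 0x0))) (.node 2 (.node 1 (.leaf 0x0) (.leaf 0x0)) (.node 1 (.leaf 0x0) (.leaf 0x0)))) (.node 4 (.node 2 (.node 1 (.leaf 0x0) (.leaf 0x0)) (.node 1 (.leaf 0x0) (.leaf 0x0))) (.node 2 (.node 1 (.leaf 0x0) (.leaf 0x0)) (.node 1 (.leaf 0x0) (.leaf 0x0))))) (.node 8 (.node 4 (.node 2 (.node 1 (.leaf 0x0) (.leaf 0x0)) (.node 1 (.leaf 0x0) (.leaf 0x0))) (.node 2 (.node 1 (.leaf 0x0) (.leaf 0x0)) (.node 1 (.leaf 0x0) (.leaf 0x0)))) (.node 4 (.node 2 (.node 1 (.leaf 0x0) (.leaf 0x0)) (.node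 1 (.leaf 0x0) (.leaf 0x0))) (.node 2 (.node 1 (.leaf 0x0) (.leaf 0x0)) (.node 1 (.leaf 0x0) (.leaf 0x0)))))) (.node 16 (.node 8 (.node 4 (.node 2 (.node 1 (.leaf 0x0) (.leaf 0x0)) (.node 1 (.leaf 0x0) (.leaf 0x0))) (.node 2 (.node 1 (.leaf 0x0) (.leaf 0x0)) (.node 1 (.leaf 0x0) (.leaf 0x0)))) (.node 4 (.node 2 (.node 1 (.leaf 0x0) (.leaf 0x0)) (.node 1 (.leaf 0x0) (.leaf 0x0))) (.node 2 (.node 1 (.leaf 0x0) (.leaf 0x0)) (.node 1 (.leaf 0x0) (.leaf 0x0))))) (.node 8 (.node 4 (.node 2 (.node 1 (.leaf 0x0) (.leaf 0x0)) (.node 1 (.leaf 0x0) (.leaf 0x0))) (.node 2 (.node 1 (.leaf 0x0) (.leaf 0x0)) (.node 1 (.leaf 0x0) (.leaf 0x0)))) (.node 4 (.node 2 (.node 1 (.leaf 0x0) (.leaf 0x0)) (.node 1 (.leaf 0x0) (.leaf 0x0))) (.node 2 (.node 1 (.leaf 0x0) (.leaf 0x0)) (.node 1 (.leaf 0x0) (.leaf 0x0))))))) (.node 32 (.node 16 (.node 8 (.node 4 (.node 2 (.node 1 (.leaf 0x0) (.leaf 0x0)) (.node 1 (.leaf 0x0) (.leaf 0x0))) (.node 2 (.node 1 (.leaf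 0x0) (.leaf 0x0)) (.node 1 (.leaf 0x0) (.leaf 0x0)))) (.node 4 (.node 2 (.node 1 (.leaf 0x0) (.leaf 0x0)) (.node 1 (.leaf 0x0) (.leaf 0x0))) (.node 2 (.node 1 (.leaf 0x0) (.leaf 0x0)) (.node 1 (.leaf 0x0) (.leaf 0x0))))) (.node 8 (.node 4 (.node 2 (.node 1 (.leaf 0x0) (.leaf 0x0)) (.node 1 (.leaf 0x0) (.leaf 0x0))) (.node 2 (.node 1 (.leaf 0x0) (.leaf 0x0)) (.node 1 (.leaf 0x0) (.leaf 0x0)))) (.node 4 (.node 2 (.node 1 (.leaf 0x0) (.leaf 0x0)) (.node 1 (.leaf 0x0) (.leaf 0x0))) (.node 2 (.node 1 (.leaf 0x0) (.leaf 0x0)) (.node 1 (.leaf 0x0) (.leaf 0x0)))))) (.node 16 (.node 8 (.node 4 (.node 2 (.node 1 (.leaf 0x0) (.leaf 0x0)) (.node 1 (.leaf 0x0) (.leaf 0x0))) (.node 2 (.node 1 (.leaf 0x0) (.leaf 0x0)) (.node 1 (.leaf 0x0) (.leaf 0x0)))) (.node 4 (.node 2 (.node 1 (.leaf 0x0) (.leaf 0x0)) (.node 1 (.leaf 0x0) (.leaf 0x0))) (.node 2 (.node 1 (.leaf 0x0) (.leaf 0x0)) (.node 1 (.leaf 0x0) (.leaf 0x0))))) (.node 8 (.node 4 (.node 2 (.node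 1 (.leaf 0x0) (.leaf 0x0)) (.node 1 (.leaf 0x0) (.leaf 0x0))) (.node 2 (.node 1 (.leaf 0x0) (.leaf 0x0)) (.node 1 (.leaf 0x0) (.leaf 0x0)))) (.node 4 (.node 2 (.node 1 (.leaf 0x0) (.leaf 0x0)) (.node 1 (.leaf 0x0) (.leaf 0x0))) (.node 2 (.node 1 (.leaf 0x0) (.leaf 0x0)) (.node 1 (.leaf 0x0) (.leaf 0x0)))))))

def moves6_4 : Tree :=
  .node 59 (.node 29 (.node 14 (.node 7 (.node 3 (.node 1 (.leaf 0x0) (.node 1 (.leaf 0x0) (.leaf 0x0))) (.node 2 (.node 1 (.leaf 0x0) (.leaf 0x0)) (.node 1 (.leaf 0x0) (.leaf 0x0)))) (.node 3 (.node 1 (.leaf 0x0) (.node 1 (.leaf 0x0) (.leaf 0x0))) (.node 2 (.node 1 (.leaf 0x0) (.leaf 0x0)) (.node 1 (.leaf 0x0) (.leaf 0x0))))) (.node 7 (.node 3 (.node 1 (.leaf 0x0) (.node 1 (.leaf 0x0) (.leaf 0x0))) (.node 2 (.node 1 (.leaf 0x0) (.leaf 0x0)) (.node 1 (.leaf 0x0) (.leaf 0x0)))) (.node 4 (.node 2 (.node 1 (.leaf 0x0) (.leaf 0x0)) (.node 1 (.leaf 0x0) (.leaf 0x0))) (.node 2 (.node 1 (.leaf 0x0) (.leaf 0x0))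 (.node 1 (.leaf 0x0) (.leaf 0x0)))))) (.node 15 (.node 7 (.node 3 (.node 1 (.leaf 0x0) (.node 1 (.leaf 0x0) (.leaf 0x0))) (.node 2 (.node 1 (.leaf 0x0) (.leaf 0x0)) (.node 1 (.leaf 0x0) (.leaf 0x0)))) (.node 4 (.node 2 (.node 1 (.leaf 0x0) (.leaf 0x0)) (.node 1 (.leaf 0x0) (.leaf 0x0))) (.node 2 (.node 1 (.leaf 0x0) (.leaf 0x0)) (.node 1 (.leaf 0x0) (.leaf 0x0))))) (.node 7 (.node 3 (.node 1 (.leaf 0x0) (.node 1 (.leaf 0x0) (.leaf 0x0))) (.node 2 (.node 1 (.leaf 0x0) (.leaf 0x0)) (.node 1 (.leaf 0x0) (.leaf 0x0)))) (.node 4 (.node 2 (.node 1 (.leaf 0x0) (.leaf 0x0)) (.node 1 (.leaf 0x0) (.leaf 0x0))) (.node 2 (.node 1 (.leaf 0x0) (.leaf 0x0)) (.node 1 (.leaf 0x0) (.leaf 0x0))))))) (.node 29 (.node 14 (.node 7 (.node 3 (.node 1 (.leaf 0x0) (.node 1 (.leaf 0x0) (.leaf 0x0))) (.node 2 (.node 1 (.leaf 0x0) (.leaf 0x0)) (.node 1 (.leaf 0x0) (.leaf 0x0)))) (.node 3 (.node 1 (.leaf 0x0) (.node 1 (.leaf 0x0) (.leaf 0x0))) (.node 2 (.node 1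 (.leaf 0x0) (.leaf 0x0)) (.node 1 (.leaf 0x0) (.leaf 0x0))))) (.node 7 (.node 3 (.node 1 (.leaf 0x0) (.node 1 (.leaf 0x0) (.leaf 0x0))) (.node 2 (.node 1 (.leaf 0x0) (.leaf 0x0)) (.node 1 (.leaf 0x0) (.leaf 0x0)))) (.node 4 (.node 2 (.node 1 (.leaf 0x0) (.leaf 0x0)) (.node 1 (.leaf 0x0) (.leaf 0x0))) (.node 2 (.node 1 (.leaf 0x0) (.leaf 0x0)) (.node 1 (.leaf 0x0) (.leaf 0x0)))))) (.node 15 (.node 7 (.node 3 (.node 1 (.leaf 0x0) (.node 1 (.leaf 0x0) (.leaf 0x0))) (.node 2 (.node 1 (.leaf 0x0) (.leaf 0x0)) (.node 1 (.leaf 0x0) (.leaf 0x0)))) (.node 4 (.node 2 (.node 1 (.leaf 0x0) (.leaf 0x0)) (.node 1 (.leaf 0x0) (.leaf 0x0))) (.node 2 (.node 1 (.leaf 0x0) (.leaf 0x0)) (.node 1 (.leaf 0x0) (.leaf 0x0))))) (.node 7 (.node 3 (.node 1 (.leaf 0x0) (.node 1 (.leaf 0x0) (.leaf 0x0))) (.node 2 (.node 1 (.leaf 0x0) (.leaf 0x0)) (.node 1 (.leaf 0x0) (.leaf 0x0)))) (.node 4 (.node 2 (.node 1 (.leaf 0x0) (.leaf 0x0)) (.node 1 (.leaf 0x0) (.leaf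 0x0))) (.node 2 (.node 1 (.leaf 0x0) (.leaf 0x0)) (.node 1 (.leaf 0x0) (.leaf 0x0)))))))

def moves6 : Tree :=
  .node 256 (.node 128 (moves6_0) (moves6_1)) (.node 128 (moves6_2) (.node 128 (moves6_3) (moves6_4)))

def reps6 : List (List (List ℕ)) := [[[4], [0], [1], [2], [5], [6], [3]], [[4], [0], [1], [2], [3, 6, 4, 3, 4, 3, 4, 6, 3], [3, 5, 4, 3, 4, 3, 4, 5, 3], [3]]]

def level6 : Level := ⟨candsD, [[6, 1, 6, 1], [6, 2, 6, 2], [6, 0, 6, 0, 6, 0], [6, 4, 6, 4, 6, 4], [6, 5, 6, 5, 6, 5], [1, 6, 3, 6, 3, 6, 3, 6, 3, 6, 3], [5, 4, 6, 3, 5, 4, 6, 3, 5, 4, 6, 3, 5, 4, 6, 3], [6, 3, 6, 3, 6, 3, 6, 3, 6, 3, 6, 3, 6, 3, 6, 3, 6, 3, 6, 3]], [], reps6, moves6⟩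

def slotWords : List (List ℕ) := [[4], [0], [1], [2], [5], [6], [3]]

def otherWords : List (List ℕ) := [[0], [1], [2], [3], [4], [3, 6, 4, 3, 4, 3, 4, 6, 3], [3, 5, 4, 3, 4, 3, 4, 5, 3]]

end Cfsg.Agent.InvChar.Coset.HeOut
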