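import Cfsg.Agent.InvChar.Coset.HeCheck
import Cfsg.Agent.InvChar.Coset.HeCentData
import Cfsg.Agent.InvChar.Coset.HeOutData

/-!
# Functions for the computations for the automorphisms of the presented Held group
-/

set_option autoImplicit false
set_option linter.all false
set_option maxRecDepth 200000
set_option maxHeartbeats 4000000
set_option Elab.async false

noncomputable section

namespace Cfsg.Agent.InvChar.Coset.HeOut

open Cfsg.Agent.CosetCert Cfsg.Agent.InvChar.Coset.AutCert

abbrev T : Table := He.table

def elH (i : ℕ) : List ℕ := subW gensH (wordsH i)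

def elP (i : ℕ) : List ℕ := subW gensP (wordsP i)

def trA (i : ℕ) : List ℕ := subW gensE (orbA i)

def trE (i : ℕ) : List ℕ := subW gensA (orbE i)

/-- The elements in a range are in increasing order. -/
def ascRange (f : ℕ → List ℕ) (a m : ℕ) : Bool :=
  AutCert.scan (fun i => lettersOK 7 (f (a + i)) && (lettersOK 7 (f (a + i + 1)) &&
    Nat.blt (AutCert.code T (f (a + i)) baseL) (AutCert.code T (f (a + i + 1)) baseL))) m

def witOne (i : ℕ) : Bool :=
  let v := witP.get i
  let w := elP i
  match v with
  | 0 => fixW T baseL w || movW T baseL (w ++ w)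
  | j + 1 => Nat.blt j 575 && eqW T baseL w (listL j)

def subsOK (gens idx : List (List ℕ)) : Bool :=
  Nat.beq idx.length gens.length && scan (fun k => allB (fun y => Nat.blt y gensE.length) (getWord idx k) &&
    eqW T baseL (subW gensE (getWord idx k)) (getWord gens k)) gens.length

def commutesWith (c : ℕ) (gens : List (List ℕ)) : Bool := allB (fun w => eqW T baseL ([c] ++ w) (w ++ [c])) gens

/-- The second configuration does not come from an element commuting with the first two generators. -/
def apart (h : List ℕ) : Bool :=
  cond (eqW T baseL (conjW h [1]) [1])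
    (lettersOK 7 (conjW h [5]) && !(eqW T baseL (conjW h [5]) (getWord otherWords 5))) true

def shape (R : List (List (List ℕ))) (m : ℕ) : Bool :=
  allB (fun P => Nat.beq P.length m && (allB (lettersOK 7) P && (prefixB [[4]] P &&
    (Nat.ble m 5 || prefixB [[4], [0]] P)))) R

def relsTrue (L : AutCert.Level) (m : ℕ) : Bool :=
  allB (fun r => allB (fun y => Nat.ble y m) r && fixW T baseL (subW slotWords r)) L.rels &&
    allB (fun r => allB (fun y => Nat.ble y m) r && movW T baseL (subW slotWords r)) L.nons

end Cfsg.Agent.InvChar.Coset.HeOut
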