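import Cfsg.Agent.Lib.CosetCert.Finish

/-!
# The action of a subgroup of the Held group on 85 blocks and on the points of a symplectic space
-/

set_option autoImplicit false
set_option linter.all false

namespace Cfsg.Agent.InvChar.Coset.HeSymp

open Cfsg.Agent.CosetCert

noncomputable def lab0 : Tree :=
  .node 64 (.node 32 (.node 16 (.node 8 (.node 4 (.node 2 (.node 1 (.leaf (nat_lit 0x55)) (.leaf (nat_lit 0x55))) (.node 1 (.leaf (nat_lit 0x0)) (.leaf (nat_lit 0x55)))) (.node 2 (.node 1 (.leaf (nat_lit 0x55)) (.leaf (nat_lit 0x1))) (.node 1 (.leaf (nat_lit 0x55)) (.leaf (nat_lit 0x55))))) (.node 4 (.node 2 (.node 1 (.leaf (nat_lit 0x55)) (.leaf (nat_lit 0x2))) (.node 1 (.leaf (nat_lit 0x3)) (.leaf (nat_lit 0x3)))) (.node 2 (.node 1 (.leaf (nat_lit 0x55)) (.leaf (nat_lit 0x55))) (.node 1 (.leaf (nat_lit 0x55)) (.leaf (nat_lit 0x55))))))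 (.node 8 (.node 4 (.node 2 (.node 1 (.leaf (nat_lit 0x55)) (.leaf (nat_lit 0x55))) (.node 1 (.leaf (nat_lit 0x55)) (.leaf (nat_lit 0x4)))) (.node 2 (.node 1 (.leaf (nat_lit 0x4)) (.leaf (nat_lit 0x4))) (.node 1 (.leaf (nat_lit 0x1)) (.leaf (nat_lit 0x5))))) (.node 4 (.node 2 (.node 1 (.leaf (nat_lit 0x55)) (.leaf (nat_lit 0x55))) (.node 1 (.leaf (nat_lit 0x55)) (.leaf (nat_lit 0x55)))) (.node 2 (.node 1 (.leaf (nat_lit 0x55)) (.leaf (nat_lit 0x55))) (.node 1 (.leaf (nat_lit 0x55)) (.leaf (nat_lit 0x55))))))) (.node 16 (.node 8 (.node 4 (.node 2 (.node 1 (.leaf (nat_lit 0x55)) (.leaf (nat_lit 0x55))) (.node 1 (.leaf (nat_lit 0x55)) (.leaf (nat_lit 0x55)))) (.node 2 (.node 1 (.leaf (nat_lit 0x3)) (.leaf (nat_lit 0x2))) (.node 1 (.leaf (nat_lit 0x2)) (.leaf (nat_lit 0x2))))) (.node 4 (.node 2 (.node 1 (.leaf (nat_lit 0x0)) (.leaf (nat_lit 0x6)))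 (.node 1 (.leaf (nat_lit 0x7)) (.leaf (nat_lit 0x5)))) (.node 2 (.node 1 (.leaf (nat_lit 0x55)) (.leaf (nat_lit 0x55))) (.node 1 (.leaf (nat_lit 0x55)) (.leaf (nat_lit 0x55)))))) (.node 8 (.node 4 (.node 2 (.node 1 (.leaf (nat_lit 0x55)) (.leaf (nat_lit 0x55))) (.node 1 (.leaf (nat_lit 0x55)) (.leaf (nat_lit 0x55)))) (.node 2 (.node 1 (.leaf (nat_lit 0x55)) (.leaf (nat_lit 0x55))) (.node 1 (.leaf (nat_lit 0x55)) (.leaf (nat_lit 0x55))))) (.node 4 (.node 2 (.node 1 (.leaf (nat_lit 0x55)) (.leaf (nat_lit 0x55))) (.node 1 (.leaf (nat_lit 0x55)) (.leaf (nat_lit 0x55)))) (.node 2 (.node 1 (.leaf (nat_lit 0x55)) (.leaf (nat_lit 0x55))) (.node 1 (.leaf (nat_lit 0x55)) (.leaf (nat_lit 0x55)))))))) (.node 32 (.node 16 (.node 8 (.node 4 (.node 2 (.node 1 (.leaf (nat_lit 0x55)) (.leaf (nat_lit 0x55))) (.node 1 (.leaf (nat_lit 0x1)) (.leaf (nat_lit 0x1))))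 (.node 2 (.node 1 (.leaf (nat_lit 0x4)) (.leaf (nat_lit 0x3))) (.node 1 (.leaf (nat_lit 0x8)) (.leaf (nat_lit 0x6))))) (.node 4 (.node 2 (.node 1 (.leaf (nat_lit 0x9)) (.leaf (nat_lit 0xa))) (.node 1 (.leaf (nat_lit 0xb)) (.leaf (nat_lit 0x55)))) (.node 2 (.node 1 (.leaf (nat_lit 0x7)) (.leaf (nat_lit 0x55))) (.node 1 (.leaf (nat_lit 0x55)) (.leaf (nat_lit 0x55)))))) (.node 8 (.node 4 (.node 2 (.node 1 (.leaf (nat_lit 0x55)) (.leaf (nat_lit 0x55))) (.node 1 (.leaf (nat_lit 0x55)) (.leaf (nat_lit 0x55)))) (.node 2 (.node 1 (.leaf (nat_lit 0x55)) (.leaf (nat_lit 0x55))) (.node 1 (.leaf (nat_lit 0x55)) (.leaf (nat_lit 0x55))))) (.node 4 (.node 2 (.node 1 (.leaf (nat_lit 0x55)) (.leaf (nat_lit 0x55))) (.node 1 (.leaf (nat_lit 0x55)) (.leaf (nat_lit 0x55)))) (.node 2 (.node 1 (.leaf (nat_lit 0x55)) (.leaf (nat_lit 0x55))) (.node 1 (.leaf (nat_lit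 0x55)) (.leaf (nat_lit 0xc))))))) (.node 16 (.node 8 (.node 4 (.node 2 (.node 1 (.leaf (nat_lit 0x55)) (.leaf (nat_lit 0x55))) (.node 1 (.leaf (nat_lit 0x55)) (.leaf (nat_lit 0x55)))) (.node 2 (.node 1 (.leaf (nat_lit 0x55)) (.leaf (nat_lit 0x55))) (.node 1 (.leaf (nat_lit 0x55)) (.leaf (nat_lit 0x55))))) (.node 4 (.node 2 (.node 1 (.leaf (nat_lit 0x55)) (.leaf (nat_lit 0x55))) (.node 1 (.leaf (nat_lit 0x55)) (.leaf (nat_lit 0x55)))) (.node 2 (.node 1 (.leaf (nat_lit 0x55)) (.leaf (nat_lit 0x55))) (.node 1 (.leaf (nat_lit 0x55)) (.leaf (nat_lit 0x55)))))) (.node 8 (.node 4 (.node 2 (.node 1 (.leaf (nat_lit 0x55)) (.leaf (nat_lit 0x55))) (.node 1 (.leaf (nat_lit 0x55)) (.leaf (nat_lit 0x55)))) (.node 2 (.node 1 (.leaf (nat_lit 0x0)) (.leaf (nat_lit 0x0))) (.node 1 (.leaf (nat_lit 0xd)) (.leaf (nat_lit 0xe))))) (.node 4 (.node 2 (.node 1 (.leaf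 (nat_lit 0xc)) (.leaf (nat_lit 0x55))) (.node 1 (.leaf (nat_lit 0x8)) (.leaf (nat_lit 0xf)))) (.node 2 (.node 1 (.leaf (nat_lit 0x10)) (.leaf (nat_lit 0x55))) (.node 1 (.leaf (nat_lit 0x11)) (.leaf (nat_lit 0x55))))))))

noncomputable def lab1 : Tree :=
  .node 64 (.node 32 (.node 16 (.node 8 (.node 4 (.node 2 (.node 1 (.leaf (nat_lit 0xb)) (.leaf (nat_lit 0x55))) (.node 1 (.leaf (nat_lit 0x55)) (.leaf (nat_lit 0x9)))) (.node 2 (.node 1 (.leaf (nat_lit 0xa)) (.leaf (nat_lit 0xe))) (.node 1 (.leaf (nat_lit 0x55)) (.leaf (nat_lit 0x55))))) (.node 4 (.node 2 (.node 1 (.leaf (nat_lit 0x55)) (.leaf (nat_lit 0x55))) (.node 1 (.leaf (nat_lit 0x55)) (.leaf (nat_lit 0x55)))) (.node 2 (.node 1 (.leaf (nat_lit 0x55)) (.leaf (nat_lit 0x55))) (.node 1 (.leaf (nat_lit 0x55)) (.leaf (nat_lit 0x55)))))) (.node 8 (.node 4 (.node 2 (.node 1 (.leaf (nat_lit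 0x55)) (.leaf (nat_lit 0x55))) (.node 1 (.leaf (nat_lit 0x55)) (.leaf (nat_lit 0x55)))) (.node 2 (.node 1 (.leaf (nat_lit 0x0)) (.leaf (nat_lit 0x55))) (.node 1 (.leaf (nat_lit 0x55)) (.leaf (nat_lit 0x55))))) (.node 4 (.node 2 (.node 1 (.leaf (nat_lit 0x55)) (.leaf (nat_lit 0xb))) (.node 1 (.leaf (nat_lit 0x55)) (.leaf (nat_lit 0x55)))) (.node 2 (.node 1 (.leaf (nat_lit 0x55)) (.leaf (nat_lit 0x55))) (.node 1 (.leaf (nat_lit 0x12)) (.leaf (nat_lit 0x55))))))) (.node 16 (.node 8 (.node 4 (.node 2 (.node 1 (.leaf (nat_lit 0x13)) (.leaf (nat_lit 0xe))) (.node 1 (.leaf (nat_lit 0x8)) (.leaf (nat_lit 0x55)))) (.node 2 (.node 1 (.leaf (nat_lit 0x55)) (.leaf (nat_lit 0x55))) (.node 1 (.leaf (nat_lit 0x55)) (.leaf (nat_lit 0x55))))) (.node 4 (.node 2 (.node 1 (.leaf (nat_lit 0x55)) (.leaf (nat_lit 0x55))) (.node 1 (.leaf (nat_lit 0x55)) (.leaf (nat_lit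 0x55)))) (.node 2 (.node 1 (.leaf (nat_lit 0x55)) (.leaf (nat_lit 0x55))) (.node 1 (.leaf (nat_lit 0x55)) (.leaf (nat_lit 0x55)))))) (.node 8 (.node 4 (.node 2 (.node 1 (.leaf (nat_lit 0x55)) (.leaf (nat_lit 0x55))) (.node 1 (.leaf (nat_lit 0x55)) (.leaf (nat_lit 0x55)))) (.node 2 (.node 1 (.leaf (nat_lit 0x55)) (.leaf (nat_lit 0x55))) (.node 1 (.leaf (nat_lit 0x55)) (.leaf (nat_lit 0x55))))) (.node 4 (.node 2 (.node 1 (.leaf (nat_lit 0x55)) (.leaf (nat_lit 0x55))) (.node 1 (.leaf (nat_lit 0x55)) (.leaf (nat_lit 0x14)))) (.node 2 (.node 1 (.leaf (nat_lit 0x12)) (.leaf (nat_lit 0x55))) (.node 1 (.leaf (nat_lit 0x13)) (.leaf (nat_lit 0x55)))))))) (.node 32 (.node 16 (.node 8 (.node 4 (.node 2 (.node 1 (.leaf (nat_lit 0xc)) (.leaf (nat_lit 0x55))) (.node 1 (.leaf (nat_lit 0x55)) (.leaf (nat_lit 0xd)))) (.node 2 (.node 1 (.leaf (nat_lit 0x15))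 (.leaf (nat_lit 0x55))) (.node 1 (.leaf (nat_lit 0x16)) (.leaf (nat_lit 0x55))))) (.node 4 (.node 2 (.node 1 (.leaf (nat_lit 0x55)) (.leaf (nat_lit 0x55))) (.node 1 (.leaf (nat_lit 0x17)) (.leaf (nat_lit 0x55)))) (.node 2 (.node 1 (.leaf (nat_lit 0x10)) (.leaf (nat_lit 0x11))) (.node 1 (.leaf (nat_lit 0x55)) (.leaf (nat_lit 0x55)))))) (.node 8 (.node 4 (.node 2 (.node 1 (.leaf (nat_lit 0xf)) (.leaf (nat_lit 0xf))) (.node 1 (.leaf (nat_lit 0x14)) (.leaf (nat_lit 0x13)))) (.node 2 (.node 1 (.leaf (nat_lit 0x55)) (.leaf (nat_lit 0x55))) (.node 1 (.leaf (nat_lit 0x55)) (.leaf (nat_lit 0x55))))) (.node 4 (.node 2 (.node 1 (.leaf (nat_lit 0x55)) (.leaf (nat_lit 0x55))) (.node 1 (.leaf (nat_lit 0x55)) (.leaf (nat_lit 0x55)))) (.node 2 (.node 1 (.leaf (nat_lit 0x55)) (.leaf (nat_lit 0x55))) (.node 1 (.leaf (nat_lit 0x55)) (.leaf (nat_lit 0x55)))))))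 (.node 16 (.node 8 (.node 4 (.node 2 (.node 1 (.leaf (nat_lit 0x55)) (.leaf (nat_lit 0x55))) (.node 1 (.leaf (nat_lit 0x55)) (.leaf (nat_lit 0x1)))) (.node 2 (.node 1 (.leaf (nat_lit 0x55)) (.leaf (nat_lit 0x55))) (.node 1 (.leaf (nat_lit 0x55)) (.leaf (nat_lit 0x55))))) (.node 4 (.node 2 (.node 1 (.leaf (nat_lit 0x55)) (.leaf (nat_lit 0x55))) (.node 1 (.leaf (nat_lit 0x10)) (.leaf (nat_lit 0x55)))) (.node 2 (.node 1 (.leaf (nat_lit 0x11)) (.leaf (nat_lit 0xa))) (.node 1 (.leaf (nat_lit 0x7)) (.leaf (nat_lit 0x55)))))) (.node 8 (.node 4 (.node 2 (.node 1 (.leaf (nat_lit 0x55)) (.leaf (nat_lit 0x55))) (.node 1 (.leaf (nat_lit 0x55)) (.leaf (nat_lit 0x55)))) (.node 2 (.node 1 (.leaf (nat_lit 0x55)) (.leaf (nat_lit 0x55))) (.node 1 (.leaf (nat_lit 0x18)) (.leaf (nat_lit 0x55))))) (.node 4 (.node 2 (.node 1 (.leaf (nat_lit 0x14)) (.leaf (nat_lit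 0x19))) (.node 1 (.leaf (nat_lit 0xd)) (.leaf (nat_lit 0x55)))) (.node 2 (.node 1 (.leaf (nat_lit 0x1a)) (.leaf (nat_lit 0x6))) (.node 1 (.leaf (nat_lit 0x55)) (.leaf (nat_lit 0x55))))))))

noncomputable def lab2 : Tree :=
  .node 64 (.node 32 (.node 16 (.node 8 (.node 4 (.node 2 (.node 1 (.leaf (nat_lit 0x55)) (.leaf (nat_lit 0x55))) (.node 1 (.leaf (nat_lit 0x55)) (.leaf (nat_lit 0x55)))) (.node 2 (.node 1 (.leaf (nat_lit 0x55)) (.leaf (nat_lit 0x55))) (.node 1 (.leaf (nat_lit 0x55)) (.leaf (nat_lit 0x55))))) (.node 4 (.node 2 (.node 1 (.leaf (nat_lit 0x55)) (.leaf (nat_lit 0x55))) (.node 1 (.leaf (nat_lit 0x55)) (.leaf (nat_lit 0x55)))) (.node 2 (.node 1 (.leaf (nat_lit 0x55)) (.leaf (nat_lit 0x55))) (.node 1 (.leaf (nat_lit 0x55)) (.leaf (nat_lit 0x55)))))) (.node 8 (.node 4 (.node 2 (.node 1 (.leaf (nat_lit 0x55)) (.leaf (nat_lit 0x55)))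 (.node 1 (.leaf (nat_lit 0x55)) (.leaf (nat_lit 0x55)))) (.node 2 (.node 1 (.leaf (nat_lit 0x55)) (.leaf (nat_lit 0x55))) (.node 1 (.leaf (nat_lit 0x55)) (.leaf (nat_lit 0x55))))) (.node 4 (.node 2 (.node 1 (.leaf (nat_lit 0x55)) (.leaf (nat_lit 0x55))) (.node 1 (.leaf (nat_lit 0x55)) (.leaf (nat_lit 0x55)))) (.node 2 (.node 1 (.leaf (nat_lit 0x55)) (.leaf (nat_lit 0x55))) (.node 1 (.leaf (nat_lit 0x55)) (.leaf (nat_lit 0x55))))))) (.node 16 (.node 8 (.node 4 (.node 2 (.node 1 (.leaf (nat_lit 0x55)) (.leaf (nat_lit 0x55))) (.node 1 (.leaf (nat_lit 0x55)) (.leaf (nat_lit 0x18)))) (.node 2 (.node 1 (.leaf (nat_lit 0x55)) (.leaf (nat_lit 0x19))) (.node 1 (.leaf (nat_lit 0x55)) (.leaf (nat_lit 0x55))))) (.node 4 (.node 2 (.node 1 (.leaf (nat_lit 0x55)) (.leaf (nat_lit 0x1a))) (.node 1 (.leaf (nat_lit 0x55)) (.leaf (nat_lit 0x12)))) (.node 2 (.node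 1 (.leaf (nat_lit 0x55)) (.leaf (nat_lit 0x55))) (.node 1 (.leaf (nat_lit 0x14)) (.leaf (nat_lit 0x1b)))))) (.node 8 (.node 4 (.node 2 (.node 1 (.leaf (nat_lit 0x55)) (.leaf (nat_lit 0x1c))) (.node 1 (.leaf (nat_lit 0x1d)) (.leaf (nat_lit 0x1e)))) (.node 2 (.node 1 (.leaf (nat_lit 0x55)) (.leaf (nat_lit 0x55))) (.node 1 (.leaf (nat_lit 0x55)) (.leaf (nat_lit 0x55))))) (.node 4 (.node 2 (.node 1 (.leaf (nat_lit 0x55)) (.leaf (nat_lit 0x1f))) (.node 1 (.leaf (nat_lit 0x17)) (.leaf (nat_lit 0x55)))) (.node 2 (.node 1 (.leaf (nat_lit 0x55)) (.leaf (nat_lit 0x16))) (.node 1 (.leaf (nat_lit 0x15)) (.leaf (nat_lit 0x55)))))))) (.node 32 (.node 16 (.node 8 (.node 4 (.node 2 (.node 1 (.leaf (nat_lit 0x55)) (.leaf (nat_lit 0x55))) (.node 1 (.leaf (nat_lit 0x55)) (.leaf (nat_lit 0x55)))) (.node 2 (.node 1 (.leaf (nat_lit 0xa)) (.leaf (nat_lit 0x9)))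 (.node 1 (.leaf (nat_lit 0x15)) (.leaf (nat_lit 0x55))))) (.node 4 (.node 2 (.node 1 (.leaf (nat_lit 0x9)) (.leaf (nat_lit 0xd))) (.node 1 (.leaf (nat_lit 0x18)) (.leaf (nat_lit 0x1a)))) (.node 2 (.node 1 (.leaf (nat_lit 0x55)) (.leaf (nat_lit 0x55))) (.node 1 (.leaf (nat_lit 0x55)) (.leaf (nat_lit 0x55)))))) (.node 8 (.node 4 (.node 2 (.node 1 (.leaf (nat_lit 0x55)) (.leaf (nat_lit 0x55))) (.node 1 (.leaf (nat_lit 0x17)) (.leaf (nat_lit 0x55)))) (.node 2 (.node 1 (.leaf (nat_lit 0x55)) (.leaf (nat_lit 0x55))) (.node 1 (.leaf (nat_lit 0x55)) (.leaf (nat_lit 0x55))))) (.node 4 (.node 2 (.node 1 (.leaf (nat_lit 0x2)) (.leaf (nat_lit 0x3))) (.node 1 (.leaf (nat_lit 0x55)) (.leaf (nat_lit 0x55)))) (.node 2 (.node 1 (.leaf (nat_lit 0x55)) (.leaf (nat_lit 0x55))) (.node 1 (.leaf (nat_lit 0x15)) (.leaf (nat_lit 0x55))))))) (.node 16 (.node 8 (.node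 4 (.node 2 (.node 1 (.leaf (nat_lit 0x55)) (.leaf (nat_lit 0x55))) (.node 1 (.leaf (nat_lit 0x55)) (.leaf (nat_lit 0xf)))) (.node 2 (.node 1 (.leaf (nat_lit 0x16)) (.leaf (nat_lit 0x9))) (.node 1 (.leaf (nat_lit 0x55)) (.leaf (nat_lit 0x5))))) (.node 4 (.node 2 (.node 1 (.leaf (nat_lit 0x55)) (.leaf (nat_lit 0x55))) (.node 1 (.leaf (nat_lit 0x55)) (.leaf (nat_lit 0x55)))) (.node 2 (.node 1 (.leaf (nat_lit 0x55)) (.leaf (nat_lit 0x55))) (.node 1 (.leaf (nat_lit 0x55)) (.leaf (nat_lit 0x55)))))) (.node 8 (.node 4 (.node 2 (.node 1 (.leaf (nat_lit 0x55)) (.leaf (nat_lit 0x55))) (.node 1 (.leaf (nat_lit 0x55)) (.leaf (nat_lit 0x55)))) (.node 2 (.node 1 (.leaf (nat_lit 0x55)) (.leaf (nat_lit 0x55))) (.node 1 (.leaf (nat_lit 0x55)) (.leaf (nat_lit 0x55))))) (.node 4 (.node 2 (.node 1 (.leaf (nat_lit 0x20)) (.leaf (nat_lit 0x55))) (.node 1 (.leaf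 (nat_lit 0x55)) (.leaf (nat_lit 0x21)))) (.node 2 (.node 1 (.leaf (nat_lit 0x22)) (.leaf (nat_lit 0x55))) (.node 1 (.leaf (nat_lit 0x23)) (.leaf (nat_lit 0x55))))))))

noncomputable def lab3 : Tree :=
  .node 64 (.node 32 (.node 16 (.node 8 (.node 4 (.node 2 (.node 1 (.leaf (nat_lit 0x55)) (.leaf (nat_lit 0x55))) (.node 1 (.leaf (nat_lit 0x55)) (.leaf (nat_lit 0x55)))) (.node 2 (.node 1 (.leaf (nat_lit 0x55)) (.leaf (nat_lit 0x55))) (.node 1 (.leaf (nat_lit 0x55)) (.leaf (nat_lit 0x55))))) (.node 4 (.node 2 (.node 1 (.leaf (nat_lit 0x55)) (.leaf (nat_lit 0x55))) (.node 1 (.leaf (nat_lit 0x55)) (.leaf (nat_lit 0x55)))) (.node 2 (.node 1 (.leaf (nat_lit 0x55)) (.leaf (nat_lit 0x55))) (.node 1 (.leaf (nat_lit 0x55)) (.leaf (nat_lit 0x55)))))) (.node 8 (.node 4 (.node 2 (.node 1 (.leaf (nat_lit 0x55)) (.leaf (nat_lit 0x55))) (.node 1 (.leaf (nat_lit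 0x55)) (.leaf (nat_lit 0x55)))) (.node 2 (.node 1 (.leaf (nat_lit 0x55)) (.leaf (nat_lit 0x55))) (.node 1 (.leaf (nat_lit 0x55)) (.leaf (nat_lit 0x55))))) (.node 4 (.node 2 (.node 1 (.leaf (nat_lit 0x55)) (.leaf (nat_lit 0x55))) (.node 1 (.leaf (nat_lit 0x55)) (.leaf (nat_lit 0x55)))) (.node 2 (.node 1 (.leaf (nat_lit 0x55)) (.leaf (nat_lit 0x55))) (.node 1 (.leaf (nat_lit 0x55)) (.leaf (nat_lit 0x55))))))) (.node 16 (.node 8 (.node 4 (.node 2 (.node 1 (.leaf (nat_lit 0x55)) (.leaf (nat_lit 0x55))) (.node 1 (.leaf (nat_lit 0x55)) (.leaf (nat_lit 0x55)))) (.node 2 (.node 1 (.leaf (nat_lit 0x55)) (.leaf (nat_lit 0x55))) (.node 1 (.leaf (nat_lit 0x55)) (.leaf (nat_lit 0x55))))) (.node 4 (.node 2 (.node 1 (.leaf (nat_lit 0x55)) (.leaf (nat_lit 0x55))) (.node 1 (.leaf (nat_lit 0x55)) (.leaf (nat_lit 0x55)))) (.node 2 (.node 1 (.leaf (nat_lit 0x11))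 (.leaf (nat_lit 0x55))) (.node 1 (.leaf (nat_lit 0x55)) (.leaf (nat_lit 0x55)))))) (.node 8 (.node 4 (.node 2 (.node 1 (.leaf (nat_lit 0x55)) (.leaf (nat_lit 0x55))) (.node 1 (.leaf (nat_lit 0x55)) (.leaf (nat_lit 0x55)))) (.node 2 (.node 1 (.leaf (nat_lit 0x55)) (.leaf (nat_lit 0x55))) (.node 1 (.leaf (nat_lit 0x55)) (.leaf (nat_lit 0x55))))) (.node 4 (.node 2 (.node 1 (.leaf (nat_lit 0x55)) (.leaf (nat_lit 0x55))) (.node 1 (.leaf (nat_lit 0x55)) (.leaf (nat_lit 0x55)))) (.node 2 (.node 1 (.leaf (nat_lit 0x55)) (.leaf (nat_lit 0x55))) (.node 1 (.leaf (nat_lit 0x55)) (.leaf (nat_lit 0x55)))))))) (.node 32 (.node 16 (.node 8 (.node 4 (.node 2 (.node 1 (.leaf (nat_lit 0x55)) (.leaf (nat_lit 0x55))) (.node 1 (.leaf (nat_lit 0x55)) (.leaf (nat_lit 0x55)))) (.node 2 (.node 1 (.leaf (nat_lit 0x55)) (.leaf (nat_lit 0x55))) (.node 1 (.leaf (nat_lit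 0x20)) (.leaf (nat_lit 0x55))))) (.node 4 (.node 2 (.node 1 (.leaf (nat_lit 0x21)) (.leaf (nat_lit 0x22))) (.node 1 (.leaf (nat_lit 0x24)) (.leaf (nat_lit 0x55)))) (.node 2 (.node 1 (.leaf (nat_lit 0x55)) (.leaf (nat_lit 0x55))) (.node 1 (.leaf (nat_lit 0x55)) (.leaf (nat_lit 0x55)))))) (.node 8 (.node 4 (.node 2 (.node 1 (.leaf (nat_lit 0x23)) (.leaf (nat_lit 0x55))) (.node 1 (.leaf (nat_lit 0x55)) (.leaf (nat_lit 0x19)))) (.node 2 (.node 1 (.leaf (nat_lit 0x55)) (.leaf (nat_lit 0x55))) (.node 1 (.leaf (nat_lit 0xe)) (.leaf (nat_lit 0xd))))) (.node 4 (.node 2 (.node 1 (.leaf (nat_lit 0x18)) (.leaf (nat_lit 0x55))) (.node 1 (.leaf (nat_lit 0x25)) (.leaf (nat_lit 0x26)))) (.node 2 (.node 1 (.leaf (nat_lit 0x27)) (.leaf (nat_lit 0x55))) (.node 1 (.leaf (nat_lit 0x55)) (.leaf (nat_lit 0x55))))))) (.node 16 (.node 8 (.node 4 (.node 2 (.node 1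 (.leaf (nat_lit 0x55)) (.leaf (nat_lit 0x28))) (.node 1 (.leaf (nat_lit 0x29)) (.leaf (nat_lit 0x2a)))) (.node 2 (.node 1 (.leaf (nat_lit 0x2b)) (.leaf (nat_lit 0x2c))) (.node 1 (.leaf (nat_lit 0x2d)) (.leaf (nat_lit 0x55))))) (.node 4 (.node 2 (.node 1 (.leaf (nat_lit 0x55)) (.leaf (nat_lit 0x55))) (.node 1 (.leaf (nat_lit 0x55)) (.leaf (nat_lit 0x55)))) (.node 2 (.node 1 (.leaf (nat_lit 0x55)) (.leaf (nat_lit 0x55))) (.node 1 (.leaf (nat_lit 0x55)) (.leaf (nat_lit 0x55)))))) (.node 8 (.node 4 (.node 2 (.node 1 (.leaf (nat_lit 0x55)) (.leaf (nat_lit 0x55))) (.node 1 (.leaf (nat_lit 0x55)) (.leaf (nat_lit 0x25)))) (.node 2 (.node 1 (.leaf (nat_lit 0x55)) (.leaf (nat_lit 0x2e))) (.node 1 (.leaf (nat_lit 0x1f)) (.leaf (nat_lit 0x55))))) (.node 4 (.node 2 (.node 1 (.leaf (nat_lit 0x55)) (.leaf (nat_lit 0x55))) (.node 1 (.leaf (nat_lit 0x1f))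 (.leaf (nat_lit 0x55)))) (.node 2 (.node 1 (.leaf (nat_lit 0x1c)) (.leaf (nat_lit 0x1d))) (.node 1 (.leaf (nat_lit 0x1b)) (.leaf (nat_lit 0x55))))))))

noncomputable def lab4 : Tree :=
  .node 64 (.node 32 (.node 16 (.node 8 (.node 4 (.node 2 (.node 1 (.leaf (nat_lit 0x1b)) (.leaf (nat_lit 0x55))) (.node 1 (.leaf (nat_lit 0x55)) (.leaf (nat_lit 0x55)))) (.node 2 (.node 1 (.leaf (nat_lit 0x55)) (.leaf (nat_lit 0x55))) (.node 1 (.leaf (nat_lit 0x55)) (.leaf (nat_lit 0x55))))) (.node 4 (.node 2 (.node 1 (.leaf (nat_lit 0x55)) (.leaf (nat_lit 0x55))) (.node 1 (.leaf (nat_lit 0x55)) (.leaf (nat_lit 0x7)))) (.node 2 (.node 1 (.leaf (nat_lit 0x11)) (.leaf (nat_lit 0x55))) (.node 1 (.leaf (nat_lit 0xf)) (.leaf (nat_lit 0x10)))))) (.node 8 (.node 4 (.node 2 (.node 1 (.leaf (nat_lit 0x55)) (.leaf (nat_lit 0x55))) (.node 1 (.leaf (nat_lit 0x55)) (.leaf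 (nat_lit 0x55)))) (.node 2 (.node 1 (.leaf (nat_lit 0x7)) (.leaf (nat_lit 0x10))) (.node 1 (.leaf (nat_lit 0x55)) (.leaf (nat_lit 0x8))))) (.node 4 (.node 2 (.node 1 (.leaf (nat_lit 0x14)) (.leaf (nat_lit 0x12))) (.node 1 (.leaf (nat_lit 0x20)) (.leaf (nat_lit 0x23)))) (.node 2 (.node 1 (.leaf (nat_lit 0x55)) (.leaf (nat_lit 0x55))) (.node 1 (.leaf (nat_lit 0x55)) (.leaf (nat_lit 0x55))))))) (.node 16 (.node 8 (.node 4 (.node 2 (.node 1 (.leaf (nat_lit 0x55)) (.leaf (nat_lit 0x55))) (.node 1 (.leaf (nat_lit 0x55)) (.leaf (nat_lit 0x55)))) (.node 2 (.node 1 (.leaf (nat_lit 0x55)) (.leaf (nat_lit 0x4))) (.node 1 (.leaf (nat_lit 0x55)) (.leaf (nat_lit 0x55))))) (.node 4 (.node 2 (.node 1 (.leaf (nat_lit 0x55)) (.leaf (nat_lit 0x55))) (.node 1 (.leaf (nat_lit 0x55)) (.leaf (nat_lit 0x55)))) (.node 2 (.node 1 (.leaf (nat_lit 0x1b)) (.leaf (nat_lit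 0x55))) (.node 1 (.leaf (nat_lit 0x55)) (.leaf (nat_lit 0x55)))))) (.node 8 (.node 4 (.node 2 (.node 1 (.leaf (nat_lit 0x55)) (.leaf (nat_lit 0x55))) (.node 1 (.leaf (nat_lit 0x55)) (.leaf (nat_lit 0x55)))) (.node 2 (.node 1 (.leaf (nat_lit 0x55)) (.leaf (nat_lit 0x1c))) (.node 1 (.leaf (nat_lit 0x1d)) (.leaf (nat_lit 0x55))))) (.node 4 (.node 2 (.node 1 (.leaf (nat_lit 0x55)) (.leaf (nat_lit 0x55))) (.node 1 (.leaf (nat_lit 0x55)) (.leaf (nat_lit 0x55)))) (.node 2 (.node 1 (.leaf (nat_lit 0x55)) (.leaf (nat_lit 0x55))) (.node 1 (.leaf (nat_lit 0x55)) (.leaf (nat_lit 0x55)))))))) (.node 32 (.node 16 (.node 8 (.node 4 (.node 2 (.node 1 (.leaf (nat_lit 0x55)) (.leaf (nat_lit 0x55))) (.node 1 (.leaf (nat_lit 0x55)) (.leaf (nat_lit 0x55)))) (.node 2 (.node 1 (.leaf (nat_lit 0x55)) (.leaf (nat_lit 0x55))) (.node 1 (.leaf (nat_lit 0x55)) (.leaf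 (nat_lit 0x55))))) (.node 4 (.node 2 (.node 1 (.leaf (nat_lit 0x55)) (.leaf (nat_lit 0x55))) (.node 1 (.leaf (nat_lit 0x55)) (.leaf (nat_lit 0x55)))) (.node 2 (.node 1 (.leaf (nat_lit 0x55)) (.leaf (nat_lit 0x55))) (.node 1 (.leaf (nat_lit 0x55)) (.leaf (nat_lit 0x55)))))) (.node 8 (.node 4 (.node 2 (.node 1 (.leaf (nat_lit 0x55)) (.leaf (nat_lit 0x55))) (.node 1 (.leaf (nat_lit 0x55)) (.leaf (nat_lit 0x55)))) (.node 2 (.node 1 (.leaf (nat_lit 0x55)) (.leaf (nat_lit 0x55))) (.node 1 (.leaf (nat_lit 0x55)) (.leaf (nat_lit 0x55))))) (.node 4 (.node 2 (.node 1 (.leaf (nat_lit 0x55)) (.leaf (nat_lit 0x55))) (.node 1 (.leaf (nat_lit 0x55)) (.leaf (nat_lit 0x55)))) (.node 2 (.node 1 (.leaf (nat_lit 0x55)) (.leaf (nat_lit 0x2f))) (.node 1 (.leaf (nat_lit 0x30)) (.leaf (nat_lit 0x55))))))) (.node 16 (.node 8 (.node 4 (.node 2 (.node 1 (.leaf (nat_lit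 0x55)) (.leaf (nat_lit 0x55))) (.node 1 (.leaf (nat_lit 0x55)) (.leaf (nat_lit 0x31)))) (.node 2 (.node 1 (.leaf (nat_lit 0x2c)) (.leaf (nat_lit 0x32))) (.node 1 (.leaf (nat_lit 0x55)) (.leaf (nat_lit 0x55))))) (.node 4 (.node 2 (.node 1 (.leaf (nat_lit 0x55)) (.leaf (nat_lit 0x55))) (.node 1 (.leaf (nat_lit 0x55)) (.leaf (nat_lit 0x55)))) (.node 2 (.node 1 (.leaf (nat_lit 0x55)) (.leaf (nat_lit 0x55))) (.node 1 (.leaf (nat_lit 0x55)) (.leaf (nat_lit 0x55)))))) (.node 8 (.node 4 (.node 2 (.node 1 (.leaf (nat_lit 0x55)) (.leaf (nat_lit 0x55))) (.node 1 (.leaf (nat_lit 0x55)) (.leaf (nat_lit 0x55)))) (.node 2 (.node 1 (.leaf (nat_lit 0x55)) (.leaf (nat_lit 0x55))) (.node 1 (.leaf (nat_lit 0x55)) (.leaf (nat_lit 0x55))))) (.node 4 (.node 2 (.node 1 (.leaf (nat_lit 0x55)) (.leaf (nat_lit 0x55))) (.node 1 (.leaf (nat_lit 0x55)) (.leaf (nat_lit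 0x55)))) (.node 2 (.node 1 (.leaf (nat_lit 0x55)) (.leaf (nat_lit 0x55))) (.node 1 (.leaf (nat_lit 0x55)) (.leaf (nat_lit 0x55))))))))

noncomputable def lab5 : Tree :=
  .node 64 (.node 32 (.node 16 (.node 8 (.node 4 (.node 2 (.node 1 (.leaf (nat_lit 0x55)) (.leaf (nat_lit 0x55))) (.node 1 (.leaf (nat_lit 0x55)) (.leaf (nat_lit 0x55)))) (.node 2 (.node 1 (.leaf (nat_lit 0x55)) (.leaf (nat_lit 0x55))) (.node 1 (.leaf (nat_lit 0x55)) (.leaf (nat_lit 0x55))))) (.node 4 (.node 2 (.node 1 (.leaf (nat_lit 0x55)) (.leaf (nat_lit 0x55))) (.node 1 (.leaf (nat_lit 0x55)) (.leaf (nat_lit 0x55)))) (.node 2 (.node 1 (.leaf (nat_lit 0x55)) (.leaf (nat_lit 0x55))) (.node 1 (.leaf (nat_lit 0x55)) (.leaf (nat_lit 0x55)))))) (.node 8 (.node 4 (.node 2 (.node 1 (.leaf (nat_lit 0x55)) (.leaf (nat_lit 0x55))) (.node 1 (.leaf (nat_lit 0x55)) (.leaf (nat_lit 0x55))))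 (.node 2 (.node 1 (.leaf (nat_lit 0x55)) (.leaf (nat_lit 0x55))) (.node 1 (.leaf (nat_lit 0x55)) (.leaf (nat_lit 0x55))))) (.node 4 (.node 2 (.node 1 (.leaf (nat_lit 0x15)) (.leaf (nat_lit 0x55))) (.node 1 (.leaf (nat_lit 0x33)) (.leaf (nat_lit 0x55)))) (.node 2 (.node 1 (.leaf (nat_lit 0x55)) (.leaf (nat_lit 0x55))) (.node 1 (.leaf (nat_lit 0x55)) (.leaf (nat_lit 0x55))))))) (.node 16 (.node 8 (.node 4 (.node 2 (.node 1 (.leaf (nat_lit 0x55)) (.leaf (nat_lit 0x55))) (.node 1 (.leaf (nat_lit 0x55)) (.leaf (nat_lit 0x55)))) (.node 2 (.node 1 (.leaf (nat_lit 0x55)) (.leaf (nat_lit 0x55))) (.node 1 (.leaf (nat_lit 0x55)) (.leaf (nat_lit 0x55))))) (.node 4 (.node 2 (.node 1 (.leaf (nat_lit 0x55)) (.leaf (nat_lit 0x55))) (.node 1 (.leaf (nat_lit 0x55)) (.leaf (nat_lit 0x55)))) (.node 2 (.node 1 (.leaf (nat_lit 0x55)) (.leaf (nat_lit 0x55))) (.node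 1 (.leaf (nat_lit 0x55)) (.leaf (nat_lit 0x13)))))) (.node 8 (.node 4 (.node 2 (.node 1 (.leaf (nat_lit 0x55)) (.leaf (nat_lit 0x55))) (.node 1 (.leaf (nat_lit 0x55)) (.leaf (nat_lit 0x55)))) (.node 2 (.node 1 (.leaf (nat_lit 0x55)) (.leaf (nat_lit 0x55))) (.node 1 (.leaf (nat_lit 0xb)) (.leaf (nat_lit 0x55))))) (.node 4 (.node 2 (.node 1 (.leaf (nat_lit 0x17)) (.leaf (nat_lit 0xa))) (.node 1 (.leaf (nat_lit 0x55)) (.leaf (nat_lit 0x55)))) (.node 2 (.node 1 (.leaf (nat_lit 0x55)) (.leaf (nat_lit 0x55))) (.node 1 (.leaf (nat_lit 0x55)) (.leaf (nat_lit 0x55)))))))) (.node 32 (.node 16 (.node 8 (.node 4 (.node 2 (.node 1 (.leaf (nat_lit 0x55)) (.leaf (nat_lit 0x55))) (.node 1 (.leaf (nat_lit 0x55)) (.leaf (nat_lit 0x55)))) (.node 2 (.node 1 (.leaf (nat_lit 0x55)) (.leaf (nat_lit 0x55))) (.node 1 (.leaf (nat_lit 0x55)) (.leaf (nat_lit 0x55)))))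 (.node 4 (.node 2 (.node 1 (.leaf (nat_lit 0x55)) (.leaf (nat_lit 0x55))) (.node 1 (.leaf (nat_lit 0x55)) (.leaf (nat_lit 0x55)))) (.node 2 (.node 1 (.leaf (nat_lit 0x55)) (.leaf (nat_lit 0x55))) (.node 1 (.leaf (nat_lit 0x55)) (.leaf (nat_lit 0x55)))))) (.node 8 (.node 4 (.node 2 (.node 1 (.leaf (nat_lit 0x55)) (.leaf (nat_lit 0x55))) (.node 1 (.leaf (nat_lit 0x55)) (.leaf (nat_lit 0x55)))) (.node 2 (.node 1 (.leaf (nat_lit 0x55)) (.leaf (nat_lit 0x55))) (.node 1 (.leaf (nat_lit 0x55)) (.leaf (nat_lit 0x55))))) (.node 4 (.node 2 (.node 1 (.leaf (nat_lit 0x55)) (.leaf (nat_lit 0xc))) (.node 1 (.leaf (nat_lit 0x55)) (.leaf (nat_lit 0x55)))) (.node 2 (.node 1 (.leaf (nat_lit 0x55)) (.leaf (nat_lit 0x55))) (.node 1 (.leaf (nat_lit 0x55)) (.leaf (nat_lit 0x55))))))) (.node 16 (.node 8 (.node 4 (.node 2 (.node 1 (.leaf (nat_lit 0x55)) (.leaf (nat_lit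 0x55))) (.node 1 (.leaf (nat_lit 0x55)) (.leaf (nat_lit 0x55)))) (.node 2 (.node 1 (.leaf (nat_lit 0x55)) (.leaf (nat_lit 0x2f))) (.node 1 (.leaf (nat_lit 0x30)) (.leaf (nat_lit 0x34))))) (.node 4 (.node 2 (.node 1 (.leaf (nat_lit 0x55)) (.leaf (nat_lit 0x55))) (.node 1 (.leaf (nat_lit 0x55)) (.leaf (nat_lit 0x55)))) (.node 2 (.node 1 (.leaf (nat_lit 0x31)) (.leaf (nat_lit 0x2c))) (.node 1 (.leaf (nat_lit 0x35)) (.leaf (nat_lit 0x36)))))) (.node 8 (.node 4 (.node 2 (.node 1 (.leaf (nat_lit 0x29)) (.leaf (nat_lit 0x37))) (.node 1 (.leaf (nat_lit 0x55)) (.leaf (nat_lit 0x55)))) (.node 2 (.node 1 (.leaf (nat_lit 0x55)) (.leaf (nat_lit 0x55))) (.node 1 (.leaf (nat_lit 0x55)) (.leaf (nat_lit 0x55))))) (.node 4 (.node 2 (.node 1 (.leaf (nat_lit 0x55)) (.leaf (nat_lit 0x55))) (.node 1 (.leaf (nat_lit 0x55)) (.leaf (nat_lit 0x55)))) (.node 2 (.node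 1 (.leaf (nat_lit 0x2f)) (.leaf (nat_lit 0x55))) (.node 1 (.leaf (nat_lit 0x32)) (.leaf (nat_lit 0x55))))))))

noncomputable def lab6 : Tree :=
  .node 64 (.node 32 (.node 16 (.node 8 (.node 4 (.node 2 (.node 1 (.leaf (nat_lit 0x55)) (.leaf (nat_lit 0x21))) (.node 1 (.leaf (nat_lit 0x22)) (.leaf (nat_lit 0x20)))) (.node 2 (.node 1 (.leaf (nat_lit 0x55)) (.leaf (nat_lit 0x55))) (.node 1 (.leaf (nat_lit 0x55)) (.leaf (nat_lit 0x55))))) (.node 4 (.node 2 (.node 1 (.leaf (nat_lit 0x55)) (.leaf (nat_lit 0x8))) (.node 1 (.leaf (nat_lit 0x13)) (.leaf (nat_lit 0x55)))) (.node 2 (.node 1 (.leaf (nat_lit 0x12)) (.leaf (nat_lit 0x55))) (.node 1 (.leaf (nat_lit 0x55)) (.leaf (nat_lit 0x55)))))) (.node 8 (.node 4 (.node 2 (.node 1 (.leaf (nat_lit 0x27)) (.leaf (nat_lit 0x38))) (.node 1 (.leaf (nat_lit 0x39)) (.leaf (nat_lit 0x55)))) (.node 2 (.node 1 (.leaf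 (nat_lit 0x55)) (.leaf (nat_lit 0x55))) (.node 1 (.leaf (nat_lit 0x55)) (.leaf (nat_lit 0x55))))) (.node 4 (.node 2 (.node 1 (.leaf (nat_lit 0x55)) (.leaf (nat_lit 0x55))) (.node 1 (.leaf (nat_lit 0x55)) (.leaf (nat_lit 0x31)))) (.node 2 (.node 1 (.leaf (nat_lit 0x3a)) (.leaf (nat_lit 0x33))) (.node 1 (.leaf (nat_lit 0x3b)) (.leaf (nat_lit 0x24))))))) (.node 16 (.node 8 (.node 4 (.node 2 (.node 1 (.leaf (nat_lit 0x3c)) (.leaf (nat_lit 0x3d))) (.node 1 (.leaf (nat_lit 0x33)) (.leaf (nat_lit 0x22)))) (.node 2 (.node 1 (.leaf (nat_lit 0x21)) (.leaf (nat_lit 0x3e))) (.node 1 (.leaf (nat_lit 0x3f)) (.leaf (nat_lit 0x55))))) (.node 4 (.node 2 (.node 1 (.leaf (nat_lit 0x55)) (.leaf (nat_lit 0x55))) (.node 1 (.leaf (nat_lit 0x55)) (.leaf (nat_lit 0x55)))) (.node 2 (.node 1 (.leaf (nat_lit 0x2f)) (.leaf (nat_lit 0x55))) (.node 1 (.leaf (nat_lit 0x55))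 (.leaf (nat_lit 0x55)))))) (.node 8 (.node 4 (.node 2 (.node 1 (.leaf (nat_lit 0x55)) (.leaf (nat_lit 0x55))) (.node 1 (.leaf (nat_lit 0x55)) (.leaf (nat_lit 0x55)))) (.node 2 (.node 1 (.leaf (nat_lit 0x55)) (.leaf (nat_lit 0x55))) (.node 1 (.leaf (nat_lit 0x55)) (.leaf (nat_lit 0x55))))) (.node 4 (.node 2 (.node 1 (.leaf (nat_lit 0x55)) (.leaf (nat_lit 0x29))) (.node 1 (.leaf (nat_lit 0x55)) (.leaf (nat_lit 0x55)))) (.node 2 (.node 1 (.leaf (nat_lit 0x55)) (.leaf (nat_lit 0x38))) (.node 1 (.leaf (nat_lit 0x55)) (.leaf (nat_lit 0x55)))))))) (.node 32 (.node 16 (.node 8 (.node 4 (.node 2 (.node 1 (.leaf (nat_lit 0x55)) (.leaf (nat_lit 0x40))) (.node 1 (.leaf (nat_lit 0x41)) (.leaf (nat_lit 0x42)))) (.node 2 (.node 1 (.leaf (nat_lit 0x55)) (.leaf (nat_lit 0x2e))) (.node 1 (.leaf (nat_lit 0x55)) (.leaf (nat_lit 0x55))))) (.node 4 (.node 2 (.node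 1 (.leaf (nat_lit 0x55)) (.leaf (nat_lit 0x2e))) (.node 1 (.leaf (nat_lit 0x55)) (.leaf (nat_lit 0x55)))) (.node 2 (.node 1 (.leaf (nat_lit 0x55)) (.leaf (nat_lit 0x43))) (.node 1 (.leaf (nat_lit 0x28)) (.leaf (nat_lit 0x26)))))) (.node 8 (.node 4 (.node 2 (.node 1 (.leaf (nat_lit 0x26)) (.leaf (nat_lit 0x25))) (.node 1 (.leaf (nat_lit 0x16)) (.leaf (nat_lit 0x55)))) (.node 2 (.node 1 (.leaf (nat_lit 0x55)) (.leaf (nat_lit 0x55))) (.node 1 (.leaf (nat_lit 0x55)) (.leaf (nat_lit 0x55))))) (.node 4 (.node 2 (.node 1 (.leaf (nat_lit 0x55)) (.leaf (nat_lit 0x55))) (.node 1 (.leaf (nat_lit 0x55)) (.leaf (nat_lit 0x55)))) (.node 2 (.node 1 (.leaf (nat_lit 0x5)) (.leaf (nat_lit 0xb))) (.node 1 (.leaf (nat_lit 0x17)) (.leaf (nat_lit 0x55))))))) (.node 16 (.node 8 (.node 4 (.node 2 (.node 1 (.leaf (nat_lit 0x55)) (.leaf (nat_lit 0x16))) (.node 1 (.leaf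 (nat_lit 0x55)) (.leaf (nat_lit 0x55)))) (.node 2 (.node 1 (.leaf (nat_lit 0x55)) (.leaf (nat_lit 0x55))) (.node 1 (.leaf (nat_lit 0x5)) (.leaf (nat_lit 0x6))))) (.node 4 (.node 2 (.node 1 (.leaf (nat_lit 0xe)) (.leaf (nat_lit 0x18))) (.node 1 (.leaf (nat_lit 0x19)) (.leaf (nat_lit 0x30)))) (.node 2 (.node 1 (.leaf (nat_lit 0x32)) (.leaf (nat_lit 0x55))) (.node 1 (.leaf (nat_lit 0x55)) (.leaf (nat_lit 0x55)))))) (.node 8 (.node 4 (.node 2 (.node 1 (.leaf (nat_lit 0x55)) (.leaf (nat_lit 0x55))) (.node 1 (.leaf (nat_lit 0x55)) (.leaf (nat_lit 0x55)))) (.node 2 (.node 1 (.leaf (nat_lit 0x55)) (.leaf (nat_lit 0x55))) (.node 1 (.leaf (nat_lit 0x55)) (.leaf (nat_lit 0x55))))) (.node 4 (.node 2 (.node 1 (.leaf (nat_lit 0x55)) (.leaf (nat_lit 0x55))) (.node 1 (.leaf (nat_lit 0x55)) (.leaf (nat_lit 0x25)))) (.node 2 (.node 1 (.leaf (nat_lit 0x26))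 (.leaf (nat_lit 0x55))) (.node 1 (.leaf (nat_lit 0x55)) (.leaf (nat_lit 0x55))))))))

noncomputable def lab7 : Tree :=
  .node 64 (.node 32 (.node 16 (.node 8 (.node 4 (.node 2 (.node 1 (.leaf (nat_lit 0x55)) (.leaf (nat_lit 0x55))) (.node 1 (.leaf (nat_lit 0x55)) (.leaf (nat_lit 0x55)))) (.node 2 (.node 1 (.leaf (nat_lit 0x55)) (.leaf (nat_lit 0x55))) (.node 1 (.leaf (nat_lit 0x55)) (.leaf (nat_lit 0x55))))) (.node 4 (.node 2 (.node 1 (.leaf (nat_lit 0x55)) (.leaf (nat_lit 0x55))) (.node 1 (.leaf (nat_lit 0x55)) (.leaf (nat_lit 0x28)))) (.node 2 (.node 1 (.leaf (nat_lit 0x29)) (.leaf (nat_lit 0x55))) (.node 1 (.leaf (nat_lit 0x55)) (.leaf (nat_lit 0x55)))))) (.node 8 (.node 4 (.node 2 (.node 1 (.leaf (nat_lit 0x55)) (.leaf (nat_lit 0x55))) (.node 1 (.leaf (nat_lit 0x55)) (.leaf (nat_lit 0x55)))) (.node 2 (.node 1 (.leaf (nat_lit 0x55)) (.leaf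 (nat_lit 0x55))) (.node 1 (.leaf (nat_lit 0x55)) (.leaf (nat_lit 0x55))))) (.node 4 (.node 2 (.node 1 (.leaf (nat_lit 0x55)) (.leaf (nat_lit 0x55))) (.node 1 (.leaf (nat_lit 0x55)) (.leaf (nat_lit 0x55)))) (.node 2 (.node 1 (.leaf (nat_lit 0x55)) (.leaf (nat_lit 0x55))) (.node 1 (.leaf (nat_lit 0x55)) (.leaf (nat_lit 0x55))))))) (.node 16 (.node 8 (.node 4 (.node 2 (.node 1 (.leaf (nat_lit 0x55)) (.leaf (nat_lit 0x55))) (.node 1 (.leaf (nat_lit 0x55)) (.leaf (nat_lit 0x55)))) (.node 2 (.node 1 (.leaf (nat_lit 0x55)) (.leaf (nat_lit 0x55))) (.node 1 (.leaf (nat_lit 0x55)) (.leaf (nat_lit 0x55))))) (.node 4 (.node 2 (.node 1 (.leaf (nat_lit 0x55)) (.leaf (nat_lit 0x55))) (.node 1 (.leaf (nat_lit 0x55)) (.leaf (nat_lit 0x55)))) (.node 2 (.node 1 (.leaf (nat_lit 0x55)) (.leaf (nat_lit 0x55))) (.node 1 (.leaf (nat_lit 0x55)) (.leaf (nat_lit 0x55))))))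 (.node 8 (.node 4 (.node 2 (.node 1 (.leaf (nat_lit 0x55)) (.leaf (nat_lit 0x55))) (.node 1 (.leaf (nat_lit 0x55)) (.leaf (nat_lit 0x55)))) (.node 2 (.node 1 (.leaf (nat_lit 0x55)) (.leaf (nat_lit 0x55))) (.node 1 (.leaf (nat_lit 0x55)) (.leaf (nat_lit 0x55))))) (.node 4 (.node 2 (.node 1 (.leaf (nat_lit 0x55)) (.leaf (nat_lit 0x55))) (.node 1 (.leaf (nat_lit 0x55)) (.leaf (nat_lit 0x55)))) (.node 2 (.node 1 (.leaf (nat_lit 0x55)) (.leaf (nat_lit 0x55))) (.node 1 (.leaf (nat_lit 0x55)) (.leaf (nat_lit 0x55)))))))) (.node 32 (.node 16 (.node 8 (.node 4 (.node 2 (.node 1 (.leaf (nat_lit 0x34)) (.leaf (nat_lit 0x3e))) (.node 1 (.leaf (nat_lit 0x55)) (.leaf (nat_lit 0x55)))) (.node 2 (.node 1 (.leaf (nat_lit 0x55)) (.leaf (nat_lit 0x55))) (.node 1 (.leaf (nat_lit 0x55)) (.leaf (nat_lit 0x55))))) (.node 4 (.node 2 (.node 1 (.leaf (nat_lit 0x55))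 (.leaf (nat_lit 0x55))) (.node 1 (.leaf (nat_lit 0x55)) (.leaf (nat_lit 0x55)))) (.node 2 (.node 1 (.leaf (nat_lit 0x55)) (.leaf (nat_lit 0x3a))) (.node 1 (.leaf (nat_lit 0x1e)) (.leaf (nat_lit 0x44)))))) (.node 8 (.node 4 (.node 2 (.node 1 (.leaf (nat_lit 0x45)) (.leaf (nat_lit 0x43))) (.node 1 (.leaf (nat_lit 0x55)) (.leaf (nat_lit 0x55)))) (.node 2 (.node 1 (.leaf (nat_lit 0x55)) (.leaf (nat_lit 0x55))) (.node 1 (.leaf (nat_lit 0x55)) (.leaf (nat_lit 0x55))))) (.node 4 (.node 2 (.node 1 (.leaf (nat_lit 0x55)) (.leaf (nat_lit 0x55))) (.node 1 (.leaf (nat_lit 0x55)) (.leaf (nat_lit 0x55)))) (.node 2 (.node 1 (.leaf (nat_lit 0x55)) (.leaf (nat_lit 0x55))) (.node 1 (.leaf (nat_lit 0x55)) (.leaf (nat_lit 0x55))))))) (.node 16 (.node 8 (.node 4 (.node 2 (.node 1 (.leaf (nat_lit 0x55)) (.leaf (nat_lit 0x55))) (.node 1 (.leaf (nat_lit 0x55)) (.leaf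 (nat_lit 0x55)))) (.node 2 (.node 1 (.leaf (nat_lit 0x55)) (.leaf (nat_lit 0x55))) (.node 1 (.leaf (nat_lit 0x55)) (.leaf (nat_lit 0x55))))) (.node 4 (.node 2 (.node 1 (.leaf (nat_lit 0x55)) (.leaf (nat_lit 0x55))) (.node 1 (.leaf (nat_lit 0x55)) (.leaf (nat_lit 0x55)))) (.node 2 (.node 1 (.leaf (nat_lit 0x55)) (.leaf (nat_lit 0x55))) (.node 1 (.leaf (nat_lit 0x55)) (.leaf (nat_lit 0x55)))))) (.node 8 (.node 4 (.node 2 (.node 1 (.leaf (nat_lit 0x55)) (.leaf (nat_lit 0x55))) (.node 1 (.leaf (nat_lit 0x55)) (.leaf (nat_lit 0x55)))) (.node 2 (.node 1 (.leaf (nat_lit 0x55)) (.leaf (nat_lit 0x55))) (.node 1 (.leaf (nat_lit 0x55)) (.leaf (nat_lit 0x55))))) (.node 4 (.node 2 (.node 1 (.leaf (nat_lit 0x55)) (.leaf (nat_lit 0x55))) (.node 1 (.leaf (nat_lit 0x55)) (.leaf (nat_lit 0x55)))) (.node 2 (.node 1 (.leaf (nat_lit 0x55)) (.leaf (nat_lit 0x55)))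 (.node 1 (.leaf (nat_lit 0x55)) (.leaf (nat_lit 0xc))))))))

noncomputable def lab8 : Tree :=
  .node 64 (.node 32 (.node 16 (.node 8 (.node 4 (.node 2 (.node 1 (.leaf (nat_lit 0x55)) (.leaf (nat_lit 0x55))) (.node 1 (.leaf (nat_lit 0x55)) (.leaf (nat_lit 0x55)))) (.node 2 (.node 1 (.leaf (nat_lit 0x55)) (.leaf (nat_lit 0x55))) (.node 1 (.leaf (nat_lit 0x55)) (.leaf (nat_lit 0x55))))) (.node 4 (.node 2 (.node 1 (.leaf (nat_lit 0x55)) (.leaf (nat_lit 0x55))) (.node 1 (.leaf (nat_lit 0x55)) (.leaf (nat_lit 0x55)))) (.node 2 (.node 1 (.leaf (nat_lit 0x55)) (.leaf (nat_lit 0x55))) (.node 1 (.leaf (nat_lit 0x55)) (.leaf (nat_lit 0x1b)))))) (.node 8 (.node 4 (.node 2 (.node 1 (.leaf (nat_lit 0x55)) (.leaf (nat_lit 0x2b))) (.node 1 (.leaf (nat_lit 0x55)) (.leaf (nat_lit 0x55)))) (.node 2 (.node 1 (.leaf (nat_lit 0x55)) (.leaf (nat_lit 0x55))) (.node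 1 (.leaf (nat_lit 0x55)) (.leaf (nat_lit 0x55))))) (.node 4 (.node 2 (.node 1 (.leaf (nat_lit 0x55)) (.leaf (nat_lit 0x55))) (.node 1 (.leaf (nat_lit 0x55)) (.leaf (nat_lit 0x55)))) (.node 2 (.node 1 (.leaf (nat_lit 0x55)) (.leaf (nat_lit 0x55))) (.node 1 (.leaf (nat_lit 0x55)) (.leaf (nat_lit 0x55))))))) (.node 16 (.node 8 (.node 4 (.node 2 (.node 1 (.leaf (nat_lit 0x55)) (.leaf (nat_lit 0x55))) (.node 1 (.leaf (nat_lit 0x55)) (.leaf (nat_lit 0x55)))) (.node 2 (.node 1 (.leaf (nat_lit 0x55)) (.leaf (nat_lit 0x55))) (.node 1 (.leaf (nat_lit 0x55)) (.leaf (nat_lit 0x55))))) (.node 4 (.node 2 (.node 1 (.leaf (nat_lit 0x55)) (.leaf (nat_lit 0x55))) (.node 1 (.leaf (nat_lit 0x55)) (.leaf (nat_lit 0x55)))) (.node 2 (.node 1 (.leaf (nat_lit 0x55)) (.leaf (nat_lit 0x55))) (.node 1 (.leaf (nat_lit 0x1a)) (.leaf (nat_lit 0x55)))))) (.node 8 (.node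 4 (.node 2 (.node 1 (.leaf (nat_lit 0x55)) (.leaf (nat_lit 0x55))) (.node 1 (.leaf (nat_lit 0x55)) (.leaf (nat_lit 0x55)))) (.node 2 (.node 1 (.leaf (nat_lit 0x55)) (.leaf (nat_lit 0x55))) (.node 1 (.leaf (nat_lit 0x55)) (.leaf (nat_lit 0x55))))) (.node 4 (.node 2 (.node 1 (.leaf (nat_lit 0x55)) (.leaf (nat_lit 0x55))) (.node 1 (.leaf (nat_lit 0x55)) (.leaf (nat_lit 0x46)))) (.node 2 (.node 1 (.leaf (nat_lit 0x1f)) (.leaf (nat_lit 0x55))) (.node 1 (.leaf (nat_lit 0x55)) (.leaf (nat_lit 0x55)))))))) (.node 32 (.node 16 (.node 8 (.node 4 (.node 2 (.node 1 (.leaf (nat_lit 0x55)) (.leaf (nat_lit 0x55))) (.node 1 (.leaf (nat_lit 0x55)) (.leaf (nat_lit 0x55)))) (.node 2 (.node 1 (.leaf (nat_lit 0x55)) (.leaf (nat_lit 0x55))) (.node 1 (.leaf (nat_lit 0x55)) (.leaf (nat_lit 0x55))))) (.node 4 (.node 2 (.node 1 (.leaf (nat_lit 0x55)) (.leaf (nat_lit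 0x55))) (.node 1 (.leaf (nat_lit 0x55)) (.leaf (nat_lit 0x55)))) (.node 2 (.node 1 (.leaf (nat_lit 0x55)) (.leaf (nat_lit 0x55))) (.node 1 (.leaf (nat_lit 0x55)) (.leaf (nat_lit 0x55)))))) (.node 8 (.node 4 (.node 2 (.node 1 (.leaf (nat_lit 0x55)) (.leaf (nat_lit 0x55))) (.node 1 (.leaf (nat_lit 0x55)) (.leaf (nat_lit 0x55)))) (.node 2 (.node 1 (.leaf (nat_lit 0x55)) (.leaf (nat_lit 0x55))) (.node 1 (.leaf (nat_lit 0x55)) (.leaf (nat_lit 0x55))))) (.node 4 (.node 2 (.node 1 (.leaf (nat_lit 0x55)) (.leaf (nat_lit 0x55))) (.node 1 (.leaf (nat_lit 0x55)) (.leaf (nat_lit 0x55)))) (.node 2 (.node 1 (.leaf (nat_lit 0x55)) (.leaf (nat_lit 0x55))) (.node 1 (.leaf (nat_lit 0x55)) (.leaf (nat_lit 0x55))))))) (.node 16 (.node 8 (.node 4 (.node 2 (.node 1 (.leaf (nat_lit 0x55)) (.leaf (nat_lit 0x55))) (.node 1 (.leaf (nat_lit 0x47)) (.leaf (nat_lit 0x55))))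 (.node 2 (.node 1 (.leaf (nat_lit 0x55)) (.leaf (nat_lit 0x55))) (.node 1 (.leaf (nat_lit 0x55)) (.leaf (nat_lit 0x48))))) (.node 4 (.node 2 (.node 1 (.leaf (nat_lit 0x55)) (.leaf (nat_lit 0x34))) (.node 1 (.leaf (nat_lit 0x3e)) (.leaf (nat_lit 0x49)))) (.node 2 (.node 1 (.leaf (nat_lit 0x55)) (.leaf (nat_lit 0x55))) (.node 1 (.leaf (nat_lit 0x55)) (.leaf (nat_lit 0x55)))))) (.node 8 (.node 4 (.node 2 (.node 1 (.leaf (nat_lit 0x55)) (.leaf (nat_lit 0x55))) (.node 1 (.leaf (nat_lit 0x33)) (.leaf (nat_lit 0x3a)))) (.node 2 (.node 1 (.leaf (nat_lit 0x4a)) (.leaf (nat_lit 0x1e))) (.node 1 (.leaf (nat_lit 0x4b)) (.leaf (nat_lit 0x4c))))) (.node 4 (.node 2 (.node 1 (.leaf (nat_lit 0x3a)) (.leaf (nat_lit 0x1d))) (.node 1 (.leaf (nat_lit 0x1c)) (.leaf (nat_lit 0x38)))) (.node 2 (.node 1 (.leaf (nat_lit 0x4d)) (.leaf (nat_lit 0x55))) (.node 1 (.leaf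 (nat_lit 0x55)) (.leaf (nat_lit 0x55))))))))

noncomputable def lab9 : Tree :=
  .node 64 (.node 32 (.node 16 (.node 8 (.node 4 (.node 2 (.node 1 (.leaf (nat_lit 0x55)) (.leaf (nat_lit 0x55))) (.node 1 (.leaf (nat_lit 0x55)) (.leaf (nat_lit 0x55)))) (.node 2 (.node 1 (.leaf (nat_lit 0x2c)) (.leaf (nat_lit 0x55))) (.node 1 (.leaf (nat_lit 0x55)) (.leaf (nat_lit 0x55))))) (.node 4 (.node 2 (.node 1 (.leaf (nat_lit 0x3e)) (.leaf (nat_lit 0x55))) (.node 1 (.leaf (nat_lit 0x44)) (.leaf (nat_lit 0x45)))) (.node 2 (.node 1 (.leaf (nat_lit 0x43)) (.leaf (nat_lit 0x55))) (.node 1 (.leaf (nat_lit 0x55)) (.leaf (nat_lit 0x55)))))) (.node 8 (.node 4 (.node 2 (.node 1 (.leaf (nat_lit 0x55)) (.leaf (nat_lit 0x55))) (.node 1 (.leaf (nat_lit 0x42)) (.leaf (nat_lit 0x30)))) (.node 2 (.node 1 (.leaf (nat_lit 0x55)) (.leaf (nat_lit 0x55))) (.node 1 (.leaf (nat_lit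 0x55)) (.leaf (nat_lit 0x6))))) (.node 4 (.node 2 (.node 1 (.leaf (nat_lit 0x1a)) (.leaf (nat_lit 0x55))) (.node 1 (.leaf (nat_lit 0x19)) (.leaf (nat_lit 0x55)))) (.node 2 (.node 1 (.leaf (nat_lit 0x55)) (.leaf (nat_lit 0x55))) (.node 1 (.leaf (nat_lit 0x55)) (.leaf (nat_lit 0x39))))))) (.node 16 (.node 8 (.node 4 (.node 2 (.node 1 (.leaf (nat_lit 0x2d)) (.leaf (nat_lit 0x2b))) (.node 1 (.leaf (nat_lit 0x55)) (.leaf (nat_lit 0x44)))) (.node 2 (.node 1 (.leaf (nat_lit 0x55)) (.leaf (nat_lit 0x55))) (.node 1 (.leaf (nat_lit 0x55)) (.leaf (nat_lit 0x55))))) (.node 4 (.node 2 (.node 1 (.leaf (nat_lit 0x55)) (.leaf (nat_lit 0x55))) (.node 1 (.leaf (nat_lit 0x55)) (.leaf (nat_lit 0x55)))) (.node 2 (.node 1 (.leaf (nat_lit 0x55)) (.leaf (nat_lit 0x55))) (.node 1 (.leaf (nat_lit 0x55)) (.leaf (nat_lit 0x55)))))) (.node 8 (.node 4 (.node 2 (.node 1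 (.leaf (nat_lit 0x3b)) (.leaf (nat_lit 0x33))) (.node 1 (.leaf (nat_lit 0x3f)) (.leaf (nat_lit 0x36)))) (.node 2 (.node 1 (.leaf (nat_lit 0x31)) (.leaf (nat_lit 0x3f))) (.node 1 (.leaf (nat_lit 0x4a)) (.leaf (nat_lit 0x4d))))) (.node 4 (.node 2 (.node 1 (.leaf (nat_lit 0x35)) (.leaf (nat_lit 0x37))) (.node 1 (.leaf (nat_lit 0x55)) (.leaf (nat_lit 0x4e)))) (.node 2 (.node 1 (.leaf (nat_lit 0x31)) (.leaf (nat_lit 0x30))) (.node 1 (.leaf (nat_lit 0x4a)) (.leaf (nat_lit 0x3b)))))))) (.node 32 (.node 16 (.node 8 (.node 4 (.node 2 (.node 1 (.leaf (nat_lit 0x3b)) (.leaf (nat_lit 0x55))) (.node 1 (.leaf (nat_lit 0x55)) (.leaf (nat_lit 0x55)))) (.node 2 (.node 1 (.leaf (nat_lit 0x34)) (.leaf (nat_lit 0x55))) (.node 1 (.leaf (nat_lit 0x55)) (.leaf (nat_lit 0x55))))) (.node 4 (.node 2 (.node 1 (.leaf (nat_lit 0x55)) (.leaf (nat_lit 0x55))) (.node 1 (.leaf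 (nat_lit 0x55)) (.leaf (nat_lit 0x55)))) (.node 2 (.node 1 (.leaf (nat_lit 0x55)) (.leaf (nat_lit 0x55))) (.node 1 (.leaf (nat_lit 0x55)) (.leaf (nat_lit 0x55)))))) (.node 8 (.node 4 (.node 2 (.node 1 (.leaf (nat_lit 0x55)) (.leaf (nat_lit 0x24))) (.node 1 (.leaf (nat_lit 0x55)) (.leaf (nat_lit 0x55)))) (.node 2 (.node 1 (.leaf (nat_lit 0x55)) (.leaf (nat_lit 0x55))) (.node 1 (.leaf (nat_lit 0x55)) (.leaf (nat_lit 0x55))))) (.node 4 (.node 2 (.node 1 (.leaf (nat_lit 0x55)) (.leaf (nat_lit 0x55))) (.node 1 (.leaf (nat_lit 0x55)) (.leaf (nat_lit 0x55)))) (.node 2 (.node 1 (.leaf (nat_lit 0x49)) (.leaf (nat_lit 0x4f))) (.node 1 (.leaf (nat_lit 0x50)) (.leaf (nat_lit 0x55))))))) (.node 16 (.node 8 (.node 4 (.node 2 (.node 1 (.leaf (nat_lit 0x41)) (.leaf (nat_lit 0x51))) (.node 1 (.leaf (nat_lit 0x55)) (.leaf (nat_lit 0x55)))) (.node 2 (.node 1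 (.leaf (nat_lit 0x40)) (.leaf (nat_lit 0x42))) (.node 1 (.leaf (nat_lit 0x55)) (.leaf (nat_lit 0x55))))) (.node 4 (.node 2 (.node 1 (.leaf (nat_lit 0x40)) (.leaf (nat_lit 0x41))) (.node 1 (.leaf (nat_lit 0x42)) (.leaf (nat_lit 0x55)))) (.node 2 (.node 1 (.leaf (nat_lit 0x55)) (.leaf (nat_lit 0x55))) (.node 1 (.leaf (nat_lit 0x55)) (.leaf (nat_lit 0x55)))))) (.node 8 (.node 4 (.node 2 (.node 1 (.leaf (nat_lit 0x52)) (.leaf (nat_lit 0x55))) (.node 1 (.leaf (nat_lit 0x46)) (.leaf (nat_lit 0x45)))) (.node 2 (.node 1 (.leaf (nat_lit 0x32)) (.leaf (nat_lit 0x3a))) (.node 1 (.leaf (nat_lit 0x4d)) (.leaf (nat_lit 0x55))))) (.node 4 (.node 2 (.node 1 (.leaf (nat_lit 0x1d)) (.leaf (nat_lit 0x27))) (.node 1 (.leaf (nat_lit 0x55)) (.leaf (nat_lit 0x55)))) (.node 2 (.node 1 (.leaf (nat_lit 0x55)) (.leaf (nat_lit 0x55))) (.node 1 (.leaf (nat_lit 0x55))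 (.leaf (nat_lit 0x55))))))))

noncomputable def lab10 : Tree :=
  .node 64 (.node 32 (.node 16 (.node 8 (.node 4 (.node 2 (.node 1 (.leaf (nat_lit 0x55)) (.leaf (nat_lit 0x55))) (.node 1 (.leaf (nat_lit 0x55)) (.leaf (nat_lit 0x1f)))) (.node 2 (.node 1 (.leaf (nat_lit 0x55)) (.leaf (nat_lit 0x55))) (.node 1 (.leaf (nat_lit 0x55)) (.leaf (nat_lit 0x1c))))) (.node 4 (.node 2 (.node 1 (.leaf (nat_lit 0x55)) (.leaf (nat_lit 0x55))) (.node 1 (.leaf (nat_lit 0x55)) (.leaf (nat_lit 0x55)))) (.node 2 (.node 1 (.leaf (nat_lit 0x55)) (.leaf (nat_lit 0x55))) (.node 1 (.leaf (nat_lit 0x55)) (.leaf (nat_lit 0x55)))))) (.node 8 (.node 4 (.node 2 (.node 1 (.leaf (nat_lit 0x55)) (.leaf (nat_lit 0x55))) (.node 1 (.leaf (nat_lit 0x47)) (.leaf (nat_lit 0x20)))) (.node 2 (.node 1 (.leaf (nat_lit 0x44)) (.leaf (nat_lit 0x45))) (.node 1 (.leaf (nat_lit 0x43)) (.leaf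 (nat_lit 0x55))))) (.node 4 (.node 2 (.node 1 (.leaf (nat_lit 0x55)) (.leaf (nat_lit 0x55))) (.node 1 (.leaf (nat_lit 0x55)) (.leaf (nat_lit 0x55)))) (.node 2 (.node 1 (.leaf (nat_lit 0x55)) (.leaf (nat_lit 0x55))) (.node 1 (.leaf (nat_lit 0x55)) (.leaf (nat_lit 0x55))))))) (.node 16 (.node 8 (.node 4 (.node 2 (.node 1 (.leaf (nat_lit 0x55)) (.leaf (nat_lit 0x55))) (.node 1 (.leaf (nat_lit 0x55)) (.leaf (nat_lit 0x27)))) (.node 2 (.node 1 (.leaf (nat_lit 0x38)) (.leaf (nat_lit 0x55))) (.node 1 (.leaf (nat_lit 0x55)) (.leaf (nat_lit 0x55))))) (.node 4 (.node 2 (.node 1 (.leaf (nat_lit 0x55)) (.leaf (nat_lit 0x55))) (.node 1 (.leaf (nat_lit 0x55)) (.leaf (nat_lit 0x55)))) (.node 2 (.node 1 (.leaf (nat_lit 0x55)) (.leaf (nat_lit 0x55))) (.node 1 (.leaf (nat_lit 0x55)) (.leaf (nat_lit 0x55)))))) (.node 8 (.node 4 (.node 2 (.node 1 (.leaf (nat_lit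 0x55)) (.leaf (nat_lit 0x55))) (.node 1 (.leaf (nat_lit 0x55)) (.leaf (nat_lit 0x55)))) (.node 2 (.node 1 (.leaf (nat_lit 0x55)) (.leaf (nat_lit 0x55))) (.node 1 (.leaf (nat_lit 0x55)) (.leaf (nat_lit 0x55))))) (.node 4 (.node 2 (.node 1 (.leaf (nat_lit 0x55)) (.leaf (nat_lit 0x55))) (.node 1 (.leaf (nat_lit 0x55)) (.leaf (nat_lit 0x55)))) (.node 2 (.node 1 (.leaf (nat_lit 0x55)) (.leaf (nat_lit 0x55))) (.node 1 (.leaf (nat_lit 0x55)) (.leaf (nat_lit 0x55)))))))) (.node 32 (.node 16 (.node 8 (.node 4 (.node 2 (.node 1 (.leaf (nat_lit 0x55)) (.leaf (nat_lit 0x55))) (.node 1 (.leaf (nat_lit 0x24)) (.leaf (nat_lit 0x55)))) (.node 2 (.node 1 (.leaf (nat_lit 0x55)) (.leaf (nat_lit 0x55))) (.node 1 (.leaf (nat_lit 0x55)) (.leaf (nat_lit 0x55))))) (.node 4 (.node 2 (.node 1 (.leaf (nat_lit 0x55)) (.leaf (nat_lit 0x55))) (.node 1 (.leaf (nat_lit 0x55))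 (.leaf (nat_lit 0x55)))) (.node 2 (.node 1 (.leaf (nat_lit 0x55)) (.leaf (nat_lit 0x55))) (.node 1 (.leaf (nat_lit 0x55)) (.leaf (nat_lit 0x55)))))) (.node 8 (.node 4 (.node 2 (.node 1 (.leaf (nat_lit 0x55)) (.leaf (nat_lit 0x55))) (.node 1 (.leaf (nat_lit 0x55)) (.leaf (nat_lit 0x55)))) (.node 2 (.node 1 (.leaf (nat_lit 0x55)) (.leaf (nat_lit 0x55))) (.node 1 (.leaf (nat_lit 0x55)) (.leaf (nat_lit 0x55))))) (.node 4 (.node 2 (.node 1 (.leaf (nat_lit 0x55)) (.leaf (nat_lit 0x55))) (.node 1 (.leaf (nat_lit 0x55)) (.leaf (nat_lit 0x52)))) (.node 2 (.node 1 (.leaf (nat_lit 0x55)) (.leaf (nat_lit 0x55))) (.node 1 (.leaf (nat_lit 0x55)) (.leaf (nat_lit 0x55))))))) (.node 16 (.node 8 (.node 4 (.node 2 (.node 1 (.leaf (nat_lit 0x55)) (.leaf (nat_lit 0x55))) (.node 1 (.leaf (nat_lit 0x55)) (.leaf (nat_lit 0x55)))) (.node 2 (.node 1 (.leaf (nat_lit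 0x55)) (.leaf (nat_lit 0x55))) (.node 1 (.leaf (nat_lit 0x55)) (.leaf (nat_lit 0x55))))) (.node 4 (.node 2 (.node 1 (.leaf (nat_lit 0x55)) (.leaf (nat_lit 0x55))) (.node 1 (.leaf (nat_lit 0x55)) (.leaf (nat_lit 0x55)))) (.node 2 (.node 1 (.leaf (nat_lit 0x49)) (.leaf (nat_lit 0x37))) (.node 1 (.leaf (nat_lit 0x36)) (.leaf (nat_lit 0x4a)))))) (.node 8 (.node 4 (.node 2 (.node 1 (.leaf (nat_lit 0x55)) (.leaf (nat_lit 0x55))) (.node 1 (.leaf (nat_lit 0x55)) (.leaf (nat_lit 0x55)))) (.node 2 (.node 1 (.leaf (nat_lit 0x55)) (.leaf (nat_lit 0x55))) (.node 1 (.leaf (nat_lit 0x55)) (.leaf (nat_lit 0x55))))) (.node 4 (.node 2 (.node 1 (.leaf (nat_lit 0x55)) (.leaf (nat_lit 0x55))) (.node 1 (.leaf (nat_lit 0x55)) (.leaf (nat_lit 0x55)))) (.node 2 (.node 1 (.leaf (nat_lit 0x55)) (.leaf (nat_lit 0x55))) (.node 1 (.leaf (nat_lit 0x55)) (.leaf (nat_lit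 0x2a))))))))

noncomputable def lab11 : Tree :=
  .node 64 (.node 32 (.node 16 (.node 8 (.node 4 (.node 2 (.node 1 (.leaf (nat_lit 0x2d)) (.leaf (nat_lit 0x55))) (.node 1 (.leaf (nat_lit 0x39)) (.leaf (nat_lit 0x4e)))) (.node 2 (.node 1 (.leaf (nat_lit 0x55)) (.leaf (nat_lit 0x46))) (.node 1 (.leaf (nat_lit 0x55)) (.leaf (nat_lit 0x55))))) (.node 4 (.node 2 (.node 1 (.leaf (nat_lit 0x55)) (.leaf (nat_lit 0x55))) (.node 1 (.leaf (nat_lit 0x55)) (.leaf (nat_lit 0x55)))) (.node 2 (.node 1 (.leaf (nat_lit 0x55)) (.leaf (nat_lit 0x55))) (.node 1 (.leaf (nat_lit 0x55)) (.leaf (nat_lit 0x55)))))) (.node 8 (.node 4 (.node 2 (.node 1 (.leaf (nat_lit 0x55)) (.leaf (nat_lit 0x3f))) (.node 1 (.leaf (nat_lit 0x55)) (.leaf (nat_lit 0x55)))) (.node 2 (.node 1 (.leaf (nat_lit 0x55)) (.leaf (nat_lit 0x55))) (.node 1 (.leaf (nat_lit 0x55)) (.leaf (nat_lit 0x55)))))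 (.node 4 (.node 2 (.node 1 (.leaf (nat_lit 0x55)) (.leaf (nat_lit 0x55))) (.node 1 (.leaf (nat_lit 0x55)) (.leaf (nat_lit 0x55)))) (.node 2 (.node 1 (.leaf (nat_lit 0x55)) (.leaf (nat_lit 0x55))) (.node 1 (.leaf (nat_lit 0x55)) (.leaf (nat_lit 0x55))))))) (.node 16 (.node 8 (.node 4 (.node 2 (.node 1 (.leaf (nat_lit 0x55)) (.leaf (nat_lit 0x55))) (.node 1 (.leaf (nat_lit 0x55)) (.leaf (nat_lit 0x55)))) (.node 2 (.node 1 (.leaf (nat_lit 0x55)) (.leaf (nat_lit 0x55))) (.node 1 (.leaf (nat_lit 0x55)) (.leaf (nat_lit 0x55))))) (.node 4 (.node 2 (.node 1 (.leaf (nat_lit 0x55)) (.leaf (nat_lit 0x55))) (.node 1 (.leaf (nat_lit 0x55)) (.leaf (nat_lit 0x55)))) (.node 2 (.node 1 (.leaf (nat_lit 0x55)) (.leaf (nat_lit 0x55))) (.node 1 (.leaf (nat_lit 0x55)) (.leaf (nat_lit 0x55)))))) (.node 8 (.node 4 (.node 2 (.node 1 (.leaf (nat_lit 0x55)) (.leaf (nat_lit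 0x55))) (.node 1 (.leaf (nat_lit 0x55)) (.leaf (nat_lit 0x55)))) (.node 2 (.node 1 (.leaf (nat_lit 0x55)) (.leaf (nat_lit 0x55))) (.node 1 (.leaf (nat_lit 0x55)) (.leaf (nat_lit 0x55))))) (.node 4 (.node 2 (.node 1 (.leaf (nat_lit 0x55)) (.leaf (nat_lit 0x55))) (.node 1 (.leaf (nat_lit 0x55)) (.leaf (nat_lit 0x55)))) (.node 2 (.node 1 (.leaf (nat_lit 0x55)) (.leaf (nat_lit 0x55))) (.node 1 (.leaf (nat_lit 0x25)) (.leaf (nat_lit 0x26)))))))) (.node 32 (.node 16 (.node 8 (.node 4 (.node 2 (.node 1 (.leaf (nat_lit 0x55)) (.leaf (nat_lit 0x55))) (.node 1 (.leaf (nat_lit 0x3c)) (.leaf (nat_lit 0x55)))) (.node 2 (.node 1 (.leaf (nat_lit 0x55)) (.leaf (nat_lit 0x55))) (.node 1 (.leaf (nat_lit 0x55)) (.leaf (nat_lit 0x55))))) (.node 4 (.node 2 (.node 1 (.leaf (nat_lit 0x55)) (.leaf (nat_lit 0x55))) (.node 1 (.leaf (nat_lit 0x4d)) (.leaf (nat_lit 0x55))))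 (.node 2 (.node 1 (.leaf (nat_lit 0x55)) (.leaf (nat_lit 0x55))) (.node 1 (.leaf (nat_lit 0x55)) (.leaf (nat_lit 0x55)))))) (.node 8 (.node 4 (.node 2 (.node 1 (.leaf (nat_lit 0x55)) (.leaf (nat_lit 0x55))) (.node 1 (.leaf (nat_lit 0x55)) (.leaf (nat_lit 0x55)))) (.node 2 (.node 1 (.leaf (nat_lit 0x55)) (.leaf (nat_lit 0x55))) (.node 1 (.leaf (nat_lit 0x55)) (.leaf (nat_lit 0x55))))) (.node 4 (.node 2 (.node 1 (.leaf (nat_lit 0x55)) (.leaf (nat_lit 0x55))) (.node 1 (.leaf (nat_lit 0x55)) (.leaf (nat_lit 0x51)))) (.node 2 (.node 1 (.leaf (nat_lit 0x23)) (.leaf (nat_lit 0x55))) (.node 1 (.leaf (nat_lit 0x55)) (.leaf (nat_lit 0x55))))))) (.node 16 (.node 8 (.node 4 (.node 2 (.node 1 (.leaf (nat_lit 0x55)) (.leaf (nat_lit 0x55))) (.node 1 (.leaf (nat_lit 0x55)) (.leaf (nat_lit 0x55)))) (.node 2 (.node 1 (.leaf (nat_lit 0x53)) (.leaf (nat_lit 0x55)))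 (.node 1 (.leaf (nat_lit 0x2e)) (.leaf (nat_lit 0x55))))) (.node 4 (.node 2 (.node 1 (.leaf (nat_lit 0x55)) (.leaf (nat_lit 0x55))) (.node 1 (.leaf (nat_lit 0x55)) (.leaf (nat_lit 0x55)))) (.node 2 (.node 1 (.leaf (nat_lit 0x55)) (.leaf (nat_lit 0x55))) (.node 1 (.leaf (nat_lit 0x55)) (.leaf (nat_lit 0x55)))))) (.node 8 (.node 4 (.node 2 (.node 1 (.leaf (nat_lit 0x55)) (.leaf (nat_lit 0x55))) (.node 1 (.leaf (nat_lit 0x55)) (.leaf (nat_lit 0x55)))) (.node 2 (.node 1 (.leaf (nat_lit 0x55)) (.leaf (nat_lit 0x55))) (.node 1 (.leaf (nat_lit 0x55)) (.leaf (nat_lit 0x55))))) (.node 4 (.node 2 (.node 1 (.leaf (nat_lit 0x55)) (.leaf (nat_lit 0x55))) (.node 1 (.leaf (nat_lit 0x55)) (.leaf (nat_lit 0x55)))) (.node 2 (.node 1 (.leaf (nat_lit 0x55)) (.leaf (nat_lit 0x55))) (.node 1 (.leaf (nat_lit 0x55)) (.leaf (nat_lit 0x55))))))))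

noncomputable def lab12 : Tree :=
  .node 64 (.node 32 (.node 16 (.node 8 (.node 4 (.node 2 (.node 1 (.leaf (nat_lit 0x48)) (.leaf (nat_lit 0x55))) (.node 1 (.leaf (nat_lit 0x55)) (.leaf (nat_lit 0x55)))) (.node 2 (.node 1 (.leaf (nat_lit 0x55)) (.leaf (nat_lit 0x37))) (.node 1 (.leaf (nat_lit 0x36)) (.leaf (nat_lit 0x55))))) (.node 4 (.node 2 (.node 1 (.leaf (nat_lit 0x40)) (.leaf (nat_lit 0x55))) (.node 1 (.leaf (nat_lit 0x55)) (.leaf (nat_lit 0x55)))) (.node 2 (.node 1 (.leaf (nat_lit 0x55)) (.leaf (nat_lit 0x55))) (.node 1 (.leaf (nat_lit 0x55)) (.leaf (nat_lit 0x2b)))))) (.node 8 (.node 4 (.node 2 (.node 1 (.leaf (nat_lit 0x28)) (.leaf (nat_lit 0x4d))) (.node 1 (.leaf (nat_lit 0x3f)) (.leaf (nat_lit 0x2a)))) (.node 2 (.node 1 (.leaf (nat_lit 0x2d)) (.leaf (nat_lit 0x55))) (.node 1 (.leaf (nat_lit 0x4f)) (.leaf (nat_lit 0x28))))) (.node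 4 (.node 2 (.node 1 (.leaf (nat_lit 0x4a)) (.leaf (nat_lit 0x55))) (.node 1 (.leaf (nat_lit 0x55)) (.leaf (nat_lit 0x55)))) (.node 2 (.node 1 (.leaf (nat_lit 0x55)) (.leaf (nat_lit 0x1e))) (.node 1 (.leaf (nat_lit 0x55)) (.leaf (nat_lit 0x55))))))) (.node 16 (.node 8 (.node 4 (.node 2 (.node 1 (.leaf (nat_lit 0x55)) (.leaf (nat_lit 0x55))) (.node 1 (.leaf (nat_lit 0x55)) (.leaf (nat_lit 0x4e)))) (.node 2 (.node 1 (.leaf (nat_lit 0x52)) (.leaf (nat_lit 0x55))) (.node 1 (.leaf (nat_lit 0x46)) (.leaf (nat_lit 0x55))))) (.node 4 (.node 2 (.node 1 (.leaf (nat_lit 0x55)) (.leaf (nat_lit 0x55))) (.node 1 (.leaf (nat_lit 0x55)) (.leaf (nat_lit 0x55)))) (.node 2 (.node 1 (.leaf (nat_lit 0x50)) (.leaf (nat_lit 0x55))) (.node 1 (.leaf (nat_lit 0x51)) (.leaf (nat_lit 0x41)))))) (.node 8 (.node 4 (.node 2 (.node 1 (.leaf (nat_lit 0x2e)) (.leaf (nat_lit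 0x22))) (.node 1 (.leaf (nat_lit 0x55)) (.leaf (nat_lit 0x55)))) (.node 2 (.node 1 (.leaf (nat_lit 0x55)) (.leaf (nat_lit 0x23))) (.node 1 (.leaf (nat_lit 0x55)) (.leaf (nat_lit 0x21))))) (.node 4 (.node 2 (.node 1 (.leaf (nat_lit 0x55)) (.leaf (nat_lit 0x55))) (.node 1 (.leaf (nat_lit 0x55)) (.leaf (nat_lit 0x55)))) (.node 2 (.node 1 (.leaf (nat_lit 0x55)) (.leaf (nat_lit 0x55))) (.node 1 (.leaf (nat_lit 0x55)) (.leaf (nat_lit 0x55)))))))) (.node 32 (.node 16 (.node 8 (.node 4 (.node 2 (.node 1 (.leaf (nat_lit 0x55)) (.leaf (nat_lit 0x55))) (.node 1 (.leaf (nat_lit 0x55)) (.leaf (nat_lit 0x3d)))) (.node 2 (.node 1 (.leaf (nat_lit 0x3c)) (.leaf (nat_lit 0x1e))) (.node 1 (.leaf (nat_lit 0x55)) (.leaf (nat_lit 0x55))))) (.node 4 (.node 2 (.node 1 (.leaf (nat_lit 0x55)) (.leaf (nat_lit 0x55))) (.node 1 (.leaf (nat_lit 0x55)) (.leaf (nat_lit 0x55))))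 (.node 2 (.node 1 (.leaf (nat_lit 0x55)) (.leaf (nat_lit 0x55))) (.node 1 (.leaf (nat_lit 0x55)) (.leaf (nat_lit 0x55)))))) (.node 8 (.node 4 (.node 2 (.node 1 (.leaf (nat_lit 0x55)) (.leaf (nat_lit 0x55))) (.node 1 (.leaf (nat_lit 0x55)) (.leaf (nat_lit 0x55)))) (.node 2 (.node 1 (.leaf (nat_lit 0x55)) (.leaf (nat_lit 0x55))) (.node 1 (.leaf (nat_lit 0x55)) (.leaf (nat_lit 0x55))))) (.node 4 (.node 2 (.node 1 (.leaf (nat_lit 0x55)) (.leaf (nat_lit 0x2b))) (.node 1 (.leaf (nat_lit 0x2d)) (.leaf (nat_lit 0x4b)))) (.node 2 (.node 1 (.leaf (nat_lit 0x34)) (.leaf (nat_lit 0x55))) (.node 1 (.leaf (nat_lit 0x3e)) (.leaf (nat_lit 0x55))))))) (.node 16 (.node 8 (.node 4 (.node 2 (.node 1 (.leaf (nat_lit 0x4c)) (.leaf (nat_lit 0x4c))) (.node 1 (.leaf (nat_lit 0x55)) (.leaf (nat_lit 0x55)))) (.node 2 (.node 1 (.leaf (nat_lit 0x53)) (.leaf (nat_lit 0x55)))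 (.node 1 (.leaf (nat_lit 0x38)) (.leaf (nat_lit 0x55))))) (.node 4 (.node 2 (.node 1 (.leaf (nat_lit 0x55)) (.leaf (nat_lit 0x36))) (.node 1 (.leaf (nat_lit 0x49)) (.leaf (nat_lit 0x37)))) (.node 2 (.node 1 (.leaf (nat_lit 0x55)) (.leaf (nat_lit 0x55))) (.node 1 (.leaf (nat_lit 0x55)) (.leaf (nat_lit 0x55)))))) (.node 8 (.node 4 (.node 2 (.node 1 (.leaf (nat_lit 0x55)) (.leaf (nat_lit 0x55))) (.node 1 (.leaf (nat_lit 0x55)) (.leaf (nat_lit 0x55)))) (.node 2 (.node 1 (.leaf (nat_lit 0x55)) (.leaf (nat_lit 0x55))) (.node 1 (.leaf (nat_lit 0x55)) (.leaf (nat_lit 0x55))))) (.node 4 (.node 2 (.node 1 (.leaf (nat_lit 0x55)) (.leaf (nat_lit 0x35))) (.node 1 (.leaf (nat_lit 0x55)) (.leaf (nat_lit 0x55)))) (.node 2 (.node 1 (.leaf (nat_lit 0x55)) (.leaf (nat_lit 0x55))) (.node 1 (.leaf (nat_lit 0x55)) (.leaf (nat_lit 0x55))))))))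

noncomputable def lab13 : Tree :=
  .node 64 (.node 32 (.node 16 (.node 8 (.node 4 (.node 2 (.node 1 (.leaf (nat_lit 0x55)) (.leaf (nat_lit 0x55))) (.node 1 (.leaf (nat_lit 0x55)) (.leaf (nat_lit 0x55)))) (.node 2 (.node 1 (.leaf (nat_lit 0x55)) (.leaf (nat_lit 0x55))) (.node 1 (.leaf (nat_lit 0x4c)) (.leaf (nat_lit 0x4b))))) (.node 4 (.node 2 (.node 1 (.leaf (nat_lit 0x55)) (.leaf (nat_lit 0x4b))) (.node 1 (.leaf (nat_lit 0x54)) (.leaf (nat_lit 0x55)))) (.node 2 (.node 1 (.leaf (nat_lit 0x54)) (.leaf (nat_lit 0x55))) (.node 1 (.leaf (nat_lit 0x4f)) (.leaf (nat_lit 0x55)))))) (.node 8 (.node 4 (.node 2 (.node 1 (.leaf (nat_lit 0x55)) (.leaf (nat_lit 0x50))) (.node 1 (.leaf (nat_lit 0x55)) (.leaf (nat_lit 0x55)))) (.node 2 (.node 1 (.leaf (nat_lit 0x4f)) (.leaf (nat_lit 0x50))) (.node 1 (.leaf (nat_lit 0x55)) (.leaf (nat_lit 0x51))))) (.node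 4 (.node 2 (.node 1 (.leaf (nat_lit 0x55)) (.leaf (nat_lit 0x55))) (.node 1 (.leaf (nat_lit 0x55)) (.leaf (nat_lit 0x55)))) (.node 2 (.node 1 (.leaf (nat_lit 0x55)) (.leaf (nat_lit 0x55))) (.node 1 (.leaf (nat_lit 0x55)) (.leaf (nat_lit 0x55))))))) (.node 16 (.node 8 (.node 4 (.node 2 (.node 1 (.leaf (nat_lit 0x55)) (.leaf (nat_lit 0x48))) (.node 1 (.leaf (nat_lit 0x45)) (.leaf (nat_lit 0x29)))) (.node 2 (.node 1 (.leaf (nat_lit 0x55)) (.leaf (nat_lit 0x39))) (.node 1 (.leaf (nat_lit 0x55)) (.leaf (nat_lit 0x55))))) (.node 4 (.node 2 (.node 1 (.leaf (nat_lit 0x55)) (.leaf (nat_lit 0x55))) (.node 1 (.leaf (nat_lit 0x55)) (.leaf (nat_lit 0x55)))) (.node 2 (.node 1 (.leaf (nat_lit 0x55)) (.leaf (nat_lit 0x55))) (.node 1 (.leaf (nat_lit 0x55)) (.leaf (nat_lit 0x55)))))) (.node 8 (.node 4 (.node 2 (.node 1 (.leaf (nat_lit 0x55)) (.leaf (nat_lit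 0x55))) (.node 1 (.leaf (nat_lit 0x55)) (.leaf (nat_lit 0x55)))) (.node 2 (.node 1 (.leaf (nat_lit 0x55)) (.leaf (nat_lit 0x55))) (.node 1 (.leaf (nat_lit 0x55)) (.leaf (nat_lit 0x55))))) (.node 4 (.node 2 (.node 1 (.leaf (nat_lit 0x55)) (.leaf (nat_lit 0x55))) (.node 1 (.leaf (nat_lit 0x55)) (.leaf (nat_lit 0x2f)))) (.node 2 (.node 1 (.leaf (nat_lit 0x55)) (.leaf (nat_lit 0x55))) (.node 1 (.leaf (nat_lit 0x4e)) (.leaf (nat_lit 0x52)))))))) (.node 32 (.node 16 (.node 8 (.node 4 (.node 2 (.node 1 (.leaf (nat_lit 0x55)) (.leaf (nat_lit 0x55))) (.node 1 (.leaf (nat_lit 0x55)) (.leaf (nat_lit 0x55)))) (.node 2 (.node 1 (.leaf (nat_lit 0x55)) (.leaf (nat_lit 0x55))) (.node 1 (.leaf (nat_lit 0x3b)) (.leaf (nat_lit 0x55))))) (.node 4 (.node 2 (.node 1 (.leaf (nat_lit 0x55)) (.leaf (nat_lit 0x55))) (.node 1 (.leaf (nat_lit 0x55)) (.leaf (nat_lit 0x55))))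 (.node 2 (.node 1 (.leaf (nat_lit 0x55)) (.leaf (nat_lit 0x55))) (.node 1 (.leaf (nat_lit 0x55)) (.leaf (nat_lit 0x55)))))) (.node 8 (.node 4 (.node 2 (.node 1 (.leaf (nat_lit 0x55)) (.leaf (nat_lit 0x55))) (.node 1 (.leaf (nat_lit 0x55)) (.leaf (nat_lit 0x55)))) (.node 2 (.node 1 (.leaf (nat_lit 0x55)) (.leaf (nat_lit 0x55))) (.node 1 (.leaf (nat_lit 0x55)) (.leaf (nat_lit 0x55))))) (.node 4 (.node 2 (.node 1 (.leaf (nat_lit 0x55)) (.leaf (nat_lit 0x35))) (.node 1 (.leaf (nat_lit 0x55)) (.leaf (nat_lit 0x55)))) (.node 2 (.node 1 (.leaf (nat_lit 0x55)) (.leaf (nat_lit 0x55))) (.node 1 (.leaf (nat_lit 0x55)) (.leaf (nat_lit 0x55))))))) (.node 16 (.node 8 (.node 4 (.node 2 (.node 1 (.leaf (nat_lit 0x55)) (.leaf (nat_lit 0x55))) (.node 1 (.leaf (nat_lit 0x55)) (.leaf (nat_lit 0x55)))) (.node 2 (.node 1 (.leaf (nat_lit 0x55)) (.leaf (nat_lit 0x55)))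 (.node 1 (.leaf (nat_lit 0x55)) (.leaf (nat_lit 0x55))))) (.node 4 (.node 2 (.node 1 (.leaf (nat_lit 0x55)) (.leaf (nat_lit 0x55))) (.node 1 (.leaf (nat_lit 0x55)) (.leaf (nat_lit 0x55)))) (.node 2 (.node 1 (.leaf (nat_lit 0x55)) (.leaf (nat_lit 0x55))) (.node 1 (.leaf (nat_lit 0x53)) (.leaf (nat_lit 0x55)))))) (.node 8 (.node 4 (.node 2 (.node 1 (.leaf (nat_lit 0x55)) (.leaf (nat_lit 0x55))) (.node 1 (.leaf (nat_lit 0x55)) (.leaf (nat_lit 0x55)))) (.node 2 (.node 1 (.leaf (nat_lit 0x55)) (.leaf (nat_lit 0x55))) (.node 1 (.leaf (nat_lit 0x55)) (.leaf (nat_lit 0x55))))) (.node 4 (.node 2 (.node 1 (.leaf (nat_lit 0x55)) (.leaf (nat_lit 0x4c))) (.node 1 (.leaf (nat_lit 0x4b)) (.leaf (nat_lit 0x55)))) (.node 2 (.node 1 (.leaf (nat_lit 0x55)) (.leaf (nat_lit 0x55))) (.node 1 (.leaf (nat_lit 0x55)) (.leaf (nat_lit 0x55))))))))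

noncomputable def lab14 : Tree :=
  .node 64 (.node 32 (.node 16 (.node 8 (.node 4 (.node 2 (.node 1 (.leaf (nat_lit 0x55)) (.leaf (nat_lit 0x55))) (.node 1 (.leaf (nat_lit 0x55)) (.leaf (nat_lit 0x55)))) (.node 2 (.node 1 (.leaf (nat_lit 0x3d)) (.leaf (nat_lit 0x55))) (.node 1 (.leaf (nat_lit 0x55)) (.leaf (nat_lit 0x55))))) (.node 4 (.node 2 (.node 1 (.leaf (nat_lit 0x48)) (.leaf (nat_lit 0x55))) (.node 1 (.leaf (nat_lit 0x55)) (.leaf (nat_lit 0x55)))) (.node 2 (.node 1 (.leaf (nat_lit 0x55)) (.leaf (nat_lit 0x46))) (.node 1 (.leaf (nat_lit 0x55)) (.leaf (nat_lit 0x55)))))) (.node 8 (.node 4 (.node 2 (.node 1 (.leaf (nat_lit 0x55)) (.leaf (nat_lit 0x55))) (.node 1 (.leaf (nat_lit 0x55)) (.leaf (nat_lit 0x55)))) (.node 2 (.node 1 (.leaf (nat_lit 0x55)) (.leaf (nat_lit 0x55))) (.node 1 (.leaf (nat_lit 0x55)) (.leaf (nat_lit 0x55))))) (.node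 4 (.node 2 (.node 1 (.leaf (nat_lit 0x55)) (.leaf (nat_lit 0x55))) (.node 1 (.leaf (nat_lit 0x55)) (.leaf (nat_lit 0x55)))) (.node 2 (.node 1 (.leaf (nat_lit 0x55)) (.leaf (nat_lit 0x55))) (.node 1 (.leaf (nat_lit 0x55)) (.leaf (nat_lit 0x55))))))) (.node 16 (.node 8 (.node 4 (.node 2 (.node 1 (.leaf (nat_lit 0x55)) (.leaf (nat_lit 0x55))) (.node 1 (.leaf (nat_lit 0x55)) (.leaf (nat_lit 0x55)))) (.node 2 (.node 1 (.leaf (nat_lit 0x55)) (.leaf (nat_lit 0x55))) (.node 1 (.leaf (nat_lit 0x55)) (.leaf (nat_lit 0x55))))) (.node 4 (.node 2 (.node 1 (.leaf (nat_lit 0x55)) (.leaf (nat_lit 0x55))) (.node 1 (.leaf (nat_lit 0x55)) (.leaf (nat_lit 0x27)))) (.node 2 (.node 1 (.leaf (nat_lit 0x55)) (.leaf (nat_lit 0x55))) (.node 1 (.leaf (nat_lit 0x55)) (.leaf (nat_lit 0x55)))))) (.node 8 (.node 4 (.node 2 (.node 1 (.leaf (nat_lit 0x55)) (.leaf (nat_lit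 0x55))) (.node 1 (.leaf (nat_lit 0x55)) (.leaf (nat_lit 0x55)))) (.node 2 (.node 1 (.leaf (nat_lit 0x55)) (.leaf (nat_lit 0x55))) (.node 1 (.leaf (nat_lit 0x55)) (.leaf (nat_lit 0x55))))) (.node 4 (.node 2 (.node 1 (.leaf (nat_lit 0x55)) (.leaf (nat_lit 0x55))) (.node 1 (.leaf (nat_lit 0x54)) (.leaf (nat_lit 0x32)))) (.node 2 (.node 1 (.leaf (nat_lit 0x55)) (.leaf (nat_lit 0x55))) (.node 1 (.leaf (nat_lit 0x55)) (.leaf (nat_lit 0x55)))))))) (.node 32 (.node 16 (.node 8 (.node 4 (.node 2 (.node 1 (.leaf (nat_lit 0x52)) (.leaf (nat_lit 0x55))) (.node 1 (.leaf (nat_lit 0x40)) (.leaf (nat_lit 0x41)))) (.node 2 (.node 1 (.leaf (nat_lit 0x42)) (.leaf (nat_lit 0x55))) (.node 1 (.leaf (nat_lit 0x55)) (.leaf (nat_lit 0x55))))) (.node 4 (.node 2 (.node 1 (.leaf (nat_lit 0x55)) (.leaf (nat_lit 0x55))) (.node 1 (.leaf (nat_lit 0x55)) (.leaf (nat_lit 0x55))))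 (.node 2 (.node 1 (.leaf (nat_lit 0x55)) (.leaf (nat_lit 0x55))) (.node 1 (.leaf (nat_lit 0x55)) (.leaf (nat_lit 0x55)))))) (.node 8 (.node 4 (.node 2 (.node 1 (.leaf (nat_lit 0x55)) (.leaf (nat_lit 0x55))) (.node 1 (.leaf (nat_lit 0x55)) (.leaf (nat_lit 0x55)))) (.node 2 (.node 1 (.leaf (nat_lit 0x24)) (.leaf (nat_lit 0x55))) (.node 1 (.leaf (nat_lit 0x55)) (.leaf (nat_lit 0x55))))) (.node 4 (.node 2 (.node 1 (.leaf (nat_lit 0x55)) (.leaf (nat_lit 0x55))) (.node 1 (.leaf (nat_lit 0x55)) (.leaf (nat_lit 0x55)))) (.node 2 (.node 1 (.leaf (nat_lit 0x55)) (.leaf (nat_lit 0x55))) (.node 1 (.leaf (nat_lit 0x55)) (.leaf (nat_lit 0x55))))))) (.node 16 (.node 8 (.node 4 (.node 2 (.node 1 (.leaf (nat_lit 0x3c)) (.leaf (nat_lit 0x55))) (.node 1 (.leaf (nat_lit 0x55)) (.leaf (nat_lit 0x3d)))) (.node 2 (.node 1 (.leaf (nat_lit 0x3d)) (.leaf (nat_lit 0x55)))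 (.node 1 (.leaf (nat_lit 0x55)) (.leaf (nat_lit 0x55))))) (.node 4 (.node 2 (.node 1 (.leaf (nat_lit 0x54)) (.leaf (nat_lit 0x55))) (.node 1 (.leaf (nat_lit 0x55)) (.leaf (nat_lit 0x55)))) (.node 2 (.node 1 (.leaf (nat_lit 0x2a)) (.leaf (nat_lit 0x55))) (.node 1 (.leaf (nat_lit 0x55)) (.leaf (nat_lit 0x55)))))) (.node 8 (.node 4 (.node 2 (.node 1 (.leaf (nat_lit 0x55)) (.leaf (nat_lit 0x55))) (.node 1 (.leaf (nat_lit 0x3c)) (.leaf (nat_lit 0x53)))) (.node 2 (.node 1 (.leaf (nat_lit 0x55)) (.leaf (nat_lit 0x53))) (.node 1 (.leaf (nat_lit 0x55)) (.leaf (nat_lit 0x55))))) (.node 4 (.node 2 (.node 1 (.leaf (nat_lit 0x55)) (.leaf (nat_lit 0x55))) (.node 1 (.leaf (nat_lit 0x47)) (.leaf (nat_lit 0x2c)))) (.node 2 (.node 1 (.leaf (nat_lit 0x55)) (.leaf (nat_lit 0x55))) (.node 1 (.leaf (nat_lit 0x55)) (.leaf (nat_lit 0x55))))))))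

noncomputable def lab15 : Tree :=
  .node 64 (.node 32 (.node 16 (.node 8 (.node 4 (.node 2 (.node 1 (.leaf (nat_lit 0x55)) (.leaf (nat_lit 0x55))) (.node 1 (.leaf (nat_lit 0x55)) (.leaf (nat_lit 0x55)))) (.node 2 (.node 1 (.leaf (nat_lit 0x55)) (.leaf (nat_lit 0x55))) (.node 1 (.leaf (nat_lit 0x55)) (.leaf (nat_lit 0x55))))) (.node 4 (.node 2 (.node 1 (.leaf (nat_lit 0x55)) (.leaf (nat_lit 0x2a))) (.node 1 (.leaf (nat_lit 0x4e)) (.leaf (nat_lit 0x55)))) (.node 2 (.node 1 (.leaf (nat_lit 0x55)) (.leaf (nat_lit 0x55))) (.node 1 (.leaf (nat_lit 0x55)) (.leaf (nat_lit 0x55)))))) (.node 8 (.node 4 (.node 2 (.node 1 (.leaf (nat_lit 0x55)) (.leaf (nat_lit 0x55))) (.node 1 (.leaf (nat_lit 0x55)) (.leaf (nat_lit 0x55)))) (.node 2 (.node 1 (.leaf (nat_lit 0x55)) (.leaf (nat_lit 0x55))) (.node 1 (.leaf (nat_lit 0x55)) (.leaf (nat_lit 0x55))))) (.node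 4 (.node 2 (.node 1 (.leaf (nat_lit 0x55)) (.leaf (nat_lit 0x55))) (.node 1 (.leaf (nat_lit 0x49)) (.leaf (nat_lit 0x55)))) (.node 2 (.node 1 (.leaf (nat_lit 0x55)) (.leaf (nat_lit 0x35))) (.node 1 (.leaf (nat_lit 0x55)) (.leaf (nat_lit 0x55))))))) (.node 16 (.node 8 (.node 4 (.node 2 (.node 1 (.leaf (nat_lit 0x55)) (.leaf (nat_lit 0x55))) (.node 1 (.leaf (nat_lit 0x55)) (.leaf (nat_lit 0x55)))) (.node 2 (.node 1 (.leaf (nat_lit 0x55)) (.leaf (nat_lit 0x55))) (.node 1 (.leaf (nat_lit 0x55)) (.leaf (nat_lit 0x55))))) (.node 4 (.node 2 (.node 1 (.leaf (nat_lit 0x55)) (.leaf (nat_lit 0x55))) (.node 1 (.leaf (nat_lit 0x55)) (.leaf (nat_lit 0x55)))) (.node 2 (.node 1 (.leaf (nat_lit 0x55)) (.leaf (nat_lit 0x55))) (.node 1 (.leaf (nat_lit 0x55)) (.leaf (nat_lit 0x55)))))) (.node 8 (.node 4 (.node 2 (.node 1 (.leaf (nat_lit 0x55)) (.leaf (nat_lit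 0x4f))) (.node 1 (.leaf (nat_lit 0x55)) (.leaf (nat_lit 0x55)))) (.node 2 (.node 1 (.leaf (nat_lit 0x51)) (.leaf (nat_lit 0x50))) (.node 1 (.leaf (nat_lit 0x55)) (.leaf (nat_lit 0x55))))) (.node 4 (.node 2 (.node 1 (.leaf (nat_lit 0x55)) (.leaf (nat_lit 0x55))) (.node 1 (.leaf (nat_lit 0x55)) (.leaf (nat_lit 0x54)))) (.node 2 (.node 1 (.leaf (nat_lit 0x47)) (.leaf (nat_lit 0x55))) (.node 1 (.leaf (nat_lit 0x55)) (.leaf (nat_lit 0x55)))))))) (.node 32 (.node 16 (.node 8 (.node 4 (.node 2 (.node 1 (.leaf (nat_lit 0x55)) (.leaf (nat_lit 0x48))) (.node 1 (.leaf (nat_lit 0x55)) (.leaf (nat_lit 0x55)))) (.node 2 (.node 1 (.leaf (nat_lit 0x55)) (.leaf (nat_lit 0x55))) (.node 1 (.leaf (nat_lit 0x55)) (.leaf (nat_lit 0x55))))) (.node 4 (.node 2 (.node 1 (.leaf (nat_lit 0x55)) (.leaf (nat_lit 0x55))) (.node 1 (.leaf (nat_lit 0x55)) (.leaf (nat_lit 0x55))))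 (.node 2 (.node 1 (.leaf (nat_lit 0x55)) (.leaf (nat_lit 0x55))) (.node 1 (.leaf (nat_lit 0x55)) (.leaf (nat_lit 0x55)))))) (.node 8 (.node 4 (.node 2 (.node 1 (.leaf (nat_lit 0x55)) (.leaf (nat_lit 0x55))) (.node 1 (.leaf (nat_lit 0x55)) (.leaf (nat_lit 0x55)))) (.node 2 (.node 1 (.leaf (nat_lit 0x55)) (.leaf (nat_lit 0x55))) (.node 1 (.leaf (nat_lit 0x55)) (.leaf (nat_lit 0x55))))) (.node 4 (.node 2 (.node 1 (.leaf (nat_lit 0x55)) (.leaf (nat_lit 0x55))) (.node 1 (.leaf (nat_lit 0x55)) (.leaf (nat_lit 0x55)))) (.node 2 (.node 1 (.leaf (nat_lit 0x55)) (.leaf (nat_lit 0x55))) (.node 1 (.leaf (nat_lit 0x55)) (.leaf (nat_lit 0x55))))))) (.node 16 (.node 8 (.node 4 (.node 2 (.node 1 (.leaf (nat_lit 0x55)) (.leaf (nat_lit 0x55))) (.node 1 (.leaf (nat_lit 0x55)) (.leaf (nat_lit 0x55)))) (.node 2 (.node 1 (.leaf (nat_lit 0x55)) (.leaf (nat_lit 0x55)))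 (.node 1 (.leaf (nat_lit 0x43)) (.leaf (nat_lit 0x55))))) (.node 4 (.node 2 (.node 1 (.leaf (nat_lit 0x55)) (.leaf (nat_lit 0x55))) (.node 1 (.leaf (nat_lit 0x55)) (.leaf (nat_lit 0x55)))) (.node 2 (.node 1 (.leaf (nat_lit 0x55)) (.leaf (nat_lit 0x39))) (.node 1 (.leaf (nat_lit 0x55)) (.leaf (nat_lit 0x55)))))) (.node 8 (.node 4 (.node 2 (.node 1 (.leaf (nat_lit 0x55)) (.leaf (nat_lit 0x44))) (.node 1 (.leaf (nat_lit 0x55)) (.leaf (nat_lit 0x55)))) (.node 2 (.node 1 (.leaf (nat_lit 0x55)) (.leaf (nat_lit 0x55))) (.node 1 (.leaf (nat_lit 0x55)) (.leaf (nat_lit 0x55))))) (.node 4 (.node 2 (.node 1 (.leaf (nat_lit 0x55)) (.leaf (nat_lit 0x55))) (.node 1 (.leaf (nat_lit 0x55)) (.leaf (nat_lit 0x55)))) (.node 2 (.node 1 (.leaf (nat_lit 0x55)) (.leaf (nat_lit 0x55))) (.node 1 (.leaf (nat_lit 0x47)) (.leaf (nat_lit 0x55))))))))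

noncomputable def lab16 : Tree :=
  .node 5 (.node 2 (.node 1 (.leaf (nat_lit 0x55)) (.leaf (nat_lit 0x55))) (.node 1 (.leaf (nat_lit 0x55)) (.node 1 (.leaf (nat_lit 0x55)) (.leaf (nat_lit 0x55))))) (.node 2 (.node 1 (.leaf (nat_lit 0x55)) (.leaf (nat_lit 0x55))) (.node 1 (.leaf (nat_lit 0x55)) (.node 1 (.leaf (nat_lit 0x55)) (.leaf (nat_lit 0x55)))))

noncomputable def labTree : Tree :=
  .node 1024 (.node 512 (.node 256 (.node 128 (lab0) (lab1)) (.node 128 (lab2) (lab3))) (.node 256 (.node 128 (lab4) (lab5)) (.node 128 (lab6) (lab7)))) (.node 512 (.node 256 (.node 128 (lab8) (lab9)) (.node 128 (lab10) (lab11))) (.node 256 (.node 128 (lab12) (lab13)) (.node 128 (lab14) (.node 128 (lab15) (lab16)))))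

def reps : List ℕ := [2, 5, 9, 10, 19, 23, 41, 42, 70, 72, 73, 74, 95, 118, 119, 123, 124, 126, 158, 160, 187, 196, 198, 202, 246, 249, 252, 303, 305, 306, 307, 313, 376, 379, 380, 382, 458, 474, 475, 476, 481, 482, 483, 484, 485, 486, 501, 605, 606, 611, 613, 666, 743, 750, 751, 753, 785, 786, 796, 798, 800, 801, 805, 806, 833, 834, 835, 845, 975, 976, 1083, 1122, 1127, 1131, 1140, 1142, 1143, 1148, 1211, 1245, 1246, 1249, 1264, 1508, 1674]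

def pts : List ℕ := [64, 16, 80, 144, 208, 1, 65, 20, 4, 85, 13, 61, 77, 5, 125, 9, 169, 132, 201, 148, 105, 133, 53, 113, 213, 101, 49, 89, 244, 249, 141, 177, 57, 228, 153, 241, 253, 45, 229, 189, 145, 29, 73, 212, 109, 68, 180, 93, 181, 209, 164, 17, 205, 41, 196, 84, 100, 233, 81, 225, 149, 69, 116, 97, 117, 221, 237, 157, 37, 173, 52, 193, 129, 137, 161, 197, 21, 33, 25, 121, 217, 36, 185, 245, 165]

def mats : List ℕ := [1343226885, 683868936, 1745880073, 2081424429]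

def wordsH : List (List ℕ) := [[0], [2], [3], [4], [5], [1, 0, 1, 0], [4, 3, 2, 1, 4, 3, 2, 1, 4, 3, 2, 1, 4, 3, 2, 1, 4, 3, 2, 1, 4, 3, 2, 1, 4, 3, 2, 1], [4, 3, 2, 1, 4, 3, 2, 1, 4, 3, 2, 1, 4, 3, 2, 1, 4, 3, 2, 1, 4, 3, 2, 1, 4, 3, 2, 1, 4, 3, 2, 1, 4, 3, 2, 1, 4, 3, 2, 1, 4, 3, 2, 1, 4, 3, 2, 1, 4, 3, 2, 1, 4, 3, 2, 1]]

def wordsN : List (List ℕ) := [[2], [3], [5], [1, 2, 3, 4, 1, 2, 3, 4, 1, 2, 3, 4, 1, 2, 3, 4, 1, 2, 3, 4, 1, 2, 3, 4, 1, 2, 3, 4, 5, 4, 3, 2, 1, 4, 3, 2, 1, 4, 3, 2, 1, 4, 3, 2, 1, 4, 3, 2, 1, 4, 3, 2, 1, 4, 3, 2, 1]]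

end Cfsg.Agent.InvChar.Coset.HeSymp
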