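import Cfsg.Agent.InvChar.Coset.HeOrder
import Cfsg.Agent.InvChar.Coset.HeSympData
import Cfsg.Agent.InvChar.Coset.HeSympInnerLevels
import Cfsg.Agent.InvChar.Coset.HeSympWholeLevels
import Cfsg.Agent.InvChar.Coset.FieldFour
import Cfsg.Agent.S0245

/-!
# A subgroup of index two in the point stabiliser of the Held group, isomorphic to Sp(4,4)
-/

set_option autoImplicit false
set_option linter.all false

noncomputable section

namespace Cfsg.Agent.InvChar.Coset.HeSymp

open Cfsg.Agent.CosetCert Matrix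

/-- A predicate closed under products holds on the subgroup generated in a finite group. -/
theorem closure_induction_finite {A : Type*} [Group A] [Finite A] {s : Set A} {Q : A → Prop}
    (mem : ∀ a ∈ s, Q a) (one : Q 1) (mul : ∀ a b, Q a → Q b → Q (a * b)) {a : A}
    (ha : a ∈ Subgroup.closure s) : Q a := by
  rw [← Subgroup.mem_toSubmonoid, Subgroup.closure_toSubmonoid_of_finite] at ha
  induction ha using Submonoid.closure_induction with
  | mem x hx => exact mem x hx
  | one => exact one
  | mul x y _ _ hx hy => exact mul x y hx hy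

abbrev HeG : Type := Cfsg.Spor.He

abbrev gH (w : List ℕ) : HeG := wprod He.data.gen w

theorem finite_He : Finite HeG := Nat.finite_of_card_ne_zero (by rw [He.simple_and_card.2]; norm_num)

def lab (c : ℕ) : ℕ := labTree.get c

def img (i j : ℕ) : ℕ := pat (nthNat Whole.perms i) j

theorem img_lt : ∀ i < 8, ∀ j < 85, img i j < 85 := by decide +kernel

theorem img_inj : ∀ i < 8, ∀ j < 85, img i (img (if i = 6 then 7 else if i = 7 then 6 else i) j) = j := by decide +kernel

/-- The permutation of the blocks given by a generator. -/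
def pperm (i : ℕ) : Equiv.Perm (Fin 85) :=
  if hi : i < 8 then
    { toFun := fun j => ⟨img i j, img_lt i hi j j.2⟩
      invFun := fun j => ⟨img (if i = 6 then 7 else if i = 7 then 6 else i) j,
        img_lt _ (by split <;> [omega; (split <;> omega)]) j j.2⟩
      left_inv := fun j => Fin.ext (by
        have h := img_inj (if i = 6 then 7 else if i = 7 then 6 else i) (by split <;> [omega; (split <;> omega)]) j j.2
        have e : (if (if i = 6 then 7 else if i = 7 then 6 else i) = 6 then 7 else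
            if (if i = 6 then 7 else if i = 7 then 6 else i) = 7 then 6 else
              (if i = 6 then 7 else if i = 7 then 6 else i)) = i := by split_ifs <;> omega
        rwa [e] at h)
      right_inv := fun j => Fin.ext (img_inj i hi j j.2) }
  else 1

theorem pperm_apply {i : ℕ} (hi : i < 8) (j : Fin 85) : (pperm i j : ℕ) = img i j := by
  rw [pperm, dif_pos hi]; rfl

def wordAt (i : ℕ) : List ℕ := getWord wordsH i

theorem wordsH_ok : ∀ i < 8, (∀ y ∈ wordAt i, y < He.table.C.K) := by decide +kernel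

theorem lab_moves : ∀ i < 8, ∀ c < 2058, lab c < 85 → lab (He.table.run (wordAt i) c) = img i (lab c) := by
  decide +kernel

theorem reps_ok : ∀ j < 85, nthNat reps j < 2058 ∧ lab (nthNat reps j) = j := by decide +kernel

/-- The generators in the product. -/
def gen2 (i : ℕ) : HeG × Equiv.Perm (Fin 85) := (gH (wordAt i), pperm i)

def P2 : Subgroup (HeG × Equiv.Perm (Fin 85)) := Subgroup.closure (gen2 '' {i | i < 8})

theorem gen2_mem {i : ℕ} (hi : i < 8) : gen2 i ∈ P2 := Subgroup.subset_closure ⟨i, hi, rfl⟩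

theorem P2_compat (p : HeG × Equiv.Perm (Fin 85)) (hp : p ∈ P2) : ∀ (c : Fin He.table.n) (j : Fin 85),
    lab c = j.val → lab (He.data.hom He.checked p.1 c).val = (p.2 j).val := by
  haveI := finite_He
  revert p
  intro p hp
  refine closure_induction_finite (Q := fun p => ∀ (c : Fin He.table.n) (j : Fin 85),
    lab c = j.val → lab (He.data.hom He.checked p.1 c).val = (p.2 j).val) ?_ ?_ ?_ hp
  · rintro _ ⟨i, hi, rfl⟩ c j hc
    show lab (He.data.hom He.checked (gH (wordAt i)) c).val = (pperm i j).val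
    rw [gH, map_wprod, funext (He.data.hom_gen He.checked), wprod_tau He.checked _ (wordsH_ok i hi), pperm_apply hi,
      lab_moves i hi c c.2 (by omega), hc]
  · intro c j hc; rw [Prod.fst_one, map_one]; exact hc
  · intro a b ha hb c j hc
    rw [Prod.fst_mul, map_mul, Equiv.Perm.mul_apply, Prod.snd_mul, Equiv.Perm.mul_apply]
    exact ha _ _ (hb c j hc)

theorem P2_fst_injective : Function.Injective ((MonoidHom.fst HeG (Equiv.Perm (Fin 85))).comp P2.subtype) := by
  rw [injective_iff_map_eq_one]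
  rintro ⟨⟨h, σ⟩, hp⟩ (rfl : h = 1)
  refine Subtype.ext (Prod.ext rfl (Equiv.ext fun j => Fin.ext ?_))
  have hn : He.table.n = 2058 := by decide +kernel
  have h := P2_compat _ hp ⟨nthNat reps j, hn ▸ (reps_ok j j.2).1⟩ j (reps_ok j j.2).2
  rw [map_one, Equiv.Perm.one_apply] at h
  exact h.symm.trans (reps_ok j j.2).2

theorem word_inv_u : gH (wordAt 7) = gH (wordAt 6) * gH (wordAt 6) := by
  rw [gH, show wordAt 7 = wordAt 6 ++ wordAt 6 by decide +kernel, wprod_append']

/-- The point stabiliser. -/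
def H0 : Subgroup HeG := Subgroup.closure (wprod He.data.gen '' {w | w ∈ He.table.C.S})

theorem fst_range : ((MonoidHom.fst HeG (Equiv.Perm (Fin 85))).comp P2.subtype).range = H0 := by
  rw [MonoidHom.range_eq_map, ← Subgroup.map_map, ← MonoidHom.range_eq_map, Subgroup.range_subtype, P2,
    MonoidHom.map_closure, ← Set.image_comp]
  have hS : ∀ w ∈ He.table.C.S, ∃ i < 8, wordAt i = w := by decide +kernel
  have hW : ∀ i < 7, wordAt i ∈ He.table.C.S := by decide +kernel
  apply le_antisymm
  · rw [Subgroup.closure_le]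
    rintro _ ⟨i, hi, rfl⟩
    have h : ∀ i < 7, gH (wordAt i) ∈ H0 := fun i hi => Subgroup.subset_closure ⟨_, hW i hi, rfl⟩
    rcases Nat.lt_or_ge i 7 with h7 | h7
    · exact h i h7
    · obtain rfl : i = 7 := by
        have hi' : i < 8 := hi
        omega
      show gH (wordAt 7) ∈ H0
      rw [word_inv_u]
      exact mul_mem (h 6 (by norm_num)) (h 6 (by norm_num))
  · rw [H0, Subgroup.closure_le]
    rintro _ ⟨w, hw, rfl⟩
    obtain ⟨i, hi, rfl⟩ := hS w hw
    exact Subgroup.subset_closure ⟨i, hi, rfl⟩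

theorem card_H0 : Nat.card H0 = 1958400 := by
  have h := H0.card_mul_index
  rw [H0, index_eq He.checked He.data.gen (He.data.hom He.checked) (He.data.hom_gen He.checked) He.data.gen_sq
    He.data.gen_rel He.data.gen_top rfl, He.simple_and_card.2, show He.table.n = 2058 by decide +kernel] at h
  rw [H0]
  exact Nat.eq_of_mul_eq_mul_right (by norm_num : 0 < 2058) (h.trans (by norm_num))

theorem card_P2 : Nat.card P2 = 1958400 := by
  rw [← card_H0, ← fst_range]
  exact Nat.card_congr (MonoidHom.ofInjective P2_fst_injective).toEquiv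

theorem P2_snd_injective : Function.Injective ((MonoidHom.snd HeG (Equiv.Perm (Fin 85))).comp P2.subtype) := by
  haveI : Finite P2 := Nat.finite_of_card_ne_zero (by rw [card_P2]; norm_num)
  set f := (MonoidHom.snd HeG (Equiv.Perm (Fin 85))).comp P2.subtype
  have hreal : Realises f.range Whole.perms := by
    intro y hy
    have hy' : y < 8 := by
      have : Whole.perms.length = 8 := by decide +kernel
      omega
    exact ⟨pperm y, ⟨⟨gen2 y, gen2_mem hy'⟩, rfl⟩, fun c => pperm_apply hy' c⟩
  have hlow := prodM_le _ _ _ hreal Whole.levels_ok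
  rw [Whole.levels_prod] at hlow
  have hb := f.rangeRestrict_surjective.bijective_of_nat_card_le (by rw [card_P2]; exact hlow)
  intro a b hab
  exact hb.1 (Subtype.ext hab)

/-- The coordinates of a point. -/
def coord : Fin 2 ⊕ Fin 2 → ℕ
  | .inl i => i.val
  | .inr i => 2 + i.val

def pvec (j : ℕ) (r : Fin 2 ⊕ Fin 2) : FF := FF.ofBits (nthNat pts j / 4 ^ coord r % 4)

def mval (k : ℕ) (r c : Fin 2 ⊕ Fin 2) : FF := FF.ofBits (nthNat mats k / 4 ^ (4 * coord r + coord c) % 4)

theorem mval_symp : ∀ k < 4, (Matrix.of (mval k)) * Matrix.J (Fin 2) FF * (Matrix.of (mval k))ᵀ = Matrix.J (Fin 2) FF := by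
  decide +kernel

def smat (k : ℕ) : Matrix.symplecticGroup (Fin 2) FF :=
  if hk : k < 4 then ⟨Matrix.of (mval k), SymplecticGroup.mem_iff.mpr (mval_symp k hk)⟩ else 1

theorem smat_coe {k : ℕ} (hk : k < 4) :
    ((smat k : Matrix.symplecticGroup (Fin 2) FF) : Matrix (Fin 2 ⊕ Fin 2) (Fin 2 ⊕ Fin 2) FF) = Matrix.of (mval k) := by
  rw [smat, dif_pos hk]

/-- The indices of the inner generators. -/
def innerIdx : List ℕ := [1, 2, 4]

theorem inner_mem : ∀ k < 4, wprod He.data.gen (getWord wordsN k) ∈ H0 := by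
  intro k hk
  have h : ∀ w ∈ He.table.C.S, gH w ∈ H0 := fun w hw => Subgroup.subset_closure ⟨w, hw, rfl⟩
  have hS : ∀ k < 3, getWord wordsN k ∈ He.table.C.S := by decide +kernel
  rcases Nat.lt_or_ge k 3 with h3 | h3
  · exact h _ (hS k h3)
  · obtain rfl : k = 3 := by omega
    have hu : wordAt 6 ∈ He.table.C.S := by decide +kernel
    have hf : [5] ∈ He.table.C.S := by decide +kernel
    rw [show getWord wordsN 3 = (wordAt 6).reverse ++ ([5] ++ wordAt 6) by decide +kernel, wprod_append',
      wprod_append', wprod_reverse _ He.data.gen_sq]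
    exact mul_mem (mul_mem (h _ hu) (h _ hf)) (inv_mem (h _ hu))

def ipimg (k j : ℕ) : ℕ := pat (nthNat Inner.perms k) j

theorem ipimg_lt : ∀ k < 4, ∀ j < 85, ipimg k j < 85 ∧ ipimg k (ipimg k j) = j := by decide +kernel

def iperm (k : ℕ) : Equiv.Perm (Fin 85) :=
  if hk : k < 4 then Function.Involutive.toPerm (fun j => ⟨ipimg k j, (ipimg_lt k hk j j.2).1⟩)
    (fun j => Fin.ext (ipimg_lt k hk j j.2).2)
  else 1

theorem iperm_apply {k : ℕ} (hk : k < 4) (j : Fin 85) : (iperm k j : ℕ) = ipimg k j := by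
  rw [iperm, dif_pos hk]; rfl

theorem inner_runs : ∀ k < 4, (∀ y ∈ getWord wordsN k, y < He.table.C.K) ∧
    ∀ j < 85, lab (He.table.run (getWord wordsN k) (nthNat reps j)) = ipimg k j := by decide +kernel

theorem inner_pair {k : ℕ} (hk : k < 4) : (wprod He.data.gen (getWord wordsN k), iperm k) ∈ P2 := by
  obtain ⟨p, hp⟩ : wprod He.data.gen (getWord wordsN k) ∈ ((MonoidHom.fst HeG (Equiv.Perm (Fin 85))).comp P2.subtype).range := by
    rw [fst_range]; exact inner_mem k hk
  have h1 : (p : HeG × Equiv.Perm (Fin 85)).1 = wprod He.data.gen (getWord wordsN k) := hp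
  have h2 : (p : HeG × Equiv.Perm (Fin 85)).2 = iperm k := Equiv.ext fun j => Fin.ext (by
    have hn : He.table.n = 2058 := by decide +kernel
    have h := P2_compat _ p.2 ⟨nthNat reps j, hn ▸ (reps_ok j j.2).1⟩ j (reps_ok j j.2).2
    rw [h1, map_wprod, funext (He.data.hom_gen He.checked), wprod_tau He.checked _ (inner_runs k hk).1,
      (inner_runs k hk).2 j j.2] at h
    rw [iperm_apply hk]
    exact h.symm)
  rw [← h1, ← h2]
  exact p.2

def gen3 (k : Fin 4) : P2 × Matrix.symplecticGroup (Fin 2) FF :=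
  (⟨(wprod He.data.gen (getWord wordsN k), iperm k), inner_pair k.2⟩, smat k)

def P3 : Subgroup (P2 × Matrix.symplecticGroup (Fin 2) FF) := Subgroup.closure (Set.range gen3)

theorem mval_moves : ∀ k < 4, ∀ j < 85, ∃ s : FF, Matrix.of (mval k) *ᵥ pvec j = s • pvec (ipimg k j) := by
  decide +kernel

theorem P3_compat (p : P2 × Matrix.symplecticGroup (Fin 2) FF) (hp : p ∈ P3) : ∀ j : Fin 85, ∃ s : FF,
    (p.2 : Matrix (Fin 2 ⊕ Fin 2) (Fin 2 ⊕ Fin 2) FF) *ᵥ pvec j = s • pvec ((p.1 : HeG × Equiv.Perm (Fin 85)).2 j) := by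
  haveI := finite_He
  haveI : Finite P2 := Finite.of_injective _ P2.subtype_injective
  refine closure_induction_finite (Q := fun p : P2 × Matrix.symplecticGroup (Fin 2) FF => ∀ j : Fin 85, ∃ s : FF,
    (p.2 : Matrix (Fin 2 ⊕ Fin 2) (Fin 2 ⊕ Fin 2) FF) *ᵥ pvec j = s • pvec ((p.1 : HeG × Equiv.Perm (Fin 85)).2 j))
    ?_ ?_ ?_ hp
  · rintro _ ⟨k, rfl⟩ j
    show ∃ s : FF, (smat k : Matrix (Fin 2 ⊕ Fin 2) (Fin 2 ⊕ Fin 2) FF) *ᵥ pvec j = s • pvec (iperm k j)
    rw [smat_coe k.2, iperm_apply k.2]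
    exact mval_moves k k.2 j j.2
  · intro j; exact ⟨1, by simp⟩
  · intro a b ha hb j
    obtain ⟨s, hs⟩ := hb j
    obtain ⟨t, ht⟩ := ha ((b.1 : HeG × Equiv.Perm (Fin 85)).2 j)
    refine ⟨s * t, ?_⟩
    show ((a.2 * b.2 : Matrix.symplecticGroup (Fin 2) FF) : Matrix (Fin 2 ⊕ Fin 2) (Fin 2 ⊕ Fin 2) FF) *ᵥ pvec j = _
    rw [Submonoid.coe_mul, ← Matrix.mulVec_mulVec, hs, Matrix.mulVec_smul, ht, smul_smul]
    rfl

theorem pvec_apart : ∀ i < 85, ∀ j < 85, ∀ s : FF, pvec i = s • pvec j → i = j := by decide +kernel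

theorem unit_points : ∀ r : Fin 2 ⊕ Fin 2, ∃ j < 85, pvec j = Pi.single r 1 := by decide +kernel

theorem all_point : ∃ j < 85, pvec j = fun _ => 1 := by decide +kernel

theorem sq_eq_one : ∀ s : FF, s * s = 1 → s = 1 := by decide

theorem P3_fst_injective : Function.Injective ((MonoidHom.fst P2 (Matrix.symplecticGroup (Fin 2) FF)).comp P3.subtype) := by
  rw [injective_iff_map_eq_one]
  rintro ⟨⟨p, M⟩, hp⟩ (rfl : p = 1)
  refine Subtype.ext (Prod.ext rfl ?_)
  have h := P3_compat _ hp
  simp only [OneMemClass.coe_one, Prod.snd_one, Equiv.Perm.one_apply] at h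
  obtain ⟨j, hj, hall⟩ := all_point
  obtain ⟨t, ht⟩ := h ⟨j, hj⟩
  rw [hall] at ht
  have hcol : ∀ c r, (M : Matrix (Fin 2 ⊕ Fin 2) (Fin 2 ⊕ Fin 2) FF) r c = if r = c then t else 0 := by
    have hdiag : ∀ c, ∃ s : FF, ∀ r, (M : Matrix (Fin 2 ⊕ Fin 2) (Fin 2 ⊕ Fin 2) FF) r c = if r = c then s else 0 := by
      intro c
      obtain ⟨i, hi, hu⟩ := unit_points c
      obtain ⟨s, hs⟩ := h ⟨i, hi⟩
      rw [hu, Matrix.mulVec_single_one] at hs
      refine ⟨s, fun r => ?_⟩
      have := congrFun hs r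
      simpa [Pi.single_apply] using this
    intro c r
    obtain ⟨s, hs⟩ := hdiag c
    have hst : s = t := by
      have := congrFun ht c
      simp only [Matrix.mulVec, dotProduct, mul_one, Pi.smul_apply, smul_eq_mul] at this
      rw [Finset.sum_eq_single c (fun b _ hb => by
        obtain ⟨s', hs'⟩ := hdiag b
        rw [hs' c, if_neg (Ne.symm hb)]) (fun h => absurd (Finset.mem_univ c) h), hs c, if_pos rfl] at this
      exact this
    rw [hs r, hst]
  have hM : (M : Matrix (Fin 2 ⊕ Fin 2) (Fin 2 ⊕ Fin 2) FF) = t • 1 := by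
    ext r c
    rw [hcol c r, Matrix.smul_apply, Matrix.one_apply, smul_eq_mul, mul_ite, mul_one, mul_zero]
  have hJ := SymplecticGroup.mem_iff.mp M.2
  rw [hM, Matrix.transpose_smul, Matrix.transpose_one, smul_mul_assoc, one_mul, mul_smul_comm, mul_one, smul_smul] at hJ
  have hJ' := congrFun (congrFun hJ (Sum.inl 0)) (Sum.inr 0)
  have ht1 : t = 1 := sq_eq_one t (by simpa [Matrix.J] using hJ')
  show M = 1
  refine Subtype.ext ?_
  rw [hM, ht1, one_smul]
  rfl

theorem P3_snd_injective : Function.Injective ((MonoidHom.snd P2 (Matrix.symplecticGroup (Fin 2) FF)).comp P3.subtype) := by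
  rw [injective_iff_map_eq_one]
  rintro ⟨⟨p, M⟩, hp⟩ (rfl : M = 1)
  refine Subtype.ext (Prod.ext ?_ rfl)
  refine P2_snd_injective ?_
  show (p : HeG × Equiv.Perm (Fin 85)).2 = ((1 : P2) : HeG × Equiv.Perm (Fin 85)).2
  refine Equiv.ext fun j => Fin.ext ?_
  obtain ⟨s, hs⟩ := P3_compat _ hp j
  simp only [OneMemClass.coe_one, Matrix.one_mulVec] at hs
  exact (pvec_apart j j.2 _ ((p : HeG × Equiv.Perm (Fin 85)).2 j).2 s hs).symm

theorem card_P3 : Nat.card P3 = 979200 := by
  have hc := S0245.result (F := FF) (q := 4) FF.card 2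
  simp [Finset.prod_range_succ] at hc
  haveI : Finite (Matrix.symplecticGroup (Fin 2) FF) := Nat.finite_of_card_ne_zero (by omega)
  have hup := Nat.card_le_card_of_injective _ P3_snd_injective
  rw [hc] at hup
  haveI : Finite P3 := Finite.of_injective _ P3_snd_injective
  let f : P3 →* Equiv.Perm (Fin 85) := (MonoidHom.snd _ _).comp (P2.subtype.comp ((MonoidHom.fst _ _).comp P3.subtype))
  have hreal : Realises f.range Inner.perms := by
    intro y hy
    have hy' : y < 4 := by
      have : Inner.perms.length = 4 := by decide +kernel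
      omega
    exact ⟨iperm y, ⟨⟨gen3 ⟨y, hy'⟩, Subgroup.subset_closure ⟨_, rfl⟩⟩, rfl⟩, fun c => iperm_apply hy' c⟩
  have hlow := prodM_le _ _ _ hreal Inner.levels_ok
  rw [Inner.levels_prod] at hlow
  have := Nat.card_le_card_of_surjective _ f.rangeRestrict_surjective
  omega

/-- The embedding of the pairs in the point stabiliser. -/
def toH0 : P3 →* H0 :=
  ((MonoidHom.fst HeG (Equiv.Perm (Fin 85))).comp (P2.subtype.comp ((MonoidHom.fst _ _).comp P3.subtype))).codRestrict H0
    fun p => fst_range ▸ ⟨_, rfl⟩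

theorem toH0_injective : Function.Injective toH0 := fun a b h =>
  P3_fst_injective (P2_fst_injective (congrArg Subtype.val h))

theorem exists_index_two : ∃ (N : Subgroup H0), N.Normal ∧ N.index = 2 ∧
    Nonempty (N ≃* Matrix.symplecticGroup (Fin 2) FF) := by
  have hc := S0245.result (F := FF) (q := 4) FF.card 2
  simp [Finset.prod_range_succ] at hc
  have hN : Nat.card toH0.range = 979200 := by
    rw [← card_P3]; exact (Nat.card_congr (MonoidHom.ofInjective toH0_injective).toEquiv).symm
  have hidx : toH0.range.index = 2 := by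
    have h := toH0.range.card_mul_index
    rw [hN, card_H0] at h
    omega
  haveI : Finite (Matrix.symplecticGroup (Fin 2) FF) := Nat.finite_of_card_ne_zero (by omega)
  exact ⟨toH0.range, Subgroup.normal_of_index_eq_two hidx, hidx,
    ⟨(MonoidHom.ofInjective toH0_injective).symm.trans (MulEquiv.ofBijective _
      (P3_snd_injective.bijective_of_nat_card_le (by rw [card_P3, hc])))⟩⟩

end Cfsg.Agent.InvChar.Coset.HeSymp
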