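import Cfsg.Agent.InvChar.Coset.SuzAData
import Cfsg.Agent.InvChar.Coset.SuzASteps0
import Cfsg.Agent.InvChar.Coset.SuzAClosed0

/-!
# Coset certificate check
-/

set_option autoImplicit false
set_option linter.all false

namespace Cfsg.Agent.InvChar.Coset.SuzA

open Cfsg.Agent.CosetCert

theorem stepsUpto0 : ∀ i < 1000, stepOK cert i = true :=
  steps_add 0 1000 (steps_zero cert) steps0

theorem stepsUpto1 : ∀ i < 2000, stepOK cert i = true :=
  steps_add 1000 1000 (stepsUpto0) steps1

theorem stepsUpto2 : ∀ i < 3000, stepOK cert i = true :=
  steps_add 2000 1000 (stepsUpto1) steps2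

theorem stepsUpto3 : ∀ i < 3236, stepOK cert i = true :=
  steps_add 3000 236 (stepsUpto2) steps3

theorem closedUpto0 : ∀ i < 416, cellsOK table i table.C.K = true :=
  closed_add 0 416 (closed_zero table) closed0

theorem closed : Closed table where
  start := by decide +kernel
  steps := stepsUpto3
  cells := edges_of_cells closedUpto0
  root := by decide +kernel
  pos := by decide +kernel


end Cfsg.Agent.InvChar.Coset.SuzA
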