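import Cfsg.Agent.InvChar.Coset.SuzCData

/-!
# Coset certificate check, a part
-/

set_option autoImplicit false
set_option linter.all false

namespace Cfsg.Agent.InvChar.Coset.SuzC

open Cfsg.Agent.CosetCert

theorem steps0 : rangeOK cert 0 10 = true := by decide +kernel

end Cfsg.Agent.InvChar.Coset.SuzC
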