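import Cfsg.Agent.InvChar.Coset.SuzCData
import Cfsg.Agent.InvChar.Coset.SuzCSteps0
import Cfsg.Agent.InvChar.Coset.SuzCClosed0

/-!
# Coset certificate check
-/

set_option autoImplicit false
set_option linter.all false

namespace Cfsg.Agent.InvChar.Coset.SuzC

open Cfsg.Agent.CosetCert

theorem stepsUpto0 : ∀ i < 10, stepOK cert i = true :=
  steps_add 0 10 (steps_zero cert) steps0

theorem closedUpto0 : ∀ i < 10, cellsOK table i table.C.K = true :=
  closed_add 0 10 (closed_zero table) closed0

theorem closed : Closed table where
  start := by decide +kernel
  steps := stepsUpto0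
  cells := edges_of_cells closedUpto0
  root := by decide +kernel
  pos := by decide +kernel


end Cfsg.Agent.InvChar.Coset.SuzC
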