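import Cfsg.Agent.Lib.CosetCert.Finish

/-!
# Coset certificate data
-/

set_option autoImplicit false
set_option linter.all false

namespace Cfsg.Agent.InvChar.Coset.SuzC

open Cfsg.Agent.CosetCert

def words : List (List ℕ) := [[0, 0], [1, 0, 1, 0, 1, 0, 1, 0, 1, 0], [0, 1, 0, 1, 0, 1, 0, 1, 0, 1], [1, 1]]

def subs : List (List ℕ) := []

def facts0 : Tree :=
  .node 5 (.node 2 (.node 1 (.leaf 0x1000000000000100000) (.leaf 0x2000000010000200000)) (.node 1 (.leaf 0x3000000010000300001) (.node 1 (.leaf 0x4000000000000400002) (.leaf 0x5000000000000500003)))) (.node 2 (.node 1 (.leaf 0x6000000010000600004) (.leaf 0x7000000010000700005)) (.node 1 (.leaf 0x8000000000000800006) (.node 1 (.leaf 0x9000000000000900007) (.leaf 0x700005000030000100000000020000400006000080000a090101110000800009))))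

def facts : Tree :=
  facts0

def rowTree0 : Tree :=
  .node 5 (.node 2 (.node 1 (.leaf 0x100000000000) (.leaf 0x200000000001)) (.node 1 (.leaf 0x100003100002) (.node 1 (.leaf 0x200004100003) (.leaf 0x500003000004)))) (.node 2 (.node 1 (.leaf 0x600004000005) (.leaf 0x500007100006)) (.node 1 (.leaf 0x600008100007) (.node 1 (.leaf 0x900007000008) (.leaf 0x900008000009))))

def rowTree : Tree :=
  rowTree0

def perm0 : ℕ := 0x7000060000900008000030000200005000040000000001

def perm1 : ℕ := 0x8000090000500004000070000600001000000000300002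


def cert : Cert := ⟨2, words, subs, facts, 10⟩

def table : Table := ⟨cert, 10, rowTree, [perm0, perm1]⟩

end Cfsg.Agent.InvChar.Coset.SuzC
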