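import Cfsg.Agent.InvChar.Coset.SuzData

/-!
# Coset certificate check, a part
-/

set_option autoImplicit false
set_option linter.all false

namespace Cfsg.Agent.InvChar.Coset.Suz

open Cfsg.Agent.CosetCert

theorem rows0 : rowsOK table 0 100 = true := by decide +kernel

theorem rows1 : rowsOK table 100 100 = true := by decide +kernel

theorem rows2 : rowsOK table 200 100 = true := by decide +kernel

theorem rows3 : rowsOK table 300 100 = true := by decide +kernel

theorem rows4 : rowsOK table 400 100 = true := by decide +kernel

theorem rows5 : rowsOK table 500 100 = true := by decide +kernel

theorem rows6 : rowsOK table 600 100 = true := by decide +kernel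

theorem rows7 : rowsOK table 700 100 = true := by decide +kernel

theorem rows8 : rowsOK table 800 100 = true := by decide +kernel

theorem rows9 : rowsOK table 900 100 = true := by decide +kernel

theorem rows10 : rowsOK table 1000 100 = true := by decide +kernel

theorem rows11 : rowsOK table 1100 100 = true := by decide +kernel

theorem rows12 : rowsOK table 1200 100 = true := by decide +kernel

theorem rows13 : rowsOK table 1300 100 = true := by decide +kernel

theorem rows14 : rowsOK table 1400 100 = true := by decide +kernel

theorem rows15 : rowsOK table 1500 100 = true := by decide +kernel

theorem rows16 : rowsOK table 1600 100 = true := by decide +kernel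

theorem rows17 : rowsOK table 1700 82 = true := by decide +kernel

end Cfsg.Agent.InvChar.Coset.Suz
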