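import Cfsg.Agent.InvChar.Coset.SuzData
import Cfsg.Agent.InvChar.Coset.SuzSteps0
import Cfsg.Agent.InvChar.Coset.SuzSteps1
import Cfsg.Agent.InvChar.Coset.SuzSteps2
import Cfsg.Agent.InvChar.Coset.SuzRows0
import Cfsg.Agent.InvChar.Coset.SuzOrbits0

/-!
# Coset certificate check
-/

set_option autoImplicit false
set_option linter.all false

namespace Cfsg.Agent.InvChar.Coset.Suz

open Cfsg.Agent.CosetCert

theorem stepsUpto0 : ∀ i < 1000, stepOK cert i = true :=
  steps_add 0 1000 (steps_zero cert) steps0

theorem stepsUpto1 : ∀ i < 2000, stepOK cert i = true :=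
  steps_add 1000 1000 (stepsUpto0) steps1

theorem stepsUpto2 : ∀ i < 3000, stepOK cert i = true :=
  steps_add 2000 1000 (stepsUpto1) steps2

theorem stepsUpto3 : ∀ i < 4000, stepOK cert i = true :=
  steps_add 3000 1000 (stepsUpto2) steps3

theorem stepsUpto4 : ∀ i < 5000, stepOK cert i = true :=
  steps_add 4000 1000 (stepsUpto3) steps4

theorem stepsUpto5 : ∀ i < 6000, stepOK cert i = true :=
  steps_add 5000 1000 (stepsUpto4) steps5

theorem stepsUpto6 : ∀ i < 7000, stepOK cert i = true :=
  steps_add 6000 1000 (stepsUpto5) steps6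

theorem stepsUpto7 : ∀ i < 8000, stepOK cert i = true :=
  steps_add 7000 1000 (stepsUpto6) steps7

theorem stepsUpto8 : ∀ i < 9000, stepOK cert i = true :=
  steps_add 8000 1000 (stepsUpto7) steps8

theorem stepsUpto9 : ∀ i < 10000, stepOK cert i = true :=
  steps_add 9000 1000 (stepsUpto8) steps9

theorem stepsUpto10 : ∀ i < 11000, stepOK cert i = true :=
  steps_add 10000 1000 (stepsUpto9) steps10

theorem stepsUpto11 : ∀ i < 12000, stepOK cert i = true :=
  steps_add 11000 1000 (stepsUpto10) steps11

theorem stepsUpto12 : ∀ i < 13000, stepOK cert i = true :=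
  steps_add 12000 1000 (stepsUpto11) steps12

theorem stepsUpto13 : ∀ i < 14000, stepOK cert i = true :=
  steps_add 13000 1000 (stepsUpto12) steps13

theorem stepsUpto14 : ∀ i < 15000, stepOK cert i = true :=
  steps_add 14000 1000 (stepsUpto13) steps14

theorem stepsUpto15 : ∀ i < 16000, stepOK cert i = true :=
  steps_add 15000 1000 (stepsUpto14) steps15

theorem stepsUpto16 : ∀ i < 17000, stepOK cert i = true :=
  steps_add 16000 1000 (stepsUpto15) steps16

theorem stepsUpto17 : ∀ i < 18000, stepOK cert i = true :=
  steps_add 17000 1000 (stepsUpto16) steps17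

theorem stepsUpto18 : ∀ i < 19000, stepOK cert i = true :=
  steps_add 18000 1000 (stepsUpto17) steps18

theorem stepsUpto19 : ∀ i < 20000, stepOK cert i = true :=
  steps_add 19000 1000 (stepsUpto18) steps19

theorem stepsUpto20 : ∀ i < 21000, stepOK cert i = true :=
  steps_add 20000 1000 (stepsUpto19) steps20

theorem stepsUpto21 : ∀ i < 22000, stepOK cert i = true :=
  steps_add 21000 1000 (stepsUpto20) steps21

theorem stepsUpto22 : ∀ i < 23000, stepOK cert i = true :=
  steps_add 22000 1000 (stepsUpto21) steps22

theorem stepsUpto23 : ∀ i < 24000, stepOK cert i = true :=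
  steps_add 23000 1000 (stepsUpto22) steps23

theorem stepsUpto24 : ∀ i < 25000, stepOK cert i = true :=
  steps_add 24000 1000 (stepsUpto23) steps24

theorem stepsUpto25 : ∀ i < 26000, stepOK cert i = true :=
  steps_add 25000 1000 (stepsUpto24) steps25

theorem stepsUpto26 : ∀ i < 27000, stepOK cert i = true :=
  steps_add 26000 1000 (stepsUpto25) steps26

theorem stepsUpto27 : ∀ i < 28000, stepOK cert i = true :=
  steps_add 27000 1000 (stepsUpto26) steps27

theorem stepsUpto28 : ∀ i < 29000, stepOK cert i = true :=
  steps_add 28000 1000 (stepsUpto27) steps28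

theorem stepsUpto29 : ∀ i < 30000, stepOK cert i = true :=
  steps_add 29000 1000 (stepsUpto28) steps29

theorem stepsUpto30 : ∀ i < 31000, stepOK cert i = true :=
  steps_add 30000 1000 (stepsUpto29) steps30

theorem stepsUpto31 : ∀ i < 32000, stepOK cert i = true :=
  steps_add 31000 1000 (stepsUpto30) steps31

theorem stepsUpto32 : ∀ i < 32139, stepOK cert i = true :=
  steps_add 32000 139 (stepsUpto31) steps32

theorem rowsUpto0 : ∀ i < 100, rowOK table i = true :=
  rows_add 0 100 (rows_zero table) rows0

theorem rowsUpto1 : ∀ i < 200, rowOK table i = true :=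
  rows_add 100 100 (rowsUpto0) rows1

theorem rowsUpto2 : ∀ i < 300, rowOK table i = true :=
  rows_add 200 100 (rowsUpto1) rows2

theorem rowsUpto3 : ∀ i < 400, rowOK table i = true :=
  rows_add 300 100 (rowsUpto2) rows3

theorem rowsUpto4 : ∀ i < 500, rowOK table i = true :=
  rows_add 400 100 (rowsUpto3) rows4

theorem rowsUpto5 : ∀ i < 600, rowOK table i = true :=
  rows_add 500 100 (rowsUpto4) rows5

theorem rowsUpto6 : ∀ i < 700, rowOK table i = true :=
  rows_add 600 100 (rowsUpto5) rows6

theorem rowsUpto7 : ∀ i < 800, rowOK table i = true :=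
  rows_add 700 100 (rowsUpto6) rows7

theorem rowsUpto8 : ∀ i < 900, rowOK table i = true :=
  rows_add 800 100 (rowsUpto7) rows8

theorem rowsUpto9 : ∀ i < 1000, rowOK table i = true :=
  rows_add 900 100 (rowsUpto8) rows9

theorem rowsUpto10 : ∀ i < 1100, rowOK table i = true :=
  rows_add 1000 100 (rowsUpto9) rows10

theorem rowsUpto11 : ∀ i < 1200, rowOK table i = true :=
  rows_add 1100 100 (rowsUpto10) rows11

theorem rowsUpto12 : ∀ i < 1300, rowOK table i = true :=
  rows_add 1200 100 (rowsUpto11) rows12

theorem rowsUpto13 : ∀ i < 1400, rowOK table i = true :=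
  rows_add 1300 100 (rowsUpto12) rows13

theorem rowsUpto14 : ∀ i < 1500, rowOK table i = true :=
  rows_add 1400 100 (rowsUpto13) rows14

theorem rowsUpto15 : ∀ i < 1600, rowOK table i = true :=
  rows_add 1500 100 (rowsUpto14) rows15

theorem rowsUpto16 : ∀ i < 1700, rowOK table i = true :=
  rows_add 1600 100 (rowsUpto15) rows16

theorem rowsUpto17 : ∀ i < 1782, rowOK table i = true :=
  rows_add 1700 82 (rowsUpto16) rows17

theorem checked : Checked table where
  start := by decide +kernel
  steps := stepsUpto32
  rows := rowsUpto17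
  lettersW := by decide +kernel
  lettersS := by decide +kernel
  fixS := by decide +kernel
  pos := by decide +kernel
theorem orbitsUpto0 : ∀ i < 200, orbitOK table orbits i = true :=
  orbits_add 0 200 (orbits_zero table orbits) orbits0

theorem orbitsUpto1 : ∀ i < 400, orbitOK table orbits i = true :=
  orbits_add 200 200 (orbitsUpto0) orbits1

theorem orbitsUpto2 : ∀ i < 600, orbitOK table orbits i = true :=
  orbits_add 400 200 (orbitsUpto1) orbits2

theorem orbitsUpto3 : ∀ i < 800, orbitOK table orbits i = true :=
  orbits_add 600 200 (orbitsUpto2) orbits3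

theorem orbitsUpto4 : ∀ i < 1000, orbitOK table orbits i = true :=
  orbits_add 800 200 (orbitsUpto3) orbits4

theorem orbitsUpto5 : ∀ i < 1200, orbitOK table orbits i = true :=
  orbits_add 1000 200 (orbitsUpto4) orbits5

theorem orbitsUpto6 : ∀ i < 1400, orbitOK table orbits i = true :=
  orbits_add 1200 200 (orbitsUpto5) orbits6

theorem orbitsUpto7 : ∀ i < 1600, orbitOK table orbits i = true :=
  orbits_add 1400 200 (orbitsUpto6) orbits7

theorem orbitsUpto8 : ∀ i < 1782, orbitOK table orbits i = true :=
  orbits_add 1600 182 (orbitsUpto7) orbits8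

theorem orbits_ok : ∀ i < 1782, orbitOK table orbits i = true := orbitsUpto8

theorem count0 : countLabel orbits 0 1782 = 1 := by decide +kernel

theorem count1 : countLabel orbits 1 1782 = 1365 := by decide +kernel

theorem count2 : countLabel orbits 2 1782 = 416 := by decide +kernel


end Cfsg.Agent.InvChar.Coset.Suz
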