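import Cfsg.Agent.Lib.CosetCert.Finish

/-!
# Root lines of the group G2(4) on the rows of the table of the Suzuki group
-/

set_option autoImplicit false
set_option linter.all false

namespace Cfsg.Agent.InvChar.Coset.SuzGTwo

open Cfsg.Agent.CosetCert

noncomputable def vt0 : Tree :=
  .node 64 (.node 32 (.node 16 (.node 8 (.node 4 (.node 2 (.node 1 (.leaf (nat_lit 0x0)) (.leaf (nat_lit 0x2de8b74))) (.node 1 (.leaf (nat_lit 0x2a2df25)) (.leaf (nat_lit 0x61ad9cd)))) (.node 2 (.node 1 (.leaf (nat_lit 0x4010051)) (.leaf (nat_lit 0x5014004))) (.node 1 (.leaf (nat_lit 0xbc792b5)) (.leaf (nat_lit 0xbc5e7f9))))) (.node 4 (.node 2 (.node 1 (.leaf (nat_lit 0xebee85d)) (.leaf (nat_lit 0x62fb464))) (.node 1 (.leaf (nat_lit 0x397f2d9)) (.leaf (nat_lit 0x951cff1)))) (.node 2 (.node 1 (.leaf (nat_lit 0x5e14e51)) (.leaf (nat_lit 0x20c86f5))) (.node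 1 (.leaf (nat_lit 0x4e87c55)) (.leaf (nat_lit 0x2a255b5)))))) (.node 8 (.node 4 (.node 2 (.node 1 (.leaf (nat_lit 0xff21085)) (.leaf (nat_lit 0x39a84))) (.node 1 (.leaf (nat_lit 0x9fdf3b9)) (.leaf (nat_lit 0x997079d)))) (.node 2 (.node 1 (.leaf (nat_lit 0x363e655)) (.leaf (nat_lit 0xbc40831))) (.node 1 (.leaf (nat_lit 0xe038059)) (.leaf (nat_lit 0xe6f8004))))) (.node 4 (.node 2 (.node 1 (.leaf (nat_lit 0x78e71a5)) (.leaf (nat_lit 0xff0bafd))) (.node 1 (.leaf (nat_lit 0x38004)) (.leaf (nat_lit 0x4000011)))) (.node 2 (.node 1 (.leaf (nat_lit 0x552ba6d)) (.leaf (nat_lit 0x747ffc9))) (.node 1 (.leaf (nat_lit 0xc95dd1d)) (.leaf (nat_lit 0xcfcf6cd))))))) (.node 16 (.node 8 (.node 4 (.node 2 (.node 1 (.leaf (nat_lit 0xcdce4e5)) (.leaf (nat_lit 0xebd8d85))) (.node 1 (.leaf (nat_lit 0x380d4)) (.leaf (nat_lit 0x8a90)))) (.node 2 (.node 1 (.leaf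 (nat_lit 0xb02c05d)) (.leaf (nat_lit 0x159586d))) (.node 1 (.leaf (nat_lit 0x61b19a5)) (.leaf (nat_lit 0x2da2a29))))) (.node 4 (.node 2 (.node 1 (.leaf (nat_lit 0x4bc6855)) (.leaf (nat_lit 0xfb8b3f9))) (.node 1 (.leaf (nat_lit 0xd510000)) (.leaf (nat_lit 0x4eb53a4)))) (.node 2 (.node 1 (.leaf (nat_lit 0xff34561)) (.leaf (nat_lit 0xc010000))) (.node 1 (.leaf (nat_lit 0x155e4)) (.leaf (nat_lit 0x0)))))) (.node 8 (.node 4 (.node 2 (.node 1 (.leaf (nat_lit 0x62f36a5)) (.leaf (nat_lit 0x5505544))) (.node 1 (.leaf (nat_lit 0x4020091)) (.leaf (nat_lit 0xbde4b45)))) (.node 2 (.node 1 (.leaf (nat_lit 0x6feb925)) (.leaf (nat_lit 0xdf872dd))) (.node 1 (.leaf (nat_lit 0x3000085)) (.leaf (nat_lit 0xfe72a74))))) (.node 4 (.node 2 (.node 1 (.leaf (nat_lit 0x2dfb4)) (.leaf (nat_lit 0xe4a3924))) (.node 1 (.leaf (nat_lit 0xc0200e1)) (.leaf (nat_lit 0x1bd2851))))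 (.node 2 (.node 1 (.leaf (nat_lit 0x9531045)) (.leaf (nat_lit 0x6728791))) (.node 1 (.leaf (nat_lit 0x200c0e5)) (.leaf (nat_lit 0xa4db2d5)))))))) (.node 32 (.node 16 (.node 8 (.node 4 (.node 2 (.node 1 (.leaf (nat_lit 0x9395e4d)) (.leaf (nat_lit 0xc49e310))) (.node 1 (.leaf (nat_lit 0xeeafc5d)) (.leaf (nat_lit 0x2a29a55)))) (.node 2 (.node 1 (.leaf (nat_lit 0xd2c9bf1)) (.leaf (nat_lit 0x1e5ffc9))) (.node 1 (.leaf (nat_lit 0x39a54)) (.leaf (nat_lit 0xa16ffc9))))) (.node 4 (.node 2 (.node 1 (.leaf (nat_lit 0x0)) (.leaf (nat_lit 0x39b8004))) (.node 1 (.leaf (nat_lit 0x3f31085)) (.leaf (nat_lit 0xff1ef19)))) (.node 2 (.node 1 (.leaf (nat_lit 0x0)) (.leaf (nat_lit 0x74662a5))) (.node 1 (.leaf (nat_lit 0x7f11085)) (.leaf (nat_lit 0x0)))))) (.node 8 (.node 4 (.node 2 (.node 1 (.leaf (nat_lit 0xf16ea29)) (.leaf (nat_lit 0x0))) (.node 1 (.leaf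 (nat_lit 0x0)) (.leaf (nat_lit 0x6d28d91)))) (.node 2 (.node 1 (.leaf (nat_lit 0x6d37b39)) (.leaf (nat_lit 0xea1aad9))) (.node 1 (.leaf (nat_lit 0x900c031)) (.leaf (nat_lit 0xd529a84))))) (.node 4 (.node 2 (.node 1 (.leaf (nat_lit 0xf010085)) (.leaf (nat_lit 0xa9cbf94))) (.node 1 (.leaf (nat_lit 0x6189971)) (.leaf (nat_lit 0xaa24571)))) (.node 2 (.node 1 (.leaf (nat_lit 0x51795bd)) (.leaf (nat_lit 0x5e03045))) (.node 1 (.leaf (nat_lit 0xbebbc59)) (.leaf (nat_lit 0x3084795))))))) (.node 16 (.node 8 (.node 4 (.node 2 (.node 1 (.leaf (nat_lit 0xad19d1d)) (.leaf (nat_lit 0x8000031))) (.node 1 (.leaf (nat_lit 0xca5eef5)) (.leaf (nat_lit 0x0)))) (.node 2 (.node 1 (.leaf (nat_lit 0xb7815b9)) (.leaf (nat_lit 0x87e8e69))) (.node 1 (.leaf (nat_lit 0x4af693d)) (.leaf (nat_lit 0x5e2a76d))))) (.node 4 (.node 2 (.node 1 (.leaf (nat_lit 0xbea5321))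 (.leaf (nat_lit 0xb3798b4))) (.node 1 (.leaf (nat_lit 0xbf09a84)) (.leaf (nat_lit 0x40300d1)))) (.node 2 (.node 1 (.leaf (nat_lit 0xbf265a9)) (.leaf (nat_lit 0x4203251))) (.node 1 (.leaf (nat_lit 0xbdc3eb9)) (.leaf (nat_lit 0xcb4ffc9)))))) (.node 8 (.node 4 (.node 2 (.node 1 (.leaf (nat_lit 0x0)) (.leaf (nat_lit 0x5b10000))) (.node 1 (.leaf (nat_lit 0xbdfa4ed)) (.leaf (nat_lit 0x0)))) (.node 2 (.node 1 (.leaf (nat_lit 0x0)) (.leaf (nat_lit 0x0))) (.node 1 (.leaf (nat_lit 0xc6bcb7d)) (.leaf (nat_lit 0x2e6b4))))) (.node 4 (.node 2 (.node 1 (.leaf (nat_lit 0xbf01085)) (.leaf (nat_lit 0x0))) (.node 1 (.leaf (nat_lit 0x4233291)) (.leaf (nat_lit 0xf03807d)))) (.node 2 (.node 1 (.leaf (nat_lit 0x745197d)) (.leaf (nat_lit 0x0))) (.node 1 (.leaf (nat_lit 0xd182cd0)) (.leaf (nat_lit 0x0))))))))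

noncomputable def vt1 : Tree :=
  .node 64 (.node 32 (.node 16 (.node 8 (.node 4 (.node 2 (.node 1 (.leaf (nat_lit 0x0)) (.leaf (nat_lit 0x0))) (.node 1 (.leaf (nat_lit 0x0)) (.leaf (nat_lit 0xaa1ba1d)))) (.node 2 (.node 1 (.leaf (nat_lit 0x20c06e5)) (.leaf (nat_lit 0x20809e5))) (.node 1 (.leaf (nat_lit 0xd0)) (.leaf (nat_lit 0x793c9d1))))) (.node 4 (.node 2 (.node 1 (.leaf (nat_lit 0xb8bb3b5)) (.leaf (nat_lit 0x58fdedd))) (.node 1 (.leaf (nat_lit 0x952aa29)) (.leaf (nat_lit 0x7ecb465)))) (.node 2 (.node 1 (.leaf (nat_lit 0x9c44831)) (.leaf (nat_lit 0xebc37e9))) (.node 1 (.leaf (nat_lit 0xd000000)) (.leaf (nat_lit 0x1591d1d)))))) (.node 8 (.node 4 (.node 2 (.node 1 (.leaf (nat_lit 0xa004031)) (.leaf (nat_lit 0xa5b57d0))) (.node 1 (.leaf (nat_lit 0x0)) (.leaf (nat_lit 0x27e7b4d)))) (.node 2 (.node 1 (.leaf (nat_lit 0x6444000)) (.leaf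 (nat_lit 0x0))) (.node 1 (.leaf (nat_lit 0xba64545)) (.leaf (nat_lit 0x2004000))))) (.node 4 (.node 2 (.node 1 (.leaf (nat_lit 0x0)) (.leaf (nat_lit 0x159d2fd))) (.node 1 (.leaf (nat_lit 0x0)) (.leaf (nat_lit 0x0)))) (.node 2 (.node 1 (.leaf (nat_lit 0x1b9e9c9)) (.leaf (nat_lit 0x2a60fe4))) (.node 1 (.leaf (nat_lit 0x380b4)) (.leaf (nat_lit 0xef43eed))))))) (.node 16 (.node 8 (.node 4 (.node 2 (.node 1 (.leaf (nat_lit 0x36f8004)) (.leaf (nat_lit 0x81033b1))) (.node 1 (.leaf (nat_lit 0xee98785)) (.leaf (nat_lit 0x39ae4)))) (.node 2 (.node 1 (.leaf (nat_lit 0xbf1ff9d)) (.leaf (nat_lit 0x49e6a29))) (.node 1 (.leaf (nat_lit 0x2767379)) (.leaf (nat_lit 0x10040))))) (.node 4 (.node 2 (.node 1 (.leaf (nat_lit 0xa670da9)) (.leaf (nat_lit 0x59974bd))) (.node 1 (.leaf (nat_lit 0x4bd4b45)) (.leaf (nat_lit 0xbddd111)))) (.node 2 (.node 1 (.leaf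 (nat_lit 0x0)) (.leaf (nat_lit 0xccdd5b1))) (.node 1 (.leaf (nat_lit 0x9020045)) (.leaf (nat_lit 0x10c4b45)))))) (.node 8 (.node 4 (.node 2 (.node 1 (.leaf (nat_lit 0x0)) (.leaf (nat_lit 0x0))) (.node 1 (.leaf (nat_lit 0x0)) (.leaf (nat_lit 0x0)))) (.node 2 (.node 1 (.leaf (nat_lit 0x0)) (.leaf (nat_lit 0x2df24))) (.node 1 (.leaf (nat_lit 0x8a8a789)) (.leaf (nat_lit 0x7448411))))) (.node 4 (.node 2 (.node 1 (.leaf (nat_lit 0x0)) (.leaf (nat_lit 0xd1bacd4))) (.node 1 (.leaf (nat_lit 0x42232d1)) (.leaf (nat_lit 0xbbfa859)))) (.node 2 (.node 1 (.leaf (nat_lit 0x0)) (.leaf (nat_lit 0x10))) (.node 1 (.leaf (nat_lit 0xc94efcd)) (.leaf (nat_lit 0x1559ed1)))))))) (.node 32 (.node 16 (.node 8 (.node 4 (.node 2 (.node 1 (.leaf (nat_lit 0x0)) (.leaf (nat_lit 0x48d6310))) (.node 1 (.leaf (nat_lit 0x0)) (.leaf (nat_lit 0x0)))) (.node 2 (.node 1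 (.leaf (nat_lit 0x0)) (.leaf (nat_lit 0x0))) (.node 1 (.leaf (nat_lit 0x0)) (.leaf (nat_lit 0x0))))) (.node 4 (.node 2 (.node 1 (.leaf (nat_lit 0x0)) (.leaf (nat_lit 0x0))) (.node 1 (.leaf (nat_lit 0x0)) (.leaf (nat_lit 0x87fbcf9)))) (.node 2 (.node 1 (.leaf (nat_lit 0x9c6b165)) (.leaf (nat_lit 0x0))) (.node 1 (.leaf (nat_lit 0x6a36539)) (.leaf (nat_lit 0x8010)))))) (.node 8 (.node 4 (.node 2 (.node 1 (.leaf (nat_lit 0x62ef6cd)) (.leaf (nat_lit 0x2de24e1))) (.node 1 (.leaf (nat_lit 0x761e6c4)) (.leaf (nat_lit 0xf004021)))) (.node 2 (.node 1 (.leaf (nat_lit 0x5e3d979)) (.leaf (nat_lit 0x2a24540))) (.node 1 (.leaf (nat_lit 0xcedc799)) (.leaf (nat_lit 0xb4f2d34))))) (.node 4 (.node 2 (.node 1 (.leaf (nat_lit 0xd038004)) (.leaf (nat_lit 0x6c93a69))) (.node 1 (.leaf (nat_lit 0x367626d)) (.leaf (nat_lit 0xebf5231)))) (.node 2 (.node 1 (.leaf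 (nat_lit 0x4000000)) (.leaf (nat_lit 0x50380ed))) (.node 1 (.leaf (nat_lit 0x71d5d1d)) (.leaf (nat_lit 0x0))))))) (.node 16 (.node 8 (.node 4 (.node 2 (.node 1 (.leaf (nat_lit 0x2a68574)) (.leaf (nat_lit 0xb008031))) (.node 1 (.leaf (nat_lit 0x0)) (.leaf (nat_lit 0x159978d)))) (.node 2 (.node 1 (.leaf (nat_lit 0x0)) (.leaf (nat_lit 0xe3a3925))) (.node 1 (.leaf (nat_lit 0xeeba650)) (.leaf (nat_lit 0x0))))) (.node 4 (.node 2 (.node 1 (.leaf (nat_lit 0x57ac004)) (.leaf (nat_lit 0x0))) (.node 1 (.leaf (nat_lit 0x0)) (.leaf (nat_lit 0x7589865)))) (.node 2 (.node 1 (.leaf (nat_lit 0xafb0aa9)) (.leaf (nat_lit 0x0))) (.node 1 (.leaf (nat_lit 0xe02c004)) (.leaf (nat_lit 0x0)))))) (.node 8 (.node 4 (.node 2 (.node 1 (.leaf (nat_lit 0x0)) (.leaf (nat_lit 0xdb07bd9))) (.node 1 (.leaf (nat_lit 0x4bf7a65)) (.leaf (nat_lit 0xa71a71d)))) (.node 2 (.node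 1 (.leaf (nat_lit 0x62d7619)) (.leaf (nat_lit 0xb030085))) (.node 1 (.leaf (nat_lit 0x1048410)) (.leaf (nat_lit 0x5510000))))) (.node 4 (.node 2 (.node 1 (.leaf (nat_lit 0x1bdcda4)) (.leaf (nat_lit 0x5b14b51))) (.node 1 (.leaf (nat_lit 0x94df6cd)) (.leaf (nat_lit 0x86d9364)))) (.node 2 (.node 1 (.leaf (nat_lit 0xfba6990)) (.leaf (nat_lit 0x8c48831))) (.node 1 (.leaf (nat_lit 0x1515515)) (.leaf (nat_lit 0xfe67f90))))))))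

noncomputable def vt2 : Tree :=
  .node 64 (.node 32 (.node 16 (.node 8 (.node 4 (.node 2 (.node 1 (.leaf (nat_lit 0x950759d)) (.leaf (nat_lit 0x4213211))) (.node 1 (.leaf (nat_lit 0x2a210c5)) (.leaf (nat_lit 0x8b986dd)))) (.node 2 (.node 1 (.leaf (nat_lit 0xe4b5669)) (.leaf (nat_lit 0x2c074))) (.node 1 (.leaf (nat_lit 0xe6f4b45)) (.leaf (nat_lit 0x0))))) (.node 4 (.node 2 (.node 1 (.leaf (nat_lit 0xd2f1b95)) (.leaf (nat_lit 0xf5e1c71))) (.node 1 (.leaf (nat_lit 0x1e14e40)) (.leaf (nat_lit 0x0)))) (.node 2 (.node 1 (.leaf (nat_lit 0xc030061)) (.leaf (nat_lit 0x27a8e74))) (.node 1 (.leaf (nat_lit 0x90380a9)) (.leaf (nat_lit 0x0)))))) (.node 8 (.node 4 (.node 2 (.node 1 (.leaf (nat_lit 0x0)) (.leaf (nat_lit 0x0))) (.node 1 (.leaf (nat_lit 0x0)) (.leaf (nat_lit 0x0)))) (.node 2 (.node 1 (.leaf (nat_lit 0x0)) (.leaf (nat_lit 0x0))) (.node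 1 (.leaf (nat_lit 0x0)) (.leaf (nat_lit 0x0))))) (.node 4 (.node 2 (.node 1 (.leaf (nat_lit 0xe861f24)) (.leaf (nat_lit 0x94e5f24))) (.node 1 (.leaf (nat_lit 0x0)) (.leaf (nat_lit 0xcfd0)))) (.node 2 (.node 1 (.leaf (nat_lit 0xc97ce7d)) (.leaf (nat_lit 0x7ab27f4))) (.node 1 (.leaf (nat_lit 0x0)) (.leaf (nat_lit 0xa64e495))))))) (.node 16 (.node 8 (.node 4 (.node 2 (.node 1 (.leaf (nat_lit 0x77ca17d)) (.leaf (nat_lit 0x1e93c51))) (.node 1 (.leaf (nat_lit 0x0)) (.leaf (nat_lit 0x6a19a84)))) (.node 2 (.node 1 (.leaf (nat_lit 0xe26dce4)) (.leaf (nat_lit 0x1004055))) (.node 1 (.leaf (nat_lit 0x0)) (.leaf (nat_lit 0xc6d0))))) (.node 4 (.node 2 (.node 1 (.leaf (nat_lit 0x995e1b9)) (.leaf (nat_lit 0x4b40))) (.node 1 (.leaf (nat_lit 0x0)) (.leaf (nat_lit 0x3044a95)))) (.node 2 (.node 1 (.leaf (nat_lit 0xc96fcad)) (.leaf (nat_lit 0x0))) (.node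 1 (.leaf (nat_lit 0x4540)) (.leaf (nat_lit 0x0)))))) (.node 8 (.node 4 (.node 2 (.node 1 (.leaf (nat_lit 0x0)) (.leaf (nat_lit 0x0))) (.node 1 (.leaf (nat_lit 0x1b14b40)) (.leaf (nat_lit 0x0)))) (.node 2 (.node 1 (.leaf (nat_lit 0x0)) (.leaf (nat_lit 0x0))) (.node 1 (.leaf (nat_lit 0x0)) (.leaf (nat_lit 0x0))))) (.node 4 (.node 2 (.node 1 (.leaf (nat_lit 0x0)) (.leaf (nat_lit 0x0))) (.node 1 (.leaf (nat_lit 0x0)) (.leaf (nat_lit 0x0)))) (.node 2 (.node 1 (.leaf (nat_lit 0x0)) (.leaf (nat_lit 0x0))) (.node 1 (.leaf (nat_lit 0x0)) (.leaf (nat_lit 0x27efcfd)))))))) (.node 32 (.node 16 (.node 8 (.node 4 (.node 2 (.node 1 (.leaf (nat_lit 0xb18b781)) (.leaf (nat_lit 0x0))) (.node 1 (.leaf (nat_lit 0xa8a6e49)) (.leaf (nat_lit 0x0)))) (.node 2 (.node 1 (.leaf (nat_lit 0x0)) (.leaf (nat_lit 0xef78004))) (.node 1 (.leaf (nat_lit 0x8020071)) (.leaf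 (nat_lit 0xc69fa1d))))) (.node 4 (.node 2 (.node 1 (.leaf (nat_lit 0x15d93a9)) (.leaf (nat_lit 0x47574dd))) (.node 1 (.leaf (nat_lit 0xac4c831)) (.leaf (nat_lit 0x90)))) (.node 2 (.node 1 (.leaf (nat_lit 0x86f8004)) (.leaf (nat_lit 0x8c5a310))) (.node 1 (.leaf (nat_lit 0xbe9c9c5)) (.leaf (nat_lit 0x5dd64e9)))))) (.node 8 (.node 4 (.node 2 (.node 1 (.leaf (nat_lit 0x4010000)) (.leaf (nat_lit 0xe1e2625))) (.node 1 (.leaf (nat_lit 0x6cb61f5)) (.leaf (nat_lit 0x6e4f875)))) (.node 2 (.node 1 (.leaf (nat_lit 0xd2d5b49)) (.leaf (nat_lit 0x66b46ed))) (.node 1 (.leaf (nat_lit 0x10c8b75)) (.leaf (nat_lit 0x96b0d9d))))) (.node 4 (.node 2 (.node 1 (.leaf (nat_lit 0x272f925)) (.leaf (nat_lit 0xbe826bd))) (.node 1 (.leaf (nat_lit 0x0)) (.leaf (nat_lit 0x0)))) (.node 2 (.node 1 (.leaf (nat_lit 0x393f955)) (.leaf (nat_lit 0x85d8fdd))) (.node 1 (.leaf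 (nat_lit 0x0)) (.leaf (nat_lit 0xb0140e9))))))) (.node 16 (.node 8 (.node 4 (.node 2 (.node 1 (.leaf (nat_lit 0x0)) (.leaf (nat_lit 0x20040f5))) (.node 1 (.leaf (nat_lit 0x48c4000)) (.leaf (nat_lit 0x0)))) (.node 2 (.node 1 (.leaf (nat_lit 0x1e989f4)) (.leaf (nat_lit 0x0))) (.node 1 (.leaf (nat_lit 0x0)) (.leaf (nat_lit 0x5501045))))) (.node 4 (.node 2 (.node 1 (.leaf (nat_lit 0x2aad4fd)) (.leaf (nat_lit 0x84db210))) (.node 1 (.leaf (nat_lit 0x0)) (.leaf (nat_lit 0xb925ea9)))) (.node 2 (.node 1 (.leaf (nat_lit 0x0)) (.leaf (nat_lit 0x0))) (.node 1 (.leaf (nat_lit 0xcdfd194)) (.leaf (nat_lit 0x93b9e39)))))) (.node 8 (.node 4 (.node 2 (.node 1 (.leaf (nat_lit 0x6a28a91)) (.leaf (nat_lit 0xe9b8004))) (.node 1 (.leaf (nat_lit 0xf17aa8d)) (.leaf (nat_lit 0xfcdd195)))) (.node 2 (.node 1 (.leaf (nat_lit 0x7020085)) (.leaf (nat_lit 0x78eb924)))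 (.node 1 (.leaf (nat_lit 0xd2f98d4)) (.leaf (nat_lit 0x4e87254))))) (.node 4 (.node 2 (.node 1 (.leaf (nat_lit 0x2df54)) (.leaf (nat_lit 0x3f3df55))) (.node 1 (.leaf (nat_lit 0x20cc6c5)) (.leaf (nat_lit 0x12310)))) (.node 2 (.node 1 (.leaf (nat_lit 0xca5e174)) (.leaf (nat_lit 0xee81ae9))) (.node 1 (.leaf (nat_lit 0xa659a81)) (.leaf (nat_lit 0x4665729))))))))

noncomputable def vt3 : Tree :=
  .node 64 (.node 32 (.node 16 (.node 8 (.node 4 (.node 2 (.node 1 (.leaf (nat_lit 0xbf38ab1)) (.leaf (nat_lit 0xc4af9c1))) (.node 1 (.leaf (nat_lit 0xea0dfc4)) (.leaf (nat_lit 0xc84cc21)))) (.node 2 (.node 1 (.leaf (nat_lit 0x48d6b41)) (.leaf (nat_lit 0xc000021))) (.node 1 (.leaf (nat_lit 0xb7a4e45)) (.leaf (nat_lit 0x90140dd))))) (.node 4 (.node 2 (.node 1 (.leaf (nat_lit 0x0)) (.leaf (nat_lit 0x724fa61))) (.node 1 (.leaf (nat_lit 0x38064)) (.leaf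 (nat_lit 0xd2edb2d)))) (.node 2 (.node 1 (.leaf (nat_lit 0x0)) (.leaf (nat_lit 0xa70d9a9))) (.node 1 (.leaf (nat_lit 0x2d2e625)) (.leaf (nat_lit 0x7926e2d)))))) (.node 8 (.node 4 (.node 2 (.node 1 (.leaf (nat_lit 0x0)) (.leaf (nat_lit 0x7ec7a64))) (.node 1 (.leaf (nat_lit 0x3ad84)) (.leaf (nat_lit 0x8e589dd)))) (.node 2 (.node 1 (.leaf (nat_lit 0x0)) (.leaf (nat_lit 0xc0100a1))) (.node 1 (.leaf (nat_lit 0x0)) (.leaf (nat_lit 0x0))))) (.node 4 (.node 2 (.node 1 (.leaf (nat_lit 0x0)) (.leaf (nat_lit 0x0))) (.node 1 (.leaf (nat_lit 0x0)) (.leaf (nat_lit 0x0)))) (.node 2 (.node 1 (.leaf (nat_lit 0x0)) (.leaf (nat_lit 0x0))) (.node 1 (.leaf (nat_lit 0x0)) (.leaf (nat_lit 0x0))))))) (.node 16 (.node 8 (.node 4 (.node 2 (.node 1 (.leaf (nat_lit 0x0)) (.leaf (nat_lit 0xad24b71))) (.node 1 (.leaf (nat_lit 0x7c84000)) (.leaf (nat_lit 0x0))))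 (.node 2 (.node 1 (.leaf (nat_lit 0x0)) (.leaf (nat_lit 0x0))) (.node 1 (.leaf (nat_lit 0x3632085)) (.leaf (nat_lit 0x2e624))))) (.node 4 (.node 2 (.node 1 (.leaf (nat_lit 0x1bdee91)) (.leaf (nat_lit 0xa724e71))) (.node 1 (.leaf (nat_lit 0xa737e44)) (.leaf (nat_lit 0x132d0)))) (.node 2 (.node 1 (.leaf (nat_lit 0x0)) (.leaf (nat_lit 0x4550))) (.node 1 (.leaf (nat_lit 0x0)) (.leaf (nat_lit 0xa6673bd)))))) (.node 8 (.node 4 (.node 2 (.node 1 (.leaf (nat_lit 0x763c6d1)) (.leaf (nat_lit 0x0))) (.node 1 (.leaf (nat_lit 0x39a34)) (.leaf (nat_lit 0xf49e395)))) (.node 2 (.node 1 (.leaf (nat_lit 0x0)) (.leaf (nat_lit 0xbc67d7d))) (.node 1 (.leaf (nat_lit 0x0)) (.leaf (nat_lit 0x0))))) (.node 4 (.node 2 (.node 1 (.leaf (nat_lit 0x8d4ba89)) (.leaf (nat_lit 0x2048ff5))) (.node 1 (.leaf (nat_lit 0x4b50)) (.leaf (nat_lit 0x0)))) (.node 2 (.node 1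 (.leaf (nat_lit 0x15dd6c9)) (.leaf (nat_lit 0x1b5271d))) (.node 1 (.leaf (nat_lit 0x477563d)) (.leaf (nat_lit 0x0)))))))) (.node 32 (.node 16 (.node 8 (.node 4 (.node 2 (.node 1 (.leaf (nat_lit 0x1bda5d1)) (.leaf (nat_lit 0x0))) (.node 1 (.leaf (nat_lit 0x0)) (.leaf (nat_lit 0x0)))) (.node 2 (.node 1 (.leaf (nat_lit 0x97734d1)) (.leaf (nat_lit 0x0))) (.node 1 (.leaf (nat_lit 0x9947ca5)) (.leaf (nat_lit 0x0))))) (.node 4 (.node 2 (.node 1 (.leaf (nat_lit 0x0)) (.leaf (nat_lit 0x0))) (.node 1 (.leaf (nat_lit 0x3636be5)) (.leaf (nat_lit 0xd5065d9)))) (.node 2 (.node 1 (.leaf (nat_lit 0xdd5b1ed)) (.leaf (nat_lit 0x0))) (.node 1 (.leaf (nat_lit 0x0)) (.leaf (nat_lit 0x0)))))) (.node 8 (.node 4 (.node 2 (.node 1 (.leaf (nat_lit 0x0)) (.leaf (nat_lit 0x0))) (.node 1 (.leaf (nat_lit 0x0)) (.leaf (nat_lit 0x0)))) (.node 2 (.node 1 (.leaf (nat_lit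 0x0)) (.leaf (nat_lit 0x0))) (.node 1 (.leaf (nat_lit 0x0)) (.leaf (nat_lit 0x0))))) (.node 4 (.node 2 (.node 1 (.leaf (nat_lit 0x0)) (.leaf (nat_lit 0x0))) (.node 1 (.leaf (nat_lit 0x0)) (.leaf (nat_lit 0x2d6654d)))) (.node 2 (.node 1 (.leaf (nat_lit 0xaf9b781)) (.leaf (nat_lit 0x8f492b4))) (.node 1 (.leaf (nat_lit 0x0)) (.leaf (nat_lit 0xc6ae8ad))))))) (.node 16 (.node 8 (.node 4 (.node 2 (.node 1 (.leaf (nat_lit 0xa88c431)) (.leaf (nat_lit 0x0))) (.node 1 (.leaf (nat_lit 0xde10000)) (.leaf (nat_lit 0x8aa8569)))) (.node 2 (.node 1 (.leaf (nat_lit 0xc9d0)) (.leaf (nat_lit 0x5f78004))) (.node 1 (.leaf (nat_lit 0xaa0efa9)) (.leaf (nat_lit 0x746a624))))) (.node 4 (.node 2 (.node 1 (.leaf (nat_lit 0x6e75541)) (.leaf (nat_lit 0x4131040))) (.node 1 (.leaf (nat_lit 0x1b9a2a9)) (.leaf (nat_lit 0x2de6fa1)))) (.node 2 (.node 1 (.leaf (nat_lit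 0x87c9d89)) (.leaf (nat_lit 0x1510000))) (.node 1 (.leaf (nat_lit 0x2a64a94)) (.leaf (nat_lit 0xa5b1861)))))) (.node 8 (.node 4 (.node 2 (.node 1 (.leaf (nat_lit 0xeeb6131)) (.leaf (nat_lit 0x91fbb39))) (.node 1 (.leaf (nat_lit 0x27a09e4)) (.leaf (nat_lit 0xca7fdd5)))) (.node 2 (.node 1 (.leaf (nat_lit 0xad0f6a9)) (.leaf (nat_lit 0x3ad54))) (.node 1 (.leaf (nat_lit 0x6d120c5)) (.leaf (nat_lit 0xea375fd))))) (.node 4 (.node 2 (.node 1 (.leaf (nat_lit 0x6038004)) (.leaf (nat_lit 0x1084c10))) (.node 1 (.leaf (nat_lit 0x36b2539)) (.leaf (nat_lit 0xcb5cd99)))) (.node 2 (.node 1 (.leaf (nat_lit 0x1000000)) (.leaf (nat_lit 0xab586e9))) (.node 1 (.leaf (nat_lit 0xdce2add)) (.leaf (nat_lit 0xab67925))))))))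

noncomputable def vt4 : Tree :=
  .node 64 (.node 32 (.node 16 (.node 8 (.node 4 (.node 2 (.node 1 (.leaf (nat_lit 0x0)) (.leaf (nat_lit 0x0))) (.node 1 (.leaf (nat_lit 0x5514551)) (.leaf (nat_lit 0xf152a75)))) (.node 2 (.node 1 (.leaf (nat_lit 0x0)) (.leaf (nat_lit 0xe70f9c4))) (.node 1 (.leaf (nat_lit 0x0)) (.leaf (nat_lit 0x80100f1))))) (.node 4 (.node 2 (.node 1 (.leaf (nat_lit 0x4576765)) (.leaf (nat_lit 0x88995e1))) (.node 1 (.leaf (nat_lit 0x0)) (.leaf (nat_lit 0x2a6c004)))) (.node 2 (.node 1 (.leaf (nat_lit 0x0)) (.leaf (nat_lit 0x0))) (.node 1 (.leaf (nat_lit 0x636efcd)) (.leaf (nat_lit 0x8ab94f9)))))) (.node 8 (.node 4 (.node 2 (.node 1 (.leaf (nat_lit 0x13210)) (.leaf (nat_lit 0x78fd6c9))) (.node 1 (.leaf (nat_lit 0xf934e61)) (.leaf (nat_lit 0x546ae99)))) (.node 2 (.node 1 (.leaf (nat_lit 0x0)) (.leaf (nat_lit 0x553ef79)))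 (.node 1 (.leaf (nat_lit 0x0)) (.leaf (nat_lit 0x0))))) (.node 4 (.node 2 (.node 1 (.leaf (nat_lit 0x0)) (.leaf (nat_lit 0xa292965))) (.node 1 (.leaf (nat_lit 0xc7bead5)) (.leaf (nat_lit 0xea2cfe1)))) (.node 2 (.node 1 (.leaf (nat_lit 0x2727eb5)) (.leaf (nat_lit 0xdb10000))) (.node 1 (.leaf (nat_lit 0x975eb15)) (.leaf (nat_lit 0x7b46764))))))) (.node 16 (.node 8 (.node 4 (.node 2 (.node 1 (.leaf (nat_lit 0xb2d6d59)) (.leaf (nat_lit 0x155b4))) (.node 1 (.leaf (nat_lit 0x140a4)) (.leaf (nat_lit 0xccdd110)))) (.node 2 (.node 1 (.leaf (nat_lit 0x7590579)) (.leaf (nat_lit 0x13250))) (.node 1 (.leaf (nat_lit 0x637ac64)) (.leaf (nat_lit 0xb903085))))) (.node 4 (.node 2 (.node 1 (.leaf (nat_lit 0x15544)) (.leaf (nat_lit 0x6962fa4))) (.node 1 (.leaf (nat_lit 0x78c4000)) (.leaf (nat_lit 0x8f498b5)))) (.node 2 (.node 1 (.leaf (nat_lit 0x7f2752d))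 (.leaf (nat_lit 0x5a6c004))) (.node 1 (.leaf (nat_lit 0xf622085)) (.leaf (nat_lit 0x47647ad)))))) (.node 8 (.node 4 (.node 2 (.node 1 (.leaf (nat_lit 0x151dfb5)) (.leaf (nat_lit 0x4be5975))) (.node 1 (.leaf (nat_lit 0x938dea1)) (.leaf (nat_lit 0x53c2850)))) (.node 2 (.node 1 (.leaf (nat_lit 0xe86d3e5)) (.leaf (nat_lit 0xf291775))) (.node 1 (.leaf (nat_lit 0x17e14)) (.leaf (nat_lit 0x20c46d5))))) (.node 4 (.node 2 (.node 1 (.leaf (nat_lit 0x6195919)) (.leaf (nat_lit 0x58d2b14))) (.node 1 (.leaf (nat_lit 0x4bd4004)) (.leaf (nat_lit 0x5b29d6d)))) (.node 2 (.node 1 (.leaf (nat_lit 0x30c0db5)) (.leaf (nat_lit 0x36f46d4))) (.node 1 (.leaf (nat_lit 0x6ff4fed)) (.leaf (nat_lit 0xa9f07a9)))))))) (.node 32 (.node 16 (.node 8 (.node 4 (.node 2 (.node 1 (.leaf (nat_lit 0x0)) (.leaf (nat_lit 0x30040))) (.node 1 (.leaf (nat_lit 0x0)) (.leaf (nat_lit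 0x62cb671)))) (.node 2 (.node 1 (.leaf (nat_lit 0x39b34b1)) (.leaf (nat_lit 0x0))) (.node 1 (.leaf (nat_lit 0x5287e41)) (.leaf (nat_lit 0x1e5b1a9))))) (.node 4 (.node 2 (.node 1 (.leaf (nat_lit 0x2d26bb5)) (.leaf (nat_lit 0x1e1b7e5))) (.node 1 (.leaf (nat_lit 0x0)) (.leaf (nat_lit 0x6fe36a4)))) (.node 2 (.node 1 (.leaf (nat_lit 0x3ffd1d9)) (.leaf (nat_lit 0x2d220c5))) (.node 1 (.leaf (nat_lit 0x0)) (.leaf (nat_lit 0xc79d274)))))) (.node 8 (.node 4 (.node 2 (.node 1 (.leaf (nat_lit 0x0)) (.leaf (nat_lit 0x0))) (.node 1 (.leaf (nat_lit 0x0)) (.leaf (nat_lit 0x30c8d85)))) (.node 2 (.node 1 (.leaf (nat_lit 0x4bc6354)) (.leaf (nat_lit 0xc323121))) (.node 1 (.leaf (nat_lit 0x0)) (.leaf (nat_lit 0x6fd14a1))))) (.node 4 (.node 2 (.node 1 (.leaf (nat_lit 0x0)) (.leaf (nat_lit 0xed0e6c4))) (.node 1 (.leaf (nat_lit 0x0)) (.leaf (nat_lit 0x0))))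 (.node 2 (.node 1 (.leaf (nat_lit 0x0)) (.leaf (nat_lit 0x2a659a1))) (.node 1 (.leaf (nat_lit 0x899a5a5)) (.leaf (nat_lit 0x0))))))) (.node 16 (.node 8 (.node 4 (.node 2 (.node 1 (.leaf (nat_lit 0x0)) (.leaf (nat_lit 0x0))) (.node 1 (.leaf (nat_lit 0x0)) (.leaf (nat_lit 0x0)))) (.node 2 (.node 1 (.leaf (nat_lit 0x0)) (.leaf (nat_lit 0x0))) (.node 1 (.leaf (nat_lit 0x0)) (.leaf (nat_lit 0x0))))) (.node 4 (.node 2 (.node 1 (.leaf (nat_lit 0xd4a3ddd)) (.leaf (nat_lit 0xbdec004))) (.node 1 (.leaf (nat_lit 0x0)) (.leaf (nat_lit 0x0)))) (.node 2 (.node 1 (.leaf (nat_lit 0xb2facb4)) (.leaf (nat_lit 0xb554004))) (.node 1 (.leaf (nat_lit 0x2daecd9)) (.leaf (nat_lit 0xa02c069)))))) (.node 8 (.node 4 (.node 2 (.node 1 (.leaf (nat_lit 0xba42bb9)) (.leaf (nat_lit 0xd8617dd))) (.node 1 (.leaf (nat_lit 0xaef7dd0)) (.leaf (nat_lit 0x1bd6311)))) (.node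 2 (.node 1 (.leaf (nat_lit 0x3f70ab4)) (.leaf (nat_lit 0xece2624))) (.node 1 (.leaf (nat_lit 0x84c8c31)) (.leaf (nat_lit 0x6e6a359))))) (.node 4 (.node 2 (.node 1 (.leaf (nat_lit 0x0)) (.leaf (nat_lit 0x9969a81))) (.node 1 (.leaf (nat_lit 0x0)) (.leaf (nat_lit 0x363ad35)))) (.node 2 (.node 1 (.leaf (nat_lit 0x7f1dfc4)) (.leaf (nat_lit 0x7d73af4))) (.node 1 (.leaf (nat_lit 0x0)) (.leaf (nat_lit 0x0))))))))

noncomputable def vt5 : Tree :=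
  .node 64 (.node 32 (.node 16 (.node 8 (.node 4 (.node 2 (.node 1 (.leaf (nat_lit 0x39ff6cd)) (.leaf (nat_lit 0xdd606d9))) (.node 1 (.leaf (nat_lit 0x0)) (.leaf (nat_lit 0x0)))) (.node 2 (.node 1 (.leaf (nat_lit 0x0)) (.leaf (nat_lit 0xd49a789))) (.node 1 (.leaf (nat_lit 0x8d68b69)) (.leaf (nat_lit 0xf90a7fd))))) (.node 4 (.node 2 (.node 1 (.leaf (nat_lit 0x1555111)) (.leaf (nat_lit 0x91d7b4d))) (.node 1 (.leaf (nat_lit 0x69749ed)) (.leaf (nat_lit 0x1b56c6d)))) (.node 2 (.node 1 (.leaf (nat_lit 0xfe63871)) (.leaf (nat_lit 0x0))) (.node 1 (.leaf (nat_lit 0x0)) (.leaf (nat_lit 0xe00c021)))))) (.node 8 (.node 4 (.node 2 (.node 1 (.leaf (nat_lit 0x81233f1)) (.leaf (nat_lit 0x1b5aa8d))) (.node 1 (.leaf (nat_lit 0x0)) (.leaf (nat_lit 0xe982bed)))) (.node 2 (.node 1 (.leaf (nat_lit 0x0)) (.leaf (nat_lit 0x0))) (.node 1 (.leaf (nat_lit 0x0))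 (.leaf (nat_lit 0x2daa789))))) (.node 4 (.node 2 (.node 1 (.leaf (nat_lit 0x2a61ce1)) (.leaf (nat_lit 0x7abed35))) (.node 1 (.leaf (nat_lit 0x0)) (.leaf (nat_lit 0x4111040)))) (.node 2 (.node 1 (.leaf (nat_lit 0x0)) (.leaf (nat_lit 0x0))) (.node 1 (.leaf (nat_lit 0x0)) (.leaf (nat_lit 0x4fb4ff9))))))) (.node 16 (.node 8 (.node 4 (.node 2 (.node 1 (.leaf (nat_lit 0x4fa7d29)) (.leaf (nat_lit 0x1edf3fd))) (.node 1 (.leaf (nat_lit 0x0)) (.leaf (nat_lit 0x3fb163d)))) (.node 2 (.node 1 (.leaf (nat_lit 0x644c411)) (.leaf (nat_lit 0xbc71a34))) (.node 1 (.leaf (nat_lit 0x6d1ad84)) (.leaf (nat_lit 0x7d7f735))))) (.node 4 (.node 2 (.node 1 (.leaf (nat_lit 0x3fb536d)) (.leaf (nat_lit 0x0))) (.node 1 (.leaf (nat_lit 0x0)) (.leaf (nat_lit 0x0)))) (.node 2 (.node 1 (.leaf (nat_lit 0x0)) (.leaf (nat_lit 0x0))) (.node 1 (.leaf (nat_lit 0x0)) (.leaf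 (nat_lit 0x0)))))) (.node 8 (.node 4 (.node 2 (.node 1 (.leaf (nat_lit 0x0)) (.leaf (nat_lit 0x0))) (.node 1 (.leaf (nat_lit 0x0)) (.leaf (nat_lit 0x1b1e6b5)))) (.node 2 (.node 1 (.leaf (nat_lit 0x8f5b164)) (.leaf (nat_lit 0x123d0))) (.node 1 (.leaf (nat_lit 0xca7f294)) (.leaf (nat_lit 0x0))))) (.node 4 (.node 2 (.node 1 (.leaf (nat_lit 0x0)) (.leaf (nat_lit 0x0))) (.node 1 (.leaf (nat_lit 0x0)) (.leaf (nat_lit 0x96868a5)))) (.node 2 (.node 1 (.leaf (nat_lit 0x39b07b4)) (.leaf (nat_lit 0x0))) (.node 1 (.leaf (nat_lit 0x0)) (.leaf (nat_lit 0x0)))))))) (.node 32 (.node 16 (.node 8 (.node 4 (.node 2 (.node 1 (.leaf (nat_lit 0x3b784)) (.leaf (nat_lit 0x5b02045))) (.node 1 (.leaf (nat_lit 0x671b784)) (.leaf (nat_lit 0x2aa5e4d)))) (.node 2 (.node 1 (.leaf (nat_lit 0x36fea71)) (.leaf (nat_lit 0x9e10000))) (.node 1 (.leaf (nat_lit 0x7ed0e79))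 (.leaf (nat_lit 0x2f954))))) (.node 4 (.node 2 (.node 1 (.leaf (nat_lit 0x59b8004)) (.leaf (nat_lit 0x6a0ff6d))) (.node 1 (.leaf (nat_lit 0x20000c5)) (.leaf (nat_lit 0x367293d)))) (.node 2 (.node 1 (.leaf (nat_lit 0xc2313a1)) (.leaf (nat_lit 0xb1af7ed))) (.node 1 (.leaf (nat_lit 0xfac98d5)) (.leaf (nat_lit 0xd521045)))))) (.node 8 (.node 4 (.node 2 (.node 1 (.leaf (nat_lit 0x68c4000)) (.leaf (nat_lit 0x791f9c4))) (.node 1 (.leaf (nat_lit 0xac67549)) (.leaf (nat_lit 0x39f3f3d)))) (.node 2 (.node 1 (.leaf (nat_lit 0xe72c9e1)) (.leaf (nat_lit 0x7585d64))) (.node 1 (.leaf (nat_lit 0x27a76a1)) (.leaf (nat_lit 0x6014079))))) (.node 4 (.node 2 (.node 1 (.leaf (nat_lit 0xdcf7734)) (.leaf (nat_lit 0x61b9864))) (.node 1 (.leaf (nat_lit 0xf626b44)) (.leaf (nat_lit 0x1e13045)))) (.node 2 (.node 1 (.leaf (nat_lit 0x5444000)) (.leaf (nat_lit 0x45762a4)))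 (.node 1 (.leaf (nat_lit 0x4233040)) (.leaf (nat_lit 0xef6d8b9))))))) (.node 16 (.node 8 (.node 4 (.node 2 (.node 1 (.leaf (nat_lit 0x5cbe5dd)) (.leaf (nat_lit 0x27ac004))) (.node 1 (.leaf (nat_lit 0x10000)) (.leaf (nat_lit 0xb038004)))) (.node 2 (.node 1 (.leaf (nat_lit 0x36be3d9)) (.leaf (nat_lit 0x6735e39))) (.node 1 (.leaf (nat_lit 0x36b6e49)) (.leaf (nat_lit 0x7257a1d))))) (.node 4 (.node 2 (.node 1 (.leaf (nat_lit 0x9000000)) (.leaf (nat_lit 0xcefe539))) (.node 1 (.leaf (nat_lit 0xaa35544)) (.leaf (nat_lit 0x20889f5)))) (.node 2 (.node 1 (.leaf (nat_lit 0xa89d514)) (.leaf (nat_lit 0x0))) (.node 1 (.leaf (nat_lit 0x0)) (.leaf (nat_lit 0x6372fa5)))))) (.node 8 (.node 4 (.node 2 (.node 1 (.leaf (nat_lit 0x4eb5d65)) (.leaf (nat_lit 0x15514))) (.node 1 (.leaf (nat_lit 0xf146ad1)) (.leaf (nat_lit 0x9ff0a9d)))) (.node 2 (.node 1 (.leaf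 (nat_lit 0x4554545)) (.leaf (nat_lit 0x8888431))) (.node 1 (.leaf (nat_lit 0xd9fce59)) (.leaf (nat_lit 0x8d7a8f9))))) (.node 4 (.node 2 (.node 1 (.leaf (nat_lit 0x9adfe15)) (.leaf (nat_lit 0x0))) (.node 1 (.leaf (nat_lit 0xd53ff3d)) (.leaf (nat_lit 0x0)))) (.node 2 (.node 1 (.leaf (nat_lit 0x0)) (.leaf (nat_lit 0x0))) (.node 1 (.leaf (nat_lit 0xde05ed9)) (.leaf (nat_lit 0xb4fa1b5))))))))

noncomputable def vt6 : Tree :=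
  .node 64 (.node 32 (.node 16 (.node 8 (.node 4 (.node 2 (.node 1 (.leaf (nat_lit 0x78c8811)) (.leaf (nat_lit 0x4e94e45))) (.node 1 (.leaf (nat_lit 0xb8b3734)) (.leaf (nat_lit 0x4ea6f75)))) (.node 2 (.node 1 (.leaf (nat_lit 0x6356f19)) (.leaf (nat_lit 0xb2f2d35))) (.node 1 (.leaf (nat_lit 0xef5a311)) (.leaf (nat_lit 0x0))))) (.node 4 (.node 2 (.node 1 (.leaf (nat_lit 0x0)) (.leaf (nat_lit 0x634af71))) (.node 1 (.leaf (nat_lit 0xff25544)) (.leaf (nat_lit 0x0)))) (.node 2 (.node 1 (.leaf (nat_lit 0x0)) (.leaf (nat_lit 0x0))) (.node 1 (.leaf (nat_lit 0x0)) (.leaf (nat_lit 0x20080d5)))))) (.node 8 (.node 4 (.node 2 (.node 1 (.leaf (nat_lit 0x20849d5)) (.leaf (nat_lit 0xb4dfaf9))) (.node 1 (.leaf (nat_lit 0x45673f4)) (.leaf (nat_lit 0x3048a85)))) (.node 2 (.node 1 (.leaf (nat_lit 0x7cbe9c9)) (.leaf (nat_lit 0x5004011))) (.node 1 (.leaf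 (nat_lit 0x9d91ed4)) (.leaf (nat_lit 0xf923085))))) (.node 4 (.node 2 (.node 1 (.leaf (nat_lit 0x5010045)) (.leaf (nat_lit 0x10ccb65))) (.node 1 (.leaf (nat_lit 0x9b1c6f1)) (.leaf (nat_lit 0x9c71699)))) (.node 2 (.node 1 (.leaf (nat_lit 0x7f3cfd1)) (.leaf (nat_lit 0xaf8dc95))) (.node 1 (.leaf (nat_lit 0x7efd15d)) (.leaf (nat_lit 0x87daf19))))))) (.node 16 (.node 8 (.node 4 (.node 2 (.node 1 (.leaf (nat_lit 0x50)) (.leaf (nat_lit 0x367efcd))) (.node 1 (.leaf (nat_lit 0xe3af8e4)) (.leaf (nat_lit 0xf02c0d9)))) (.node 2 (.node 1 (.leaf (nat_lit 0xe39795d)) (.leaf (nat_lit 0x3b754))) (.node 1 (.leaf (nat_lit 0xbbef750)) (.leaf (nat_lit 0xd7cf5f4))))) (.node 4 (.node 2 (.node 1 (.leaf (nat_lit 0xa2ba93d)) (.leaf (nat_lit 0x7913085))) (.node 1 (.leaf (nat_lit 0x1519ae5)) (.leaf (nat_lit 0xf61f619)))) (.node 2 (.node 1 (.leaf (nat_lit 0xba6c004))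 (.leaf (nat_lit 0xad320c5))) (.node 1 (.leaf (nat_lit 0x108cc10)) (.leaf (nat_lit 0x7909779)))))) (.node 8 (.node 4 (.node 2 (.node 1 (.leaf (nat_lit 0xa157ca4)) (.leaf (nat_lit 0xde3e93d))) (.node 1 (.leaf (nat_lit 0x9745199)) (.leaf (nat_lit 0x8e7b87d)))) (.node 2 (.node 1 (.leaf (nat_lit 0xa8b3bad)) (.leaf (nat_lit 0x84e9f51))) (.node 1 (.leaf (nat_lit 0x65d056d)) (.leaf (nat_lit 0x953dfc4))))) (.node 4 (.node 2 (.node 1 (.leaf (nat_lit 0x41211d1)) (.leaf (nat_lit 0x93a1ed5))) (.node 1 (.leaf (nat_lit 0xd518aa1)) (.leaf (nat_lit 0xb7bb8ed)))) (.node 2 (.node 1 (.leaf (nat_lit 0x7eea5d0)) (.leaf (nat_lit 0x3ade4))) (.node 1 (.leaf (nat_lit 0x1e9c7a4)) (.leaf (nat_lit 0x3f39a35)))))))) (.node 32 (.node 16 (.node 8 (.node 4 (.node 2 (.node 1 (.leaf (nat_lit 0xc5ad869)) (.leaf (nat_lit 0x56f8004))) (.node 1 (.leaf (nat_lit 0xbbd4004))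 (.leaf (nat_lit 0xe558a85)))) (.node 2 (.node 1 (.leaf (nat_lit 0x56fc6c5)) (.leaf (nat_lit 0xc010))) (.node 1 (.leaf (nat_lit 0x3088785)) (.leaf (nat_lit 0x3ff1e39))))) (.node 4 (.node 2 (.node 1 (.leaf (nat_lit 0xe1ee4e4)) (.leaf (nat_lit 0x2040fe5))) (.node 1 (.leaf (nat_lit 0xf75dfc1)) (.leaf (nat_lit 0x3634b40)))) (.node 2 (.node 1 (.leaf (nat_lit 0xd85ba89)) (.leaf (nat_lit 0x1bd4004))) (.node 1 (.leaf (nat_lit 0x6fce269)) (.leaf (nat_lit 0x0)))))) (.node 8 (.node 4 (.node 2 (.node 1 (.leaf (nat_lit 0xb627ba9)) (.leaf (nat_lit 0x0))) (.node 1 (.leaf (nat_lit 0xecd99ad)) (.leaf (nat_lit 0xea010c5)))) (.node 2 (.node 1 (.leaf (nat_lit 0x57bd231)) (.leaf (nat_lit 0x0))) (.node 1 (.leaf (nat_lit 0x0)) (.leaf (nat_lit 0x898b4b5))))) (.node 4 (.node 2 (.node 1 (.leaf (nat_lit 0x6d0d66d)) (.leaf (nat_lit 0x0))) (.node 1 (.leaf (nat_lit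 0xe9af4b9)) (.leaf (nat_lit 0x925654d)))) (.node 2 (.node 1 (.leaf (nat_lit 0xad36b44)) (.leaf (nat_lit 0x602c0ad))) (.node 1 (.leaf (nat_lit 0xe1d665d)) (.leaf (nat_lit 0x2d2ad55))))))) (.node 16 (.node 8 (.node 4 (.node 2 (.node 1 (.leaf (nat_lit 0x4545154)) (.leaf (nat_lit 0x300c095))) (.node 1 (.leaf (nat_lit 0x4203040)) (.leaf (nat_lit 0x58c0811)))) (.node 2 (.node 1 (.leaf (nat_lit 0x0)) (.leaf (nat_lit 0x5f558bd))) (.node 1 (.leaf (nat_lit 0x0)) (.leaf (nat_lit 0x0))))) (.node 4 (.node 2 (.node 1 (.leaf (nat_lit 0x92625d5)) (.leaf (nat_lit 0x30080b5))) (.node 1 (.leaf (nat_lit 0x0)) (.leaf (nat_lit 0x6008011)))) (.node 2 (.node 1 (.leaf (nat_lit 0x66a19a4)) (.leaf (nat_lit 0xf634b61))) (.node 1 (.leaf (nat_lit 0x1ed746d)) (.leaf (nat_lit 0x3fb9c9d)))))) (.node 8 (.node 4 (.node 2 (.node 1 (.leaf (nat_lit 0x0)) (.leaf (nat_lit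 0xdf92e94))) (.node 1 (.leaf (nat_lit 0x3ff94a9)) (.leaf (nat_lit 0x0)))) (.node 2 (.node 1 (.leaf (nat_lit 0x0)) (.leaf (nat_lit 0x0))) (.node 1 (.leaf (nat_lit 0xa9cf895)) (.leaf (nat_lit 0x5f6b121))))) (.node 4 (.node 2 (.node 1 (.leaf (nat_lit 0xf5f3d74)) (.leaf (nat_lit 0x0))) (.node 1 (.leaf (nat_lit 0xc3331a1)) (.leaf (nat_lit 0x7a914f1)))) (.node 2 (.node 1 (.leaf (nat_lit 0x30ccda5)) (.leaf (nat_lit 0xc3031e1))) (.node 1 (.leaf (nat_lit 0x0)) (.leaf (nat_lit 0x0))))))))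

noncomputable def vt7 : Tree :=
  .node 64 (.node 32 (.node 16 (.node 8 (.node 4 (.node 2 (.node 1 (.leaf (nat_lit 0x0)) (.leaf (nat_lit 0x0))) (.node 1 (.leaf (nat_lit 0x0)) (.leaf (nat_lit 0x0)))) (.node 2 (.node 1 (.leaf (nat_lit 0x0)) (.leaf (nat_lit 0x0))) (.node 1 (.leaf (nat_lit 0x5dec004)) (.leaf (nat_lit 0xf3c7dd1))))) (.node 4 (.node 2 (.node 1 (.leaf (nat_lit 0x0)) (.leaf (nat_lit 0x0))) (.node 1 (.leaf (nat_lit 0x0)) (.leaf (nat_lit 0x0)))) (.node 2 (.node 1 (.leaf (nat_lit 0x0)) (.leaf (nat_lit 0x0))) (.node 1 (.leaf (nat_lit 0x3f74fd4)) (.leaf (nat_lit 0x4554004)))))) (.node 8 (.node 4 (.node 2 (.node 1 (.leaf (nat_lit 0x696a625)) (.leaf (nat_lit 0xdcd9d89))) (.node 1 (.leaf (nat_lit 0x4223040)) (.leaf (nat_lit 0x2c0e4)))) (.node 2 (.node 1 (.leaf (nat_lit 0xe554004)) (.leaf (nat_lit 0xe6c15ed))) (.node 1 (.leaf (nat_lit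 0x1edbd8d)) (.leaf (nat_lit 0xed020c5))))) (.node 4 (.node 2 (.node 1 (.leaf (nat_lit 0x2da6179)) (.leaf (nat_lit 0xb60ad84))) (.node 1 (.leaf (nat_lit 0xd357549)) (.leaf (nat_lit 0xaee1664)))) (.node 2 (.node 1 (.leaf (nat_lit 0x57978e9)) (.leaf (nat_lit 0x5a4375d))) (.node 1 (.leaf (nat_lit 0x0)) (.leaf (nat_lit 0xfae0ffd))))))) (.node 16 (.node 8 (.node 4 (.node 2 (.node 1 (.leaf (nat_lit 0xf5e5690)) (.leaf (nat_lit 0x1088c10))) (.node 1 (.leaf (nat_lit 0x0)) (.leaf (nat_lit 0x0)))) (.node 2 (.node 1 (.leaf (nat_lit 0xecee2e5)) (.leaf (nat_lit 0x926e494))) (.node 1 (.leaf (nat_lit 0x73ba789)) (.leaf (nat_lit 0x2dfc4))))) (.node 4 (.node 2 (.node 1 (.leaf (nat_lit 0xd36f52d)) (.leaf (nat_lit 0x155db91))) (.node 1 (.leaf (nat_lit 0x0)) (.leaf (nat_lit 0x5a7e131)))) (.node 2 (.node 1 (.leaf (nat_lit 0x0)) (.leaf (nat_lit 0x5b06b44)))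 (.node 1 (.leaf (nat_lit 0x4c84c11)) (.leaf (nat_lit 0x86f8d85)))))) (.node 8 (.node 4 (.node 2 (.node 1 (.leaf (nat_lit 0x927a539)) (.leaf (nat_lit 0x9b32045))) (.node 1 (.leaf (nat_lit 0x397bca9)) (.leaf (nat_lit 0x2d6e8fd)))) (.node 2 (.node 1 (.leaf (nat_lit 0xfe76d35)) (.leaf (nat_lit 0x3973b39))) (.node 1 (.leaf (nat_lit 0xd67cb59)) (.leaf (nat_lit 0xfd8acd5))))) (.node 4 (.node 2 (.node 1 (.leaf (nat_lit 0x1b5e1fd)) (.leaf (nat_lit 0x0))) (.node 1 (.leaf (nat_lit 0x0)) (.leaf (nat_lit 0x0)))) (.node 2 (.node 1 (.leaf (nat_lit 0xfb9cdbd)) (.leaf (nat_lit 0xf861bf9))) (.node 1 (.leaf (nat_lit 0x0)) (.leaf (nat_lit 0xab76ad0)))))))) (.node 32 (.node 16 (.node 8 (.node 4 (.node 2 (.node 1 (.leaf (nat_lit 0x0)) (.leaf (nat_lit 0x0))) (.node 1 (.leaf (nat_lit 0x0)) (.leaf (nat_lit 0x3f718b1)))) (.node 2 (.node 1 (.leaf (nat_lit 0x64773f5))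 (.leaf (nat_lit 0x694d369))) (.node 1 (.leaf (nat_lit 0x0)) (.leaf (nat_lit 0x9b2bd29))))) (.node 4 (.node 2 (.node 1 (.leaf (nat_lit 0x8c79a81)) (.leaf (nat_lit 0xda9a2ed))) (.node 1 (.leaf (nat_lit 0x0)) (.leaf (nat_lit 0x0)))) (.node 2 (.node 1 (.leaf (nat_lit 0x0)) (.leaf (nat_lit 0xc78f1e4))) (.node 1 (.leaf (nat_lit 0xe0200c5)) (.leaf (nat_lit 0xfba2471)))))) (.node 8 (.node 4 (.node 2 (.node 1 (.leaf (nat_lit 0x0)) (.leaf (nat_lit 0x36f67f1))) (.node 1 (.leaf (nat_lit 0x6953ca1)) (.leaf (nat_lit 0xdd468f5)))) (.node 2 (.node 1 (.leaf (nat_lit 0xc79dbf5)) (.leaf (nat_lit 0x0))) (.node 1 (.leaf (nat_lit 0x0)) (.leaf (nat_lit 0x4656499))))) (.node 4 (.node 2 (.node 1 (.leaf (nat_lit 0x7aa4ab9)) (.leaf (nat_lit 0xfaf71e9))) (.node 1 (.leaf (nat_lit 0x68ebd8d)) (.leaf (nat_lit 0x59bc9c5)))) (.node 2 (.node 1 (.leaf (nat_lit 0x3f7c564))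 (.leaf (nat_lit 0x0))) (.node 1 (.leaf (nat_lit 0x0)) (.leaf (nat_lit 0x0))))))) (.node 16 (.node 8 (.node 4 (.node 2 (.node 1 (.leaf (nat_lit 0x0)) (.leaf (nat_lit 0x0))) (.node 1 (.leaf (nat_lit 0x0)) (.leaf (nat_lit 0x0)))) (.node 2 (.node 1 (.leaf (nat_lit 0x208c9c5)) (.leaf (nat_lit 0x8f78004))) (.node 1 (.leaf (nat_lit 0x9b3e6c4)) (.leaf (nat_lit 0x96ab781))))) (.node 4 (.node 2 (.node 1 (.leaf (nat_lit 0x39bce64)) (.leaf (nat_lit 0xd2c18d0))) (.node 1 (.leaf (nat_lit 0x0)) (.leaf (nat_lit 0x0)))) (.node 2 (.node 1 (.leaf (nat_lit 0x0)) (.leaf (nat_lit 0x0))) (.node 1 (.leaf (nat_lit 0xb90b784)) (.leaf (nat_lit 0xd196e49)))))) (.node 8 (.node 4 (.node 2 (.node 1 (.leaf (nat_lit 0x7625b2d)) (.leaf (nat_lit 0x43223d1))) (.node 1 (.leaf (nat_lit 0x77d3cf1)) (.leaf (nat_lit 0x2ae9d89)))) (.node 2 (.node 1 (.leaf (nat_lit 0x0)) (.leaf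 (nat_lit 0x0))) (.node 1 (.leaf (nat_lit 0x0)) (.leaf (nat_lit 0xcffc57d))))) (.node 4 (.node 2 (.node 1 (.leaf (nat_lit 0x7b4ac65)) (.leaf (nat_lit 0xb355a59))) (.node 1 (.leaf (nat_lit 0xdfbc559)) (.leaf (nat_lit 0x9e06e9d)))) (.node 2 (.node 1 (.leaf (nat_lit 0xa03809d)) (.leaf (nat_lit 0xfcd9514))) (.node 1 (.leaf (nat_lit 0x66928a1)) (.leaf (nat_lit 0xdb22045))))))))

noncomputable def vt8 : Tree :=
  .node 64 (.node 32 (.node 16 (.node 8 (.node 4 (.node 2 (.node 1 (.leaf (nat_lit 0xd7c7cf5)) (.leaf (nat_lit 0x155caa4))) (.node 1 (.leaf (nat_lit 0x9b10000)) (.leaf (nat_lit 0x52bbebd)))) (.node 2 (.node 1 (.leaf (nat_lit 0x80300b1)) (.leaf (nat_lit 0xafa61bd))) (.node 1 (.leaf (nat_lit 0x738e761)) (.leaf (nat_lit 0x3937ee5))))) (.node 4 (.node 2 (.node 1 (.leaf (nat_lit 0xcb7de39)) (.leaf (nat_lit 0xca4dce5))) (.node 1 (.leaf (nat_lit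 0xf5ca1f9)) (.leaf (nat_lit 0x3f79231)))) (.node 2 (.node 1 (.leaf (nat_lit 0x4322040)) (.leaf (nat_lit 0xc211361))) (.node 1 (.leaf (nat_lit 0xab72c61)) (.leaf (nat_lit 0x94e9365)))))) (.node 8 (.node 4 (.node 2 (.node 1 (.leaf (nat_lit 0xf5dcabd)) (.leaf (nat_lit 0x646aa8d))) (.node 1 (.leaf (nat_lit 0x108ce65)) (.leaf (nat_lit 0xd7e09d9)))) (.node 2 (.node 1 (.leaf (nat_lit 0x3f355e5)) (.leaf (nat_lit 0x4bf71a4))) (.node 1 (.leaf (nat_lit 0x71e1df5)) (.leaf (nat_lit 0xd37b4d4))))) (.node 4 (.node 2 (.node 1 (.leaf (nat_lit 0xc1322a1)) (.leaf (nat_lit 0xd4bd275))) (.node 1 (.leaf (nat_lit 0xa5a2964)) (.leaf (nat_lit 0x65c5974)))) (.node 2 (.node 1 (.leaf (nat_lit 0x2a6d321)) (.leaf (nat_lit 0x7a8b37d))) (.node 1 (.leaf (nat_lit 0xceef469)) (.leaf (nat_lit 0xc7ac004))))))) (.node 16 (.node 8 (.node 4 (.node 2 (.node 1 (.leaf (nat_lit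 0x58d6355)) (.leaf (nat_lit 0x4d96cdd))) (.node 1 (.leaf (nat_lit 0xe999111)) (.leaf (nat_lit 0x4000)))) (.node 2 (.node 1 (.leaf (nat_lit 0xd030045)) (.leaf (nat_lit 0x2d24b40))) (.node 1 (.leaf (nat_lit 0x58eb599)) (.leaf (nat_lit 0x4444000))))) (.node 4 (.node 2 (.node 1 (.leaf (nat_lit 0x52afee9)) (.leaf (nat_lit 0xf74fdd4))) (.node 1 (.leaf (nat_lit 0x8010000)) (.leaf (nat_lit 0xb56ed50)))) (.node 2 (.node 1 (.leaf (nat_lit 0xa3d1665)) (.leaf (nat_lit 0x7ca53a5))) (.node 1 (.leaf (nat_lit 0x36ba8a9)) (.leaf (nat_lit 0x4ad58dd)))))) (.node 8 (.node 4 (.node 2 (.node 1 (.leaf (nat_lit 0x668f169)) (.leaf (nat_lit 0x0))) (.node 1 (.leaf (nat_lit 0x4e40)) (.leaf (nat_lit 0xcdec004)))) (.node 2 (.node 1 (.leaf (nat_lit 0xde23045)) (.leaf (nat_lit 0xac5a3d5))) (.node 1 (.leaf (nat_lit 0x9e3f9c4)) (.leaf (nat_lit 0x39f716d))))) (.node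 4 (.node 2 (.node 1 (.leaf (nat_lit 0x2f924)) (.leaf (nat_lit 0xf609dfd))) (.node 1 (.leaf (nat_lit 0xb1bb4b4)) (.leaf (nat_lit 0x65fee90)))) (.node 2 (.node 1 (.leaf (nat_lit 0x0)) (.leaf (nat_lit 0x7f0aa79))) (.node 1 (.leaf (nat_lit 0x2f9b4)) (.leaf (nat_lit 0xcfde71d)))))))) (.node 32 (.node 16 (.node 8 (.node 4 (.node 2 (.node 1 (.leaf (nat_lit 0xdb2ad84)) (.leaf (nat_lit 0x9768e5d))) (.node 1 (.leaf (nat_lit 0x3933085)) (.leaf (nat_lit 0x4545455)))) (.node 2 (.node 1 (.leaf (nat_lit 0x1e17e15)) (.leaf (nat_lit 0x5a55ce9))) (.node 1 (.leaf (nat_lit 0x9fc54a5)) (.leaf (nat_lit 0x93adc94))))) (.node 4 (.node 2 (.node 1 (.leaf (nat_lit 0x94f2999)) (.leaf (nat_lit 0x0))) (.node 1 (.leaf (nat_lit 0x0)) (.leaf (nat_lit 0x9fead81)))) (.node 2 (.node 1 (.leaf (nat_lit 0x1514540)) (.leaf (nat_lit 0x0))) (.node 1 (.leaf (nat_lit 0x0)) (.leaf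 (nat_lit 0x0)))))) (.node 8 (.node 4 (.node 2 (.node 1 (.leaf (nat_lit 0x0)) (.leaf (nat_lit 0x97525d4))) (.node 1 (.leaf (nat_lit 0x71cdd61)) (.leaf (nat_lit 0x2ae5279)))) (.node 2 (.node 1 (.leaf (nat_lit 0x78d2f7d)) (.leaf (nat_lit 0xf85f295))) (.node 1 (.leaf (nat_lit 0xf7762e9)) (.leaf (nat_lit 0x0))))) (.node 4 (.node 2 (.node 1 (.leaf (nat_lit 0x60300c5)) (.leaf (nat_lit 0x1040410))) (.node 1 (.leaf (nat_lit 0x0)) (.leaf (nat_lit 0x0)))) (.node 2 (.node 1 (.leaf (nat_lit 0x0)) (.leaf (nat_lit 0xc85f210))) (.node 1 (.leaf (nat_lit 0x9c67924)) (.leaf (nat_lit 0x0))))))) (.node 16 (.node 8 (.node 4 (.node 2 (.node 1 (.leaf (nat_lit 0x0)) (.leaf (nat_lit 0x0))) (.node 1 (.leaf (nat_lit 0x0)) (.leaf (nat_lit 0x20040)))) (.node 2 (.node 1 (.leaf (nat_lit 0x68d2769)) (.leaf (nat_lit 0xaef3461))) (.node 1 (.leaf (nat_lit 0x56e9321))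 (.leaf (nat_lit 0xa147f91))))) (.node 4 (.node 2 (.node 1 (.leaf (nat_lit 0x516d5e9)) (.leaf (nat_lit 0xfda06fd))) (.node 1 (.leaf (nat_lit 0x5a68a85)) (.leaf (nat_lit 0x8790)))) (.node 2 (.node 1 (.leaf (nat_lit 0xf87654d)) (.leaf (nat_lit 0x1004000))) (.node 1 (.leaf (nat_lit 0xb1b3735)) (.leaf (nat_lit 0x2dee221)))))) (.node 8 (.node 4 (.node 2 (.node 1 (.leaf (nat_lit 0x40)) (.leaf (nat_lit 0x7c88c11))) (.node 1 (.leaf (nat_lit 0xab63f64)) (.leaf (nat_lit 0x701406d)))) (.node 2 (.node 1 (.leaf (nat_lit 0x902c004)) (.leaf (nat_lit 0x27eb29d))) (.node 1 (.leaf (nat_lit 0x1b92f19)) (.leaf (nat_lit 0x2dea961))))) (.node 4 (.node 2 (.node 1 (.leaf (nat_lit 0xc48c821)) (.leaf (nat_lit 0xb197759))) (.node 1 (.leaf (nat_lit 0x1b96479)) (.leaf (nat_lit 0xf1568f4)))) (.node 2 (.node 1 (.leaf (nat_lit 0x2ae1729)) (.leaf (nat_lit 0xb371a35)))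 (.node 1 (.leaf (nat_lit 0x9e1c9f1)) (.leaf (nat_lit 0x4ae4aad))))))))

noncomputable def vt9 : Tree :=
  .node 64 (.node 32 (.node 16 (.node 8 (.node 4 (.node 2 (.node 1 (.leaf (nat_lit 0x4be52f4)) (.leaf (nat_lit 0x4121040))) (.node 1 (.leaf (nat_lit 0x2724e40)) (.leaf (nat_lit 0x308c7a5)))) (.node 2 (.node 1 (.leaf (nat_lit 0x44777e1)) (.leaf (nat_lit 0x4131191))) (.node 1 (.leaf (nat_lit 0x3f7d771)) (.leaf (nat_lit 0x3b7e4))))) (.node 4 (.node 2 (.node 1 (.leaf (nat_lit 0x8f5bba5)) (.leaf (nat_lit 0x5782d5d))) (.node 1 (.leaf (nat_lit 0x4213040)) (.leaf (nat_lit 0x98a6624)))) (.node 2 (.node 1 (.leaf (nat_lit 0x1e57879)) (.leaf (nat_lit 0x4444411))) (.node 1 (.leaf (nat_lit 0xc59ca99)) (.leaf (nat_lit 0xa4dfe14)))))) (.node 8 (.node 4 (.node 2 (.node 1 (.leaf (nat_lit 0xb566221)) (.leaf (nat_lit 0x1550554))) (.node 1 (.leaf (nat_lit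 0x84dbee1)) (.leaf (nat_lit 0xf3fbd8d)))) (.node 2 (.node 1 (.leaf (nat_lit 0x1e53619)) (.leaf (nat_lit 0x1080c10))) (.node 1 (.leaf (nat_lit 0xd87e175)) (.leaf (nat_lit 0xa8991d5))))) (.node 4 (.node 2 (.node 1 (.leaf (nat_lit 0xebf9f50)) (.leaf (nat_lit 0x10c0b55))) (.node 1 (.leaf (nat_lit 0x4d85e4d)) (.leaf (nat_lit 0x104c565)))) (.node 2 (.node 1 (.leaf (nat_lit 0xe1fa6b9)) (.leaf (nat_lit 0x9510000))) (.node 1 (.leaf (nat_lit 0x44666b1)) (.leaf (nat_lit 0x3f34540))))))) (.node 16 (.node 8 (.node 4 (.node 2 (.node 1 (.leaf (nat_lit 0xb79e311)) (.leaf (nat_lit 0x39b7af1))) (.node 1 (.leaf (nat_lit 0x94c4c31)) (.leaf (nat_lit 0xba79ced)))) (.node 2 (.node 1 (.leaf (nat_lit 0x75be35d)) (.leaf (nat_lit 0x83212f1))) (.node 1 (.leaf (nat_lit 0x6ca978d)) (.leaf (nat_lit 0xb2eeded))))) (.node 4 (.node 2 (.node 1 (.leaf (nat_lit 0x2e654))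 (.leaf (nat_lit 0x86ca1b4))) (.node 1 (.leaf (nat_lit 0x7612085)) (.leaf (nat_lit 0xe3bb9b9)))) (.node 2 (.node 1 (.leaf (nat_lit 0x1511045)) (.leaf (nat_lit 0xb89ddf9))) (.node 1 (.leaf (nat_lit 0xbe94004)) (.leaf (nat_lit 0xa153f65)))))) (.node 8 (.node 4 (.node 2 (.node 1 (.leaf (nat_lit 0x4ca5fb1)) (.leaf (nat_lit 0x9381c90))) (.node 1 (.leaf (nat_lit 0x9af18d1)) (.leaf (nat_lit 0xcccc421)))) (.node 2 (.node 1 (.leaf (nat_lit 0xe577331)) (.leaf (nat_lit 0xda854f5))) (.node 1 (.leaf (nat_lit 0x27a4794)) (.leaf (nat_lit 0xf5f7735))))) (.node 4 (.node 2 (.node 1 (.leaf (nat_lit 0xa4f25ad)) (.leaf (nat_lit 0xebd4004))) (.node 1 (.leaf (nat_lit 0x3ff5b49)) (.leaf (nat_lit 0x4c97210)))) (.node 2 (.node 1 (.leaf (nat_lit 0x85f9c7d)) (.leaf (nat_lit 0x4101151))) (.node 1 (.leaf (nat_lit 0x0)) (.leaf (nat_lit 0x0)))))))) (.node 32 (.node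 16 (.node 8 (.node 4 (.node 2 (.node 1 (.leaf (nat_lit 0xa58f1ad)) (.leaf (nat_lit 0xc86dfc1))) (.node 1 (.leaf (nat_lit 0x924e5a1)) (.leaf (nat_lit 0x65f6b41)))) (.node 2 (.node 1 (.leaf (nat_lit 0x16b44)) (.leaf (nat_lit 0x30040a5))) (.node 1 (.leaf (nat_lit 0x0)) (.leaf (nat_lit 0xaa310c5))))) (.node 4 (.node 2 (.node 1 (.leaf (nat_lit 0x2a69661)) (.leaf (nat_lit 0x0))) (.node 1 (.leaf (nat_lit 0x0)) (.leaf (nat_lit 0x6a110c5)))) (.node 2 (.node 1 (.leaf (nat_lit 0x89b8004)) (.leaf (nat_lit 0x86ebf95))) (.node 1 (.leaf (nat_lit 0xd9e3891)) (.leaf (nat_lit 0x0)))))) (.node 8 (.node 4 (.node 2 (.node 1 (.leaf (nat_lit 0x0)) (.leaf (nat_lit 0xe9b4e45))) (.node 1 (.leaf (nat_lit 0x0)) (.leaf (nat_lit 0x9e33045)))) (.node 2 (.node 1 (.leaf (nat_lit 0x6c8cc11)) (.leaf (nat_lit 0x0))) (.node 1 (.leaf (nat_lit 0x5f42659)) (.leaf (nat_lit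 0x702c004))))) (.node 4 (.node 2 (.node 1 (.leaf (nat_lit 0x5dc1a5d)) (.leaf (nat_lit 0x0))) (.node 1 (.leaf (nat_lit 0x547fbdd)) (.leaf (nat_lit 0x1044410)))) (.node 2 (.node 1 (.leaf (nat_lit 0x89a91d4)) (.leaf (nat_lit 0x2763d29))) (.node 1 (.leaf (nat_lit 0x899a264)) (.leaf (nat_lit 0x0))))))) (.node 16 (.node 8 (.node 4 (.node 2 (.node 1 (.leaf (nat_lit 0x0)) (.leaf (nat_lit 0x0))) (.node 1 (.leaf (nat_lit 0x4da4dad)) (.leaf (nat_lit 0x11150)))) (.node 2 (.node 1 (.leaf (nat_lit 0xdb18da1)) (.leaf (nat_lit 0x0))) (.node 1 (.leaf (nat_lit 0x0)) (.leaf (nat_lit 0x0))))) (.node 4 (.node 2 (.node 1 (.leaf (nat_lit 0x0)) (.leaf (nat_lit 0x0))) (.node 1 (.leaf (nat_lit 0x0)) (.leaf (nat_lit 0x0)))) (.node 2 (.node 1 (.leaf (nat_lit 0x0)) (.leaf (nat_lit 0x0))) (.node 1 (.leaf (nat_lit 0x6c84000)) (.leaf (nat_lit 0xe85b6ad)))))) (.node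 8 (.node 4 (.node 2 (.node 1 (.leaf (nat_lit 0x9242490)) (.leaf (nat_lit 0x0))) (.node 1 (.leaf (nat_lit 0x0)) (.leaf (nat_lit 0x0)))) (.node 2 (.node 1 (.leaf (nat_lit 0xed1bdd9)) (.leaf (nat_lit 0x30c4d95))) (.node 1 (.leaf (nat_lit 0x39b49d4)) (.leaf (nat_lit 0xd6451dd))))) (.node 4 (.node 2 (.node 1 (.leaf (nat_lit 0xe279fb9)) (.leaf (nat_lit 0xfbb5a35))) (.node 1 (.leaf (nat_lit 0x1554004)) (.leaf (nat_lit 0x4db7f3d)))) (.node 2 (.node 1 (.leaf (nat_lit 0xcdfd7d5)) (.leaf (nat_lit 0x7d528f1))) (.node 1 (.leaf (nat_lit 0x16be4)) (.leaf (nat_lit 0x5293e15))))))))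

noncomputable def vt10 : Tree :=
  .node 64 (.node 32 (.node 16 (.node 8 (.node 4 (.node 2 (.node 1 (.leaf (nat_lit 0xe0140bd)) (.leaf (nat_lit 0xcddf5f5))) (.node 1 (.leaf (nat_lit 0x0)) (.leaf (nat_lit 0x0)))) (.node 2 (.node 1 (.leaf (nat_lit 0x73a27f5)) (.leaf (nat_lit 0xc1022e1))) (.node 1 (.leaf (nat_lit 0x6b90b6d)) (.leaf (nat_lit 0x0))))) (.node 4 (.node 2 (.node 1 (.leaf (nat_lit 0xf488821)) (.leaf (nat_lit 0x9b05b9d))) (.node 1 (.leaf (nat_lit 0x0)) (.leaf (nat_lit 0x86eb2d4)))) (.node 2 (.node 1 (.leaf (nat_lit 0xd9c63dd)) (.leaf (nat_lit 0x5e07e44))) (.node 1 (.leaf (nat_lit 0x4f95c99)) (.leaf (nat_lit 0xed2c6e1)))))) (.node 8 (.node 4 (.node 2 (.node 1 (.leaf (nat_lit 0x5e10000)) (.leaf (nat_lit 0x4f86e49))) (.node 1 (.leaf (nat_lit 0xa014004)) (.leaf (nat_lit 0x5440411)))) (.node 2 (.node 1 (.leaf (nat_lit 0x1b16b15))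 (.leaf (nat_lit 0xe255f5d))) (.node 1 (.leaf (nat_lit 0xcdec6c5)) (.leaf (nat_lit 0x0))))) (.node 4 (.node 2 (.node 1 (.leaf (nat_lit 0xe24dfc1)) (.leaf (nat_lit 0x0))) (.node 1 (.leaf (nat_lit 0xed35bfd)) (.leaf (nat_lit 0x0)))) (.node 2 (.node 1 (.leaf (nat_lit 0xf927e44)) (.leaf (nat_lit 0x17e44))) (.node 1 (.leaf (nat_lit 0xd65be15)) (.leaf (nat_lit 0x0))))))) (.node 16 (.node 8 (.node 4 (.node 2 (.node 1 (.leaf (nat_lit 0x3977549)) (.leaf (nat_lit 0x0))) (.node 1 (.leaf (nat_lit 0x0)) (.leaf (nat_lit 0x0)))) (.node 2 (.node 1 (.leaf (nat_lit 0xaf89694)) (.leaf (nat_lit 0x5de8d85))) (.node 1 (.leaf (nat_lit 0x0)) (.leaf (nat_lit 0x0))))) (.node 4 (.node 2 (.node 1 (.leaf (nat_lit 0x0)) (.leaf (nat_lit 0x0))) (.node 1 (.leaf (nat_lit 0x85eae2d)) (.leaf (nat_lit 0xd662491)))) (.node 2 (.node 1 (.leaf (nat_lit 0x11110)) (.leaf (nat_lit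 0x10c4810))) (.node 1 (.leaf (nat_lit 0x10c8810)) (.leaf (nat_lit 0x0)))))) (.node 8 (.node 4 (.node 2 (.node 1 (.leaf (nat_lit 0x0)) (.leaf (nat_lit 0xc313161))) (.node 1 (.leaf (nat_lit 0x0)) (.leaf (nat_lit 0x0)))) (.node 2 (.node 1 (.leaf (nat_lit 0x6ba9159)) (.leaf (nat_lit 0x15d5c79))) (.node 1 (.leaf (nat_lit 0xdabf9c1)) (.leaf (nat_lit 0x59aa221))))) (.node 4 (.node 2 (.node 1 (.leaf (nat_lit 0xe49afad)) (.leaf (nat_lit 0x5981f59))) (.node 1 (.leaf (nat_lit 0x0)) (.leaf (nat_lit 0x0)))) (.node 2 (.node 1 (.leaf (nat_lit 0x0)) (.leaf (nat_lit 0x0))) (.node 1 (.leaf (nat_lit 0x0)) (.leaf (nat_lit 0x0)))))))) (.node 32 (.node 16 (.node 8 (.node 4 (.node 2 (.node 1 (.leaf (nat_lit 0x0)) (.leaf (nat_lit 0x1e10000))) (.node 1 (.leaf (nat_lit 0x68fda34)) (.leaf (nat_lit 0x1b1ade5)))) (.node 2 (.node 1 (.leaf (nat_lit 0x71f9d89)) (.leaf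 (nat_lit 0x4ea61f4))) (.node 1 (.leaf (nat_lit 0x6e7db90)) (.leaf (nat_lit 0x0))))) (.node 4 (.node 2 (.node 1 (.leaf (nat_lit 0x0)) (.leaf (nat_lit 0x27abf61))) (.node 1 (.leaf (nat_lit 0x73ae474)) (.leaf (nat_lit 0x5c84000)))) (.node 2 (.node 1 (.leaf (nat_lit 0xcddf374)) (.leaf (nat_lit 0x4c97e41))) (.node 1 (.leaf (nat_lit 0xd1aee2d)) (.leaf (nat_lit 0x2d6a39d)))))) (.node 8 (.node 4 (.node 2 (.node 1 (.leaf (nat_lit 0x726f874)) (.leaf (nat_lit 0x4312311))) (.node 1 (.leaf (nat_lit 0x4647549)) (.leaf (nat_lit 0x0)))) (.node 2 (.node 1 (.leaf (nat_lit 0xee94004)) (.leaf (nat_lit 0x7b7f25d))) (.node 1 (.leaf (nat_lit 0x994bba4)) (.leaf (nat_lit 0xa4ccc31))))) (.node 4 (.node 2 (.node 1 (.leaf (nat_lit 0x9ae855d)) (.leaf (nat_lit 0x68f52f5))) (.node 1 (.leaf (nat_lit 0xc7ac9c5)) (.leaf (nat_lit 0x2d62e2d)))) (.node 2 (.node 1 (.leaf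 (nat_lit 0x5b3f679)) (.leaf (nat_lit 0xb880431))) (.node 1 (.leaf (nat_lit 0xd34b5f1)) (.leaf (nat_lit 0x7d64db9))))))) (.node 16 (.node 8 (.node 4 (.node 2 (.node 1 (.leaf (nat_lit 0xa2ae9c9)) (.leaf (nat_lit 0x1558ff4))) (.node 1 (.leaf (nat_lit 0x2044fd5)) (.leaf (nat_lit 0xef74545)))) (.node 2 (.node 1 (.leaf (nat_lit 0xd373595)) (.leaf (nat_lit 0x5ca9b99))) (.node 1 (.leaf (nat_lit 0xb2cad81)) (.leaf (nat_lit 0x8113371))))) (.node 4 (.node 2 (.node 1 (.leaf (nat_lit 0xa598fe9)) (.leaf (nat_lit 0xdd7dfc1))) (.node 1 (.leaf (nat_lit 0x3b734)) (.leaf (nat_lit 0x8c5abe1)))) (.node 2 (.node 1 (.leaf (nat_lit 0x89a9695)) (.leaf (nat_lit 0x67130c5))) (.node 1 (.leaf (nat_lit 0x502c0b9)) (.leaf (nat_lit 0x12390)))))) (.node 8 (.node 4 (.node 2 (.node 1 (.leaf (nat_lit 0xfade6c1)) (.leaf (nat_lit 0xfcf7b4d))) (.node 1 (.leaf (nat_lit 0xe38f9c1))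 (.leaf (nat_lit 0xecc0421)))) (.node 2 (.node 1 (.leaf (nat_lit 0x2e6c4)) (.leaf (nat_lit 0xb602085))) (.node 1 (.leaf (nat_lit 0x8133331)) (.leaf (nat_lit 0xf7609fd))))) (.node 4 (.node 2 (.node 1 (.leaf (nat_lit 0xe736efd)) (.leaf (nat_lit 0x1e9bbd1))) (.node 1 (.leaf (nat_lit 0xe57b950)) (.leaf (nat_lit 0x10cc810)))) (.node 2 (.node 1 (.leaf (nat_lit 0x49c5b49)) (.leaf (nat_lit 0x6bbf590))) (.node 1 (.leaf (nat_lit 0x3ad34)) (.leaf (nat_lit 0xccff751))))))))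

noncomputable def vt11 : Tree :=
  .node 64 (.node 32 (.node 16 (.node 8 (.node 4 (.node 2 (.node 1 (.leaf (nat_lit 0x75abbd0)) (.leaf (nat_lit 0x36f0db4))) (.node 1 (.leaf (nat_lit 0x91e3bd5)) (.leaf (nat_lit 0x1bd86f4)))) (.node 2 (.node 1 (.leaf (nat_lit 0xd008021)) (.leaf (nat_lit 0xe6db211))) (.node 1 (.leaf (nat_lit 0xc49ebb1)) (.leaf (nat_lit 0xda8dbf4))))) (.node 4 (.node 2 (.node 1 (.leaf (nat_lit 0x85cbd8d)) (.leaf (nat_lit 0xc87ed51))) (.node 1 (.leaf (nat_lit 0x53c6b41)) (.leaf (nat_lit 0xa5a6625)))) (.node 2 (.node 1 (.leaf (nat_lit 0x5145541)) (.leaf (nat_lit 0x4332040))) (.node 1 (.leaf (nat_lit 0x0)) (.leaf (nat_lit 0x36f2cb1)))))) (.node 8 (.node 4 (.node 2 (.node 1 (.leaf (nat_lit 0x1e97211)) (.leaf (nat_lit 0xc5bfb39))) (.node 1 (.leaf (nat_lit 0x4101040)) (.leaf (nat_lit 0x27a38e1)))) (.node 2 (.node 1 (.leaf (nat_lit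 0x276ba89)) (.leaf (nat_lit 0x36fa131))) (.node 1 (.leaf (nat_lit 0x4e94004)) (.leaf (nat_lit 0xe56d45d))))) (.node 4 (.node 2 (.node 1 (.leaf (nat_lit 0xe7197d9)) (.leaf (nat_lit 0x27af121))) (.node 1 (.leaf (nat_lit 0x8e4aa8d)) (.leaf (nat_lit 0x969d2b9)))) (.node 2 (.node 1 (.leaf (nat_lit 0x4c84000)) (.leaf (nat_lit 0xb91e99d))) (.node 1 (.leaf (nat_lit 0x1080e55)) (.leaf (nat_lit 0xcfed4ad))))))) (.node 16 (.node 8 (.node 4 (.node 2 (.node 1 (.leaf (nat_lit 0xfcc8421)) (.leaf (nat_lit 0x0))) (.node 1 (.leaf (nat_lit 0x8f6a995)) (.leaf (nat_lit 0xb579459)))) (.node 2 (.node 1 (.leaf (nat_lit 0x0)) (.leaf (nat_lit 0x0))) (.node 1 (.leaf (nat_lit 0x0)) (.leaf (nat_lit 0x111d0))))) (.node 4 (.node 2 (.node 1 (.leaf (nat_lit 0x4455110)) (.leaf (nat_lit 0x0))) (.node 1 (.leaf (nat_lit 0x0)) (.leaf (nat_lit 0x0)))) (.node 2 (.node 1 (.leaf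 (nat_lit 0x0)) (.leaf (nat_lit 0x276f4d9))) (.node 1 (.leaf (nat_lit 0xd3434d0)) (.leaf (nat_lit 0xa9dad81)))))) (.node 8 (.node 4 (.node 2 (.node 1 (.leaf (nat_lit 0xbbe7121)) (.leaf (nat_lit 0x65cdc75))) (.node 1 (.leaf (nat_lit 0x700c011)) (.leaf (nat_lit 0x0)))) (.node 2 (.node 1 (.leaf (nat_lit 0x0)) (.leaf (nat_lit 0x0))) (.node 1 (.leaf (nat_lit 0x0)) (.leaf (nat_lit 0x7d4927d))))) (.node 4 (.node 2 (.node 1 (.leaf (nat_lit 0x1048575)) (.leaf (nat_lit 0x0))) (.node 1 (.leaf (nat_lit 0x0)) (.leaf (nat_lit 0xb55cfc5)))) (.node 2 (.node 1 (.leaf (nat_lit 0x1044545)) (.leaf (nat_lit 0x9884431))) (.node 1 (.leaf (nat_lit 0xb8a6a7d)) (.leaf (nat_lit 0x98aa265)))))))) (.node 32 (.node 16 (.node 8 (.node 4 (.node 2 (.node 1 (.leaf (nat_lit 0x6b86f74)) (.leaf (nat_lit 0x5151515))) (.node 1 (.leaf (nat_lit 0xa17bf3d)) (.leaf (nat_lit 0x7263af5))))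 (.node 2 (.node 1 (.leaf (nat_lit 0xd1b2e95)) (.leaf (nat_lit 0x8e69b2d))) (.node 1 (.leaf (nat_lit 0xa0100c5)) (.leaf (nat_lit 0x1ed3a1d))))) (.node 4 (.node 2 (.node 1 (.leaf (nat_lit 0xfbb1774)) (.leaf (nat_lit 0x367a49d))) (.node 1 (.leaf (nat_lit 0x474654d)) (.leaf (nat_lit 0x670e96d)))) (.node 2 (.node 1 (.leaf (nat_lit 0x5c80c11)) (.leaf (nat_lit 0x17eb4))) (.node 1 (.leaf (nat_lit 0x11190)) (.leaf (nat_lit 0xbbc1fbd)))))) (.node 8 (.node 4 (.node 2 (.node 1 (.leaf (nat_lit 0x9d87299)) (.leaf (nat_lit 0x9d9d515))) (.node 1 (.leaf (nat_lit 0x9c5efcd)) (.leaf (nat_lit 0x75a7e41)))) (.node 2 (.node 1 (.leaf (nat_lit 0x15d1919)) (.leaf (nat_lit 0x5297c54))) (.node 1 (.leaf (nat_lit 0x8a9b619)) (.leaf (nat_lit 0x13290))))) (.node 4 (.node 2 (.node 1 (.leaf (nat_lit 0xc112261)) (.leaf (nat_lit 0xfdb53e9))) (.node 1 (.leaf (nat_lit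 0xac71ead)) (.leaf (nat_lit 0x3934e40)))) (.node 2 (.node 1 (.leaf (nat_lit 0xb4c0c31)) (.leaf (nat_lit 0xd18aef1))) (.node 1 (.leaf (nat_lit 0xf74b4d5)) (.leaf (nat_lit 0xba5f211))))))) (.node 16 (.node 8 (.node 4 (.node 2 (.node 1 (.leaf (nat_lit 0x8899110)) (.leaf (nat_lit 0x8331231))) (.node 1 (.leaf (nat_lit 0xb36daed)) (.leaf (nat_lit 0xf3efd29)))) (.node 2 (.node 1 (.leaf (nat_lit 0xf85be14)) (.leaf (nat_lit 0xc58e9c9))) (.node 1 (.leaf (nat_lit 0x5451514)) (.leaf (nat_lit 0xb349a81))))) (.node 4 (.node 2 (.node 1 (.leaf (nat_lit 0x16bb4)) (.leaf (nat_lit 0x9db2cd1))) (.node 1 (.leaf (nat_lit 0x53fabbd)) (.leaf (nat_lit 0x1088e75)))) (.node 2 (.node 1 (.leaf (nat_lit 0x4302040)) (.leaf (nat_lit 0x739671d))) (.node 1 (.leaf (nat_lit 0xdcc4421)) (.leaf (nat_lit 0xc221321)))))) (.node 8 (.node 4 (.node 2 (.node 1 (.leaf (nat_lit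 0x9fc9ea4)) (.leaf (nat_lit 0xdcff375))) (.node 1 (.leaf (nat_lit 0xb7ac004)) (.leaf (nat_lit 0x49d7899)))) (.node 2 (.node 1 (.leaf (nat_lit 0xd4b5a34)) (.leaf (nat_lit 0xe1ce6c1))) (.node 1 (.leaf (nat_lit 0x27e352d)) (.leaf (nat_lit 0xdf9ab15))))) (.node 4 (.node 2 (.node 1 (.leaf (nat_lit 0x6b8e475)) (.leaf (nat_lit 0x272b755))) (.node 1 (.leaf (nat_lit 0x17ee4)) (.leaf (nat_lit 0xf4b5e4d)))) (.node 2 (.node 1 (.leaf (nat_lit 0x82221f1)) (.leaf (nat_lit 0xd844c21))) (.node 1 (.leaf (nat_lit 0xab4d3ad)) (.leaf (nat_lit 0x46746f9))))))))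

noncomputable def vt12 : Tree :=
  .node 64 (.node 32 (.node 16 (.node 8 (.node 4 (.node 2 (.node 1 (.leaf (nat_lit 0x8f78a85)) (.leaf (nat_lit 0x56d6cbd))) (.node 1 (.leaf (nat_lit 0x8c6b951)) (.leaf (nat_lit 0x30807b5)))) (.node 2 (.node 1 (.leaf (nat_lit 0xfce2ef9)) (.leaf (nat_lit 0xb9387b1))) (.node 1 (.leaf (nat_lit 0x2aa919d)) (.leaf (nat_lit 0x3040ab5))))) (.node 4 (.node 2 (.node 1 (.leaf (nat_lit 0x91c3890)) (.leaf (nat_lit 0x39bb331))) (.node 1 (.leaf (nat_lit 0x6e50e6d)) (.leaf (nat_lit 0xaece2ad)))) (.node 2 (.node 1 (.leaf (nat_lit 0x104c410)) (.leaf (nat_lit 0x8311271))) (.node 1 (.leaf (nat_lit 0xa3d54a4)) (.leaf (nat_lit 0xca6cfc5)))))) (.node 8 (.node 4 (.node 2 (.node 1 (.leaf (nat_lit 0x1e9f591)) (.leaf (nat_lit 0xf2954f4))) (.node 1 (.leaf (nat_lit 0x7b65541)) (.leaf (nat_lit 0x4312040)))) (.node 2 (.node 1 (.leaf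 (nat_lit 0x5283c50)) (.leaf (nat_lit 0xe542de9))) (.node 1 (.leaf (nat_lit 0x1000045)) (.leaf (nat_lit 0x8bab52d))))) (.node 4 (.node 2 (.node 1 (.leaf (nat_lit 0x88aa651)) (.leaf (nat_lit 0xd014099))) (.node 1 (.leaf (nat_lit 0xd9d9515)) (.leaf (nat_lit 0xccee6c1)))) (.node 2 (.node 1 (.leaf (nat_lit 0x1084e45)) (.leaf (nat_lit 0xaed89e9))) (.node 1 (.leaf (nat_lit 0x6e47674)) (.leaf (nat_lit 0xb638db1))))))) (.node 16 (.node 8 (.node 4 (.node 2 (.node 1 (.leaf (nat_lit 0xd9d1b94)) (.leaf (nat_lit 0x98b3f99))) (.node 1 (.leaf (nat_lit 0x4010)) (.leaf (nat_lit 0x7ee6b41)))) (.node 2 (.node 1 (.leaf (nat_lit 0xd484821)) (.leaf (nat_lit 0x0))) (.node 1 (.leaf (nat_lit 0xc85feb1)) (.leaf (nat_lit 0x1b10000))))) (.node 4 (.node 2 (.node 1 (.leaf (nat_lit 0x82021b1)) (.leaf (nat_lit 0xdaa0fd9))) (.node 1 (.leaf (nat_lit 0xfd8ead4)) (.leaf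 (nat_lit 0x5000000)))) (.node 2 (.node 1 (.leaf (nat_lit 0xcdce2e4)) (.leaf (nat_lit 0x70380f9))) (.node 1 (.leaf (nat_lit 0x65eb259)) (.leaf (nat_lit 0x0)))))) (.node 8 (.node 4 (.node 2 (.node 1 (.leaf (nat_lit 0x0)) (.leaf (nat_lit 0x84fad81))) (.node 1 (.leaf (nat_lit 0xd876d34)) (.leaf (nat_lit 0x6451d69)))) (.node 2 (.node 1 (.leaf (nat_lit 0x0)) (.leaf (nat_lit 0x0))) (.node 1 (.leaf (nat_lit 0x8bba47d)) (.leaf (nat_lit 0x8b8978d))))) (.node 4 (.node 2 (.node 1 (.leaf (nat_lit 0x0)) (.leaf (nat_lit 0x2f9c4))) (.node 1 (.leaf (nat_lit 0x0)) (.leaf (nat_lit 0x0)))) (.node 2 (.node 1 (.leaf (nat_lit 0x4e50)) (.leaf (nat_lit 0x7b50b79))) (.node 1 (.leaf (nat_lit 0xc68d9cd)) (.leaf (nat_lit 0xc2013e1)))))))) (.node 32 (.node 16 (.node 8 (.node 4 (.node 2 (.node 1 (.leaf (nat_lit 0x4567675)) (.leaf (nat_lit 0xe480821))) (.node 1 (.leaf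 (nat_lit 0xa286991)) (.leaf (nat_lit 0xb61d69d)))) (.node 2 (.node 1 (.leaf (nat_lit 0xf3d7cf4)) (.leaf (nat_lit 0x0))) (.node 1 (.leaf (nat_lit 0x1008065)) (.leaf (nat_lit 0x4111111))))) (.node 4 (.node 2 (.node 1 (.leaf (nat_lit 0xde2b784)) (.leaf (nat_lit 0x66a9f25))) (.node 1 (.leaf (nat_lit 0xf014004)) (.leaf (nat_lit 0x3f78004)))) (.node 2 (.node 1 (.leaf (nat_lit 0xa9e52bd)) (.leaf (nat_lit 0x88bb781))) (.node 1 (.leaf (nat_lit 0xf2857d1)) (.leaf (nat_lit 0x0)))))) (.node 8 (.node 4 (.node 2 (.node 1 (.leaf (nat_lit 0x0)) (.leaf (nat_lit 0x0))) (.node 1 (.leaf (nat_lit 0xc4bda51)) (.leaf (nat_lit 0x0)))) (.node 2 (.node 1 (.leaf (nat_lit 0x5155454)) (.leaf (nat_lit 0x0))) (.node 1 (.leaf (nat_lit 0x0)) (.leaf (nat_lit 0x0))))) (.node 4 (.node 2 (.node 1 (.leaf (nat_lit 0x3fbd9cd)) (.leaf (nat_lit 0x0))) (.node 1 (.leaf (nat_lit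 0x0)) (.leaf (nat_lit 0x0)))) (.node 2 (.node 1 (.leaf (nat_lit 0xe4af1e5)) (.leaf (nat_lit 0x9da8b5d))) (.node 1 (.leaf (nat_lit 0x0)) (.leaf (nat_lit 0x1b12045))))))) (.node 16 (.node 8 (.node 4 (.node 2 (.node 1 (.leaf (nat_lit 0x8212171)) (.leaf (nat_lit 0x5dff331))) (.node 1 (.leaf (nat_lit 0xfe492f9)) (.leaf (nat_lit 0xbeada50)))) (.node 2 (.node 1 (.leaf (nat_lit 0x53d6854)) (.leaf (nat_lit 0xa64a994))) (.node 1 (.leaf (nat_lit 0x7b69ed0)) (.leaf (nat_lit 0x0))))) (.node 4 (.node 2 (.node 1 (.leaf (nat_lit 0x1e94004)) (.leaf (nat_lit 0xe840c21))) (.node 1 (.leaf (nat_lit 0x760bd79)) (.leaf (nat_lit 0x1e1f9b5)))) (.node 2 (.node 1 (.leaf (nat_lit 0x2c004)) (.leaf (nat_lit 0xe876969))) (.node 1 (.leaf (nat_lit 0xe6eecb9)) (.leaf (nat_lit 0x48c4811)))))) (.node 8 (.node 4 (.node 2 (.node 1 (.leaf (nat_lit 0x5c93e14)) (.leaf (nat_lit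 0x48e79b1))) (.node 1 (.leaf (nat_lit 0x4332391)) (.leaf (nat_lit 0xc7be394)))) (.node 2 (.node 1 (.leaf (nat_lit 0x8d59919)) (.leaf (nat_lit 0x6bb7e41))) (.node 1 (.leaf (nat_lit 0x2c094)) (.leaf (nat_lit 0x0))))) (.node 4 (.node 2 (.node 1 (.leaf (nat_lit 0x9e29729)) (.leaf (nat_lit 0x1e90e54))) (.node 1 (.leaf (nat_lit 0x56c3959)) (.leaf (nat_lit 0x4cb6de1)))) (.node 2 (.node 1 (.leaf (nat_lit 0x86d9ea5)) (.leaf (nat_lit 0xcecd6c9))) (.node 1 (.leaf (nat_lit 0xf2ad729)) (.leaf (nat_lit 0x89b8785))))))))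

noncomputable def vt13 : Tree :=
  .node 59 (.node 29 (.node 14 (.node 7 (.node 3 (.node 1 (.leaf (nat_lit 0x647f734)) (.node 1 (.leaf (nat_lit 0x898b3b4)) (.leaf (nat_lit 0x6cbed34)))) (.node 2 (.node 1 (.leaf (nat_lit 0x2aa1b2d)) (.leaf (nat_lit 0xdb3d63d))) (.node 1 (.leaf (nat_lit 0x7c9367d)) (.leaf (nat_lit 0x53d2b15))))) (.node 3 (.node 1 (.leaf (nat_lit 0x4ac7b4d)) (.node 1 (.leaf (nat_lit 0x14054)) (.leaf (nat_lit 0x77fda35)))) (.node 2 (.node 1 (.leaf (nat_lit 0x9ac6399)) (.leaf (nat_lit 0x49f49f9))) (.node 1 (.leaf (nat_lit 0x77f1df4)) (.leaf (nat_lit 0xd653594)))))) (.node 7 (.node 3 (.node 1 (.leaf (nat_lit 0x7444000)) (.node 1 (.leaf (nat_lit 0xfacd7d4)) (.leaf (nat_lit 0x5455155)))) (.node 2 (.node 1 (.leaf (nat_lit 0x9ad3bd4)) (.leaf (nat_lit 0x100c075))) (.node 1 (.leaf (nat_lit 0xe7030c5)) (.leaf (nat_lit 0xa3f963d)))))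 (.node 4 (.node 2 (.node 1 (.leaf (nat_lit 0xa3ed6c9)) (.leaf (nat_lit 0xfd9f9c1))) (.node 1 (.leaf (nat_lit 0xf2b978d)) (.leaf (nat_lit 0xe261f25)))) (.node 2 (.node 1 (.leaf (nat_lit 0x1551451)) (.leaf (nat_lit 0x2dec004))) (.node 1 (.leaf (nat_lit 0xaee5f25)) (.leaf (nat_lit 0xdfa1c91))))))) (.node 15 (.node 7 (.node 3 (.node 1 (.leaf (nat_lit 0xd02c0fd)) (.node 1 (.leaf (nat_lit 0x14004)) (.leaf (nat_lit 0x83012b1)))) (.node 2 (.node 1 (.leaf (nat_lit 0x0)) (.leaf (nat_lit 0x0))) (.node 1 (.leaf (nat_lit 0x0)) (.leaf (nat_lit 0x0))))) (.node 4 (.node 2 (.node 1 (.leaf (nat_lit 0x0)) (.leaf (nat_lit 0x0))) (.node 1 (.leaf (nat_lit 0x0)) (.leaf (nat_lit 0xb5439bd)))) (.node 2 (.node 1 (.leaf (nat_lit 0x57a8785)) (.leaf (nat_lit 0xa4e5b49))) (.node 1 (.leaf (nat_lit 0xf49ab14)) (.leaf (nat_lit 0x393b735)))))) (.node 7 (.node 3 (.node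 1 (.leaf (nat_lit 0xca4d3e4)) (.node 1 (.leaf (nat_lit 0x4302351)) (.leaf (nat_lit 0xf4a35f9)))) (.node 2 (.node 1 (.leaf (nat_lit 0xbbdc6c5)) (.leaf (nat_lit 0x4455541))) (.node 1 (.leaf (nat_lit 0x3004000)) (.leaf (nat_lit 0x91cfba1))))) (.node 4 (.node 2 (.node 1 (.leaf (nat_lit 0xc78f8e5)) (.leaf (nat_lit 0x304caa5))) (.node 1 (.leaf (nat_lit 0x71edc74)) (.leaf (nat_lit 0x968a5a4)))) (.node 2 (.node 1 (.leaf (nat_lit 0xa7330c5)) (.leaf (nat_lit 0x2aed8d9))) (.node 1 (.leaf (nat_lit 0xcb6ec69)) (.leaf (nat_lit 0x68cc811)))))))) (.node 29 (.node 14 (.node 7 (.node 3 (.node 1 (.leaf (nat_lit 0xfe5c7bd)) (.node 1 (.leaf (nat_lit 0xf91d919)) (.leaf (nat_lit 0x27230c5)))) (.node 2 (.node 1 (.leaf (nat_lit 0x58c4000)) (.leaf (nat_lit 0xa3c5691))) (.node 1 (.leaf (nat_lit 0x140f4)) (.leaf (nat_lit 0x48f5ae1))))) (.node 3 (.node 1 (.leaf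 (nat_lit 0x1040555)) (.node 1 (.leaf (nat_lit 0xf3d3d75)) (.leaf (nat_lit 0xde187a1)))) (.node 2 (.node 1 (.leaf (nat_lit 0xb4e577d)) (.leaf (nat_lit 0xca6c004))) (.node 1 (.leaf (nat_lit 0xac5eb14)) (.leaf (nat_lit 0x3f75df1)))))) (.node 7 (.node 3 (.node 1 (.leaf (nat_lit 0x10c0810)) (.node 1 (.leaf (nat_lit 0xf848c21)) (.leaf (nat_lit 0x204cfc5)))) (.node 2 (.node 1 (.leaf (nat_lit 0xc122221)) (.leaf (nat_lit 0x36fcb64))) (.node 1 (.leaf (nat_lit 0x1bd0b54)) (.leaf (nat_lit 0x16b14))))) (.node 4 (.node 2 (.node 1 (.leaf (nat_lit 0xecf7f69)) (.leaf (nat_lit 0x5c97255))) (.node 1 (.leaf (nat_lit 0x0)) (.leaf (nat_lit 0x0)))) (.node 2 (.node 1 (.leaf (nat_lit 0x53eebe9)) (.leaf (nat_lit 0xd7d93ed))) (.node 1 (.leaf (nat_lit 0x7ca9f24)) (.leaf (nat_lit 0x989d9cd))))))) (.node 15 (.node 7 (.node 3 (.node 1 (.leaf (nat_lit 0xa2968a4))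 (.node 1 (.leaf (nat_lit 0x0)) (.leaf (nat_lit 0x8d90)))) (.node 2 (.node 1 (.leaf (nat_lit 0x8f6a3d4)) (.leaf (nat_lit 0x0))) (.node 1 (.leaf (nat_lit 0x0)) (.leaf (nat_lit 0x0))))) (.node 4 (.node 2 (.node 1 (.leaf (nat_lit 0x0)) (.leaf (nat_lit 0x0))) (.node 1 (.leaf (nat_lit 0x0)) (.leaf (nat_lit 0x0)))) (.node 2 (.node 1 (.leaf (nat_lit 0xdd4eef4)) (.leaf (nat_lit 0x12350))) (.node 1 (.leaf (nat_lit 0x86cacb5)) (.leaf (nat_lit 0x39bfd71)))))) (.node 7 (.node 3 (.node 1 (.leaf (nat_lit 0x727ba89)) (.node 1 (.leaf (nat_lit 0x39fb89d)) (.leaf (nat_lit 0x77e47b9)))) (.node 2 (.node 1 (.leaf (nat_lit 0x91ef894)) (.leaf (nat_lit 0x5f7cfc5))) (.node 1 (.leaf (nat_lit 0xd7fe6c1)) (.leaf (nat_lit 0x2de06e4))))) (.node 4 (.node 2 (.node 1 (.leaf (nat_lit 0x2de4d94)) (.leaf (nat_lit 0x0))) (.node 1 (.leaf (nat_lit 0x0)) (.leaf (nat_lit 0x0))))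 (.node 2 (.node 1 (.leaf (nat_lit 0x8232131)) (.leaf (nat_lit 0x5141450))) (.node 1 (.leaf (nat_lit 0x0)) (.leaf (nat_lit 0x0))))))))

noncomputable def vTree : Tree :=
  .node 896 (.node 384 (.node 128 (vt0) (.node 128 (vt1) (vt2))) (.node 256 (.node 128 (vt3) (vt4)) (.node 128 (vt5) (vt6)))) (.node 384 (.node 128 (vt7) (.node 128 (vt8) (vt9))) (.node 256 (.node 128 (vt10) (vt11)) (.node 128 (vt12) (vt13))))

def xWords : List (List ℕ) := [[1, 2, 1, 3, 2, 4, 3, 2, 1, 0, 1, 2, 3, 2, 4, 3, 1, 2, 1], [1, 2, 1, 3, 2, 4, 3, 2, 1, 5, 1, 2, 3, 2, 4, 3, 1, 2, 1], [1, 2, 1, 3, 2, 4, 3, 2, 1, 0, 5, 1, 2, 3, 4, 2, 3, 1, 2, 1], [1, 2, 1, 3, 2, 4, 3, 2, 1, 3, 2, 3, 5, 1, 2, 3, 4, 2, 3, 1, 2, 1], [1, 2, 3, 2, 1, 4, 3, 2, 1, 0, 1, 3, 2, 3, 5, 0, 1, 0, 1, 2, 3, 4, 1, 2, 3, 2, 1], [1, 2, 1, 3, 4, 3, 2, 1, 0, 1, 3, 2, 3, 5, 1, 0, 1, 2, 3, 4, 3, 1, 2,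 1], [4, 5, 1, 0, 1, 2, 1, 3, 2, 3, 5, 1, 0, 1, 5, 4, 3, 2, 3, 1, 2, 1, 0, 1, 5, 4], [0, 2, 3, 4, 3, 2, 5, 1, 0, 1, 2, 3, 2, 5, 1, 0, 1, 5, 2, 3, 4, 3, 2, 0], [2, 4, 3, 2, 1, 0, 1, 3, 2, 3, 5, 1, 2, 3, 4, 2, 3, 2, 1, 5, 1, 2, 3, 4, 0], [2, 3, 4, 3, 2, 1, 3, 2, 3, 4, 5, 1, 0, 1, 2, 3, 1, 2, 1, 0, 1, 5, 4, 3, 2, 3, 1, 2, 3, 4, 3, 2], [1, 2, 4, 5, 1, 0, 1, 2, 3, 2, 1, 0, 1, 3, 5, 1, 2, 3, 4, 1, 0, 1], [0, 2, 1, 0, 3, 2, 1, 4, 3, 2, 5, 1, 2, 3, 4, 2, 3, 2, 1, 5, 2, 3, 4, 1, 2, 3, 0, 1, 2, 0], [2, 1, 0, 1, 3, 4, 3, 2], [1, 0, 2, 1, 0, 3, 2, 1, 3, 2, 3, 4, 3, 2, 3, 0, 1, 2, 3, 0, 1, 2, 0, 1], [1, 0, 3, 2, 1, 0, 1, 3, 2, 1, 3, 4, 3, 2, 3, 1, 0, 1, 2, 3, 0, 1], [1, 2, 1, 3, 2, 3, 4, 3, 2, 1, 0, 3, 2, 3, 5, 1, 2, 3, 4, 3, 2, 3, 1, 2, 1], [4, 5, 1, 0, 1, 2, 3, 2, 4, 3, 5, 1, 0, 2, 1, 5, 3, 4, 2, 3, 2, 1, 0, 1, 5, 4], [2, 1, 3, 2, 3, 4, 3, 2, 3,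 5, 1, 0, 2, 1, 5, 3, 2, 3, 4, 3, 2, 3, 1, 2], [1, 2, 3, 4, 3, 2, 1, 0, 3, 2, 3, 5, 1, 2, 3, 4, 3, 2, 1], [1, 2, 3, 2, 4, 3, 2, 1, 0, 1, 0, 3, 2, 3, 5, 1, 0, 1, 2, 3, 4, 2, 3, 2, 1], [1, 2, 3, 4, 3, 2, 3, 2, 5, 1, 0, 1, 2, 1, 5, 3, 2, 3, 4, 3, 2, 1], [3, 2, 3, 2, 1, 4, 3, 2, 1, 0, 1, 3, 2, 3, 4, 2, 3, 1, 2, 3, 0], [1, 0, 1, 2, 4, 3, 2, 1, 0, 3, 2, 4, 3, 2, 1, 0, 1, 2, 3, 4, 0], [0, 2, 1, 3, 4, 3, 2, 1, 3, 2, 1, 3, 4, 3, 2, 0], [4, 3, 2, 1, 0, 3, 2, 5, 1, 0, 2, 3, 2, 1, 5, 4, 2, 3, 2, 1, 0, 1, 5, 3, 4, 3, 2, 1, 0, 1], [2, 3, 4, 5, 1, 0, 1, 2, 3, 2, 1, 0, 1, 3, 5, 1, 2, 3, 4, 1, 2, 3, 2, 0], [1, 4, 5, 1, 0, 1, 0, 2, 3, 4, 5, 1, 2, 3, 2, 1, 5, 4, 2, 3, 2, 0, 1, 0, 1, 5, 4, 1], [2, 1, 0, 3, 2, 3, 4, 3, 2, 5, 1, 0, 2, 3, 2, 1, 5, 2, 3, 4, 3, 2, 3, 0, 1, 2], [2, 1, 5, 1, 2, 3, 2, 1, 0, 4, 3, 2, 3, 4, 5, 1, 2, 3, 2, 1, 0, 1, 2, 3, 4, 2, 0,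 1, 0], [2, 1, 4, 3, 5, 1, 0, 1, 2, 1, 3, 2, 1, 0, 1, 5, 3, 4, 1, 2], [3, 5, 1, 0, 1, 2, 3, 2, 4, 3, 2, 1, 0, 5, 1, 2, 3, 4, 2, 3, 2, 1, 0, 1, 5, 3], [3, 5, 1, 0, 1, 2, 3, 2, 4, 3, 2, 1, 0, 1, 2, 3, 4, 2, 3, 2, 1, 0, 1, 5, 3], [3, 5, 1, 0, 1, 2, 3, 2, 4, 3, 2, 1, 5, 1, 2, 3, 4, 2, 3, 2, 1, 0, 1, 5, 3], [1, 2, 3, 2, 4, 3, 2, 1, 0, 1, 5, 1, 0, 1, 2, 3, 4, 2, 3, 2, 1], [1, 0, 2, 3, 2, 4, 3, 2, 5, 1, 0, 1, 2, 3, 5, 4, 2, 3, 2, 0, 1], [1, 0, 2, 3, 2, 1, 4, 3, 2, 1, 3, 2, 4, 3, 2, 0, 1]]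

def xCols : List (List ℕ) := [[1, 20, 16, 64, 256, 1024, 4096, 16384, 65600, 262144, 1048832, 4195328, 16793600, 67108881], [1, 36, 16, 64, 256, 1024, 4096, 16384, 65664, 262144, 1049088, 4196352, 16809984, 67108914], [1, 52, 16, 64, 256, 1024, 4096, 16384, 65728, 262144, 1049344, 4197376, 16826368, 67108899], [65, 68, 16, 64, 256, 1024, 4096, 16400, 65536, 262400, 1048576, 4198400, 16777285, 67174400], [129, 132, 16, 64, 256, 1024, 4096, 16416, 65536, 262656, 1048576, 4202496, 16777418, 67239936], [193, 196, 16, 64, 256, 1024, 4096, 16432, 65536, 262912, 1048576, 4206592, 16777359, 67305472], [257, 4, 16, 64, 256, 1040, 4160, 16384, 65536, 262160, 1048640, 4194564, 17040400, 68161600], [513, 4, 16, 64, 256, 1056, 4224, 16384, 65536, 262192, 1048768, 4195080, 17304592, 69218368], [769, 4, 16, 64, 256, 1072, 4288, 16384, 65536, 262176,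 1048704, 4194828, 17565712, 70262848], [1025, 1028, 16, 64, 272, 1024, 4112, 16384, 69904, 278528, 1049605, 4210688, 16777216, 71581696], [2049, 2052, 16, 64, 288, 1024, 4144, 16384, 74512, 294912, 1051658, 4243456, 16777216, 76300288], [3073, 3076, 16, 64, 304, 1024, 4128, 16384, 78352, 311296, 1050639, 4227072, 16777216, 80232448], [1, 4100, 16, 64, 320, 1088, 4096, 17728, 65536, 266241, 1114112, 4259840, 22085632, 67108864], [1, 8196, 16, 64, 384, 1216, 4096, 19264, 65536, 274434, 1179648, 4390912, 28377088, 67108864], [1, 12292, 16, 64, 448, 1152, 4096, 20032, 65536, 270339, 1245184, 4325376, 31522816, 67108864], [16385, 4, 16, 80, 256, 1024, 5120, 16384, 81924, 262144, 1310720, 4194304, 16777216, 83886080], [32769, 4, 16, 96, 256, 1024, 6144, 16384, 114696, 262144, 1572864, 4194304, 16777216, 100663296], [49153, 4, 16, 112, 256,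 1024, 7168, 16384, 98316, 262144, 1835008, 4194304, 16777216, 117440512], [65537, 4, 80, 64, 256, 5120, 4096, 81924, 65536, 1310720, 1048576, 4194304, 83886080, 67108864], [131073, 4, 144, 64, 256, 9216, 4096, 213000, 65536, 2359296, 1048576, 4194304, 150994944, 67108864], [196609, 4, 208, 64, 256, 13312, 4096, 147468, 65536, 3407872, 1048576, 4194304, 218103808, 67108864], [1, 262148, 16, 17728, 16640, 17408, 266241, 16384, 22085632, 262144, 17825792, 20971520, 16777216, 67108864], [1, 524292, 16, 20032, 49408, 33792, 790530, 16384, 31522816, 262144, 51380224, 37748736, 16777216, 67108864], [1, 786436, 16, 19264, 33024, 50176, 528387, 16384, 28377088, 262144, 34603008, 54525952, 16777216, 67108864], [1048577, 1048580, 69904, 64, 65792, 1049605, 69632, 71581696, 65536, 67371008, 1048576, 71303168, 16777216, 67108864], [2097153, 2097156,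 78352, 64, 196864, 3146762, 135168, 80232448, 65536, 201588736, 1048576, 138412032, 16777216, 67108864], [3145729, 3145732, 74512, 64, 131328, 2098191, 200704, 76300288, 65536, 134479872, 1048576, 205520896, 16777216, 67108864], [4194305, 4, 17040400, 68161600, 4194564, 16778240, 67112960, 16384, 65536, 17039360, 68157440, 4194304, 16777216, 67108864], [8388609, 4, 17565712, 70262848, 12583176, 50332672, 201330688, 16384, 65536, 33816576, 135266304, 4194304, 16777216, 67108864], [12582913, 4, 17304592, 69218368, 8388876, 33555456, 134221824, 16384, 65536, 50593792, 202375168, 4194304, 16777216, 67108864], [16777217, 16777220, 16400, 16777285, 262400, 1024, 4198400, 16384, 67174400, 262144, 1048576, 4194304, 16777216, 67108864], [33554433, 33554436, 32784, 50331722, 524544, 1024, 8392704, 16384, 134283264, 262144, 1048576, 4194304, 16777216,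 67108864], [50331649, 50331652, 49168, 33554511, 786688, 1024, 12587008, 16384, 201392128, 262144, 1048576, 4194304, 16777216, 67108864], [1, 67108868, 67108881, 65600, 1048832, 4195328, 4096, 16793600, 65536, 262144, 1048576, 4194304, 16777216, 67108864], [1, 134217732, 201326610, 131136, 2097408, 8389632, 4096, 33570816, 65536, 262144, 1048576, 4194304, 16777216, 67108864], [1, 201326596, 134217747, 196672, 3145984, 12583936, 4096, 50348032, 65536, 262144, 1048576, 4194304, 16777216, 67108864]]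

def triples : List (ℕ × ℕ × ℕ × ℕ × ℕ) := [(1, 16, 68, 1, 1), (1, 29, 169, 1, 1), (1, 51, 86, 1, 1), (1, 1608, 1779, 1, 3), (16, 25, 46, 1, 2), (16, 45, 74, 1, 1), (16, 78, 45, 1, 3), (16, 120, 45, 1, 2), (68, 173, 266, 1, 1), (29, 42, 71, 1, 1), (29, 69, 42, 1, 2), (29, 77, 119, 1, 3), (29, 111, 42, 1, 3), (169, 187, 292, 1, 1), (51, 70, 171, 1, 1), (51, 110, 70, 1, 3), (51, 114, 70, 1, 2), (1608, 268, 585, 1, 1), (25, 31, 246, 1, 3)]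

def root : ℕ := 1

def combs : List (List (ℕ × ℕ)) := [[(1, 16), (3, 29), (3, 45), (3, 173), (2, 42), (1, 187), (2, 268), (3, 31)], [(1, 16), (3, 29), (3, 51), (2, 1608), (1, 25), (2, 42), (3, 77), (3, 187), (1, 70)], [(2, 1), (2, 29), (2, 25), (3, 45), (1, 187), (2, 70), (1, 268)], [(3, 1), (1, 16), (2, 29), (1, 25), (1, 45), (1, 173), (1, 70), (2, 268), (1, 31)], [(1, 1), (2, 16), (3, 29), (1, 1608), (3, 25), (2, 45), (3, 173), (3, 42), (1, 77), (3, 187), (1, 268), (2, 31)], [(2, 1), (3, 16), (1, 29), (1, 51), (3, 25), (1, 45), (3, 42), (3, 77), (3, 187), (3, 268), (3, 31)], [(1, 1), (3, 16), (3, 51), (2, 1608), (2, 173), (3, 77), (3, 187), (2, 31)], [(3, 1), (3, 16), (2, 29), (1, 51), (1, 1608), (3, 25), (3, 173), (3, 42), (2, 77), (3, 268), (1, 31)], [(1, 45), (1, 29), (1, 25), (1, 173), (1, 42), (2, 187), (1, 70), (2, 268), (1,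 31)], [(3, 1), (1, 16), (1, 51), (1, 1608), (2, 25), (3, 45), (3, 173), (1, 42), (1, 77), (1, 187), (1, 268)], [(1, 45), (3, 42), (1, 1), (3, 16), (3, 29), (1, 51), (2, 1608), (3, 70), (1, 31)], [(3, 1), (3, 29), (3, 51), (1, 1608), (1, 45), (2, 173), (1, 42), (1, 77), (3, 187), (1, 70), (2, 268), (2, 31)], [(2, 1), (3, 16), (2, 51), (3, 1608), (1, 45), (2, 173), (3, 42), (1, 77), (3, 187), (2, 70), (2, 268), (3, 31)], [(2, 29), (2, 25), (2, 173), (2, 42), (3, 187), (2, 70), (3, 268), (2, 31)]]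

end Cfsg.Agent.InvChar.Coset.SuzGTwo
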