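import Cfsg.Prelude.Def_ChevG2
import Cfsg.Agent.InvChar.Coset.FieldFour
import Cfsg.Agent.InvChar.Coset.SuzGTwoData

/-!
# Packed vectors of the adjoint module of G2 over the field with four elements
-/

set_option autoImplicit false
set_option linter.all false

noncomputable section

namespace Cfsg.Agent.InvChar.Coset.SuzGTwo

open Cfsg.Agent.CosetCert Matrix

abbrev GI : Type := Cfsg.Lie.chevG2.Idx

def pos : GI → ℕ
  | .inl i => i.val
  | .inr s => 2 + s.val

def ofPair : Bool → Bool → FF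
  | false, false => .zero
  | true, false => .one
  | false, true => .w
  | true, true => .w2

def vec (n : ℕ) (i : GI) : FF := ofPair (n.testBit (2 * pos i)) (n.testBit (2 * pos i + 1))

/-- The mask of the low bits. -/
def lowMask : ℕ := 0x5555555

def timesW (n : ℕ) : ℕ :=
  let hi := Nat.land (Nat.shiftRight n 1) lowMask
  Nat.xor hi (Nat.shiftLeft (Nat.xor (Nat.land n lowMask) hi) 1)

def scale (k n : ℕ) : ℕ :=
  match k with
  | 1 => n
  | 2 => timesW n
  | 3 => Nat.xor n (timesW n)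
  | _ => 0

theorem ofPair_xor : ∀ a b c d : Bool, ofPair (xor a c) (xor b d) = ofPair a b + ofPair c d := by decide

theorem vec_xor (a b : ℕ) : vec (Nat.xor a b) = vec a + vec b := by
  funext i
  show ofPair ((a ^^^ b).testBit _) ((a ^^^ b).testBit _) = _
  rw [Nat.testBit_xor, Nat.testBit_xor, ofPair_xor]
  rfl

theorem vec_zero : vec 0 = 0 := by
  funext i
  simp [vec, ofPair]
  rfl

theorem lowMask_bits : ∀ i : GI, lowMask.testBit (2 * pos i) = true ∧ lowMask.testBit (2 * pos i + 1) = false := by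
  decide +kernel

theorem ofPair_timesW : ∀ a b : Bool, ofPair b (xor a b) = FF.w * ofPair a b := by decide

theorem vec_timesW (n : ℕ) : vec (timesW n) = FF.w • vec n := by
  funext i
  obtain ⟨h1, h2⟩ := lowMask_bits i
  show ofPair ((((n >>> 1) &&& lowMask) ^^^ (((n &&& lowMask) ^^^ ((n >>> 1) &&& lowMask)) <<< 1)).testBit _)
    ((((n >>> 1) &&& lowMask) ^^^ (((n &&& lowMask) ^^^ ((n >>> 1) &&& lowMask)) <<< 1)).testBit _) = FF.w * _
  have hlow : ((((n &&& lowMask) ^^^ ((n >>> 1) &&& lowMask)) <<< 1)).testBit (2 * pos i) = false := by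
    rw [Nat.testBit_shiftLeft]
    by_cases h : 1 ≤ 2 * pos i
    · have hb : lowMask.testBit (2 * pos i - 1) = false := by
        have : ∀ i : GI, lowMask.testBit (2 * pos i - 1) = false ∨ pos i = 0 := by decide +kernel
        rcases this i with h' | h'
        · exact h'
        · omega
      simp [Nat.testBit_xor, Nat.testBit_and, hb]
    · simp [h]
  rw [Nat.testBit_xor, Nat.testBit_xor, hlow, Nat.testBit_shiftLeft, Nat.testBit_and, Nat.testBit_and,
    Nat.testBit_shiftRight, Nat.testBit_shiftRight, show 2 * pos i + 1 - 1 = 2 * pos i from by omega,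
    Nat.testBit_xor, Nat.testBit_and, Nat.testBit_and, Nat.testBit_shiftRight, h1, h2, vec, ← ofPair_timesW]
  simp [Nat.add_comm 1 (2 * pos i)]

theorem vec_scale : ∀ k < 4, ∀ n, vec (scale k n) = FF.ofBits k • vec n := by
  intro k hk n
  interval_cases k
  · show vec 0 = FF.zero • vec n
    rw [vec_zero, show (FF.zero : FF) = 0 from rfl, zero_smul]
  · show vec n = FF.one • vec n
    rw [show (FF.one : FF) = 1 from rfl, one_smul]
  · exact vec_timesW n
  · show vec (Nat.xor n (timesW n)) = FF.w2 • vec n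
    rw [vec_xor, vec_timesW, show (FF.w2 : FF) = 1 + FF.w from rfl, add_smul, one_smul]

def digit (n j : ℕ) : ℕ := Nat.land (Nat.shiftRight n (Nat.mul 2 j)) 3

theorem ofBits_digit (n : ℕ) (i : GI) : FF.ofBits (digit n (pos i)) = vec n i := by
  have h : digit n (pos i) = (n.testBit (2 * pos i)).toNat + 2 * (n.testBit (2 * pos i + 1)).toNat := by
    show (n >>> (2 * pos i)) &&& 3 = _
    rw [show (3 : ℕ) = 2 ^ 2 - 1 from rfl, Nat.and_two_pow_sub_one_eq_mod, Nat.toNat_testBit, Nat.toNat_testBit,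
      Nat.shiftRight_eq_div_pow, pow_succ 2 (2 * pos i), ← Nat.div_div_eq_div_mul]
    omega
  unfold vec
  rw [h]
  cases n.testBit (2 * pos i) <;> cases n.testBit (2 * pos i + 1) <;> rfl

theorem digit_lt (n j : ℕ) : digit n j < 4 := Nat.lt_succ_of_le Nat.and_le_right

/-- The image of a vector under the linear map with the given columns. -/
def mapCols (cols : List ℕ) (n : ℕ) : ℕ :=
  Nat.xor (scale (digit n 0) (nthNat cols 0)) (Nat.xor (scale (digit n 1) (nthNat cols 1))
  (Nat.xor (scale (digit n 2) (nthNat cols 2)) (Nat.xor (scale (digit n 3) (nthNat cols 3))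
  (Nat.xor (scale (digit n 4) (nthNat cols 4)) (Nat.xor (scale (digit n 5) (nthNat cols 5))
  (Nat.xor (scale (digit n 6) (nthNat cols 6)) (Nat.xor (scale (digit n 7) (nthNat cols 7))
  (Nat.xor (scale (digit n 8) (nthNat cols 8)) (Nat.xor (scale (digit n 9) (nthNat cols 9))
  (Nat.xor (scale (digit n 10) (nthNat cols 10)) (Nat.xor (scale (digit n 11) (nthNat cols 11))
  (Nat.xor (scale (digit n 12) (nthNat cols 12)) (scale (digit n 13) (nthNat cols 13)))))))))))))) 

theorem sum_two_twelve {A : Type*} [AddCommMonoid A] (f : Fin 2 ⊕ Fin 12 → A) : ∑ i, f i =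
    f (.inl (0 : Fin 2)) + (f (.inl (1 : Fin 2)) + (f (.inr (0 : Fin 12)) + (f (.inr (1 : Fin 12)) + (f (.inr (2 : Fin 12)) +
    (f (.inr (3 : Fin 12)) + (f (.inr (4 : Fin 12)) + (f (.inr (5 : Fin 12)) + (f (.inr (6 : Fin 12)) +
    (f (.inr (7 : Fin 12)) + (f (.inr (8 : Fin 12)) + (f (.inr (9 : Fin 12)) + (f (.inr (10 : Fin 12)) +
    f (.inr (11 : Fin 12)))))))))))))) := by
  simp only [Fintype.sum_sum_type, Fin.sum_univ_two, Fin.sum_univ_succ, Finset.univ_eq_empty, Finset.sum_empty,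
    add_zero, add_assoc]
  rfl

theorem sum_GI {A : Type*} [AddCommMonoid A] (f : GI → A) : ∑ i, f i =
    f (.inl (0 : Fin 2)) + (f (.inl (1 : Fin 2)) + (f (.inr (0 : Fin 12)) + (f (.inr (1 : Fin 12)) + (f (.inr (2 : Fin 12)) +
    (f (.inr (3 : Fin 12)) + (f (.inr (4 : Fin 12)) + (f (.inr (5 : Fin 12)) + (f (.inr (6 : Fin 12)) +
    (f (.inr (7 : Fin 12)) + (f (.inr (8 : Fin 12)) + (f (.inr (9 : Fin 12)) + (f (.inr (10 : Fin 12)) +
    f (.inr (11 : Fin 12)))))))))))))) := sum_two_twelve f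

theorem vec_mapCols (cols : List ℕ) (M : Matrix GI GI FF) (hM : ∀ j i, vec (nthNat cols (pos j)) i = M i j) (n : ℕ) :
    vec (mapCols cols n) = M *ᵥ vec n := by
  funext i
  have h : ∀ j : GI, M i j * vec n j = (vec (scale (digit n (pos j)) (nthNat cols (pos j)))) i := fun j => by
    rw [vec_scale _ (digit_lt n _), Pi.smul_apply, smul_eq_mul, ofBits_digit, hM, mul_comm]
  rw [Matrix.mulVec, dotProduct, sum_GI]
  simp only [h, mapCols, vec_xor, Pi.add_apply]
  rfl

/-- The root element number `k`. -/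
def xRoot (k : ℕ) : Fin Cfsg.Lie.chevG2.nroots := ⟨k / 3 % 12, Nat.mod_lt _ (by norm_num)⟩

def xArg (k : ℕ) : FF := FF.ofBits (k % 3 + 1)

abbrev xM (k : ℕ) : Matrix GI GI FF := Cfsg.Lie.chevG2.xMat FF (xRoot k) (xArg k)

theorem cols_ok : ∀ k < 36, ∀ j i : GI, vec (nthNat (getWord xCols k) (pos j)) i = xM k i j := by decide +kernel

theorem vec_xM {k : ℕ} (hk : k < 36) (n : ℕ) : vec (mapCols (getWord xCols k) n) = xM k *ᵥ vec n :=
  vec_mapCols _ _ (cols_ok k hk) n

def unit (i : GI) : ℕ := 4 ^ pos i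

theorem vec_unit : ∀ i : GI, vec (unit i) = Pi.single i 1 := by decide +kernel

theorem cols_sq : ∀ k < 36, ∀ i : GI, mapCols (getWord xCols k) (mapCols (getWord xCols k) (unit i)) = unit i := by
  decide +kernel

theorem xM_sq {k : ℕ} (hk : k < 36) : xM k * xM k = 1 := by
  refine Matrix.ext_of_mulVec_single fun i => ?_
  rw [← vec_unit, ← Matrix.mulVec_mulVec, ← vec_xM hk, ← vec_xM hk, cols_sq k hk, Matrix.one_mulVec]

def rootOf (r : ℕ) : Fin Cfsg.Lie.chevG2.nroots := ⟨r % 12, Nat.mod_lt _ (by norm_num)⟩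

abbrev xZ (r : ℕ) : Matrix GI GI FF := Cfsg.Lie.chevG2.xMat FF (rootOf r) FF.zero

theorem xMat_zero_aux : ∀ r < 12, ∀ j i : GI, xZ r i j = (1 : Matrix GI GI FF) i j := by decide +kernel

theorem xMat_zero (r : Fin Cfsg.Lie.chevG2.nroots) : Cfsg.Lie.chevG2.xMat FF r FF.zero = 1 := by
  have hr : r.val < 12 := r.2
  have e : rootOf r.val = r := Fin.ext (Nat.mod_eq_of_lt hr)
  ext i j
  have h := xMat_zero_aux r.val hr j i
  rwa [xZ, e] at h

theorem every_param : ∀ r : Fin Cfsg.Lie.chevG2.nroots, ∀ t : FF, t ≠ FF.zero → ∃ k < 36, xRoot k = r ∧ xArg k = t := by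
  decide +kernel

/-- The scalar multiples. -/
def isMult (a b : ℕ) : Bool :=
  Nat.beq a b || Nat.beq a (scale 2 b) || Nat.beq a (scale 3 b)

theorem isMult_spec {a b : ℕ} (h : isMult a b = true) : ∃ s : FF, vec a = s • vec b := by
  simp only [isMult, Bool.or_eq_true] at h
  rcases h with (h | h) | h <;> rw [Nat.eq_of_beq_eq_true h]
  · exact ⟨1, (one_smul _ _).symm⟩
  · exact ⟨_, vec_scale 2 (by norm_num) b⟩
  · exact ⟨_, vec_scale 3 (by norm_num) b⟩

end Cfsg.Agent.InvChar.Coset.SuzGTwo
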