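import Cfsg.Agent.InvChar.Coset.SuzIndex
import Cfsg.Agent.InvChar.Coset.SuzGTwoVec

/-!
# The words move the lines as the root elements do
-/

set_option autoImplicit false
set_option linter.all false

noncomputable section

namespace Cfsg.Agent.InvChar.Coset.SuzGTwo

open Cfsg.Agent.CosetCert

def rowMoves (cols w : List ℕ) (c : ℕ) : Bool :=
  Nat.beq (vTree.get c) 0 ||
    (isMult (mapCols cols (vTree.get c)) (vTree.get (Suz.table.run w c)) &&
      !(Nat.beq (vTree.get (Suz.table.run w c)) 0))

def rowsMove (cols w : List ℕ) : ℕ → Bool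
  | 0 => true
  | c + 1 => rowMoves cols w c && rowsMove cols w c

theorem rowsMove_spec {cols w : List ℕ} : ∀ n, rowsMove cols w n = true → ∀ c < n, rowMoves cols w c = true
  | 0, _, c, hc => absurd hc (by omega)
  | n + 1, h, c, hc => by
    simp only [rowsMove, Bool.and_eq_true] at h
    rcases Nat.lt_succ_iff_lt_or_eq.mp hc with e | rfl
    · exact rowsMove_spec n h.2 c e
    · exact h.1

def gensMove (a : ℕ) : ℕ → Bool
  | 0 => true
  | m + 1 => rowsMove (getWord xCols (a + m)) (getWord xWords (a + m)) 1782 && gensMove a m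

theorem gensMove_spec {a : ℕ} : ∀ m, gensMove a m = true → ∀ k, a ≤ k → k < a + m → ∀ c < 1782,
    rowMoves (getWord xCols k) (getWord xWords k) c = true
  | 0, _, k, h1, h2 => by omega
  | m + 1, h, k, h1, h2 => by
    simp only [gensMove, Bool.and_eq_true] at h
    rcases Nat.lt_succ_iff_lt_or_eq.mp (show k < (a + m).succ by omega) with e | rfl
    · exact gensMove_spec m h.2 k h1 e
    · exact rowsMove_spec _ h.1

theorem move0 : gensMove 0 9 = true := by decide +kernel

theorem move1 : gensMove 9 9 = true := by decide +kernel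

theorem move2 : gensMove 18 9 = true := by decide +kernel

theorem move3 : gensMove 27 9 = true := by decide +kernel

theorem moves {k : ℕ} (hk : k < 36) {c : ℕ} (hc : c < 1782) :
    rowMoves (getWord xCols k) (getWord xWords k) c = true := by
  rcases Nat.lt_or_ge k 9 with h | h
  · exact gensMove_spec 9 move0 k (Nat.zero_le k) (by omega) c hc
  rcases Nat.lt_or_ge k 18 with h' | h'
  · exact gensMove_spec 9 move1 k h (by omega) c hc
  rcases Nat.lt_or_ge k 27 with h'' | h''
  · exact gensMove_spec 9 move2 k h' (by omega) c hc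
  exact gensMove_spec 9 move3 k h'' (by omega) c hc

end Cfsg.Agent.InvChar.Coset.SuzGTwo
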