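import Cfsg.Agent.InvChar.Coset.SuzOrder
import Cfsg.Agent.InvChar.Coset.SuzGTwoMoves
import Cfsg.Agent.S1055
import Cfsg.Agent.S1059

/-!
# A subgroup of the presented Suzuki group isomorphic to G2(4)
-/

set_option autoImplicit false
set_option linter.all false

noncomputable section

namespace Cfsg.Agent.InvChar.Coset.SuzGTwo

open Cfsg.Agent.CosetCert Matrix

/-- A predicate closed under products holds on the subgroup generated in a finite group. -/
theorem closure_induction_finite {A : Type*} [Group A] [Finite A] {s : Set A} {Q : A → Prop}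
    (mem : ∀ a ∈ s, Q a) (one : Q 1) (mul : ∀ a b, Q a → Q b → Q (a * b)) {a : A}
    (ha : a ∈ Subgroup.closure s) : Q a := by
  rw [← Subgroup.mem_toSubmonoid, Subgroup.closure_toSubmonoid_of_finite] at ha
  induction ha using Submonoid.closure_induction with
  | mem x hx => exact mem x hx
  | one => exact one
  | mul x y _ _ hx hy => exact mul x y hx hy

abbrev SuzG : Type := Cfsg.Spor.Suz

abbrev GL14 : Type := GL GI FF

def G2 : Subgroup GL14 := Cfsg.Lie.chevG2.group FF

def H1 : Subgroup SuzG := Subgroup.closure (wprod Suz.data.gen '' {w | w ∈ Suz.table.C.S})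

theorem card_H1 : Nat.card H1 = 251596800 := by
  have h := H1.card_mul_index
  rw [H1, index_eq Suz.checked Suz.data.gen (Suz.data.hom Suz.checked) (Suz.data.hom_gen Suz.checked) Suz.data.gen_sq
    Suz.data.gen_rel Suz.data.gen_top rfl, Suz.simple_and_card.2, show Suz.table.n = 1782 by decide +kernel] at h
  rw [H1]
  exact Nat.eq_of_mul_eq_mul_right (by norm_num : 0 < 1782) (h.trans (by norm_num))

theorem finite_Suz : Finite SuzG := Nat.finite_of_card_ne_zero (by rw [Suz.simple_and_card.2]; norm_num)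

def xG (k : ℕ) : GL14 := if hk : k < 36 then ⟨xM k, xM k, xM_sq hk, xM_sq hk⟩ else 1

theorem xG_coe {k : ℕ} (hk : k < 36) : (xG k : Matrix GI GI FF) = xM k := by
  rw [xG, dif_pos hk]

theorem xG_mem {k : ℕ} (hk : k < 36) : xG k ∈ G2 := Subgroup.subset_closure ⟨xRoot k, xArg k, xG_coe hk⟩

theorem words_small : ∀ k < 36, ∀ y ∈ getWord xWords k, y < 6 ∧ y < Suz.table.C.K := by decide +kernel

theorem word_mem {k : ℕ} (hk : k < 36) : wprod Suz.data.gen (getWord xWords k) ∈ H1 := by
  have hS : ∀ y < 6, [y] ∈ Suz.table.C.S := by decide +kernel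
  have h : ∀ w : List ℕ, (∀ y ∈ w, y < 6) → wprod Suz.data.gen w ∈ H1 := by
    intro w
    induction w with
    | nil => intro _; exact one_mem H1
    | cons y w ih =>
      intro hw
      refine mul_mem (ih fun z hz => hw z (List.mem_cons_of_mem _ hz)) (Subgroup.subset_closure ⟨[y], hS y (hw y List.mem_cons_self), ?_⟩)
      simp [wprod]
  exact h _ fun y hy => (words_small k hk y hy).1

def gen2 (k : Fin 36) : SuzG × GL14 := (wprod Suz.data.gen (getWord xWords k), xG k)

def PG : Subgroup (SuzG × GL14) := Subgroup.closure (Set.range gen2)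

/-- A point of the orbit. -/
def InOrb (c : Fin Suz.table.n) : Prop := vTree.get c ≠ 0

theorem PG_compat (p : SuzG × GL14) (hp : p ∈ PG) : ∀ c : Fin Suz.table.n, InOrb c →
    InOrb (Suz.data.hom Suz.checked p.1 c) ∧ ∃ s : FF,
      (p.2 : Matrix GI GI FF) *ᵥ vec (vTree.get c) = s • vec (vTree.get (Suz.data.hom Suz.checked p.1 c).val) := by
  haveI := finite_Suz
  refine closure_induction_finite (Q := fun p : SuzG × GL14 => ∀ c : Fin Suz.table.n, InOrb c →
    InOrb (Suz.data.hom Suz.checked p.1 c) ∧ ∃ s : FF,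
      (p.2 : Matrix GI GI FF) *ᵥ vec (vTree.get c) = s • vec (vTree.get (Suz.data.hom Suz.checked p.1 c).val))
    ?_ ?_ ?_ hp
  · rintro _ ⟨k, rfl⟩ c hc
    have hn : Suz.table.n = 1782 := by decide +kernel
    have hm := moves k.2 (show c.val < 1782 from hn ▸ c.2)
    simp only [rowMoves, Bool.or_eq_true, Bool.and_eq_true, Bool.not_eq_true'] at hm
    rcases hm with hm | ⟨hm, hz⟩
    · exact absurd (Nat.eq_of_beq_eq_true hm) hc
    show InOrb (Suz.data.hom Suz.checked (wprod Suz.data.gen (getWord xWords k)) c) ∧ ∃ s : FF,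
      (xG k : Matrix GI GI FF) *ᵥ vec (vTree.get c) =
        s • vec (vTree.get (Suz.data.hom Suz.checked (wprod Suz.data.gen (getWord xWords k)) c).val)
    rw [InOrb, map_wprod, funext (Suz.data.hom_gen Suz.checked),
      wprod_tau Suz.checked _ (fun y hy => (words_small k k.2 y hy).2), xG_coe k.2, ← vec_xM k.2]
    exact ⟨fun h => by rw [h] at hz; simp at hz, isMult_spec hm⟩
  · intro c hc
    rw [Prod.fst_one, map_one]
    exact ⟨hc, 1, by simp⟩
  · intro a b ha hb c hc
    obtain ⟨hb1, s, hs⟩ := hb c hc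
    obtain ⟨ha1, t, ht⟩ := ha _ hb1
    rw [Prod.fst_mul, map_mul, Equiv.Perm.mul_apply]
    refine ⟨ha1, s * t, ?_⟩
    rw [Prod.snd_mul, Units.val_mul, ← Matrix.mulVec_mulVec, hs, Matrix.mulVec_smul, ht, smul_smul]

theorem triples_ok : ∀ e ∈ triples, e.1 < 1782 ∧ e.2.1 < 1782 ∧ e.2.2.1 < 1782 ∧ e.2.2.2.1 < 4 ∧ e.2.2.2.2 < 4 ∧
    e.2.2.2.2 ≠ 0 ∧ e.2.2.2.1 ≠ 0 ∧
    scale e.2.2.2.2 (vTree.get e.2.2.1) = Nat.xor (vTree.get e.1) (scale e.2.2.2.1 (vTree.get e.2.1)) ∧
    vTree.get e.1 ≠ 0 ∧ vTree.get e.2.1 ≠ 0 ∧ vTree.get e.2.2.1 ≠ 0 := by decide +kernel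

theorem triples_indep : ∀ e ∈ triples, ∀ p q : FF,
    p • vec (vTree.get e.1) = q • vec (vTree.get e.2.1) → p = 0 ∧ q = 0 := by decide +kernel

/-- The rows reached from the first one along the triples. -/
def reached : List ℕ → List (ℕ × ℕ × ℕ × ℕ × ℕ) → List ℕ
  | done, [] => done
  | done, e :: l => if e.1 ∈ done then reached (e.2.1 :: e.2.2.1 :: done) l else reached done l

theorem combs_ok : ∀ i : GI, (∀ e ∈ combs.getD (pos i) [], e.1 < 4 ∧ e.2 ∈ reached [root] triples) ∧
    (combs.getD (pos i) []).foldr (fun e z => Nat.xor (scale e.1 (vTree.get e.2)) z) 0 = unit i := by decide +kernel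

theorem root_ok : root < 1782 ∧ vTree.get root ≠ 0 := by decide +kernel

theorem scalar_of_fixes (M : Matrix GI GI FF)
    (h : ∀ c < 1782, vTree.get c ≠ 0 → ∃ s : FF, M *ᵥ vec (vTree.get c) = s • vec (vTree.get c)) :
    ∃ s : FF, M = s • (1 : Matrix GI GI FF) := by
  obtain ⟨s, hs⟩ := h root root_ok.1 root_ok.2
  refine ⟨s, ?_⟩
  have hreach : ∀ (l : List (ℕ × ℕ × ℕ × ℕ × ℕ)) (done : List ℕ), (∀ e ∈ l, e ∈ triples) →
      (∀ c ∈ done, M *ᵥ vec (vTree.get c) = s • vec (vTree.get c)) →
      ∀ c ∈ reached done l, M *ᵥ vec (vTree.get c) = s • vec (vTree.get c) := by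
    intro l
    induction l with
    | nil => intro done _ hd c hc; exact hd c hc
    | cons e l ih =>
      intro done hl hd
      rw [reached]
      split
      · next hmem =>
        refine ih _ (fun f hf => hl f (List.mem_cons_of_mem _ hf)) ?_
        have hkey : M *ᵥ vec (vTree.get e.2.1) = s • vec (vTree.get e.2.1) ∧
            M *ᵥ vec (vTree.get e.2.2.1) = s • vec (vTree.get e.2.2.1) := by
          obtain ⟨-, hb, hc, hk, hm, hm0, hk0, heq, -, hb0, hc0⟩ := triples_ok e (hl e List.mem_cons_self)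
          obtain ⟨t, ht⟩ := h _ hb hb0
          obtain ⟨r, hr⟩ := h _ hc hc0
          have hv := congrArg vec heq
          rw [vec_scale _ hm, vec_xor, vec_scale _ hk] at hv
          have hl2 := congrArg (fun v => M *ᵥ v) hv
          simp only [Matrix.mulVec_add, Matrix.mulVec_smul] at hl2
          rw [hr, ht, hd _ hmem, smul_smul, mul_comm, ← smul_smul, hv, smul_add, smul_smul, smul_smul] at hl2
          have hmv : (r - s) • vec (vTree.get e.1) = (FF.ofBits e.2.2.2.1 * t - r * FF.ofBits e.2.2.2.1) • vec (vTree.get e.2.1) := by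
            rw [sub_smul, sub_smul, sub_eq_sub_iff_add_eq_add, hl2, add_comm]
          obtain ⟨h1, h2⟩ := triples_indep e (hl e List.mem_cons_self) _ _ hmv
          have hne : ∀ k < 4, k ≠ 0 → FF.ofBits k ≠ 0 := by decide
          rw [sub_eq_zero] at h1 h2
          subst h1
          rw [mul_comm (FF.ofBits _)] at h2
          rw [mul_right_cancel₀ (hne _ hk hk0) h2] at ht
          exact ⟨ht, hr⟩
        intro c hc
        rcases List.mem_cons.mp hc with rfl | hc
        · exact hkey.1
        rcases List.mem_cons.mp hc with rfl | hc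
        · exact hkey.2
        · exact hd c hc
      · exact ih _ (fun f hf => hl f (List.mem_cons_of_mem _ hf)) hd
  have hall := hreach triples [root] (fun e he => he) (by simpa using hs)
  refine Matrix.ext_of_mulVec_single fun i => ?_
  obtain ⟨hsrc, heq⟩ := combs_ok i
  have hfold : ∀ l : List (ℕ × ℕ), (∀ e ∈ l, e.1 < 4 ∧ e.2 ∈ reached [root] triples) →
      M *ᵥ vec (l.foldr (fun e z => Nat.xor (scale e.1 (vTree.get e.2)) z) 0) =
        s • vec (l.foldr (fun e z => Nat.xor (scale e.1 (vTree.get e.2)) z) 0) := by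
    intro l
    induction l with
    | nil => intro _; simp [vec_zero]
    | cons e l ih =>
      intro hl
      obtain ⟨h4, hmem⟩ := hl e List.mem_cons_self
      rw [List.foldr_cons, vec_xor, vec_scale _ h4, Matrix.mulVec_add, Matrix.mulVec_smul, hall _ hmem,
        ih fun f hf => hl f (List.mem_cons_of_mem _ hf), smul_add, smul_comm]
  have := hfold _ hsrc
  rw [heq, vec_unit] at this
  rw [this, Matrix.smul_mulVec, Matrix.one_mulVec]

theorem G2_facts : IsSimpleGroup G2 ∧ ¬ IsMulCommutative G2 ∧ Nat.card G2 = 251596800 := by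
  obtain ⟨hs, hn⟩ := S1055.result (F := FF) ⟨FF.w, by decide, by decide⟩
  refine ⟨hs, hn, ?_⟩
  have h := S1059.result (F := FF) (q := 4) FF.card
  rw [show (G2 : Subgroup GL14) = Cfsg.Lie.chevG2.group FF from rfl, h]
  norm_num

theorem scalar_mem {g : GL14} (hg : g ∈ G2) {s : FF} (hs : (g : Matrix GI GI FF) = s • 1) : g = 1 := by
  obtain ⟨hsim, hn, -⟩ := G2_facts
  haveI := hsim
  have hc : (⟨g, hg⟩ : G2) ∈ Subgroup.center G2 := Subgroup.mem_center_iff.mpr fun k => Subtype.ext (Units.ext (by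
    show ((k : GL14) : Matrix GI GI FF) * (g : Matrix GI GI FF) = (g : Matrix GI GI FF) * ((k : GL14) : Matrix GI GI FF)
    rw [hs, mul_smul_comm, mul_one, smul_mul_assoc, one_mul]))
  rcases IsSimpleGroup.eq_bot_or_eq_top_of_normal (Subgroup.center G2) inferInstance with h | h
  · rw [h, Subgroup.mem_bot] at hc
    exact congrArg Subtype.val hc
  · exact absurd ⟨⟨fun a b => Subgroup.mem_center_iff.mp (h ▸ Subgroup.mem_top b) a⟩⟩ hn

theorem PG_fst_injective : Function.Injective ((MonoidHom.fst SuzG GL14).comp PG.subtype) := by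
  rw [injective_iff_map_eq_one]
  rintro ⟨⟨h, M⟩, hp⟩ (rfl : h = 1)
  refine Subtype.ext (Prod.ext rfl ?_)
  show M = 1
  have hn : Suz.table.n = 1782 := by decide +kernel
  obtain ⟨s, hs⟩ := scalar_of_fixes (M : Matrix GI GI FF) fun c hc h0 => by
    obtain ⟨-, s, hs⟩ := PG_compat _ hp ⟨c, hn ▸ hc⟩ h0
    rw [map_one, Equiv.Perm.one_apply] at hs
    exact ⟨s, hs⟩
  refine scalar_mem ?_ hs
  have hle : PG ≤ G2.comap (MonoidHom.snd SuzG GL14) := by
    rw [PG, Subgroup.closure_le]
    rintro _ ⟨k, rfl⟩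
    exact xG_mem k.2
  exact hle hp

theorem snd_range : ((MonoidHom.snd SuzG GL14).comp PG.subtype).range = G2 := by
  rw [MonoidHom.range_eq_map, ← Subgroup.map_map, ← MonoidHom.range_eq_map, Subgroup.range_subtype, PG,
    MonoidHom.map_closure, ← Set.range_comp]
  apply le_antisymm
  · rw [Subgroup.closure_le]
    rintro _ ⟨k, rfl⟩
    exact xG_mem k.2
  · rw [G2, Cfsg.Lie.ChevalleyDatum.group, Subgroup.closure_le]
    rintro g ⟨r, t, hg⟩
    rcases eq_or_ne t FF.zero with rfl | ht
    · rw [xMat_zero r] at hg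
      rw [show g = 1 from Units.ext hg]
      exact one_mem _
    · obtain ⟨k, hk, rfl, rfl⟩ := every_param r t ht
      rw [show g = xG k from Units.ext (hg.trans (xG_coe hk).symm)]
      exact Subgroup.subset_closure ⟨⟨k, hk⟩, rfl⟩

theorem fst_range : ((MonoidHom.fst SuzG GL14).comp PG.subtype).range ≤ H1 := by
  rw [MonoidHom.range_eq_map, ← Subgroup.map_map, ← MonoidHom.range_eq_map, Subgroup.range_subtype, PG,
    MonoidHom.map_closure, ← Set.range_comp, Subgroup.closure_le]
  rintro _ ⟨k, rfl⟩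
  exact word_mem k.2

theorem nonempty_iso : Nonempty (H1 ≃* Cfsg.Lie.chevG2.group FF) := by
  obtain ⟨-, -, hG⟩ := G2_facts
  haveI := finite_Suz
  haveI : Finite PG := Finite.of_injective _ PG_fst_injective
  let f : PG →* H1 := ((MonoidHom.fst SuzG GL14).comp PG.subtype).codRestrict H1 fun p => fst_range ⟨p, rfl⟩
  have hf : Function.Injective f := fun a b h => PG_fst_injective (congrArg Subtype.val h)
  let g : PG →* G2 := ((MonoidHom.snd SuzG GL14).comp PG.subtype).codRestrict G2 fun p => snd_range ▸ ⟨p, rfl⟩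
  have hg : Function.Surjective g := by
    intro y
    obtain ⟨p, hp⟩ : (y : GL14) ∈ ((MonoidHom.snd SuzG GL14).comp PG.subtype).range := by
      rw [snd_range]; exact y.2
    exact ⟨p, Subtype.ext hp⟩
  have h1 := Nat.card_le_card_of_injective _ hf
  have h2 := Nat.card_le_card_of_surjective _ hg
  rw [card_H1] at h1
  rw [hG] at h2
  exact ⟨(MulEquiv.ofBijective f (hf.bijective_of_nat_card_le (by rw [card_H1]; omega))).symm.trans
    (MulEquiv.ofBijective g (hg.bijective_of_nat_card_le (by rw [hG]; omega)))⟩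

end Cfsg.Agent.InvChar.Coset.SuzGTwo
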