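import Cfsg.Agent.InvChar.Coset.SuzHData
import Cfsg.Agent.InvChar.Coset.SuzHSteps0
import Cfsg.Agent.InvChar.Coset.SuzHSteps1
import Cfsg.Agent.InvChar.Coset.SuzHSteps2
import Cfsg.Agent.InvChar.Coset.SuzHSteps3
import Cfsg.Agent.InvChar.Coset.SuzHSteps4
import Cfsg.Agent.InvChar.Coset.SuzHEdges0

/-!
# Coset certificate check
-/

set_option autoImplicit false
set_option linter.all false

namespace Cfsg.Agent.InvChar.Coset.SuzH

open Cfsg.Agent.CosetCert

theorem stepsUpto0 : ∀ i < 1000, stepOK cert i = true :=
  steps_add 0 1000 (steps_zero cert) steps0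

theorem stepsUpto1 : ∀ i < 2000, stepOK cert i = true :=
  steps_add 1000 1000 (stepsUpto0) steps1

theorem stepsUpto2 : ∀ i < 3000, stepOK cert i = true :=
  steps_add 2000 1000 (stepsUpto1) steps2

theorem stepsUpto3 : ∀ i < 4000, stepOK cert i = true :=
  steps_add 3000 1000 (stepsUpto2) steps3

theorem stepsUpto4 : ∀ i < 5000, stepOK cert i = true :=
  steps_add 4000 1000 (stepsUpto3) steps4

theorem stepsUpto5 : ∀ i < 6000, stepOK cert i = true :=
  steps_add 5000 1000 (stepsUpto4) steps5

theorem stepsUpto6 : ∀ i < 7000, stepOK cert i = true :=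
  steps_add 6000 1000 (stepsUpto5) steps6

theorem stepsUpto7 : ∀ i < 8000, stepOK cert i = true :=
  steps_add 7000 1000 (stepsUpto6) steps7

theorem stepsUpto8 : ∀ i < 9000, stepOK cert i = true :=
  steps_add 8000 1000 (stepsUpto7) steps8

theorem stepsUpto9 : ∀ i < 10000, stepOK cert i = true :=
  steps_add 9000 1000 (stepsUpto8) steps9

theorem stepsUpto10 : ∀ i < 11000, stepOK cert i = true :=
  steps_add 10000 1000 (stepsUpto9) steps10

theorem stepsUpto11 : ∀ i < 12000, stepOK cert i = true :=
  steps_add 11000 1000 (stepsUpto10) steps11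

theorem stepsUpto12 : ∀ i < 13000, stepOK cert i = true :=
  steps_add 12000 1000 (stepsUpto11) steps12

theorem stepsUpto13 : ∀ i < 14000, stepOK cert i = true :=
  steps_add 13000 1000 (stepsUpto12) steps13

theorem stepsUpto14 : ∀ i < 15000, stepOK cert i = true :=
  steps_add 14000 1000 (stepsUpto13) steps14

theorem stepsUpto15 : ∀ i < 16000, stepOK cert i = true :=
  steps_add 15000 1000 (stepsUpto14) steps15

theorem stepsUpto16 : ∀ i < 17000, stepOK cert i = true :=
  steps_add 16000 1000 (stepsUpto15) steps16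

theorem stepsUpto17 : ∀ i < 18000, stepOK cert i = true :=
  steps_add 17000 1000 (stepsUpto16) steps17

theorem stepsUpto18 : ∀ i < 19000, stepOK cert i = true :=
  steps_add 18000 1000 (stepsUpto17) steps18

theorem stepsUpto19 : ∀ i < 20000, stepOK cert i = true :=
  steps_add 19000 1000 (stepsUpto18) steps19

theorem stepsUpto20 : ∀ i < 21000, stepOK cert i = true :=
  steps_add 20000 1000 (stepsUpto19) steps20

theorem stepsUpto21 : ∀ i < 22000, stepOK cert i = true :=
  steps_add 21000 1000 (stepsUpto20) steps21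

theorem stepsUpto22 : ∀ i < 23000, stepOK cert i = true :=
  steps_add 22000 1000 (stepsUpto21) steps22

theorem stepsUpto23 : ∀ i < 24000, stepOK cert i = true :=
  steps_add 23000 1000 (stepsUpto22) steps23

theorem stepsUpto24 : ∀ i < 25000, stepOK cert i = true :=
  steps_add 24000 1000 (stepsUpto23) steps24

theorem stepsUpto25 : ∀ i < 26000, stepOK cert i = true :=
  steps_add 25000 1000 (stepsUpto24) steps25

theorem stepsUpto26 : ∀ i < 27000, stepOK cert i = true :=
  steps_add 26000 1000 (stepsUpto25) steps26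

theorem stepsUpto27 : ∀ i < 28000, stepOK cert i = true :=
  steps_add 27000 1000 (stepsUpto26) steps27

theorem stepsUpto28 : ∀ i < 29000, stepOK cert i = true :=
  steps_add 28000 1000 (stepsUpto27) steps28

theorem stepsUpto29 : ∀ i < 30000, stepOK cert i = true :=
  steps_add 29000 1000 (stepsUpto28) steps29

theorem stepsUpto30 : ∀ i < 31000, stepOK cert i = true :=
  steps_add 30000 1000 (stepsUpto29) steps30

theorem stepsUpto31 : ∀ i < 32000, stepOK cert i = true :=
  steps_add 31000 1000 (stepsUpto30) steps31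

theorem stepsUpto32 : ∀ i < 33000, stepOK cert i = true :=
  steps_add 32000 1000 (stepsUpto31) steps32

theorem stepsUpto33 : ∀ i < 34000, stepOK cert i = true :=
  steps_add 33000 1000 (stepsUpto32) steps33

theorem stepsUpto34 : ∀ i < 35000, stepOK cert i = true :=
  steps_add 34000 1000 (stepsUpto33) steps34

theorem stepsUpto35 : ∀ i < 36000, stepOK cert i = true :=
  steps_add 35000 1000 (stepsUpto34) steps35

theorem stepsUpto36 : ∀ i < 37000, stepOK cert i = true :=
  steps_add 36000 1000 (stepsUpto35) steps36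

theorem stepsUpto37 : ∀ i < 38000, stepOK cert i = true :=
  steps_add 37000 1000 (stepsUpto36) steps37

theorem stepsUpto38 : ∀ i < 39000, stepOK cert i = true :=
  steps_add 38000 1000 (stepsUpto37) steps38

theorem stepsUpto39 : ∀ i < 40000, stepOK cert i = true :=
  steps_add 39000 1000 (stepsUpto38) steps39

theorem stepsUpto40 : ∀ i < 41000, stepOK cert i = true :=
  steps_add 40000 1000 (stepsUpto39) steps40

theorem stepsUpto41 : ∀ i < 42000, stepOK cert i = true :=
  steps_add 41000 1000 (stepsUpto40) steps41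

theorem stepsUpto42 : ∀ i < 43000, stepOK cert i = true :=
  steps_add 42000 1000 (stepsUpto41) steps42

theorem stepsUpto43 : ∀ i < 44000, stepOK cert i = true :=
  steps_add 43000 1000 (stepsUpto42) steps43

theorem stepsUpto44 : ∀ i < 45000, stepOK cert i = true :=
  steps_add 44000 1000 (stepsUpto43) steps44

theorem stepsUpto45 : ∀ i < 46000, stepOK cert i = true :=
  steps_add 45000 1000 (stepsUpto44) steps45

theorem stepsUpto46 : ∀ i < 47000, stepOK cert i = true :=
  steps_add 46000 1000 (stepsUpto45) steps46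

theorem stepsUpto47 : ∀ i < 48000, stepOK cert i = true :=
  steps_add 47000 1000 (stepsUpto46) steps47

theorem stepsUpto48 : ∀ i < 49000, stepOK cert i = true :=
  steps_add 48000 1000 (stepsUpto47) steps48

theorem stepsUpto49 : ∀ i < 50000, stepOK cert i = true :=
  steps_add 49000 1000 (stepsUpto48) steps49

theorem stepsUpto50 : ∀ i < 51000, stepOK cert i = true :=
  steps_add 50000 1000 (stepsUpto49) steps50

theorem stepsUpto51 : ∀ i < 52000, stepOK cert i = true :=
  steps_add 51000 1000 (stepsUpto50) steps51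

theorem stepsUpto52 : ∀ i < 53000, stepOK cert i = true :=
  steps_add 52000 1000 (stepsUpto51) steps52

theorem stepsUpto53 : ∀ i < 54000, stepOK cert i = true :=
  steps_add 53000 1000 (stepsUpto52) steps53

theorem stepsUpto54 : ∀ i < 55000, stepOK cert i = true :=
  steps_add 54000 1000 (stepsUpto53) steps54

theorem stepsUpto55 : ∀ i < 56000, stepOK cert i = true :=
  steps_add 55000 1000 (stepsUpto54) steps55

theorem stepsUpto56 : ∀ i < 57000, stepOK cert i = true :=
  steps_add 56000 1000 (stepsUpto55) steps56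

theorem stepsUpto57 : ∀ i < 58000, stepOK cert i = true :=
  steps_add 57000 1000 (stepsUpto56) steps57

theorem stepsUpto58 : ∀ i < 59000, stepOK cert i = true :=
  steps_add 58000 1000 (stepsUpto57) steps58

theorem stepsUpto59 : ∀ i < 60000, stepOK cert i = true :=
  steps_add 59000 1000 (stepsUpto58) steps59

theorem stepsUpto60 : ∀ i < 61000, stepOK cert i = true :=
  steps_add 60000 1000 (stepsUpto59) steps60

theorem stepsUpto61 : ∀ i < 62000, stepOK cert i = true :=
  steps_add 61000 1000 (stepsUpto60) steps61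

theorem stepsUpto62 : ∀ i < 63000, stepOK cert i = true :=
  steps_add 62000 1000 (stepsUpto61) steps62

theorem stepsUpto63 : ∀ i < 63998, stepOK cert i = true :=
  steps_add 63000 998 (stepsUpto62) steps63

theorem edgesUpto0 : ∀ i < 500, ∀ x < table.C.K, EdgeAt table i x :=
  edges_add 0 500 (edges_zero table) edges0

theorem edgesUpto1 : ∀ i < 1000, ∀ x < table.C.K, EdgeAt table i x :=
  edges_add 500 500 (edgesUpto0) edges1

theorem edgesUpto2 : ∀ i < 1500, ∀ x < table.C.K, EdgeAt table i x :=
  edges_add 1000 500 (edgesUpto1) edges2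

theorem edgesUpto3 : ∀ i < 2000, ∀ x < table.C.K, EdgeAt table i x :=
  edges_add 1500 500 (edgesUpto2) edges3

theorem edgesUpto4 : ∀ i < 2500, ∀ x < table.C.K, EdgeAt table i x :=
  edges_add 2000 500 (edgesUpto3) edges4

theorem edgesUpto5 : ∀ i < 3000, ∀ x < table.C.K, EdgeAt table i x :=
  edges_add 2500 500 (edgesUpto4) edges5

theorem edgesUpto6 : ∀ i < 3500, ∀ x < table.C.K, EdgeAt table i x :=
  edges_add 3000 500 (edgesUpto5) edges6

theorem edgesUpto7 : ∀ i < 4000, ∀ x < table.C.K, EdgeAt table i x :=
  edges_add 3500 500 (edgesUpto6) edges7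

theorem edgesUpto8 : ∀ i < 4500, ∀ x < table.C.K, EdgeAt table i x :=
  edges_add 4000 500 (edgesUpto7) edges8

theorem edgesUpto9 : ∀ i < 5000, ∀ x < table.C.K, EdgeAt table i x :=
  edges_add 4500 500 (edgesUpto8) edges9

theorem edgesUpto10 : ∀ i < 5500, ∀ x < table.C.K, EdgeAt table i x :=
  edges_add 5000 500 (edgesUpto9) edges10

theorem edgesUpto11 : ∀ i < 6000, ∀ x < table.C.K, EdgeAt table i x :=
  edges_add 5500 500 (edgesUpto10) edges11

theorem edgesUpto12 : ∀ i < 6500, ∀ x < table.C.K, EdgeAt table i x :=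
  edges_add 6000 500 (edgesUpto11) edges12

theorem edgesUpto13 : ∀ i < 7000, ∀ x < table.C.K, EdgeAt table i x :=
  edges_add 6500 500 (edgesUpto12) edges13

theorem edgesUpto14 : ∀ i < 7500, ∀ x < table.C.K, EdgeAt table i x :=
  edges_add 7000 500 (edgesUpto13) edges14

theorem edgesUpto15 : ∀ i < 8000, ∀ x < table.C.K, EdgeAt table i x :=
  edges_add 7500 500 (edgesUpto14) edges15

theorem edgesUpto16 : ∀ i < 8500, ∀ x < table.C.K, EdgeAt table i x :=
  edges_add 8000 500 (edgesUpto15) edges16

theorem edgesUpto17 : ∀ i < 9000, ∀ x < table.C.K, EdgeAt table i x :=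
  edges_add 8500 500 (edgesUpto16) edges17

theorem edgesUpto18 : ∀ i < 9072, ∀ x < table.C.K, EdgeAt table i x :=
  edges_add 9000 72 (edgesUpto17) edges18

theorem closed : Closed table where
  start := by decide +kernel
  steps := stepsUpto63
  cells := edgesUpto18
  root := by decide +kernel
  pos := by decide +kernel


end Cfsg.Agent.InvChar.Coset.SuzH
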