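import Cfsg.Agent.InvChar.Coset.SuzOrder
import Cfsg.Agent.InvChar.Coset.SuzHCheck
import Cfsg.Agent.InvChar.Coset.SuzHLevels

/-!
# A subgroup of order 19595520 of the presented Suzuki group
-/

set_option autoImplicit false
set_option linter.all false

noncomputable section

namespace Cfsg.Agent.InvChar.Coset.Suz

open Cfsg.Agent.CosetCert

theorem bdd_H : Bdd (subg data.gen [0, 1, 2, 3, 5, 6]) (9072 * (216 * (10 * 1))) := by
  have hV := data.gen_rel
  have h0 : Bdd (subg data.gen ([].map (nthNat [0, 1]))) 1 := bdd_subg_nil data.gen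
  have h1 := bdd_subg SuzC.closed data.gen data.gen_sq table.C.W hV [0, 1] [] (by decide +kernel)
    (by decide +kernel) (by decide +kernel) (by decide +kernel) (by decide +kernel) h0
  have h2 := bdd_subg SuzB.closed data.gen data.gen_sq table.C.W hV [0, 1, 2, 3] [0, 1] (by decide +kernel)
    (by decide +kernel) (by decide +kernel) (by decide +kernel) (by decide +kernel) h1
  exact bdd_subg SuzH.closed data.gen data.gen_sq table.C.W hV [0, 1, 2, 3, 5, 6] [0, 1, 2, 3] (by decide +kernel)
    (by decide +kernel) (by decide +kernel) (by decide +kernel) (by decide +kernel) h2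

theorem index_H : (subg data.gen [0, 1, 2, 3, 5, 6]).index = 22880 := by
  obtain ⟨-, hcard⟩ := simple_and_card
  have hb := bdd_H.2
  haveI := bdd_H.1
  set H := subg data.gen [0, 1, 2, 3, 5, 6] with hH
  have hreal : Realises (H.map (data.hom checked)) ([0, 1, 2, 3, 5, 6].map (nthNat table.P)) := by
    intro y hy
    have hy' : y < [0, 1, 2, 3, 5, 6].length := by simpa using hy
    have hK : ∀ i < [0, 1, 2, 3, 5, 6].length, nthNat [0, 1, 2, 3, 5, 6] i < table.C.K ∧
        nthNat ([0, 1, 2, 3, 5, 6].map (nthNat table.P)) i = nthNat table.P (nthNat [0, 1, 2, 3, 5, 6] i) := by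
      decide +kernel
    obtain ⟨hlt, he⟩ := hK y hy'
    refine ⟨tau checked (nthNat [0, 1, 2, 3, 5, 6] y), ⟨data.gen _, ?_, data.hom_gen checked _⟩, fun c => ?_⟩
    · exact Subgroup.subset_closure ⟨_, nthNat_mem hy', rfl⟩
    · rw [tau_apply checked hlt, he]
      rfl
  have hlow := prodM_le _ _ _ hreal Suz.H.levels_ok
  rw [Suz.H.levels_prod] at hlow
  have hmap : Nat.card (H.map (data.hom checked)) ≤ Nat.card H :=
    Nat.card_le_card_of_surjective _ (MonoidHom.subgroupMap_surjective (data.hom checked) H)
  have h := H.card_mul_index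
  rw [hcard, show Nat.card H = 19595520 by omega] at h
  omega

end Cfsg.Agent.InvChar.Coset.Suz
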