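import Cfsg.Agent.InvChar.Coset.SuzOrder

/-!
# The group of order 604800 on 100 points
-/

set_option autoImplicit false
set_option linter.all false

noncomputable section

namespace Cfsg.Agent.InvChar.Coset.SuzJ

open Cfsg.Agent.CosetCert

def l100_0 : List ℕ := [1, 0, 2, 7, 8, 9, 15, 3, 4, 5, 10, 11, 17, 18, 19, 6, 25, 12, 13, 14, 20, 21, 27, 28, 29, 16, 34, 22, 23, 24, 30, 36, 37, 39, 26, 45, 31, 32, 51, 33, 54, 43, 50, 41, 53, 35, 62, 61, 48, 65, 42, 38, 69, 44, 40, 72, 59, 67, 58, 56, 60, 47, 46, 78, 76, 49, 82, 57, 68, 52, 86, 87, 55, 89, 90, 75, 64, 77, 63, 84, 83, 81, 66, 80, 79, 85, 70, 71, 96, 73, 74, 98, 92, 93, 94, 95, 88, 97, 91, 99]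

def l100_1 : List ℕ := [2, 6, 0, 8, 10, 11, 1, 7, 3, 16, 4, 5, 18, 20, 21, 15, 9, 17, 12, 26, 13, 14, 28, 30, 24, 25, 19, 27, 22, 38, 23, 40, 32, 33, 34, 46, 48, 49, 29, 52, 31, 55, 42, 58, 44, 60, 35, 63, 36, 37, 66, 68, 39, 71, 54, 41, 74, 57, 43, 75, 45, 77, 62, 47, 80, 81, 50, 84, 51, 85, 73, 53, 72, 70, 56, 59, 92, 61, 78, 93, 64, 65, 94, 83, 67, 69, 86, 95, 91, 97, 90, 88, 76, 79, 82, 87, 96, 89, 99, 98]

def l100_2 : List ℕ := [3, 7, 10, 0, 8, 12, 6, 1, 4, 17, 2, 20, 5, 18, 24, 15, 16, 9, 13, 29, 11, 21, 31, 32, 14, 25, 35, 36, 37, 19, 30, 22, 23, 43, 45, 26, 27, 28, 46, 41, 49, 39, 42, 33, 59, 34, 38, 61, 48, 40, 50, 62, 70, 56, 65, 73, 53, 57, 58, 44, 60, 47, 51, 79, 76, 54, 83, 67, 68, 86, 52, 88, 89, 55, 91, 75, 64, 93, 84, 63, 82, 81, 80, 66, 78, 85, 69, 96, 71, 72, 98, 74, 94, 77, 92, 95, 87, 97, 90, 99]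

def l100_3 : List ℕ := [4, 8, 10, 6, 0, 14, 3, 15, 1, 19, 2, 21, 22, 23, 5, 7, 26, 27, 28, 9, 30, 11, 12, 13, 33, 34, 16, 17, 18, 39, 20, 41, 42, 24, 25, 47, 43, 50, 52, 29, 55, 31, 32, 36, 57, 61, 63, 35, 58, 66, 37, 69, 38, 67, 72, 40, 64, 44, 48, 76, 77, 45, 78, 46, 56, 82, 49, 53, 85, 51, 88, 84, 54, 91, 80, 92, 59, 60, 62, 87, 74, 94, 65, 90, 71, 68, 96, 79, 70, 98, 83, 73, 75, 95, 81, 93, 86, 99, 89, 97]

def l100_4 : List ℕ := [5, 9, 11, 12, 13, 0, 16, 17, 18, 1, 20, 2, 3, 4, 23, 25, 6, 7, 8, 28, 10, 30, 26, 14, 32, 15, 22, 34, 19, 37, 21, 35, 24, 44, 27, 31, 45, 29, 49, 53, 46, 56, 57, 59, 33, 36, 40, 64, 60, 38, 67, 65, 71, 39, 62, 74, 41, 42, 75, 43, 48, 76, 54, 80, 47, 51, 84, 50, 81, 87, 88, 52, 90, 91, 55, 58, 61, 92, 83, 82, 63, 68, 79, 78, 66, 95, 96, 69, 70, 98, 72, 73, 77, 94, 93, 85, 86, 99, 89, 97]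

def l100 : ℕ → List ℕ
  | 0 => l100_0 | 1 => l100_1 | 2 => l100_2 | 3 => l100_3 | 4 => l100_4 | _ => List.range 100

def f100 (x : ℕ) (c : Fin 100) : Fin 100 := ⟨nthNat (l100 x) c % 100, Nat.mod_lt _ (by norm_num)⟩

theorem f100_invol_small : ∀ x < 6, ∀ c, f100 x (f100 x c) = c := by decide +kernel

theorem f100_invol (x : ℕ) (c : Fin 100) : f100 x (f100 x c) = c := by
  rcases Nat.lt_or_ge x 5 with h | h
  · exact f100_invol_small x (by omega) c
  · have e : l100 x = l100 5 := by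
      match x, h with
      | x + 5, _ => rfl
    have := f100_invol_small 5 (by norm_num) c
    have ef : f100 x = f100 5 := funext fun d => Fin.ext (by simp only [f100, e])
    rw [ef]
    exact this

def t100 (x : ℕ) : Equiv.Perm (Fin 100) := Function.Involutive.toPerm (f100 x) (f100_invol x)

theorem t100_sq (x : ℕ) : t100 x * t100 x = 1 := Equiv.ext (f100_invol x)

theorem t100_rel : ∀ w ∈ table.C.W, wprod t100 w = 1 := by
  intro w hw
  refine Equiv.ext fun c => ?_
  revert c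
  revert w
  decide +kernel

def Pair : Subgroup (Equiv.Perm (Fin table.n) × Equiv.Perm (Fin 100)) :=
  Subgroup.closure ((fun x => (tau checked x, t100 x)) '' {x | x < table.C.K})

def gP (x : ℕ) : Pair :=
  if hx : x < table.C.K then ⟨(tau checked x, t100 x), Subgroup.subset_closure ⟨x, hx, rfl⟩⟩ else 1

theorem gP_sq (x : ℕ) : gP x * gP x = 1 := by
  unfold gP
  split
  · exact Subtype.ext (Prod.ext (tau_sq checked x) (t100_sq x))
  · exact one_mul 1

theorem gP_fst (x : ℕ) : (((MonoidHom.fst _ _).comp Pair.subtype) (gP x)) = tau checked x := by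
  unfold gP
  split
  · rfl
  · next hx => rw [tau, dif_neg hx]; rfl

theorem gP_coe {x : ℕ} (hx : x < table.C.K) :
    ((gP x : Pair) : Equiv.Perm (Fin table.n) × Equiv.Perm (Fin 100)) = (tau checked x, t100 x) := by
  rw [gP, dif_pos hx]

theorem gP_rel : ∀ w ∈ table.C.W, wprod gP w = 1 := by
  intro w hw
  have hlet := allLettersOK_spec checked.lettersW w hw
  have key : ∀ (v : List ℕ), (∀ y ∈ v, y < table.C.K) →
      ((wprod gP v : Pair) : Equiv.Perm (Fin table.n) × Equiv.Perm (Fin 100)) =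
        (wprod (tau checked) v, wprod t100 v) := by
    intro v
    induction v with
    | nil => intro _; rfl
    | cons y v ih =>
      intro hy
      rw [wprod, Subgroup.coe_mul, ih (fun z hz => hy z (List.mem_cons_of_mem _ hz)),
        gP_coe (hy y List.mem_cons_self)]
      rfl
  refine Subtype.ext ((key w hlet).trans ?_)
  rw [tau_rel checked w hw, t100_rel w hw]
  rfl

theorem gP_top : Subgroup.closure (gP '' {x | x < table.C.K}) = ⊤ := by
  apply Subgroup.map_injective Pair.subtype_injective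
  rw [MonoidHom.map_closure, ← MonoidHom.range_eq_map, Subgroup.range_subtype]
  conv_rhs => rw [Pair]
  congr 1
  rw [← Set.image_comp]
  exact Set.image_congr fun x hx => gP_coe hx

theorem bdd_pair : Bdd (⊤ : Subgroup Pair) (280 * (216 * (10 * 1))) := by
  have h0 : Bdd (subg gP ([].map (nthNat [0, 1]))) 1 := bdd_subg_nil gP
  have h1 := bdd_subg SuzC.closed gP gP_sq table.C.W gP_rel [0, 1] [] (by decide +kernel)
    (by decide +kernel) (by decide +kernel) (by decide +kernel) (by decide +kernel) h0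
  have h2 := bdd_subg SuzB.closed gP gP_sq table.C.W gP_rel [0, 1, 2, 3] [0, 1] (by decide +kernel)
    (by decide +kernel) (by decide +kernel) (by decide +kernel) (by decide +kernel) h1
  have h3 := bdd_subg checked.closed gP gP_sq table.C.W gP_rel [0, 1, 2, 3, 4] [0, 1, 2, 3]
    (by decide +kernel) (by decide +kernel) (by decide +kernel) (by decide +kernel) (by decide +kernel) h2
  have hl : ∀ x < table.C.K, x ∈ [0, 1, 2, 3, 4] := by decide +kernel
  exact Bdd.top_of_gen gP_top hl h3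

theorem t100_ne : t100 0 ≠ 1 := by
  intro h
  have h' : ∀ c, f100 0 c = c := fun c => Equiv.ext_iff.mp h c
  revert h'
  decide +kernel

/-- A simple group of order 604800 on 100 points. -/
theorem exists_on_hundred :
    ∃ G : Subgroup (Equiv.Perm (Fin 100)), IsSimpleGroup G ∧ Nat.card G = 604800 := by
  obtain ⟨hs, hc, -⟩ := order_simple checked prim gP ((MonoidHom.fst _ _).comp Pair.subtype) gP_fst gP_sq gP_rel
    gP_top (H := Subgroup.closure (wprod gP '' {w | w ∈ table.C.S})) rfl bdd_pair levels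
    (by decide +kernel) levels_ok (levels_prod.trans (by norm_num)) (p := 7) (by norm_num) (by decide +kernel)
    (by decide +kernel) roots cover roots_ok cover_ok
  let π : Pair →* Equiv.Perm (Fin 100) := (MonoidHom.snd _ _).comp Pair.subtype
  have hinj : Function.Injective π := by
    rw [← MonoidHom.ker_eq_bot_iff]
    rcases hs.eq_bot_or_eq_top_of_normal π.ker inferInstance with h | h
    · exact h
    · exfalso
      apply t100_ne
      have h1 : gP 0 ∈ π.ker := h ▸ Subgroup.mem_top _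
      rw [MonoidHom.mem_ker] at h1
      have h2 : (gP 0 : Pair).1.2 = 1 := h1
      rwa [gP_coe (by decide +kernel)] at h2
  let e : Pair ≃* π.range := MonoidHom.ofInjective hinj
  haveI := hs
  haveI : Nontrivial π.range := e.symm.toEquiv.nontrivial
  exact ⟨π.range, IsSimpleGroup.isSimpleGroup_of_surjective e.toMonoidHom e.surjective,
    by rw [← Nat.card_congr e.toEquiv, hc]⟩

end Cfsg.Agent.InvChar.Coset.SuzJ
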