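import Cfsg.Prelude.Def_Spor_Suz
import Cfsg.Agent.InvChar.Coset.Bridge
import Cfsg.Agent.InvChar.Coset.SuzCheck

/-!
# The cosets of `⟨a, …, f⟩` in the presented Suzuki group
-/

set_option autoImplicit false
set_option linter.all false

noncomputable section

namespace Cfsg.Agent.InvChar.Coset.Suz

open Cfsg.Agent.CosetCert Cfsg.Spor

def idx : Cfsg.Spor.Suz.Gen → ℕ
  | .a => 0 | .b => 1 | .c => 2 | .d => 3 | .e => 4 | .f => 5 | .g => 6

def ofIdx : ℕ → Cfsg.Spor.Suz.Gen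
  | 1 => .b | 2 => .c | 3 => .d | 4 => .e | 5 => .f | 6 => .g | _ => .a

def enum : List Cfsg.Spor.Suz.Gen := [.a, .b, .c, .d, .e, .f, .g]

def data : CoxData Cfsg.Spor.Suz.edges Cfsg.Spor.Suz.extra table where
  idx := idx
  ofIdx := ofIdx
  enum := enum
  extW := table.C.W.drop 49
  left x := by cases x <;> rfl
  right := by
    show ∀ i < 7, idx (ofIdx i) = i
    decide
  lt x := by cases x <;> decide
  mem x := by cases x <;> simp [enum]
  node x := by cases x <;> decide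
  words := by decide +kernel
  ext A _ f g hf hg := by
    have e0 := hg .a; have e1 := hg .b; have e2 := hg .c; have e3 := hg .d
    have e4 := hg .e; have e5 := hg .f; have e6 := hg .g
    simp only [idx] at e0 e1 e2 e3 e4 e5 e6
    simp [table, cert, words, Cfsg.Spor.Suz.extra, Cfsg.Spor.Suz.a, Cfsg.Spor.Suz.b, Cfsg.Spor.Suz.c,
      Cfsg.Spor.Suz.d, Cfsg.Spor.Suz.e, Cfsg.Spor.Suz.f, Cfsg.Spor.Suz.g, wprod, pow_succ, mul_assoc,
      fun x => inv_of_sq (hf x), e0, e1, e2, e3, e4, e5, e6]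

open Cfsg.Spor.Suz in
def subList : List (FreeGroup Cfsg.Spor.Suz.Gen) := [a, b, c, d, e, f]

theorem subList_map (A : Type) [Group A] (h : Cfsg.Spor.Suz.Gen → A) (g : ℕ → A) (hf : ∀ x, h x * h x = 1)
    (hg : ∀ x, g (data.idx x) = h x) :
    subList.map (FreeGroup.lift h) = table.C.S.map (wprod g) := by
  have e0 := hg .a; have e1 := hg .b; have e2 := hg .c; have e3 := hg .d
  have e4 := hg .e; have e5 := hg .f
  simp only [data, idx] at e0 e1 e2 e3 e4 e5
  simp [subList, table, cert, subs, wprod, Cfsg.Spor.Suz.a, Cfsg.Spor.Suz.b, Cfsg.Spor.Suz.c,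
      Cfsg.Spor.Suz.d, Cfsg.Spor.Suz.e, Cfsg.Spor.Suz.f, e0, e1, e2, e3, e4, e5]

end Cfsg.Agent.InvChar.Coset.Suz
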