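import Cfsg.Agent.InvChar.Coset.SuzJData
import Cfsg.Agent.InvChar.Coset.SuzJSteps0
import Cfsg.Agent.InvChar.Coset.SuzJRows0
import Cfsg.Agent.InvChar.Coset.SuzJOrbits0

/-!
# Coset certificate check
-/

set_option autoImplicit false
set_option linter.all false

namespace Cfsg.Agent.InvChar.Coset.SuzJ

open Cfsg.Agent.CosetCert

theorem stepsUpto0 : ∀ i < 1000, stepOK cert i = true :=
  steps_add 0 1000 (steps_zero cert) steps0

theorem stepsUpto1 : ∀ i < 2000, stepOK cert i = true :=
  steps_add 1000 1000 (stepsUpto0) steps1

theorem stepsUpto2 : ∀ i < 3000, stepOK cert i = true :=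
  steps_add 2000 1000 (stepsUpto1) steps2

theorem stepsUpto3 : ∀ i < 4000, stepOK cert i = true :=
  steps_add 3000 1000 (stepsUpto2) steps3

theorem stepsUpto4 : ∀ i < 4749, stepOK cert i = true :=
  steps_add 4000 749 (stepsUpto3) steps4

theorem rowsUpto0 : ∀ i < 100, rowOK table i = true :=
  rows_add 0 100 (rows_zero table) rows0

theorem rowsUpto1 : ∀ i < 200, rowOK table i = true :=
  rows_add 100 100 (rowsUpto0) rows1

theorem rowsUpto2 : ∀ i < 280, rowOK table i = true :=
  rows_add 200 80 (rowsUpto1) rows2

theorem checked : Checked table where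
  start := by decide +kernel
  steps := stepsUpto4
  rows := rowsUpto2
  lettersW := by decide +kernel
  lettersS := by decide +kernel
  fixS := by decide +kernel
  pos := by decide +kernel

theorem orbitsUpto0 : ∀ i < 200, orbitOK table orbits i = true :=
  orbits_add 0 200 (orbits_zero table orbits) orbits0

theorem orbitsUpto1 : ∀ i < 280, orbitOK table orbits i = true :=
  orbits_add 200 80 (orbitsUpto0) orbits1

theorem orbits_ok : ∀ i < 280, orbitOK table orbits i = true := orbitsUpto1

theorem count0 : countLabel orbits 0 280 = 1 := by decide +kernel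

theorem count1 : countLabel orbits 1 280 = 36 := by decide +kernel

theorem count2 : countLabel orbits 2 280 = 135 := by decide +kernel

theorem count3 : countLabel orbits 3 280 = 108 := by decide +kernel


end Cfsg.Agent.InvChar.Coset.SuzJ
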