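import Cfsg.Agent.Lib.CosetCert.Check

/-!
# The action of the generating reflections on the lines of the icosian lattice
-/

set_option autoImplicit false
set_option linter.all false

namespace Cfsg.Agent.InvChar.Coset.SuzJTwo

open Cfsg.Agent.CosetCert

noncomputable def lp0_0 : Tree :=
  .node 52 (.node 26 (.node 13 (.node 6 (.node 3 (.node 1 (.leaf (nat_lit 0)) (.node 1 (.leaf (nat_lit 60929)) (.leaf (nat_lit 5)))) (.node 1 (.leaf (nat_lit 60931)) (.node 1 (.leaf (nat_lit 10)) (.leaf (nat_lit 2))))) (.node 3 (.node 1 (.leaf (nat_lit 7)) (.node 1 (.leaf (nat_lit 6)) (.leaf (nat_lit 19)))) (.node 2 (.node 1 (.leaf (nat_lit 60950)) (.leaf (nat_lit 4))) (.node 1 (.leaf (nat_lit 12)) (.leaf (nat_lit 11)))))) (.node 6 (.node 3 (.node 1 (.leaf (nat_lit 14)) (.node 1 (.leaf (nat_lit 13)) (.leaf (nat_lit 60953)))) (.node 1 (.leaf (nat_lit 60963)) (.node 1 (.leaf (nat_lit 60955)) (.leaf (nat_lit 60970)))))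 (.node 3 (.node 1 (.leaf (nat_lit 8)) (.node 1 (.leaf (nat_lit 21)) (.leaf (nat_lit 20)))) (.node 2 (.node 1 (.leaf (nat_lit 60937)) (.leaf (nat_lit 60952))) (.node 1 (.leaf (nat_lit 60951)) (.leaf (nat_lit 60943))))))) (.node 13 (.node 6 (.node 3 (.node 1 (.leaf (nat_lit 54)) (.node 1 (.leaf (nat_lit 60945)) (.leaf (nat_lit 59)))) (.node 1 (.leaf (nat_lit 30)) (.node 1 (.leaf (nat_lit 29)) (.leaf (nat_lit 60974))))) (.node 3 (.node 1 (.leaf (nat_lit 60961)) (.node 1 (.leaf (nat_lit 60960)) (.leaf (nat_lit 68)))) (.node 2 (.node 1 (.leaf (nat_lit 60944)) (.leaf (nat_lit 60965))) (.node 1 (.leaf (nat_lit 60964)) (.leaf (nat_lit 69)))))) (.node 6 (.node 3 (.node 1 (.leaf (nat_lit 60968)) (.node 1 (.leaf (nat_lit 60967)) (.leaf (nat_lit 61002)))) (.node 1 (.leaf (nat_lit 60946)) (.node 1 (.leaf (nat_lit 60972)) (.leaf (nat_lit 60971))))) (.node 3 (.node 1 (.leaf (nat_lit 82)) (.node 1 (.leaf (nat_lit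 60959)) (.leaf (nat_lit 85)))) (.node 2 (.node 1 (.leaf (nat_lit 61009)) (.leaf (nat_lit 60977))) (.node 1 (.leaf (nat_lit 61019)) (.leaf (nat_lit 60979)))))))) (.node 26 (.node 13 (.node 6 (.node 3 (.node 1 (.leaf (nat_lit 61023)) (.node 1 (.leaf (nat_lit 99)) (.leaf (nat_lit 26)))) (.node 1 (.leaf (nat_lit 56)) (.node 1 (.leaf (nat_lit 55)) (.leaf (nat_lit 61034))))) (.node 3 (.node 1 (.leaf (nat_lit 61037)) (.node 1 (.leaf (nat_lit 28)) (.leaf (nat_lit 61)))) (.node 2 (.node 1 (.leaf (nat_lit 60)) (.leaf (nat_lit 61031))) (.node 1 (.leaf (nat_lit 61046)) (.leaf (nat_lit 120)))))) (.node 6 (.node 3 (.node 1 (.leaf (nat_lit 60994)) (.node 1 (.leaf (nat_lit 60993)) (.leaf (nat_lit 123)))) (.node 1 (.leaf (nat_lit 34)) (.node 1 (.leaf (nat_lit 38)) (.leaf (nat_lit 61047))))) (.node 3 (.node 1 (.leaf (nat_lit 129)) (.node 1 (.leaf (nat_lit 61026)) (.leaf (nat_lit 61001)))) (.node 2 (.node 1 (.leaf (nat_lit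 60969)) (.leaf (nat_lit 61004))) (.node 1 (.leaf (nat_lit 61003)) (.leaf (nat_lit 139))))))) (.node 13 (.node 6 (.node 3 (.node 1 (.leaf (nat_lit 100)) (.node 1 (.leaf (nat_lit 61070)) (.leaf (nat_lit 61008)))) (.node 1 (.leaf (nat_lit 60976)) (.node 1 (.leaf (nat_lit 45)) (.leaf (nat_lit 84))))) (.node 3 (.node 1 (.leaf (nat_lit 83)) (.node 1 (.leaf (nat_lit 47)) (.leaf (nat_lit 87)))) (.node 2 (.node 1 (.leaf (nat_lit 86)) (.leaf (nat_lit 134))) (.node 1 (.leaf (nat_lit 61018)) (.leaf (nat_lit 61017)))))) (.node 7 (.node 3 (.node 1 (.leaf (nat_lit 60978)) (.node 1 (.leaf (nat_lit 61021)) (.leaf (nat_lit 61020)))) (.node 2 (.node 1 (.leaf (nat_lit 156)) (.leaf (nat_lit 60980))) (.node 1 (.leaf (nat_lit 61025)) (.leaf (nat_lit 61024))))) (.node 3 (.node 1 (.leaf (nat_lit 61000)) (.node 1 (.leaf (nat_lit 53)) (.leaf (nat_lit 78)))) (.node 2 (.node 1 (.leaf (nat_lit 61071)) (.leaf (nat_lit 61042)))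 (.node 1 (.leaf (nat_lit 60990)) (.leaf (nat_lit 61041))))))))

noncomputable def lp0_1 : Tree :=
  .node 52 (.node 26 (.node 13 (.node 6 (.node 3 (.node 1 (.leaf (nat_lit 155)) (.node 1 (.leaf (nat_lit 60985)) (.leaf (nat_lit 61036)))) (.node 1 (.leaf (nat_lit 61035)) (.node 1 (.leaf (nat_lit 60986)) (.leaf (nat_lit 61039))))) (.node 3 (.node 1 (.leaf (nat_lit 61038)) (.node 1 (.leaf (nat_lit 140)) (.leaf (nat_lit 61032)))) (.node 2 (.node 1 (.leaf (nat_lit 61030)) (.leaf (nat_lit 160))) (.node 1 (.leaf (nat_lit 61045)) (.leaf (nat_lit 61044)))))) (.node 6 (.node 3 (.node 1 (.leaf (nat_lit 60991)) (.node 1 (.leaf (nat_lit 60998)) (.leaf (nat_lit 64)))) (.node 1 (.leaf (nat_lit 122)) (.node 1 (.leaf (nat_lit 121)) (.leaf (nat_lit 67))))) (.node 3 (.node 1 (.leaf (nat_lit 125)) (.node 1 (.leaf (nat_lit 124)) (.leaf (nat_lit 159)))) (.node 2 (.node 1 (.leaf (nat_lit 61061)) (.leaf (nat_lit 179))) (.node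 1 (.leaf (nat_lit 71)) (.leaf (nat_lit 131))))))) (.node 13 (.node 6 (.node 3 (.node 1 (.leaf (nat_lit 130)) (.node 1 (.leaf (nat_lit 61118)) (.leaf (nat_lit 61055)))) (.node 1 (.leaf (nat_lit 88)) (.node 1 (.leaf (nat_lit 175)) (.leaf (nat_lit 61122))))) (.node 3 (.node 1 (.leaf (nat_lit 181)) (.node 1 (.leaf (nat_lit 198)) (.leaf (nat_lit 77)))) (.node 2 (.node 1 (.leaf (nat_lit 112)) (.leaf (nat_lit 154))) (.node 1 (.leaf (nat_lit 61007)) (.leaf (nat_lit 61029)))))) (.node 6 (.node 3 (.node 1 (.leaf (nat_lit 205)) (.node 1 (.leaf (nat_lit 61129)) (.leaf (nat_lit 61123)))) (.node 1 (.leaf (nat_lit 208)) (.node 1 (.leaf (nat_lit 211)) (.leaf (nat_lit 187))))) (.node 3 (.node 1 (.leaf (nat_lit 212)) (.node 1 (.leaf (nat_lit 61142)) (.leaf (nat_lit 153)))) (.node 2 (.node 1 (.leaf (nat_lit 152)) (.leaf (nat_lit 141))) (.node 1 (.leaf (nat_lit 105)) (.leaf (nat_lit 94)))))))) (.node 26 (.node 13 (.node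 6 (.node 3 (.node 1 (.leaf (nat_lit 158)) (.node 1 (.leaf (nat_lit 157)) (.leaf (nat_lit 126)))) (.node 1 (.leaf (nat_lit 115)) (.node 1 (.leaf (nat_lit 61090)) (.leaf (nat_lit 61089))))) (.node 3 (.node 1 (.leaf (nat_lit 193)) (.node 1 (.leaf (nat_lit 202)) (.leaf (nat_lit 61094)))) (.node 2 (.node 1 (.leaf (nat_lit 61093)) (.leaf (nat_lit 176))) (.node 1 (.leaf (nat_lit 61132)) (.leaf (nat_lit 231)))))) (.node 6 (.node 3 (.node 1 (.leaf (nat_lit 232)) (.node 1 (.leaf (nat_lit 188)) (.leaf (nat_lit 61162)))) (.node 1 (.leaf (nat_lit 237)) (.node 1 (.leaf (nat_lit 61114)) (.leaf (nat_lit 135))))) (.node 3 (.node 1 (.leaf (nat_lit 167)) (.node 1 (.leaf (nat_lit 241)) (.leaf (nat_lit 245)))) (.node 2 (.node 1 (.leaf (nat_lit 128)) (.leaf (nat_lit 248))) (.node 1 (.leaf (nat_lit 137)) (.leaf (nat_lit 61178))))))) (.node 13 (.node 6 (.node 3 (.node 1 (.leaf (nat_lit 203)) (.node 1 (.leaf (nat_lit 61143))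 (.leaf (nat_lit 61179)))) (.node 1 (.leaf (nat_lit 61102)) (.node 1 (.leaf (nat_lit 149)) (.leaf (nat_lit 171))))) (.node 3 (.node 1 (.leaf (nat_lit 61163)) (.node 1 (.leaf (nat_lit 61060)) (.leaf (nat_lit 61120)))) (.node 2 (.node 1 (.leaf (nat_lit 61119)) (.leaf (nat_lit 163))) (.node 1 (.leaf (nat_lit 61064)) (.leaf (nat_lit 61074)))))) (.node 7 (.node 3 (.node 1 (.leaf (nat_lit 258)) (.node 1 (.leaf (nat_lit 249)) (.leaf (nat_lit 138)))) (.node 2 (.node 1 (.leaf (nat_lit 200)) (.leaf (nat_lit 199))) (.node 1 (.leaf (nat_lit 61073)) (.leaf (nat_lit 164))))) (.node 3 (.node 1 (.leaf (nat_lit 183)) (.node 1 (.leaf (nat_lit 61096)) (.leaf (nat_lit 144)))) (.node 2 (.node 1 (.leaf (nat_lit 61135)) (.leaf (nat_lit 61134))) (.node 1 (.leaf (nat_lit 147)) (.leaf (nat_lit 210))))))))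

noncomputable def lp0_2 : Tree :=
  .node 52 (.node 26 (.node 13 (.node 6 (.node 3 (.node 1 (.leaf (nat_lit 209)) (.node 1 (.leaf (nat_lit 148)) (.leaf (nat_lit 150)))) (.node 1 (.leaf (nat_lit 226)) (.node 1 (.leaf (nat_lit 61079)) (.leaf (nat_lit 61112))))) (.node 3 (.node 1 (.leaf (nat_lit 233)) (.node 1 (.leaf (nat_lit 265)) (.leaf (nat_lit 269)))) (.node 2 (.node 1 (.leaf (nat_lit 238)) (.leaf (nat_lit 271))) (.node 1 (.leaf (nat_lit 255)) (.leaf (nat_lit 223)))))) (.node 6 (.node 3 (.node 1 (.leaf (nat_lit 222)) (.node 1 (.leaf (nat_lit 225)) (.leaf (nat_lit 224)))) (.node 1 (.leaf (nat_lit 213)) (.node 1 (.leaf (nat_lit 228)) (.leaf (nat_lit 227))))) (.node 3 (.node 1 (.leaf (nat_lit 61158)) (.node 1 (.leaf (nat_lit 61157)) (.leaf (nat_lit 169)))) (.node 2 (.node 1 (.leaf (nat_lit 170)) (.leaf (nat_lit 216))) (.node 1 (.leaf (nat_lit 61100)) (.leaf (nat_lit 61117))))))) (.node 13 (.node 6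 (.node 3 (.node 1 (.leaf (nat_lit 284)) (.node 1 (.leaf (nat_lit 173)) (.leaf (nat_lit 219)))) (.node 1 (.leaf (nat_lit 61168)) (.node 1 (.leaf (nat_lit 61167)) (.leaf (nat_lit 177))))) (.node 3 (.node 1 (.leaf (nat_lit 243)) (.node 1 (.leaf (nat_lit 242)) (.leaf (nat_lit 61219)))) (.node 2 (.node 1 (.leaf (nat_lit 178)) (.leaf (nat_lit 247))) (.node 1 (.leaf (nat_lit 246)) (.leaf (nat_lit 180)))))) (.node 6 (.node 3 (.node 1 (.leaf (nat_lit 197)) (.node 1 (.leaf (nat_lit 61110)) (.leaf (nat_lit 61113)))) (.node 1 (.leaf (nat_lit 259)) (.node 1 (.leaf (nat_lit 295)) (.leaf (nat_lit 297))))) (.node 3 (.node 1 (.leaf (nat_lit 221)) (.node 1 (.leaf (nat_lit 61226)) (.leaf (nat_lit 302)))) (.node 2 (.node 1 (.leaf (nat_lit 196)) (.leaf (nat_lit 252))) (.node 1 (.leaf (nat_lit 266)) (.leaf (nat_lit 275)))))))) (.node 26 (.node 13 (.node 6 (.node 3 (.node 1 (.leaf (nat_lit 294)) (.node 1 (.leaf (nat_lit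 61235)) (.leaf (nat_lit 61221)))) (.node 1 (.leaf (nat_lit 217)) (.node 1 (.leaf (nat_lit 260)) (.leaf (nat_lit 276))))) (.node 3 (.node 1 (.leaf (nat_lit 270)) (.node 1 (.leaf (nat_lit 218)) (.leaf (nat_lit 268)))) (.node 2 (.node 1 (.leaf (nat_lit 220)) (.leaf (nat_lit 273))) (.node 1 (.leaf (nat_lit 272)) (.leaf (nat_lit 61220)))))) (.node 6 (.node 3 (.node 1 (.leaf (nat_lit 261)) (.node 1 (.leaf (nat_lit 267)) (.leaf (nat_lit 61239)))) (.node 1 (.leaf (nat_lit 305)) (.node 1 (.leaf (nat_lit 61241)) (.leaf (nat_lit 61208))))) (.node 3 (.node 1 (.leaf (nat_lit 296)) (.node 1 (.leaf (nat_lit 61242)) (.leaf (nat_lit 310)))) (.node 2 (.node 1 (.leaf (nat_lit 236)) (.leaf (nat_lit 286))) (.node 1 (.leaf (nat_lit 285)) (.leaf (nat_lit 61215))))))) (.node 13 (.node 6 (.node 3 (.node 1 (.leaf (nat_lit 61232)) (.node 1 (.leaf (nat_lit 61236)) (.leaf (nat_lit 303)))) (.node 1 (.leaf (nat_lit 61172)) (.node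 1 (.leaf (nat_lit 61202)) (.leaf (nat_lit 61192))))) (.node 3 (.node 1 (.leaf (nat_lit 262)) (.node 1 (.leaf (nat_lit 253)) (.leaf (nat_lit 281)))) (.node 2 (.node 1 (.leaf (nat_lit 254)) (.leaf (nat_lit 61184))) (.node 1 (.leaf (nat_lit 61228)) (.leaf (nat_lit 61227)))))) (.node 7 (.node 3 (.node 1 (.leaf (nat_lit 61229)) (.node 1 (.leaf (nat_lit 257)) (.leaf (nat_lit 290)))) (.node 2 (.node 1 (.leaf (nat_lit 61216)) (.leaf (nat_lit 278))) (.node 1 (.leaf (nat_lit 61237)) (.leaf (nat_lit 61191))))) (.node 3 (.node 1 (.leaf (nat_lit 61217)) (.node 1 (.leaf (nat_lit 61234)) (.leaf (nat_lit 283)))) (.node 2 (.node 1 (.leaf (nat_lit 61205)) (.leaf (nat_lit 61240))) (.node 1 (.leaf (nat_lit 61207)) (.leaf (nat_lit 61210))))))))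

noncomputable def lp0 : Tree :=
  .node 105 lp0_0 (.node 105 lp0_1 lp0_2)

noncomputable def lp1_0 : Tree :=
  .node 52 (.node 26 (.node 13 (.node 6 (.node 3 (.node 1 (.leaf (nat_lit 60928)) (.node 1 (.leaf (nat_lit 3)) (.leaf (nat_lit 60934)))) (.node 1 (.leaf (nat_lit 1)) (.node 1 (.leaf (nat_lit 60939)) (.leaf (nat_lit 60935))))) (.node 3 (.node 1 (.leaf (nat_lit 60930)) (.node 1 (.leaf (nat_lit 60933)) (.leaf (nat_lit 60948)))) (.node 2 (.node 1 (.leaf (nat_lit 23)) (.leaf (nat_lit 60940))) (.node 1 (.leaf (nat_lit 60932)) (.leaf (nat_lit 60938)))))) (.node 6 (.node 3 (.node 1 (.leaf (nat_lit 60957)) (.node 1 (.leaf (nat_lit 60958)) (.leaf (nat_lit 32)))) (.node 1 (.leaf (nat_lit 36)) (.node 1 (.leaf (nat_lit 39)) (.leaf (nat_lit 60971))))) (.node 3 (.node 1 (.leaf (nat_lit 60949)) (.node 1 (.leaf (nat_lit 60936)) (.leaf (nat_lit 60947)))) (.node 2 (.node 1 (.leaf (nat_lit 24)) (.leaf (nat_lit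 9))) (.node 1 (.leaf (nat_lit 22)) (.leaf (nat_lit 33))))))) (.node 13 (.node 6 (.node 3 (.node 1 (.leaf (nat_lit 60983)) (.node 1 (.leaf (nat_lit 40)) (.leaf (nat_lit 60988)))) (.node 1 (.leaf (nat_lit 60941)) (.node 1 (.leaf (nat_lit 60942)) (.leaf (nat_lit 65))))) (.node 3 (.node 1 (.leaf (nat_lit 15)) (.node 1 (.leaf (nat_lit 25)) (.leaf (nat_lit 60997)))) (.node 2 (.node 1 (.leaf (nat_lit 37)) (.leaf (nat_lit 16))) (.node 1 (.leaf (nat_lit 35)) (.leaf (nat_lit 60996)))))) (.node 6 (.node 3 (.node 1 (.leaf (nat_lit 17)) (.node 1 (.leaf (nat_lit 27)) (.leaf (nat_lit 61003)))) (.node 1 (.leaf (nat_lit 60972)) (.node 1 (.leaf (nat_lit 60946)) (.leaf (nat_lit 60970))))) (.node 3 (.node 1 (.leaf (nat_lit 61011)) (.node 1 (.leaf (nat_lit 66)) (.leaf (nat_lit 61014)))) (.node 2 (.node 1 (.leaf (nat_lit 89)) (.leaf (nat_lit 51))) (.node 1 (.leaf (nat_lit 92)) (.leaf (nat_lit 49)))))))) (.node 26 (.node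 13 (.node 6 (.node 3 (.node 1 (.leaf (nat_lit 61024)) (.node 1 (.leaf (nat_lit 61028)) (.leaf (nat_lit 60984)))) (.node 1 (.leaf (nat_lit 60954)) (.node 1 (.leaf (nat_lit 60982)) (.leaf (nat_lit 107))))) (.node 3 (.node 1 (.leaf (nat_lit 110)) (.node 1 (.leaf (nat_lit 60989)) (.leaf (nat_lit 60956)))) (.node 2 (.node 1 (.leaf (nat_lit 60987)) (.leaf (nat_lit 116))) (.node 1 (.leaf (nat_lit 61047)) (.leaf (nat_lit 61049)))))) (.node 6 (.node 3 (.node 1 (.leaf (nat_lit 31)) (.node 1 (.leaf (nat_lit 46)) (.leaf (nat_lit 61052)))) (.node 1 (.leaf (nat_lit 60966)) (.node 1 (.leaf (nat_lit 60962)) (.leaf (nat_lit 61046))))) (.node 3 (.node 1 (.leaf (nat_lit 61058)) (.node 1 (.leaf (nat_lit 127)) (.leaf (nat_lit 61001)))) (.node 2 (.node 1 (.leaf (nat_lit 61004)) (.leaf (nat_lit 60969))) (.node 1 (.leaf (nat_lit 61002)) (.leaf (nat_lit 61068))))))) (.node 13 (.node 6 (.node 3 (.node 1 (.leaf (nat_lit 61027))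 (.node 1 (.leaf (nat_lit 61071)) (.leaf (nat_lit 80)))) (.node 1 (.leaf (nat_lit 90)) (.node 1 (.leaf (nat_lit 61012)) (.leaf (nat_lit 60973))))) (.node 3 (.node 1 (.leaf (nat_lit 61010)) (.node 1 (.leaf (nat_lit 61015)) (.leaf (nat_lit 60975)))) (.node 2 (.node 1 (.leaf (nat_lit 61013)) (.leaf (nat_lit 61080))) (.node 1 (.leaf (nat_lit 48)) (.leaf (nat_lit 81)))))) (.node 7 (.node 3 (.node 1 (.leaf (nat_lit 93)) (.node 1 (.leaf (nat_lit 50)) (.leaf (nat_lit 91)))) (.node 2 (.node 1 (.leaf (nat_lit 61085)) (.leaf (nat_lit 61025))) (.node 1 (.leaf (nat_lit 60980)) (.leaf (nat_lit 61023))))) (.node 3 (.node 1 (.leaf (nat_lit 133)) (.node 1 (.leaf (nat_lit 61006)) (.leaf (nat_lit 60981)))) (.node 2 (.node 1 (.leaf (nat_lit 61070)) (.leaf (nat_lit 61089))) (.node 1 (.leaf (nat_lit 117)) (.leaf (nat_lit 61093))))))))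

noncomputable def lp1_1 : Tree :=
  .node 52 (.node 26 (.node 13 (.node 6 (.node 3 (.node 1 (.leaf (nat_lit 61083)) (.node 1 (.leaf (nat_lit 108)) (.leaf (nat_lit 57)))) (.node 1 (.leaf (nat_lit 106)) (.node 1 (.leaf (nat_lit 111)) (.leaf (nat_lit 58))))) (.node 3 (.node 1 (.leaf (nat_lit 109)) (.node 1 (.leaf (nat_lit 61067)) (.leaf (nat_lit 61094)))) (.node 2 (.node 1 (.leaf (nat_lit 61090)) (.leaf (nat_lit 61043))) (.node 1 (.leaf (nat_lit 62)) (.leaf (nat_lit 103)))))) (.node 6 (.node 3 (.node 1 (.leaf (nat_lit 60998)) (.node 1 (.leaf (nat_lit 60991)) (.leaf (nat_lit 61050)))) (.node 1 (.leaf (nat_lit 60992)) (.node 1 (.leaf (nat_lit 61048)) (.leaf (nat_lit 61053))))) (.node 3 (.node 1 (.leaf (nat_lit 60995)) (.node 1 (.leaf (nat_lit 61051)) (.leaf (nat_lit 61087)))) (.node 2 (.node 1 (.leaf (nat_lit 72)) (.leaf (nat_lit 61115))) (.node 1 (.leaf (nat_lit 61059)) (.leaf (nat_lit 60999))))))) (.node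 13 (.node 6 (.node 3 (.node 1 (.leaf (nat_lit 61057)) (.node 1 (.leaf (nat_lit 191)) (.leaf (nat_lit 98)))) (.node 1 (.leaf (nat_lit 61081)) (.node 1 (.leaf (nat_lit 61099)) (.leaf (nat_lit 61074))))) (.node 3 (.node 1 (.leaf (nat_lit 61065)) (.node 1 (.leaf (nat_lit 61127)) (.leaf (nat_lit 61040)))) (.node 2 (.node 1 (.leaf (nat_lit 61005)) (.leaf (nat_lit 61111))) (.node 1 (.leaf (nat_lit 61029)) (.leaf (nat_lit 61007)))))) (.node 6 (.node 3 (.node 1 (.leaf (nat_lit 61072)) (.node 1 (.leaf (nat_lit 206)) (.leaf (nat_lit 61064)))) (.node 1 (.leaf (nat_lit 61137)) (.node 1 (.leaf (nat_lit 61139)) (.leaf (nat_lit 61107))))) (.node 3 (.node 1 (.leaf (nat_lit 61078)) (.node 1 (.leaf (nat_lit 215)) (.leaf (nat_lit 61016)))) (.node 2 (.node 1 (.leaf (nat_lit 61062)) (.leaf (nat_lit 61131))) (.node 1 (.leaf (nat_lit 61033)) (.leaf (nat_lit 61086)))))))) (.node 26 (.node 13 (.node 6 (.node 3 (.node 1 (.leaf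 (nat_lit 61022)) (.node 1 (.leaf (nat_lit 61084)) (.leaf (nat_lit 61054)))) (.node 1 (.leaf (nat_lit 61088)) (.node 1 (.leaf (nat_lit 61030)) (.leaf (nat_lit 61042))))) (.node 3 (.node 1 (.leaf (nat_lit 61150)) (.node 1 (.leaf (nat_lit 61152)) (.leaf (nat_lit 61032)))) (.node 2 (.node 1 (.leaf (nat_lit 61041)) (.leaf (nat_lit 61155))) (.node 1 (.leaf (nat_lit 229)) (.leaf (nat_lit 61159)))))) (.node 6 (.node 3 (.node 1 (.leaf (nat_lit 61144)) (.node 1 (.leaf (nat_lit 61063)) (.leaf (nat_lit 189)))) (.node 1 (.leaf (nat_lit 61147)) (.node 1 (.leaf (nat_lit 239)) (.leaf (nat_lit 61116))))) (.node 3 (.node 1 (.leaf (nat_lit 61156)) (.node 1 (.leaf (nat_lit 61170)) (.leaf (nat_lit 61174)))) (.node 2 (.node 1 (.leaf (nat_lit 61077)) (.leaf (nat_lit 61177))) (.node 1 (.leaf (nat_lit 61109)) (.leaf (nat_lit 185))))))) (.node 13 (.node 6 (.node 3 (.node 1 (.leaf (nat_lit 61069)) (.node 1 (.leaf (nat_lit 214))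 (.leaf (nat_lit 182)))) (.node 1 (.leaf (nat_lit 240)) (.node 1 (.leaf (nat_lit 61056)) (.leaf (nat_lit 61103))))) (.node 3 (.node 1 (.leaf (nat_lit 172)) (.node 1 (.leaf (nat_lit 192)) (.leaf (nat_lit 132)))) (.node 2 (.node 1 (.leaf (nat_lit 190)) (.leaf (nat_lit 61151))) (.node 1 (.leaf (nat_lit 61123)) (.leaf (nat_lit 61122)))))) (.node 7 (.node 3 (.node 1 (.leaf (nat_lit 61180)) (.node 1 (.leaf (nat_lit 61176)) (.leaf (nat_lit 61128)))) (.node 2 (.node 1 (.leaf (nat_lit 61066)) (.leaf (nat_lit 61126))) (.node 1 (.leaf (nat_lit 207)) (.leaf (nat_lit 61153))))) (.node 3 (.node 1 (.leaf (nat_lit 61082)) (.node 1 (.leaf (nat_lit 230)) (.leaf (nat_lit 61133)))) (.node 2 (.node 1 (.leaf (nat_lit 145)) (.leaf (nat_lit 201))) (.node 1 (.leaf (nat_lit 61138)) (.leaf (nat_lit 61075))))))))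

noncomputable def lp1_2 : Tree :=
  .node 52 (.node 26 (.node 13 (.node 6 (.node 3 (.node 1 (.leaf (nat_lit 61136)) (.node 1 (.leaf (nat_lit 61076)) (.leaf (nat_lit 61140)))) (.node 1 (.leaf (nat_lit 61193)) (.node 1 (.leaf (nat_lit 184)) (.leaf (nat_lit 151))))) (.node 3 (.node 1 (.leaf (nat_lit 61098)) (.node 1 (.leaf (nat_lit 61154)) (.leaf (nat_lit 61196)))) (.node 2 (.node 1 (.leaf (nat_lit 61101)) (.leaf (nat_lit 61200))) (.node 1 (.leaf (nat_lit 61189)) (.leaf (nat_lit 61091)))))) (.node 6 (.node 3 (.node 1 (.leaf (nat_lit 61121)) (.node 1 (.leaf (nat_lit 61092)) (.leaf (nat_lit 61130)))) (.node 1 (.leaf (nat_lit 61145)) (.node 1 (.leaf (nat_lit 61095)) (.leaf (nat_lit 61104))))) (.node 3 (.node 1 (.leaf (nat_lit 168)) (.node 1 (.leaf (nat_lit 204)) (.leaf (nat_lit 61097)))) (.node 2 (.node 1 (.leaf (nat_lit 61161)) (.leaf (nat_lit 61160))) (.node 1 (.leaf (nat_lit 235)) (.leaf (nat_lit 234)))))))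 (.node 13 (.node 6 (.node 3 (.node 1 (.leaf (nat_lit 61213)) (.node 1 (.leaf (nat_lit 61166)) (.leaf (nat_lit 61165)))) (.node 1 (.leaf (nat_lit 174)) (.node 1 (.leaf (nat_lit 186)) (.leaf (nat_lit 61171))))) (.node 3 (.node 1 (.leaf (nat_lit 61105)) (.node 1 (.leaf (nat_lit 61169)) (.leaf (nat_lit 292)))) (.node 2 (.node 1 (.leaf (nat_lit 61175)) (.leaf (nat_lit 61106))) (.node 1 (.leaf (nat_lit 61173)) (.leaf (nat_lit 61125)))))) (.node 6 (.node 3 (.node 1 (.leaf (nat_lit 61108)) (.node 1 (.leaf (nat_lit 251)) (.leaf (nat_lit 250)))) (.node 1 (.leaf (nat_lit 61124)) (.node 1 (.leaf (nat_lit 61224)) (.leaf (nat_lit 61188))))) (.node 3 (.node 1 (.leaf (nat_lit 61203)) (.node 1 (.leaf (nat_lit 299)) (.leaf (nat_lit 61218)))) (.node 2 (.node 1 (.leaf (nat_lit 61187)) (.leaf (nat_lit 61186))) (.node 1 (.leaf (nat_lit 61182)) (.leaf (nat_lit 61149)))))))) (.node 26 (.node 13 (.node 6 (.node 3 (.node 1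 (.leaf (nat_lit 61233)) (.node 1 (.leaf (nat_lit 289)) (.leaf (nat_lit 306)))) (.node 1 (.leaf (nat_lit 61141)) (.node 1 (.leaf (nat_lit 61225)) (.leaf (nat_lit 61211))))) (.node 3 (.node 1 (.leaf (nat_lit 61146)) (.node 1 (.leaf (nat_lit 61198)) (.leaf (nat_lit 61197)))) (.node 2 (.node 1 (.leaf (nat_lit 61201)) (.leaf (nat_lit 61148))) (.node 1 (.leaf (nat_lit 61199)) (.leaf (nat_lit 291)))))) (.node 6 (.node 3 (.node 1 (.leaf (nat_lit 61183)) (.node 1 (.leaf (nat_lit 61238)) (.leaf (nat_lit 304)))) (.node 1 (.leaf (nat_lit 61222)) (.node 1 (.leaf (nat_lit 314)) (.leaf (nat_lit 301))))) (.node 3 (.node 1 (.leaf (nat_lit 61223)) (.node 1 (.leaf (nat_lit 313)) (.leaf (nat_lit 61195)))) (.node 2 (.node 1 (.leaf (nat_lit 61214)) (.leaf (nat_lit 61164))) (.node 1 (.leaf (nat_lit 61212)) (.leaf (nat_lit 312))))))) (.node 13 (.node 6 (.node 3 (.node 1 (.leaf (nat_lit 311)) (.node 1 (.leaf (nat_lit 263))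 (.leaf (nat_lit 61185)))) (.node 1 (.leaf (nat_lit 274)) (.node 1 (.leaf (nat_lit 244)) (.leaf (nat_lit 309))))) (.node 3 (.node 1 (.leaf (nat_lit 61206)) (.node 1 (.leaf (nat_lit 61209)) (.leaf (nat_lit 61181)))) (.node 2 (.node 1 (.leaf (nat_lit 61194)) (.leaf (nat_lit 300))) (.node 1 (.leaf (nat_lit 256)) (.leaf (nat_lit 298)))))) (.node 7 (.node 3 (.node 1 (.leaf (nat_lit 280)) (.node 1 (.leaf (nat_lit 61231)) (.leaf (nat_lit 61230)))) (.node 2 (.node 1 (.leaf (nat_lit 277)) (.leaf (nat_lit 61190))) (.node 1 (.leaf (nat_lit 264)) (.leaf (nat_lit 308))))) (.node 3 (.node 1 (.leaf (nat_lit 307)) (.node 1 (.leaf (nat_lit 293)) (.leaf (nat_lit 61204)))) (.node 2 (.node 1 (.leaf (nat_lit 288)) (.leaf (nat_lit 287))) (.node 1 (.leaf (nat_lit 282)) (.leaf (nat_lit 279))))))))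

noncomputable def lp1 : Tree :=
  .node 105 lp1_0 (.node 105 lp1_1 lp1_2)

noncomputable def lp2_0 : Tree :=
  .node 52 (.node 26 (.node 13 (.node 6 (.node 3 (.node 1 (.leaf (nat_lit 60928)) (.node 1 (.leaf (nat_lit 60931)) (.leaf (nat_lit 60935)))) (.node 1 (.leaf (nat_lit 60929)) (.node 1 (.leaf (nat_lit 60940)) (.leaf (nat_lit 60934))))) (.node 3 (.node 1 (.leaf (nat_lit 60933)) (.node 1 (.leaf (nat_lit 60930)) (.leaf (nat_lit 60949)))) (.node 2 (.node 1 (.leaf (nat_lit 60952)) (.leaf (nat_lit 60939))) (.node 1 (.leaf (nat_lit 60938)) (.leaf (nat_lit 60932)))))) (.node 6 (.node 3 (.node 1 (.leaf (nat_lit 60958)) (.node 1 (.leaf (nat_lit 60957)) (.leaf (nat_lit 60961)))) (.node 1 (.leaf (nat_lit 60965)) (.node 1 (.leaf (nat_lit 60968)) (.leaf (nat_lit 44))))) (.node 3 (.node 1 (.leaf (nat_lit 60948)) (.node 1 (.leaf (nat_lit 60947)) (.leaf (nat_lit 60936)))) (.node 2 (.node 1 (.leaf (nat_lit 60951))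 (.leaf (nat_lit 60950))) (.node 1 (.leaf (nat_lit 60937)) (.leaf (nat_lit 60960))))))) (.node 13 (.node 6 (.node 3 (.node 1 (.leaf (nat_lit 60984)) (.node 1 (.leaf (nat_lit 60967)) (.leaf (nat_lit 60989)))) (.node 1 (.leaf (nat_lit 60942)) (.node 1 (.leaf (nat_lit 60941)) (.leaf (nat_lit 60994))))) (.node 3 (.node 1 (.leaf (nat_lit 60953)) (.node 1 (.leaf (nat_lit 60943)) (.leaf (nat_lit 60966)))) (.node 2 (.node 1 (.leaf (nat_lit 60964)) (.leaf (nat_lit 60963))) (.node 1 (.leaf (nat_lit 60944)) (.leaf (nat_lit 60962)))))) (.node 6 (.node 3 (.node 1 (.leaf (nat_lit 60955)) (.node 1 (.leaf (nat_lit 60945)) (.leaf (nat_lit 76)))) (.node 1 (.leaf (nat_lit 43)) (.node 1 (.leaf (nat_lit 42)) (.leaf (nat_lit 18))))) (.node 3 (.node 1 (.leaf (nat_lit 61012)) (.node 1 (.leaf (nat_lit 60993)) (.leaf (nat_lit 61015)))) (.node 2 (.node 1 (.leaf (nat_lit 61018)) (.leaf (nat_lit 60979))) (.node 1 (.leaf (nat_lit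 61021)) (.leaf (nat_lit 60977)))))))) (.node 26 (.node 13 (.node 6 (.node 3 (.node 1 (.leaf (nat_lit 97)) (.node 1 (.leaf (nat_lit 61006)) (.leaf (nat_lit 60983)))) (.node 1 (.leaf (nat_lit 60982)) (.node 1 (.leaf (nat_lit 60954)) (.leaf (nat_lit 61036))))) (.node 3 (.node 1 (.leaf (nat_lit 61039)) (.node 1 (.leaf (nat_lit 60988)) (.leaf (nat_lit 60987)))) (.node 2 (.node 1 (.leaf (nat_lit 60956)) (.leaf (nat_lit 61045))) (.node 1 (.leaf (nat_lit 70)) (.leaf (nat_lit 61050)))))) (.node 6 (.node 3 (.node 1 (.leaf (nat_lit 60974)) (.node 1 (.leaf (nat_lit 60959)) (.leaf (nat_lit 61053)))) (.node 1 (.leaf (nat_lit 60997)) (.node 1 (.leaf (nat_lit 60996)) (.leaf (nat_lit 63))))) (.node 3 (.node 1 (.leaf (nat_lit 61059)) (.node 1 (.leaf (nat_lit 61061)) (.leaf (nat_lit 73)))) (.node 2 (.node 1 (.leaf (nat_lit 75)) (.leaf (nat_lit 74))) (.node 1 (.leaf (nat_lit 41)) (.leaf (nat_lit 61040))))))) (.node 13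 (.node 6 (.node 3 (.node 1 (.leaf (nat_lit 60981)) (.node 1 (.leaf (nat_lit 101)) (.leaf (nat_lit 61008)))) (.node 1 (.leaf (nat_lit 61017)) (.node 1 (.leaf (nat_lit 61011)) (.leaf (nat_lit 61010))))) (.node 3 (.node 1 (.leaf (nat_lit 60973)) (.node 1 (.leaf (nat_lit 61014)) (.leaf (nat_lit 61013)))) (.node 2 (.node 1 (.leaf (nat_lit 60975)) (.leaf (nat_lit 61081))) (.node 1 (.leaf (nat_lit 61009)) (.leaf (nat_lit 60976)))))) (.node 7 (.node 3 (.node 1 (.leaf (nat_lit 61020)) (.node 1 (.leaf (nat_lit 61019)) (.leaf (nat_lit 60978)))) (.node 2 (.node 1 (.leaf (nat_lit 61086)) (.leaf (nat_lit 96))) (.node 1 (.leaf (nat_lit 95)) (.leaf (nat_lit 52))))) (.node 3 (.node 1 (.leaf (nat_lit 61055)) (.node 1 (.leaf (nat_lit 61028)) (.leaf (nat_lit 61027)))) (.node 2 (.node 1 (.leaf (nat_lit 79)) (.leaf (nat_lit 162))) (.node 1 (.leaf (nat_lit 61044)) (.leaf (nat_lit 166))))))))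

noncomputable def lp2_1 : Tree :=
  .node 52 (.node 26 (.node 13 (.node 6 (.node 3 (.node 1 (.leaf (nat_lit 61033)) (.node 1 (.leaf (nat_lit 61035)) (.leaf (nat_lit 61034)))) (.node 1 (.leaf (nat_lit 60985)) (.node 1 (.leaf (nat_lit 61038)) (.leaf (nat_lit 61037))))) (.node 3 (.node 1 (.leaf (nat_lit 60986)) (.node 1 (.leaf (nat_lit 61005)) (.leaf (nat_lit 165)))) (.node 2 (.node 1 (.leaf (nat_lit 161)) (.leaf (nat_lit 61088))) (.node 1 (.leaf (nat_lit 61031)) (.leaf (nat_lit 60990)))))) (.node 6 (.node 3 (.node 1 (.leaf (nat_lit 119)) (.node 1 (.leaf (nat_lit 118)) (.leaf (nat_lit 61049)))) (.node 1 (.leaf (nat_lit 61048)) (.node 1 (.leaf (nat_lit 60992)) (.leaf (nat_lit 61052))))) (.node 3 (.node 1 (.leaf (nat_lit 61051)) (.node 1 (.leaf (nat_lit 60995)) (.leaf (nat_lit 61054)))) (.node 2 (.node 1 (.leaf (nat_lit 61026)) (.leaf (nat_lit 61077))) (.node 1 (.leaf (nat_lit 61058)) (.leaf (nat_lit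 61057))))))) (.node 13 (.node 6 (.node 3 (.node 1 (.leaf (nat_lit 60999)) (.node 1 (.leaf (nat_lit 61120)) (.leaf (nat_lit 61000)))) (.node 1 (.leaf (nat_lit 61080)) (.node 1 (.leaf (nat_lit 61116)) (.leaf (nat_lit 195))))) (.node 3 (.node 1 (.leaf (nat_lit 61109)) (.node 1 (.leaf (nat_lit 61128)) (.leaf (nat_lit 61068)))) (.node 2 (.node 1 (.leaf (nat_lit 61067)) (.leaf (nat_lit 61131))) (.node 1 (.leaf (nat_lit 143)) (.leaf (nat_lit 142)))))) (.node 6 (.node 3 (.node 1 (.leaf (nat_lit 61133)) (.node 1 (.leaf (nat_lit 61135)) (.leaf (nat_lit 194)))) (.node 1 (.leaf (nat_lit 61138)) (.node 1 (.leaf (nat_lit 61076)) (.leaf (nat_lit 61056))))) (.node 3 (.node 1 (.leaf (nat_lit 61140)) (.node 1 (.leaf (nat_lit 61112)) (.leaf (nat_lit 61062)))) (.node 2 (.node 1 (.leaf (nat_lit 61016)) (.leaf (nat_lit 61111))) (.node 1 (.leaf (nat_lit 61083)) (.leaf (nat_lit 61085)))))))) (.node 26 (.node 13 (.node 6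 (.node 3 (.node 1 (.leaf (nat_lit 61084)) (.node 1 (.leaf (nat_lit 61022)) (.leaf (nat_lit 61087)))) (.node 1 (.leaf (nat_lit 61043)) (.node 1 (.leaf (nat_lit 114)) (.leaf (nat_lit 102))))) (.node 3 (.node 1 (.leaf (nat_lit 61151)) (.node 1 (.leaf (nat_lit 61153)) (.leaf (nat_lit 113)))) (.node 2 (.node 1 (.leaf (nat_lit 104)) (.leaf (nat_lit 61156))) (.node 1 (.leaf (nat_lit 61158)) (.leaf (nat_lit 61097)))))) (.node 6 (.node 3 (.node 1 (.leaf (nat_lit 61161)) (.node 1 (.leaf (nat_lit 61103)) (.leaf (nat_lit 61163)))) (.node 1 (.leaf (nat_lit 61166)) (.node 1 (.leaf (nat_lit 61168)) (.leaf (nat_lit 61099))))) (.node 3 (.node 1 (.leaf (nat_lit 61155)) (.node 1 (.leaf (nat_lit 61171)) (.leaf (nat_lit 61175)))) (.node 2 (.node 1 (.leaf (nat_lit 61115)) (.leaf (nat_lit 61125))) (.node 1 (.leaf (nat_lit 61065)) (.leaf (nat_lit 61179))))))) (.node 13 (.node 6 (.node 3 (.node 1 (.leaf (nat_lit 61082)) (.node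 1 (.leaf (nat_lit 61079)) (.leaf (nat_lit 61178)))) (.node 1 (.leaf (nat_lit 61167)) (.node 1 (.leaf (nat_lit 61107)) (.leaf (nat_lit 61063))))) (.node 3 (.node 1 (.leaf (nat_lit 61162)) (.node 1 (.leaf (nat_lit 61119)) (.leaf (nat_lit 61118)))) (.node 2 (.node 1 (.leaf (nat_lit 61060)) (.leaf (nat_lit 61150))) (.node 1 (.leaf (nat_lit 146)) (.leaf (nat_lit 136)))))) (.node 7 (.node 3 (.node 1 (.leaf (nat_lit 61187)) (.node 1 (.leaf (nat_lit 61108)) (.leaf (nat_lit 61127)))) (.node 2 (.node 1 (.leaf (nat_lit 61126)) (.leaf (nat_lit 61066))) (.node 1 (.leaf (nat_lit 61134)) (.leaf (nat_lit 61152))))) (.node 3 (.node 1 (.leaf (nat_lit 61069)) (.node 1 (.leaf (nat_lit 61157)) (.leaf (nat_lit 61072)))) (.node 2 (.node 1 (.leaf (nat_lit 61129)) (.leaf (nat_lit 61073))) (.node 1 (.leaf (nat_lit 61137)) (.leaf (nat_lit 61136))))))))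

noncomputable def lp2_2 : Tree :=
  .node 52 (.node 26 (.node 13 (.node 6 (.node 3 (.node 1 (.leaf (nat_lit 61075)) (.node 1 (.leaf (nat_lit 61139)) (.leaf (nat_lit 61078)))) (.node 1 (.leaf (nat_lit 61145)) (.node 1 (.leaf (nat_lit 61143)) (.leaf (nat_lit 61142))))) (.node 3 (.node 1 (.leaf (nat_lit 61160)) (.node 1 (.leaf (nat_lit 61141)) (.leaf (nat_lit 61198)))) (.node 2 (.node 1 (.leaf (nat_lit 61165)) (.leaf (nat_lit 61201))) (.node 1 (.leaf (nat_lit 61203)) (.leaf (nat_lit 61121)))))) (.node 6 (.node 3 (.node 1 (.leaf (nat_lit 61091)) (.node 1 (.leaf (nat_lit 61130)) (.leaf (nat_lit 61092)))) (.node 1 (.leaf (nat_lit 61193)) (.node 1 (.leaf (nat_lit 61104)) (.leaf (nat_lit 61095))))) (.node 3 (.node 1 (.leaf (nat_lit 61132)) (.node 1 (.leaf (nat_lit 61096)) (.leaf (nat_lit 61159)))) (.node 2 (.node 1 (.leaf (nat_lit 61144)) (.leaf (nat_lit 61098))) (.node 1 (.leaf (nat_lit 61117)) (.leaf (nat_lit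 61100))))))) (.node 13 (.node 6 (.node 3 (.node 1 (.leaf (nat_lit 61214)) (.node 1 (.leaf (nat_lit 61147)) (.leaf (nat_lit 61101)))) (.node 1 (.leaf (nat_lit 61114)) (.node 1 (.leaf (nat_lit 61102)) (.leaf (nat_lit 61170))))) (.node 3 (.node 1 (.leaf (nat_lit 61169)) (.node 1 (.leaf (nat_lit 61105)) (.leaf (nat_lit 61202)))) (.node 2 (.node 1 (.leaf (nat_lit 61174)) (.leaf (nat_lit 61173))) (.node 1 (.leaf (nat_lit 61106)) (.leaf (nat_lit 61177)))))) (.node 6 (.node 3 (.node 1 (.leaf (nat_lit 61176)) (.node 1 (.leaf (nat_lit 61113)) (.leaf (nat_lit 61110)))) (.node 1 (.leaf (nat_lit 61186)) (.node 1 (.leaf (nat_lit 61209)) (.leaf (nat_lit 61194))))) (.node 3 (.node 1 (.leaf (nat_lit 61189)) (.node 1 (.leaf (nat_lit 61228)) (.leaf (nat_lit 61231)))) (.node 2 (.node 1 (.leaf (nat_lit 61180)) (.leaf (nat_lit 61124))) (.node 1 (.leaf (nat_lit 61225)) (.leaf (nat_lit 61183)))))))) (.node 26 (.node 13 (.node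 6 (.node 3 (.node 1 (.leaf (nat_lit 61206)) (.node 1 (.leaf (nat_lit 61236)) (.leaf (nat_lit 61237)))) (.node 1 (.leaf (nat_lit 61154)) (.node 1 (.leaf (nat_lit 61182)) (.leaf (nat_lit 61238))))) (.node 3 (.node 1 (.leaf (nat_lit 61197)) (.node 1 (.leaf (nat_lit 61196)) (.leaf (nat_lit 61146)))) (.node 2 (.node 1 (.leaf (nat_lit 61200)) (.leaf (nat_lit 61199))) (.node 1 (.leaf (nat_lit 61148)) (.leaf (nat_lit 61172)))))) (.node 6 (.node 3 (.node 1 (.leaf (nat_lit 61149)) (.node 1 (.leaf (nat_lit 61211)) (.leaf (nat_lit 61216)))) (.node 1 (.leaf (nat_lit 61190)) (.node 1 (.leaf (nat_lit 61210)) (.leaf (nat_lit 61229))))) (.node 3 (.node 1 (.leaf (nat_lit 61181)) (.node 1 (.leaf (nat_lit 61207)) (.leaf (nat_lit 61204)))) (.node 2 (.node 1 (.leaf (nat_lit 61213)) (.leaf (nat_lit 61212))) (.node 1 (.leaf (nat_lit 61164)) (.leaf (nat_lit 61240))))))) (.node 13 (.node 6 (.node 3 (.node 1 (.leaf (nat_lit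 61205)) (.node 1 (.leaf (nat_lit 61235)) (.leaf (nat_lit 61230)))) (.node 1 (.leaf (nat_lit 61220)) (.node 1 (.leaf (nat_lit 61219)) (.leaf (nat_lit 61234))))) (.node 3 (.node 1 (.leaf (nat_lit 61233)) (.node 1 (.leaf (nat_lit 61224)) (.leaf (nat_lit 61223)))) (.node 2 (.node 1 (.leaf (nat_lit 61188)) (.leaf (nat_lit 61227))) (.node 1 (.leaf (nat_lit 61226)) (.leaf (nat_lit 61184)))))) (.node 7 (.node 3 (.node 1 (.leaf (nat_lit 61208)) (.node 1 (.leaf (nat_lit 61218)) (.leaf (nat_lit 61185)))) (.node 2 (.node 1 (.leaf (nat_lit 61239)) (.leaf (nat_lit 61222))) (.node 1 (.leaf (nat_lit 61221)) (.leaf (nat_lit 61217))))) (.node 3 (.node 1 (.leaf (nat_lit 61191)) (.node 1 (.leaf (nat_lit 61192)) (.leaf (nat_lit 61195)))) (.node 2 (.node 1 (.leaf (nat_lit 61232)) (.leaf (nat_lit 61215))) (.node 1 (.leaf (nat_lit 61242)) (.leaf (nat_lit 61241))))))))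

noncomputable def lp2 : Tree :=
  .node 105 lp2_0 (.node 105 lp2_1 lp2_2)

noncomputable def lp3_0 : Tree :=
  .node 52 (.node 26 (.node 13 (.node 6 (.node 3 (.node 1 (.leaf (nat_lit 36865)) (.node 1 (.leaf (nat_lit 24064)) (.leaf (nat_lit 24584)))) (.node 1 (.leaf (nat_lit 60931)) (.node 1 (.leaf (nat_lit 24589)) (.leaf (nat_lit 36366))))) (.node 3 (.node 1 (.leaf (nat_lit 24079)) (.node 1 (.leaf (nat_lit 56337)) (.leaf (nat_lit 36354)))) (.node 2 (.node 1 (.leaf (nat_lit 37910)) (.leaf (nat_lit 36371))) (.node 1 (.leaf (nat_lit 24089)) (.leaf (nat_lit 56347)))))) (.node 6 (.node 3 (.node 1 (.leaf (nat_lit 36356)) (.node 1 (.leaf (nat_lit 24581)) (.leaf (nat_lit 36870)))) (.node 1 (.leaf (nat_lit 25638)) (.node 1 (.leaf (nat_lit 54791)) (.leaf (nat_lit 50221))))) (.node 3 (.node 1 (.leaf (nat_lit 24586)) (.node 1 (.leaf (nat_lit 56352)) (.leaf (nat_lit 24104)))) (.node 2 (.node 1 (.leaf (nat_lit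 23049)) (.leaf (nat_lit 37937))) (.node 1 (.leaf (nat_lit 51)) (.leaf (nat_lit 36875))))))) (.node 13 (.node 6 (.node 3 (.node 1 (.leaf (nat_lit 23609)) (.node 1 (.leaf (nat_lit 54796)) (.leaf (nat_lit 55870)))) (.node 1 (.leaf (nat_lit 56353)) (.node 1 (.leaf (nat_lit 24103)) (.leaf (nat_lit 31))))) (.node 3 (.node 1 (.leaf (nat_lit 54804)) (.node 1 (.leaf (nat_lit 54813)) (.leaf (nat_lit 48198)))) (.node 2 (.node 1 (.leaf (nat_lit 25671)) (.leaf (nat_lit 26184))) (.node 1 (.leaf (nat_lit 22591)) (.leaf (nat_lit 35344)))))) (.node 6 (.node 3 (.node 1 (.leaf (nat_lit 36894)) (.node 1 (.leaf (nat_lit 36885)) (.leaf (nat_lit 9293)))) (.node 1 (.leaf (nat_lit 50254)) (.node 1 (.leaf (nat_lit 27727)) (.leaf (nat_lit 57937))))) (.node 3 (.node 1 (.leaf (nat_lit 44562)) (.node 1 (.leaf (nat_lit 60974)) (.leaf (nat_lit 88)))) (.node 2 (.node 1 (.leaf (nat_lit 28722)) (.leaf (nat_lit 23063))) (.node 1 (.leaf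 (nat_lit 32304)) (.leaf (nat_lit 24)))))))) (.node 26 (.node 13 (.node 6 (.node 3 (.node 1 (.leaf (nat_lit 44130)) (.node 1 (.leaf (nat_lit 19045)) (.leaf (nat_lit 48742)))) (.node 1 (.leaf (nat_lit 55911)) (.node 1 (.leaf (nat_lit 21608)) (.leaf (nat_lit 37402))))) (.node 3 (.node 1 (.leaf (nat_lit 60016)) (.node 1 (.leaf (nat_lit 21617)) (.leaf (nat_lit 48754)))) (.node 2 (.node 1 (.leaf (nat_lit 23658)) (.leaf (nat_lit 55324))) (.node 1 (.leaf (nat_lit 16933)) (.leaf (nat_lit 60992)))))) (.node 6 (.node 3 (.node 1 (.leaf (nat_lit 61008)) (.node 1 (.leaf (nat_lit 29769)) (.leaf (nat_lit 42622)))) (.node 1 (.leaf (nat_lit 56959)) (.node 1 (.leaf (nat_lit 17505)) (.leaf (nat_lit 46626))))) (.node 3 (.node 1 (.leaf (nat_lit 35363)) (.node 1 (.leaf (nat_lit 34852)) (.leaf (nat_lit 31298)))) (.node 2 (.node 1 (.leaf (nat_lit 9351)) (.leaf (nat_lit 59528))) (.node 1 (.leaf (nat_lit 52335)) (.leaf (nat_lit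 1577))))))) (.node 13 (.node 6 (.node 3 (.node 1 (.leaf (nat_lit 44586)) (.node 1 (.leaf (nat_lit 33323)) (.leaf (nat_lit 60993)))) (.node 1 (.leaf (nat_lit 53292)) (.node 1 (.leaf (nat_lit 19548)) (.leaf (nat_lit 19087))))) (.node 3 (.node 1 (.leaf (nat_lit 11353)) (.node 1 (.leaf (nat_lit 61013)) (.leaf (nat_lit 56468)))) (.node 2 (.node 1 (.leaf (nat_lit 4758)) (.leaf (nat_lit 47))) (.node 1 (.leaf (nat_lit 15956)) (.leaf (nat_lit 15971)))))) (.node 7 (.node 3 (.node 1 (.leaf (nat_lit 7822)) (.node 1 (.leaf (nat_lit 20050)) (.leaf (nat_lit 20068)))) (.node 2 (.node 1 (.leaf (nat_lit 18591)) (.leaf (nat_lit 33910))) (.node 1 (.leaf (nat_lit 22145)) (.leaf (nat_lit 22085))))) (.node 3 (.node 1 (.leaf (nat_lit 38452)) (.node 1 (.leaf (nat_lit 11354)) (.leaf (nat_lit 19549)))) (.node 2 (.node 1 (.leaf (nat_lit 20533)) (.leaf (nat_lit 46134))) (.node 1 (.leaf (nat_lit 55351)) (.leaf (nat_lit 17976))))))))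

noncomputable def lp3_1 : Tree :=
  .node 52 (.node 26 (.node 13 (.node 6 (.node 3 (.node 1 (.leaf (nat_lit 49319)) (.node 1 (.leaf (nat_lit 37437)) (.leaf (nat_lit 25205)))) (.node 1 (.leaf (nat_lit 49318)) (.node 1 (.leaf (nat_lit 60075)) (.leaf (nat_lit 60588))))) (.node 3 (.node 1 (.leaf (nat_lit 58956)) (.node 1 (.leaf (nat_lit 51258)) (.leaf (nat_lit 17979)))) (.node 2 (.node 1 (.leaf (nat_lit 46140)) (.leaf (nat_lit 11952))) (.node 1 (.leaf (nat_lit 11938)) (.leaf (nat_lit 35947)))))) (.node 6 (.node 3 (.node 1 (.leaf (nat_lit 27231)) (.node 1 (.leaf (nat_lit 46722)) (.leaf (nat_lit 180)))) (.node 1 (.leaf (nat_lit 24245)) (.node 1 (.leaf (nat_lit 37033)) (.leaf (nat_lit 18576))))) (.node 3 (.node 1 (.leaf (nat_lit 157)) (.node 1 (.leaf (nat_lit 61053)) (.leaf (nat_lit 40003)))) (.node 2 (.node 1 (.leaf (nat_lit 54340)) (.leaf (nat_lit 41128))) (.node 1 (.leaf (nat_lit 17504)) (.leaf (nat_lit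 48247))))))) (.node 13 (.node 6 (.node 3 (.node 1 (.leaf (nat_lit 56965)) (.node 1 (.leaf (nat_lit 33933)) (.leaf (nat_lit 54403)))) (.node 1 (.leaf (nat_lit 61062)) (.node 1 (.leaf (nat_lit 1610)) (.leaf (nat_lit 51787))))) (.node 3 (.node 1 (.leaf (nat_lit 24261)) (.node 1 (.leaf (nat_lit 28821)) (.leaf (nat_lit 52413)))) (.node 2 (.node 1 (.leaf (nat_lit 51858)) (.leaf (nat_lit 27268))) (.node 1 (.leaf (nat_lit 3163)) (.leaf (nat_lit 20563)))))) (.node 6 (.node 3 (.node 1 (.leaf (nat_lit 21115)) (.node 1 (.leaf (nat_lit 49828)) (.leaf (nat_lit 59532)))) (.node 1 (.leaf (nat_lit 15515)) (.node 1 (.leaf (nat_lit 54870)) (.leaf (nat_lit 32394))))) (.node 3 (.node 1 (.leaf (nat_lit 6231)) (.node 1 (.leaf (nat_lit 49880)) (.leaf (nat_lit 4819)))) (.node 2 (.node 1 (.leaf (nat_lit 56532)) (.leaf (nat_lit 53946))) (.node 1 (.leaf (nat_lit 11923)) (.leaf (nat_lit 42701)))))))) (.node 26 (.node 13 (.node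 6 (.node 3 (.node 1 (.leaf (nat_lit 124)) (.node 1 (.leaf (nat_lit 61086)) (.leaf (nat_lit 21086)))) (.node 1 (.leaf (nat_lit 49360)) (.node 1 (.leaf (nat_lit 37029)) (.leaf (nat_lit 15476))))) (.node 3 (.node 1 (.leaf (nat_lit 53934)) (.node 1 (.leaf (nat_lit 45201)) (.leaf (nat_lit 24225)))) (.node 2 (.node 1 (.leaf (nat_lit 45676)) (.leaf (nat_lit 45673))) (.node 1 (.leaf (nat_lit 41600)) (.leaf (nat_lit 24186)))))) (.node 6 (.node 3 (.node 1 (.leaf (nat_lit 32474)) (.node 1 (.leaf (nat_lit 51309)) (.leaf (nat_lit 50798)))) (.node 1 (.leaf (nat_lit 26847)) (.node 1 (.leaf (nat_lit 57507)) (.leaf (nat_lit 52459))))) (.node 3 (.node 1 (.leaf (nat_lit 15475)) (.node 1 (.leaf (nat_lit 24308)) (.leaf (nat_lit 26807)))) (.node 2 (.node 1 (.leaf (nat_lit 45257)) (.leaf (nat_lit 120))) (.node 1 (.leaf (nat_lit 36985)) (.leaf (nat_lit 34044))))))) (.node 13 (.node 6 (.node 3 (.node 1 (.leaf (nat_lit 34482))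 (.node 1 (.leaf (nat_lit 41725)) (.leaf (nat_lit 57598)))) (.node 1 (.leaf (nat_lit 57498)) (.node 1 (.leaf (nat_lit 28927)) (.leaf (nat_lit 51907))))) (.node 3 (.node 1 (.leaf (nat_lit 59019)) (.node 1 (.leaf (nat_lit 33985)) (.leaf (nat_lit 57590)))) (.node 2 (.node 1 (.leaf (nat_lit 57563)) (.leaf (nat_lit 27326))) (.node 1 (.leaf (nat_lit 9962)) (.leaf (nat_lit 59580)))))) (.node 7 (.node 3 (.node 1 (.leaf (nat_lit 34564)) (.node 1 (.leaf (nat_lit 37001)) (.leaf (nat_lit 32481)))) (.node 2 (.node 1 (.leaf (nat_lit 41167)) (.leaf (nat_lit 45286))) (.node 1 (.leaf (nat_lit 49843)) (.leaf (nat_lit 41164))))) (.node 3 (.node 1 (.leaf (nat_lit 26861)) (.node 1 (.leaf (nat_lit 41674)) (.leaf (nat_lit 40092)))) (.node 2 (.node 1 (.leaf (nat_lit 41733)) (.leaf (nat_lit 41671))) (.node 1 (.leaf (nat_lit 45728)) (.leaf (nat_lit 227))))))))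

noncomputable def lp3_2 : Tree :=
  .node 52 (.node 26 (.node 13 (.node 6 (.node 3 (.node 1 (.leaf (nat_lit 61138)) (.node 1 (.leaf (nat_lit 6296)) (.leaf (nat_lit 54937)))) (.node 1 (.leaf (nat_lit 26890)) (.node 1 (.leaf (nat_lit 49931)) (.leaf (nat_lit 41740))))) (.node 3 (.node 1 (.leaf (nat_lit 45207)) (.node 1 (.leaf (nat_lit 27386)) (.leaf (nat_lit 28842)))) (.node 2 (.node 1 (.leaf (nat_lit 53952)) (.leaf (nat_lit 56594))) (.node 1 (.leaf (nat_lit 28896)) (.leaf (nat_lit 26869)))))) (.node 6 (.node 3 (.node 1 (.leaf (nat_lit 34477)) (.node 1 (.leaf (nat_lit 32477)) (.leaf (nat_lit 28870)))) (.node 1 (.leaf (nat_lit 34582)) (.node 1 (.leaf (nat_lit 209)) (.leaf (nat_lit 61156))))) (.node 3 (.node 1 (.leaf (nat_lit 49939)) (.node 1 (.leaf (nat_lit 49864)) (.leaf (nat_lit 37113)))) (.node 2 (.node 1 (.leaf (nat_lit 28953)) (.leaf (nat_lit 41242))) (.node 1 (.leaf (nat_lit 1218)) (.leaf (nat_lit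 59055))))))) (.node 13 (.node 6 (.node 3 (.node 1 (.leaf (nat_lit 24341)) (.node 1 (.leaf (nat_lit 34507)) (.leaf (nat_lit 27376)))) (.node 1 (.leaf (nat_lit 34039)) (.node 1 (.leaf (nat_lit 34030)) (.leaf (nat_lit 56608))))) (.node 3 (.node 1 (.leaf (nat_lit 24862)) (.node 1 (.leaf (nat_lit 36625)) (.leaf (nat_lit 37041)))) (.node 2 (.node 1 (.leaf (nat_lit 34526)) (.leaf (nat_lit 53951))) (.node 1 (.leaf (nat_lit 27375)) (.leaf (nat_lit 61176)))))) (.node 6 (.node 3 (.node 1 (.leaf (nat_lit 24295)) (.node 1 (.leaf (nat_lit 34009)) (.leaf (nat_lit 57638)))) (.node 1 (.leaf (nat_lit 27318)) (.node 1 (.leaf (nat_lit 41144)) (.leaf (nat_lit 53945))))) (.node 3 (.node 1 (.leaf (nat_lit 32443)) (.node 1 (.leaf (nat_lit 10541)) (.leaf (nat_lit 56624)))) (.node 2 (.node 1 (.leaf (nat_lit 26929)) (.leaf (nat_lit 54066))) (.node 1 (.leaf (nat_lit 26820)) (.leaf (nat_lit 41166)))))))) (.node 26 (.node 13 (.node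 6 (.node 3 (.node 1 (.leaf (nat_lit 27400)) (.node 1 (.leaf (nat_lit 10015)) (.leaf (nat_lit 34054)))) (.node 1 (.leaf (nat_lit 54069)) (.node 1 (.leaf (nat_lit 34517)) (.leaf (nat_lit 45270))))) (.node 3 (.node 1 (.leaf (nat_lit 41175)) (.node 1 (.leaf (nat_lit 32566)) (.leaf (nat_lit 45335)))) (.node 2 (.node 1 (.leaf (nat_lit 24375)) (.leaf (nat_lit 36655))) (.node 1 (.leaf (nat_lit 24819)) (.leaf (nat_lit 55004)))))) (.node 6 (.node 3 (.node 1 (.leaf (nat_lit 45285)) (.node 1 (.leaf (nat_lit 41274)) (.leaf (nat_lit 37100)))) (.node 1 (.leaf (nat_lit 26850)) (.node 1 (.leaf (nat_lit 49934)) (.leaf (nat_lit 2346))))) (.node 3 (.node 1 (.leaf (nat_lit 32488)) (.node 1 (.leaf (nat_lit 41705)) (.leaf (nat_lit 32552)))) (.node 2 (.node 1 (.leaf (nat_lit 56612)) (.leaf (nat_lit 24866))) (.node 1 (.leaf (nat_lit 36594)) (.leaf (nat_lit 1287))))))) (.node 13 (.node 6 (.node 3 (.node 1 (.leaf (nat_lit 55025))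 (.node 1 (.leaf (nat_lit 30516)) (.leaf (nat_lit 36637)))) (.node 1 (.leaf (nat_lit 37166)) (.node 1 (.leaf (nat_lit 55068)) (.leaf (nat_lit 34089))))) (.node 3 (.node 1 (.leaf (nat_lit 54011)) (.node 1 (.leaf (nat_lit 45369)) (.leaf (nat_lit 28955)))) (.node 2 (.node 1 (.leaf (nat_lit 27429)) (.leaf (nat_lit 8984))) (.node 1 (.leaf (nat_lit 31532)) (.leaf (nat_lit 29995)))))) (.node 7 (.node 3 (.node 1 (.leaf (nat_lit 768)) (.node 1 (.leaf (nat_lit 24355)) (.leaf (nat_lit 24848)))) (.node 2 (.node 1 (.leaf (nat_lit 55041)) (.leaf (nat_lit 34562))) (.node 1 (.leaf (nat_lit 57603)) (.leaf (nat_lit 9528))))) (.node 3 (.node 1 (.leaf (nat_lit 31009)) (.node 1 (.leaf (nat_lit 57609)) (.leaf (nat_lit 28941)))) (.node 2 (.node 1 (.leaf (nat_lit 37135)) (.leaf (nat_lit 1843))) (.node 1 (.leaf (nat_lit 49959)) (.leaf (nat_lit 41748))))))))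

noncomputable def lp3 : Tree :=
  .node 105 lp3_0 (.node 105 lp3_1 lp3_2)

noncomputable def lp4_0 : Tree :=
  .node 52 (.node 26 (.node 13 (.node 6 (.node 3 (.node 1 (.leaf (nat_lit 60930)) (.node 1 (.leaf (nat_lit 6148)) (.leaf (nat_lit 60928)))) (.node 1 (.leaf (nat_lit 46089)) (.node 1 (.leaf (nat_lit 4609)) (.leaf (nat_lit 5))))) (.node 3 (.node 1 (.leaf (nat_lit 60432)) (.node 1 (.leaf (nat_lit 10258)) (.leaf (nat_lit 36365)))) (.node 2 (.node 1 (.leaf (nat_lit 48643)) (.leaf (nat_lit 60938))) (.node 1 (.leaf (nat_lit 51738)) (.leaf (nat_lit 59420)))))) (.node 6 (.node 3 (.node 1 (.leaf (nat_lit 24584)) (.node 1 (.leaf (nat_lit 36895)) (.leaf (nat_lit 48674)))) (.node 1 (.leaf (nat_lit 50694)) (.node 1 (.leaf (nat_lit 59945)) (.leaf (nat_lit 519))))) (.node 3 (.node 1 (.leaf (nat_lit 56366)) (.node 1 (.leaf (nat_lit 49199)) (.leaf (nat_lit 55344)))) (.node 2 (.node 1 (.leaf (nat_lit 60950))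 (.leaf (nat_lit 58930))) (.node 1 (.leaf (nat_lit 59444)) (.leaf (nat_lit 39477))))))) (.node 13 (.node 6 (.node 3 (.node 1 (.leaf (nat_lit 59403)) (.node 1 (.leaf (nat_lit 51770)) (.leaf (nat_lit 51724)))) (.node 1 (.leaf (nat_lit 49215)) (.node 1 (.leaf (nat_lit 40000)) (.leaf (nat_lit 24078))))) (.node 3 (.node 1 (.leaf (nat_lit 24131)) (.node 1 (.leaf (nat_lit 43074)) (.leaf (nat_lit 46095)))) (.node 2 (.node 1 (.leaf (nat_lit 554)) (.leaf (nat_lit 60964))) (.node 1 (.leaf (nat_lit 60489)) (.leaf (nat_lit 5702)))))) (.node 6 (.node 3 (.node 1 (.leaf (nat_lit 60967)) (.node 1 (.leaf (nat_lit 18481)) (.leaf (nat_lit 51217)))) (.node 1 (.leaf (nat_lit 10275)) (.node 1 (.leaf (nat_lit 50768)) (.leaf (nat_lit 60972))))) (.node 3 (.node 1 (.leaf (nat_lit 33357)) (.node 1 (.leaf (nat_lit 54803)) (.leaf (nat_lit 45588)))) (.node 2 (.node 1 (.leaf (nat_lit 55829)) (.leaf (nat_lit 21032))) (.node 1 (.leaf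 (nat_lit 52247)) (.leaf (nat_lit 12382)))))))) (.node 26 (.node 13 (.node 6 (.node 3 (.node 1 (.leaf (nat_lit 51736)) (.node 1 (.leaf (nat_lit 43033)) (.leaf (nat_lit 51771)))) (.node 1 (.leaf (nat_lit 30812)) (.node 1 (.leaf (nat_lit 7273)) (.leaf (nat_lit 60517))))) (.node 3 (.node 1 (.leaf (nat_lit 59419)) (.node 1 (.leaf (nat_lit 59446)) (.leaf (nat_lit 15987)))) (.node 2 (.node 1 (.leaf (nat_lit 37985)) (.leaf (nat_lit 45168))) (.node 1 (.leaf (nat_lit 45597)) (.leaf (nat_lit 42526)))))) (.node 6 (.node 3 (.node 1 (.leaf (nat_lit 48763)) (.node 1 (.leaf (nat_lit 39457)) (.leaf (nat_lit 36896)))) (.node 1 (.leaf (nat_lit 24163)) (.node 1 (.leaf (nat_lit 39552)) (.leaf (nat_lit 5158))))) (.node 3 (.node 1 (.leaf (nat_lit 57476)) (.node 1 (.leaf (nat_lit 29830)) (.leaf (nat_lit 50725)))) (.node 2 (.node 1 (.leaf (nat_lit 50797)) (.leaf (nat_lit 42121))) (.node 1 (.leaf (nat_lit 29834)) (.leaf (nat_lit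 27693))))))) (.node 13 (.node 6 (.node 3 (.node 1 (.leaf (nat_lit 48781)) (.node 1 (.leaf (nat_lit 53392)) (.leaf (nat_lit 60459)))) (.node 1 (.leaf (nat_lit 48725)) (.node 1 (.leaf (nat_lit 20625)) (.leaf (nat_lit 19602))))) (.node 3 (.node 1 (.leaf (nat_lit 42131)) (.node 1 (.leaf (nat_lit 46161)) (.leaf (nat_lit 23701)))) (.node 2 (.node 1 (.leaf (nat_lit 49303)) (.leaf (nat_lit 22142))) (.node 1 (.leaf (nat_lit 18020)) (.leaf (nat_lit 24218)))))) (.node 7 (.node 3 (.node 1 (.leaf (nat_lit 60511)) (.node 1 (.leaf (nat_lit 30263)) (.leaf (nat_lit 34459)))) (.node 2 (.node 1 (.leaf (nat_lit 14899)) (.leaf (nat_lit 50779))) (.node 1 (.leaf (nat_lit 58528)) (.leaf (nat_lit 23101))))) (.node 3 (.node 1 (.leaf (nat_lit 35487)) (.node 1 (.leaf (nat_lit 36932)) (.leaf (nat_lit 21593)))) (.node 2 (.node 1 (.leaf (nat_lit 50745)) (.leaf (nat_lit 33955))) (.node 1 (.leaf (nat_lit 53412)) (.leaf (nat_lit 50821))))))))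

noncomputable def lp4_1 : Tree :=
  .node 52 (.node 26 (.node 13 (.node 6 (.node 3 (.node 1 (.leaf (nat_lit 3640)) (.node 1 (.leaf (nat_lit 50856)) (.leaf (nat_lit 22697)))) (.node 1 (.leaf (nat_lit 61098)) (.node 1 (.leaf (nat_lit 60490)) (.leaf (nat_lit 23213))))) (.node 3 (.node 1 (.leaf (nat_lit 44180)) (.node 1 (.leaf (nat_lit 49726)) (.leaf (nat_lit 59054)))) (.node 2 (.node 1 (.leaf (nat_lit 46767)) (.leaf (nat_lit 11324))) (.node 1 (.leaf (nat_lit 31921)) (.leaf (nat_lit 19122)))))) (.node 6 (.node 3 (.node 1 (.leaf (nat_lit 24696)) (.node 1 (.leaf (nat_lit 21171)) (.leaf (nat_lit 36470)))) (.node 1 (.leaf (nat_lit 55478)) (.node 1 (.leaf (nat_lit 36023)) (.leaf (nat_lit 46145))))) (.node 3 (.node 1 (.leaf (nat_lit 55480)) (.node 1 (.leaf (nat_lit 21689)) (.leaf (nat_lit 17496)))) (.node 2 (.node 1 (.leaf (nat_lit 60090)) (.leaf (nat_lit 43077))) (.node 1 (.leaf (nat_lit 27324)) (.leaf (nat_lit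 54461))))))) (.node 13 (.node 6 (.node 3 (.node 1 (.leaf (nat_lit 48295)) (.node 1 (.leaf (nat_lit 53831)) (.leaf (nat_lit 60520)))) (.node 1 (.leaf (nat_lit 31304)) (.node 1 (.leaf (nat_lit 43713)) (.leaf (nat_lit 44740))))) (.node 3 (.node 1 (.leaf (nat_lit 40523)) (.node 1 (.leaf (nat_lit 31308)) (.leaf (nat_lit 50377)))) (.node 2 (.node 1 (.leaf (nat_lit 44746)) (.leaf (nat_lit 46158))) (.node 1 (.leaf (nat_lit 180)) (.leaf (nat_lit 716)))))) (.node 6 (.node 3 (.node 1 (.leaf (nat_lit 57935)) (.node 1 (.leaf (nat_lit 19026)) (.leaf (nat_lit 20051)))) (.node 1 (.leaf (nat_lit 40532)) (.node 1 (.leaf (nat_lit 38511)) (.leaf (nat_lit 37462))))) (.node 3 (.node 1 (.leaf (nat_lit 2773)) (.node 1 (.leaf (nat_lit 45655)) (.leaf (nat_lit 59097)))) (.node 2 (.node 1 (.leaf (nat_lit 52442)) (.leaf (nat_lit 36954))) (.node 1 (.leaf (nat_lit 26717)) (.leaf (nat_lit 61084)))))))) (.node 26 (.node 13 (.node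 6 (.node 3 (.node 1 (.leaf (nat_lit 51419)) (.node 1 (.leaf (nat_lit 60104)) (.leaf (nat_lit 25698)))) (.node 1 (.leaf (nat_lit 52832)) (.node 1 (.leaf (nat_lit 4316)) (.leaf (nat_lit 17629))))) (.node 3 (.node 1 (.leaf (nat_lit 27238)) (.node 1 (.leaf (nat_lit 57959)) (.leaf (nat_lit 30434)))) (.node 2 (.node 1 (.leaf (nat_lit 41172)) (.leaf (nat_lit 46723))) (.node 1 (.leaf (nat_lit 60522)) (.leaf (nat_lit 17003)))))) (.node 6 (.node 3 (.node 1 (.leaf (nat_lit 61036)) (.node 1 (.leaf (nat_lit 34494)) (.leaf (nat_lit 17132)))) (.node 1 (.leaf (nat_lit 37998)) (.node 1 (.leaf (nat_lit 52337)) (.leaf (nat_lit 48242))))) (.node 3 (.node 1 (.leaf (nat_lit 47851)) (.node 1 (.leaf (nat_lit 29300)) (.leaf (nat_lit 20597)))) (.node 2 (.node 1 (.leaf (nat_lit 18551)) (.leaf (nat_lit 142))) (.node 1 (.leaf (nat_lit 10950)) (.leaf (nat_lit 55929))))))) (.node 13 (.node 6 (.node 3 (.node 1 (.leaf (nat_lit 25210))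 (.node 1 (.leaf (nat_lit 55932)) (.leaf (nat_lit 18045)))) (.node 1 (.leaf (nat_lit 51327)) (.node 1 (.leaf (nat_lit 21718)) (.leaf (nat_lit 33921))))) (.node 3 (.node 1 (.leaf (nat_lit 56962)) (.node 1 (.leaf (nat_lit 26795)) (.leaf (nat_lit 38656)))) (.node 2 (.node 1 (.leaf (nat_lit 47357)) (.leaf (nat_lit 39047))) (.node 1 (.leaf (nat_lit 28417)) (.leaf (nat_lit 7888)))))) (.node 7 (.node 3 (.node 1 (.leaf (nat_lit 50312)) (.node 1 (.leaf (nat_lit 60676)) (.leaf (nat_lit 16565)))) (.node 2 (.node 1 (.leaf (nat_lit 60142)) (.leaf (nat_lit 51358))) (.node 1 (.leaf (nat_lit 44683)) (.leaf (nat_lit 50316))))) (.node 3 (.node 1 (.leaf (nat_lit 37626)) (.node 1 (.leaf (nat_lit 10383)) (.leaf (nat_lit 3320)))) (.node 2 (.node 1 (.leaf (nat_lit 53510)) (.leaf (nat_lit 41223))) (.node 1 (.leaf (nat_lit 3267)) (.leaf (nat_lit 49928))))))))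

noncomputable def lp4_2 : Tree :=
  .node 52 (.node 26 (.node 13 (.node 6 (.node 3 (.node 1 (.leaf (nat_lit 31991)) (.node 1 (.leaf (nat_lit 4333)) (.leaf (nat_lit 41638)))) (.node 1 (.leaf (nat_lit 8342)) (.node 1 (.leaf (nat_lit 18107)) (.leaf (nat_lit 40187))))) (.node 3 (.node 1 (.leaf (nat_lit 50954)) (.node 1 (.leaf (nat_lit 52376)) (.leaf (nat_lit 59033)))) (.node 2 (.node 1 (.leaf (nat_lit 60061)) (.leaf (nat_lit 6817))) (.node 1 (.leaf (nat_lit 22178)) (.leaf (nat_lit 26388)))))) (.node 6 (.node 3 (.node 1 (.leaf (nat_lit 54549)) (.node 1 (.leaf (nat_lit 58612)) (.leaf (nat_lit 33020)))) (.node 1 (.leaf (nat_lit 30885)) (.node 1 (.leaf (nat_lit 25861)) (.leaf (nat_lit 48407))))) (.node 3 (.node 1 (.leaf (nat_lit 49432)) (.node 1 (.leaf (nat_lit 61158)) (.leaf (nat_lit 17128)))) (.node 2 (.node 1 (.leaf (nat_lit 22759)) (.leaf (nat_lit 60665))) (.node 1 (.leaf (nat_lit 26907)) (.leaf (nat_lit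 47280))))))) (.node 13 (.node 6 (.node 3 (.node 1 (.leaf (nat_lit 22700)) (.node 1 (.leaf (nat_lit 6867)) (.leaf (nat_lit 51399)))) (.node 1 (.leaf (nat_lit 61167)) (.node 1 (.leaf (nat_lit 18207)) (.leaf (nat_lit 49909))))) (.node 3 (.node 1 (.leaf (nat_lit 33569)) (.node 1 (.leaf (nat_lit 32546)) (.leaf (nat_lit 52960)))) (.node 2 (.node 1 (.leaf (nat_lit 45297)) (.leaf (nat_lit 42277))) (.node 1 (.leaf (nat_lit 29394)) (.leaf (nat_lit 7885)))))) (.node 6 (.node 3 (.node 1 (.leaf (nat_lit 50921)) (.node 1 (.leaf (nat_lit 23755)) (.leaf (nat_lit 42711)))) (.node 1 (.leaf (nat_lit 28385)) (.node 1 (.leaf (nat_lit 47808)) (.leaf (nat_lit 61182))))) (.node 3 (.node 1 (.leaf (nat_lit 44303)) (.node 1 (.leaf (nat_lit 44223)) (.leaf (nat_lit 32962)))) (.node 2 (.node 1 (.leaf (nat_lit 41262)) (.leaf (nat_lit 29475))) (.node 1 (.leaf (nat_lit 50885)) (.leaf (nat_lit 35555)))))))) (.node 26 (.node 13 (.node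 6 (.node 3 (.node 1 (.leaf (nat_lit 58062)) (.node 1 (.leaf (nat_lit 41679)) (.leaf (nat_lit 45265)))) (.node 1 (.leaf (nat_lit 59149)) (.node 1 (.leaf (nat_lit 60632)) (.leaf (nat_lit 35639))))) (.node 3 (.node 1 (.leaf (nat_lit 5944)) (.node 1 (.leaf (nat_lit 52489)) (.leaf (nat_lit 61198)))) (.node 2 (.node 1 (.leaf (nat_lit 38655)) (.leaf (nat_lit 26910))) (.node 1 (.leaf (nat_lit 47916)) (.leaf (nat_lit 45334)))))) (.node 6 (.node 3 (.node 1 (.leaf (nat_lit 22841)) (.node 1 (.leaf (nat_lit 35038)) (.leaf (nat_lit 57055)))) (.node 1 (.leaf (nat_lit 49938)) (.node 1 (.leaf (nat_lit 46820)) (.leaf (nat_lit 45797))))) (.node 3 (.node 1 (.leaf (nat_lit 54554)) (.node 1 (.leaf (nat_lit 57113)) (.leaf (nat_lit 34538)))) (.node 2 (.node 1 (.leaf (nat_lit 47414)) (.leaf (nat_lit 44331))) (.node 1 (.leaf (nat_lit 34576)) (.leaf (nat_lit 21744))))))) (.node 13 (.node 6 (.node 3 (.node 1 (.leaf (nat_lit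 39226)) (.node 1 (.leaf (nat_lit 27890)) (.leaf (nat_lit 28915)))) (.node 1 (.leaf (nat_lit 32003)) (.node 1 (.leaf (nat_lit 40757)) (.leaf (nat_lit 40694))))) (.node 3 (.node 1 (.leaf (nat_lit 20787)) (.node 1 (.leaf (nat_lit 34602)) (.leaf (nat_lit 22832)))) (.node 2 (.node 1 (.leaf (nat_lit 12077)) (.leaf (nat_lit 26919))) (.node 1 (.leaf (nat_lit 38685)) (.leaf (nat_lit 47377)))))) (.node 7 (.node 3 (.node 1 (.leaf (nat_lit 15657)) (.node 1 (.leaf (nat_lit 41730)) (.leaf (nat_lit 58164)))) (.node 2 (.node 1 (.leaf (nat_lit 17192)) (.leaf (nat_lit 29490))) (.node 1 (.leaf (nat_lit 32049)) (.leaf (nat_lit 19238))))) (.node 3 (.node 1 (.leaf (nat_lit 53551)) (.node 1 (.leaf (nat_lit 42276)) (.leaf (nat_lit 47900)))) (.node 2 (.node 1 (.leaf (nat_lit 25867)) (.leaf (nat_lit 5388))) (.node 1 (.leaf (nat_lit 17171)) (.leaf (nat_lit 43808))))))))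

noncomputable def lp4 : Tree :=
  .node 105 lp4_0 (.node 105 lp4_1 lp4_2)

noncomputable def lpTree : Tree :=
  .node 315 lp0 (.node 315 lp1 (.node 315 lp2 (.node 315 lp3 lp4)))

end Cfsg.Agent.InvChar.Coset.SuzJTwo
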