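import Cfsg.Agent.Lib.IcoLeech.Center
import Cfsg.Agent.InvChar.Coset.SuzJTwoData

/-!
# The generating reflections permute the lines as recorded
-/

set_option autoImplicit false
set_option linter.all false
set_option maxRecDepth 100000
set_option maxHeartbeats 4000000

noncomputable section

namespace Cfsg.Agent.InvChar.Coset.SuzJTwo

open Cfsg.Agent.CosetCert Cfsg.Agent.IcoLeech

def lnTo (k j : ℕ) : ℕ := lpTree.get (Nat.add (Nat.mul 315 k) j)

def lineAct (k j : ℕ) : ℕ := Nat.land (lnTo k j) 511

def unitAct (k j : ℕ) : ℕ := Nat.shiftRight (lnTo k j) 9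

def lineRow (k : ℕ) : Bool :=
  (List.range 315).all fun j => Nat.blt (lineAct k j) 315 && Nat.blt (unitAct k j) 120 &&
    V3.refl (G k) (ln j) == V3.sm (Data.units.getD (unitAct k j) Ico.one) (ln (lineAct k j))

theorem lineRow0 : lineRow 0 = true := by decide +kernel
theorem lineRow1 : lineRow 1 = true := by decide +kernel
theorem lineRow2 : lineRow 2 = true := by decide +kernel
theorem lineRow3 : lineRow 3 = true := by decide +kernel
theorem lineRow4 : lineRow 4 = true := by decide +kernel

theorem lineRow_ok : ∀ k < 5, lineRow k = true := by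
  intro k hk
  interval_cases k
  exacts [lineRow0, lineRow1, lineRow2, lineRow3, lineRow4]

end Cfsg.Agent.InvChar.Coset.SuzJTwo
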