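import Cfsg.Agent.InvChar.Coset.SuzOrder
import Cfsg.Agent.Lib.IcoLeech.Center
import Cfsg.Agent.InvChar.Coset.SuzJTwoLines

/-!
# A subgroup of the presented Suzuki group isomorphic to the Hall–Janko group
-/

set_option autoImplicit false
set_option linter.all false
set_option maxRecDepth 100000
set_option maxHeartbeats 4000000

noncomputable section

namespace Cfsg.Agent.InvChar.Coset.SuzJTwo

open Cfsg.Agent.CosetCert Cfsg.Agent.IcoLeech Cfsg.Spor
open scoped Quaternion

abbrev SuzG : Type := Cfsg.Spor.Suz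

abbrev J2G : Type := Cfsg.Spor.J2

def jWords : List (List ℕ) := [[0], [4, 1, 4], [2], [4, 0, 3, 1, 4, 1, 4, 0, 3, 4, 2, 4, 0, 3, 4, 2, 4, 1, 3, 2], [3, 2, 4, 1, 3, 4, 0, 3, 1, 4, 2, 4, 1, 3, 1, 4, 0, 3, 1]]

theorem wprod_congr {A : Type*} [Group A] {f g : ℕ → A} : ∀ {w : List ℕ}, (∀ y ∈ w, f y = g y) → wprod f w = wprod g w
  | [], _ => rfl
  | y :: w, h => by
    rw [wprod, wprod, wprod_congr fun z hz => h z (List.mem_cons_of_mem _ hz), h y List.mem_cons_self]

theorem getWord_ge : ∀ {l : List (List ℕ)} {x : ℕ}, l.length ≤ x → getWord l x = []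
  | [], _, _ => rfl
  | w :: l, 0, h => absurd h (by simp)
  | w :: l, x + 1, h => by rw [getWord_cons_succ]; exact getWord_ge (by simpa using h)

def flatW : List ℕ → List ℕ
  | [] => []
  | y :: w => flatW w ++ getWord jWords y

def imJ (x : ℕ) : J2G := QuotientGroup.mk' (Subgroup.center twoJ2) (wel (getWord jWords x))

theorem wel_append (u v : List ℕ) : wel (u ++ v) = wel u * wel v := by
  simp [wel, List.map_append, List.prod_append]

theorem wprod_imJ : ∀ w : List ℕ, wprod imJ w = QuotientGroup.mk' (Subgroup.center twoJ2) (wel (flatW w))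
  | [] => by rw [flatW]; exact (map_one _).symm
  | y :: w => by rw [wprod, flatW, wel_append, map_mul, wprod_imJ w]; rfl

def runL : List ℕ → ℕ → ℕ
  | [], j => j
  | k :: w, j => lineAct k (runL w j)

def relOK (v : List ℕ) : Bool := lettersOK 5 v && (List.range 315).all fun j => Nat.beq (runL v j) j

theorem wapp_line : ∀ {v : List ℕ}, (∀ k ∈ v, k < 5) → ∀ j < 315, runL v j < 315 ∧
    ∃ u ∈ Data.units, wapp v (ln j) = V3.sm u (ln (runL v j))
  | [], _, j, hj => ⟨hj, Ico.one, mem_units.2 Ico.nrm_one, by rw [wapp, runL, V3.sm_one]⟩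
  | k :: v, hv, j, hj => by
    obtain ⟨hlt, u, hu, e⟩ := wapp_line (fun x hx => hv x (List.mem_cons_of_mem _ hx)) j hj
    have h := lineRow_ok k (hv k List.mem_cons_self)
    simp only [lineRow, List.all_eq_true, List.mem_range, Bool.and_eq_true, beq_iff_eq] at h
    obtain ⟨⟨h1, h2⟩, h3⟩ := h _ hlt
    have hu2 : Data.units.getD (unitAct k (runL v j)) Ico.one ∈ Data.units := by
      rw [List.getD_eq_getElem _ _ (units_length ▸ (by simpa [Nat.blt] using h2))]
      exact List.getElem_mem _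
    refine ⟨by simpa [runL, Nat.blt] using h1, Ico.mul u (Data.units.getD (unitAct k (runL v j)) Ico.one),
      mem_units.2 (by rw [Ico.nrm_unit_mul (units_nrm u hu), units_nrm _ hu2]), ?_⟩
    have hl := iso_sml (wel [k]) u (el _ (inLam_ln (runL v j)))
    have hl' := congrArg vec hl
    rw [vec_wel, vec_sml, vec_sml, vec_wel, vec_el] at hl'
    simp only [wapp] at hl'
    rw [wapp, e, hl', h3, V3.sm_sm, runL]

theorem refl_unit {u : Ico} (hu : u ∈ Data.units) {f : Equiv.Perm icoLeech} {r : icoLeech}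
    (hf : ∀ x : icoLeech, (f x : Fin 3 → ℍ[ℝ]) = qrefl (sml u r : Fin 3 → ℍ[ℝ]) (x : Fin 3 → ℍ[ℝ])) (x : icoLeech) :
    (f x : Fin 3 → ℍ[ℝ]) = qrefl (r : Fin 3 → ℍ[ℝ]) (x : Fin 3 → ℍ[ℝ]) := by
  have e1 : star (Ico.toH u) * Ico.toH u = 1 := by
    rw [← Ico.toH_conj, ← Ico.toH_mul, Ico.conj_mul_unit (units_nrm _ hu), Ico.toH_one]
  rw [hf]
  funext t
  simp only [qrefl, coe_sml]
  rw [← qip_star _ (x : Fin 3 → ℍ[ℝ]), qip_scal, star_mul, qip_star, ← smul_mul_assoc, mul_assoc,
    ← mul_assoc (star (Ico.toH u)), e1, one_mul]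

theorem central_of_relOK {v : List ℕ} (h : relOK v = true) :
    (QuotientGroup.mk' (Subgroup.center twoJ2) (wel v) : J2G) = 1 := by
  refine (QuotientGroup.eq_one_iff _).mpr (Subgroup.mem_center_iff.mpr fun g => ?_)
  simp only [relOK, Bool.and_eq_true, List.all_eq_true, List.mem_range] at h
  obtain ⟨hl, hfix⟩ := h
  have key : ∀ f : Equiv.Perm icoLeech, IsIcoReflection f →
      (wel v : Equiv.Perm icoLeech) * f * (wel v : Equiv.Perm icoLeech)⁻¹ = f := by
    rintro f ⟨r, hr, hfr⟩
    obtain ⟨u, hu, l, hl', e⟩ := exists_line ((isMin_iff r).2 hr)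
    obtain ⟨j, hj, rfl⟩ := List.getElem_of_mem hl'
    have hj' : j < 315 := lines_length ▸ hj
    replace e : vec r = V3.sm u (ln j) := by rw [ln, List.getD_eq_getElem _ _ hj]; exact e
    obtain ⟨-, w, hw, hwv⟩ := wapp_line (lettersOK_spec hl) j hj'
    rw [Nat.eq_of_beq_eq_true (hfix j hj')] at hwv
    have er : r = sml u (el _ (inLam_ln j)) := vec_injective (by rw [vec_sml, vec_el, e])
    have eg : ((wel v : twoJ2) : Equiv.Perm icoLeech) (el _ (inLam_ln j)) = sml w (el _ (inLam_ln j)) :=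
      vec_injective (by rw [vec_wel, vec_sml, vec_el, hwv])
    refine refl_eq (r := el _ (inLam_ln j)) (fun x => ?_) (fun x => refl_unit hu (fun y => by rw [← er]; exact hfr y) x)
    refine refl_unit hw (fun y => ?_) x
    rw [← eg]
    refine conj_refl (wel v) (fun z => ?_) y
    exact refl_unit hu (fun y => by rw [← er]; exact hfr y) z
  obtain ⟨g, hg⟩ := g
  apply Subtype.ext
  show g * (wel v : Equiv.Perm icoLeech) = (wel v : Equiv.Perm icoLeech) * g
  induction hg using Subgroup.closure_induction with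
  | mem x hx => exact (mul_inv_eq_iff_eq_mul.mp (key x hx)).symm
  | one => rw [one_mul, mul_one]
  | mul a b _ _ iha ihb => rw [mul_assoc, ihb, ← mul_assoc, iha, mul_assoc]
  | inv a _ ih => exact (Commute.inv_left ih).eq

theorem imJ_rels : ∀ w ∈ SuzJ.table.C.W, relOK (flatW w) = true := by decide +kernel

theorem imJ_sq_small : ∀ x < 5, relOK (flatW [x, x]) = true := by decide +kernel

theorem imJ_sq (x : ℕ) : imJ x * imJ x = 1 := by
  by_cases hx : x < 5
  · have h := central_of_relOK (imJ_sq_small x hx)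
    rw [← wprod_imJ] at h
    simpa [wprod] using h
  · have h : getWord jWords x = [] := getWord_ge (by
      show 5 ≤ x
      omega)
    rw [imJ, h]
    simp [wel]

/-- The pairs. -/
abbrev Trip : Type := Equiv.Perm (Fin SuzJ.table.n) × (SuzG × J2G)

def trip (x : ℕ) : Trip := (CosetCert.tau SuzJ.checked x, (Suz.data.gen x, imJ x))

def PJ : Subgroup Trip := Subgroup.closure (trip '' {x | x < SuzJ.table.C.K})

theorem K_five : SuzJ.table.C.K = 5 := by decide +kernel

def gT (x : ℕ) : PJ := if hx : x < SuzJ.table.C.K then ⟨trip x, Subgroup.subset_closure ⟨x, hx, rfl⟩⟩ else 1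

theorem gT_fst (x : ℕ) : ((MonoidHom.fst _ _).comp PJ.subtype) (gT x) = CosetCert.tau SuzJ.checked x := by
  unfold gT
  split
  · rfl
  · next hx => rw [CosetCert.tau, dif_neg hx]; rfl

theorem suz_rels : wordsIn [0, 1, 2, 3, 4] Suz.table.C.W SuzJ.table.C.W = true := by decide +kernel

theorem trip_rel : ∀ w ∈ SuzJ.table.C.W, wprod trip w = 1 := by
  intro w hw
  refine Prod.ext ?_ (Prod.ext ?_ ?_)
  · show (MonoidHom.fst _ _ : Trip →* _) (wprod trip w) = 1
    rw [map_wprod]
    exact CosetCert.tau_rel SuzJ.checked w hw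
  · show ((MonoidHom.fst SuzG J2G).comp (MonoidHom.snd _ _) : Trip →* _) (wprod trip w) = 1
    rw [map_wprod]
    have h := Suz.data.gen_rel _ (wordsIn_spec suz_rels w hw)
    rw [wprod_mapWord] at h
    refine Eq.trans (wprod_congr ?_) h
    intro y hy
    have hy5 : y < 5 := K_five ▸ allLettersOK_spec SuzJ.checked.lettersW w hw y hy
    have e : ∀ y < 5, nthNat [0, 1, 2, 3, 4] y = y := by decide
    show Suz.data.gen y = Suz.data.gen (nthNat [0, 1, 2, 3, 4] y)
    rw [e y hy5]
  · show ((MonoidHom.snd SuzG J2G).comp (MonoidHom.snd _ _) : Trip →* _) (wprod trip w) = 1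
    rw [map_wprod]
    show wprod imJ w = 1
    rw [wprod_imJ]
    exact central_of_relOK (imJ_rels w hw)

theorem trip_sq (x : ℕ) : trip x * trip x = 1 :=
  Prod.ext (CosetCert.tau_sq SuzJ.checked x) (Prod.ext (Suz.data.gen_sq x) (imJ_sq x))

theorem gT_sq (x : ℕ) : gT x * gT x = 1 := by
  unfold gT
  split
  · exact Subtype.ext (trip_sq x)
  · exact one_mul 1

theorem gT_coe {x : ℕ} (hx : x < SuzJ.table.C.K) : ((gT x : PJ) : Trip) = trip x := by rw [gT, dif_pos hx]

theorem gT_rel : ∀ w ∈ SuzJ.table.C.W, wprod gT w = 1 := by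
  intro w hw
  refine Subtype.ext ?_
  show PJ.subtype (wprod gT w) = 1
  rw [map_wprod]
  refine Eq.trans (wprod_congr fun y hy => ?_) (trip_rel w hw)
  exact gT_coe (allLettersOK_spec SuzJ.checked.lettersW w hw y hy)

theorem gT_top : Subgroup.closure (gT '' {x | x < SuzJ.table.C.K}) = ⊤ := by
  apply Subgroup.map_injective PJ.subtype_injective
  rw [MonoidHom.map_closure, ← MonoidHom.range_eq_map, Subgroup.range_subtype]
  conv_rhs => rw [PJ]
  congr 1
  rw [← Set.image_comp]
  exact Set.image_congr fun x hx => gT_coe hx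

theorem bdd_PJ : Bdd (⊤ : Subgroup PJ) (280 * (216 * (10 * 1))) := by
  have h0 : Bdd (subg gT ([].map (nthNat [0, 1]))) 1 := bdd_subg_nil gT
  have h1 := bdd_subg SuzC.closed gT gT_sq SuzJ.table.C.W gT_rel [0, 1] [] (by decide +kernel)
    (by decide +kernel) (by decide +kernel) (by decide +kernel) (by decide +kernel) h0
  have h2 := bdd_subg SuzB.closed gT gT_sq SuzJ.table.C.W gT_rel [0, 1, 2, 3] [0, 1] (by decide +kernel)
    (by decide +kernel) (by decide +kernel) (by decide +kernel) (by decide +kernel) h1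
  have h3 := bdd_subg SuzJ.checked.closed gT gT_sq SuzJ.table.C.W gT_rel [0, 1, 2, 3, 4] [0, 1, 2, 3]
    (by decide +kernel) (by decide +kernel) (by decide +kernel) (by decide +kernel) (by decide +kernel) h2
  have hl : ∀ x < SuzJ.table.C.K, x ∈ [0, 1, 2, 3, 4] := by decide +kernel
  exact Bdd.top_of_gen gT_top hl h3

theorem simple_PJ : IsSimpleGroup PJ ∧ Nat.card PJ = 604800 := by
  obtain ⟨hs, hc, -⟩ := order_simple SuzJ.checked SuzJ.prim gT ((MonoidHom.fst _ _).comp PJ.subtype) gT_fst gT_sq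
    gT_rel gT_top (H := Subgroup.closure (wprod gT '' {w | w ∈ SuzJ.table.C.S})) rfl bdd_PJ SuzJ.levels
    (by decide +kernel) SuzJ.levels_ok (SuzJ.levels_prod.trans (by norm_num)) (p := 7) (by norm_num) (by decide +kernel)
    (by decide +kernel) SuzJ.roots SuzJ.cover SuzJ.roots_ok SuzJ.cover_ok
  exact ⟨hs, by rw [hc]⟩

/-- The subgroup generated by the first five generators. -/
def HJ : Subgroup SuzG := subg Suz.data.gen [0, 1, 2, 3, 4]

theorem gen_ne_one : Suz.data.gen 0 ≠ 1 := by
  intro h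
  have h1 := congrArg (fun g => Suz.data.hom Suz.checked g) h
  rw [map_one, Suz.data.hom_gen] at h1
  have h2 : ∀ c : Fin Suz.table.n, Suz.table.tgt c 0 = c.val := fun c => by
    rw [← CosetCert.tau_apply Suz.checked (show 0 < Suz.table.C.K by decide +kernel) c]
    exact congrArg Fin.val (Equiv.ext_iff.mp h1 c)
  have h3 : ¬ ∀ c < 30, Suz.table.tgt c 0 = c := by decide +kernel
  exact h3 fun c hc => h2 ⟨c, lt_of_lt_of_le hc (by decide +kernel)⟩

theorem imJ_zero_ne_one : imJ 0 ≠ 1 := by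
  intro h
  have h' := (QuotientGroup.eq_one_iff _).mp h
  have hne : wapp (getWord jWords 0) E0 ≠ E0 ∧ wapp (getWord jWords 0) E1 ≠ wapp negWord E1 := by decide +kernel
  rcases center_cases h' with e | e
  · have h1 := vec_wel (getWord jWords 0) (el E0 inLam_facts.1)
    rw [e, vec_el] at h1
    exact hne.1 (h1.symm.trans (vec_el E0 inLam_facts.1))
  · have h1 := vec_wel (getWord jWords 0) (el E1 inLam_facts.2.1)
    have h2 := vec_wel negWord (el E1 inLam_facts.2.1)
    rw [vec_el] at h1 h2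
    refine hne.2 (h1.symm.trans ?_)
    rw [e]
    exact h2

theorem exists_iso : Nonempty (HJ ≃* J2G) := by
  obtain ⟨hs, hc⟩ := simple_PJ
  haveI := hs
  haveI := finite_J2
  let π1 : PJ →* SuzG := ((MonoidHom.fst SuzG J2G).comp (MonoidHom.snd _ _)).comp PJ.subtype
  let π2 : PJ →* J2G := ((MonoidHom.snd SuzG J2G).comp (MonoidHom.snd _ _)).comp PJ.subtype
  have h0 : (0 : ℕ) < SuzJ.table.C.K := by rw [K_five]; norm_num
  have hinj : ∀ {A : Type} [Group A] (f : PJ →* A), f (gT 0) ≠ 1 → Function.Injective f := by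
    intro A _ f hf
    rcases IsSimpleGroup.eq_bot_or_eq_top_of_normal f.ker inferInstance with h | h
    · exact (MonoidHom.ker_eq_bot_iff f).mp h
    · exact absurd (MonoidHom.mem_ker.mp (h ▸ Subgroup.mem_top (gT 0))) hf
  have i1 : Function.Injective π1 := hinj π1 (by
    show ((gT 0 : PJ) : Trip).2.1 ≠ 1
    rw [gT_coe h0]; exact gen_ne_one)
  have i2 : Function.Injective π2 := hinj π2 (by
    show ((gT 0 : PJ) : Trip).2.2 ≠ 1
    rw [gT_coe h0]; exact imJ_zero_ne_one)
  have hr : π1.range = HJ := by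
    rw [MonoidHom.range_eq_map, ← gT_top, MonoidHom.map_closure, ← Set.image_comp, HJ, subg]
    congr 1
    ext g
    constructor
    · rintro ⟨x, hx, rfl⟩
      refine ⟨x, ?_, by show Suz.data.gen x = ((gT x : PJ) : Trip).2.1; rw [gT_coe hx]; rfl⟩
      have hx5 : x < 5 := K_five ▸ hx
      simp only [Set.mem_setOf_eq, List.mem_cons, List.not_mem_nil, or_false]
      omega
    · rintro ⟨x, hx, rfl⟩
      have hx5 : x < SuzJ.table.C.K := by
        rw [K_five]
        simp only [Set.mem_setOf_eq, List.mem_cons, List.not_mem_nil, or_false] at hx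
        omega
      exact ⟨x, hx5, by show ((gT x : PJ) : Trip).2.1 = _; rw [gT_coe hx5]; rfl⟩
  exact ⟨((MulEquiv.subgroupCongr hr).symm.trans (MonoidHom.ofInjective i1).symm).trans
    (MulEquiv.ofBijective π2 (i2.bijective_of_nat_card_le (by rw [hc, card_J2])))⟩

end Cfsg.Agent.InvChar.Coset.SuzJTwo
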