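import Cfsg.Agent.InvChar.Coset.SuzIndex
import Cfsg.Agent.InvChar.Coset.SuzACheck
import Cfsg.Agent.InvChar.Coset.SuzBCheck
import Cfsg.Agent.InvChar.Coset.SuzCCheck
import Cfsg.Agent.InvChar.Coset.SuzJCheck
import Cfsg.Agent.InvChar.Coset.SuzLevels
import Cfsg.Agent.InvChar.Coset.SuzJLevels

/-!
# The orders and the simplicity of the presented Suzuki group and of a group of order 604800
-/

set_option autoImplicit false
set_option linter.all false

noncomputable section

namespace Cfsg.Agent.InvChar.Coset.Suz

open Cfsg.Agent.CosetCert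

theorem bdd_top : Bdd (⊤ : Subgroup Cfsg.Spor.Suz) (1782 * (416 * (280 * (216 * (10 * 1))))) := by
  have hV := data.gen_rel
  have h0 : Bdd (subg data.gen ([].map (nthNat [0, 1]))) 1 := bdd_subg_nil data.gen
  have h1 := bdd_subg SuzC.closed data.gen data.gen_sq table.C.W hV [0, 1] [] (by decide +kernel)
    (by decide +kernel) (by decide +kernel) (by decide +kernel) (by decide +kernel) h0
  have h2 := bdd_subg SuzB.closed data.gen data.gen_sq table.C.W hV [0, 1, 2, 3] [0, 1] (by decide +kernel)
    (by decide +kernel) (by decide +kernel) (by decide +kernel) (by decide +kernel) h1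
  have h3 := bdd_subg SuzJ.checked.closed data.gen data.gen_sq table.C.W hV [0, 1, 2, 3, 4] [0, 1, 2, 3]
    (by decide +kernel) (by decide +kernel) (by decide +kernel) (by decide +kernel) (by decide +kernel) h2
  have h4 := bdd_subg SuzA.closed data.gen data.gen_sq table.C.W hV [0, 1, 2, 3, 4, 5] [0, 1, 2, 3, 4]
    (by decide +kernel) (by decide +kernel) (by decide +kernel) (by decide +kernel) (by decide +kernel) h3
  have h5 := bdd_subg checked.closed data.gen data.gen_sq table.C.W hV [0, 1, 2, 3, 4, 5, 6] [0, 1, 2, 3, 4, 5]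
    (by decide +kernel) (by decide +kernel) (by decide +kernel) (by decide +kernel) (by decide +kernel) h4
  have hl : ∀ x < table.C.K, x ∈ [0, 1, 2, 3, 4, 5, 6] := by decide +kernel
  exact Bdd.top_of_gen data.gen_top hl h5

theorem prim : Prim table orbits := by
  refine Prim.mk' orbits_ok [1, 1365, 416] ?_ ?_ ?_ ?_ ?_
  · decide +kernel
  · decide +kernel
  · decide +kernel
  · decide +kernel
  · decide +kernel

theorem simple_and_card : IsSimpleGroup Cfsg.Spor.Suz ∧ Nat.card Cfsg.Spor.Suz = 448345497600 := by
  have h := order_simple checked prim data.gen (data.hom checked) (data.hom_gen checked) data.gen_sq data.gen_rel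
    data.gen_top (H := Subgroup.closure (wprod data.gen '' {w | w ∈ table.C.S})) rfl bdd_top levels
    (by decide +kernel) levels_ok (levels_prod.trans (by norm_num)) (p := 11) (by norm_num) (by decide +kernel)
    (by decide +kernel) roots cover roots_ok cover_ok
  exact ⟨h.1, h.2.1.trans (by norm_num)⟩

end Cfsg.Agent.InvChar.Coset.Suz

namespace Cfsg.Agent.InvChar.Coset.SuzJ

open Cfsg.Agent.CosetCert

/-- The group of permutations of the 280 rows. -/
def J : Subgroup (Equiv.Perm (Fin table.n)) := Subgroup.closure (tau checked '' {x | x < table.C.K})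

def gJ (x : ℕ) : J := if hx : x < table.C.K then ⟨tau checked x, Subgroup.subset_closure ⟨x, hx, rfl⟩⟩ else 1

theorem gJ_coe (x : ℕ) : (gJ x : Equiv.Perm (Fin table.n)) = tau checked x := by
  unfold gJ
  split
  · rfl
  · next hx => rw [tau, dif_neg hx]; rfl

theorem gJ_sq (x : ℕ) : gJ x * gJ x = 1 :=
  Subtype.ext (by rw [Subgroup.coe_mul, gJ_coe]; exact tau_sq checked x)

theorem gJ_rel : ∀ w ∈ table.C.W, wprod gJ w = 1 := fun w hw => Subtype.ext (by
  show J.subtype (wprod gJ w) = 1
  rw [map_wprod, show (fun x => J.subtype (gJ x)) = tau checked from funext gJ_coe]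
  exact tau_rel checked w hw)

theorem gJ_top : Subgroup.closure (gJ '' {x | x < table.C.K}) = ⊤ := by
  apply Subgroup.map_injective J.subtype_injective
  rw [MonoidHom.map_closure, ← MonoidHom.range_eq_map, Subgroup.range_subtype]
  conv_rhs => rw [J]
  congr 1
  rw [← Set.image_comp]
  exact Set.image_congr fun x _ => gJ_coe x

theorem bdd_top : Bdd (⊤ : Subgroup J) (280 * (216 * (10 * 1))) := by
  have h0 : Bdd (subg gJ ([].map (nthNat [0, 1]))) 1 := bdd_subg_nil gJ
  have h1 := bdd_subg SuzC.closed gJ gJ_sq table.C.W gJ_rel [0, 1] [] (by decide +kernel)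
    (by decide +kernel) (by decide +kernel) (by decide +kernel) (by decide +kernel) h0
  have h2 := bdd_subg SuzB.closed gJ gJ_sq table.C.W gJ_rel [0, 1, 2, 3] [0, 1] (by decide +kernel)
    (by decide +kernel) (by decide +kernel) (by decide +kernel) (by decide +kernel) h1
  have h3 := bdd_subg checked.closed gJ gJ_sq table.C.W gJ_rel [0, 1, 2, 3, 4] [0, 1, 2, 3]
    (by decide +kernel) (by decide +kernel) (by decide +kernel) (by decide +kernel) (by decide +kernel) h2
  have hl : ∀ x < table.C.K, x ∈ [0, 1, 2, 3, 4] := by decide +kernel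
  exact Bdd.top_of_gen gJ_top hl h3

theorem prim : Prim table orbits := by
  refine Prim.mk' orbits_ok [1, 36, 135, 108] ?_ ?_ ?_ ?_ ?_
  · decide +kernel
  · decide +kernel
  · decide +kernel
  · decide +kernel
  · decide +kernel

theorem simple_and_card : IsSimpleGroup J ∧ Nat.card J = 604800 := by
  have h := order_simple checked prim gJ J.subtype gJ_coe gJ_sq gJ_rel gJ_top
    (H := Subgroup.closure (wprod gJ '' {w | w ∈ table.C.S})) rfl bdd_top levels
    (by decide +kernel) levels_ok (levels_prod.trans (by norm_num)) (p := 7) (by norm_num) (by decide +kernel)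
    (by decide +kernel) roots cover roots_ok cover_ok
  exact ⟨h.1, h.2.1.trans (by norm_num)⟩

end Cfsg.Agent.InvChar.Coset.SuzJ
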