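import Cfsg.Agent.InvChar.Coset.SuzOutDefs

/-!
# Computations for the automorphisms of the presented Suzuki group: chains
-/

set_option autoImplicit false
set_option linter.all false
set_option maxRecDepth 200000
set_option maxHeartbeats 4000000
set_option Elab.async false

noncomputable section

namespace Cfsg.Agent.InvChar.Coset.SuzOut

open Cfsg.Agent.CosetCert Cfsg.Agent.InvChar.Coset.AutCert

theorem chain_ok : chainOK T chain [] = true ∧ chainProd chain = 448345497600 ∧ chain.map Prod.fst = baseL := by
  decide +kernel

theorem chainF_ok : chainOK T chainF [] = true ∧ chainProd chainF = 448345497600 := by decide +kernel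

theorem pos_ok : (AutCert.scan (fun i => posOK T ((chain.map Prod.fst).getD i 0) ((chain.map Prod.snd).getD i []) (chainPos i) &&
      (Nat.beq i 0 || eFix.any (Nat.beq ((chain.map Prod.fst).getD i 0)))) 4 &&
    AutCert.scan (fun i => posOK T ((chainF.map Prod.fst).getD i 0) ((chainF.map Prod.snd).getD i []) (chainFPos i) &&
      sevenFix.any (Nat.beq ((chainF.map Prod.fst).getD i 0))) 4) = true := by decide +kernel

theorem fix_ok : fixExact eFix [4] = true ∧ fixExact sevenFix sevenWord = true ∧ eFix.length = 42 := by decide +kernel

theorem chainIn_ok : chainOK T chainIn [] = true ∧ chainProd chainIn = 161280 := by decide +kernel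

theorem leadsE_len : leadsE.length = 960 := by decide +kernel

theorem restE_len : restE.length = 4 := by decide +kernel

theorem seven_ok : lettersOK 7 sevenWord = true ∧ fixW T baseL (sevenWord ++ sevenWord ++ sevenWord ++ sevenWord ++
    sevenWord ++ sevenWord ++ sevenWord) = true ∧ movW T baseL sevenWord = true ∧
    eqW T baseL ([4] ++ sevenWord) (sevenWord ++ [4]) = true := by decide +kernel

theorem sevenSlice0 : sevenSlice 0 6 = true := by decide +kernel

theorem sevenSlice1 : sevenSlice 6 6 = true := by decide +kernel

theorem sevenSlice2 : sevenSlice 12 6 = true := by decide +kernel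

theorem sevenSlice3 : sevenSlice 18 6 = true := by decide +kernel

theorem leadsSeven_len : leadsSeven.length = 24 := by decide +kernel

end Cfsg.Agent.InvChar.Coset.SuzOut
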