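import Cfsg.Agent.InvChar.Coset.SuzOutDefs

/-!
# Computations for the automorphisms of the presented Suzuki group: the search
-/

set_option autoImplicit false
set_option linter.all false
set_option maxRecDepth 200000
set_option maxHeartbeats 4000000
set_option Elab.async false

noncomputable section

namespace Cfsg.Agent.InvChar.Coset.SuzOut

open Cfsg.Agent.CosetCert Cfsg.Agent.InvChar.Coset.AutCert

theorem gensE_comm : commutesWith 4 gensE = true ∧ subsOK gensP idxP = true := by decide +kernel

theorem mulP_ok0 : closedMul T baseL gensP elP 512 mulP 0 256 = true := by decide +kernel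

theorem mulP_ok1 : closedMul T baseL gensP elP 512 mulP 256 256 = true := by decide +kernel

theorem distinct_P : elP 0 = [] ∧ ascRange elP 1 510 = true ∧
    AutCert.scan (fun i => movW T baseL (elP (i + 1))) 511 = true := by decide +kernel

theorem witP_ok : AutCert.scan witOne 512 = true := by decide +kernel

theorem conjA_ok : closedConj T baseL gensE candA 315 conjA 0 315 = true := by decide +kernel

theorem cands_letters : allB (lettersOK 7) candsA = true ∧ allB (lettersOK 7) candsD = true := by decide +kernel

theorem step_one : scanReps T baseL level1 [[[4]]] 0 = true := by decide +kernel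

theorem step_two : scanReps T baseL level2 reps1 0 = true := by decide +kernel

theorem step_three : scanReps T baseL level3 reps2 0 = true := by decide +kernel

theorem step_four : scanReps T baseL level4 reps3 0 = true := by decide +kernel

theorem step_five : scanReps T baseL level5 reps4 0 = true := by decide +kernel

theorem step_six : scanReps T baseL level6 reps5 0 = true := by decide +kernel

theorem shapes : shape [[[4]]] 1 = true ∧ shape reps1 2 = true ∧ shape reps2 3 = true ∧ shape reps3 4 = true ∧
    shape reps4 5 = true ∧ shape reps5 6 = true := by decide +kernel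

theorem rels_true : relsTrue level1 1 = true ∧ relsTrue level2 2 = true ∧ relsTrue level3 3 = true ∧
    relsTrue level4 4 = true ∧ relsTrue level5 5 = true ∧ relsTrue level6 6 = true := by decide +kernel

theorem finals_ok : (reps6.all fun P => decide (P = slotWords) ||
    decide (P = [4, 0, 1, 2, 5, 6, 3].map (getWord otherWords))) = true := by decide +kernel

theorem d_ok : dAll reps5 dData = true := by decide +kernel

theorem cover_ok : AutCert.scan coverOne 540 = true ∧ dTrans.length = 3 ∧ (prodWords (chain.drop 3)).length = 180 := by
  decide +kernel

theorem other_ok : allB (fun w => fixW T baseL (subW otherWords w)) T.C.W = true ∧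
    allB (fun w => lettersOK 7 w && fixW T baseL (w ++ w)) otherWords = true ∧
    getWord otherWords 0 = [0] ∧ getRep reps5 0 = slotWords.take 6 ∧
    getRep reps5 3 = [4, 0, 1, 2, 5, 6].map (getWord otherWords) := by decide +kernel

theorem swap_ok : onlyFix (getRep reps5 3) [[1], [2], [4]] 995 = true ∧
    allB (fun r => Nat.beq (T.run (subW (getRep reps5 0) r) 0) 0 && lettersOK 7 (subW (getRep reps5 0) r)) [[1], [2], [4]] = true ∧
    allB (fun r => lettersOK 7 (subW (getRep reps5 0) r) && lettersOK 7 (subW (getRep reps5 3) r)) [[5], [5, 2]] = true ∧
    T.run (subW (getRep reps5 0) [5]) 0 = 1 ∧ T.run (subW (getRep reps5 0) [5, 2]) 0 = 2 ∧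
    T.run (subW (getRep reps5 3) [5]) 995 = T.run swapWord 1 ∧ T.run (subW (getRep reps5 3) [5, 2]) 995 = T.run swapWord 2 ∧
    lettersOK 7 swapWord = true ∧ T.run swapWord 0 = 995 := by decide +kernel

theorem apart_ok : allB apart (prodWords (chain.drop 3)) = true := by decide +kernel

theorem gen_classes : ([1, 2, 5, 6].all fun l => candsA.any fun w => eqW T baseL w [l]) = true := by decide +kernel

theorem slot_comm : commutesWith 4 [[4], [0], [1], [2], [5], [6]] = true ∧
    commutesWith 3 [[0], [1], [5], [6]] = true ∧ fixW T baseL [3, 4, 3, 4, 3, 4] = true ∧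
    allB (fun l => movW T baseL [l]) [0, 1, 2, 4, 5, 6] = true := by decide +kernel

theorem classes_apart : (fixList T [0]).length = 54 ∧ (fixList T [4]).length = 42 := by decide +kernel

end Cfsg.Agent.InvChar.Coset.SuzOut
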