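import Cfsg.Agent.InvChar.Coset.SuzOrder
import Cfsg.Agent.InvChar.Coset.SuzOutChain
import Cfsg.Agent.InvChar.Coset.SuzOutCheck
import Cfsg.Prelude.Def_KGroupFacts

/-!
# The outer automorphism group of the presented Suzuki group has order two

The two kinds of involutions are told apart by their numbers of fixed points and by the elements of order seven that
commute with them, so an automorphism may be normalised to fix the generator `e`; the images of the other generators
are then found by a search inside the centraliser of `e`.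
-/

set_option autoImplicit false
set_option linter.all false
set_option maxRecDepth 100000

noncomputable section

namespace Cfsg.Agent.InvChar.Coset.SuzOut

open Cfsg.Agent.CosetCert Cfsg.Agent.InvChar.Coset.AutCert

abbrev GG : Type := Cfsg.Spor.Suz

abbrev gen : ℕ → GG := Suz.data.gen

abbrev φ : GG →* Equiv.Perm (Fin T.n) := Suz.data.hom Suz.checked

abbrev el (w : List ℕ) : GG := wprod gen w

theorem hφ : ∀ x, φ (gen x) = tau Suz.checked x := Suz.data.hom_gen Suz.checked

theorem hsq : ∀ x, gen x * gen x = 1 := Suz.data.gen_sq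

theorem K_eq : T.C.K = 7 := by decide +kernel

theorem card_GG : Nat.card GG = 448345497600 := Suz.simple_and_card.2

instance finite_GG : Finite GG := Nat.finite_of_card_ne_zero (by rw [card_GG]; norm_num)

theorem base_lt : (baseL.all fun b => Nat.blt b T.n) = true := by decide +kernel

theorem hBn : ∀ b ∈ baseL, b < T.n := fun b hb => by simpa [Nat.blt_eq] using List.all_eq_true.mp base_lt b hb

theorem card_fixer_nil : Nat.card (fixer φ ([] : List ℕ) : Subgroup GG) ≤ chainProd chain := by
  rw [chain_ok.2.1, ← card_GG]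
  exact Subgroup.card_le_card_group _

theorem hB : ∀ g : GG, (∀ b ∈ baseL, ∀ hb : b < T.n, φ g ⟨b, hb⟩ = ⟨b, hb⟩) → g = 1 := by
  intro g hg
  have h := chain_in Suz.checked gen φ hφ ⊤ chain [] chain_ok.1 fun _ _ _ _ => Subgroup.mem_top _
  rw [top_inf_eq, top_inf_eq, List.nil_append, chain_ok.2.2] at h
  have h1 := card_fixer_nil
  have h2 : 0 < Nat.card (fixer φ baseL : Subgroup GG) := Nat.card_pos
  have hp := chain_ok.2.1
  have h3 : Nat.card (fixer φ baseL : Subgroup GG) = 1 := by
    rw [hp] at h h1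
    omega
  have : g ∈ (fixer φ baseL : Subgroup GG) := hg
  rw [Subgroup.eq_bot_of_card_eq _ h3, Subgroup.mem_bot] at this
  exact this

theorem eq_of {u w : List ℕ} (h : eqW T baseL u w = true) : el u = el w :=
  eqW_spec Suz.checked gen φ hφ hsq hBn hB h

theorem one_of {w : List ℕ} (h : fixW T baseL w = true) : el w = 1 :=
  fixW_spec Suz.checked gen φ hφ hsq hBn hB h

theorem ne_one_of {w : List ℕ} (h : movW T baseL w = true) : el w ≠ 1 :=
  movW_spec Suz.checked gen φ hφ hBn h

theorem el_conj (t x : List ℕ) : el (conjW t x) = el t * el x * (el t)⁻¹ := el_conjW gen hsq t x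

theorem el_single (l : ℕ) : el [l] = gen l := one_mul _

theorem el_app (u w : List ℕ) : el (u ++ w) = el w * el u := CosetCert.wprod_append gen u w

theorem el_rev (w : List ℕ) : el w.reverse = (el w)⁻¹ := el_reverse gen hsq w

theorem eqW_of_eq {u w : List ℕ} (hu : lettersOK 7 u = true) (hw : lettersOK 7 w = true) (e : el u = el w) :
    eqW T baseL u w = true := by
  simp only [eqW, K_eq, hu, hw, Bool.true_and, allB_iff]
  intro b hb
  rw [Nat.beq_eq, ← phi_el Suz.checked gen φ hφ (K_eq ▸ hu) ⟨b, hBn b hb⟩, show wprod gen u = wprod gen w from e,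
    phi_el Suz.checked gen φ hφ (K_eq ▸ hw) ⟨b, hBn b hb⟩]

theorem letters_of : ∀ {w : List ℕ}, (∀ y ∈ w, y < 7) → lettersOK 7 w = true
  | [], _ => rfl
  | y :: w, h => by
    simp only [lettersOK, Bool.and_eq_true]
    exact ⟨by simpa [Nat.blt] using h y List.mem_cons_self, letters_of fun z hz => h z (List.mem_cons_of_mem _ hz)⟩

theorem letters_app {u w : List ℕ} (hu : lettersOK 7 u = true) (hw : lettersOK 7 w = true) :
    lettersOK 7 (u ++ w) = true :=
  letters_of fun y hy => (List.mem_append.mp hy).elim (lettersOK_spec hu y) (lettersOK_spec hw y)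

theorem letters_rev {w : List ℕ} (hw : lettersOK 7 w = true) : lettersOK 7 w.reverse = true :=
  letters_of fun y hy => lettersOK_spec hw y (List.mem_reverse.mp hy)

theorem letters_conj {t x : List ℕ} (ht : lettersOK 7 t = true) (hx : lettersOK 7 x = true) :
    lettersOK 7 (conjW t x) = true := letters_app (letters_app (letters_rev ht) hx) ht

/-! ### The action on points -/

/-- The action on numbers. -/
def act (g : GG) (c : ℕ) : ℕ := if h : c < T.n then φ g ⟨c, h⟩ else c

theorem act_eq (g : GG) {c : ℕ} (h : c < T.n) : act g c = (φ g ⟨c, h⟩ : ℕ) := dif_pos h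

theorem act_lt (g : GG) {c : ℕ} (h : c < T.n) : act g c < T.n := by rw [act_eq g h]; exact Fin.is_lt _

theorem act_mul (g k : GG) (c : ℕ) : act (g * k) c = act g (act k c) := by
  by_cases h : c < T.n
  · rw [act_eq k h, act_eq _ (Fin.is_lt _), act_eq _ h, map_mul, Equiv.Perm.mul_apply]
  · simp [act, h]

theorem act_one (c : ℕ) : act 1 c = c := by
  by_cases h : c < T.n
  · rw [act_eq _ h, map_one]; rfl
  · simp [act, h]

theorem act_el {w : List ℕ} (hw : lettersOK 7 w = true) {c : ℕ} (h : c < T.n) : act (el w) c = T.run w c := by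
  rw [act_eq _ h, phi_el Suz.checked gen φ hφ (K_eq.symm ▸ hw)]

theorem act_inv_cancel (g : GG) (c : ℕ) : act g⁻¹ (act g c) = c := by
  rw [← act_mul, inv_mul_cancel, act_one]

theorem mem_fixer {P : List ℕ} {g : GG} (h : ∀ b ∈ P, b < T.n → act g b = b) : g ∈ fixer φ P :=
  fun b hb hb' => Fin.ext (by rw [← act_eq g hb']; exact h b hb hb')

theorem fixer_act {P : List ℕ} {g : GG} (h : g ∈ fixer φ P) {b : ℕ} (hb : b ∈ P) (hb' : b < T.n) : act g b = b := by
  rw [act_eq g hb', h b hb hb']

theorem fixExact_spec {F w : List ℕ} (h : fixExact F w = true) :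
    (∀ c ∈ F, c < T.n ∧ T.run w c = c) ∧ ∀ c < T.n, T.run w c = c → c ∈ F := by
  simp only [fixExact, Bool.and_eq_true, allB_iff, Nat.blt_eq, Nat.beq_eq] at h
  refine ⟨h.1, fun c hc e => ?_⟩
  have h2 := AutCert.scan_spec _ h.2 c hc
  rw [show Nat.beq (T.run w c) c = true from by rw [e]; exact Nat.beq_refl c, cond_true] at h2
  obtain ⟨y, hy, hye⟩ := List.any_eq_true.mp h2
  rwa [Nat.eq_of_beq_eq_true hye]

/-- An element commuting with another permutes its fixed points. -/
theorem keeps {F w : List ℕ} (h : fixExact F w = true) (hw : lettersOK 7 w = true) {v : GG}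
    (hv : v * el w = el w * v) : ∀ y ∈ F, ∀ hy : y < T.n, (φ v ⟨y, hy⟩ : ℕ) ∈ F := by
  intro y hy hy'
  obtain ⟨h1, h2⟩ := fixExact_spec h
  rw [← act_eq v hy']
  refine h2 _ (act_lt v hy') ?_
  rw [← act_el hw (act_lt v hy'), ← act_mul, ← hv, act_mul, act_el hw hy', (h1 y hy).2]

/-! ### Chains -/

theorem chainOK_left : ∀ {l t : List (ℕ × List (List ℕ))} {P : List ℕ},
    chainOK T (l ++ t) P = true → chainOK T l P = true
  | [], _, _, _ => rfl
  | (b, ws) :: l, t, P, h => by
    simp only [List.cons_append, chainOK, Bool.and_eq_true] at h ⊢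
    exact ⟨h.1, h.2.1, h.2.2.1, chainOK_left h.2.2.2⟩

theorem prod_letters : ∀ {l : List (ℕ × List (List ℕ))} {P : List ℕ},
    chainOK T l P = true → ∀ u ∈ prodWords l, lettersOK 7 u = true
  | [], _, _, u, hu => by rw [prodWords, List.mem_singleton] at hu; subst hu; rfl
  | (b, ws) :: l, P, h, u, hu => by
    simp only [chainOK, Bool.and_eq_true, allB_iff, K_eq] at h
    obtain ⟨w, hw, hu'⟩ := List.mem_flatMap.mp hu
    obtain ⟨r, hr, rfl⟩ := List.mem_map.mp hu'
    exact letters_app (prod_letters h.2.2.2 r hr) (h.2.2.1 w hw).1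

/-- A chain that is tight for a stabiliser. -/
def Tight (l : List (ℕ × List (List ℕ))) (P : List ℕ) : Prop :=
  chainOK T l P = true ∧ Nat.card (fixer φ P : Subgroup GG) ≤ chainProd l

theorem Tight.next {b : ℕ} {ws : List (List ℕ)} {l : List (ℕ × List (List ℕ))} {P : List ℕ}
    (h : Tight ((b, ws) :: l) P) : Tight l (P ++ [b]) := by
  obtain ⟨h, hle⟩ := h
  simp only [chainOK, Bool.and_eq_true, Nat.blt_eq, allB_iff] at h
  obtain ⟨hb, ha, hw, hl⟩ := h
  have hs := chain_step Suz.checked gen φ hφ hb ha hw ⊤ fun _ _ => Subgroup.mem_top _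
  rw [top_inf_eq, top_inf_eq] at hs
  rw [chainProd] at hle
  have hpos : 0 < ws.length := by
    rcases Nat.eq_zero_or_pos ws.length with h0 | h0
    · rw [h0, zero_mul] at hle
      exact absurd hle (Nat.not_le.mpr Nat.card_pos)
    · exact h0
  exact ⟨hl, Nat.le_of_mul_le_mul_left (hs.trans hle) hpos⟩

theorem tight0 : Tight chain [] := ⟨chain_ok.1, card_fixer_nil⟩

theorem tight1 : Tight (chain.drop 1) [0] :=
  Tight.next (b := 0) (ws := chain0) (l := chain.drop 1) (P := []) tight0

theorem tight2 : Tight (chain.drop 2) [0, 1] :=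
  Tight.next (b := 1) (ws := chain1) (l := chain.drop 2) (P := [0]) tight1

theorem tight3 : Tight (chain.drop 3) [0, 1, 2] :=
  Tight.next (b := 2) (ws := chain2) (l := chain.drop 3) (P := [0, 1]) tight2

theorem tight4 : Tight (chain.drop 4) [0, 1, 2, 3] :=
  Tight.next (b := 3) (ws := chain3) (l := chain.drop 4) (P := [0, 1, 2]) tight3

theorem tightF : Tight chainF [] := ⟨chainF_ok.1, by
  rw [chainF_ok.2, ← card_GG]
  exact Subgroup.card_le_card_group _⟩

theorem tightF4 : Tight (chainF.drop 4) [165, 252, 672, 974] :=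
  Tight.next (b := 974) (ws := chainF3) (l := chainF.drop 4) (P := [165, 252, 672])
    (Tight.next (b := 672) (ws := chainF2) (l := chainF.drop 3) (P := [165, 252])
      (Tight.next (b := 252) (ws := chainF1) (l := chainF.drop 2) (P := [165])
        (Tight.next (b := 165) (ws := chainF0) (l := chainF.drop 1) (P := []) tightF)))

theorem Tight.decompose {l : List (ℕ × List (List ℕ))} {P : List ℕ} (h : Tight l P) {v : GG} (hv : v ∈ fixer φ P) :
    ∃ u ∈ prodWords l, v = el u := chain_tight Suz.checked gen φ hφ l P h.1 h.2 v hv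

/-- Following fixed points down the first levels of a tight chain. -/
theorem descend {F : List ℕ} {v : GG} (hvF : ∀ y ∈ F, ∀ hy : y < T.n, (φ v ⟨y, hy⟩ : ℕ) ∈ F)
    (l t : List (ℕ × List (List ℕ))) (Ts : List Tree) (P : List ℕ) (hlen : l.length = Ts.length)
    (hT : Tight (l ++ t) P)
    (hpos : ∀ i < l.length, ∀ hi : i < l.length, ∀ hi' : i < Ts.length,
      posOK T (l[i].1) (l[i].2) (Ts[i]) = true ∧ l[i].1 ∈ F)
    (hv : v ∈ fixer φ P) :
    ∃ b ∈ leads T F l Ts [], (el b)⁻¹ * v ∈ fixer φ (P ++ l.map Prod.fst) := by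
  have hrevs : ∀ (w : List ℕ), lettersOK T.C.K w = true → ∀ y : ℕ, ∀ hy : y < T.n,
      (φ (wprod gen w)⁻¹ ⟨y, hy⟩ : ℕ) = T.run w.reverse y := by
    intro w hw y hy
    rw [K_eq] at hw
    rw [← act_eq _ hy, show (wprod gen w)⁻¹ = el w.reverse from (el_rev w).symm, act_el (letters_rev hw) hy]
  refine leads_spec Suz.checked gen φ hφ v hvF l Ts P hlen (chainOK_left hT.1) hpos ?_ [] rfl
    (by simpa [wprod] using hv) (hrevs [] rfl) hrevs
  intro i hi u hu hb
  have hi' : i < (l ++ t).length := by simp; omega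
  have he : (l ++ t)[i] = l[i] := List.getElem_append_left hi
  have hu' : u ∈ fixer φ (P ++ ((l ++ t).take i).map Prod.fst) := by
    rwa [List.take_append_of_le_length (by omega)]
  have h := tight_orbit Suz.checked gen φ hφ (l ++ t) P hT.1 hT.2 i hi' u hu' (by rw [he]; exact hb)
  simpa only [he] using h

/-- A bound from a list of cases with fibres in a subgroup. -/
theorem card_le_fiber {A B : Subgroup GG} {ι : Type} (L : List ι) (R : GG → ι → Prop)
    (hex : ∀ v ∈ A, ∃ b ∈ L, R v b) (hR : ∀ v ∈ A, ∀ v' ∈ A, ∀ b, R v b → R v' b → v⁻¹ * v' ∈ B) :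
    Nat.card A ≤ L.length * Nat.card B := by
  classical
  have hex' : ∀ v : A, ∃ i : Fin L.length, R v (L.get i) := fun v => by
    obtain ⟨b, hb, h⟩ := hex v v.2
    obtain ⟨i, rfl⟩ := List.get_of_mem hb
    exact ⟨i, h⟩
  choose idx hidx using hex'
  let rep : Fin L.length → GG := fun i => if h : ∃ v ∈ A, R v (L.get i) then h.choose else 1
  have hrep : ∀ v : A, rep (idx v) ∈ A ∧ R (rep (idx v)) (L.get (idx v)) := fun v => by
    have h : ∃ v' ∈ A, R v' (L.get (idx v)) := ⟨v, v.2, hidx v⟩
    simp only [rep, dif_pos h]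
    exact h.choose_spec
  rw [← Nat.card_fin L.length, ← Nat.card_prod]
  refine Nat.card_le_card_of_injective
    (fun v : A => (idx v, (⟨(rep (idx v))⁻¹ * v, hR _ (hrep v).1 _ v.2 _ (hrep v).2 (hidx v)⟩ : B))) ?_
  intro v v' e
  obtain ⟨e1, e2⟩ := Prod.ext_iff.mp e
  simp only at e1
  have e3 : (rep (idx v))⁻¹ * (v : GG) = (rep (idx v'))⁻¹ * (v' : GG) := congrArg Subtype.val e2
  rw [e1] at e3
  exact Subtype.ext (mul_left_cancel e3)

/-! ### The centraliser of `e` -/

/-- The subgroup generated by the elements of a list of words. -/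
abbrev clo (gens : List (List ℕ)) : Subgroup GG :=
  Subgroup.closure {p : GG | ∃ k < gens.length, p = wprod gen (getWord gens k)}

theorem getWord_clo (gens : List (List ℕ)) {k : ℕ} (hk : k < gens.length) : el (getWord gens k) ∈ clo gens :=
  Subgroup.subset_closure ⟨k, hk, rfl⟩

theorem sub_clo (gens : List (List ℕ)) (w : List ℕ) : el (subW gens w) ∈ clo gens :=
  el_subW_mem gen gens _ (fun k hk => getWord_clo gens hk) w

theorem clo_le {gens : List (List ℕ)} {K : Subgroup GG} (h : ∀ w ∈ gens, el w ∈ K) : clo gens ≤ K := by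
  rw [Subgroup.closure_le]
  rintro _ ⟨k, hk, rfl⟩
  exact h _ (getWord_mem_lt hk)

abbrev ea : GG := el [0]

abbrev ee : GG := el [4]

abbrev Ce : Subgroup GG := Subgroup.centralizer ({ee} : Set GG)

theorem comm_of {c : ℕ} {gens : List (List ℕ)} (h : commutesWith c gens = true) {w : List ℕ} (hw : w ∈ gens) :
    el w ∈ Subgroup.centralizer ({el [c]} : Set GG) := by
  have := eq_of (allB_iff.mp h w hw)
  rw [el_app, el_app] at this
  rw [Subgroup.mem_centralizer_singleton_iff]
  exact this

theorem sub_le {gens idx : List (List ℕ)} (h : subsOK gens idx = true) : clo gens ≤ clo gensE := by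
  simp only [subsOK, Bool.and_eq_true, Nat.beq_eq] at h
  refine Subgroup.closure_le (clo gensE) |>.mpr ?_
  rintro _ ⟨k, hk, rfl⟩
  have h1 := AutCert.scan_spec _ h.2 k hk
  simp only [Bool.and_eq_true] at h1
  have h2 := sub_clo gensE (getWord idx k)
  rw [eq_of h1.2] at h2
  exact h2

theorem keepsE {v : GG} (hv : v ∈ Ce) : ∀ y ∈ eFix, ∀ hy : y < T.n, (φ v ⟨y, hy⟩ : ℕ) ∈ eFix :=
  keeps fix_ok.1 rfl (Subgroup.mem_centralizer_singleton_iff.mp hv)

theorem posE {i : ℕ} (hi : i < 4) :
    posOK T ((chain.map Prod.fst).getD i 0) ((chain.map Prod.snd).getD i []) (chainPos i) = true ∧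
      (i = 0 ∨ (chain.map Prod.fst).getD i 0 ∈ eFix) := by
  have h := pos_ok
  simp only [Bool.and_eq_true] at h
  have h' := AutCert.scan_spec _ h.1 i hi
  simp only [Bool.and_eq_true, Bool.or_eq_true, Nat.beq_eq] at h'
  refine ⟨h'.1, h'.2.imp id fun h2 => ?_⟩
  obtain ⟨y, hy, hye⟩ := List.any_eq_true.mp h2
  rwa [Nat.eq_of_beq_eq_true hye]

theorem posSeven {i : ℕ} (hi : i < 4) :
    posOK T ((chainF.map Prod.fst).getD i 0) ((chainF.map Prod.snd).getD i []) (chainFPos i) = true ∧
      (chainF.map Prod.fst).getD i 0 ∈ sevenFix := by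
  have h := pos_ok
  simp only [Bool.and_eq_true] at h
  have h' := AutCert.scan_spec _ h.2 i hi
  simp only [Bool.and_eq_true] at h'
  obtain ⟨y, hy, hye⟩ := List.any_eq_true.mp h'.2
  exact ⟨h'.1, by rwa [Nat.eq_of_beq_eq_true hye]⟩

theorem descendE {v : GG} (hv : v ∈ Ce) (h0 : v ∈ fixer φ [0]) :
    ∃ b ∈ leadsE, (el b)⁻¹ * v ∈ fixer φ [0, 1, 2, 3] := by
  refine descend (keepsE hv) [(1, chain1), (2, chain2), (3, chain3)] (chain.drop 4)
    [chainPos 1, chainPos 2, chainPos 3] [0] rfl tight1 (fun i hi h1 h2 => ?_) h0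
  simp only [List.length_cons, List.length_nil] at hi
  interval_cases i
  · obtain ⟨a, b⟩ := posE (i := 1) (by norm_num)
    exact ⟨a, b.resolve_left (by norm_num)⟩
  · obtain ⟨a, b⟩ := posE (i := 2) (by norm_num)
    exact ⟨a, b.resolve_left (by norm_num)⟩
  · obtain ⟨a, b⟩ := posE (i := 3) (by norm_num)
    exact ⟨a, b.resolve_left (by norm_num)⟩

theorem card_Ce_le : Nat.card Ce ≤ 161280 := by
  have zero_lt : 0 < T.n := hBn 0 (by simp [baseL])
  have z_mem : 0 ∈ eFix := by simp [eFix]
  have h1 : Nat.card Ce ≤ eFix.length * Nat.card (Ce ⊓ fixer φ [0] : Subgroup GG) := by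
    refine card_le_fiber eFix (fun v y => act v 0 = y) (fun v hv => ⟨_, ?_, rfl⟩) ?_
    · rw [act_eq v zero_lt]
      exact keepsE hv 0 z_mem zero_lt
    · intro v hv v' hv' y e e'
      refine ⟨Ce.mul_mem (Ce.inv_mem hv) hv', mem_fixer fun b hb hb' => ?_⟩
      rw [List.mem_singleton] at hb
      subst hb
      rw [act_mul, e', ← e, act_inv_cancel]
  have h2 : Nat.card (Ce ⊓ fixer φ [0] : Subgroup GG) ≤
      leadsE.length * Nat.card (Ce ⊓ fixer φ [0, 1, 2, 3] : Subgroup GG) := by
    refine card_le_fiber leadsE (fun v b => (el b)⁻¹ * v ∈ fixer φ [0, 1, 2, 3]) (fun v hv => descendE hv.1 hv.2) ?_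
    intro v hv v' hv' b e e'
    refine ⟨Ce.mul_mem (Ce.inv_mem hv.1) hv'.1, ?_⟩
    have := (fixer φ [0, 1, 2, 3] : Subgroup GG).mul_mem ((fixer φ [0, 1, 2, 3] : Subgroup GG).inv_mem e) e'
    rw [show v⁻¹ * v' = ((el b)⁻¹ * v)⁻¹ * ((el b)⁻¹ * v') by group]
    exact this
  have h3 : Nat.card (Ce ⊓ fixer φ [0, 1, 2, 3] : Subgroup GG) ≤ restE.length * Nat.card (⊥ : Subgroup GG) := by
    refine card_le_fiber restE (fun v u => v = el u) (fun v hv => ?_) ?_
    · obtain ⟨u, hu, rfl⟩ := tight4.decompose hv.2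
      have hl := prod_letters tight4.1 u hu
      refine ⟨u, List.mem_filter.mpr ⟨hu, eqW_of_eq (letters_app hl rfl) (letters_app rfl hl) ?_⟩, rfl⟩
      rw [el_app, el_app]
      exact (Subgroup.mem_centralizer_singleton_iff.mp hv.1).symm
    · intro v _ v' _ u e e'
      rw [e, e', inv_mul_cancel]
      exact one_mem _
  rw [fix_ok.2.2] at h1
  rw [leadsE_len] at h2
  rw [restE_len, Subgroup.card_bot] at h3
  omega

theorem card_E_ge : 161280 ≤ Nat.card (clo gensE) := by
  have h := chain_in Suz.checked gen φ hφ (clo gensE) chainIn [] chainIn_ok.1 fun p hp w hw => by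
    obtain ⟨q, -, rfl⟩ := List.mem_map.mp hp
    obtain ⟨r, -, rfl⟩ := List.mem_map.mp hw
    exact sub_clo gensE r
  rw [chainIn_ok.2] at h
  refine le_trans ?_ (h.trans (Subgroup.card_le_of_le inf_le_left))
  exact Nat.le_mul_of_pos_right _ Nat.card_pos

theorem clo_E : clo gensE = Ce :=
  Subgroup.eq_of_le_of_card_ge (clo_le fun w hw => comm_of gensE_comm.1 hw) (card_Ce_le.trans card_E_ge)

theorem card_Ce : Nat.card Ce = 161280 := le_antisymm card_Ce_le (clo_E ▸ card_E_ge)

/-! ### Classes of involutions -/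

def IsA (x : GG) : Prop := ∃ k : GG, x = k * ea * k⁻¹

def IsE (x : GG) : Prop := ∃ k : GG, x = k * ee * k⁻¹

/-- The number of fixed points. -/
def fcount (x : GG) : ℕ := ((Finset.univ : Finset (Fin T.n)).filter fun c => φ x c = c).card

theorem fcount_el {w : List ℕ} (hw : lettersOK 7 w = true) : fcount (el w) = (fixList T w).length := by
  have hnd : (fixList T w).Nodup := List.Nodup.filter _ List.nodup_range
  rw [← List.toFinset_card_of_nodup hnd, fcount, ← Finset.card_map Fin.valEmbedding]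
  refine congrArg Finset.card (Finset.ext fun c => ?_)
  simp only [Finset.mem_map, Finset.mem_filter, Finset.mem_univ, true_and, Fin.valEmbedding_apply, List.mem_toFinset,
    fixList, List.mem_filter, List.mem_range, Nat.beq_eq]
  constructor
  · rintro ⟨a, ha, rfl⟩
    exact ⟨a.2, by rw [← phi_el Suz.checked gen φ hφ (K_eq.symm ▸ hw) a]; exact congrArg Fin.val ha⟩
  · rintro ⟨hc, h⟩
    exact ⟨⟨c, hc⟩, Fin.ext (by rw [phi_el Suz.checked gen φ hφ (K_eq.symm ▸ hw)]; exact h), rfl⟩

theorem fcount_conj (k x : GG) : fcount (k * x * k⁻¹) = fcount x := by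
  refine (Finset.card_equiv (φ k) fun c => ?_).symm
  simp [Finset.mem_filter]

theorem not_both {x : GG} (ha : IsA x) (he : IsE x) : False := by
  obtain ⟨k, rfl⟩ := ha
  obtain ⟨m, hm⟩ := he
  have h := fcount_conj k ea
  rw [hm, fcount_conj, fcount_el (w := [4]) rfl, fcount_el (w := [0]) rfl, classes_apart.1, classes_apart.2] at h
  norm_num at h

theorem gen_sq' (l : ℕ) : el [l] * el [l] = 1 := by rw [el_single]; exact hsq l

theorem gen_ne {l : ℕ} (hl : l ∈ [0, 1, 2, 4, 5, 6]) : el [l] ≠ 1 :=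
  ne_one_of (allB_iff.mp slot_comm.2.2.2 l hl)

theorem sevenSlice_all {b : List ℕ} (hb : b ∈ leadsSeven) :
    ∀ u ∈ prodWords (chainF.drop 4), sevenOne (u ++ b) = true := by
  obtain ⟨j, hj, rfl⟩ := List.getElem_of_mem hb
  have key : ∀ a, sevenSlice a 6 = true → a ≤ j → j < a + 6 →
      ∀ u ∈ prodWords (chainF.drop 4), sevenOne (u ++ leadsSeven[j]) = true := by
    intro a ha h1 h2
    simp only [sevenSlice, allB_iff] at ha
    refine ha _ (List.mem_iff_getElem.mpr ⟨j - a, by simp; omega, ?_⟩)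
    simp [Nat.add_sub_cancel' h1]
  have hlen := leadsSeven_len
  by_cases h0 : j < 6; · exact key 0 sevenSlice0 (by omega) (by omega)
  by_cases h1 : j < 12; · exact key 6 sevenSlice1 (by omega) (by omega)
  by_cases h2 : j < 18; · exact key 12 sevenSlice2 (by omega) (by omega)
  exact key 18 sevenSlice3 (by omega) (by omega)

theorem seven_involution {x : GG} (hne : x ≠ 1) (h2 : x * x = 1) (hc : x * el sevenWord = el sevenWord * x) :
    IsE x := by
  obtain ⟨b, hb, hbx⟩ := descend (keeps fix_ok.2.1 seven_ok.1 hc)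
    [(165, chainF0), (252, chainF1), (672, chainF2), (974, chainF3)] (chainF.drop 4)
    [chainFPos 0, chainFPos 1, chainFPos 2, chainFPos 3] [] rfl tightF (fun i hi h1 h2 => by
      simp only [List.length_cons, List.length_nil] at hi
      interval_cases i
      · exact posSeven (i := 0) (by norm_num)
      · exact posSeven (i := 1) (by norm_num)
      · exact posSeven (i := 2) (by norm_num)
      · exact posSeven (i := 3) (by norm_num))
    (fun c hc => absurd hc (by simp))
  obtain ⟨u, hu, hue⟩ := tightF4.decompose hbx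
  have hxe : x = el (u ++ b) := by rw [el_app, ← hue, mul_inv_cancel_left]
  have h := sevenSlice_all hb u hu
  simp only [sevenOne, Bool.and_eq_true] at h
  obtain ⟨hl, h⟩ := h
  rw [commWith, eqW_of_eq (letters_app hl seven_ok.1) (letters_app seven_ok.1 hl)
    (by rw [el_app (u ++ b), el_app sevenWord, ← hxe]; exact hc.symm), cond_true] at h
  simp only [Bool.or_eq_true] at h
  rcases h with h | h | h
  · exact absurd (hxe.trans (one_of h)) hne
  · exact absurd (by rw [el_app, ← hxe, h2]) (ne_one_of h)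
  · obtain ⟨t, -, ht⟩ := List.any_eq_true.mp h
    exact ⟨el t, by rw [hxe, eq_of ht, el_conj]⟩

theorem image_E (α : MulAut GG) : IsE (α ee) := by
  haveI : Fact (Nat.Prime 7) := ⟨by norm_num⟩
  set s := el sevenWord with hs
  have s7 : s ^ 7 = 1 := by
    have h := one_of seven_ok.2.1
    simp only [el_app, ← hs, ← mul_assoc] at h
    simp only [pow_succ, pow_zero, one_mul]
    exact h
  have sne : s ≠ 1 := ne_one_of seven_ok.2.2.1
  have ordS : orderOf s = 7 := orderOf_eq_prime s7 sne
  have ordY : orderOf (α s) = 7 := (MulEquiv.orderOf_eq α s).trans ordS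
  have hcardG : (Nat.card GG).factorization 7 = 1 := by
    rw [card_GG, show (448345497600 : ℕ) = 64049356800 * 7 from rfl, Nat.factorization_mul (by norm_num) (by norm_num),
      Finsupp.add_apply, Nat.factorization_eq_zero_of_not_dvd (by norm_num), zero_add,
      Nat.Prime.factorization_self (by norm_num)]
  have mk : ∀ z : GG, orderOf z = 7 → ∃ S : Sylow 7 GG, (S : Subgroup GG) = Subgroup.zpowers z := fun z hz =>
    ⟨Sylow.ofCard (Subgroup.zpowers z) (by rw [Nat.card_zpowers, hz, hcardG, pow_one]), Sylow.coe_ofCard _ _⟩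
  obtain ⟨S, hS⟩ := mk s ordS
  obtain ⟨Y, hY⟩ := mk (α s) ordY
  obtain ⟨k, hk⟩ := MulAction.exists_smul_eq GG Y S
  have hmem : k * α s * k⁻¹ ∈ Subgroup.zpowers s := by
    have : k * α s * k⁻¹ ∈ ((k • Y : Sylow 7 GG) : Subgroup GG) :=
      Subgroup.smul_mem_pointwise_smul _ (MulAut.conj k) (Y : Subgroup GG) (hY ▸ Subgroup.mem_zpowers _)
    rwa [hk, hS] at this
  have hz : Subgroup.zpowers (k * α s * k⁻¹) = Subgroup.zpowers s :=
    Subgroup.eq_of_le_of_card_ge (Subgroup.zpowers_le.mpr hmem) (by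
      rw [Nat.card_zpowers, Nat.card_zpowers, ← MulAut.conj_apply, MulEquiv.orderOf_eq, ordY, ordS])
  set x := k * α ee * k⁻¹ with hx
  have hce : ee * s = s * ee := by
    have := eq_of seven_ok.2.2.2
    rw [el_app, el_app, ← hs] at this
    exact this.symm
  have hxy : k * α s * k⁻¹ ∈ Subgroup.centralizer ({x} : Set GG) := by
    rw [Subgroup.mem_centralizer_singleton_iff]
    have h : α ee * α s = α s * α ee := by rw [← map_mul, ← map_mul, hce]
    calc k * α s * k⁻¹ * x = k * (α s * α ee) * k⁻¹ := by rw [hx]; group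
      _ = k * (α ee * α s) * k⁻¹ := by rw [h]
      _ = x * (k * α s * k⁻¹) := by rw [hx]; group
  have hxs : x * s = s * x := by
    have hle : Subgroup.zpowers (k * α s * k⁻¹) ≤ Subgroup.centralizer ({x} : Set GG) := Subgroup.zpowers_le.mpr hxy
    rw [hz] at hle
    exact (Subgroup.mem_centralizer_singleton_iff.mp (hle (Subgroup.mem_zpowers s))).symm
  have hne : x ≠ 1 := fun e => gen_ne (l := 4) (by simp) (α.injective ((conj_eq_one_iff.mp e).trans (map_one α).symm))
  have h2 : x * x = 1 := by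
    calc x * x = k * α (ee * ee) * k⁻¹ := by rw [hx, map_mul]; group
      _ = 1 := by rw [gen_sq', map_one, mul_one, mul_inv_cancel]
  obtain ⟨m, hm⟩ := seven_involution hne h2 hxs
  refine ⟨k⁻¹ * m, ?_⟩
  calc α ee = k⁻¹ * x * k := by rw [hx]; group
    _ = _ := by rw [hm]; group

theorem IsE.map {x : GG} (h : IsE x) (α : MulAut GG) : IsE (α x) := by
  obtain ⟨k, rfl⟩ := h
  obtain ⟨m, hm⟩ := image_E α
  exact ⟨α k * m, by rw [map_mul, map_mul, map_inv, hm]; group⟩

theorem card_P : Nat.card (clo gensP) = 512 := by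
  refine le_antisymm ?_ ?_
  · have hc : ∀ i < 512, closedMul T baseL gensP elP 512 mulP i 1 = true := by
      intro i hi
      by_cases h0 : i < 256; · exact closedMul_one mulP_ok0 (by omega) (by omega)
      exact closedMul_one mulP_ok1 (by omega) (by omega)
    choose f hf hf' using closedMul_spec Suz.checked gen φ hφ hsq hBn hB hc (by norm_num) distinct_P.1
    calc Nat.card (clo gensP) ≤ Nat.card (Fin 512) :=
          Nat.card_le_card_of_injective (fun g : clo gensP => (⟨f g g.2, hf g g.2⟩ : Fin 512)) fun g h e =>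
            Subtype.ext (by rw [hf' g g.2, hf' h h.2, show f g g.2 = f h h.2 from congrArg Fin.val e])
      _ = 512 := Nat.card_fin _
  · have hs : ∀ i, 1 ≤ i → i + 1 < 512 → lettersOK 7 (elP i) = true ∧ lettersOK 7 (elP (i + 1)) = true ∧
        AutCert.code T (elP i) baseL < AutCert.code T (elP (i + 1)) baseL := fun i h1 h2 => by
      have := AutCert.scan_spec _ distinct_P.2.1 (i - 1) (by omega)
      rw [Nat.add_sub_cancel' h1] at this
      simpa [Nat.blt_eq, and_assoc] using this
    have hmono : ∀ i j, 1 ≤ i → i < j → j < 512 → AutCert.code T (elP i) baseL < AutCert.code T (elP j) baseL := by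
      intro i j h1 hij
      induction j with
      | zero => omega
      | succ j ih =>
        intro hj
        rcases Nat.lt_succ_iff_lt_or_eq.mp hij with e | rfl
        · exact (ih e (by omega)).trans (hs j (by omega) hj).2.2
        · exact (hs i h1 hj).2.2
    have hlet : ∀ i, 1 ≤ i → i < 512 → lettersOK 7 (elP i) = true := fun i h1 h2 => by
      rcases Nat.eq_or_lt_of_le h1 with e | e
      · exact (hs i h1 (by omega)).1
      · obtain ⟨j, rfl⟩ : ∃ j, i = j + 1 := ⟨i - 1, by omega⟩
        exact (hs j (by omega) h2).2.1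
    have hne : ∀ i, 1 ≤ i → i < 512 → el (elP i) ≠ 1 := fun i h1 h2 => by
      have := AutCert.scan_spec _ distinct_P.2.2 (i - 1) (by omega)
      rw [Nat.sub_add_cancel h1] at this
      exact ne_one_of this
    rw [← Nat.card_fin 512]
    refine Nat.card_le_card_of_injective (fun i : Fin 512 => (⟨el (elP i), sub_clo gensP _⟩ : clo gensP)) fun i j e => ?_
    have e1 : el (elP i) = el (elP j) := congrArg Subtype.val e
    refine Fin.ext ?_
    rcases Nat.eq_zero_or_pos (i : ℕ) with hi | hi <;> rcases Nat.eq_zero_or_pos (j : ℕ) with hj | hj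
    · rw [hi, hj]
    · rw [hi, distinct_P.1] at e1; exact absurd e1.symm (hne j hj j.2)
    · rw [hj, distinct_P.1] at e1; exact absurd e1 (hne i hi i.2)
    · have hc := code_eq Suz.checked gen φ hφ hBn (K_eq ▸ hlet i hi i.2) (K_eq ▸ hlet j hj j.2) e1
      rcases lt_trichotomy (i : ℕ) j with hij | hij | hij
      · exact absurd hc (hmono i j hi hij j.2).ne
      · exact hij
      · exact absurd hc (hmono j i hj hij i.2).ne'

theorem mem_P {g : GG} (hg : g ∈ clo gensP) : ∃ j < 512, g = el (elP j) := by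
  refine closedMul_spec Suz.checked gen φ hφ hsq hBn hB (idx := mulP) (fun i hi => ?_) (by norm_num) distinct_P.1 g hg
  by_cases h0 : i < 256; · exact closedMul_one mulP_ok0 (by omega) (by omega)
  exact closedMul_one mulP_ok1 (by omega) (by omega)

theorem candA_mem {j : ℕ} (hj : j < 315) : candA j ∈ candsA :=
  List.mem_map.mpr ⟨j, List.mem_range.mpr hj, rfl⟩

theorem candsA_IsA {c : List ℕ} (hc : c ∈ candsA) : IsA (el c) := by
  obtain ⟨i, -, rfl⟩ := List.mem_map.mp hc
  exact ⟨el (listA i), el_conj _ _⟩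

theorem involution_of_Ce {x : GG} (hx : x ≠ 1) (hx2 : x * x = 1) (hc : x ∈ Ce) :
    IsE x ∨ ∃ c ∈ candsA, x = el c := by
  haveI : Fact (Nat.Prime 2) := ⟨Nat.prime_two⟩
  have hPK : clo gensP ≤ Ce := (sub_le gensE_comm.2).trans (le_of_eq clo_E)
  set Q : Subgroup Ce := (clo gensP).subgroupOf Ce
  have hQ : Nat.card Q = 512 := (Nat.card_congr (Subgroup.subgroupOfEquivOfLe hPK).toEquiv).trans card_P
  have hp : IsPGroup 2 Q := IsPGroup.of_card (n := 9) (by rw [hQ]; norm_num)
  have hi : ¬ 2 ∣ Q.index := by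
    have h := Q.card_mul_index
    rw [hQ, card_Ce] at h
    omega
  have hz : IsPGroup 2 (Subgroup.zpowers (⟨x, hc⟩ : Ce)) := by
    rintro ⟨y, hy⟩
    obtain ⟨m, rfl⟩ := Subgroup.mem_zpowers_iff.mp hy
    refine ⟨1, Subtype.ext (Subtype.ext ?_)⟩
    show (x ^ m) ^ (2 ^ 1) = 1
    rw [pow_one, pow_two, ← zpow_add, ← two_mul, zpow_mul, zpow_two, hx2, one_zpow]
  obtain ⟨S, hS⟩ := hz.exists_le_sylow
  obtain ⟨k, hk⟩ := MulAction.exists_smul_eq Ce S (hp.toSylow hi)
  have hmem : (k : GG) * x * (k : GG)⁻¹ ∈ clo gensP := by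
    have : k * ⟨x, hc⟩ * k⁻¹ ∈ ((k • S : Sylow 2 Ce) : Subgroup Ce) :=
      Subgroup.smul_mem_pointwise_smul _ (MulAut.conj k) (S : Subgroup Ce) (hS (Subgroup.mem_zpowers _))
    rw [hk] at this
    exact this
  obtain ⟨i, hi', hie⟩ := mem_P hmem
  have hne : el (elP i) ≠ 1 := by rw [← hie]; exact fun e => hx (conj_eq_one_iff.mp e)
  have h2 : el (elP i) * el (elP i) = 1 := by
    rw [← hie]
    calc (k : GG) * x * (k : GG)⁻¹ * ((k : GG) * x * (k : GG)⁻¹) = k * (x * x) * (k : GG)⁻¹ := by group
      _ = 1 := by rw [hx2, mul_one, mul_inv_cancel]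
  have h := AutCert.scan_spec _ witP_ok i hi'
  simp only [witOne] at h
  cases hv0 : Nat.beq (witP.get i) 0 <;> simp only [hv0, cond_true, cond_false] at h
  swap
  · simp only [Bool.or_eq_true] at h
    rcases h with h | h
    · exact absurd (one_of h) hne
    · exact absurd (by rw [el_app]; exact h2) (ne_one_of h)
  · cases hv1 : Nat.beq (Nat.land (witP.get i) 1) 1 <;> simp only [hv1, cond_true, cond_false] at h
    swap
    · refine Or.inl ⟨(k : GG)⁻¹ * el (decode 1000 (Nat.shiftRight (witP.get i) 1)), ?_⟩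
      calc x = (k : GG)⁻¹ * ((k : GG) * x * (k : GG)⁻¹) * k := by group
        _ = _ := by rw [hie, eq_of h, el_conj]; group
    · simp only [Bool.and_eq_true, Nat.blt_eq] at h
      have hcl : ∀ i < 315, closedConj T baseL gensE candA 315 conjA i 1 = true := fun i hi =>
        closedConj_one conjA_ok (Nat.zero_le i) (by omega)
      obtain ⟨j', hj', e⟩ := closedConj_spec Suz.checked gen φ hφ hsq hBn hB hcl (k : GG)⁻¹
        (clo_E.symm ▸ inv_mem k.2 : (k : GG)⁻¹ ∈ clo gensE) _ h.1
      refine Or.inr ⟨candA j', candA_mem hj', ?_⟩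
      rw [show el (candA j') = (k : GG)⁻¹ * el (candA _) * (k : GG)⁻¹⁻¹ from e.symm, ← eq_of h.2, ← hie]
      group

theorem IsA.map {x : GG} (h : IsA x) (α : MulAut GG) : IsA (α x) := by
  obtain ⟨k, rfl⟩ := h
  obtain ⟨m, hm⟩ := image_E α
  have hc : ea * ee = ee * ea :=
    Subgroup.mem_centralizer_singleton_iff.mp (comm_of slot_comm.1 (w := [0]) (by simp))
  set y := m⁻¹ * α ea * m with hy
  have hyC : y ∈ Ce := by
    rw [Subgroup.mem_centralizer_singleton_iff]
    have h : α ea * α ee = α ee * α ea := by rw [← map_mul, ← map_mul, hc]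
    rw [hm] at h
    calc y * ee = m⁻¹ * (α ea * (m * ee * m⁻¹)) * m := by rw [hy]; group
      _ = m⁻¹ * (m * ee * m⁻¹ * α ea) * m := by rw [h]
      _ = _ := by rw [hy]; group
  have hyne : y ≠ 1 := fun e => gen_ne (l := 0) (by simp) (α.injective (by
    rw [map_one]
    calc α ea = m * y * m⁻¹ := by rw [hy]; group
      _ = 1 := by rw [e]; group))
  have hy2 : y * y = 1 := by
    calc y * y = m⁻¹ * α (ea * ea) * m := by rw [hy, map_mul]; group
      _ = 1 := by rw [gen_sq', map_one, mul_one, inv_mul_cancel]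
  rcases involution_of_Ce hyne hy2 hyC with ⟨n, hn⟩ | ⟨c, hc', hce⟩
  · exfalso
    have hE : IsE (α ea) := ⟨m * n, by
      calc α ea = m * y * m⁻¹ := by rw [hy]; group
        _ = _ := by rw [hn]; group⟩
    refine not_both (x := ea) ⟨1, by group⟩ ?_
    have h' := hE.map α.symm
    rwa [α.symm_apply_apply] at h'
  · obtain ⟨n, hn⟩ := candsA_IsA hc'
    refine ⟨α k * m * n, ?_⟩
    rw [← hce] at hn
    calc α (k * ea * k⁻¹) = α k * (m * y * m⁻¹) * (α k)⁻¹ := by
          rw [map_mul, map_mul, map_inv, hy]; group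
      _ = _ := by rw [hn]; group

/-! ### The search -/

/-- The image of the slot generators. -/
def qs (α : MulAut GG) (i : ℕ) : GG := α (el (getWord slotWords i))

theorem q_rels (α : MulAut GG) {L : AutCert.Level} {m : ℕ} (h : relsTrue L m = true) :
    (∀ r ∈ L.rels, wprod (qs α) r = 1) ∧ (∀ r ∈ L.nons, wprod (qs α) r ≠ 1) ∧
      ∀ r ∈ L.rels ++ L.nons, ∀ y ∈ r, y ≤ m := by
  simp only [relsTrue, Bool.and_eq_true, allB_iff, Nat.ble_eq] at h
  have key : ∀ r, wprod (qs α) r = α (el (subW slotWords r)) := fun r => by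
    rw [el, el_subW gen]
    exact (map_wprod α.toMonoidHom _ r).symm
  refine ⟨fun r hr => ?_, fun r hr => ?_, fun r hr => ?_⟩
  · rw [key, one_of (h.1 r hr).2, map_one]
  · rw [key]
    exact fun e => ne_one_of (h.2 r hr).2 (α.injective (e.trans (map_one α).symm))
  · rcases List.mem_append.mp hr with hr | hr
    · exact (h.1 r hr).1
    · exact (h.2 r hr).1

theorem class_A {l : ℕ} (hl : l = 0 ∨ l = 1 ∨ l = 2 ∨ l = 5 ∨ l = 6) : IsA (el [l]) := by
  rcases hl with rfl | hl
  · exact ⟨1, by group⟩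
  have h : (candsA.any fun w => eqW T baseL w [l]) = true := by
    refine List.all_eq_true.mp gen_classes l ?_
    simpa using hl
  obtain ⟨w, hw, hwe⟩ := List.any_eq_true.mp h
  rw [← eq_of hwe]
  exact candsA_IsA hw

/-- A candidate inside the centraliser of `e`. -/
theorem cand_E (α : MulAut GG) {l : ℕ} (hl : l = 0 ∨ l = 1 ∨ l = 2 ∨ l = 5 ∨ l = 6) {g : GG}
    (hg : α ee = g * ee * g⁻¹) : ∃ c ∈ candsA, g⁻¹ * α (el [l]) * g = el c := by
  set x := g⁻¹ * α (el [l]) * g with hx
  have hc : el [l] ∈ Ce := comm_of slot_comm.1 (by rcases hl with rfl | rfl | rfl | rfl | rfl <;> simp)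
  have hxC : x ∈ Ce := by
    rw [Subgroup.mem_centralizer_singleton_iff] at hc ⊢
    have h : α (el [l]) * α ee = α ee * α (el [l]) := by rw [← map_mul, ← map_mul, hc]
    rw [hg] at h
    calc x * ee = g⁻¹ * (α (el [l]) * (g * ee * g⁻¹)) * g := by rw [hx]; group
      _ = g⁻¹ * (g * ee * g⁻¹ * α (el [l])) * g := by rw [h]
      _ = _ := by rw [hx]; group
  have hA : IsA x := by
    obtain ⟨k, hk⟩ := (class_A hl).map α
    exact ⟨g⁻¹ * k, by rw [hx, hk]; group⟩
  have hne : x ≠ 1 := fun e => gen_ne (l := l) (by rcases hl with rfl | rfl | rfl | rfl | rfl <;> simp)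
    (α.injective (by
      rw [map_one]
      calc α (el [l]) = g * x * g⁻¹ := by rw [hx]; group
        _ = 1 := by rw [e]; group))
  have h2 : x * x = 1 := by
    calc x * x = g⁻¹ * α (el [l] * el [l]) * g := by rw [map_mul, hx]; group
      _ = 1 := by rw [gen_sq', map_one, mul_one, inv_mul_cancel]
  rcases involution_of_Ce hne h2 hxC with h | h
  · exact absurd h (not_both hA)
  · exact h

theorem dAll_spec : ∀ {R : List (List (List ℕ))} {D : List (List (List ℕ) × List ℕ × List ℕ × ℕ)},
    dAll R D = true → ∀ P ∈ R, ∃ d, dOne P d = true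
  | [], [], _, P, hP => by simp at hP
  | [], _ :: _, h, _, _ => by simp [dAll] at h
  | _ :: _, [], h, _, _ => by simp [dAll] at h
  | Q :: l, d :: m, h, P, hP => by
    simp only [dAll, Bool.and_eq_true] at h
    rcases List.mem_cons.mp hP with rfl | hP
    · exact ⟨d, h.1⟩
    · exact dAll_spec h.2 P hP

theorem commute_sub {P : List (List ℕ)} {v : GG} : ∀ {r : List ℕ},
    (∀ y ∈ r, Commute v (el (getWord P y))) → Commute v (el (subW P r))
  | [], _ => Commute.one_right v
  | y :: r, h => by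
    show Commute v (el (getWord P y ++ subW P r))
    rw [el_app]
    exact Commute.mul_right (commute_sub fun z hz => h z (List.mem_cons_of_mem _ hz)) (h y List.mem_cons_self)

theorem onlyFix_spec {P use : List (List ℕ)} {p : ℕ} (h : onlyFix P use p = true) :
    (∀ r ∈ use, lettersOK 7 (subW P r) = true) ∧
      ∀ z < T.n, (∀ r ∈ use, T.run (subW P r) z = z) → z = p := by
  simp only [onlyFix, Bool.and_eq_true, allB_iff] at h
  refine ⟨h.1, fun z hz hf => ?_⟩
  have h2 := AutCert.scan_spec _ h.2 z hz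
  rw [show allB (fun r => Nat.beq (T.run (subW P r) z) z) use = true from
    allB_iff.mpr fun r hr => by rw [hf r hr]; exact Nat.beq_refl z, cond_true] at h2
  exact Nat.eq_of_beq_eq_true h2

theorem wSlot_spec {y : ℕ} (h : wSlot y = true) : y = 1 ∨ y = 2 ∨ y = 4 ∨ y = 5 := by
  simpa [wSlot, Nat.beq_eq] using h

theorem cover_spec {i : ℕ} (hi : i < 540) : ∃ c ∈ candsD,
    el (conjW (conjW (getWord dTrans (i / 180)) (getWord (prodWords (chain.drop 3)) (i % 180))) [4]) = el c := by
  have h := AutCert.scan_spec _ cover_ok.1 i hi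
  simp only [coverOne, Bool.and_eq_true, Nat.blt_eq] at h
  exact ⟨_, getWord_mem_lt h.1, eq_of h.2⟩

theorem cand_d (α : MulAut GG) {P : List (List ℕ)} (hP : P ∈ reps5) {g : GG}
    (hg : ∀ k < 6, qs α k = g * el (getWord P k) * g⁻¹) : ∃ c ∈ candsD, g⁻¹ * α (el [3]) * g = el c := by
  set x := g⁻¹ * α (el [3]) * g with hx
  have hshape := shapes.2.2.2.2.2
  simp only [shape, allB_iff, Bool.and_eq_true] at hshape
  have hP0 : getWord P 0 = [4] := prefixB_spec (hshape P hP).2.2 0 (by simp)
  have he : ee = g⁻¹ * α ee * g := by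
    have := hg 0 (by norm_num)
    rw [hP0] at this
    rw [show α ee = g * ee * g⁻¹ from this]
    group
  have hk : ∀ k < 6, ∀ l, getWord slotWords k = [l] → el (getWord P k) = g⁻¹ * α (el [l]) * g := by
    intro k hk l e
    have := hg k hk
    rw [qs, e] at this
    rw [this]
    group
  have tr : ∀ {a b : ℕ}, Commute (el [a]) (el [b]) → Commute (g⁻¹ * α (el [a]) * g) (g⁻¹ * α (el [b]) * g) := by
    intro a b h
    show _ * _ = _ * _
    calc g⁻¹ * α (el [a]) * g * (g⁻¹ * α (el [b]) * g) = g⁻¹ * α (el [a] * el [b]) * g := by rw [map_mul]; group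
      _ = g⁻¹ * α (el [b] * el [a]) * g := by rw [h.eq]
      _ = _ := by rw [map_mul]; group
  have he4 : el [4] = g⁻¹ * α (el [4]) * g := he
  have hcomm : ∀ y, wSlot y = true → Commute (ee * x) (el (getWord P y)) := by
    intro y hy
    have c3 : ∀ {l}, l ∈ [[0], [1], [5], [6]] → Commute (el [3]) (el l) := fun {l} hl =>
      (Subgroup.mem_centralizer_singleton_iff.mp (comm_of slot_comm.2.1 hl)).symm
    have c4 : ∀ {l}, l ∈ [[4], [0], [1], [2], [5], [6]] → Commute (el [4]) (el l) := fun {l} hl =>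
      (Subgroup.mem_centralizer_singleton_iff.mp (comm_of slot_comm.1 hl)).symm
    rcases wSlot_spec hy with rfl | rfl | rfl | rfl
    · rw [hk 1 (by norm_num) 0 rfl]
      refine Commute.mul_left ?_ (tr (c3 (by simp)))
      show Commute (el [4]) _
      rw [he4]; exact tr (c4 (by simp))
    · rw [hk 2 (by norm_num) 1 rfl]
      refine Commute.mul_left ?_ (tr (c3 (by simp)))
      show Commute (el [4]) _
      rw [he4]; exact tr (c4 (by simp))
    · rw [hk 4 (by norm_num) 5 rfl]
      refine Commute.mul_left ?_ (tr (c3 (by simp)))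
      show Commute (el [4]) _
      rw [he4]; exact tr (c4 (by simp))
    · rw [hk 5 (by norm_num) 6 rfl]
      refine Commute.mul_left ?_ (tr (c3 (by simp)))
      show Commute (el [4]) _
      rw [he4]; exact tr (c4 (by simp))
  obtain ⟨⟨use, t1, t2, hI⟩, hd⟩ := dAll_spec d_ok P hP
  simp only [dOne, Bool.and_eq_true, allB_iff, Nat.blt_eq, Nat.beq_eq] at hd
  obtain ⟨ho, huse, ht1, hl1, ht2, hl2, hI', hlh, hh0, hh1, hh2⟩ := hd
  obtain ⟨hlu, honly⟩ := onlyFix_spec ho
  set v := ee * x with hv
  have hcs : ∀ r : List ℕ, (∀ y ∈ r, wSlot y = true) → v * el (subW P r) = el (subW P r) * v := fun r hr =>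
    (commute_sub fun y hy => hcomm y (hr y hy)).eq
  have n0 : 0 < T.n := hBn 0 (by simp [baseL])
  have v0 : act v 0 = 0 := honly _ (act_lt v n0) fun r hr => by
    rw [← act_el (hlu r hr) (act_lt v n0), ← act_mul, ← hcs r (huse r hr).1, act_mul, act_el (hlu r hr) n0,
      (huse r hr).2]
  have vt : ∀ r, lettersOK 7 (subW P r) = true → (∀ y ∈ r, wSlot y = true) →
      act v (T.run (subW P r) 0) = T.run (subW P r) 0 := fun r hl hr => by
    rw [← act_el hl n0, ← act_mul, hcs r hr, act_mul, v0]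
  set h := getWord dTrans hI with hh
  have n1 : 1 < T.n := hBn 1 (by simp [baseL])
  have n2 : 2 < T.n := hBn 2 (by simp [baseL])
  have hv' : (el h)⁻¹ * v * el h ∈ fixer φ [0, 1, 2] := by
    have key : ∀ b q, b < T.n → T.run h b = q → act v q = q → act ((el h)⁻¹ * v * el h) b = b := by
      intro b q hb e1 e2
      rw [act_mul, act_el hlh hb, e1, act_mul, e2, ← e1, ← act_el hlh hb, act_inv_cancel]
    refine mem_fixer fun b hb _ => ?_
    simp only [List.mem_cons, List.not_mem_nil, or_false] at hb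
    rcases hb with rfl | rfl | rfl
    · exact key 0 0 n0 hh0 v0
    · exact key 1 _ n1 hh1 (vt t1 hl1 ht1)
    · exact key 2 _ n2 hh2 (vt t2 hl2 ht2)
  obtain ⟨s, hs, hse⟩ := tight3.decompose hv'
  obtain ⟨si, hsi, rfl⟩ := exists_getWord hs
  rw [cover_ok.2.2] at hsi
  rw [cover_ok.2.1] at hI'
  obtain ⟨c, hc, hce⟩ := cover_spec (i := hI * 180 + si) (by omega)
  rw [show (hI * 180 + si) / 180 = hI by omega, show (hI * 180 + si) % 180 = si by omega, ← hh, el_conj, el_conj,
    ← hse] at hce
  refine ⟨c, hc, ?_⟩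
  have hxx : x * x = 1 := by
    calc x * x = g⁻¹ * α (el [3] * el [3]) * g := by rw [map_mul, hx]; group
      _ = 1 := by rw [gen_sq', map_one, mul_one, inv_mul_cancel]
  have h3 : x * ee * x * ee * x * ee = 1 := by
    have e3 : el [3] * el [4] * el [3] * el [4] * el [3] * el [4] = 1 := by
      have := one_of slot_comm.2.2.1
      simp only [el, wprod, one_mul] at this ⊢
      have h' : gen 4 * gen 3 * gen 4 * gen 3 * gen 4 * gen 3 = 1 := this
      calc gen 3 * gen 4 * gen 3 * gen 4 * gen 3 * gen 4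
          = gen 3 * (gen 4 * gen 3 * gen 4 * gen 3 * gen 4 * gen 3) * (gen 3)⁻¹ := by group
        _ = 1 := by rw [h', mul_one, mul_inv_cancel]
    calc x * ee * x * ee * x * ee
        = g⁻¹ * α (el [3] * el [4] * el [3] * el [4] * el [3] * el [4]) * g := by
          simp only [map_mul]; rw [hx]; nth_rewrite 1 2 3 [he]; group
      _ = 1 := by rw [e3, map_one, mul_one, inv_mul_cancel]
  have h2 : ee * ee = 1 := gen_sq' 4
  have hxe : v * ee * v⁻¹ = x := by
    have h4 : x * ee * x = ee * x * ee := by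
      have : x * ee * x * (ee * x * ee) = 1 := by rw [← h3]; group
      rw [eq_inv_of_mul_eq_one_left this]
      simp only [mul_inv_rev, inv_eq_of_mul_eq_one_right hxx, inv_eq_of_mul_eq_one_right h2, mul_assoc]
    calc v * ee * v⁻¹ = x * ee * x * (ee * x)⁻¹ := by rw [hv, h4]
      _ = x := by
        rw [mul_inv_rev, inv_eq_of_mul_eq_one_right hxx, inv_eq_of_mul_eq_one_right h2]
        calc x * ee * x * (x * ee) = x * ee * (x * x) * ee := by group
          _ = x := by rw [hxx, mul_one, mul_assoc, h2, mul_one]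
  rw [← hce, ← hxe]
  group

theorem shape_spec {R : List (List (List ℕ))} {m : ℕ} (h : shape R m = true) {P : List (List ℕ)} (hP : P ∈ R) :
    P.length = m ∧ allB (lettersOK 7) P = true ∧ getWord P 0 = [4] := by
  simp only [shape, allB_iff, Bool.and_eq_true, Nat.beq_eq] at h
  obtain ⟨h1, h2, h3⟩ := h P hP
  exact ⟨h1, allB_iff.mpr h2, prefixB_spec h3 0 (by simp)⟩

/-- The configuration of an automorphism. -/
def Reached (α : MulAut GG) (R : List (List (List ℕ))) (m : ℕ) : Prop :=
  ∃ P ∈ R, P.length = m ∧ ∃ g : GG, ∀ k < m, qs α k = g * el (getWord P k) * g⁻¹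

theorem advance (α : MulAut GG) {L : AutCert.Level} {R : List (List (List ℕ))} {m : ℕ}
    (hs : scanReps T baseL L R 0 = true) (hsh : shape R m = true) (hr : relsTrue L m = true)
    (hC : allB (lettersOK 7) L.cands = true) (h : Reached α R m)
    (hc : ∀ P ∈ R, ∀ g : GG, (∀ k < m, qs α k = g * el (getWord P k) * g⁻¹) →
      ∃ c ∈ L.cands, g⁻¹ * qs α m * g = el c) :
    Reached α L.next (m + 1) := by
  obtain ⟨P, hP, hlen, g, hg⟩ := h
  obtain ⟨r1, r2, r3⟩ := q_rels α hr
  obtain ⟨Q, hQ, g', hQl, hQe⟩ := step Suz.checked gen φ hφ hsq hBn hB hs hP (qs α) g (by rw [hlen]; exact hg) r1 r2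
    (by rw [hlen]; exact r3) (by rw [K_eq]; exact (shape_spec hsh hP).2.1) (by rw [K_eq]; exact hC)
    (by rw [hlen]; exact hc P hP g hg)
  rw [hlen] at hQl
  exact ⟨Q, hQ, hQl, g', fun k hk => hQe k (by omega)⟩

theorem configurations (α : MulAut GG) : Reached α reps6 7 := by
  obtain ⟨k, hk⟩ := image_E α
  have h0 : Reached α [[[4]]] 1 := ⟨[[4]], List.mem_singleton_self _, rfl, k, fun i hi => by
    obtain rfl : i = 0 := by omega
    exact hk⟩
  have key : ∀ {R : List (List (List ℕ))} {m : ℕ}, shape R m = true → 1 ≤ m →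
      ∀ P ∈ R, ∀ g : GG, (∀ k < m, qs α k = g * el (getWord P k) * g⁻¹) → α ee = g * ee * g⁻¹ := by
    intro R m hsh hm P hP g hg
    have := hg 0 hm
    rw [(shape_spec hsh hP).2.2] at this
    exact this
  have h1 := advance α step_one shapes.1 rels_true.1 cands_letters.1 h0 fun P hP g hg =>
    cand_E α (l := 0) (by simp) (key shapes.1 le_rfl P hP g hg)
  have h2 := advance α step_two shapes.2.1 rels_true.2.1 cands_letters.1 h1 fun P hP g hg =>
    cand_E α (l := 1) (by simp) (key shapes.2.1 (by norm_num) P hP g hg)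
  have h3 := advance α step_three shapes.2.2.1 rels_true.2.2.1 cands_letters.1 h2 fun P hP g hg =>
    cand_E α (l := 2) (by simp) (key shapes.2.2.1 (by norm_num) P hP g hg)
  have h4 := advance α step_four shapes.2.2.2.1 rels_true.2.2.2.1 cands_letters.1 h3 fun P hP g hg =>
    cand_E α (l := 5) (by simp) (key shapes.2.2.2.1 (by norm_num) P hP g hg)
  have h5 := advance α step_five shapes.2.2.2.2.1 rels_true.2.2.2.2.1 cands_letters.1 h4 fun P hP g hg =>
    cand_E α (l := 6) (by simp) (key shapes.2.2.2.2.1 (by norm_num) P hP g hg)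
  exact advance α step_six shapes.2.2.2.2.2 rels_true.2.2.2.2.2 cands_letters.2 h5 fun P hP g hg =>
    cand_d α hP hg

theorem slot_onto {l : ℕ} (hl : l < 7) : ∃ i < 7, nthNat [4, 0, 1, 2, 5, 6, 3] i = l ∧ getWord slotWords i = [l] := by
  interval_cases l
  · exact ⟨1, by norm_num, rfl, rfl⟩
  · exact ⟨2, by norm_num, rfl, rfl⟩
  · exact ⟨3, by norm_num, rfl, rfl⟩
  · exact ⟨6, by norm_num, rfl, rfl⟩
  · exact ⟨0, by norm_num, rfl, rfl⟩
  · exact ⟨4, by norm_num, rfl, rfl⟩
  · exact ⟨5, by norm_num, rfl, rfl⟩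

theorem other_sq (x : Cfsg.Spor.Suz.Gen) :
    el (getWord otherWords (Suz.data.idx x)) * el (getWord otherWords (Suz.data.idx x)) = 1 := by
  have hlen : Suz.data.idx x < otherWords.length := (Suz.data.lt x).trans_le (by rw [K_eq]; rfl)
  have h := allB_iff.mp other_ok.2.1 _ (getWord_mem_lt hlen)
  simp only [Bool.and_eq_true] at h
  have := one_of h.2
  rwa [el_app] at this

/-- The endomorphism given by the second configuration. -/
def psiHom : GG →* GG :=
  PresentedGroup.toGroup (f := fun x => el (getWord otherWords (Suz.data.idx x))) fun r hr => by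
    obtain ⟨w, hw, e⟩ := (Suz.data.relator (fun x => el (getWord otherWords (Suz.data.idx x)))
      (fun y => el (getWord otherWords y)) other_sq (fun x => rfl)).1 r hr
    rw [e, ← el_subW gen]
    exact one_of (allB_iff.mp other_ok.1 w hw)

theorem psiHom_gen {l : ℕ} (hl : l < 7) : psiHom (el [l]) = el (getWord otherWords l) := by
  have hK : l < T.C.K := K_eq.symm ▸ hl
  rw [el_single, gen, CoxData.gen, if_pos hK, psiHom, PresentedGroup.toGroup.of, Suz.data.right l hK]

theorem psiHom_bijective : Function.Bijective psiHom := by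
  haveI := Suz.simple_and_card.1
  refine Finite.injective_iff_bijective.mp ?_
  rcases IsSimpleGroup.eq_bot_or_eq_top_of_normal psiHom.ker inferInstance with h | h
  · exact (MonoidHom.ker_eq_bot_iff _).mp h
  · exfalso
    have h1 : psiHom ea = 1 := MonoidHom.mem_ker.mp (h ▸ Subgroup.mem_top _)
    rw [psiHom_gen (by norm_num), other_ok.2.2.1] at h1
    exact gen_ne (l := 0) (by simp) h1

/-- The outer automorphism. -/
def psi : MulAut GG := MulEquiv.ofBijective psiHom psiHom_bijective

theorem psi_gen {l : ℕ} (hl : l < 7) : psi (el [l]) = el (getWord otherWords l) := psiHom_gen hl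

theorem aut_ext {α β : MulAut GG} (h : ∀ l < 7, α (el [l]) = β (el [l])) : α = β := by
  have h' : α.toMonoidHom = β.toMonoidHom :=
    MonoidHom.eq_of_eqOn_dense Suz.data.gen_top (by
      rintro _ ⟨l, hl, rfl⟩
      show α (gen l) = β (gen l)
      rw [← el_single]
      exact h l (K_eq ▸ hl))
  exact MulEquiv.ext fun x => DFunLike.congr_fun h' x

theorem getWord_map (f : ℕ → List ℕ) : ∀ (l : List ℕ) (i : ℕ), i < l.length → getWord (l.map f) i = f (nthNat l i)
  | [], i, hi => absurd hi (by simp)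
  | a :: l, 0, _ => rfl
  | a :: l, i + 1, hi => getWord_map f l i (by simpa using hi)

theorem all_auts (α : MulAut GG) : ∃ g : GG, α = MulAut.conj g ∨ α = MulAut.conj g * psi := by
  obtain ⟨P, hP, -, g, hg⟩ := configurations α
  refine ⟨g, ?_⟩
  have h := List.all_eq_true.mp finals_ok P hP
  simp only [Bool.or_eq_true, decide_eq_true_eq] at h
  rcases h with rfl | rfl
  · refine Or.inl (aut_ext fun l hl => ?_)
    obtain ⟨i, hi, -, hw⟩ := slot_onto hl
    have := hg i hi
    simp only [qs, hw] at this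
    rw [this, MulAut.conj_apply]
  · refine Or.inr (aut_ext fun l hl => ?_)
    obtain ⟨i, hi, hn, hw⟩ := slot_onto hl
    have := hg i hi
    rw [getWord_map _ _ i (by simpa using hi), hn] at this
    simp only [qs, hw] at this
    rw [this, MulAut.mul_apply, psi_gen hl, MulAut.conj_apply]

theorem psi_not_inner (g : GG) : MulAut.conj g ≠ psi := by
  intro h
  have P0mem : getRep reps5 0 ∈ reps5 := getRep_mem (by decide +kernel)
  have P3mem : getRep reps5 3 ∈ reps5 := getRep_mem (by decide +kernel)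
  have key : ∀ k < 6, g * el (getWord (getRep reps5 0) k) * g⁻¹ = el (getWord (getRep reps5 3) k) := by
    intro k hk
    rw [other_ok.2.2.2.1, other_ok.2.2.2.2, getWord_map _ _ k (by simpa using hk)]
    have hl : ∀ l < 7, g * el [l] * g⁻¹ = el (getWord otherWords l) := fun l hl => by
      rw [← MulAut.conj_apply, h, psi_gen hl]
    interval_cases k <;> exact hl _ (by decide +kernel)
  have key' : ∀ r : List ℕ, (∀ y ∈ r, y < 6) →
      g * el (subW (getRep reps5 0) r) = el (subW (getRep reps5 3) r) * g := by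
    intro r hr
    induction r with
    | nil => show g * 1 = 1 * g; rw [mul_one, one_mul]
    | cons y r ih =>
      show g * el (getWord _ y ++ subW _ r) = el (getWord _ y ++ subW _ r) * g
      rw [el_app, el_app, ← mul_assoc, ih fun z hz => hr z (List.mem_cons_of_mem _ hz), mul_assoc, mul_assoc,
        ← key y (hr y List.mem_cons_self), inv_mul_cancel_right]
  obtain ⟨s1, s2, s3, s4, s5, s6, s7, s8, s9⟩ := swap_ok
  obtain ⟨hlu, honly⟩ := onlyFix_spec s1
  simp only [allB_iff, Bool.and_eq_true, Nat.beq_eq] at s2 s3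
  have n0 : 0 < T.n := hBn 0 (by simp [baseL])
  have g0 : act g 0 = 995 := honly _ (act_lt g n0) fun r hr => by
    rw [← act_el (hlu r hr) (act_lt g n0), ← act_mul, ← key' r (fun y hy => by
      simp only [List.mem_cons, List.not_mem_nil, or_false] at hr
      rcases hr with rfl | rfl | rfl <;> simp only [List.mem_singleton] at hy <;> omega), act_mul,
      act_el (s2 r hr).2 n0, (s2 r hr).1]
  have gim : ∀ r b, r ∈ [[5], [5, 2]] → T.run (subW (getRep reps5 0) r) 0 = b →
      act g b = T.run (subW (getRep reps5 3) r) 995 := by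
    intro r b hr e
    have hy : ∀ y ∈ r, y < 6 := fun y hy => by
      simp only [List.mem_cons, List.not_mem_nil, or_false] at hr
      rcases hr with rfl | rfl <;> simp only [List.mem_cons, List.not_mem_nil, or_false] at hy <;> omega
    rw [← e, ← act_el (s3 r hr).1 n0, ← act_mul, key' r hy, act_mul, g0,
      act_el (s3 r hr).2 (by rw [← g0]; exact act_lt g n0)]
  have n1 : 1 < T.n := hBn 1 (by simp [baseL])
  have n2 : 2 < T.n := hBn 2 (by simp [baseL])
  have hv : (el swapWord)⁻¹ * g ∈ fixer φ [0, 1, 2] := by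
    have k' : ∀ b, b < T.n → act g b = T.run swapWord b → act ((el swapWord)⁻¹ * g) b = b := fun b hb e => by
      rw [act_mul, e, ← act_el s8 hb, act_inv_cancel]
    refine mem_fixer fun b hb _ => ?_
    simp only [List.mem_cons, List.not_mem_nil, or_false] at hb
    rcases hb with rfl | rfl | rfl
    · exact k' 0 n0 (g0.trans s9.symm)
    · exact k' 1 n1 ((gim [5] 1 (by simp) s4).trans s6)
    · exact k' 2 n2 ((gim [5, 2] 2 (by simp) s5).trans s7)
  obtain ⟨s, hs, hse⟩ := tight3.decompose hv
  have hge : g = el (s ++ swapWord) := by rw [el_app, ← hse, mul_inv_cancel_left]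
  have ha := allB_iff.mp apart_ok s hs
  simp only [apart, Bool.and_eq_true, Bool.not_eq_true'] at ha
  obtain ⟨hl, ha⟩ := ha
  rw [Bool.eq_false_iff] at ha
  refine ha (allB_iff.mpr fun i hi => ?_)
  have hi6 : i < 6 := by simp only [List.mem_cons, List.not_mem_nil, or_false] at hi; omega
  have hlet : ∀ {P}, P ∈ reps5 → lettersOK 7 (getWord P i) = true := fun {P} hP => by
    obtain ⟨a, b, -⟩ := shape_spec shapes.2.2.2.2.2 hP
    exact allB_iff.mp b _ (getWord_mem_lt (a ▸ hi6))
  refine eqW_of_eq (letters_conj hl (hlet P0mem)) (hlet P3mem) ?_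
  rw [el_conj, ← hge]
  exact key i hi6

theorem card_out : Nat.card (Cfsg.Out GG) = 2 := by
  rw [Nat.card_eq_two_iff' (QuotientGroup.mk (1 : MulAut GG) : Cfsg.Out GG)]
  refine ⟨QuotientGroup.mk psi, ?_, ?_⟩
  · intro h
    rw [QuotientGroup.eq, mul_one, inv_mem_iff] at h
    obtain ⟨g, hg⟩ := h
    exact psi_not_inner g hg
  · intro y
    refine QuotientGroup.induction_on y fun α hne => ?_
    obtain ⟨g, hg | hg⟩ := all_auts α
    · refine absurd ?_ hne
      rw [QuotientGroup.eq, mul_one, inv_mem_iff, hg]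
      exact ⟨g, rfl⟩
    · rw [hg, QuotientGroup.eq, mul_inv_rev, mul_assoc]
      refine ⟨psi⁻¹ g⁻¹, MulEquiv.ext fun x => ?_⟩
      simp [MulAut.conj_apply, MulAut.mul_apply]

end Cfsg.Agent.InvChar.Coset.SuzOut
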