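import Cfsg.Agent.InvChar.Coset.AutChain

/-!
# Tables for the automorphisms of the presented Suzuki group
-/

set_option autoImplicit false
set_option linter.all false
set_option maxRecDepth 100000

noncomputable section

namespace Cfsg.Agent.InvChar.Coset.SuzOut

open Cfsg.Agent.CosetCert AutCert

def chain0_0 : List (List ℕ) :=
  [[], [0x7], [0x27], [0x127], [0x327], [0x627], [0x2127], [0x3127], [0x4327], [0x6327], [0x32127], [0x23127], [0x43127], [0x34327], [0x54327], [0x64327], [0x26327], [0x232127], [0x432127], [0x123127], [0x423127], [0x623127], [0x723127], [0x343127], [0x543127], [0x234327], [0x534327], [0x634327], [0x654327], [0x264327], [0x726327], [0x4232127], [0x6232127], [0x3432127], [0x5432127], [0x4123127], [0x6123127], [0x3423127], [0x5423127], [0x6423127], [0x7423127], [0x6723127], [0x2343127], [0x5343127], [0x1234327], [0x5234327], [0x6234327], [0x7234327],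 [0x4534327], [0x6534327], [0x2634327], [0x2654327], [0x3264327], [0x34232127], [0x54232127], [0x64232127], [0x23432127], [0x53432127], [0x54123127], [0x64123127], [0x23423127], [0x43423127], [0x53423127], [0x63423127], [0x73423127], [0x65423127], [0x75423127], [0x67423127], [0x26723127], [0x12343127], [0x52343127], [0x62343127], [0x72343127], [0x45343127], [0x51234327], [0x61234327], [0x71234327], [0x45234327], [0x65234327], [0x75234327], [0x26234327], [0x76234327], [0x67234327], [0x34534327], [0x64534327], [0x26534327], [0x32654327], [0x234232127], [0x534232127], [0x634232127], [0x654232127], [0x523432127], [0x623432127], [0x453432127], [0x654123127], [0x123423127], [0x423423127], [0x523423127], [0x623423127], [0x723423127], [0x343423127], [0x543423127], [0x643423127], [0x453423127], [0x653423127], [0x753423127], [0x263423127], [0x673423127], [0x675423127], [0x267423127],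 [0x512343127], [0x612343127], [0x712343127], [0x452343127], [0x652343127], [0x752343127], [0x762343127], [0x672343127], [0x345343127], [0x451234327], [0x651234327], [0x751234327], [0x261234327], [0x345234327], [0x645234327], [0x745234327], [0x265234327], [0x765234327], [0x675234327], [0x276234327], [0x267234327], [0x234534327], [0x634534327], [0x264534327], [0x5234232127], [0x6234232127], [0x4534232127], [0x6534232127], [0x2634232127], [0x4523432127], [0x6523432127], [0x7623432127], [0x3453432127], [0x2123423127], [0x5123423127], [0x6123423127], [0x7123423127], [0x5423423127], [0x6423423127], [0x7423423127]]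

def chain0_1 : List (List ℕ) :=
  [[0x4523423127], [0x6523423127], [0x7523423127], [0x2623423127], [0x7623423127], [0x6723423127], [0x5343423127], [0x4543423127], [0x6543423127], [0x2643423127], [0x3453423127], [0x6453423127], [0x7453423127], [0x2653423127], [0x6753423127], [0x1263423127], [0x7263423127], [0x2673423127], [0x2675423127], [0x3267423127], [0x4512343127], [0x6512343127], [0x7512343127], [0x2612343127], [0x3452343127], [0x6452343127], [0x7452343127], [0x7652343127], [0x6752343127], [0x2762343127], [0x2672343127], [0x2345343127], [0x3451234327], [0x6451234327], [0x7451234327], [0x2651234327], [0x1261234327], [0x3261234327], [0x7261234327], [0x2345234327], [0x4345234327], [0x6345234327], [0x7345234327], [0x2645234327], [0x7645234327], [0x6745234327], [0x2765234327], [0x2675234327], [0x1276234327], [0x3276234327], [0x6276234327], [0x3267234327], [0x7267234327],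 [0x1234534327], [0x6234534327], [0x7234534327], [0x2634534327], [0x3264534327], [0x45234232127], [0x65234232127], [0x26234232127], [0x34534232127], [0x64534232127], [0x26534232127], [0x12634232127], [0x72634232127], [0x34523432127], [0x64523432127], [0x76523432127], [0x27623432127], [0x23453432127], [0x52123423127], [0x62123423127], [0x72123423127], [0x45123423127], [0x65123423127], [0x75123423127], [0x26123423127], [0x27123423127], [0x45423423127], [0x65423423127], [0x75423423127], [0x26423423127], [0x76423423127], [0x67423423127], [0x34523423127], [0x64523423127], [0x74523423127], [0x26523423127], [0x76523423127], [0x67523423127], [0x12623423127], [0x45343423127], [0x34543423127], [0x64543423127], [0x26543423127], [0x32643423127], [0x23453423127], [0x63453423127], [0x73453423127], [0x26453423127], [0x67453423127], [0x12653423127], [0x72653423127], [0x26753423127],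 [0x21263423127], [0x67263423127], [0x12673423127], [0x32673423127], [0x32675423127], [0x43267423127], [0x34512343127], [0x64512343127], [0x74512343127], [0x26512343127], [0x12612343127], [0x32612343127], [0x72612343127], [0x23452343127], [0x43452343127], [0x63452343127], [0x73452343127], [0x76452343127], [0x67452343127], [0x27652343127], [0x26752343127], [0x12762343127], [0x32762343127], [0x32672343127], [0x72672343127], [0x12345343127], [0x62345343127], [0x72345343127], [0x23451234327], [0x43451234327], [0x63451234327], [0x73451234327], [0x26451234327], [0x12651234327], [0x32651234327], [0x72651234327], [0x21261234327], [0x31261234327], [0x43261234327], [0x73261234327], [0x12345234327], [0x42345234327], [0x62345234327], [0x72345234327], [0x54345234327]]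

def chain0_2 : List (List ℕ) :=
  [[0x64345234327], [0x74345234327], [0x26345234327], [0x76345234327], [0x27345234327], [0x67345234327], [0x32645234327], [0x27645234327], [0x26745234327], [0x12765234327], [0x32765234327], [0x62765234327], [0x32675234327], [0x72675234327], [0x31276234327], [0x43276234327], [0x63276234327], [0x43267234327], [0x73267234327], [0x21234534327], [0x61234534327], [0x71234534327], [0x26234534327], [0x76234534327], [0x67234534327], [0x12634534327], [0x32634534327], [0x72634534327], [0x345234232127], [0x645234232127], [0x265234232127], [0x234534232127], [0x634534232127], [0x264534232127], [0x126534232127], [0x726534232127], [0x234523432127], [0x434523432127], [0x634523432127], [0x764523432127], [0x276523432127], [0x123453432127], [0x623453432127], [0x723453432127], [0x452123423127], [0x652123423127], [0x752123423127], [0x272123423127], [0x345123423127],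 [0x645123423127], [0x745123423127], [0x265123423127], [0x275123423127], [0x345423423127], [0x645423423127], [0x745423423127], [0x265423423127], [0x765423423127], [0x675423423127], [0x234523423127], [0x434523423127], [0x634523423127], [0x734523423127], [0x264523423127], [0x764523423127], [0x674523423127], [0x126523423127], [0x345343423127], [0x234543423127], [0x434543423127], [0x634543423127], [0x264543423127], [0x326543423127], [0x123453423127], [0x623453423127], [0x723453423127], [0x263453423127], [0x273453423127], [0x673453423127], [0x126453423127], [0x326453423127], [0x726453423127], [0x267453423127], [0x212653423127], [0x672653423127], [0x126753423127], [0x326753423127], [0x312673423127], [0x432673423127], [0x234512343127], [0x434512343127], [0x634512343127], [0x734512343127], [0x264512343127], [0x126512343127], [0x326512343127], [0x726512343127], [0x123452343127],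 [0x423452343127], [0x623452343127], [0x723452343127], [0x343452343127], [0x543452343127], [0x643452343127], [0x743452343127], [0x263452343127], [0x763452343127], [0x273452343127], [0x673452343127], [0x276452343127], [0x267452343127], [0x127652343127], [0x327652343127], [0x326752343127], [0x726752343127], [0x432672343127], [0x732672343127], [0x212345343127], [0x612345343127], [0x712345343127], [0x762345343127], [0x672345343127], [0x123451234327], [0x423451234327], [0x623451234327], [0x723451234327], [0x543451234327], [0x643451234327], [0x743451234327], [0x263451234327], [0x273451234327], [0x126451234327], [0x326451234327], [0x726451234327], [0x212651234327], [0x312651234327], [0x732651234327], [0x431261234327], [0x743261234327], [0x273261234327], [0x212345234327], [0x412345234327], [0x612345234327], [0x712345234327], [0x342345234327], [0x542345234327], [0x642345234327],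 [0x742345234327], [0x262345234327], [0x762345234327]]

def chain0_3 : List (List ℕ) :=
  [[0x272345234327], [0x672345234327], [0x654345234327], [0x754345234327], [0x264345234327], [0x764345234327], [0x274345234327], [0x674345234327], [0x126345234327], [0x326345234327], [0x726345234327], [0x276345234327], [0x127645234327], [0x327645234327], [0x627645234327], [0x326745234327], [0x726745234327], [0x312765234327], [0x632765234327], [0x732675234327], [0x431276234327], [0x643276234327], [0x343267234327], [0x743267234327], [0x273267234327], [0x321234534327], [0x621234534327], [0x261234534327], [0x271234534327], [0x126234534327], [0x326234534327], [0x276234534327], [0x212634534327], [0x312634534327], [0x732634534327], [0x672634534327], [0x2345234232127], [0x4345234232127], [0x6345234232127], [0x2645234232127], [0x1234534232127], [0x6234534232127], [0x7234534232127], [0x2634534232127],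 [0x1264534232127], [0x3264534232127], [0x7264534232127], [0x1234523432127], [0x4234523432127], [0x6234523432127], [0x7234523432127], [0x3434523432127], [0x6434523432127], [0x2634523432127], [0x7634523432127], [0x2764523432127], [0x2123453432127], [0x6123453432127], [0x7623453432127], [0x6723453432127], [0x3452123423127], [0x6452123423127], [0x7452123423127], [0x2752123423127], [0x2345123423127], [0x6345123423127], [0x7345123423127], [0x2645123423127], [0x2745123423127], [0x2345423423127], [0x4345423423127], [0x6345423423127], [0x7345423423127], [0x2645423423127], [0x7645423423127], [0x6745423423127], [0x1234523423127], [0x4234523423127], [0x6234523423127], [0x7234523423127], [0x5434523423127], [0x6434523423127], [0x7434523423127], [0x2634523423127], [0x7634523423127], [0x2734523423127], [0x6734523423127], [0x1264523423127], [0x3264523423127], [0x2345343423127], [0x1234543423127],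 [0x4234543423127], [0x6234543423127], [0x7234543423127], [0x6434543423127], [0x2634543423127], [0x3264543423127], [0x4326543423127], [0x2123453423127], [0x6123453423127], [0x7123453423127], [0x2623453423127], [0x7623453423127], [0x2723453423127], [0x6723453423127], [0x1263453423127], [0x3263453423127], [0x7263453423127], [0x1273453423127], [0x6273453423127], [0x2673453423127], [0x2126453423127], [0x3126453423127], [0x4326453423127], [0x7326453423127], [0x6726453423127], [0x1267453423127], [0x3267453423127], [0x3126753423127], [0x4312673423127], [0x1234512343127], [0x4234512343127], [0x6234512343127], [0x7234512343127], [0x5434512343127], [0x6434512343127], [0x7434512343127], [0x2634512343127], [0x2734512343127], [0x1264512343127], [0x3264512343127], [0x7264512343127], [0x4326512343127], [0x2123452343127], [0x4123452343127], [0x6123452343127], [0x7123452343127], [0x3423452343127],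 [0x5423452343127], [0x6423452343127], [0x7423452343127], [0x2623452343127], [0x7623452343127], [0x2723452343127], [0x6723452343127], [0x2343452343127], [0x5343452343127], [0x6343452343127], [0x7343452343127], [0x6543452343127]]

def chain0_4 : List (List ℕ) :=
  [[0x7543452343127], [0x2643452343127], [0x7643452343127], [0x2743452343127], [0x6743452343127], [0x1263452343127], [0x7263452343127], [0x2763452343127], [0x1276452343127], [0x3276452343127], [0x6276452343127], [0x3267452343127], [0x7267452343127], [0x7326752343127], [0x3432672343127], [0x7432672343127], [0x3212345343127], [0x2612345343127], [0x2712345343127], [0x2762345343127], [0x2123451234327], [0x4123451234327], [0x6123451234327], [0x7123451234327], [0x3423451234327], [0x5423451234327], [0x6423451234327], [0x2623451234327], [0x7623451234327], [0x2723451234327], [0x6723451234327], [0x6543451234327], [0x7543451234327],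 [0x2643451234327], [0x2743451234327], [0x1263451234327], [0x3263451234327], [0x7263451234327], [0x1273451234327], [0x6273451234327], [0x2126451234327], [0x3126451234327], [0x7326451234327], [0x2732651234327], [0x2743261234327], [0x1212345234327], [0x3212345234327], [0x4212345234327], [0x6212345234327], [0x7212345234327], [0x3412345234327], [0x5412345234327], [0x6412345234327], [0x7412345234327], [0x2712345234327], [0x5342345234327], [0x6342345234327], [0x6542345234327], [0x7542345234327], [0x2642345234327], [0x7642345234327], [0x2742345234327], [0x6742345234327], [0x1262345234327], [0x3262345234327], [0x7262345234327], [0x2762345234327], [0x2654345234327], [0x7654345234327], [0x2754345234327], [0x6754345234327], [0x1264345234327], [0x3264345234327], [0x7264345234327], [0x2764345234327], [0x2126345234327], [0x3126345234327], [0x7126345234327], [0x7326345234327], [0x2726345234327],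 [0x6726345234327], [0x1276345234327], [0x3276345234327], [0x6276345234327], [0x3127645234327], [0x6327645234327], [0x7326745234327], [0x2732675234327], [0x2343267234327], [0x7343267234327], [0x2743267234327], [0x6321234534327], [0x2621234534327], [0x1261234534327], [0x3261234534327], [0x7261234534327], [0x1271234534327], [0x3271234534327], [0x6271234534327], [0x2126234534327], [0x3126234534327], [0x1276234534327], [0x3276234534327], [0x6276234534327], [0x1212634534327], [0x3212634534327], [0x6212634534327], [0x2312634534327], [0x6732634534327], [0x2672634534327], [0x42345234232127], [0x62345234232127], [0x64345234232127], [0x26345234232127], [0x32645234232127], [0x61234534232127], [0x26234534232127], [0x67234534232127], [0x12634534232127], [0x32634534232127], [0x72634534232127], [0x31264534232127], [0x43264534232127], [0x73264534232127], [0x21234523432127], [0x41234523432127],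 [0x61234523432127], [0x34234523432127], [0x64234523432127], [0x74234523432127], [0x26234523432127], [0x76234523432127], [0x67234523432127], [0x23434523432127], [0x63434523432127], [0x26434523432127], [0x12634523432127], [0x72634523432127], [0x27634523432127], [0x32764523432127], [0x12123453432127], [0x32123453432127], [0x62123453432127], [0x26123453432127], [0x27623453432127], [0x26723453432127], [0x23452123423127], [0x43452123423127], [0x63452123423127], [0x73452123423127]]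

def chain0_5 : List (List ℕ) :=
  [[0x27452123423127], [0x12345123423127], [0x62345123423127], [0x26345123423127], [0x32645123423127], [0x12345423423127], [0x42345423423127], [0x62345423423127], [0x72345423423127], [0x54345423423127], [0x64345423423127], [0x74345423423127], [0x26345423423127], [0x76345423423127], [0x27345423423127], [0x67345423423127], [0x32645423423127], [0x21234523423127], [0x61234523423127], [0x71234523423127], [0x64234523423127], [0x26234523423127], [0x67234523423127], [0x65434523423127], [0x26434523423127], [0x76434523423127], [0x67434523423127], [0x12634523423127], [0x32634523423127], [0x72634523423127], [0x27634523423127], [0x62734523423127], [0x26734523423127], [0x31264523423127], [0x43264523423127], [0x12345343423127], [0x62345343423127], [0x72345343423127], [0x21234543423127], [0x41234543423127], [0x61234543423127], [0x71234543423127],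 [0x34234543423127], [0x64234543423127], [0x74234543423127], [0x26234543423127], [0x76234543423127], [0x67234543423127], [0x26434543423127], [0x12634543423127], [0x32634543423127], [0x72634543423127], [0x43264543423127], [0x34326543423127], [0x12123453423127], [0x32123453423127], [0x62123453423127], [0x26123453423127], [0x12623453423127], [0x32623453423127], [0x72623453423127], [0x62723453423127], [0x26723453423127], [0x21263453423127], [0x31263453423127], [0x71263453423127], [0x43263453423127], [0x73263453423127], [0x67263453423127], [0x61273453423127], [0x26273453423127], [0x76273453423127], [0x12673453423127], [0x32673453423127], [0x72673453423127], [0x32126453423127], [0x23126453423127], [0x43126453423127], [0x34326453423127], [0x54326453423127], [0x74326453423127], [0x27326453423127], [0x67326453423127], [0x31267453423127], [0x21234512343127], [0x41234512343127],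 [0x61234512343127], [0x71234512343127], [0x34234512343127], [0x54234512343127], [0x64234512343127], [0x74234512343127], [0x26234512343127], [0x76234512343127], [0x27234512343127], [0x67234512343127], [0x65434512343127], [0x75434512343127], [0x26434512343127], [0x27434512343127], [0x12634512343127], [0x32634512343127], [0x72634512343127], [0x12734512343127], [0x62734512343127], [0x31264512343127], [0x43264512343127], [0x73264512343127], [0x34326512343127], [0x12123452343127], [0x32123452343127], [0x62123452343127], [0x54123452343127], [0x64123452343127], [0x23423452343127], [0x53423452343127], [0x63423452343127], [0x65423452343127], [0x75423452343127], [0x26423452343127], [0x27423452343127], [0x67423452343127], [0x12623452343127], [0x72623452343127], [0x27623452343127], [0x12343452343127], [0x52343452343127], [0x62343452343127], [0x45343452343127], [0x65343452343127],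 [0x75343452343127], [0x26343452343127], [0x26543452343127], [0x76543452343127], [0x27543452343127], [0x67543452343127], [0x12643452343127], [0x32643452343127], [0x72643452343127], [0x27643452343127], [0x21263452343127], [0x71263452343127], [0x27263452343127], [0x67263452343127], [0x12763452343127], [0x32763452343127], [0x62763452343127], [0x31276452343127], [0x43276452343127], [0x63276452343127]]

def chain0_6 : List (List ℕ) :=
  [[0x73267452343127], [0x23432672343127], [0x12612345343127], [0x32612345343127], [0x72612345343127], [0x12712345343127], [0x62712345343127], [0x12762345343127], [0x32762345343127], [0x62762345343127], [0x12123451234327], [0x42123451234327], [0x34123451234327], [0x54123451234327], [0x64123451234327], [0x53423451234327], [0x63423451234327], [0x65423451234327], [0x26423451234327], [0x76423451234327], [0x12623451234327], [0x32623451234327],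 [0x72623451234327], [0x62723451234327], [0x26723451234327], [0x26543451234327], [0x27543451234327], [0x12643451234327], [0x32643451234327], [0x72643451234327], [0x12743451234327], [0x62743451234327], [0x21263451234327], [0x31263451234327], [0x71263451234327], [0x43263451234327], [0x73263451234327], [0x67263451234327], [0x61273451234327], [0x32126451234327], [0x27326451234327], [0x41212345234327], [0x61212345234327], [0x63212345234327], [0x34212345234327], [0x54212345234327], [0x64212345234327], [0x74212345234327], [0x67212345234327], [0x23412345234327], [0x53412345234327], [0x63412345234327], [0x65412345234327], [0x75412345234327], [0x27412345234327], [0x62712345234327], [0x65342345234327], [0x26342345234327], [0x76342345234327], [0x26542345234327], [0x76542345234327], [0x27542345234327], [0x67542345234327], [0x12642345234327], [0x32642345234327], [0x72642345234327],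 [0x27642345234327], [0x31262345234327], [0x73262345234327], [0x27262345234327], [0x12762345234327], [0x32762345234327], [0x62762345234327], [0x12654345234327], [0x32654345234327], [0x72654345234327], [0x27654345234327], [0x21264345234327], [0x31264345234327], [0x71264345234327], [0x27264345234327], [0x12764345234327], [0x32764345234327], [0x23126345234327], [0x73126345234327], [0x67326345234327], [0x12726345234327], [0x32726345234327], [0x62726345234327], [0x21276345234327], [0x31276345234327], [0x61276345234327], [0x43276345234327], [0x63276345234327], [0x26327645234327], [0x62343267234327], [0x26321234534327], [0x12621234534327], [0x32621234534327], [0x21261234534327], [0x31261234534327], [0x43261234534327], [0x21271234534327], [0x31271234534327], [0x61271234534327], [0x63271234534327], [0x76271234534327], [0x12126234534327], [0x32126234534327], [0x62126234534327],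 [0x72126234534327], [0x23126234534327], [0x31276234534327], [0x43276234534327], [0x63276234534327], [0x31212634534327], [0x23212634534327], [0x63212634534327], [0x12312634534327], [0x62312634534327], [0x72312634534327], [0x26732634534327], [0x12672634534327], [0x32672634534327], [0x72672634534327], [0x262345234232127], [0x264345234232127], [0x126345234232127], [0x326345234232127], [0x726345234232127], [0x432645234232127], [0x261234534232127], [0x126234534232127], [0x326234534232127], [0x726234534232127], [0x267234534232127], [0x212634534232127], [0x312634534232127], [0x712634534232127], [0x432634534232127], [0x732634534232127], [0x672634534232127], [0x543264534232127], [0x743264534232127], [0x273264534232127], [0x121234523432127], [0x621234523432127], [0x641234523432127], [0x261234523432127], [0x264234523432127]]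

def chain0_7 : List (List ℕ) :=
  [[0x764234523432127], [0x674234523432127], [0x126234523432127], [0x726234523432127], [0x276234523432127], [0x267234523432127], [0x623434523432127], [0x263434523432127], [0x126434523432127], [0x326434523432127], [0x726434523432127], [0x212634523432127], [0x712634523432127], [0x272634523432127], [0x672634523432127], [0x127634523432127], [0x327634523432127], [0x627634523432127], [0x432764523432127], [0x312123453432127], [0x612123453432127], [0x632123453432127], [0x262123453432127], [0x762123453432127], [0x326123453432127], [0x127623453432127], [0x327623453432127], [0x126723453432127], [0x326723453432127], [0x726723453432127], [0x123452123423127], [0x423452123423127], [0x623452123423127], [0x643452123423127], [0x743452123423127], [0x263452123423127], [0x612345123423127], [0x212345423423127], [0x412345423423127], [0x612345423423127],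 [0x712345423423127], [0x342345423423127], [0x642345423423127], [0x262345423423127], [0x672345423423127], [0x654345423423127], [0x264345423423127], [0x764345423423127], [0x674345423423127], [0x126345423423127], [0x326345423423127], [0x726345423423127], [0x276345423423127], [0x627345423423127], [0x267345423423127], [0x432645423423127], [0x621234523423127], [0x264234523423127], [0x126234523423127], [0x267234523423127], [0x265434523423127], [0x765434523423127], [0x126434523423127], [0x326434523423127], [0x726434523423127], [0x276434523423127], [0x267434523423127], [0x212634523423127], [0x312634523423127], [0x712634523423127], [0x272634523423127], [0x672634523423127], [0x127634523423127], [0x231264523423127], [0x431264523423127], [0x543264523423127], [0x612345343423127], [0x672345343423127], [0x621234543423127], [0x641234543423127], [0x261234543423127], [0x434234543423127],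 [0x264234543423127], [0x674234543423127], [0x126234543423127], [0x326234543423127], [0x726234543423127], [0x267234543423127], [0x126434543423127], [0x326434543423127], [0x726434543423127], [0x212634543423127], [0x312634543423127], [0x712634543423127], [0x432634543423127], [0x732634543423127], [0x672634543423127], [0x543264543423127], [0x434326543423127], [0x612123453423127], [0x432123453423127], [0x632123453423127], [0x262123453423127], [0x126123453423127], [0x326123453423127], [0x726123453423127], [0x312623453423127], [0x262723453423127], [0x126723453423127], [0x326723453423127], [0x726723453423127], [0x121263453423127], [0x321263453423127], [0x721263453423127], [0x231263453423127], [0x431263453423127], [0x731263453423127], [0x271263453423127], [0x543263453423127], [0x743263453423127], [0x273263453423127], [0x673263453423127], [0x267263453423127], [0x261273453423127],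 [0x126273453423127], [0x326273453423127], [0x726273453423127], [0x276273453423127], [0x212673453423127], [0x312673453423127], [0x712673453423127], [0x432673453423127], [0x732673453423127], [0x232126453423127], [0x432126453423127], [0x123126453423127], [0x423126453423127], [0x623126453423127], [0x723126453423127], [0x543126453423127], [0x534326453423127], [0x754326453423127], [0x274326453423127], [0x674326453423127], [0x127326453423127], [0x627326453423127], [0x267326453423127], [0x341234512343127], [0x541234512343127], [0x641234512343127]]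

def chain0_8 : List (List ℕ) :=
  [[0x261234512343127], [0x634234512343127], [0x654234512343127], [0x264234512343127], [0x674234512343127], [0x126234512343127], [0x326234512343127], [0x726234512343127], [0x627234512343127], [0x267234512343127], [0x265434512343127], [0x126434512343127], [0x326434512343127], [0x726434512343127], [0x127434512343127], [0x627434512343127], [0x212634512343127], [0x312634512343127], [0x712634512343127], [0x432634512343127], [0x732634512343127], [0x672634512343127], [0x612734512343127], [0x231264512343127], [0x431264512343127], [0x743264512343127], [0x273264512343127], [0x234326512343127], [0x434326512343127], [0x654123452343127], [0x265423452343127], [0x275423452343127], [0x675423452343127], [0x126423452343127], [0x327623452343127], [0x452343452343127], [0x645343452343127], [0x745343452343127], [0x126543452343127], [0x326543452343127],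 [0x726543452343127], [0x276543452343127], [0x312643452343127], [0x712643452343127], [0x732643452343127], [0x272643452343127], [0x672643452343127], [0x127643452343127], [0x327643452343127], [0x627643452343127], [0x127263452343127], [0x327263452343127], [0x627263452343127], [0x212763452343127], [0x312763452343127], [0x612763452343127], [0x432763452343127], [0x632763452343127], [0x231276452343127], [0x431276452343127], [0x643276452343127], [0x263276452343127], [0x212612345343127], [0x312612345343127], [0x432612345343127], [0x212712345343127], [0x312762345343127], [0x632762345343127], [0x412123451234327], [0x342123451234327], [0x542123451234327], [0x534123451234327], [0x654123451234327], [0x653423451234327], [0x263423451234327], [0x265423451234327], [0x765423451234327], [0x126423451234327], [0x326723451234327], [0x126543451234327], [0x326543451234327], [0x726543451234327],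 [0x127543451234327], [0x627543451234327], [0x212643451234327], [0x121263451234327], [0x321263451234327], [0x721263451234327], [0x231263451234327], [0x731263451234327], [0x261273451234327], [0x432126451234327], [0x341212345234327], [0x541212345234327], [0x641212345234327], [0x234212345234327], [0x434212345234327], [0x634212345234327], [0x734212345234327], [0x654212345234327], [0x674212345234327], [0x523412345234327], [0x653412345234327], [0x627412345234327], [0x265342345234327], [0x765342345234327], [0x326342345234327], [0x276342345234327], [0x126542345234327], [0x326542345234327], [0x726542345234327], [0x276542345234327], [0x272642345234327], [0x127642345234327], [0x327642345234327], [0x627642345234327], [0x231262345234327], [0x327262345234327], [0x212762345234327], [0x312762345234327], [0x432762345234327], [0x632762345234327], [0x212654345234327], [0x312654345234327],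 [0x712654345234327], [0x432654345234327], [0x272654345234327], [0x127654345234327], [0x327654345234327], [0x321264345234327], [0x212764345234327], [0x312764345234327], [0x123126345234327], [0x723126345234327], [0x273126345234327], [0x312726345234327], [0x432726345234327], [0x632726345234327], [0x321276345234327], [0x231276345234327], [0x431276345234327], [0x631276345234327], [0x643276345234327], [0x263276345234327], [0x126327645234327], [0x212621234534327], [0x312621234534327], [0x321261234534327], [0x231261234534327], [0x431261234534327]]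

def chain0_9 : List (List ℕ) :=
  [[0x543261234534327], [0x631271234534327], [0x263271234534327], [0x763271234534327], [0x312126234534327], [0x612126234534327], [0x232126234534327], [0x432126234534327], [0x632126234534327], [0x732126234534327], [0x123126234534327], [0x623126234534327], [0x723126234534327], [0x263276234534327], [0x623212634534327], [0x263212634534327], [0x612312634534327], [0x762312634534327], [0x672312634534327], [0x312672634534327], [0x432672634534327], [0x732672634534327], [0x262345234232127, 0x1], [0x262345234232127, 0x3], [0x262345234232127, 0x7], [0x264345234232127, 0x1], [0x126345234232127, 0x2], [0x126345234232127, 0x3], [0x126345234232127, 0x7], [0x326345234232127, 0x4], [0x326345234232127, 0x7], [0x726345234232127, 0x6], [0x432645234232127, 0x5], [0x261234534232127, 0x1], [0x126234534232127, 0x2], [0x126234534232127, 0x3], [0x326234534232127,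 0x4], [0x267234534232127, 0x1], [0x212634534232127, 0x1], [0x212634534232127, 0x3], [0x212634534232127, 0x6], [0x212634534232127, 0x7], [0x432634534232127, 0x3], [0x432634534232127, 0x5], [0x732634534232127, 0x2], [0x543264534232127, 0x7], [0x743264534232127, 0x2], [0x273264534232127, 0x1], [0x121234523432127, 0x6], [0x621234523432127, 0x2], [0x621234523432127, 0x7], [0x261234523432127, 0x3], [0x261234523432127, 0x7], [0x264234523432127, 0x1], [0x264234523432127, 0x7], [0x126234523432127, 0x2], [0x726234523432127, 0x2], [0x623434523432127, 0x2], [0x263434523432127, 0x1], [0x126434523432127, 0x3], [0x126434523432127, 0x7], [0x212634523432127, 0x1], [0x212634523432127, 0x7], [0x712634523432127, 0x2], [0x272634523432127, 0x1], [0x272634523432127, 0x3], [0x127634523432127, 0x2], [0x127634523432127, 0x3], [0x327634523432127, 0x4], [0x327634523432127, 0x6], [0x312123453432127,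 0x6], [0x632123453432127, 0x2], [0x632123453432127, 0x7], [0x262123453432127, 0x3], [0x326123453432127, 0x4], [0x127623453432127, 0x3], [0x327623453432127, 0x4], [0x126723453432127, 0x3], [0x326723453432127, 0x4], [0x326723453432127, 0x7], [0x123452123423127, 0x6], [0x423452123423127, 0x3], [0x423452123423127, 0x6], [0x643452123423127, 0x2], [0x212345423423127, 0x6], [0x412345423423127, 0x3], [0x342345423423127, 0x6], [0x642345423423127, 0x2], [0x262345423423127, 0x1], [0x672345423423127, 0x2], [0x654345423423127, 0x2], [0x654345423423127, 0x7], [0x264345423423127, 0x1], [0x264345423423127, 0x3], [0x264345423423127, 0x7], [0x764345423423127, 0x2], [0x674345423423127, 0x2], [0x126345423423127, 0x2], [0x126345423423127, 0x3], [0x126345423423127, 0x7], [0x726345423423127, 0x2], [0x726345423423127, 0x6], [0x276345423423127, 0x1], [0x432645423423127, 0x5], [0x264234523423127,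 0x3], [0x267234523423127, 0x1], [0x267234523423127, 0x3], [0x267234523423127, 0x7], [0x265434523423127, 0x3], [0x765434523423127, 0x2], [0x726434523423127, 0x6], [0x276434523423127, 0x1], [0x267434523423127, 0x3], [0x212634523423127, 0x3], [0x312634523423127, 0x2], [0x272634523423127, 0x1], [0x672634523423127, 0x2], [0x231264523423127, 0x1], [0x231264523423127, 0x4], [0x231264523423127, 0x6], [0x231264523423127, 0x7], [0x431264523423127, 0x5], [0x612345343423127, 0x2], [0x672345343423127, 0x2], [0x621234543423127, 0x2], [0x641234543423127, 0x2], [0x261234543423127, 0x1], [0x261234543423127, 0x3], [0x261234543423127, 0x7], [0x434234543423127, 0x3], [0x264234543423127, 0x7], [0x126234543423127, 0x3], [0x326234543423127, 0x4], [0x267234543423127, 0x1], [0x267234543423127, 0x3], [0x126434543423127, 0x3], [0x126434543423127, 0x7], [0x212634543423127, 0x3], [0x312634543423127,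 0x2], [0x312634543423127, 0x4], [0x312634543423127, 0x7], [0x712634543423127, 0x2], [0x432634543423127, 0x3], [0x432634543423127, 0x5], [0x432634543423127, 0x7], [0x732634543423127, 0x6], [0x434326543423127, 0x5], [0x612123453423127, 0x2], [0x632123453423127, 0x2], [0x262123453423127, 0x1]]

def chain0_10 : List (List ℕ) :=
  [[0x262123453423127, 0x3], [0x262123453423127, 0x7], [0x126123453423127, 0x2], [0x326123453423127, 0x4], [0x726123453423127, 0x6], [0x312623453423127, 0x2], [0x262723453423127, 0x1], [0x262723453423127, 0x3], [0x126723453423127, 0x2], [0x126723453423127, 0x3], [0x326723453423127, 0x4], [0x326723453423127, 0x7], [0x121263453423127, 0x3], [0x321263453423127, 0x2], [0x321263453423127, 0x7], [0x721263453423127, 0x2], [0x231263453423127, 0x7], [0x731263453423127, 0x2], [0x271263453423127, 0x1], [0x543263453423127, 0x7], [0x743263453423127, 0x2], [0x273263453423127,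 0x1], [0x273263453423127, 0x6], [0x261273453423127, 0x1], [0x126273453423127, 0x2], [0x126273453423127, 0x3], [0x326273453423127, 0x7], [0x212673453423127, 0x1], [0x212673453423127, 0x3], [0x212673453423127, 0x6], [0x212673453423127, 0x7], [0x312673453423127, 0x2], [0x312673453423127, 0x4], [0x312673453423127, 0x7], [0x432673453423127, 0x7], [0x123126453423127, 0x2], [0x123126453423127, 0x4], [0x123126453423127, 0x6], [0x123126453423127, 0x7], [0x423126453423127, 0x3], [0x423126453423127, 0x5], [0x423126453423127, 0x6], [0x423126453423127, 0x7], [0x623126453423127, 0x7], [0x723126453423127, 0x6], [0x754326453423127, 0x2], [0x754326453423127, 0x6], [0x274326453423127, 0x1], [0x274326453423127, 0x3], [0x274326453423127, 0x6], [0x127326453423127, 0x6], [0x627326453423127, 0x2], [0x627326453423127, 0x7], [0x267326453423127, 0x1], [0x541234512343127, 0x6], [0x654234512343127,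 0x2], [0x264234512343127, 0x3], [0x674234512343127, 0x2], [0x326234512343127, 0x4], [0x267234512343127, 0x3], [0x265434512343127, 0x1], [0x265434512343127, 0x3], [0x265434512343127, 0x7], [0x126434512343127, 0x3], [0x126434512343127, 0x7], [0x326434512343127, 0x4], [0x326434512343127, 0x7], [0x312634512343127, 0x2], [0x312634512343127, 0x4], [0x312634512343127, 0x7], [0x432634512343127, 0x3], [0x432634512343127, 0x5], [0x432634512343127, 0x7], [0x743264512343127, 0x2], [0x234326512343127, 0x1], [0x234326512343127, 0x4], [0x234326512343127, 0x6], [0x234326512343127, 0x7], [0x265423452343127, 0x1], [0x452343452343127, 0x3], [0x126543452343127, 0x3], [0x126543452343127, 0x7], [0x726543452343127, 0x2], [0x276543452343127, 0x1], [0x276543452343127, 0x3], [0x732643452343127, 0x2], [0x272643452343127, 0x3], [0x272643452343127, 0x6], [0x127643452343127, 0x3], [0x327643452343127,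 0x4], [0x127263452343127, 0x3], [0x327263452343127, 0x4], [0x632763452343127, 0x2], [0x231276452343127, 0x7], [0x643276452343127, 0x2], [0x263276452343127, 0x1], [0x212612345343127, 0x3], [0x412123451234327, 0x3], [0x342123451234327, 0x4], [0x653423451234327, 0x2], [0x265423451234327, 0x1], [0x326723451234327, 0x4], [0x126543451234327, 0x2], [0x212643451234327, 0x1], [0x212643451234327, 0x3], [0x212643451234327, 0x7], [0x231263451234327, 0x7], [0x731263451234327, 0x2], [0x341212345234327, 0x2], [0x341212345234327, 0x4], [0x341212345234327, 0x6], [0x234212345234327, 0x4], [0x434212345234327, 0x6], [0x734212345234327, 0x6], [0x265342345234327, 0x3], [0x765342345234327, 0x2], [0x276342345234327, 0x1], [0x276342345234327, 0x3], [0x326542345234327, 0x4], [0x276542345234327, 0x3], [0x272642345234327, 0x3], [0x127642345234327, 0x2], [0x127642345234327, 0x3], [0x327642345234327,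 0x6], [0x212654345234327, 0x3], [0x127654345234327, 0x2], [0x127654345234327, 0x3], [0x212764345234327, 0x3], [0x312726345234327, 0x4], [0x632726345234327, 0x2], [0x126327645234327, 0x2], [0x212621234534327, 0x3], [0x312621234534327, 0x2], [0x321261234534327, 0x2], [0x321261234534327, 0x4], [0x231261234534327, 0x4], [0x231261234534327, 0x6], [0x231261234534327, 0x7], [0x431261234534327, 0x5], [0x263271234534327, 0x1], [0x263271234534327, 0x7], [0x312126234534327, 0x2], [0x312126234534327, 0x4], [0x312126234534327, 0x6], [0x232126234534327, 0x1], [0x232126234534327, 0x4], [0x232126234534327, 0x7], [0x432126234534327, 0x3], [0x432126234534327, 0x5], [0x432126234534327, 0x6]]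

def chain0_11 : List (List ℕ) :=
  [[0x432126234534327, 0x7], [0x632126234534327, 0x2], [0x732126234534327, 0x2], [0x123126234534327, 0x7], [0x723126234534327, 0x6], [0x263276234534327, 0x1], [0x263276234534327, 0x7], [0x612312634534327, 0x2], [0x672312634534327, 0x2], [0x312672634534327, 0x4], [0x432672634534327, 0x3], [0x432672634534327, 0x5], [0x432672634534327, 0x7], [0x262345234232127, 0x31], [0x126345234232127, 0x32], [0x326345234232127, 0x54], [0x261234534232127, 0x21], [0x126234534232127, 0x72], [0x267234534232127, 0x21], [0x212634534232127, 0x31], [0x212634534232127, 0x43], [0x212634534232127, 0x63], [0x432634534232127, 0x53], [0x732634534232127, 0x62], [0x743264534232127, 0x32], [0x621234523432127, 0x32], [0x621234523432127, 0x72], [0x712634523432127, 0x32], [0x272634523432127, 0x31], [0x272634523432127, 0x43], [0x127634523432127, 0x23], [0x127634523432127,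 0x43], [0x327634523432127, 0x34], [0x632123453432127, 0x32], [0x262123453432127, 0x43], [0x326123453432127, 0x34], [0x326123453432127, 0x54], [0x326723453432127, 0x54], [0x423452123423127, 0x63], [0x643452123423127, 0x32], [0x342345423423127, 0x26], [0x642345423423127, 0x32], [0x672345423423127, 0x32], [0x672345423423127, 0x72], [0x654345423423127, 0x32], [0x264345423423127, 0x31], [0x264345423423127, 0x73], [0x264345423423127, 0x27], [0x264345423423127, 0x67], [0x764345423423127, 0x32], [0x674345423423127, 0x32], [0x726345423423127, 0x12], [0x672634523423127, 0x32], [0x231264523423127, 0x21], [0x231264523423127, 0x71], [0x231264523423127, 0x54], [0x231264523423127, 0x76], [0x231264523423127, 0x67], [0x672345343423127, 0x32], [0x641234543423127, 0x72], [0x267234543423127, 0x31], [0x212634543423127, 0x23], [0x212634543423127, 0x43], [0x432634543423127, 0x53], [0x432634543423127,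 0x75], [0x612123453423127, 0x72], [0x262123453423127, 0x43], [0x262723453423127, 0x43], [0x126723453423127, 0x43], [0x321263453423127, 0x72], [0x231263453423127, 0x27], [0x731263453423127, 0x12], [0x261273453423127, 0x21], [0x126273453423127, 0x23], [0x312673453423127, 0x62], [0x312673453423127, 0x72], [0x312673453423127, 0x74], [0x123126453423127, 0x34], [0x123126453423127, 0x64], [0x123126453423127, 0x74], [0x123126453423127, 0x27], [0x423126453423127, 0x73], [0x423126453423127, 0x75], [0x423126453423127, 0x76], [0x423126453423127, 0x67], [0x627326453423127, 0x72], [0x674234512343127, 0x32], [0x265434512343127, 0x73], [0x126434512343127, 0x73], [0x326434512343127, 0x34], [0x312634512343127, 0x42], [0x312634512343127, 0x34], [0x234326512343127, 0x41], [0x234326512343127, 0x71], [0x234326512343127, 0x67], [0x726543452343127, 0x62], [0x276543452343127, 0x31], [0x276543452343127,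 0x43], [0x272643452343127, 0x63], [0x212612345343127, 0x43], [0x412123451234327, 0x23], [0x126543451234327, 0x32], [0x212643451234327, 0x31], [0x212643451234327, 0x73], [0x341212345234327, 0x42], [0x734212345234327, 0x26], [0x765342345234327, 0x32], [0x276342345234327, 0x31], [0x127642345234327, 0x32], [0x127642345234327, 0x23], [0x127654345234327, 0x32], [0x126327645234327, 0x12], [0x126327645234327, 0x32], [0x126327645234327, 0x72], [0x231261234534327, 0x74], [0x312126234534327, 0x34], [0x312126234534327, 0x54], [0x312126234534327, 0x64], [0x432126234534327, 0x23], [0x432126234534327, 0x43], [0x432126234534327, 0x75], [0x432126234534327, 0x26], [0x263276234534327, 0x71], [0x423452123423127, 0x263], [0x342345423423127, 0x326], [0x264345423423127, 0x273], [0x264345423423127, 0x673], [0x264345423423127, 0x327], [0x123126453423127, 0x274], [0x212643451234327, 0x231],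 [0x127642345234327, 0x232], [0x264345423423127, 0x3273]]

def chain0 : List (List ℕ) := unchunk ((((chain0_0 ++ (chain0_1 ++ chain0_2)) ++ (chain0_3 ++ (chain0_4 ++ chain0_5))) ++ ((chain0_6 ++ (chain0_7 ++ chain0_8)) ++ (chain0_9 ++ (chain0_10 ++ chain0_11)))))

def chainPos0_0 : Tree :=
  .node 64 (.node 32 (.node 16 (.node 8 (.node 4 (.node 2 (.node 1 (.leaf 0x1) (.leaf 0x2)) (.node 1 (.leaf 0x3) (.leaf 0x4))) (.node 2 (.node 1 (.leaf 0x5) (.leaf 0x6)) (.node 1 (.leaf 0x7) (.leaf 0x8)))) (.node 4 (.node 2 (.node 1 (.leaf 0x9) (.leaf 0xa)) (.node 1 (.leaf 0xb) (.leaf 0xc))) (.node 2 (.node 1 (.leaf 0xd) (.leaf 0xe)) (.node 1 (.leaf 0xf) (.leaf 0x10))))) (.node 8 (.node 4 (.node 2 (.node 1 (.leaf 0x11) (.leaf 0x12)) (.node 1 (.leaf 0x13) (.leaf 0x14))) (.node 2 (.node 1 (.leaf 0x15) (.leaf 0x16)) (.node 1 (.leaf 0x17) (.leaf 0x18)))) (.node 4 (.node 2 (.node 1 (.leaf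 0x19) (.leaf 0x1a)) (.node 1 (.leaf 0x1b) (.leaf 0x1c))) (.node 2 (.node 1 (.leaf 0x1d) (.leaf 0x1e)) (.node 1 (.leaf 0x1f) (.leaf 0x20)))))) (.node 16 (.node 8 (.node 4 (.node 2 (.node 1 (.leaf 0x21) (.leaf 0x22)) (.node 1 (.leaf 0x23) (.leaf 0x24))) (.node 2 (.node 1 (.leaf 0x25) (.leaf 0x26)) (.node 1 (.leaf 0x27) (.leaf 0x28)))) (.node 4 (.node 2 (.node 1 (.leaf 0x29) (.leaf 0x2a)) (.node 1 (.leaf 0x2b) (.leaf 0x2c))) (.node 2 (.node 1 (.leaf 0x2d) (.leaf 0x2e)) (.node 1 (.leaf 0x2f) (.leaf 0x30))))) (.node 8 (.node 4 (.node 2 (.node 1 (.leaf 0x31) (.leaf 0x32)) (.node 1 (.leaf 0x33) (.leaf 0x34))) (.node 2 (.node 1 (.leaf 0x35) (.leaf 0x36)) (.node 1 (.leaf 0x37) (.leaf 0x38)))) (.node 4 (.node 2 (.node 1 (.leaf 0x39) (.leaf 0x3a)) (.node 1 (.leaf 0x3b) (.leaf 0x3c))) (.node 2 (.node 1 (.leaf 0x3d) (.leaf 0x3e)) (.node 1 (.leaf 0x3f) (.leaf 0x40))))))) (.node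 32 (.node 16 (.node 8 (.node 4 (.node 2 (.node 1 (.leaf 0x41) (.leaf 0x42)) (.node 1 (.leaf 0x43) (.leaf 0x44))) (.node 2 (.node 1 (.leaf 0x45) (.leaf 0x46)) (.node 1 (.leaf 0x47) (.leaf 0x48)))) (.node 4 (.node 2 (.node 1 (.leaf 0x49) (.leaf 0x4a)) (.node 1 (.leaf 0x4b) (.leaf 0x4c))) (.node 2 (.node 1 (.leaf 0x4d) (.leaf 0x4e)) (.node 1 (.leaf 0x4f) (.leaf 0x50))))) (.node 8 (.node 4 (.node 2 (.node 1 (.leaf 0x51) (.leaf 0x52)) (.node 1 (.leaf 0x53) (.leaf 0x54))) (.node 2 (.node 1 (.leaf 0x55) (.leaf 0x56)) (.node 1 (.leaf 0x57) (.leaf 0x58)))) (.node 4 (.node 2 (.node 1 (.leaf 0x59) (.leaf 0x5a)) (.node 1 (.leaf 0x5b) (.leaf 0x5c))) (.node 2 (.node 1 (.leaf 0x5d) (.leaf 0x5e)) (.node 1 (.leaf 0x5f) (.leaf 0x60)))))) (.node 16 (.node 8 (.node 4 (.node 2 (.node 1 (.leaf 0x61) (.leaf 0x62)) (.node 1 (.leaf 0x63) (.leaf 0x64))) (.node 2 (.node 1 (.leaf 0x65) (.leaf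 0x66)) (.node 1 (.leaf 0x67) (.leaf 0x68)))) (.node 4 (.node 2 (.node 1 (.leaf 0x69) (.leaf 0x6a)) (.node 1 (.leaf 0x6b) (.leaf 0x6c))) (.node 2 (.node 1 (.leaf 0x6d) (.leaf 0x6e)) (.node 1 (.leaf 0x6f) (.leaf 0x70))))) (.node 8 (.node 4 (.node 2 (.node 1 (.leaf 0x71) (.leaf 0x72)) (.node 1 (.leaf 0x73) (.leaf 0x74))) (.node 2 (.node 1 (.leaf 0x75) (.leaf 0x76)) (.node 1 (.leaf 0x77) (.leaf 0x78)))) (.node 4 (.node 2 (.node 1 (.leaf 0x79) (.leaf 0x7a)) (.node 1 (.leaf 0x7b) (.leaf 0x7c))) (.node 2 (.node 1 (.leaf 0x7d) (.leaf 0x7e)) (.node 1 (.leaf 0x7f) (.leaf 0x80)))))))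

def chainPos0_1 : Tree :=
  .node 64 (.node 32 (.node 16 (.node 8 (.node 4 (.node 2 (.node 1 (.leaf 0x81) (.leaf 0x82)) (.node 1 (.leaf 0x83) (.leaf 0x84))) (.node 2 (.node 1 (.leaf 0x85) (.leaf 0x86)) (.node 1 (.leaf 0x87) (.leaf 0x88)))) (.node 4 (.node 2 (.node 1 (.leaf 0x89) (.leaf 0x8a)) (.node 1 (.leaf 0x8b) (.leaf 0x8c))) (.node 2 (.node 1 (.leaf 0x8d) (.leaf 0x8e)) (.node 1 (.leaf 0x8f) (.leaf 0x90))))) (.node 8 (.node 4 (.node 2 (.node 1 (.leaf 0x91) (.leaf 0x92)) (.node 1 (.leaf 0x93) (.leaf 0x94))) (.node 2 (.node 1 (.leaf 0x95) (.leaf 0x96)) (.node 1 (.leaf 0x97) (.leaf 0x98)))) (.node 4 (.node 2 (.node 1 (.leaf 0x99) (.leaf 0x9a)) (.node 1 (.leaf 0x9b) (.leaf 0x9c))) (.node 2 (.node 1 (.leaf 0x9d) (.leaf 0x9e)) (.node 1 (.leaf 0x9f) (.leaf 0xa0)))))) (.node 16 (.node 8 (.node 4 (.node 2 (.node 1 (.leaf 0xa1) (.leaf 0xa2)) (.node 1 (.leaf 0xa3) (.leaf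 0xa4))) (.node 2 (.node 1 (.leaf 0xa5) (.leaf 0xa6)) (.node 1 (.leaf 0xa7) (.leaf 0xa8)))) (.node 4 (.node 2 (.node 1 (.leaf 0xa9) (.leaf 0xaa)) (.node 1 (.leaf 0xab) (.leaf 0xac))) (.node 2 (.node 1 (.leaf 0xad) (.leaf 0xae)) (.node 1 (.leaf 0xaf) (.leaf 0xb0))))) (.node 8 (.node 4 (.node 2 (.node 1 (.leaf 0xb1) (.leaf 0xb2)) (.node 1 (.leaf 0xb3) (.leaf 0xb4))) (.node 2 (.node 1 (.leaf 0xb5) (.leaf 0xb6)) (.node 1 (.leaf 0xb7) (.leaf 0xb8)))) (.node 4 (.node 2 (.node 1 (.leaf 0xb9) (.leaf 0xba)) (.node 1 (.leaf 0xbb) (.leaf 0xbc))) (.node 2 (.node 1 (.leaf 0xbd) (.leaf 0xbe)) (.node 1 (.leaf 0xbf) (.leaf 0xc0))))))) (.node 32 (.node 16 (.node 8 (.node 4 (.node 2 (.node 1 (.leaf 0xc1) (.leaf 0xc2)) (.node 1 (.leaf 0xc3) (.leaf 0xc4))) (.node 2 (.node 1 (.leaf 0xc5) (.leaf 0xc6)) (.node 1 (.leaf 0xc7) (.leaf 0xc8)))) (.node 4 (.node 2 (.node 1 (.leaf 0xc9) (.leaf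 0xca)) (.node 1 (.leaf 0xcb) (.leaf 0xcc))) (.node 2 (.node 1 (.leaf 0xcd) (.leaf 0xce)) (.node 1 (.leaf 0xcf) (.leaf 0xd0))))) (.node 8 (.node 4 (.node 2 (.node 1 (.leaf 0xd1) (.leaf 0xd2)) (.node 1 (.leaf 0xd3) (.leaf 0xd4))) (.node 2 (.node 1 (.leaf 0xd5) (.leaf 0xd6)) (.node 1 (.leaf 0xd7) (.leaf 0xd8)))) (.node 4 (.node 2 (.node 1 (.leaf 0xd9) (.leaf 0xda)) (.node 1 (.leaf 0xdb) (.leaf 0xdc))) (.node 2 (.node 1 (.leaf 0xdd) (.leaf 0xde)) (.node 1 (.leaf 0xdf) (.leaf 0xe0)))))) (.node 16 (.node 8 (.node 4 (.node 2 (.node 1 (.leaf 0xe1) (.leaf 0xe2)) (.node 1 (.leaf 0xe3) (.leaf 0xe4))) (.node 2 (.node 1 (.leaf 0xe5) (.leaf 0xe6)) (.node 1 (.leaf 0xe7) (.leaf 0xe8)))) (.node 4 (.node 2 (.node 1 (.leaf 0xe9) (.leaf 0xea)) (.node 1 (.leaf 0xeb) (.leaf 0xec))) (.node 2 (.node 1 (.leaf 0xed) (.leaf 0xee)) (.node 1 (.leaf 0xef) (.leaf 0xf0))))) (.node 8 (.node 4 (.node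 2 (.node 1 (.leaf 0xf1) (.leaf 0xf2)) (.node 1 (.leaf 0xf3) (.leaf 0xf4))) (.node 2 (.node 1 (.leaf 0xf5) (.leaf 0xf6)) (.node 1 (.leaf 0xf7) (.leaf 0xf8)))) (.node 4 (.node 2 (.node 1 (.leaf 0xf9) (.leaf 0xfa)) (.node 1 (.leaf 0xfb) (.leaf 0xfc))) (.node 2 (.node 1 (.leaf 0xfd) (.leaf 0xfe)) (.node 1 (.leaf 0xff) (.leaf 0x100)))))))

def chainPos0_2 : Tree :=
  .node 64 (.node 32 (.node 16 (.node 8 (.node 4 (.node 2 (.node 1 (.leaf 0x101) (.leaf 0x102)) (.node 1 (.leaf 0x103) (.leaf 0x104))) (.node 2 (.node 1 (.leaf 0x105) (.leaf 0x106)) (.node 1 (.leaf 0x107) (.leaf 0x108)))) (.node 4 (.node 2 (.node 1 (.leaf 0x109) (.leaf 0x10a)) (.node 1 (.leaf 0x10b) (.leaf 0x10c))) (.node 2 (.node 1 (.leaf 0x10d) (.leaf 0x10e)) (.node 1 (.leaf 0x10f) (.leaf 0x110))))) (.node 8 (.node 4 (.node 2 (.node 1 (.leaf 0x111) (.leaf 0x112)) (.node 1 (.leaf 0x113) (.leaf 0x114))) (.node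 2 (.node 1 (.leaf 0x115) (.leaf 0x116)) (.node 1 (.leaf 0x117) (.leaf 0x118)))) (.node 4 (.node 2 (.node 1 (.leaf 0x119) (.leaf 0x11a)) (.node 1 (.leaf 0x11b) (.leaf 0x11c))) (.node 2 (.node 1 (.leaf 0x11d) (.leaf 0x11e)) (.node 1 (.leaf 0x11f) (.leaf 0x120)))))) (.node 16 (.node 8 (.node 4 (.node 2 (.node 1 (.leaf 0x121) (.leaf 0x122)) (.node 1 (.leaf 0x123) (.leaf 0x124))) (.node 2 (.node 1 (.leaf 0x125) (.leaf 0x126)) (.node 1 (.leaf 0x127) (.leaf 0x128)))) (.node 4 (.node 2 (.node 1 (.leaf 0x129) (.leaf 0x12a)) (.node 1 (.leaf 0x12b) (.leaf 0x12c))) (.node 2 (.node 1 (.leaf 0x12d) (.leaf 0x12e)) (.node 1 (.leaf 0x12f) (.leaf 0x130))))) (.node 8 (.node 4 (.node 2 (.node 1 (.leaf 0x131) (.leaf 0x132)) (.node 1 (.leaf 0x133) (.leaf 0x134))) (.node 2 (.node 1 (.leaf 0x135) (.leaf 0x136)) (.node 1 (.leaf 0x137) (.leaf 0x138)))) (.node 4 (.node 2 (.node 1 (.leaf 0x139)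 (.leaf 0x13a)) (.node 1 (.leaf 0x13b) (.leaf 0x13c))) (.node 2 (.node 1 (.leaf 0x13d) (.leaf 0x13e)) (.node 1 (.leaf 0x13f) (.leaf 0x140))))))) (.node 32 (.node 16 (.node 8 (.node 4 (.node 2 (.node 1 (.leaf 0x141) (.leaf 0x142)) (.node 1 (.leaf 0x143) (.leaf 0x144))) (.node 2 (.node 1 (.leaf 0x145) (.leaf 0x146)) (.node 1 (.leaf 0x147) (.leaf 0x148)))) (.node 4 (.node 2 (.node 1 (.leaf 0x149) (.leaf 0x14a)) (.node 1 (.leaf 0x14b) (.leaf 0x14c))) (.node 2 (.node 1 (.leaf 0x14d) (.leaf 0x14e)) (.node 1 (.leaf 0x14f) (.leaf 0x150))))) (.node 8 (.node 4 (.node 2 (.node 1 (.leaf 0x151) (.leaf 0x152)) (.node 1 (.leaf 0x153) (.leaf 0x154))) (.node 2 (.node 1 (.leaf 0x155) (.leaf 0x156)) (.node 1 (.leaf 0x157) (.leaf 0x158)))) (.node 4 (.node 2 (.node 1 (.leaf 0x159) (.leaf 0x15a)) (.node 1 (.leaf 0x15b) (.leaf 0x15c))) (.node 2 (.node 1 (.leaf 0x15d) (.leaf 0x15e)) (.node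 1 (.leaf 0x15f) (.leaf 0x160)))))) (.node 16 (.node 8 (.node 4 (.node 2 (.node 1 (.leaf 0x161) (.leaf 0x162)) (.node 1 (.leaf 0x163) (.leaf 0x164))) (.node 2 (.node 1 (.leaf 0x165) (.leaf 0x166)) (.node 1 (.leaf 0x167) (.leaf 0x168)))) (.node 4 (.node 2 (.node 1 (.leaf 0x169) (.leaf 0x16a)) (.node 1 (.leaf 0x16b) (.leaf 0x16c))) (.node 2 (.node 1 (.leaf 0x16d) (.leaf 0x16e)) (.node 1 (.leaf 0x16f) (.leaf 0x170))))) (.node 8 (.node 4 (.node 2 (.node 1 (.leaf 0x171) (.leaf 0x172)) (.node 1 (.leaf 0x173) (.leaf 0x174))) (.node 2 (.node 1 (.leaf 0x175) (.leaf 0x176)) (.node 1 (.leaf 0x177) (.leaf 0x178)))) (.node 4 (.node 2 (.node 1 (.leaf 0x179) (.leaf 0x17a)) (.node 1 (.leaf 0x17b) (.leaf 0x17c))) (.node 2 (.node 1 (.leaf 0x17d) (.leaf 0x17e)) (.node 1 (.leaf 0x17f) (.leaf 0x180)))))))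

def chainPos0_3 : Tree :=
  .node 64 (.node 32 (.node 16 (.node 8 (.node 4 (.node 2 (.node 1 (.leaf 0x181) (.leaf 0x182)) (.node 1 (.leaf 0x183) (.leaf 0x184))) (.node 2 (.node 1 (.leaf 0x185) (.leaf 0x186)) (.node 1 (.leaf 0x187) (.leaf 0x188)))) (.node 4 (.node 2 (.node 1 (.leaf 0x189) (.leaf 0x18a)) (.node 1 (.leaf 0x18b) (.leaf 0x18c))) (.node 2 (.node 1 (.leaf 0x18d) (.leaf 0x18e)) (.node 1 (.leaf 0x18f) (.leaf 0x190))))) (.node 8 (.node 4 (.node 2 (.node 1 (.leaf 0x191) (.leaf 0x192)) (.node 1 (.leaf 0x193) (.leaf 0x194))) (.node 2 (.node 1 (.leaf 0x195) (.leaf 0x196)) (.node 1 (.leaf 0x197) (.leaf 0x198)))) (.node 4 (.node 2 (.node 1 (.leaf 0x199) (.leaf 0x19a)) (.node 1 (.leaf 0x19b) (.leaf 0x19c))) (.node 2 (.node 1 (.leaf 0x19d) (.leaf 0x19e)) (.node 1 (.leaf 0x19f) (.leaf 0x1a0)))))) (.node 16 (.node 8 (.node 4 (.node 2 (.node 1 (.leaf 0x1a1) (.leaf 0x1a2))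 (.node 1 (.leaf 0x1a3) (.leaf 0x1a4))) (.node 2 (.node 1 (.leaf 0x1a5) (.leaf 0x1a6)) (.node 1 (.leaf 0x1a7) (.leaf 0x1a8)))) (.node 4 (.node 2 (.node 1 (.leaf 0x1a9) (.leaf 0x1aa)) (.node 1 (.leaf 0x1ab) (.leaf 0x1ac))) (.node 2 (.node 1 (.leaf 0x1ad) (.leaf 0x1ae)) (.node 1 (.leaf 0x1af) (.leaf 0x1b0))))) (.node 8 (.node 4 (.node 2 (.node 1 (.leaf 0x1b1) (.leaf 0x1b2)) (.node 1 (.leaf 0x1b3) (.leaf 0x1b4))) (.node 2 (.node 1 (.leaf 0x1b5) (.leaf 0x1b6)) (.node 1 (.leaf 0x1b7) (.leaf 0x1b8)))) (.node 4 (.node 2 (.node 1 (.leaf 0x1b9) (.leaf 0x1ba)) (.node 1 (.leaf 0x1bb) (.leaf 0x1bc))) (.node 2 (.node 1 (.leaf 0x1bd) (.leaf 0x1be)) (.node 1 (.leaf 0x1bf) (.leaf 0x1c0))))))) (.node 32 (.node 16 (.node 8 (.node 4 (.node 2 (.node 1 (.leaf 0x1c1) (.leaf 0x1c2)) (.node 1 (.leaf 0x1c3) (.leaf 0x1c4))) (.node 2 (.node 1 (.leaf 0x1c5) (.leaf 0x1c6)) (.node 1 (.leaf 0x1c7)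 (.leaf 0x1c8)))) (.node 4 (.node 2 (.node 1 (.leaf 0x1c9) (.leaf 0x1ca)) (.node 1 (.leaf 0x1cb) (.leaf 0x1cc))) (.node 2 (.node 1 (.leaf 0x1cd) (.leaf 0x1ce)) (.node 1 (.leaf 0x1cf) (.leaf 0x1d0))))) (.node 8 (.node 4 (.node 2 (.node 1 (.leaf 0x1d1) (.leaf 0x1d2)) (.node 1 (.leaf 0x1d3) (.leaf 0x1d4))) (.node 2 (.node 1 (.leaf 0x1d5) (.leaf 0x1d6)) (.node 1 (.leaf 0x1d7) (.leaf 0x1d8)))) (.node 4 (.node 2 (.node 1 (.leaf 0x1d9) (.leaf 0x1da)) (.node 1 (.leaf 0x1db) (.leaf 0x1dc))) (.node 2 (.node 1 (.leaf 0x1dd) (.leaf 0x1de)) (.node 1 (.leaf 0x1df) (.leaf 0x1e0)))))) (.node 16 (.node 8 (.node 4 (.node 2 (.node 1 (.leaf 0x1e1) (.leaf 0x1e2)) (.node 1 (.leaf 0x1e3) (.leaf 0x1e4))) (.node 2 (.node 1 (.leaf 0x1e5) (.leaf 0x1e6)) (.node 1 (.leaf 0x1e7) (.leaf 0x1e8)))) (.node 4 (.node 2 (.node 1 (.leaf 0x1e9) (.leaf 0x1ea)) (.node 1 (.leaf 0x1eb) (.leaf 0x1ec))) (.node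 2 (.node 1 (.leaf 0x1ed) (.leaf 0x1ee)) (.node 1 (.leaf 0x1ef) (.leaf 0x1f0))))) (.node 8 (.node 4 (.node 2 (.node 1 (.leaf 0x1f1) (.leaf 0x1f2)) (.node 1 (.leaf 0x1f3) (.leaf 0x1f4))) (.node 2 (.node 1 (.leaf 0x1f5) (.leaf 0x1f6)) (.node 1 (.leaf 0x1f7) (.leaf 0x1f8)))) (.node 4 (.node 2 (.node 1 (.leaf 0x1f9) (.leaf 0x1fa)) (.node 1 (.leaf 0x1fb) (.leaf 0x1fc))) (.node 2 (.node 1 (.leaf 0x1fd) (.leaf 0x1fe)) (.node 1 (.leaf 0x1ff) (.leaf 0x200)))))))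

def chainPos0_4 : Tree :=
  .node 64 (.node 32 (.node 16 (.node 8 (.node 4 (.node 2 (.node 1 (.leaf 0x201) (.leaf 0x202)) (.node 1 (.leaf 0x203) (.leaf 0x204))) (.node 2 (.node 1 (.leaf 0x205) (.leaf 0x206)) (.node 1 (.leaf 0x207) (.leaf 0x208)))) (.node 4 (.node 2 (.node 1 (.leaf 0x209) (.leaf 0x20a)) (.node 1 (.leaf 0x20b) (.leaf 0x20c))) (.node 2 (.node 1 (.leaf 0x20d) (.leaf 0x20e)) (.node 1 (.leaf 0x20f) (.leaf 0x210))))) (.node 8 (.node 4 (.node 2 (.node 1 (.leaf 0x211) (.leaf 0x212)) (.node 1 (.leaf 0x213) (.leaf 0x214))) (.node 2 (.node 1 (.leaf 0x215) (.leaf 0x216)) (.node 1 (.leaf 0x217) (.leaf 0x218)))) (.node 4 (.node 2 (.node 1 (.leaf 0x219) (.leaf 0x21a)) (.node 1 (.leaf 0x21b) (.leaf 0x21c))) (.node 2 (.node 1 (.leaf 0x21d) (.leaf 0x21e)) (.node 1 (.leaf 0x21f) (.leaf 0x220)))))) (.node 16 (.node 8 (.node 4 (.node 2 (.node 1 (.leaf 0x221) (.leaf 0x222))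 (.node 1 (.leaf 0x223) (.leaf 0x224))) (.node 2 (.node 1 (.leaf 0x225) (.leaf 0x226)) (.node 1 (.leaf 0x227) (.leaf 0x228)))) (.node 4 (.node 2 (.node 1 (.leaf 0x229) (.leaf 0x22a)) (.node 1 (.leaf 0x22b) (.leaf 0x22c))) (.node 2 (.node 1 (.leaf 0x22d) (.leaf 0x22e)) (.node 1 (.leaf 0x22f) (.leaf 0x230))))) (.node 8 (.node 4 (.node 2 (.node 1 (.leaf 0x231) (.leaf 0x232)) (.node 1 (.leaf 0x233) (.leaf 0x234))) (.node 2 (.node 1 (.leaf 0x235) (.leaf 0x236)) (.node 1 (.leaf 0x237) (.leaf 0x238)))) (.node 4 (.node 2 (.node 1 (.leaf 0x239) (.leaf 0x23a)) (.node 1 (.leaf 0x23b) (.leaf 0x23c))) (.node 2 (.node 1 (.leaf 0x23d) (.leaf 0x23e)) (.node 1 (.leaf 0x23f) (.leaf 0x240))))))) (.node 32 (.node 16 (.node 8 (.node 4 (.node 2 (.node 1 (.leaf 0x241) (.leaf 0x242)) (.node 1 (.leaf 0x243) (.leaf 0x244))) (.node 2 (.node 1 (.leaf 0x245) (.leaf 0x246)) (.node 1 (.leaf 0x247)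 (.leaf 0x248)))) (.node 4 (.node 2 (.node 1 (.leaf 0x249) (.leaf 0x24a)) (.node 1 (.leaf 0x24b) (.leaf 0x24c))) (.node 2 (.node 1 (.leaf 0x24d) (.leaf 0x24e)) (.node 1 (.leaf 0x24f) (.leaf 0x250))))) (.node 8 (.node 4 (.node 2 (.node 1 (.leaf 0x251) (.leaf 0x252)) (.node 1 (.leaf 0x253) (.leaf 0x254))) (.node 2 (.node 1 (.leaf 0x255) (.leaf 0x256)) (.node 1 (.leaf 0x257) (.leaf 0x258)))) (.node 4 (.node 2 (.node 1 (.leaf 0x259) (.leaf 0x25a)) (.node 1 (.leaf 0x25b) (.leaf 0x25c))) (.node 2 (.node 1 (.leaf 0x25d) (.leaf 0x25e)) (.node 1 (.leaf 0x25f) (.leaf 0x260)))))) (.node 16 (.node 8 (.node 4 (.node 2 (.node 1 (.leaf 0x261) (.leaf 0x262)) (.node 1 (.leaf 0x263) (.leaf 0x264))) (.node 2 (.node 1 (.leaf 0x265) (.leaf 0x266)) (.node 1 (.leaf 0x267) (.leaf 0x268)))) (.node 4 (.node 2 (.node 1 (.leaf 0x269) (.leaf 0x26a)) (.node 1 (.leaf 0x26b) (.leaf 0x26c))) (.node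 2 (.node 1 (.leaf 0x26d) (.leaf 0x26e)) (.node 1 (.leaf 0x26f) (.leaf 0x270))))) (.node 8 (.node 4 (.node 2 (.node 1 (.leaf 0x271) (.leaf 0x272)) (.node 1 (.leaf 0x273) (.leaf 0x274))) (.node 2 (.node 1 (.leaf 0x275) (.leaf 0x276)) (.node 1 (.leaf 0x277) (.leaf 0x278)))) (.node 4 (.node 2 (.node 1 (.leaf 0x279) (.leaf 0x27a)) (.node 1 (.leaf 0x27b) (.leaf 0x27c))) (.node 2 (.node 1 (.leaf 0x27d) (.leaf 0x27e)) (.node 1 (.leaf 0x27f) (.leaf 0x280)))))))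

def chainPos0_5 : Tree :=
  .node 64 (.node 32 (.node 16 (.node 8 (.node 4 (.node 2 (.node 1 (.leaf 0x281) (.leaf 0x282)) (.node 1 (.leaf 0x283) (.leaf 0x284))) (.node 2 (.node 1 (.leaf 0x285) (.leaf 0x286)) (.node 1 (.leaf 0x287) (.leaf 0x288)))) (.node 4 (.node 2 (.node 1 (.leaf 0x289) (.leaf 0x28a)) (.node 1 (.leaf 0x28b) (.leaf 0x28c))) (.node 2 (.node 1 (.leaf 0x28d) (.leaf 0x28e)) (.node 1 (.leaf 0x28f) (.leaf 0x290))))) (.node 8 (.node 4 (.node 2 (.node 1 (.leaf 0x291) (.leaf 0x292)) (.node 1 (.leaf 0x293) (.leaf 0x294))) (.node 2 (.node 1 (.leaf 0x295) (.leaf 0x296)) (.node 1 (.leaf 0x297) (.leaf 0x298)))) (.node 4 (.node 2 (.node 1 (.leaf 0x299) (.leaf 0x29a)) (.node 1 (.leaf 0x29b) (.leaf 0x29c))) (.node 2 (.node 1 (.leaf 0x29d) (.leaf 0x29e)) (.node 1 (.leaf 0x29f) (.leaf 0x2a0)))))) (.node 16 (.node 8 (.node 4 (.node 2 (.node 1 (.leaf 0x2a1) (.leaf 0x2a2))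 (.node 1 (.leaf 0x2a3) (.leaf 0x2a4))) (.node 2 (.node 1 (.leaf 0x2a5) (.leaf 0x2a6)) (.node 1 (.leaf 0x2a7) (.leaf 0x2a8)))) (.node 4 (.node 2 (.node 1 (.leaf 0x2a9) (.leaf 0x2aa)) (.node 1 (.leaf 0x2ab) (.leaf 0x2ac))) (.node 2 (.node 1 (.leaf 0x2ad) (.leaf 0x2ae)) (.node 1 (.leaf 0x2af) (.leaf 0x2b0))))) (.node 8 (.node 4 (.node 2 (.node 1 (.leaf 0x2b1) (.leaf 0x2b2)) (.node 1 (.leaf 0x2b3) (.leaf 0x2b4))) (.node 2 (.node 1 (.leaf 0x2b5) (.leaf 0x2b6)) (.node 1 (.leaf 0x2b7) (.leaf 0x2b8)))) (.node 4 (.node 2 (.node 1 (.leaf 0x2b9) (.leaf 0x2ba)) (.node 1 (.leaf 0x2bb) (.leaf 0x2bc))) (.node 2 (.node 1 (.leaf 0x2bd) (.leaf 0x2be)) (.node 1 (.leaf 0x2bf) (.leaf 0x2c0))))))) (.node 32 (.node 16 (.node 8 (.node 4 (.node 2 (.node 1 (.leaf 0x2c1) (.leaf 0x2c2)) (.node 1 (.leaf 0x2c3) (.leaf 0x2c4))) (.node 2 (.node 1 (.leaf 0x2c5) (.leaf 0x2c6)) (.node 1 (.leaf 0x2c7)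 (.leaf 0x2c8)))) (.node 4 (.node 2 (.node 1 (.leaf 0x2c9) (.leaf 0x2ca)) (.node 1 (.leaf 0x2cb) (.leaf 0x2cc))) (.node 2 (.node 1 (.leaf 0x2cd) (.leaf 0x2ce)) (.node 1 (.leaf 0x2cf) (.leaf 0x2d0))))) (.node 8 (.node 4 (.node 2 (.node 1 (.leaf 0x2d1) (.leaf 0x2d2)) (.node 1 (.leaf 0x2d3) (.leaf 0x2d4))) (.node 2 (.node 1 (.leaf 0x2d5) (.leaf 0x2d6)) (.node 1 (.leaf 0x2d7) (.leaf 0x2d8)))) (.node 4 (.node 2 (.node 1 (.leaf 0x2d9) (.leaf 0x2da)) (.node 1 (.leaf 0x2db) (.leaf 0x2dc))) (.node 2 (.node 1 (.leaf 0x2dd) (.leaf 0x2de)) (.node 1 (.leaf 0x2df) (.leaf 0x2e0)))))) (.node 16 (.node 8 (.node 4 (.node 2 (.node 1 (.leaf 0x2e1) (.leaf 0x2e2)) (.node 1 (.leaf 0x2e3) (.leaf 0x2e4))) (.node 2 (.node 1 (.leaf 0x2e5) (.leaf 0x2e6)) (.node 1 (.leaf 0x2e7) (.leaf 0x2e8)))) (.node 4 (.node 2 (.node 1 (.leaf 0x2e9) (.leaf 0x2ea)) (.node 1 (.leaf 0x2eb) (.leaf 0x2ec))) (.node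 2 (.node 1 (.leaf 0x2ed) (.leaf 0x2ee)) (.node 1 (.leaf 0x2ef) (.leaf 0x2f0))))) (.node 8 (.node 4 (.node 2 (.node 1 (.leaf 0x2f1) (.leaf 0x2f2)) (.node 1 (.leaf 0x2f3) (.leaf 0x2f4))) (.node 2 (.node 1 (.leaf 0x2f5) (.leaf 0x2f6)) (.node 1 (.leaf 0x2f7) (.leaf 0x2f8)))) (.node 4 (.node 2 (.node 1 (.leaf 0x2f9) (.leaf 0x2fa)) (.node 1 (.leaf 0x2fb) (.leaf 0x2fc))) (.node 2 (.node 1 (.leaf 0x2fd) (.leaf 0x2fe)) (.node 1 (.leaf 0x2ff) (.leaf 0x300)))))))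

def chainPos0_6 : Tree :=
  .node 64 (.node 32 (.node 16 (.node 8 (.node 4 (.node 2 (.node 1 (.leaf 0x301) (.leaf 0x302)) (.node 1 (.leaf 0x303) (.leaf 0x304))) (.node 2 (.node 1 (.leaf 0x305) (.leaf 0x306)) (.node 1 (.leaf 0x307) (.leaf 0x308)))) (.node 4 (.node 2 (.node 1 (.leaf 0x309) (.leaf 0x30a)) (.node 1 (.leaf 0x30b) (.leaf 0x30c))) (.node 2 (.node 1 (.leaf 0x30d) (.leaf 0x30e)) (.node 1 (.leaf 0x30f) (.leaf 0x310))))) (.node 8 (.node 4 (.node 2 (.node 1 (.leaf 0x311) (.leaf 0x312)) (.node 1 (.leaf 0x313) (.leaf 0x314))) (.node 2 (.node 1 (.leaf 0x315) (.leaf 0x316)) (.node 1 (.leaf 0x317) (.leaf 0x318)))) (.node 4 (.node 2 (.node 1 (.leaf 0x319) (.leaf 0x31a)) (.node 1 (.leaf 0x31b) (.leaf 0x31c))) (.node 2 (.node 1 (.leaf 0x31d) (.leaf 0x31e)) (.node 1 (.leaf 0x31f) (.leaf 0x320)))))) (.node 16 (.node 8 (.node 4 (.node 2 (.node 1 (.leaf 0x321) (.leaf 0x322))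 (.node 1 (.leaf 0x323) (.leaf 0x324))) (.node 2 (.node 1 (.leaf 0x325) (.leaf 0x326)) (.node 1 (.leaf 0x327) (.leaf 0x328)))) (.node 4 (.node 2 (.node 1 (.leaf 0x329) (.leaf 0x32a)) (.node 1 (.leaf 0x32b) (.leaf 0x32c))) (.node 2 (.node 1 (.leaf 0x32d) (.leaf 0x32e)) (.node 1 (.leaf 0x32f) (.leaf 0x330))))) (.node 8 (.node 4 (.node 2 (.node 1 (.leaf 0x331) (.leaf 0x332)) (.node 1 (.leaf 0x333) (.leaf 0x334))) (.node 2 (.node 1 (.leaf 0x335) (.leaf 0x336)) (.node 1 (.leaf 0x337) (.leaf 0x338)))) (.node 4 (.node 2 (.node 1 (.leaf 0x339) (.leaf 0x33a)) (.node 1 (.leaf 0x33b) (.leaf 0x33c))) (.node 2 (.node 1 (.leaf 0x33d) (.leaf 0x33e)) (.node 1 (.leaf 0x33f) (.leaf 0x340))))))) (.node 32 (.node 16 (.node 8 (.node 4 (.node 2 (.node 1 (.leaf 0x341) (.leaf 0x342)) (.node 1 (.leaf 0x343) (.leaf 0x344))) (.node 2 (.node 1 (.leaf 0x345) (.leaf 0x346)) (.node 1 (.leaf 0x347)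 (.leaf 0x348)))) (.node 4 (.node 2 (.node 1 (.leaf 0x349) (.leaf 0x34a)) (.node 1 (.leaf 0x34b) (.leaf 0x34c))) (.node 2 (.node 1 (.leaf 0x34d) (.leaf 0x34e)) (.node 1 (.leaf 0x34f) (.leaf 0x350))))) (.node 8 (.node 4 (.node 2 (.node 1 (.leaf 0x351) (.leaf 0x352)) (.node 1 (.leaf 0x353) (.leaf 0x354))) (.node 2 (.node 1 (.leaf 0x355) (.leaf 0x356)) (.node 1 (.leaf 0x357) (.leaf 0x358)))) (.node 4 (.node 2 (.node 1 (.leaf 0x359) (.leaf 0x35a)) (.node 1 (.leaf 0x35b) (.leaf 0x35c))) (.node 2 (.node 1 (.leaf 0x35d) (.leaf 0x35e)) (.node 1 (.leaf 0x35f) (.leaf 0x360)))))) (.node 16 (.node 8 (.node 4 (.node 2 (.node 1 (.leaf 0x361) (.leaf 0x362)) (.node 1 (.leaf 0x363) (.leaf 0x364))) (.node 2 (.node 1 (.leaf 0x365) (.leaf 0x366)) (.node 1 (.leaf 0x367) (.leaf 0x368)))) (.node 4 (.node 2 (.node 1 (.leaf 0x369) (.leaf 0x36a)) (.node 1 (.leaf 0x36b) (.leaf 0x36c))) (.node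 2 (.node 1 (.leaf 0x36d) (.leaf 0x36e)) (.node 1 (.leaf 0x36f) (.leaf 0x370))))) (.node 8 (.node 4 (.node 2 (.node 1 (.leaf 0x371) (.leaf 0x372)) (.node 1 (.leaf 0x373) (.leaf 0x374))) (.node 2 (.node 1 (.leaf 0x375) (.leaf 0x376)) (.node 1 (.leaf 0x377) (.leaf 0x378)))) (.node 4 (.node 2 (.node 1 (.leaf 0x379) (.leaf 0x37a)) (.node 1 (.leaf 0x37b) (.leaf 0x37c))) (.node 2 (.node 1 (.leaf 0x37d) (.leaf 0x37e)) (.node 1 (.leaf 0x37f) (.leaf 0x380)))))))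

def chainPos0_7 : Tree :=
  .node 64 (.node 32 (.node 16 (.node 8 (.node 4 (.node 2 (.node 1 (.leaf 0x381) (.leaf 0x382)) (.node 1 (.leaf 0x383) (.leaf 0x384))) (.node 2 (.node 1 (.leaf 0x385) (.leaf 0x386)) (.node 1 (.leaf 0x387) (.leaf 0x388)))) (.node 4 (.node 2 (.node 1 (.leaf 0x389) (.leaf 0x38a)) (.node 1 (.leaf 0x38b) (.leaf 0x38c))) (.node 2 (.node 1 (.leaf 0x38d) (.leaf 0x38e)) (.node 1 (.leaf 0x38f) (.leaf 0x390))))) (.node 8 (.node 4 (.node 2 (.node 1 (.leaf 0x391) (.leaf 0x392)) (.node 1 (.leaf 0x393) (.leaf 0x394))) (.node 2 (.node 1 (.leaf 0x395) (.leaf 0x396)) (.node 1 (.leaf 0x397) (.leaf 0x398)))) (.node 4 (.node 2 (.node 1 (.leaf 0x399) (.leaf 0x39a)) (.node 1 (.leaf 0x39b) (.leaf 0x39c))) (.node 2 (.node 1 (.leaf 0x39d) (.leaf 0x39e)) (.node 1 (.leaf 0x39f) (.leaf 0x3a0)))))) (.node 16 (.node 8 (.node 4 (.node 2 (.node 1 (.leaf 0x3a1) (.leaf 0x3a2))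 (.node 1 (.leaf 0x3a3) (.leaf 0x3a4))) (.node 2 (.node 1 (.leaf 0x3a5) (.leaf 0x3a6)) (.node 1 (.leaf 0x3a7) (.leaf 0x3a8)))) (.node 4 (.node 2 (.node 1 (.leaf 0x3a9) (.leaf 0x3aa)) (.node 1 (.leaf 0x3ab) (.leaf 0x3ac))) (.node 2 (.node 1 (.leaf 0x3ad) (.leaf 0x3ae)) (.node 1 (.leaf 0x3af) (.leaf 0x3b0))))) (.node 8 (.node 4 (.node 2 (.node 1 (.leaf 0x3b1) (.leaf 0x3b2)) (.node 1 (.leaf 0x3b3) (.leaf 0x3b4))) (.node 2 (.node 1 (.leaf 0x3b5) (.leaf 0x3b6)) (.node 1 (.leaf 0x3b7) (.leaf 0x3b8)))) (.node 4 (.node 2 (.node 1 (.leaf 0x3b9) (.leaf 0x3ba)) (.node 1 (.leaf 0x3bb) (.leaf 0x3bc))) (.node 2 (.node 1 (.leaf 0x3bd) (.leaf 0x3be)) (.node 1 (.leaf 0x3bf) (.leaf 0x3c0))))))) (.node 32 (.node 16 (.node 8 (.node 4 (.node 2 (.node 1 (.leaf 0x3c1) (.leaf 0x3c2)) (.node 1 (.leaf 0x3c3) (.leaf 0x3c4))) (.node 2 (.node 1 (.leaf 0x3c5) (.leaf 0x3c6)) (.node 1 (.leaf 0x3c7)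 (.leaf 0x3c8)))) (.node 4 (.node 2 (.node 1 (.leaf 0x3c9) (.leaf 0x3ca)) (.node 1 (.leaf 0x3cb) (.leaf 0x3cc))) (.node 2 (.node 1 (.leaf 0x3cd) (.leaf 0x3ce)) (.node 1 (.leaf 0x3cf) (.leaf 0x3d0))))) (.node 8 (.node 4 (.node 2 (.node 1 (.leaf 0x3d1) (.leaf 0x3d2)) (.node 1 (.leaf 0x3d3) (.leaf 0x3d4))) (.node 2 (.node 1 (.leaf 0x3d5) (.leaf 0x3d6)) (.node 1 (.leaf 0x3d7) (.leaf 0x3d8)))) (.node 4 (.node 2 (.node 1 (.leaf 0x3d9) (.leaf 0x3da)) (.node 1 (.leaf 0x3db) (.leaf 0x3dc))) (.node 2 (.node 1 (.leaf 0x3dd) (.leaf 0x3de)) (.node 1 (.leaf 0x3df) (.leaf 0x3e0)))))) (.node 16 (.node 8 (.node 4 (.node 2 (.node 1 (.leaf 0x3e1) (.leaf 0x3e2)) (.node 1 (.leaf 0x3e3) (.leaf 0x3e4))) (.node 2 (.node 1 (.leaf 0x3e5) (.leaf 0x3e6)) (.node 1 (.leaf 0x3e7) (.leaf 0x3e8)))) (.node 4 (.node 2 (.node 1 (.leaf 0x3e9) (.leaf 0x3ea)) (.node 1 (.leaf 0x3eb) (.leaf 0x3ec))) (.node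 2 (.node 1 (.leaf 0x3ed) (.leaf 0x3ee)) (.node 1 (.leaf 0x3ef) (.leaf 0x3f0))))) (.node 8 (.node 4 (.node 2 (.node 1 (.leaf 0x3f1) (.leaf 0x3f2)) (.node 1 (.leaf 0x3f3) (.leaf 0x3f4))) (.node 2 (.node 1 (.leaf 0x3f5) (.leaf 0x3f6)) (.node 1 (.leaf 0x3f7) (.leaf 0x3f8)))) (.node 4 (.node 2 (.node 1 (.leaf 0x3f9) (.leaf 0x3fa)) (.node 1 (.leaf 0x3fb) (.leaf 0x3fc))) (.node 2 (.node 1 (.leaf 0x3fd) (.leaf 0x3fe)) (.node 1 (.leaf 0x3ff) (.leaf 0x400)))))))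

def chainPos0_8 : Tree :=
  .node 64 (.node 32 (.node 16 (.node 8 (.node 4 (.node 2 (.node 1 (.leaf 0x401) (.leaf 0x402)) (.node 1 (.leaf 0x403) (.leaf 0x404))) (.node 2 (.node 1 (.leaf 0x405) (.leaf 0x406)) (.node 1 (.leaf 0x407) (.leaf 0x408)))) (.node 4 (.node 2 (.node 1 (.leaf 0x409) (.leaf 0x40a)) (.node 1 (.leaf 0x40b) (.leaf 0x40c))) (.node 2 (.node 1 (.leaf 0x40d) (.leaf 0x40e)) (.node 1 (.leaf 0x40f) (.leaf 0x410))))) (.node 8 (.node 4 (.node 2 (.node 1 (.leaf 0x411) (.leaf 0x412)) (.node 1 (.leaf 0x413) (.leaf 0x414))) (.node 2 (.node 1 (.leaf 0x415) (.leaf 0x416)) (.node 1 (.leaf 0x417) (.leaf 0x418)))) (.node 4 (.node 2 (.node 1 (.leaf 0x419) (.leaf 0x41a)) (.node 1 (.leaf 0x41b) (.leaf 0x41c))) (.node 2 (.node 1 (.leaf 0x41d) (.leaf 0x41e)) (.node 1 (.leaf 0x41f) (.leaf 0x420)))))) (.node 16 (.node 8 (.node 4 (.node 2 (.node 1 (.leaf 0x421) (.leaf 0x422))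 (.node 1 (.leaf 0x423) (.leaf 0x424))) (.node 2 (.node 1 (.leaf 0x425) (.leaf 0x426)) (.node 1 (.leaf 0x427) (.leaf 0x428)))) (.node 4 (.node 2 (.node 1 (.leaf 0x429) (.leaf 0x42a)) (.node 1 (.leaf 0x42b) (.leaf 0x42c))) (.node 2 (.node 1 (.leaf 0x42d) (.leaf 0x42e)) (.node 1 (.leaf 0x42f) (.leaf 0x430))))) (.node 8 (.node 4 (.node 2 (.node 1 (.leaf 0x431) (.leaf 0x432)) (.node 1 (.leaf 0x433) (.leaf 0x434))) (.node 2 (.node 1 (.leaf 0x435) (.leaf 0x436)) (.node 1 (.leaf 0x437) (.leaf 0x438)))) (.node 4 (.node 2 (.node 1 (.leaf 0x439) (.leaf 0x43a)) (.node 1 (.leaf 0x43b) (.leaf 0x43c))) (.node 2 (.node 1 (.leaf 0x43d) (.leaf 0x43e)) (.node 1 (.leaf 0x43f) (.leaf 0x440))))))) (.node 32 (.node 16 (.node 8 (.node 4 (.node 2 (.node 1 (.leaf 0x441) (.leaf 0x442)) (.node 1 (.leaf 0x443) (.leaf 0x444))) (.node 2 (.node 1 (.leaf 0x445) (.leaf 0x446)) (.node 1 (.leaf 0x447)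 (.leaf 0x448)))) (.node 4 (.node 2 (.node 1 (.leaf 0x449) (.leaf 0x44a)) (.node 1 (.leaf 0x44b) (.leaf 0x44c))) (.node 2 (.node 1 (.leaf 0x44d) (.leaf 0x44e)) (.node 1 (.leaf 0x44f) (.leaf 0x450))))) (.node 8 (.node 4 (.node 2 (.node 1 (.leaf 0x451) (.leaf 0x452)) (.node 1 (.leaf 0x453) (.leaf 0x454))) (.node 2 (.node 1 (.leaf 0x455) (.leaf 0x456)) (.node 1 (.leaf 0x457) (.leaf 0x458)))) (.node 4 (.node 2 (.node 1 (.leaf 0x459) (.leaf 0x45a)) (.node 1 (.leaf 0x45b) (.leaf 0x45c))) (.node 2 (.node 1 (.leaf 0x45d) (.leaf 0x45e)) (.node 1 (.leaf 0x45f) (.leaf 0x460)))))) (.node 16 (.node 8 (.node 4 (.node 2 (.node 1 (.leaf 0x461) (.leaf 0x462)) (.node 1 (.leaf 0x463) (.leaf 0x464))) (.node 2 (.node 1 (.leaf 0x465) (.leaf 0x466)) (.node 1 (.leaf 0x467) (.leaf 0x468)))) (.node 4 (.node 2 (.node 1 (.leaf 0x469) (.leaf 0x46a)) (.node 1 (.leaf 0x46b) (.leaf 0x46c))) (.node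 2 (.node 1 (.leaf 0x46d) (.leaf 0x46e)) (.node 1 (.leaf 0x46f) (.leaf 0x470))))) (.node 8 (.node 4 (.node 2 (.node 1 (.leaf 0x471) (.leaf 0x472)) (.node 1 (.leaf 0x473) (.leaf 0x474))) (.node 2 (.node 1 (.leaf 0x475) (.leaf 0x476)) (.node 1 (.leaf 0x477) (.leaf 0x478)))) (.node 4 (.node 2 (.node 1 (.leaf 0x479) (.leaf 0x47a)) (.node 1 (.leaf 0x47b) (.leaf 0x47c))) (.node 2 (.node 1 (.leaf 0x47d) (.leaf 0x47e)) (.node 1 (.leaf 0x47f) (.leaf 0x480)))))))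

def chainPos0_9 : Tree :=
  .node 64 (.node 32 (.node 16 (.node 8 (.node 4 (.node 2 (.node 1 (.leaf 0x481) (.leaf 0x482)) (.node 1 (.leaf 0x483) (.leaf 0x484))) (.node 2 (.node 1 (.leaf 0x485) (.leaf 0x486)) (.node 1 (.leaf 0x487) (.leaf 0x488)))) (.node 4 (.node 2 (.node 1 (.leaf 0x489) (.leaf 0x48a)) (.node 1 (.leaf 0x48b) (.leaf 0x48c))) (.node 2 (.node 1 (.leaf 0x48d) (.leaf 0x48e)) (.node 1 (.leaf 0x48f) (.leaf 0x490))))) (.node 8 (.node 4 (.node 2 (.node 1 (.leaf 0x491) (.leaf 0x492)) (.node 1 (.leaf 0x493) (.leaf 0x494))) (.node 2 (.node 1 (.leaf 0x495) (.leaf 0x496)) (.node 1 (.leaf 0x497) (.leaf 0x498)))) (.node 4 (.node 2 (.node 1 (.leaf 0x499) (.leaf 0x49a)) (.node 1 (.leaf 0x49b) (.leaf 0x49c))) (.node 2 (.node 1 (.leaf 0x49d) (.leaf 0x49e)) (.node 1 (.leaf 0x49f) (.leaf 0x4a0)))))) (.node 16 (.node 8 (.node 4 (.node 2 (.node 1 (.leaf 0x4a1) (.leaf 0x4a2))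 (.node 1 (.leaf 0x4a3) (.leaf 0x4a4))) (.node 2 (.node 1 (.leaf 0x4a5) (.leaf 0x4a6)) (.node 1 (.leaf 0x4a7) (.leaf 0x4a8)))) (.node 4 (.node 2 (.node 1 (.leaf 0x4a9) (.leaf 0x4aa)) (.node 1 (.leaf 0x4ab) (.leaf 0x4ac))) (.node 2 (.node 1 (.leaf 0x4ad) (.leaf 0x4ae)) (.node 1 (.leaf 0x4af) (.leaf 0x4b0))))) (.node 8 (.node 4 (.node 2 (.node 1 (.leaf 0x4b1) (.leaf 0x4b2)) (.node 1 (.leaf 0x4b3) (.leaf 0x4b4))) (.node 2 (.node 1 (.leaf 0x4b5) (.leaf 0x4b6)) (.node 1 (.leaf 0x4b7) (.leaf 0x4b8)))) (.node 4 (.node 2 (.node 1 (.leaf 0x4b9) (.leaf 0x4ba)) (.node 1 (.leaf 0x4bb) (.leaf 0x4bc))) (.node 2 (.node 1 (.leaf 0x4bd) (.leaf 0x4be)) (.node 1 (.leaf 0x4bf) (.leaf 0x4c0))))))) (.node 32 (.node 16 (.node 8 (.node 4 (.node 2 (.node 1 (.leaf 0x4c1) (.leaf 0x4c2)) (.node 1 (.leaf 0x4c3) (.leaf 0x4c4))) (.node 2 (.node 1 (.leaf 0x4c5) (.leaf 0x4c6)) (.node 1 (.leaf 0x4c7)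 (.leaf 0x4c8)))) (.node 4 (.node 2 (.node 1 (.leaf 0x4c9) (.leaf 0x4ca)) (.node 1 (.leaf 0x4cb) (.leaf 0x4cc))) (.node 2 (.node 1 (.leaf 0x4cd) (.leaf 0x4ce)) (.node 1 (.leaf 0x4cf) (.leaf 0x4d0))))) (.node 8 (.node 4 (.node 2 (.node 1 (.leaf 0x4d1) (.leaf 0x4d2)) (.node 1 (.leaf 0x4d3) (.leaf 0x4d4))) (.node 2 (.node 1 (.leaf 0x4d5) (.leaf 0x4d6)) (.node 1 (.leaf 0x4d7) (.leaf 0x4d8)))) (.node 4 (.node 2 (.node 1 (.leaf 0x4d9) (.leaf 0x4da)) (.node 1 (.leaf 0x4db) (.leaf 0x4dc))) (.node 2 (.node 1 (.leaf 0x4dd) (.leaf 0x4de)) (.node 1 (.leaf 0x4df) (.leaf 0x4e0)))))) (.node 16 (.node 8 (.node 4 (.node 2 (.node 1 (.leaf 0x4e1) (.leaf 0x4e2)) (.node 1 (.leaf 0x4e3) (.leaf 0x4e4))) (.node 2 (.node 1 (.leaf 0x4e5) (.leaf 0x4e6)) (.node 1 (.leaf 0x4e7) (.leaf 0x4e8)))) (.node 4 (.node 2 (.node 1 (.leaf 0x4e9) (.leaf 0x4ea)) (.node 1 (.leaf 0x4eb) (.leaf 0x4ec))) (.node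 2 (.node 1 (.leaf 0x4ed) (.leaf 0x4ee)) (.node 1 (.leaf 0x4ef) (.leaf 0x4f0))))) (.node 8 (.node 4 (.node 2 (.node 1 (.leaf 0x4f1) (.leaf 0x4f2)) (.node 1 (.leaf 0x4f3) (.leaf 0x4f4))) (.node 2 (.node 1 (.leaf 0x4f5) (.leaf 0x4f6)) (.node 1 (.leaf 0x4f7) (.leaf 0x4f8)))) (.node 4 (.node 2 (.node 1 (.leaf 0x4f9) (.leaf 0x4fa)) (.node 1 (.leaf 0x4fb) (.leaf 0x4fc))) (.node 2 (.node 1 (.leaf 0x4fd) (.leaf 0x4fe)) (.node 1 (.leaf 0x4ff) (.leaf 0x500)))))))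

def chainPos0_10 : Tree :=
  .node 64 (.node 32 (.node 16 (.node 8 (.node 4 (.node 2 (.node 1 (.leaf 0x501) (.leaf 0x502)) (.node 1 (.leaf 0x503) (.leaf 0x504))) (.node 2 (.node 1 (.leaf 0x505) (.leaf 0x506)) (.node 1 (.leaf 0x507) (.leaf 0x508)))) (.node 4 (.node 2 (.node 1 (.leaf 0x509) (.leaf 0x50a)) (.node 1 (.leaf 0x50b) (.leaf 0x50c))) (.node 2 (.node 1 (.leaf 0x50d) (.leaf 0x50e)) (.node 1 (.leaf 0x50f) (.leaf 0x510))))) (.node 8 (.node 4 (.node 2 (.node 1 (.leaf 0x511) (.leaf 0x512)) (.node 1 (.leaf 0x513) (.leaf 0x514))) (.node 2 (.node 1 (.leaf 0x515) (.leaf 0x516)) (.node 1 (.leaf 0x517) (.leaf 0x518)))) (.node 4 (.node 2 (.node 1 (.leaf 0x519) (.leaf 0x51a)) (.node 1 (.leaf 0x51b) (.leaf 0x51c))) (.node 2 (.node 1 (.leaf 0x51d) (.leaf 0x51e)) (.node 1 (.leaf 0x51f) (.leaf 0x520)))))) (.node 16 (.node 8 (.node 4 (.node 2 (.node 1 (.leaf 0x521) (.leaf 0x522))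 (.node 1 (.leaf 0x523) (.leaf 0x524))) (.node 2 (.node 1 (.leaf 0x525) (.leaf 0x526)) (.node 1 (.leaf 0x527) (.leaf 0x528)))) (.node 4 (.node 2 (.node 1 (.leaf 0x529) (.leaf 0x52a)) (.node 1 (.leaf 0x52b) (.leaf 0x52c))) (.node 2 (.node 1 (.leaf 0x52d) (.leaf 0x52e)) (.node 1 (.leaf 0x52f) (.leaf 0x530))))) (.node 8 (.node 4 (.node 2 (.node 1 (.leaf 0x531) (.leaf 0x532)) (.node 1 (.leaf 0x533) (.leaf 0x534))) (.node 2 (.node 1 (.leaf 0x535) (.leaf 0x536)) (.node 1 (.leaf 0x537) (.leaf 0x538)))) (.node 4 (.node 2 (.node 1 (.leaf 0x539) (.leaf 0x53a)) (.node 1 (.leaf 0x53b) (.leaf 0x53c))) (.node 2 (.node 1 (.leaf 0x53d) (.leaf 0x53e)) (.node 1 (.leaf 0x53f) (.leaf 0x540))))))) (.node 32 (.node 16 (.node 8 (.node 4 (.node 2 (.node 1 (.leaf 0x541) (.leaf 0x542)) (.node 1 (.leaf 0x543) (.leaf 0x544))) (.node 2 (.node 1 (.leaf 0x545) (.leaf 0x546)) (.node 1 (.leaf 0x547)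 (.leaf 0x548)))) (.node 4 (.node 2 (.node 1 (.leaf 0x549) (.leaf 0x54a)) (.node 1 (.leaf 0x54b) (.leaf 0x54c))) (.node 2 (.node 1 (.leaf 0x54d) (.leaf 0x54e)) (.node 1 (.leaf 0x54f) (.leaf 0x550))))) (.node 8 (.node 4 (.node 2 (.node 1 (.leaf 0x551) (.leaf 0x552)) (.node 1 (.leaf 0x553) (.leaf 0x554))) (.node 2 (.node 1 (.leaf 0x555) (.leaf 0x556)) (.node 1 (.leaf 0x557) (.leaf 0x558)))) (.node 4 (.node 2 (.node 1 (.leaf 0x559) (.leaf 0x55a)) (.node 1 (.leaf 0x55b) (.leaf 0x55c))) (.node 2 (.node 1 (.leaf 0x55d) (.leaf 0x55e)) (.node 1 (.leaf 0x55f) (.leaf 0x560)))))) (.node 16 (.node 8 (.node 4 (.node 2 (.node 1 (.leaf 0x561) (.leaf 0x562)) (.node 1 (.leaf 0x563) (.leaf 0x564))) (.node 2 (.node 1 (.leaf 0x565) (.leaf 0x566)) (.node 1 (.leaf 0x567) (.leaf 0x568)))) (.node 4 (.node 2 (.node 1 (.leaf 0x569) (.leaf 0x56a)) (.node 1 (.leaf 0x56b) (.leaf 0x56c))) (.node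 2 (.node 1 (.leaf 0x56d) (.leaf 0x56e)) (.node 1 (.leaf 0x56f) (.leaf 0x570))))) (.node 8 (.node 4 (.node 2 (.node 1 (.leaf 0x571) (.leaf 0x572)) (.node 1 (.leaf 0x573) (.leaf 0x574))) (.node 2 (.node 1 (.leaf 0x575) (.leaf 0x576)) (.node 1 (.leaf 0x577) (.leaf 0x578)))) (.node 4 (.node 2 (.node 1 (.leaf 0x579) (.leaf 0x57a)) (.node 1 (.leaf 0x57b) (.leaf 0x57c))) (.node 2 (.node 1 (.leaf 0x57d) (.leaf 0x57e)) (.node 1 (.leaf 0x57f) (.leaf 0x580)))))))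

def chainPos0_11 : Tree :=
  .node 64 (.node 32 (.node 16 (.node 8 (.node 4 (.node 2 (.node 1 (.leaf 0x581) (.leaf 0x582)) (.node 1 (.leaf 0x583) (.leaf 0x584))) (.node 2 (.node 1 (.leaf 0x585) (.leaf 0x586)) (.node 1 (.leaf 0x587) (.leaf 0x588)))) (.node 4 (.node 2 (.node 1 (.leaf 0x589) (.leaf 0x58a)) (.node 1 (.leaf 0x58b) (.leaf 0x58c))) (.node 2 (.node 1 (.leaf 0x58d) (.leaf 0x58e)) (.node 1 (.leaf 0x58f) (.leaf 0x590))))) (.node 8 (.node 4 (.node 2 (.node 1 (.leaf 0x591) (.leaf 0x592)) (.node 1 (.leaf 0x593) (.leaf 0x594))) (.node 2 (.node 1 (.leaf 0x595) (.leaf 0x596)) (.node 1 (.leaf 0x597) (.leaf 0x598)))) (.node 4 (.node 2 (.node 1 (.leaf 0x599) (.leaf 0x59a)) (.node 1 (.leaf 0x59b) (.leaf 0x59c))) (.node 2 (.node 1 (.leaf 0x59d) (.leaf 0x59e)) (.node 1 (.leaf 0x59f) (.leaf 0x5a0)))))) (.node 16 (.node 8 (.node 4 (.node 2 (.node 1 (.leaf 0x5a1) (.leaf 0x5a2))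 (.node 1 (.leaf 0x5a3) (.leaf 0x5a4))) (.node 2 (.node 1 (.leaf 0x5a5) (.leaf 0x5a6)) (.node 1 (.leaf 0x5a7) (.leaf 0x5a8)))) (.node 4 (.node 2 (.node 1 (.leaf 0x5a9) (.leaf 0x5aa)) (.node 1 (.leaf 0x5ab) (.leaf 0x5ac))) (.node 2 (.node 1 (.leaf 0x5ad) (.leaf 0x5ae)) (.node 1 (.leaf 0x5af) (.leaf 0x5b0))))) (.node 8 (.node 4 (.node 2 (.node 1 (.leaf 0x5b1) (.leaf 0x5b2)) (.node 1 (.leaf 0x5b3) (.leaf 0x5b4))) (.node 2 (.node 1 (.leaf 0x5b5) (.leaf 0x5b6)) (.node 1 (.leaf 0x5b7) (.leaf 0x5b8)))) (.node 4 (.node 2 (.node 1 (.leaf 0x5b9) (.leaf 0x5ba)) (.node 1 (.leaf 0x5bb) (.leaf 0x5bc))) (.node 2 (.node 1 (.leaf 0x5bd) (.leaf 0x5be)) (.node 1 (.leaf 0x5bf) (.leaf 0x5c0))))))) (.node 32 (.node 16 (.node 8 (.node 4 (.node 2 (.node 1 (.leaf 0x5c1) (.leaf 0x5c2)) (.node 1 (.leaf 0x5c3) (.leaf 0x5c4))) (.node 2 (.node 1 (.leaf 0x5c5) (.leaf 0x5c6)) (.node 1 (.leaf 0x5c7)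 (.leaf 0x5c8)))) (.node 4 (.node 2 (.node 1 (.leaf 0x5c9) (.leaf 0x5ca)) (.node 1 (.leaf 0x5cb) (.leaf 0x5cc))) (.node 2 (.node 1 (.leaf 0x5cd) (.leaf 0x5ce)) (.node 1 (.leaf 0x5cf) (.leaf 0x5d0))))) (.node 8 (.node 4 (.node 2 (.node 1 (.leaf 0x5d1) (.leaf 0x5d2)) (.node 1 (.leaf 0x5d3) (.leaf 0x5d4))) (.node 2 (.node 1 (.leaf 0x5d5) (.leaf 0x5d6)) (.node 1 (.leaf 0x5d7) (.leaf 0x5d8)))) (.node 4 (.node 2 (.node 1 (.leaf 0x5d9) (.leaf 0x5da)) (.node 1 (.leaf 0x5db) (.leaf 0x5dc))) (.node 2 (.node 1 (.leaf 0x5dd) (.leaf 0x5de)) (.node 1 (.leaf 0x5df) (.leaf 0x5e0)))))) (.node 16 (.node 8 (.node 4 (.node 2 (.node 1 (.leaf 0x5e1) (.leaf 0x5e2)) (.node 1 (.leaf 0x5e3) (.leaf 0x5e4))) (.node 2 (.node 1 (.leaf 0x5e5) (.leaf 0x5e6)) (.node 1 (.leaf 0x5e7) (.leaf 0x5e8)))) (.node 4 (.node 2 (.node 1 (.leaf 0x5e9) (.leaf 0x5ea)) (.node 1 (.leaf 0x5eb) (.leaf 0x5ec))) (.node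 2 (.node 1 (.leaf 0x5ed) (.leaf 0x5ee)) (.node 1 (.leaf 0x5ef) (.leaf 0x5f0))))) (.node 8 (.node 4 (.node 2 (.node 1 (.leaf 0x5f1) (.leaf 0x5f2)) (.node 1 (.leaf 0x5f3) (.leaf 0x5f4))) (.node 2 (.node 1 (.leaf 0x5f5) (.leaf 0x5f6)) (.node 1 (.leaf 0x5f7) (.leaf 0x5f8)))) (.node 4 (.node 2 (.node 1 (.leaf 0x5f9) (.leaf 0x5fa)) (.node 1 (.leaf 0x5fb) (.leaf 0x5fc))) (.node 2 (.node 1 (.leaf 0x5fd) (.leaf 0x5fe)) (.node 1 (.leaf 0x5ff) (.leaf 0x600)))))))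

def chainPos0_12 : Tree :=
  .node 64 (.node 32 (.node 16 (.node 8 (.node 4 (.node 2 (.node 1 (.leaf 0x601) (.leaf 0x602)) (.node 1 (.leaf 0x603) (.leaf 0x604))) (.node 2 (.node 1 (.leaf 0x605) (.leaf 0x606)) (.node 1 (.leaf 0x607) (.leaf 0x608)))) (.node 4 (.node 2 (.node 1 (.leaf 0x609) (.leaf 0x60a)) (.node 1 (.leaf 0x60b) (.leaf 0x60c))) (.node 2 (.node 1 (.leaf 0x60d) (.leaf 0x60e)) (.node 1 (.leaf 0x60f) (.leaf 0x610))))) (.node 8 (.node 4 (.node 2 (.node 1 (.leaf 0x611) (.leaf 0x612)) (.node 1 (.leaf 0x613) (.leaf 0x614))) (.node 2 (.node 1 (.leaf 0x615) (.leaf 0x616)) (.node 1 (.leaf 0x617) (.leaf 0x618)))) (.node 4 (.node 2 (.node 1 (.leaf 0x619) (.leaf 0x61a)) (.node 1 (.leaf 0x61b) (.leaf 0x61c))) (.node 2 (.node 1 (.leaf 0x61d) (.leaf 0x61e)) (.node 1 (.leaf 0x61f) (.leaf 0x620)))))) (.node 16 (.node 8 (.node 4 (.node 2 (.node 1 (.leaf 0x621) (.leaf 0x622))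 (.node 1 (.leaf 0x623) (.leaf 0x624))) (.node 2 (.node 1 (.leaf 0x625) (.leaf 0x626)) (.node 1 (.leaf 0x627) (.leaf 0x628)))) (.node 4 (.node 2 (.node 1 (.leaf 0x629) (.leaf 0x62a)) (.node 1 (.leaf 0x62b) (.leaf 0x62c))) (.node 2 (.node 1 (.leaf 0x62d) (.leaf 0x62e)) (.node 1 (.leaf 0x62f) (.leaf 0x630))))) (.node 8 (.node 4 (.node 2 (.node 1 (.leaf 0x631) (.leaf 0x632)) (.node 1 (.leaf 0x633) (.leaf 0x634))) (.node 2 (.node 1 (.leaf 0x635) (.leaf 0x636)) (.node 1 (.leaf 0x637) (.leaf 0x638)))) (.node 4 (.node 2 (.node 1 (.leaf 0x639) (.leaf 0x63a)) (.node 1 (.leaf 0x63b) (.leaf 0x63c))) (.node 2 (.node 1 (.leaf 0x63d) (.leaf 0x63e)) (.node 1 (.leaf 0x63f) (.leaf 0x640))))))) (.node 32 (.node 16 (.node 8 (.node 4 (.node 2 (.node 1 (.leaf 0x641) (.leaf 0x642)) (.node 1 (.leaf 0x643) (.leaf 0x644))) (.node 2 (.node 1 (.leaf 0x645) (.leaf 0x646)) (.node 1 (.leaf 0x647)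 (.leaf 0x648)))) (.node 4 (.node 2 (.node 1 (.leaf 0x649) (.leaf 0x64a)) (.node 1 (.leaf 0x64b) (.leaf 0x64c))) (.node 2 (.node 1 (.leaf 0x64d) (.leaf 0x64e)) (.node 1 (.leaf 0x64f) (.leaf 0x650))))) (.node 8 (.node 4 (.node 2 (.node 1 (.leaf 0x651) (.leaf 0x652)) (.node 1 (.leaf 0x653) (.leaf 0x654))) (.node 2 (.node 1 (.leaf 0x655) (.leaf 0x656)) (.node 1 (.leaf 0x657) (.leaf 0x658)))) (.node 4 (.node 2 (.node 1 (.leaf 0x659) (.leaf 0x65a)) (.node 1 (.leaf 0x65b) (.leaf 0x65c))) (.node 2 (.node 1 (.leaf 0x65d) (.leaf 0x65e)) (.node 1 (.leaf 0x65f) (.leaf 0x660)))))) (.node 16 (.node 8 (.node 4 (.node 2 (.node 1 (.leaf 0x661) (.leaf 0x662)) (.node 1 (.leaf 0x663) (.leaf 0x664))) (.node 2 (.node 1 (.leaf 0x665) (.leaf 0x666)) (.node 1 (.leaf 0x667) (.leaf 0x668)))) (.node 4 (.node 2 (.node 1 (.leaf 0x669) (.leaf 0x66a)) (.node 1 (.leaf 0x66b) (.leaf 0x66c))) (.node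 2 (.node 1 (.leaf 0x66d) (.leaf 0x66e)) (.node 1 (.leaf 0x66f) (.leaf 0x670))))) (.node 8 (.node 4 (.node 2 (.node 1 (.leaf 0x671) (.leaf 0x672)) (.node 1 (.leaf 0x673) (.leaf 0x674))) (.node 2 (.node 1 (.leaf 0x675) (.leaf 0x676)) (.node 1 (.leaf 0x677) (.leaf 0x678)))) (.node 4 (.node 2 (.node 1 (.leaf 0x679) (.leaf 0x67a)) (.node 1 (.leaf 0x67b) (.leaf 0x67c))) (.node 2 (.node 1 (.leaf 0x67d) (.leaf 0x67e)) (.node 1 (.leaf 0x67f) (.leaf 0x680)))))))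

def chainPos0_13 : Tree :=
  .node 59 (.node 29 (.node 14 (.node 7 (.node 3 (.node 1 (.leaf 0x681) (.node 1 (.leaf 0x682) (.leaf 0x683))) (.node 2 (.node 1 (.leaf 0x684) (.leaf 0x685)) (.node 1 (.leaf 0x686) (.leaf 0x687)))) (.node 3 (.node 1 (.leaf 0x688) (.node 1 (.leaf 0x689) (.leaf 0x68a))) (.node 2 (.node 1 (.leaf 0x68b) (.leaf 0x68c)) (.node 1 (.leaf 0x68d) (.leaf 0x68e))))) (.node 7 (.node 3 (.node 1 (.leaf 0x68f) (.node 1 (.leaf 0x690) (.leaf 0x691))) (.node 2 (.node 1 (.leaf 0x692) (.leaf 0x693)) (.node 1 (.leaf 0x694) (.leaf 0x695)))) (.node 4 (.node 2 (.node 1 (.leaf 0x696) (.leaf 0x697)) (.node 1 (.leaf 0x698) (.leaf 0x699))) (.node 2 (.node 1 (.leaf 0x69a) (.leaf 0x69b)) (.node 1 (.leaf 0x69c) (.leaf 0x69d)))))) (.node 15 (.node 7 (.node 3 (.node 1 (.leaf 0x69e) (.node 1 (.leaf 0x69f) (.leaf 0x6a0))) (.node 2 (.node 1 (.leaf 0x6a1) (.leaf 0x6a2)) (.node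 1 (.leaf 0x6a3) (.leaf 0x6a4)))) (.node 4 (.node 2 (.node 1 (.leaf 0x6a5) (.leaf 0x6a6)) (.node 1 (.leaf 0x6a7) (.leaf 0x6a8))) (.node 2 (.node 1 (.leaf 0x6a9) (.leaf 0x6aa)) (.node 1 (.leaf 0x6ab) (.leaf 0x6ac))))) (.node 7 (.node 3 (.node 1 (.leaf 0x6ad) (.node 1 (.leaf 0x6ae) (.leaf 0x6af))) (.node 2 (.node 1 (.leaf 0x6b0) (.leaf 0x6b1)) (.node 1 (.leaf 0x6b2) (.leaf 0x6b3)))) (.node 4 (.node 2 (.node 1 (.leaf 0x6b4) (.leaf 0x6b5)) (.node 1 (.leaf 0x6b6) (.leaf 0x6b7))) (.node 2 (.node 1 (.leaf 0x6b8) (.leaf 0x6b9)) (.node 1 (.leaf 0x6ba) (.leaf 0x6bb))))))) (.node 29 (.node 14 (.node 7 (.node 3 (.node 1 (.leaf 0x6bc) (.node 1 (.leaf 0x6bd) (.leaf 0x6be))) (.node 2 (.node 1 (.leaf 0x6bf) (.leaf 0x6c0)) (.node 1 (.leaf 0x6c1) (.leaf 0x6c2)))) (.node 3 (.node 1 (.leaf 0x6c3) (.node 1 (.leaf 0x6c4) (.leaf 0x6c5))) (.node 2 (.node 1 (.leaf 0x6c6) (.leaf 0x6c7)) (.node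 1 (.leaf 0x6c8) (.leaf 0x6c9))))) (.node 7 (.node 3 (.node 1 (.leaf 0x6ca) (.node 1 (.leaf 0x6cb) (.leaf 0x6cc))) (.node 2 (.node 1 (.leaf 0x6cd) (.leaf 0x6ce)) (.node 1 (.leaf 0x6cf) (.leaf 0x6d0)))) (.node 4 (.node 2 (.node 1 (.leaf 0x6d1) (.leaf 0x6d2)) (.node 1 (.leaf 0x6d3) (.leaf 0x6d4))) (.node 2 (.node 1 (.leaf 0x6d5) (.leaf 0x6d6)) (.node 1 (.leaf 0x6d7) (.leaf 0x6d8)))))) (.node 15 (.node 7 (.node 3 (.node 1 (.leaf 0x6d9) (.node 1 (.leaf 0x6da) (.leaf 0x6db))) (.node 2 (.node 1 (.leaf 0x6dc) (.leaf 0x6dd)) (.node 1 (.leaf 0x6de) (.leaf 0x6df)))) (.node 4 (.node 2 (.node 1 (.leaf 0x6e0) (.leaf 0x6e1)) (.node 1 (.leaf 0x6e2) (.leaf 0x6e3))) (.node 2 (.node 1 (.leaf 0x6e4) (.leaf 0x6e5)) (.node 1 (.leaf 0x6e6) (.leaf 0x6e7))))) (.node 7 (.node 3 (.node 1 (.leaf 0x6e8) (.node 1 (.leaf 0x6e9) (.leaf 0x6ea))) (.node 2 (.node 1 (.leaf 0x6eb) (.leaf 0x6ec)) (.node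 1 (.leaf 0x6ed) (.leaf 0x6ee)))) (.node 4 (.node 2 (.node 1 (.leaf 0x6ef) (.leaf 0x6f0)) (.node 1 (.leaf 0x6f1) (.leaf 0x6f2))) (.node 2 (.node 1 (.leaf 0x6f3) (.leaf 0x6f4)) (.node 1 (.leaf 0x6f5) (.leaf 0x6f6)))))))

def chainPos0 : Tree :=
  .node 896 (.node 384 (.node 128 (chainPos0_0) (.node 128 (chainPos0_1) (chainPos0_2))) (.node 256 (.node 128 (chainPos0_3) (chainPos0_4)) (.node 128 (chainPos0_5) (chainPos0_6)))) (.node 384 (.node 128 (chainPos0_7) (.node 128 (chainPos0_8) (chainPos0_9))) (.node 256 (.node 128 (chainPos0_10) (chainPos0_11)) (.node 128 (chainPos0_12) (chainPos0_13))))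

def chain1_0 : List (List ℕ) :=
  [[], [0x2], [0x12], [0x32], [0x72127627], [0x7672], [0x312], [0x432], [0x372127627], [0x721263271232127], [0x72132712321272], [0x632437212343272, 0x7212], [0x243126343127627, 0x7213], [0x5432], [0x4372127627], [0x126136272123127, 0x72], [0x17213271232127], [0x243726343127627, 0x72123], [0x72362767263272], [0x212343463432732, 0x7], [0x723627212312712], [0x7213271232127], [0x132431263432712, 0x72], [0x132437212343272, 0x72126127572], [0x232437263432672, 0x721], [0x243126343127627, 0x57213], [0x132431263432672, 0x72], [0x54372127627], [0x346346272123127, 0x721234], [0x7236272123127], [0x132437212343272, 0x72], [0x76213271232127], [0x213243126343272, 0x7], [0x243726343127627, 0x572123], [0x434323271232127, 0x723436], [0x362767263127627, 0x72], [0x123243726343272, 0x72], [0x212343463432732, 0x57], [0x232437212343272, 0x7261], [0x462372643127627,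 0x723], [0x723621263127627], [0x132431263432712, 0x272], [0x132431263432712, 0x572], [0x324372123432712, 0x72126], [0x232437263432672, 0x5721], [0x232437263432672, 0x6721], [0x234623241231272, 0x212343463432757, 0x7], [0x132431263432672, 0x572], [0x123243726343272, 0x172], [0x346346272123127, 0x5721234], [0x47236272123127], [0x723462372643272], [0x132437212343272, 0x572], [0x132437212343272, 0x672], [0x263462767263272, 0x72132431], [0x213243126343272, 0x57], [0x434323271232127, 0x5723436], [0x634327372127627, 0x72123434], [0x324372123432672, 0x721], [0x613462372643272, 0x7212], [0x123243726343272, 0x572], [0x123243726343272, 0x672], [0x723462372643272, 0x1], [0x132437212343272, 0x72612127572], [0x462372643127627, 0x5723], [0x234364343212732, 0x7], [0x612136272123127, 0x72], [0x434323271232127, 0x7213212726436], [0x132431263432712, 0x5272], [0x123243726343272, 0x72132127263],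 [0x346232412312712, 0x123434634327572, 0x72], [0x324372123432712, 0x721261275721], [0x324372123432672, 0x7212343463431], [0x232437263432672, 0x45721], [0x232437263432672, 0x65721], [0x123243726343272, 0x762], [0x234623241231272, 0x212343463432757, 0x37], [0x346232412327627, 0x123434634327572, 0x72], [0x123243726343272, 0x5172], [0x547236272123127], [0x234313271232127, 0x7213243721], [0x723462372643272, 0x5], [0x723462372643272, 0x6], [0x132437212343272, 0x6572], [0x263462767263272, 0x572132431], [0x343132712321272, 0x7213243126], [0x213243126343272, 0x457], [0x634327372127627, 0x572123434], [0x232437263432712, 0x721], [0x462372643127627, 0x721327123213], [0x324372123432672, 0x5721], [0x343132712321272, 0x72123243726], [0x431263271232127, 0x72132431263], [0x723462372643272, 0x721261275], [0x462767263127627, 0x72132431263], [0x123243726343272, 0x4572], [0x123243726343272,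 0x6572], [0x723462372643272, 0x51], [0x123243726343272, 0x72362767263], [0x623462372643272, 0x7], [0x234364343212732, 0x57], [0x432136272123127, 0x72343643], [0x434323271232127, 0x127263275723436, 0x72132], [0x123243726343272, 0x721276], [0x434323271232127, 0x212343275723436, 0x72132437], [0x123243726343272, 0x213212726327572, 0x7], [0x346232412312712, 0x123434634327572, 0x372], [0x324372123432712, 0x234346343275721, 0x721], [0x324372123432672, 0x57212343463431], [0x343132712321272, 0x72127613243126], [0x723462372643272, 0x123243726343275, 0x72], [0x346346272123127, 0x127263275721234, 0x721234346343132], [0x123243726343272, 0x767572], [0x232437263432712, 0x243126343275721, 0x47213], [0x723462372643272, 0x437263436121275, 0x721232], [0x643132712321272, 0x321275723462372, 0x723436434], [0x234313271232127, 0x57213243721], [0x346232412327627, 0x72132712321], [0x723462372643272,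 0x45], [0x723462372643272, 0x65], [0x313243126343272, 0x72123434634], [0x263462767263272, 0x4572132431], [0x343132712321272, 0x57213243126], [0x123243726343272, 0x72123243726343], [0x213243126343272, 0x3457], [0x324372123432712, 0x721], [0x232437263432712, 0x5721], [0x134623241231272, 0x72672], [0x462372643127627, 0x132712321275723, 0x72], [0x747236272123127, 0x723627212312], [0x324372123432672, 0x45721], [0x343132712321272, 0x572123243726], [0x123243726343272, 0x7213243126343], [0x431263271232127, 0x572132431263], [0x723462372643272, 0x721234346343275], [0x462767263127627, 0x572132431263], [0x264327372127627, 0x72346237], [0x234623241231272, 0x312343463432757, 0x72346237264], [0x234623726432672, 0x234364343212757, 0x7], [0x723462372643272, 0x451], [0x123243726343272, 0x236276726327572, 0x7], [0x723462372643272, 0x7675], [0x213462372643272, 0x7261], [0x264313271232127,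 0x72346237], [0x434323271232127, 0x723627212313436], [0x432136272123127, 0x572343643], [0x747236272123127, 0x723627672632], [0x232437263432712, 0x234346343275721, 0x721], [0x123243726343272, 0x72127627572], [0x134623241231272, 0x72132712321672]]

def chain1_1 : List (List ℕ) :=
  [[0x264313271232127, 0x634327572346237, 0x7212324372], [0x234623241231272, 0x434634367212757, 0x72123], [0x232437263432712, 0x243126343275721, 0x7213], [0x723462372643272, 0x123243726343275, 0x172], [0x723462372643272, 0x761234346343275, 0x7212], [0x343132712321272, 0x762757213243126, 0x7212], [0x723243126343272, 0x726], [0x134623241231272, 0x72362767263672], [0x234623726432672, 0x232437263432757, 0x721], [0x547236272123127, 0x72346237264327], [0x723462372643272, 0x123243726343275, 0x672], [0x213243126343272, 0x612343463432757, 0x72127], [0x232437263432712, 0x623241231275721, 0x72612134],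 [0x324372123432672, 0x243126343275721, 0x47213], [0x132437212343272, 0x726343612127572, 0x72123243], [0x346232412312712, 0x324372634327572, 0x7212], [0x123243726343272, 0x343643432127572, 0x72], [0x346232412327627, 0x213271232127572, 0x7], [0x263243126343272, 0x721], [0x723462372643272, 0x345], [0x343132712321272, 0x212757213243126, 0x7234364343], [0x313243126343272, 0x572123434634], [0x134623241231272, 0x72343643432], [0x234623241231272, 0x7], [0x234364343212732, 0x232437263432757, 0x721], [0x343132712321272, 0x457213243126], [0x123243726343272, 0x572123243726343], [0x324372123432672, 0x72343643432], [0x234623241231272, 0x232437263432757, 0x3721], [0x324372123432712, 0x5721], [0x346346272123127, 0x721321272631234], [0x232437263432712, 0x45721], [0x234623241231272, 0x7267212757], [0x134623241231272, 0x72612], [0x723462372643272, 0x721234346343275, 0x2], [0x547236272123127,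 0x7236272123127], [0x234623726432672, 0x7], [0x434323271232127, 0x726343275723436, 0x72123243], [0x343132712321272, 0x4572123243726], [0x123243726343272, 0x57213243126343], [0x134623241231272, 0x7213271232], [0x234623726432672, 0x212343463432757, 0x7], [0x723462372643272, 0x721234346343275, 0x3], [0x723462372643272, 0x212343463432751, 0x7], [0x264327372127627, 0x572346237], [0x346232412327627, 0x72], [0x132437212343272, 0x324372634327572, 0x47212], [0x346232412312712, 0x324372634327572, 0x76212], [0x264313271232127, 0x123127572346237, 0x7267213462324], [0x234364343212732, 0x324372123432757, 0x721], [0x263462767263272, 0x432127572132431, 0x72343643], [0x723462372643272, 0x726121275], [0x264313271232127, 0x572346237], [0x434323271232127, 0x721231275723436, 0x72362], [0x346232412312712, 0x72], [0x643132712321272, 0x723462372], [0x123243726343272, 0x723462372643], [0x232437263432712,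 0x723627672631], [0x547236272123127, 0x7236276726327], [0x126136272123127, 0x723462372643], [0x264313271232127, 0x634327572346237, 0x17212324372], [0x324372123432672, 0x234346343275721, 0x721], [0x234623241231272, 0x271232167212757, 0x7213], [0x462767263127627, 0x721324372123], [0x243126343127627, 0x72127613], [0x723462372643272, 0x232437263432675, 0x721], [0x723462372643272, 0x234623726432745, 0x7], [0x346232412327627, 0x346237264327572, 0x726721], [0x343132712321272, 0x327572123243726, 0x721324312634], [0x324372123432672, 0x243126343275721, 0x7213], [0x232437263432712, 0x243726343275721, 0x72123], [0x462372643127627, 0x243726343275723, 0x132437212343123, 0x72], [0x132431263432712, 0x324372634327572, 0x7212], [0x234623241231272, 0x643432167212757, 0x72343], [0x213243126343272, 0x7267212757], [0x234623241231272, 0x276726367212757, 0x7236], [0x234623726432712, 0x7],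 [0x312343463432732, 0x7213212726], [0x126136272123127, 0x72123243726343], [0x234623726432672, 0x232437263432757, 0x1721], [0x234623241231272, 0x324372634327457, 0x7212], [0x234623726432712, 0x134623726432757, 0x72672], [0x123243726343272, 0x324372634327572, 0x212324372634312, 0x7], [0x346346272123127, 0x372643275721234, 0x723462], [0x134623241231272, 0x327572343643432, 0x7212324372634], [0x346232412312712, 0x324372634327572, 0x67212], [0x213243126343272, 0x324372123432757, 0x1721], [0x234623241231272, 0x324372123432757, 0x723627672631], [0x234623241231272, 0x324123167212757, 0x7267213462], [0x213243126343272, 0x324372123432757, 0x7212761], [0x132437212343272, 0x324372634327572, 0x7212], [0x213243126343272, 0x324372123432757, 0x721], [0x343132712321272, 0x327572123243726, 0x7212324372634], [0x213243126343272, 0x212343463432757, 0x27], [0x213243126343272, 0x7212612757],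 [0x234623726432672, 0x132431263432757, 0x72], [0x343132712321272, 0x212757213243126, 0x37234364343], [0x346232412327627, 0x343643432127572, 0x72], [0x134623241231272, 0x572343643432], [0x234623241231272, 0x57], [0x234623241231272, 0x232437263432757, 0x721], [0x234623241231272, 0x312343463432757, 0x7236276726], [0x234364343212732, 0x232437263432757, 0x6721], [0x643132712321272, 0x343275723462372, 0x721234346], [0x324372123432672, 0x572343643432], [0x213243126343272, 0x324372123432757, 0x72126], [0x324372123432672, 0x243126343275721, 0x27213], [0x243726343127627, 0x721234327572123, 0x7213243], [0x234313271232127, 0x432757213243721, 0x721324372123], [0x346346272123127, 0x127263275721234, 0x72132], [0x213243126343272, 0x324372123432757, 0x721321272631], [0x234623241231272, 0x72672127457], [0x234623241231272, 0x7261212757], [0x434323271232127, 0x726343275723436, 0x572123243],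 [0x232437263432672, 0x436434321275721, 0x723], [0x234623726432672, 0x57], [0x123243726343272, 0x757213243126343, 0x721232437263432], [0x264313271232127, 0x634327572346237, 0x721262324372], [0x123243726343272, 0x346237264327572, 0x726721], [0x723462372643272, 0x234364343212751, 0x7], [0x234623241231272, 0x721327123212757], [0x234623726432672, 0x212343463432757, 0x37], [0x132437212343272, 0x126343612127572, 0x7213243], [0x234313271232127, 0x432757213243721, 0x123431232437263, 0x721324372], [0x234364343212732, 0x232437263432757, 0x7621], [0x123243726343272, 0x234346343267572, 0x721], [0x346232412327627, 0x572], [0x434323271232127, 0x126343275723436, 0x57213243], [0x723462372643272, 0x132437212343275, 0x72132127263], [0x123243726343272, 0x123434634327572, 0x72123243726343], [0x723462372643272, 0x431263431261275, 0x72132], [0x264313271232127, 0x123127572346237, 0x7261213462324],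 [0x431263271232127, 0x327572132431263, 0x7212324372634], [0x723462372643272, 0x723436434321275], [0x213243126343272, 0x372634312612757, 0x7212324], [0x123243726343272, 0x123434634327572, 0x72], [0x324372123432672, 0x436434321275721, 0x723], [0x346232412312712, 0x572], [0x643132712321272, 0x5723462372], [0x123243726343272, 0x5723462372643], [0x232437263432712, 0x362767263275721, 0x72], [0x324372123432672, 0x723627672631], [0x232437263432672, 0x7234623726431], [0x346232412327627, 0x324372634327572, 0x721262], [0x723462372643272, 0x234623726432745, 0x17], [0x132437212343272, 0x243721234327572, 0x726723], [0x346346272123127, 0x127263275721234, 0x7234364343232], [0x462767263127627, 0x5721324372123], [0x243126343127627, 0x7212762757213], [0x234623241231272, 0x324372123432757, 0x7212343463431]]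

def chain1_2 : List (List ℕ) :=
  [[0x434323271232127, 0x372643275723436, 0x723462], [0x123243726343272, 0x346237264327572, 0x472], [0x234623726432712, 0x232437263432757, 0x721324372123431], [0x324372123432712, 0x436434321275721, 0x72362126], [0x343132712321272, 0x127572123243726, 0x236212643643432, 0x7], [0x346232412327627, 0x346237264327572, 0x726121], [0x243726343127627, 0x721234327572123, 0x17213243], [0x234623241231272, 0x312634367212757, 0x721324], [0x132431263432712, 0x346237264327572, 0x726121], [0x462372643127627, 0x243726343275723, 0x721234346343123], [0x723462372643272, 0x134623241231275, 0x72612], [0x132437212343272, 0x243721234327572, 0x57213], [0x324372123432712, 0x243126343275721, 0x7213], [0x432136272123127, 0x264327572343643, 0x72346237], [0x723462372643272, 0x437263431261275, 0x721232], [0x232437263432712, 0x436434321275721, 0x723], [0x324372123432672,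 0x462372643275721, 0x7267213], [0x234623726432712, 0x57], [0x212343463432732, 0x721321272632757], [0x243126343127627, 0x346232412327613, 0x72], [0x462372643127627, 0x243726343275723, 0x721276123], [0x234623241231272, 0x313212726327457, 0x7213243721234], [0x723462372643272, 0x234623241231275, 0x27], [0x547236272123127, 0x212324372634327, 0x7], [0x547236272123127, 0x213243721234327, 0x37], [0x234623241231272, 0x324372634327457, 0x67212], [0x234623726432712, 0x134623726432757, 0x72612], [0x547236272123127, 0x313462324123127, 0x723627212], [0x462372643127627, 0x462372643275723, 0x7234364343213], [0x723462372643272, 0x213462372643275, 0x7261], [0x212343463432732, 0x232437263432757, 0x721321272631], [0x723462372643272, 0x723462372643275], [0x243126343127627, 0x372123432757213, 0x4721324], [0x213243126343272, 0x324372123432757, 0x7621], [0x723462372643272, 0x132437212343275,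 0x72362767263], [0x343132712321272, 0x327572123243726, 0x212761324312634, 0x7], [0x132437212343272, 0x324372634327572, 0x67212], [0x213243126343272, 0x232437263432757, 0x723627672631], [0x132437212343272, 0x324372634327572, 0x17212], [0x723462372643272, 0x213243126343275, 0x27], [0x213243126343272, 0x324372123432757, 0x6721], [0x723462372643272, 0x132431263432675, 0x72], [0x547236272123127, 0x312324372634327, 0x7213243721234], [0x343132712321272, 0x327572123243726, 0x67212324372634], [0x213243126343272, 0x212343463432757, 0x7], [0x264313271232127, 0x634327572346237, 0x721324312], [0x643132712321272, 0x343275723462372, 0x7213243126], [0x723462372643272, 0x213243126343275, 0x7], [0x243126343127627, 0x437263432757213, 0x7212761232], [0x346232412312712, 0x343643432127572, 0x72], [0x346232412327627, 0x343643432127572, 0x372], [0x234623241231272, 0x457], [0x234623241231272,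 0x232437263432757, 0x1721], [0x723462372643272, 0x123243726343275, 0x72132127263], [0x234623241231272, 0x232437263432757, 0x6721], [0x243726343127627, 0x721234327572123, 0x37213243], [0x723462372643272, 0x123243726343275, 0x72132437212343], [0x123243726343272, 0x324312634327572, 0x72672], [0x123243726343272, 0x323434634327572, 0x72346232412], [0x643132712321272, 0x343275723462372, 0x3721234346], [0x462372643127627, 0x232712321275723, 0x7234364343], [0x324372123432672, 0x623241231275721, 0x72126134], [0x723462372643272, 0x132437212343275, 0x324372123431276, 0x721], [0x243726343127627, 0x721234327572123, 0x76213243], [0x243726343127627, 0x721234327572123, 0x67213243], [0x234623241231272, 0x132431263432757, 0x272], [0x234623726432712, 0x324372123432757, 0x721], [0x132437212343272, 0x324312634327572, 0x721], [0x434323271232127, 0x726343275723436, 0x762123243], [0x234623241231272,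 0x234364343212757, 0x7], [0x123243726343272, 0x757213243126343, 0x72132431263432], [0x346232412312712, 0x324372634327572, 0x213243721234312, 0x7], [0x324372123432712, 0x243126343275721, 0x72123434634313], [0x234623726432672, 0x457], [0x346232412327627, 0x324372634327572, 0x47212], [0x346232412327627, 0x324372634327572, 0x17212], [0x264313271232127, 0x234327572346237, 0x7213243721], [0x234313271232127, 0x432757213243721, 0x572132431263], [0x723462372643272, 0x623243726343275, 0x7212], [0x324372123432672, 0x436434321275721, 0x7236276726], [0x234623241231272, 0x324372123432757, 0x6721], [0x263462767263272, 0x634327572132431, 0x72123434], [0x723462372643272, 0x234364343212751, 0x37], [0x234623241231272, 0x721234367212757, 0x726123243], [0x434323271232127, 0x126343275723436, 0x7213243], [0x723462372643272, 0x232437212343275, 0x721327123], [0x634327372127627, 0x634327572123434,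 0x721324312], [0x243726343127627, 0x312634327572123, 0x721324], [0x213243126343272, 0x236276726327457, 0x7], [0x723462372643272, 0x431263431261275, 0x572132], [0x234623241231272, 0x346232412312757, 0x1726721], [0x346232412327627, 0x4572], [0x132437212343272, 0x346237264327572, 0x721261], [0x212343463432732, 0x132431263432757, 0x572], [0x243126343127627, 0x372123432757213, 0x721324], [0x263462767263272, 0x634327572132431, 0x721324312], [0x243126343127627, 0x372123432757213, 0x6721324], [0x723462372643272, 0x213243126343275, 0x47], [0x243126343127627, 0x372123432757213, 0x7621324], [0x343132712321272, 0x432757213243126, 0x72132431263], [0x132431263432672, 0x324312634327572, 0x721], [0x234623241231272, 0x234623726432757, 0x47], [0x264313271232127, 0x634327572346237, 0x4721324312], [0x243126343127627, 0x623726432757213, 0x72612134], [0x132437212343272, 0x726343126127572,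 0x72123243], [0x346232412312712, 0x4572], [0x723462372643272, 0x723436434321275, 0x3], [0x346346272123127, 0x726343275721234, 0x437212343123243, 0x72132], [0x234623241231272, 0x346232412312757, 0x726721], [0x643132712321272, 0x45723462372], [0x343132712321272, 0x127572123243726, 0x72343643432], [0x213243126343272, 0x232437263432757, 0x723462324123], [0x324372123432672, 0x362767263275721, 0x72], [0x243126343127627, 0x437212343127613, 0x72132], [0x264313271232127, 0x234327572346237, 0x434634313243721, 0x72123], [0x346232412327627, 0x324372634327572, 0x72123434634312], [0x343132712321272, 0x212757213243126, 0x72123243724343], [0x132437212343272, 0x243721234327572, 0x7213], [0x324372123432712, 0x243126343275721, 0x47213], [0x324372123432672, 0x436434321275721, 0x72362126], [0x132437212343272, 0x243721234327572, 0x726123], [0x324372123432712, 0x436434321275721, 0x723],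 [0x232437263432672, 0x234346343275721, 0x723462324123], [0x232437263432672, 0x234346343275721, 0x721], [0x123243726343272, 0x243721234327572, 0x37213], [0x234623241231272, 0x237264361212757, 0x72346], [0x343132712321272, 0x762757213243126, 0x721324312634312], [0x234313271232127, 0x432757213243721, 0x721232437263], [0x434323271232127, 0x372643275723436, 0x5723462], [0x123243726343272, 0x346237264327572, 0x72], [0x132437212343272, 0x324312634327572, 0x7212343463431], [0x132437212343272, 0x324312634327572, 0x4721], [0x432136272123127, 0x264327572343643, 0x72123434636237], [0x643132712321272, 0x343275723462372, 0x212343123243726, 0x72132437], [0x232437263432672, 0x234346343275721, 0x7236212631], [0x346232412327627, 0x346237264327572, 0x723436434321], [0x462372643127627, 0x243126343275723, 0x72123434634313], [0x243726343127627, 0x324123127572123, 0x723462], [0x212343463432732,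 0x324372123432757, 0x721], [0x234623241231272, 0x324123167212757, 0x723462], [0x234623241231272, 0x213212726327457, 0x7], [0x132431263432712, 0x346237264327572, 0x723436434321], [0x232437263432712, 0x243726343275721, 0x762123], [0x234623726432712, 0x232437263432757, 0x721], [0x432136272123127, 0x634327572343643, 0x7212324372], [0x346346272123127, 0x212343275721234, 0x372132437], [0x723462372643272, 0x134623241231275, 0x72343643432], [0x723462372643272, 0x134623241231275, 0x72672], [0x123243726343272, 0x623241231276572, 0x7234], [0x723462372643272, 0x132437212343275, 0x572]]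

def chain1_3 : List (List ℕ) :=
  [[0x123243726343272, 0x462324123127572, 0x723], [0x213243126343272, 0x232437263432757, 0x721232437263431], [0x213243126343272, 0x726364343212757, 0x7234623], [0x123243726343272, 0x462324123127572, 0x7261213], [0x243726343127627, 0x372634327572123, 0x213212726312324, 0x7], [0x723462372643272, 0x234623241231275, 0x7], [0x213243126343272, 0x234364343212757, 0x7], [0x232437263432712, 0x436434321275721, 0x3723], [0x123243726343272, 0x462324123127572, 0x7212613], [0x123243726343272, 0x243721234327572, 0x57213], [0x346232412327627, 0x243726343274572, 0x72123], [0x634327372127627, 0x634327572123434, 0x7212324372], [0x723462372643272, 0x134623241231275, 0x72126], [0x234313271232127, 0x432757213243721, 0x4721232437263], [0x213243126343272, 0x243721234327457, 0x7213], [0x234313271232127, 0x432757213243721, 0x234364342437263, 0x7], [0x547236272123127,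 0x213243721234327, 0x7], [0x547236272123127, 0x212324372634327, 0x67], [0x234623241231272, 0x232343463432757, 0x72672134623241], [0x234623726432712, 0x134623726432757, 0x72343643432], [0x123243726343272, 0x243721234327572, 0x72346237264313], [0x263462767263272, 0x634327572132431, 0x4721324312], [0x234623726432672, 0x234623726432757, 0x7], [0x547236272123127, 0x313243721234327, 0x7213212726], [0x723462372643272, 0x213462372643275, 0x7234364343], [0x462372643127627, 0x243726343275723, 0x723436434], [0x723462372643272, 0x723462372643275, 0x4], [0x723462372643272, 0x213462372643275, 0x7267], [0x346232412312712, 0x346237264327572, 0x726121], [0x234623726432712, 0x234623726432757, 0x7], [0x234623241231272, 0x234623726432757, 0x7], [0x723462372643272, 0x723462372643275, 0x2], [0x462372643127627, 0x462372643275723, 0x723], [0x434323271232127, 0x726343275723436, 0x132127263123243,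 0x72], [0x123243726343272, 0x243726343267572, 0x72123], [0x232437263432712, 0x623241231275721, 0x47234], [0x723462372643272, 0x132437212343275, 0x723621263], [0x324372123432672, 0x243126343275721, 0x72127613], [0x132437212343272, 0x324372634327572, 0x76212], [0x723462372643272, 0x372123431261275, 0x721324], [0x213243126343272, 0x232437263432757, 0x7236212631], [0x232437263432712, 0x243126343275721, 0x726123], [0x132437212343272, 0x636237264327572, 0x72123434], [0x723462372643272, 0x431234346343275, 0x721276132431263], [0x234623241231272, 0x264364343212757, 0x72362767], [0x723462372643272, 0x232412316121275, 0x72346], [0x723462372643272, 0x132431263432765, 0x72], [0x213243126343272, 0x72362126327457], [0x234623241231272, 0x232437263432757, 0x4721321272631], [0x213243126343272, 0x212343463432757, 0x37], [0x264327372127627, 0x634327572346237, 0x721324312], [0x132431263432712,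 0x243721234327572, 0x7213212726313], [0x723462372643272, 0x132431263432751, 0x72], [0x123243726343272, 0x243721234327572, 0x721263], [0x123243726343272, 0x313212726327572, 0x7212324372634], [0x234623241231272, 0x342437263432757, 0x7234364], [0x346232412312712, 0x343643432127572, 0x372], [0x213243126343272, 0x346237264327457, 0x72], [0x234623241231272, 0x3457], [0x243726343127627, 0x372634327572123, 0x47212324], [0x123243726343272, 0x572123243726343, 0x212324372634327, 0x7], [0x234623241231272, 0x232437263432757, 0x7621], [0x346232412327627, 0x324372634327572, 0x7212], [0x723462372643272, 0x123243726343275, 0x346237264327172, 0x72], [0x234623241231272, 0x271243463432757, 0x7213], [0x123243726343272, 0x757213243126343, 0x721324372123432], [0x212343463432732, 0x324372123432757, 0x6721], [0x234623726432712, 0x214372123432757, 0x723627], [0x234623726432672, 0x232437263432757,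 0x721321272631], [0x123243726343272, 0x324372634327572, 0x213243721234312, 0x7], [0x123243726343272, 0x324312634327572, 0x72612], [0x132431263432712, 0x243721234327572, 0x72123434634313], [0x132437212343272, 0x346237264327572, 0x72], [0x723462372643272, 0x613243126343275, 0x762127], [0x723462372643272, 0x132437212343275, 0x324372634327672, 0x7212], [0x462372643127627, 0x243726343275723, 0x723462372643123], [0x723462372643272, 0x232437263432745, 0x721], [0x232437263432712, 0x234346343275721, 0x723462324123], [0x213243126343272, 0x324372123432757, 0x436434321276721, 0x723], [0x324372123432672, 0x623241231275721, 0x7234], [0x346232412327627, 0x437243432127572, 0x721232], [0x234623241231272, 0x132431263432757, 0x72], [0x723462372643272, 0x437263436121275, 0x324372123431232, 0x721], [0x234623726432712, 0x324372123432757, 0x3721], [0x234364343212732, 0x132431263432757,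 0x72], [0x462372643127627, 0x243126343275723, 0x7213], [0x723462372643272, 0x324372123432751, 0x6721], [0x234623241231272, 0x234364343212757, 0x37], [0x723462372643272, 0x431263436121275, 0x72132], [0x324372123432712, 0x243726343275721, 0x372123], [0x234623241231272, 0x431327123212757, 0x72132431263], [0x234313271232127, 0x432757213243721, 0x72132431263], [0x723462372643272, 0x123243726343275, 0x721234346343], [0x324372123432712, 0x243126343275721, 0x721263], [0x123243726343272, 0x313212726327572, 0x721324312634], [0x123243726343272, 0x243721234327572, 0x7213212726313], [0x123243726343272, 0x324372634327572, 0x72127612], [0x264313271232127, 0x234327572346237, 0x17213243721], [0x723462372643272, 0x324372123432751, 0x721], [0x346232412327627, 0x324372634327572, 0x76212], [0x234623241231272, 0x324372123432757, 0x721], [0x132437212343272, 0x243721234327572, 0x72123434634313],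 [0x232437263432712, 0x243726343275721, 0x721276123], [0x213243126343272, 0x232437263432757, 0x3721], [0x723462372643272, 0x132437212343275, 0x721234346343], [0x234623241231272, 0x431327123212757, 0x72612134623726], [0x263462767263272, 0x634327572132431, 0x372123434], [0x123243726343272, 0x723621263274572], [0x343132712321272, 0x432757213243126, 0x463431324372123, 0x7212343], [0x213243126343272, 0x324372634327457, 0x7212], [0x234623241231272, 0x324372123432757, 0x721321272631], [0x234623241231272, 0x134623726432757, 0x72126], [0x462372643127627, 0x623241231275723, 0x72126134], [0x212343463432732, 0x132431263432757, 0x72], [0x243126343275432, 0x7213], [0x462372643127627, 0x243726343275723, 0x72123], [0x343132712321272, 0x432757213243126, 0x72126134623726], [0x723462372643272, 0x726436434321275, 0x7213212], [0x123243726343272, 0x437212343267572, 0x72132], [0x132437212343272,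 0x126343126127572, 0x7213243], [0x432754372127627, 0x72132431263], [0x234364343212732, 0x232437263432757, 0x721321272631], [0x343132712321272, 0x432757213243126, 0x572132431263], [0x132431263432672, 0x324312634327572, 0x5721], [0x723462372643272, 0x721437212343275, 0x72362], [0x343132712321272, 0x212757213243126, 0x362767264364343, 0x72], [0x346232412327627, 0x34572], [0x434323271232127, 0x127263275723436, 0x132437212343132, 0x72], [0x132431263432712, 0x243721234327572, 0x47213], [0x723462372643272, 0x313436434321275, 0x72346232412], [0x723462372643272, 0x134623241231275, 0x47213271232], [0x132437212343272, 0x346237264327572, 0x723436434321], [0x213243126343272, 0x132431263432757, 0x72], [0x132431263432672, 0x324372634327572, 0x7212], [0x123243726343272, 0x313212726327572, 0x72346237264], [0x723462372643272, 0x134364343212751, 0x7213271232], [0x234623726432712, 0x324372123432757,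 0x721321272631], [0x132431263432712, 0x324312634327572, 0x721], [0x123243726343272, 0x324312634327572, 0x721], [0x346232412312712, 0x462324123127572, 0x723], [0x234623241231272, 0x312634361212757, 0x721324], [0x123243726343272, 0x243126343276572, 0x7213], [0x243126343127627, 0x437263432757213, 0x7234364342], [0x243126343127627, 0x623726432757213, 0x72672134], [0x123243726343272, 0x275723462372643, 0x723462372643], [0x132437212343272, 0x324372634327572, 0x72362126312], [0x212343463432732, 0x431321272632757, 0x721232437263], [0x234623241231272, 0x234623726432757, 0x27], [0x346232412312712, 0x34572], [0x212343463432732, 0x232437263432757, 0x7212761]]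

def chain1_4 : List (List ℕ) :=
  [[0x132431263432712, 0x324372634327572, 0x213243721234312, 0x7], [0x234623726432672, 0x123623726432757, 0x721324372], [0x723462372643272, 0x312343463432751, 0x72362126], [0x213243126343272, 0x232431263432757, 0x7267], [0x234623241231272, 0x346232412312757, 0x726121], [0x432754372127627, 0x721232437263], [0x212343463432732, 0x232437263432757, 0x721324372123431], [0x723462372643272, 0x721327123212745], [0x234623241231272, 0x324372123432757, 0x7212761], [0x723462372643272, 0x132437212343275, 0x2762], [0x132437212343272, 0x243726343276572, 0x72123], [0x243726343127627, 0x372634327572123, 0x7212324], [0x432136272123127, 0x234327572343643, 0x436434323243721, 0x723], [0x434323271232127, 0x726343275723436, 0x721276123243], [0x132437212343272, 0x243721234327572, 0x47213], [0x723462372643272, 0x234623241231275, 0x7267212757], [0x132437212343272,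 0x243721234327572, 0x76213], [0x723462372643272, 0x132437212343275, 0x72], [0x132437212343272, 0x243721234327572, 0x67213], [0x234623241231272, 0x132431263432757, 0x72612127272], [0x132437212343272, 0x243721234327572, 0x723436434323], [0x723462372643272, 0x324372123432751, 0x7212343463431], [0x234623241231272, 0x463623726432757, 0x213212726312343, 0x7], [0x723462372643272, 0x234623241231275, 0x57], [0x324372123432712, 0x436434321275721, 0x3723], [0x232437263432672, 0x462372643275721, 0x7261213], [0x232437263432672, 0x234346343275721, 0x3721], [0x723462372643272, 0x324372123432751, 0x4721], [0x123243726343272, 0x243721234327572, 0x7213], [0x723462372643272, 0x132437212343275, 0x721276], [0x723462372643272, 0x132437212343275, 0x372], [0x123243726343272, 0x346237264327572, 0x172], [0x243726343275432, 0x72123], [0x723462372643272, 0x132437212343275, 0x172], [0x213243126343272,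 0x324123167212757, 0x723462], [0x123243726343272, 0x346237264327572, 0x572], [0x132437212343272, 0x324312634327572, 0x72126], [0x723462372643272, 0x126327123212745, 0x72], [0x723462372643272, 0x234623726432675, 0x7], [0x346232412327627, 0x362721231274572, 0x72], [0x234623726432712, 0x134623726432757, 0x72126], [0x213243126343272, 0x324372123432757, 0x7213271232], [0x213243126343272, 0x243724343212757, 0x72123], [0x346346272123127, 0x372643275721234, 0x721234346362], [0x263462767263272, 0x634327572132431, 0x37212324372], [0x346232412312712, 0x324312634327572, 0x72126], [0x462372643127627, 0x243126343275723, 0x721263], [0x243126343127627, 0x437263432757213, 0x721232], [0x123243726343272, 0x324372634327572, 0x17212], [0x346232412327627, 0x324372634327572, 0x67212], [0x132437212343272, 0x462372643276572, 0x723], [0x213243126343272, 0x214372123432757, 0x723627], [0x346232412327627,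 0x346237264327572, 0x72], [0x232437263432712, 0x623241231275721, 0x7234], [0x234623241231272, 0x431327123212757, 0x7234623726], [0x723462372643272, 0x613462372643275, 0x7212], [0x346232412327627, 0x243126343274572, 0x7213], [0x432136272123127, 0x634327572343643, 0x17212324372], [0x123243726343272, 0x437212343274572, 0x72132], [0x723462372643272, 0x346232412312675, 0x723436434321], [0x346346272123127, 0x212343275721234, 0x72132437], [0x123243726343272, 0x462324123127572, 0x4723], [0x723462372643272, 0x134623241231275, 0x572343643432], [0x723462372643272, 0x723462372643275, 0x34], [0x432136272123127, 0x634327572343643, 0x76212324372], [0x234623726432712, 0x234623726432757, 0x27], [0x723462372643272, 0x134623241231275, 0x372672], [0x462372643275432, 0x723], [0x123243726343272, 0x462372643276572, 0x723], [0x123243726343272, 0x462324123127572, 0x2723], [0x346346272123127,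 0x212343275721234, 0x7261232437], [0x123243726343272, 0x462324123127572, 0x7234364343213], [0x346346272123127, 0x726343275721234, 0x72123243], [0x723462372643272, 0x234623241231275, 0x47], [0x213243126343272, 0x134364343212757, 0x7213271232], [0x346232412312712, 0x243721234327572, 0x721263], [0x132431263432712, 0x346237264327572, 0x72], [0x134623241231272, 0x327572343643432, 0x721324312634], [0x234623241231272, 0x346232412312757, 0x72], [0x723462372643272, 0x346232412312675, 0x72], [0x343132712321272, 0x432757213243126, 0x721232437263], [0x324372123432712, 0x437212343275721, 0x72132], [0x123243726343272, 0x243721234327572, 0x212324372634313, 0x7], [0x346232412312712, 0x437243432127572, 0x721232], [0x723462372643272, 0x324372434321275, 0x7212], [0x234313271232127, 0x432757213243721, 0x472132431263], [0x547236272123127, 0x612324372634327, 0x72127], [0x723462372643272,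 0x324312434321275, 0x721], [0x462372643127627, 0x243726343275723, 0x762123], [0x234623241231272, 0x324312634327457, 0x721], [0x547236272123127, 0x213243721234327, 0x17], [0x547236272123127, 0x212324372634327, 0x76], [0x723462372643272, 0x432321272632745, 0x72343643], [0x547236272123127, 0x213243721234327, 0x67], [0x346346272123127, 0x372643275721234, 0x7261213462], [0x234623241231272, 0x132431263432757, 0x721234346343], [0x234623726432672, 0x134623726432757, 0x72343643432], [0x432136272123127, 0x264327572343643, 0x726721346237], [0x234623241231272, 0x346237264327457, 0x72], [0x132437212343272, 0x346237264327572, 0x726121], [0x234364343212732, 0x234623726432757, 0x7], [0x123243726343272, 0x343643432127572, 0x72362721231], [0x346232412327627, 0x324312634327572, 0x7212343463431], [0x432136272123127, 0x234327572343643, 0x7213243721], [0x123243726343272, 0x324372634327572,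 0x72346237264312], [0x324372123432672, 0x234346343275721, 0x721232437263431], [0x723462372643272, 0x346232412312675, 0x472], [0x346346272123127, 0x726343275721234, 0x762123243], [0x723462372643272, 0x434243726343275, 0x723436], [0x346232412312712, 0x346237264327572, 0x726721], [0x723462372643272, 0x234623726432765, 0x7], [0x234623241231272, 0x234623726432757, 0x67], [0x346346272123127, 0x372643275721234, 0x234364343213462, 0x7], [0x132437212343272, 0x362324123127572, 0x72132437212], [0x432136272123127, 0x264327572343643, 0x436434321346237, 0x723], [0x123243726343272, 0x362767263274572, 0x72], [0x232437263432712, 0x243126343275721, 0x721263], [0x723462372643272, 0x327124346343275, 0x721232437263431], [0x346232412327627, 0x723621263274572], [0x723462372643272, 0x132437212343275, 0x72362126327172], [0x234623241231272, 0x324372123432757, 0x3721], [0x324372123432672, 0x243126343275721,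 0x726123], [0x213243126343272, 0x324372123432757, 0x72612], [0x234623241231272, 0x134364343212757, 0x243126346272123, 0x7213], [0x232437263432712, 0x243126343275721, 0x726723], [0x213243126343272, 0x324372123432757, 0x72343643432], [0x723462372643272, 0x134623241231275, 0x7213271232], [0x723462372643272, 0x721321272632745], [0x346346272123127, 0x212343275721234, 0x472132437], [0x264313271232127, 0x123127572346237, 0x327123213462324, 0x721], [0x232437263432712, 0x437212343275721, 0x72132], [0x232437263432712, 0x437212343275721, 0x762132], [0x234623241231272, 0x463623726432757, 0x7212343], [0x643132712321272, 0x231275723462372, 0x57234623241], [0x213243126343272, 0x312343463432757, 0x7236276726], [0x234623241231272, 0x264364343212757, 0x723621], [0x243726343127627, 0x721234327572123, 0x726723243], [0x723462372643272, 0x132431263432765, 0x272], [0x234623241231272, 0x232437263432757,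 0x721321272631], [0x243126343275432, 0x72123434634313], [0x343132712321272, 0x127457213243126, 0x723462324123], [0x132437212343272, 0x462324123127572, 0x723], [0x346232412312712, 0x324372634327572, 0x72362126312], [0x243126343127627, 0x623726432757213, 0x7234], [0x234623241231272, 0x271243463432757, 0x721263], [0x343132712321272, 0x432757213243126, 0x721324372123], [0x462767263127627, 0x327572132431263, 0x7213243721234], [0x243126343127627, 0x623726432757213, 0x57234], [0x243126343127627, 0x437263432757213, 0x212343463431232, 0x7], [0x123243726343272, 0x123434634327572, 0x723462372643]]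

def chain1_5 : List (List ℕ) :=
  [[0x343132712321272, 0x432757213243126, 0x57234623726], [0x462372643127627, 0x462372643275723, 0x721327123213], [0x234623241231272, 0x721234367212757, 0x7213243], [0x234364343212732, 0x346232412312757, 0x572], [0x346232412312712, 0x346237264327572, 0x72132712321], [0x343132712321272, 0x212757213243126, 0x723621264364343], [0x462372643127627, 0x623241231275723, 0x72612134], [0x232437263432712, 0x437212343275721, 0x572132], [0x723462372643272, 0x134623241231275, 0x72132712321612], [0x324372123432712, 0x234346343275721, 0x721321272631], [0x343132712321272, 0x432757213243126, 0x643432134623726, 0x72343], [0x234623241231272, 0x234623726432757, 0x234364343212767, 0x7], [0x123243726343272, 0x243721234327572, 0x67213], [0x263462767263272, 0x634327572132431, 0x7212324372], [0x234623241231272, 0x134623726432757, 0x72612], [0x346232412312712,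 0x346237264327572, 0x72], [0x723462372643272, 0x631234346343275, 0x723627672], [0x643132712321272, 0x231275723462372, 0x7234623241], [0x234623241231272, 0x313271232127457, 0x721324312634], [0x132437212343272, 0x324372634327572, 0x7213212726312], [0x346346272123127, 0x212343275721234, 0x462372643132437, 0x723], [0x723462372643272, 0x232437263432765, 0x721], [0x723462372643272, 0x232437263432751, 0x721], [0x212343463432732, 0x232431263432757, 0x7261], [0x643132712321272, 0x643275723462372, 0x723462372], [0x132437212343272, 0x346237264327572, 0x272], [0x723462372643272, 0x234623726432751, 0x7], [0x234623241231272, 0x232437263432757, 0x7236212631], [0x723462372643272, 0x213462372643275, 0x372123431327123, 0x721324], [0x723462372643272, 0x613243126343275, 0x172127], [0x723462372643272, 0x123243726343275, 0x343463462767263, 0x7212], [0x723462372643272, 0x327124346343275,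 0x721], [0x324372123432672, 0x234346343275721, 0x723462324123], [0x234623241231272, 0x324372123432757, 0x72612], [0x213243126343272, 0x324372123432757, 0x436434321271721, 0x723], [0x324372123432672, 0x243726343275721, 0x723436434], [0x343132712321272, 0x127572123243726, 0x723462324123], [0x213243126343272, 0x237264312612757, 0x72346], [0x234623241231272, 0x232437263432757, 0x7234623726431], [0x346232412312712, 0x643643432127572, 0x7236212], [0x234623241231272, 0x72362126327457], [0x346232412312712, 0x324312634327572, 0x721], [0x234623241231272, 0x132431263432757, 0x472], [0x346232412327627, 0x324312634327572, 0x721], [0x723462372643272, 0x431321272632745, 0x721232437263], [0x346232412327627, 0x313271232127572, 0x721324312634], [0x132437212343272, 0x243126343276572, 0x7213], [0x213243126343272, 0x213271232127457, 0x7], [0x432136272123127, 0x234327572343643, 0x721263243721],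 [0x123243726343272, 0x346276726327572, 0x7213243126], [0x123243726343272, 0x572123243726343, 0x721324312634327], [0x324372123432712, 0x243726343275721, 0x72123], [0x346346272123127, 0x372643275721234, 0x72132437212362], [0x234623241231272, 0x324372123432757, 0x5721], [0x431263271232127, 0x327572132431263, 0x721324312634], [0x234364343212732, 0x324372123432757, 0x721232437263431], [0x263462767263272, 0x432127572132431, 0x72132437212643], [0x434323271232127, 0x127263275723436, 0x213243126343132, 0x7], [0x213243126343272, 0x232437263432757, 0x72126], [0x723462372643272, 0x723627672632745], [0x234623241231272, 0x243721234327457, 0x7213], [0x234623241231272, 0x324372123432757, 0x4721], [0x234623241231272, 0x324372123432757, 0x1721], [0x723462372643272, 0x312343463432751, 0x7213212726], [0x723462372643272, 0x232437263432745, 0x723627672631], [0x723462372643272, 0x723627212312745],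 [0x213243126343272, 0x232437263432757, 0x721], [0x234623241231272, 0x312343463432757, 0x7213212726], [0x234623726432672, 0x232437263432757, 0x723627672631], [0x723462372643272, 0x213627672632745, 0x7267], [0x346232412312712, 0x324372634327572, 0x7236276726312], [0x723462372643272, 0x631234346343275, 0x7236212], [0x234623241231272, 0x313271232127457, 0x7213243721234], [0x723462372643272, 0x132437212343275, 0x346237264327172, 0x72], [0x234623241231272, 0x236272123127457, 0x7], [0x346346272123127, 0x212343275721234, 0x243726343132437, 0x72123], [0x212343463432732, 0x132431263432757, 0x272], [0x462372643127627, 0x243726343275723, 0x472123], [0x723462372643272, 0x631234346343275, 0x1721321272], [0x263462767263272, 0x634327572132431, 0x723627212323434], [0x213243126343272, 0x312343463432757, 0x7212324372634], [0x213243126343272, 0x132431263432757, 0x572], [0x132431263432672,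 0x324372634327572, 0x57212], [0x346232412312712, 0x243721234327572, 0x37213], [0x132431263432712, 0x243721234327572, 0x72127613], [0x643132712321272, 0x343275723462372, 0x72123243726], [0x132437212343272, 0x324372634327572, 0x7234623241232], [0x234623241231272, 0x213271232127457, 0x7], [0x132431263432712, 0x324312634327572, 0x5721], [0x123243726343272, 0x324312634327572, 0x5721], [0x324372123432672, 0x243726343275721, 0x372123], [0x723462372643272, 0x212362372643275, 0x72132437], [0x434323271232127, 0x726343275723436, 0x462372643123243, 0x723], [0x123243726343272, 0x462324123127572, 0x721327123213], [0x213243126343272, 0x232437263432757, 0x721324372123431], [0x462372643127627, 0x623241231275723, 0x7213271232134], [0x132431263432712, 0x243721234327572, 0x7213], [0x723462372643272, 0x631327123212745, 0x7236212], [0x723462372643272, 0x313436434321275, 0x272346232412],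 [0x132437212343272, 0x636237264327572, 0x721276123434], [0x263462767263272, 0x634327572132431, 0x72343643424372], [0x234623241231272, 0x232437263432757, 0x723462324123], [0x243126343127627, 0x431263432757213, 0x72132], [0x123243726343272, 0x243721234327572, 0x72362126313], [0x263462767263272, 0x634327572132431, 0x362126312324372, 0x72], [0x346232412312712, 0x243721234327572, 0x57213], [0x123243726343272, 0x726343127627572, 0x72123243], [0x212343463432732, 0x414372123432757, 0x72346232], [0x132437212343272, 0x437212343276572, 0x72132], [0x723462372643272, 0x613243126343275, 0x72127], [0x346232412312712, 0x643643432127572, 0x721321272], [0x346232412327627, 0x462324123127572, 0x723], [0x313243126343272, 0x327572123434634, 0x721324312634], [0x132437212343272, 0x462324123127572, 0x7261213], [0x346232412312712, 0x462324123127572, 0x5723], [0x643132712321272, 0x231275723462372,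 0x324372123623241, 0x721], [0x234623241231272, 0x324123161212757, 0x723462], [0x213243126343272, 0x312634312612757, 0x721324], [0x723462372643272, 0x631234346343275, 0x721321272], [0x243126343127627, 0x623726432757213, 0x47234], [0x234623241231272, 0x134623726432757, 0x7213271232], [0x723462372643272, 0x212362372643275, 0x243726343132437, 0x72123], [0x434323271232127, 0x126343275723436, 0x726723243], [0x234623241231272, 0x232437263432757, 0x362721231276721, 0x72], [0x123243726343272, 0x324372634327572, 0x7236276726312], [0x132437212343272, 0x324372634327572, 0x7236276726312], [0x123243726343272, 0x346237264327572, 0x72132712321], [0x243126343127627, 0x437263432757213, 0x721321272631232], [0x213243126343272, 0x324372123432757, 0x723627672631], [0x243726343127627, 0x372634327572123, 0x72127612324], [0x723462372643272, 0x72362126327451], [0x343132712321272, 0x327572123243726,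 0x634313243721234, 0x72123434], [0x212343463432732, 0x232437263432757, 0x3721], [0x343132712321272, 0x127572123243726, 0x721232437243432], [0x234623241231272, 0x123623726432757, 0x721324372], [0x343132712321272, 0x327457213243126, 0x72362126], [0x723462372643272, 0x312343463432751, 0x7236276726], [0x643132712321272, 0x343275723462372, 0x627672631234346, 0x723], [0x234623241231272, 0x346232412312757, 0x723436434321], [0x346232412312712, 0x462324123127572, 0x721327123213], [0x346232412327627, 0x343643432127572, 0x7234623241231], [0x123243726343272, 0x313212726327572, 0x7213243721234], [0x346232412327627, 0x313271232127572, 0x7212324372634], [0x132437212343272, 0x212343126127572, 0x72132437], [0x234623726432712, 0x132431263432757, 0x272], [0x723462372643272, 0x134623241231275, 0x372634313271232, 0x7212324], [0x723462372643272, 0x132437212343275, 0x762], [0x243726343127627,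 0x372634327572123, 0x67212324], [0x123243726343272, 0x362721231274572, 0x726121], [0x723462372643272, 0x123234346343275, 0x72672136272]]

def chain1_6 : List (List ℕ) :=
  [[0x723462372643272, 0x324372123432751, 0x72612], [0x132431263432712, 0x143721234327572, 0x7236272], [0x234623241231272, 0x123623726432757, 0x72612324372], [0x264327372127627, 0x234327572346237, 0x7213243721], [0x723462372643272, 0x132437212343275, 0x672], [0x343132712321272, 0x274572123243726, 0x723621263], [0x346346272123127, 0x212343275721234, 0x234364343232437, 0x7], [0x462372643127627, 0x243126343275723, 0x72127613], [0x213243126343272, 0x232437263432757, 0x2721], [0x723462372643272, 0x123234346343275, 0x7236272], [0x346232412327627, 0x132712321274572, 0x72], [0x723462372643272, 0x134623241231275, 0x123243726343672, 0x72], [0x264313271232127, 0x234327572346237, 0x436434323243721, 0x723], [0x132437212343272,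 0x324372634327572, 0x72346237264312], [0x234623241231272, 0x721234361212757, 0x7213243], [0x723462372643272, 0x346232412312675, 0x572], [0x723462372643272, 0x212362372643275, 0x762132437], [0x234623241231272, 0x372634367212757, 0x243721234312324, 0x7213], [0x234623241231272, 0x346276726327457, 0x72132437212], [0x213243126343272, 0x232437263432757, 0x437212343272721, 0x72132], [0x723462372643272, 0x612321272632745, 0x72], [0x234623241231272, 0x632431263432757, 0x7212], [0x723462372643272, 0x431327123212745, 0x7212343463], [0x234623726432712, 0x463623726432757, 0x7212343], [0x434323271232127, 0x212343275723436, 0x243726343132437, 0x72123], [0x346232412327627, 0x462324123127572, 0x721327123213], [0x243126343127627, 0x437263432757213, 0x5721232], [0x346232412327627, 0x324312634327572, 0x72612], [0x243126343127627, 0x437263432757213, 0x1721232], [0x123243726343272, 0x324372634327572,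 0x7212], [0x434323271232127, 0x241231275723436, 0x27234623], [0x462372643127627, 0x243126343275723, 0x726723], [0x123243726343272, 0x324372634327572, 0x76212], [0x434323271232127, 0x726343275723436, 0x362767263123243, 0x72], [0x234623241231272, 0x236232412312757, 0x7213243721], [0x723462372643272, 0x213462372643275, 0x4721327123], [0x213243126343272, 0x264364343212757, 0x723621], [0x123243726343272, 0x462372643275172, 0x723], [0x213243126343272, 0x232437263432757, 0x7621], [0x723462372643272, 0x346362372643275, 0x721234], [0x346232412312712, 0x243726343274572, 0x72123], [0x234623726432712, 0x132431263432757, 0x472], [0x123243726343272, 0x623241231274572, 0x7234], [0x213243126343272, 0x313212726327457, 0x721324312634], [0x346346272123127, 0x212343275721234, 0x672132437], [0x324372123432712, 0x437212343275721, 0x7267232], [0x324372123432712, 0x243726343275721, 0x72362767263123],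 [0x346346272123127, 0x212343275721234, 0x762132437], [0x234623726432712, 0x342437263432757, 0x7234364], [0x212343463432732, 0x123623726432757, 0x721324372], [0x343132712321272, 0x212757213243126, 0x213243721264343, 0x7], [0x547236272123127, 0x212346276726327, 0x72132437], [0x432136272123127, 0x234327572343643, 0x76213243721], [0x234313271232127, 0x432757213243721, 0x463431232437263, 0x7212343], [0x234623241231272, 0x324372123432757, 0x54721], [0x343132712321272, 0x327572123243726, 0x634313243721234, 0x7212324372], [0x213243126343272, 0x312343463432757, 0x7213212726], [0x234623726432712, 0x346232412312757, 0x72], [0x723462372643272, 0x7236212632745], [0x264313271232127, 0x634327572346237, 0x237264312324372, 0x72346], [0x547236272123127, 0x721236237264327, 0x7213243], [0x324372123432712, 0x437212343275721, 0x672132], [0x723462372643272, 0x372636434321275, 0x1723462],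 [0x723462372643272, 0x372636434321275, 0x721234346362], [0x723462372643272, 0x324372434321275, 0x67212], [0x432136272123127, 0x634327572343643, 0x7212761324312], [0x547236272123127, 0x613243721234327, 0x72127], [0x346346272123127, 0x127263275721234, 0x132437212343132, 0x72], [0x432136272123127, 0x234327572343643, 0x72127613243721], [0x547236272123127, 0x213243721234327, 0x76], [0x213243126343272, 0x232437263432757, 0x243726343273721, 0x72123], [0x432136272123127, 0x264327572343643, 0x726121346237], [0x234623726432712, 0x132431263432757, 0x721234346343], [0x213243126343272, 0x232437263432757, 0x7234623726431], [0x213243126343272, 0x462324123127457, 0x723], [0x547236272123127, 0x262324372634327, 0x721], [0x132437212343272, 0x346237264327572, 0x726721], [0x723462372643272, 0x431234346343275, 0x721232437263], [0x213243126343272, 0x231362126327457, 0x7234623241], [0x432136272123127,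 0x234327572343643, 0x17213243721], [0x234623241231272, 0x232343463432757, 0x7234623241], [0x432136272123127, 0x234327572343643, 0x47213243721], [0x723462372643272, 0x123243726343275, 0x4723621263], [0x232437263432712, 0x234346343275721, 0x721232437263431], [0x123243726343272, 0x275723462372643, 0x72132437212343], [0x234623241231272, 0x372634367212757, 0x7212324], [0x132437212343272, 0x462324123127572, 0x7234364343213], [0x232437263432672, 0x462372643275721, 0x4723], [0x324372123432672, 0x757212343463431, 0x7234623726432], [0x234623726432712, 0x324372123432757, 0x723627672631], [0x723462372643272, 0x437263436121275, 0x7212761232], [0x212343463432732, 0x234623726432757, 0x57], [0x346232412327627, 0x362767263274572, 0x72], [0x324372123432712, 0x436434321275721, 0x723627212313], [0x234623241231272, 0x313271232127457, 0x72346237264], [0x547236272123127, 0x312324372634327,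 0x7212324372634], [0x343132712321272, 0x212757213243126, 0x272123134364343, 0x7236], [0x263462767263272, 0x634327572132431, 0x437212343123434, 0x72132], [0x343132712321272, 0x127572123243726, 0x2723462324123], [0x723462372643272, 0x134623241231275, 0x37213271232], [0x346232412327627, 0x324372634327572, 0x234623726431262, 0x7], [0x234623241231272, 0x232437263432757, 0x324123136212631, 0x723462], [0x723462372643272, 0x213436434321275, 0x72612327123], [0x723462372643272, 0x134623241231275, 0x17213271232], [0x243126343127627, 0x437263432757213, 0x234623726431232, 0x7], [0x324372123432672, 0x436434321275721, 0x721327123213], [0x324372123432672, 0x462372643275721, 0x721327123213], [0x324372123432712, 0x234346343275721, 0x723627672631], [0x232437263432712, 0x437212343275721, 0x672132], [0x132431263432712, 0x243721234327572, 0x67213], [0x123243726343272, 0x324312634327572,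 0x72126], [0x213243126343272, 0x312343463432757, 0x72362126], [0x343132712321272, 0x274572123243726, 0x72132437212343], [0x346232412312712, 0x362767263274572, 0x72], [0x243726343127627, 0x312634327572123, 0x212343463431324, 0x7], [0x723462372643272, 0x123234346343275, 0x723462324], [0x462372643127627, 0x623241231275723, 0x7234], [0x243126343127627, 0x372123432757213, 0x7212761324], [0x212343463432732, 0x346232412312757, 0x726721], [0x243726343127627, 0x312634327572123, 0x72672324], [0x343132712321272, 0x432757213243126, 0x7234623726], [0x123243726343272, 0x324372634327572, 0x37212], [0x264313271232127, 0x123127572346237, 0x723462324], [0x234364343212732, 0x346232412312757, 0x72], [0x234364343212732, 0x232437263432757, 0x7236212631], [0x234623726432672, 0x346232412312757, 0x72], [0x213243126343272, 0x324372634327457, 0x7213212726312], [0x343132712321272, 0x432757213243126,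 0x1721324372123], [0x723462372643272, 0x723243126343275, 0x726], [0x234623726432672, 0x346232412312757, 0x572], [0x723462372643272, 0x372123436121275, 0x721324], [0x346232412312712, 0x123434634327572, 0x72123243726343], [0x723462372643272, 0x132437212343275, 0x72123243726343], [0x723462372643272, 0x313243126343275, 0x72123434634], [0x234623241231272, 0x431327123212757, 0x721232437263], [0x346232412327627, 0x346237264327572, 0x72132712321], [0x123243726343272, 0x372643127627572, 0x723462], [0x234623241231272, 0x321362126327457, 0x72132712], [0x462372643127627, 0x623241231275723, 0x72343643432134], [0x232437263432712, 0x243726343275721, 0x72362767263123], [0x723462372643272, 0x132437212343275, 0x232437263431276, 0x721], [0x212343463432732, 0x632431263432757, 0x7212], [0x243726343127627, 0x372634327572123, 0x76212324], [0x324372123432672, 0x462372643275721, 0x4723],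 [0x243726343127627, 0x312634327572123, 0x72612324], [0x234623241231272, 0x134623726432757, 0x72343643432], [0x346232412312712, 0x346237264327572, 0x472], [0x234623241231272, 0x134623726432757, 0x72672], [0x123243726343272, 0x643643432127572, 0x7236212], [0x234623241231272, 0x372634367212757, 0x17212324]]

def chain1_7 : List (List ℕ) :=
  [[0x243126343127627, 0x623726432757213, 0x7213271232134], [0x234623726432672, 0x324372123432757, 0x723627672631], [0x643132712321272, 0x643275723462372, 0x4723462372], [0x462372643127627, 0x623241231275723, 0x47234], [0x243726343127627, 0x312634327572123, 0x72126324], [0x234623241231272, 0x312343463432757, 0x7212324372634], [0x212343463432732, 0x324372123432757, 0x723627672631], [0x723462372643272, 0x123623241231275, 0x721324372], [0x213243126343272, 0x213212726327457, 0x7], [0x234623241231272, 0x232437263432757, 0x723627672631],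 [0x232437263432672, 0x243726343275721, 0x372123], [0x234623241231272, 0x726364343212757, 0x7234623], [0x123243726343272, 0x346237264327572, 0x721261], [0x234623241231272, 0x324372123432757, 0x72672], [0x723462372643272, 0x324372123432765, 0x72343643432], [0x132431263432712, 0x243721234327572, 0x72346237264313], [0x212343463432732, 0x234623726432757, 0x7], [0x213243126343272, 0x232437263432757, 0x1721], [0x346232412327627, 0x643643432127572, 0x7236212], [0x234623241231272, 0x232437263432757, 0x7212761], [0x234623241231272, 0x236276726327457, 0x7], [0x234623726432712, 0x132431263432757, 0x72], [0x123243726343272, 0x324372634327572, 0x721324312634312], [0x346232412327627, 0x324312634327572, 0x4721], [0x324372123432672, 0x126434321275721, 0x721324372], [0x343132712321272, 0x127572123243726, 0x721231343643432, 0x72362], [0x234623241231272, 0x312343463432757, 0x7213243721234],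 [0x547236272123127, 0x723462324123127, 0x2], [0x547236272123127, 0x313243721234327, 0x7236276726], [0x346232412312712, 0x324312634327572, 0x7212761], [0x234623726432672, 0x264364343212757, 0x72132127], [0x232437263432712, 0x234346343275721, 0x72132431263431], [0x547236272123127, 0x263243721234327, 0x721], [0x213243126343272, 0x232437263432757, 0x72132431263431], [0x234623726432712, 0x232431263432757, 0x7261], [0x434323271232127, 0x241231275723436, 0x236272123134623, 0x7], [0x123243726343272, 0x643643432127572, 0x723627672], [0x213243126343272, 0x232437263432757, 0x6721], [0x346232412327627, 0x424372634327572, 0x72343643], [0x234623726432672, 0x324372123432757, 0x5721], [0x234623241231272, 0x372634361212757, 0x7212324], [0x213243126343272, 0x232437263432757, 0x5721], [0x723462372643272, 0x123243126343275, 0x726], [0x234623241231272, 0x134364343212757, 0x7213271232],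 [0x243126343127627, 0x431263432757213, 0x7267232], [0x234623241231272, 0x372634361212757, 0x37212324], [0x343132712321272, 0x327572123243726, 0x57213243721234], [0x243126343127627, 0x234312762757213, 0x7213243721], [0x234364343212732, 0x232437263432757, 0x723627672631], [0x723462372643272, 0x312343463432751, 0x721324312634], [0x723462372643272, 0x134364343212751, 0x7236272123], [0x234623241231272, 0x123271232127457, 0x726], [0x234623241231272, 0x232437263432757, 0x234346343276721, 0x721], [0x232437263432712, 0x243726343275721, 0x72132127263123], [0x212343463432732, 0x431321272632757, 0x721324372123], [0x723462372643272, 0x132437212343275, 0x272123243726343], [0x234623241231272, 0x263462126327457, 0x721232437], [0x723462372643272, 0x721234346343275, 0x726721273], [0x346232412327627, 0x462324123127572, 0x2723], [0x234623241231272, 0x134364343212757, 0x76236272123],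 [0x234623726432672, 0x243724343212757, 0x72123], [0x346232412312712, 0x243721234327572, 0x7213], [0x643132712321272, 0x343275723462372, 0x172123243726], [0x234623241231272, 0x234623726432757, 0x7267212727], [0x234623241231272, 0x213271232127457, 0x37], [0x234623241231272, 0x264364343212757, 0x72132127], [0x234623241231272, 0x134364343212757, 0x7236272123], [0x232437263432672, 0x243726343275721, 0x472123], [0x234623241231272, 0x232437263432757, 0x7212343463431], [0x324372123432672, 0x243726343275721, 0x72123], [0x343132712321272, 0x327572123243726, 0x726123243721234], [0x232437263432672, 0x243726343275721, 0x172123], [0x723462372643272, 0x212362372643275, 0x672132437], [0x346232412312712, 0x424372634327572, 0x72343643], [0x123243726343272, 0x123434634327572, 0x72362767263], [0x723462372643272, 0x726436434321275, 0x7236276], [0x132437212343272, 0x324372634327572, 0x721262],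 [0x123243726343272, 0x243721234327572, 0x723436434323], [0x243126343127627, 0x372123432757213, 0x72343643432324], [0x234623726432672, 0x312343463432757, 0x72362126], [0x723462372643272, 0x132437212343275, 0x723462372643], [0x434323271232127, 0x241231275723436, 0x72672134623], [0x346232412327627, 0x462324123127572, 0x5723], [0x234623241231272, 0x346232412312757, 0x72132712321], [0x123243726343272, 0x243721234327572, 0x7236276726313], [0x234623241231272, 0x232437263432757, 0x72126321272631], [0x643132712321272, 0x632745723462372, 0x721321272], [0x234623241231272, 0x721234361212757, 0x723462324143], [0x346232412327627, 0x212643432127572, 0x72132437], [0x723462372643272, 0x213436434321275, 0x721327123], [0x723462372643272, 0x324372123432765, 0x721], [0x723462372643272, 0x613243126343275, 0x372127], [0x132437212343272, 0x241231612127572, 0x7234623], [0x232437263432672,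 0x243726343275721, 0x762123], [0x343132712321272, 0x327572123243726, 0x37213243721234], [0x212343463432732, 0x132431263432757, 0x721234346343], [0x132431263432712, 0x236237264327572, 0x7213243721], [0x132431263432712, 0x243721234327572, 0x7236276726313], [0x134623241231272, 0x127572343643432, 0x723462324123], [0x313243126343272, 0x127572123434634, 0x723462324123], [0x243126343127627, 0x437263432757213, 0x7621232], [0x234623726432712, 0x134623726432757, 0x7213271232], [0x723462372643272, 0x213436434321275, 0x72126327123], [0x123243726343272, 0x712434634327572, 0x72132], [0x134623241231272, 0x327572343643432, 0x7213243721234], [0x123243726343272, 0x324372634327572, 0x72362126312], [0x234623241231272, 0x232343463432757, 0x72362721], [0x723462372643272, 0x263243126343275, 0x721], [0x346232412327627, 0x123434634327572, 0x7213243126343], [0x723462372643272, 0x324372123432765,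 0x72126], [0x343132712321272, 0x274572123243726, 0x72362721231], [0x234623241231272, 0x726364343212757, 0x343643432134623, 0x72], [0x547236272123127, 0x313243721234327, 0x7212324372634], [0x343132712321272, 0x327572123243726, 0x721263243721234], [0x234623241231272, 0x134364343212757, 0x721263271232], [0x723462372643272, 0x132437212343275, 0x346237264327672, 0x72], [0x212343463432732, 0x232437263432757, 0x721], [0x212343463432732, 0x232437263432757, 0x7621], [0x132437212343272, 0x212343612127572, 0x572132437], [0x234623241231272, 0x123623726432757, 0x4721324372], [0x324372123432672, 0x462372643275721, 0x5723], [0x346232412327627, 0x437212343274572, 0x72132], [0x234623241231272, 0x134364343212757, 0x243726346272123, 0x72123], [0x234623726432672, 0x312343463432757, 0x7236276726], [0x547236272123127, 0x313243721234327, 0x72346237264], [0x123243726343272, 0x275723462372643,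 0x72123243726343], [0x346232412327627, 0x462324123127572, 0x7234364343213], [0x234623241231272, 0x134364343212757, 0x723462324123], [0x343132712321272, 0x327572123243726, 0x7213243721234], [0x324372123432672, 0x462372643275721, 0x723], [0x343132712321272, 0x327457213243126, 0x72346237264], [0x212343463432732, 0x232437263432757, 0x7234623726431], [0x234623241231272, 0x264364343212757, 0x721324312634621], [0x234623726432712, 0x346232412312757, 0x726721], [0x324372123432672, 0x234346343275721, 0x723627672631], [0x324372123432712, 0x263431261275721, 0x721232437], [0x232437263432712, 0x623241231275721, 0x7213271232134], [0x346232412327627, 0x324312634327572, 0x7212761], [0x213243126343272, 0x312343463432757, 0x721324312634], [0x123243726343272, 0x362721231274572, 0x72], [0x234623241231272, 0x134623726432757, 0x72362767263672], [0x264313271232127, 0x234327572346237, 0x726123243721],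 [0x723462372643272, 0x431234346343275, 0x7234623726], [0x324372123432672, 0x362372643275721, 0x72132437212], [0x346232412327627, 0x643643432127572, 0x721321272], [0x132437212343272, 0x324372634327572, 0x172346237264312], [0x234623726432712, 0x346232412312757, 0x572], [0x232437263432672, 0x437263432765721, 0x721232], [0x232437263432672, 0x243726343275721, 0x672123], [0x232437263432712, 0x243726343275721, 0x723462372643123]]

def chain1_8 : List (List ℕ) :=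
  [[0x123243726343272, 0x362324123127572, 0x672132437212], [0x213243126343272, 0x232343463432757, 0x212343463462721, 0x7], [0x723462372643272, 0x312343463432751, 0x72346237264], [0x723462372643272, 0x234623241231275, 0x346232412312757, 0x72], [0x243126343127627, 0x437263432757213, 0x7236212631232], [0x723462372643272, 0x372636434321275, 0x723462], [0x723462372643272, 0x431234346343275, 0x72132431263], [0x234623241231272, 0x232431263432757, 0x7261], [0x723462372643272, 0x123243726343275, 0x723621263], [0x434323271232127, 0x241231275723436, 0x7234623], [0x264313271232127, 0x634327572346237, 0x276726312324372, 0x7236], [0x723462372643272, 0x213462372643275, 0x721327123], [0x434323271232127, 0x726343275723436, 0x723621263123243], [0x234623241231272, 0x767263672127457, 0x72362], [0x243126343127627, 0x241232762757213, 0x7234623], [0x213243126343272, 0x264364343212757, 0x72362767],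 [0x547236272123127, 0x721324312634327, 0x2], [0x324372123432712, 0x243726343275721, 0x7212623], [0x324372123432712, 0x243126343275721, 0x726123], [0x234313271232127, 0x432757213243721, 0x346343132431263, 0x721234], [0x462767263127627, 0x275721324372123, 0x7234623241231], [0x723462372643272, 0x431321272632745, 0x7212343463], [0x434323271232127, 0x212343275723436, 0x243126343132437, 0x7213], [0x234623726432672, 0x312343463432757, 0x7212324372634], [0x324372123432672, 0x757212343463431, 0x721232437263432], [0x234623726432712, 0x346232412312757, 0x272], [0x432136272123127, 0x634327572343643, 0x721324312], [0x547236272123127, 0x272143721234327, 0x7236], [0x547236272123127, 0x761324312634327, 0x7212], [0x723462372643272, 0x243721234327451, 0x7213], [0x234623241231272, 0x643432167212757, 0x72132437212], [0x346346272123127, 0x126343275721234, 0x27213243], [0x234623241231272,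 0x132431263432757, 0x123434634327272, 0x72], [0x234623726432712, 0x132431263432757, 0x721276], [0x723462372643272, 0x213462372643275, 0x272123134364343, 0x7236], [0x324372123432712, 0x243726343275721, 0x762123], [0x232437263432672, 0x462372643275721, 0x723], [0x643132712321272, 0x643275723462372, 0x132437212362372, 0x72], [0x723462372643272, 0x123623241231275, 0x72612324372], [0x343132712321272, 0x327572123243726, 0x17213243721234], [0x243126343127627, 0x372123432757213, 0x72612324], [0x123243726343272, 0x123434634327572, 0x723621263], [0x212343463432732, 0x232437263432757, 0x6721], [0x213243126343272, 0x232437263432757, 0x7212761], [0x243726343127627, 0x372634327572123, 0x236276726312324, 0x7], [0x324372123432672, 0x462767263275721, 0x72132431263], [0x132431263432712, 0x324372634327572, 0x72362126312], [0x123243726343272, 0x323434634327572, 0x723627212], [0x132437212343272,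 0x324372634327572, 0x723462324123262], [0x723462372643272, 0x613243126343275, 0x72346232412327], [0x324372123432672, 0x234346343275721, 0x721324372123431], [0x346346272123127, 0x372643275721234, 0x721234361213462, 0x7213243], [0x723462372643272, 0x213462372643275, 0x213243721234361, 0x7], [0x346232412327627, 0x324372634327572, 0x132431263431262, 0x72], [0x213243126343272, 0x232343463432757, 0x436434321362721, 0x723], [0x234623241231272, 0x232437263432757, 0x434634627672631, 0x72123], [0x212343463432732, 0x232437263432757, 0x7236212631], [0x324372123432712, 0x234346343275721, 0x7236212631], [0x723462372643272, 0x313436434321275, 0x723627212], [0x723462372643272, 0x623243726343275, 0x72346237264312], [0x234623241231272, 0x434634367212757, 0x132437212343123, 0x72], [0x132431263432712, 0x324372634327572, 0x7236276726312], [0x643132712321272, 0x632745723462372, 0x723627672],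 [0x234623241231272, 0x323271232127457, 0x723436434], [0x263462767263272, 0x634327572132431, 0x362767263123434, 0x72], [0x123243726343272, 0x243721234327572, 0x726723], [0x123243726343272, 0x236237264327572, 0x7213243721], [0x643132712321272, 0x632745723462372, 0x7236212], [0x234364343212732, 0x346232412312757, 0x72132712321], [0x132431263432712, 0x324312634327572, 0x72672], [0x243126343127627, 0x623726432757213, 0x7212343463], [0x346232412312712, 0x143721234327572, 0x7236272], [0x234623241231272, 0x232437263432757, 0x72126], [0x723462372643272, 0x723243126343275, 0x7267216], [0x462372643127627, 0x243726343275723, 0x72362767263123], [0x123243726343272, 0x437212343276572, 0x72132], [0x346232412327627, 0x462324123127572, 0x7212613], [0x234623241231272, 0x346232412312757, 0x721261], [0x212343463432732, 0x346232412312757, 0x72], [0x324372123432672, 0x243726343275721, 0x272123],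 [0x346232412312712, 0x243721234327572, 0x723436434323], [0x434323271232127, 0x241231275723436, 0x721324372123623], [0x234623726432712, 0x236232412312757, 0x7213243721], [0x234623726432712, 0x324372123432757, 0x7234623726431], [0x324372123432672, 0x243726343275721, 0x172123], [0x213243126343272, 0x271243463432757, 0x7213], [0x234623241231272, 0x134623726432757, 0x237264313271232, 0x72346], [0x232437263432672, 0x243726343275721, 0x72123], [0x232437263432712, 0x234346343275721, 0x7236212631], [0x723462372643272, 0x324372123432765, 0x72612], [0x723462372643272, 0x132437212343275, 0x72132712321262], [0x723462372643272, 0x132437212343275, 0x132431263431276, 0x72], [0x132437212343272, 0x324372634327572, 0x72127612], [0x547236272123127, 0x213462324123127, 0x7267], [0x346346272123127, 0x127263275721234, 0x123243726343132, 0x72], [0x547236272123127, 0x723462324123127], [0x547236272123127,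 0x313243721234327, 0x72362126], [0x234623726432672, 0x324372123432757, 0x721], [0x234623241231272, 0x232431263432757, 0x7267], [0x432136272123127, 0x264327572343643, 0x132712321346237, 0x72], [0x213243126343272, 0x612343463432757, 0x132437212343127, 0x72], [0x243126343127627, 0x431263432757213, 0x7261232], [0x723462372643272, 0x212362372643275, 0x234364343232437, 0x7], [0x346232412327627, 0x431243432127572, 0x72132], [0x346232412327627, 0x324372634327572, 0x232437263431262, 0x721], [0x243126343127627, 0x372123432757213, 0x234623726431324, 0x7], [0x346232412327627, 0x623241231274572, 0x7234], [0x434323271232127, 0x241231275723436, 0x57234623], [0x234623241231272, 0x462324123127457, 0x723], [0x723462372643272, 0x324372123432765, 0x5721], [0x462767263127627, 0x275721324372123, 0x72132437212343], [0x213243126343272, 0x232343463432757, 0x72362721], [0x132437212343272,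 0x324372634327572, 0x762346237264312], [0x723462372643272, 0x126436434321275, 0x72362], [0x123243726343272, 0x243721234327572, 0x726123], [0x723462372643272, 0x324372123432751, 0x7234623726431], [0x346232412327627, 0x437212343274572, 0x721234346343132], [0x234623241231272, 0x134623726432757, 0x312634313271232, 0x721324], [0x123243726343272, 0x712434634327572, 0x472132], [0x723462372643272, 0x213436434321275, 0x343463431327123, 0x7212], [0x263462767263272, 0x634327572132431, 0x723621263123434], [0x723462372643272, 0x123623241231275, 0x343643432324372, 0x72], [0x213243126343272, 0x324312634327457, 0x721], [0x234623241231272, 0x243124343212757, 0x7213], [0x234623241231272, 0x134623726432757, 0x132437212343672, 0x72], [0x132437212343272, 0x212343612127572, 0x72132437], [0x212343463432732, 0x232437263432757, 0x5721], [0x243126343127627, 0x372123432757213, 0x726343276721324,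 0x72123243], [0x723462372643272, 0x123243726343275, 0x72362767263], [0x723462372643272, 0x212362372643275, 0x234346343132437, 0x721], [0x232437263432672, 0x243726343275721, 0x7212623], [0x723462372643272, 0x434243726343275, 0x721324372126], [0x234623241231272, 0x232437263432757, 0x634312343463431, 0x7212324372], [0x132437212343272, 0x324372634327572, 0x121346237264312, 0x726], [0x234623726432672, 0x324372123432757, 0x72672], [0x234623241231272, 0x312343463432757, 0x721324312634], [0x343132712321272, 0x127457213243126, 0x7236272123], [0x123243726343272, 0x362324123127572, 0x72132437212], [0x132437212343272, 0x243721234327572, 0x343123434634313, 0x7213243126], [0x132437212343272, 0x324372634327572, 0x623726432767212, 0x7234], [0x213243126343272, 0x312343463432757, 0x634312324372634, 0x7212324372], [0x213243126343272, 0x232343463432757, 0x472362721], [0x324372123432672,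 0x327572343643432, 0x7213243721234], [0x234623241231272, 0x132431263432757, 0x721276], [0x723462372643272, 0x324372123432765, 0x72672], [0x123243726343272, 0x143721234327572, 0x7236272], [0x547236272123127, 0x721324312634327], [0x213243126343272, 0x243721234327457, 0x7236276726313], [0x547236272123127, 0x312324372634327, 0x72362126], [0x346346272123127, 0x241231275721234, 0x7234623]]

def chain1_9 : List (List ℕ) :=
  [[0x346346272123127, 0x126343275721234, 0x7213243], [0x723462372643272, 0x123243726343275, 0x726431234346343, 0x7234623], [0x243126343127627, 0x234312762757213, 0x726123243721], [0x232437263432672, 0x243726343275721, 0x721276123], [0x123243726343272, 0x362324123127572, 0x346343132437212, 0x721234], [0x234623241231272, 0x726364343212757, 0x7212343463623], [0x723462372643272, 0x324372123432751, 0x721232437263431], [0x212343463432732, 0x232437263432757,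 0x723627672631], [0x643132712321272, 0x343275723462372, 0x372123431234346, 0x721324], [0x243126343127627, 0x372123432757213, 0x232437263431324, 0x721], [0x324372123432712, 0x234346343275721, 0x72132431263431], [0x432136272123127, 0x123127572343643, 0x723462324], [0x462372643127627, 0x132712321275723, 0x723462372643], [0x723462372643272, 0x123243726343275, 0x472362767263], [0x547236272123127, 0x126346276726327, 0x7213243]]

def chain1 : List (List ℕ) := unchunk ((((chain1_0 ++ chain1_1) ++ (chain1_2 ++ (chain1_3 ++ chain1_4))) ++ ((chain1_5 ++ chain1_6) ++ (chain1_7 ++ (chain1_8 ++ chain1_9)))))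

def chainPos1_0 : Tree :=
  .node 64 (.node 32 (.node 16 (.node 8 (.node 4 (.node 2 (.node 1 (.leaf 0x0) (.leaf 0x1)) (.node 1 (.leaf 0x2) (.leaf 0x3))) (.node 2 (.node 1 (.leaf 0x4) (.leaf 0x5)) (.node 1 (.leaf 0x6) (.leaf 0x7)))) (.node 4 (.node 2 (.node 1 (.leaf 0x8) (.leaf 0x9)) (.node 1 (.leaf 0xa) (.leaf 0xb))) (.node 2 (.node 1 (.leaf 0xc) (.leaf 0xd)) (.node 1 (.leaf 0xe) (.leaf 0xf))))) (.node 8 (.node 4 (.node 2 (.node 1 (.leaf 0x10) (.leaf 0x11)) (.node 1 (.leaf 0x12) (.leaf 0x13))) (.node 2 (.node 1 (.leaf 0x14) (.leaf 0x15)) (.node 1 (.leaf 0x16) (.leaf 0x17)))) (.node 4 (.node 2 (.node 1 (.leaf 0x18) (.leaf 0x19)) (.node 1 (.leaf 0x1a) (.leaf 0x1b))) (.node 2 (.node 1 (.leaf 0x1c) (.leaf 0x1d)) (.node 1 (.leaf 0x1e) (.leaf 0x1f)))))) (.node 16 (.node 8 (.node 4 (.node 2 (.node 1 (.leaf 0x20) (.leaf 0x21)) (.node 1 (.leaf 0x22) (.leaf 0x23))) (.node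 2 (.node 1 (.leaf 0x24) (.leaf 0x25)) (.node 1 (.leaf 0x26) (.leaf 0x27)))) (.node 4 (.node 2 (.node 1 (.leaf 0x28) (.leaf 0x29)) (.node 1 (.leaf 0x2a) (.leaf 0x2b))) (.node 2 (.node 1 (.leaf 0x2c) (.leaf 0x2d)) (.node 1 (.leaf 0x2e) (.leaf 0x0))))) (.node 8 (.node 4 (.node 2 (.node 1 (.leaf 0x2f) (.leaf 0x30)) (.node 1 (.leaf 0x31) (.leaf 0x32))) (.node 2 (.node 1 (.leaf 0x33) (.leaf 0x34)) (.node 1 (.leaf 0x35) (.leaf 0x36)))) (.node 4 (.node 2 (.node 1 (.leaf 0x37) (.leaf 0x38)) (.node 1 (.leaf 0x39) (.leaf 0x3a))) (.node 2 (.node 1 (.leaf 0x3b) (.leaf 0x3c)) (.node 1 (.leaf 0x3d) (.leaf 0x3e))))))) (.node 32 (.node 16 (.node 8 (.node 4 (.node 2 (.node 1 (.leaf 0x3f) (.leaf 0x40)) (.node 1 (.leaf 0x41) (.leaf 0x42))) (.node 2 (.node 1 (.leaf 0x43) (.leaf 0x44)) (.node 1 (.leaf 0x45) (.leaf 0x46)))) (.node 4 (.node 2 (.node 1 (.leaf 0x0) (.leaf 0x47)) (.node 1 (.leaf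 0x48) (.leaf 0x49))) (.node 2 (.node 1 (.leaf 0x0) (.leaf 0x4a)) (.node 1 (.leaf 0x4b) (.leaf 0x0))))) (.node 8 (.node 4 (.node 2 (.node 1 (.leaf 0x4c) (.leaf 0x0)) (.node 1 (.leaf 0x0) (.leaf 0x4d))) (.node 2 (.node 1 (.leaf 0x4e) (.leaf 0x4f)) (.node 1 (.leaf 0x50) (.leaf 0x51)))) (.node 4 (.node 2 (.node 1 (.leaf 0x52) (.leaf 0x53)) (.node 1 (.leaf 0x54) (.leaf 0x55))) (.node 2 (.node 1 (.leaf 0x56) (.leaf 0x57)) (.node 1 (.leaf 0x58) (.leaf 0x59)))))) (.node 16 (.node 8 (.node 4 (.node 2 (.node 1 (.leaf 0x5a) (.leaf 0x5b)) (.node 1 (.leaf 0x5c) (.leaf 0x0))) (.node 2 (.node 1 (.leaf 0x5d) (.leaf 0x5e)) (.node 1 (.leaf 0x5f) (.leaf 0x60)))) (.node 4 (.node 2 (.node 1 (.leaf 0x61) (.leaf 0x62)) (.node 1 (.leaf 0x63) (.leaf 0x64))) (.node 2 (.node 1 (.leaf 0x65) (.leaf 0x66)) (.node 1 (.leaf 0x67) (.leaf 0x68))))) (.node 8 (.node 4 (.node 2 (.node 1 (.leaf 0x0) (.leaf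 0x69)) (.node 1 (.leaf 0x6a) (.leaf 0x0))) (.node 2 (.node 1 (.leaf 0x0) (.leaf 0x0)) (.node 1 (.leaf 0x6b) (.leaf 0x6c)))) (.node 4 (.node 2 (.node 1 (.leaf 0x6d) (.leaf 0x0)) (.node 1 (.leaf 0x6e) (.leaf 0x6f))) (.node 2 (.node 1 (.leaf 0x70) (.leaf 0x0)) (.node 1 (.leaf 0x71) (.leaf 0x0)))))))

def chainPos1_1 : Tree :=
  .node 64 (.node 32 (.node 16 (.node 8 (.node 4 (.node 2 (.node 1 (.leaf 0x0) (.leaf 0x0)) (.node 1 (.leaf 0x0) (.leaf 0x72))) (.node 2 (.node 1 (.leaf 0x73) (.leaf 0x74)) (.node 1 (.leaf 0x75) (.leaf 0x76)))) (.node 4 (.node 2 (.node 1 (.leaf 0x77) (.leaf 0x78)) (.node 1 (.leaf 0x79) (.leaf 0x7a))) (.node 2 (.node 1 (.leaf 0x7b) (.leaf 0x7c)) (.node 1 (.leaf 0x7d) (.leaf 0x7e))))) (.node 8 (.node 4 (.node 2 (.node 1 (.leaf 0x7f) (.leaf 0x80)) (.node 1 (.leaf 0x0) (.leaf 0x81))) (.node 2 (.node 1 (.leaf 0x82) (.leaf 0x0)) (.node 1 (.leaf 0x83)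 (.leaf 0x84)))) (.node 4 (.node 2 (.node 1 (.leaf 0x0) (.leaf 0x85)) (.node 1 (.leaf 0x0) (.leaf 0x0))) (.node 2 (.node 1 (.leaf 0x86) (.leaf 0x87)) (.node 1 (.leaf 0x88) (.leaf 0x89)))))) (.node 16 (.node 8 (.node 4 (.node 2 (.node 1 (.leaf 0x8a) (.leaf 0x8b)) (.node 1 (.leaf 0x8c) (.leaf 0x8d))) (.node 2 (.node 1 (.leaf 0x8e) (.leaf 0x8f)) (.node 1 (.leaf 0x90) (.leaf 0x91)))) (.node 4 (.node 2 (.node 1 (.leaf 0x92) (.leaf 0x93)) (.node 1 (.leaf 0x94) (.leaf 0x95))) (.node 2 (.node 1 (.leaf 0x0) (.leaf 0x96)) (.node 1 (.leaf 0x97) (.leaf 0x98))))) (.node 8 (.node 4 (.node 2 (.node 1 (.leaf 0x0) (.leaf 0x0)) (.node 1 (.leaf 0x0) (.leaf 0x0))) (.node 2 (.node 1 (.leaf 0x0) (.leaf 0x99)) (.node 1 (.leaf 0x9a) (.leaf 0x9b)))) (.node 4 (.node 2 (.node 1 (.leaf 0x0) (.leaf 0x9c)) (.node 1 (.leaf 0x9d) (.leaf 0x9e))) (.node 2 (.node 1 (.leaf 0x0) (.leaf 0x9f)) (.node 1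 (.leaf 0xa0) (.leaf 0xa1))))))) (.node 32 (.node 16 (.node 8 (.node 4 (.node 2 (.node 1 (.leaf 0x0) (.leaf 0xa2)) (.node 1 (.leaf 0x0) (.leaf 0x0))) (.node 2 (.node 1 (.leaf 0x0) (.leaf 0x0)) (.node 1 (.leaf 0x0) (.leaf 0x0)))) (.node 4 (.node 2 (.node 1 (.leaf 0x0) (.leaf 0x0)) (.node 1 (.leaf 0x0) (.leaf 0xa3))) (.node 2 (.node 1 (.leaf 0xa4) (.leaf 0x0)) (.node 1 (.leaf 0xa5) (.leaf 0xa6))))) (.node 8 (.node 4 (.node 2 (.node 1 (.leaf 0xa7) (.leaf 0xa8)) (.node 1 (.leaf 0xa9) (.leaf 0xaa))) (.node 2 (.node 1 (.leaf 0xab) (.leaf 0xac)) (.node 1 (.leaf 0xad) (.leaf 0xae)))) (.node 4 (.node 2 (.node 1 (.leaf 0xaf) (.leaf 0xb0)) (.node 1 (.leaf 0xb1) (.leaf 0xb2))) (.node 2 (.node 1 (.leaf 0xb3) (.leaf 0xb4)) (.node 1 (.leaf 0xb5) (.leaf 0x0)))))) (.node 16 (.node 8 (.node 4 (.node 2 (.node 1 (.leaf 0xb6) (.leaf 0xb7)) (.node 1 (.leaf 0x0) (.leaf 0xb8))) (.node 2 (.node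 1 (.leaf 0x0) (.leaf 0xb9)) (.node 1 (.leaf 0xba) (.leaf 0x0)))) (.node 4 (.node 2 (.node 1 (.leaf 0xbb) (.leaf 0x0)) (.node 1 (.leaf 0x0) (.leaf 0xbc))) (.node 2 (.node 1 (.leaf 0xbd) (.leaf 0x0)) (.node 1 (.leaf 0xbe) (.leaf 0x0))))) (.node 8 (.node 4 (.node 2 (.node 1 (.leaf 0x0) (.leaf 0xbf)) (.node 1 (.leaf 0xc0) (.leaf 0xc1))) (.node 2 (.node 1 (.leaf 0xc2) (.leaf 0xc3)) (.node 1 (.leaf 0xc4) (.leaf 0xc5)))) (.node 4 (.node 2 (.node 1 (.leaf 0xc6) (.leaf 0xc7)) (.node 1 (.leaf 0xc8) (.leaf 0xc9))) (.node 2 (.node 1 (.leaf 0xca) (.leaf 0xcb)) (.node 1 (.leaf 0xcc) (.leaf 0xcd)))))))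

def chainPos1_2 : Tree :=
  .node 64 (.node 32 (.node 16 (.node 8 (.node 4 (.node 2 (.node 1 (.leaf 0xce) (.leaf 0xcf)) (.node 1 (.leaf 0xd0) (.leaf 0xd1))) (.node 2 (.node 1 (.leaf 0xd2) (.leaf 0xd3)) (.node 1 (.leaf 0xd4) (.leaf 0x0)))) (.node 4 (.node 2 (.node 1 (.leaf 0xd5) (.leaf 0xd6)) (.node 1 (.leaf 0xd7) (.leaf 0x0))) (.node 2 (.node 1 (.leaf 0xd8) (.leaf 0xd9)) (.node 1 (.leaf 0xda) (.leaf 0x0))))) (.node 8 (.node 4 (.node 2 (.node 1 (.leaf 0x0) (.leaf 0x0)) (.node 1 (.leaf 0x0) (.leaf 0x0))) (.node 2 (.node 1 (.leaf 0x0) (.leaf 0x0)) (.node 1 (.leaf 0x0) (.leaf 0x0)))) (.node 4 (.node 2 (.node 1 (.leaf 0xdb) (.leaf 0xdc)) (.node 1 (.leaf 0x0) (.leaf 0xdd))) (.node 2 (.node 1 (.leaf 0xde) (.leaf 0xdf)) (.node 1 (.leaf 0x0) (.leaf 0xe0)))))) (.node 16 (.node 8 (.node 4 (.node 2 (.node 1 (.leaf 0xe1) (.leaf 0xe2)) (.node 1 (.leaf 0x0) (.leaf 0xe3))) (.node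 2 (.node 1 (.leaf 0xe4) (.leaf 0xe5)) (.node 1 (.leaf 0x0) (.leaf 0xe6)))) (.node 4 (.node 2 (.node 1 (.leaf 0xe7) (.leaf 0xe8)) (.node 1 (.leaf 0x0) (.leaf 0xe9))) (.node 2 (.node 1 (.leaf 0xea) (.leaf 0x0)) (.node 1 (.leaf 0xeb) (.leaf 0x0))))) (.node 8 (.node 4 (.node 2 (.node 1 (.leaf 0x0) (.leaf 0x0)) (.node 1 (.leaf 0xec) (.leaf 0x0))) (.node 2 (.node 1 (.leaf 0x0) (.leaf 0x0)) (.node 1 (.leaf 0x0) (.leaf 0x0)))) (.node 4 (.node 2 (.node 1 (.leaf 0x0) (.leaf 0x0)) (.node 1 (.leaf 0x0) (.leaf 0x0))) (.node 2 (.node 1 (.leaf 0x0) (.leaf 0x0)) (.node 1 (.leaf 0x0) (.leaf 0xed))))))) (.node 32 (.node 16 (.node 8 (.node 4 (.node 2 (.node 1 (.leaf 0xee) (.leaf 0x0)) (.node 1 (.leaf 0xef) (.leaf 0x0))) (.node 2 (.node 1 (.leaf 0x0) (.leaf 0xf0)) (.node 1 (.leaf 0xf1) (.leaf 0xf2)))) (.node 4 (.node 2 (.node 1 (.leaf 0xf3) (.leaf 0xf4)) (.node 1 (.leaf 0xf5) (.leaf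 0xf6))) (.node 2 (.node 1 (.leaf 0xf7) (.leaf 0xf8)) (.node 1 (.leaf 0xf9) (.leaf 0xfa))))) (.node 8 (.node 4 (.node 2 (.node 1 (.leaf 0xfb) (.leaf 0xfc)) (.node 1 (.leaf 0xfd) (.leaf 0xfe))) (.node 2 (.node 1 (.leaf 0xff) (.leaf 0x100)) (.node 1 (.leaf 0x101) (.leaf 0x102)))) (.node 4 (.node 2 (.node 1 (.leaf 0x103) (.leaf 0x104)) (.node 1 (.leaf 0x0) (.leaf 0x0))) (.node 2 (.node 1 (.leaf 0x105) (.leaf 0x106)) (.node 1 (.leaf 0x0) (.leaf 0x107)))))) (.node 16 (.node 8 (.node 4 (.node 2 (.node 1 (.leaf 0x0) (.leaf 0x108)) (.node 1 (.leaf 0x109) (.leaf 0x0))) (.node 2 (.node 1 (.leaf 0x10a) (.leaf 0x0)) (.node 1 (.leaf 0x0) (.leaf 0x10b)))) (.node 4 (.node 2 (.node 1 (.leaf 0x10c) (.leaf 0x10d)) (.node 1 (.leaf 0x0) (.leaf 0x10e))) (.node 2 (.node 1 (.leaf 0x0) (.leaf 0x0)) (.node 1 (.leaf 0x10f) (.leaf 0x110))))) (.node 8 (.node 4 (.node 2 (.node 1 (.leaf 0x111)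 (.leaf 0x112)) (.node 1 (.leaf 0x113) (.leaf 0x114))) (.node 2 (.node 1 (.leaf 0x115) (.leaf 0x116)) (.node 1 (.leaf 0x117) (.leaf 0x118)))) (.node 4 (.node 2 (.node 1 (.leaf 0x119) (.leaf 0x11a)) (.node 1 (.leaf 0x11b) (.leaf 0x11c))) (.node 2 (.node 1 (.leaf 0x11d) (.leaf 0x11e)) (.node 1 (.leaf 0x11f) (.leaf 0x120)))))))

def chainPos1_3 : Tree :=
  .node 64 (.node 32 (.node 16 (.node 8 (.node 4 (.node 2 (.node 1 (.leaf 0x121) (.leaf 0x122)) (.node 1 (.leaf 0x123) (.leaf 0x124))) (.node 2 (.node 1 (.leaf 0x125) (.leaf 0x126)) (.node 1 (.leaf 0x127) (.leaf 0x128)))) (.node 4 (.node 2 (.node 1 (.leaf 0x0) (.leaf 0x129)) (.node 1 (.leaf 0x12a) (.leaf 0x12b))) (.node 2 (.node 1 (.leaf 0x0) (.leaf 0x12c)) (.node 1 (.leaf 0x12d) (.leaf 0x12e))))) (.node 8 (.node 4 (.node 2 (.node 1 (.leaf 0x0) (.leaf 0x12f)) (.node 1 (.leaf 0x130) (.leaf 0x131))) (.node 2 (.node 1 (.leaf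 0x0) (.leaf 0x132)) (.node 1 (.leaf 0x0) (.leaf 0x0)))) (.node 4 (.node 2 (.node 1 (.leaf 0x0) (.leaf 0x0)) (.node 1 (.leaf 0x0) (.leaf 0x0))) (.node 2 (.node 1 (.leaf 0x0) (.leaf 0x0)) (.node 1 (.leaf 0x0) (.leaf 0x0)))))) (.node 16 (.node 8 (.node 4 (.node 2 (.node 1 (.leaf 0x0) (.leaf 0x133)) (.node 1 (.leaf 0x134) (.leaf 0x0))) (.node 2 (.node 1 (.leaf 0x0) (.leaf 0x0)) (.node 1 (.leaf 0x135) (.leaf 0x136)))) (.node 4 (.node 2 (.node 1 (.leaf 0x137) (.leaf 0x138)) (.node 1 (.leaf 0x139) (.leaf 0x13a))) (.node 2 (.node 1 (.leaf 0x0) (.leaf 0x13b)) (.node 1 (.leaf 0x0) (.leaf 0x13c))))) (.node 8 (.node 4 (.node 2 (.node 1 (.leaf 0x13d) (.leaf 0x0)) (.node 1 (.leaf 0x13e) (.leaf 0x13f))) (.node 2 (.node 1 (.leaf 0x0) (.leaf 0x140)) (.node 1 (.leaf 0x0) (.leaf 0x0)))) (.node 4 (.node 2 (.node 1 (.leaf 0x141) (.leaf 0x142)) (.node 1 (.leaf 0x143) (.leaf 0x0))) (.node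 2 (.node 1 (.leaf 0x144) (.leaf 0x145)) (.node 1 (.leaf 0x146) (.leaf 0x0))))))) (.node 32 (.node 16 (.node 8 (.node 4 (.node 2 (.node 1 (.leaf 0x147) (.leaf 0x0)) (.node 1 (.leaf 0x0) (.leaf 0x0))) (.node 2 (.node 1 (.leaf 0x148) (.leaf 0x0)) (.node 1 (.leaf 0x149) (.leaf 0x0)))) (.node 4 (.node 2 (.node 1 (.leaf 0x0) (.leaf 0x0)) (.node 1 (.leaf 0x14a) (.leaf 0x14b))) (.node 2 (.node 1 (.leaf 0x14c) (.leaf 0x0)) (.node 1 (.leaf 0x0) (.leaf 0x0))))) (.node 8 (.node 4 (.node 2 (.node 1 (.leaf 0x0) (.leaf 0x0)) (.node 1 (.leaf 0x0) (.leaf 0x0))) (.node 2 (.node 1 (.leaf 0x0) (.leaf 0x0)) (.node 1 (.leaf 0x0) (.leaf 0x0)))) (.node 4 (.node 2 (.node 1 (.leaf 0x0) (.leaf 0x0)) (.node 1 (.leaf 0x0) (.leaf 0x14d))) (.node 2 (.node 1 (.leaf 0x14e) (.leaf 0x14f)) (.node 1 (.leaf 0x0) (.leaf 0x150)))))) (.node 16 (.node 8 (.node 4 (.node 2 (.node 1 (.leaf 0x151) (.leaf 0x0))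 (.node 1 (.leaf 0x152) (.leaf 0x153))) (.node 2 (.node 1 (.leaf 0x154) (.leaf 0x155)) (.node 1 (.leaf 0x156) (.leaf 0x157)))) (.node 4 (.node 2 (.node 1 (.leaf 0x158) (.leaf 0x159)) (.node 1 (.leaf 0x15a) (.leaf 0x15b))) (.node 2 (.node 1 (.leaf 0x15c) (.leaf 0x15d)) (.node 1 (.leaf 0x15e) (.leaf 0x15f))))) (.node 8 (.node 4 (.node 2 (.node 1 (.leaf 0x160) (.leaf 0x161)) (.node 1 (.leaf 0x162) (.leaf 0x163))) (.node 2 (.node 1 (.leaf 0x164) (.leaf 0x165)) (.node 1 (.leaf 0x166) (.leaf 0x167)))) (.node 4 (.node 2 (.node 1 (.leaf 0x168) (.leaf 0x169)) (.node 1 (.leaf 0x16a) (.leaf 0x16b))) (.node 2 (.node 1 (.leaf 0x16c) (.leaf 0x16d)) (.node 1 (.leaf 0x16e) (.leaf 0x16f)))))))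

def chainPos1_4 : Tree :=
  .node 64 (.node 32 (.node 16 (.node 8 (.node 4 (.node 2 (.node 1 (.leaf 0x0) (.leaf 0x0)) (.node 1 (.leaf 0x170) (.leaf 0x171))) (.node 2 (.node 1 (.leaf 0x0) (.leaf 0x172)) (.node 1 (.leaf 0x0) (.leaf 0x173)))) (.node 4 (.node 2 (.node 1 (.leaf 0x174) (.leaf 0x175)) (.node 1 (.leaf 0x0) (.leaf 0x176))) (.node 2 (.node 1 (.leaf 0x0) (.leaf 0x0)) (.node 1 (.leaf 0x177) (.leaf 0x178))))) (.node 8 (.node 4 (.node 2 (.node 1 (.leaf 0x179) (.leaf 0x17a)) (.node 1 (.leaf 0x17b) (.leaf 0x17c))) (.node 2 (.node 1 (.leaf 0x0) (.leaf 0x17d)) (.node 1 (.leaf 0x0) (.leaf 0x0)))) (.node 4 (.node 2 (.node 1 (.leaf 0x0) (.leaf 0x17e)) (.node 1 (.leaf 0x17f) (.leaf 0x180))) (.node 2 (.node 1 (.leaf 0x181) (.leaf 0x182)) (.node 1 (.leaf 0x183) (.leaf 0x184)))))) (.node 16 (.node 8 (.node 4 (.node 2 (.node 1 (.leaf 0x185) (.leaf 0x186)) (.node 1 (.leaf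 0x187) (.leaf 0x188))) (.node 2 (.node 1 (.leaf 0x189) (.leaf 0x18a)) (.node 1 (.leaf 0x18b) (.leaf 0x18c)))) (.node 4 (.node 2 (.node 1 (.leaf 0x18d) (.leaf 0x18e)) (.node 1 (.leaf 0x18f) (.leaf 0x190))) (.node 2 (.node 1 (.leaf 0x191) (.leaf 0x192)) (.node 1 (.leaf 0x193) (.leaf 0x194))))) (.node 8 (.node 4 (.node 2 (.node 1 (.leaf 0x195) (.leaf 0x196)) (.node 1 (.leaf 0x197) (.leaf 0x198))) (.node 2 (.node 1 (.leaf 0x199) (.leaf 0x19a)) (.node 1 (.leaf 0x19b) (.leaf 0x19c)))) (.node 4 (.node 2 (.node 1 (.leaf 0x19d) (.leaf 0x19e)) (.node 1 (.leaf 0x19f) (.leaf 0x1a0))) (.node 2 (.node 1 (.leaf 0x1a1) (.leaf 0x1a2)) (.node 1 (.leaf 0x1a3) (.leaf 0x1a4))))))) (.node 32 (.node 16 (.node 8 (.node 4 (.node 2 (.node 1 (.leaf 0x0) (.leaf 0x1a5)) (.node 1 (.leaf 0x0) (.leaf 0x1a6))) (.node 2 (.node 1 (.leaf 0x1a7) (.leaf 0x0)) (.node 1 (.leaf 0x1a8) (.leaf 0x1a9)))) (.node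 4 (.node 2 (.node 1 (.leaf 0x1aa) (.leaf 0x1ab)) (.node 1 (.leaf 0x0) (.leaf 0x1ac))) (.node 2 (.node 1 (.leaf 0x1ad) (.leaf 0x1ae)) (.node 1 (.leaf 0x0) (.leaf 0x1af))))) (.node 8 (.node 4 (.node 2 (.node 1 (.leaf 0x0) (.leaf 0x0)) (.node 1 (.leaf 0x0) (.leaf 0x1b0))) (.node 2 (.node 1 (.leaf 0x1b1) (.leaf 0x1b2)) (.node 1 (.leaf 0x0) (.leaf 0x1b3)))) (.node 4 (.node 2 (.node 1 (.leaf 0x0) (.leaf 0x1b4)) (.node 1 (.leaf 0x0) (.leaf 0x0))) (.node 2 (.node 1 (.leaf 0x0) (.leaf 0x1b5)) (.node 1 (.leaf 0x1b6) (.leaf 0x0)))))) (.node 16 (.node 8 (.node 4 (.node 2 (.node 1 (.leaf 0x0) (.leaf 0x0)) (.node 1 (.leaf 0x0) (.leaf 0x0))) (.node 2 (.node 1 (.leaf 0x0) (.leaf 0x0)) (.node 1 (.leaf 0x0) (.leaf 0x0)))) (.node 4 (.node 2 (.node 1 (.leaf 0x1b7) (.leaf 0x1b8)) (.node 1 (.leaf 0x0) (.leaf 0x0))) (.node 2 (.node 1 (.leaf 0x1b9) (.leaf 0x1ba)) (.node 1 (.leaf 0x1bb) (.leaf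 0x1bc))))) (.node 8 (.node 4 (.node 2 (.node 1 (.leaf 0x1bd) (.leaf 0x1be)) (.node 1 (.leaf 0x1bf) (.leaf 0x1c0))) (.node 2 (.node 1 (.leaf 0x1c1) (.leaf 0x1c2)) (.node 1 (.leaf 0x1c3) (.leaf 0x1c4)))) (.node 4 (.node 2 (.node 1 (.leaf 0x0) (.leaf 0x1c5)) (.node 1 (.leaf 0x0) (.leaf 0x1c6))) (.node 2 (.node 1 (.leaf 0x1c7) (.leaf 0x1c8)) (.node 1 (.leaf 0x0) (.leaf 0x0)))))))

def chainPos1_5 : Tree :=
  .node 64 (.node 32 (.node 16 (.node 8 (.node 4 (.node 2 (.node 1 (.leaf 0x1c9) (.leaf 0x1ca)) (.node 1 (.leaf 0x0) (.leaf 0x0))) (.node 2 (.node 1 (.leaf 0x0) (.leaf 0x1cb)) (.node 1 (.leaf 0x1cc) (.leaf 0x1cd)))) (.node 4 (.node 2 (.node 1 (.leaf 0x1ce) (.leaf 0x1cf)) (.node 1 (.leaf 0x1d0) (.leaf 0x1d1))) (.node 2 (.node 1 (.leaf 0x1d2) (.leaf 0x0)) (.node 1 (.leaf 0x0) (.leaf 0x1d3))))) (.node 8 (.node 4 (.node 2 (.node 1 (.leaf 0x1d4) (.leaf 0x1d5)) (.node 1 (.leaf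 0x0) (.leaf 0x1d6))) (.node 2 (.node 1 (.leaf 0x0) (.leaf 0x0)) (.node 1 (.leaf 0x0) (.leaf 0x1d7)))) (.node 4 (.node 2 (.node 1 (.leaf 0x1d8) (.leaf 0x1d9)) (.node 1 (.leaf 0x0) (.leaf 0x1da))) (.node 2 (.node 1 (.leaf 0x0) (.leaf 0x0)) (.node 1 (.leaf 0x0) (.leaf 0x1db)))))) (.node 16 (.node 8 (.node 4 (.node 2 (.node 1 (.leaf 0x1dc) (.leaf 0x1dd)) (.node 1 (.leaf 0x0) (.leaf 0x1de))) (.node 2 (.node 1 (.leaf 0x1df) (.leaf 0x1e0)) (.node 1 (.leaf 0x1e1) (.leaf 0x1e2)))) (.node 4 (.node 2 (.node 1 (.leaf 0x1e3) (.leaf 0x0)) (.node 1 (.leaf 0x0) (.leaf 0x0))) (.node 2 (.node 1 (.leaf 0x0) (.leaf 0x0)) (.node 1 (.leaf 0x0) (.leaf 0x0))))) (.node 8 (.node 4 (.node 2 (.node 1 (.leaf 0x0) (.leaf 0x0)) (.node 1 (.leaf 0x0) (.leaf 0x1e4))) (.node 2 (.node 1 (.leaf 0x1e5) (.leaf 0x1e6)) (.node 1 (.leaf 0x1e7) (.leaf 0x0)))) (.node 4 (.node 2 (.node 1 (.leaf 0x0) (.leaf 0x0))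 (.node 1 (.leaf 0x0) (.leaf 0x1e8))) (.node 2 (.node 1 (.leaf 0x1e9) (.leaf 0x0)) (.node 1 (.leaf 0x0) (.leaf 0x0))))))) (.node 32 (.node 16 (.node 8 (.node 4 (.node 2 (.node 1 (.leaf 0x1ea) (.leaf 0x1eb)) (.node 1 (.leaf 0x1ec) (.leaf 0x1ed))) (.node 2 (.node 1 (.leaf 0x1ee) (.leaf 0x1ef)) (.node 1 (.leaf 0x1f0) (.leaf 0x1f1)))) (.node 4 (.node 2 (.node 1 (.leaf 0x1f2) (.leaf 0x1f3)) (.node 1 (.leaf 0x1f4) (.leaf 0x1f5))) (.node 2 (.node 1 (.leaf 0x1f6) (.leaf 0x1f7)) (.node 1 (.leaf 0x1f8) (.leaf 0x1f9))))) (.node 8 (.node 4 (.node 2 (.node 1 (.leaf 0x1fa) (.leaf 0x1fb)) (.node 1 (.leaf 0x1fc) (.leaf 0x1fd))) (.node 2 (.node 1 (.leaf 0x1fe) (.leaf 0x1ff)) (.node 1 (.leaf 0x200) (.leaf 0x201)))) (.node 4 (.node 2 (.node 1 (.leaf 0x202) (.leaf 0x203)) (.node 1 (.leaf 0x204) (.leaf 0x205))) (.node 2 (.node 1 (.leaf 0x206) (.leaf 0x207)) (.node 1 (.leaf 0x208) (.leaf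 0x209)))))) (.node 16 (.node 8 (.node 4 (.node 2 (.node 1 (.leaf 0x20a) (.leaf 0x20b)) (.node 1 (.leaf 0x20c) (.leaf 0x20d))) (.node 2 (.node 1 (.leaf 0x20e) (.leaf 0x20f)) (.node 1 (.leaf 0x210) (.leaf 0x211)))) (.node 4 (.node 2 (.node 1 (.leaf 0x212) (.leaf 0x213)) (.node 1 (.leaf 0x214) (.leaf 0x215))) (.node 2 (.node 1 (.leaf 0x216) (.leaf 0x0)) (.node 1 (.leaf 0x0) (.leaf 0x217))))) (.node 8 (.node 4 (.node 2 (.node 1 (.leaf 0x218) (.leaf 0x219)) (.node 1 (.leaf 0x21a) (.leaf 0x21b))) (.node 2 (.node 1 (.leaf 0x21c) (.leaf 0x21d)) (.node 1 (.leaf 0x21e) (.leaf 0x21f)))) (.node 4 (.node 2 (.node 1 (.leaf 0x220) (.leaf 0x0)) (.node 1 (.leaf 0x221) (.leaf 0x0))) (.node 2 (.node 1 (.leaf 0x0) (.leaf 0x0)) (.node 1 (.leaf 0x222) (.leaf 0x223)))))))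

def chainPos1_6 : Tree :=
  .node 64 (.node 32 (.node 16 (.node 8 (.node 4 (.node 2 (.node 1 (.leaf 0x224) (.leaf 0x225)) (.node 1 (.leaf 0x226) (.leaf 0x227))) (.node 2 (.node 1 (.leaf 0x228) (.leaf 0x229)) (.node 1 (.leaf 0x22a) (.leaf 0x0)))) (.node 4 (.node 2 (.node 1 (.leaf 0x0) (.leaf 0x22b)) (.node 1 (.leaf 0x22c) (.leaf 0x0))) (.node 2 (.node 1 (.leaf 0x0) (.leaf 0x0)) (.node 1 (.leaf 0x0) (.leaf 0x22d))))) (.node 8 (.node 4 (.node 2 (.node 1 (.leaf 0x22e) (.leaf 0x22f)) (.node 1 (.leaf 0x230) (.leaf 0x231))) (.node 2 (.node 1 (.leaf 0x232) (.leaf 0x233)) (.node 1 (.leaf 0x234) (.leaf 0x235)))) (.node 4 (.node 2 (.node 1 (.leaf 0x236) (.leaf 0x237)) (.node 1 (.leaf 0x238) (.leaf 0x239))) (.node 2 (.node 1 (.leaf 0x23a) (.leaf 0x23b)) (.node 1 (.leaf 0x23c) (.leaf 0x23d)))))) (.node 16 (.node 8 (.node 4 (.node 2 (.node 1 (.leaf 0x23e) (.leaf 0x23f)) (.node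 1 (.leaf 0x240) (.leaf 0x241))) (.node 2 (.node 1 (.leaf 0x242) (.leaf 0x243)) (.node 1 (.leaf 0x244) (.leaf 0x245)))) (.node 4 (.node 2 (.node 1 (.leaf 0x246) (.leaf 0x247)) (.node 1 (.leaf 0x248) (.leaf 0x249))) (.node 2 (.node 1 (.leaf 0x24a) (.leaf 0x24b)) (.node 1 (.leaf 0x24c) (.leaf 0x24d))))) (.node 8 (.node 4 (.node 2 (.node 1 (.leaf 0x24e) (.leaf 0x24f)) (.node 1 (.leaf 0x250) (.leaf 0x251))) (.node 2 (.node 1 (.leaf 0x252) (.leaf 0x253)) (.node 1 (.leaf 0x254) (.leaf 0x255)))) (.node 4 (.node 2 (.node 1 (.leaf 0x256) (.leaf 0x257)) (.node 1 (.leaf 0x258) (.leaf 0x259))) (.node 2 (.node 1 (.leaf 0x25a) (.leaf 0x25b)) (.node 1 (.leaf 0x25c) (.leaf 0x25d))))))) (.node 32 (.node 16 (.node 8 (.node 4 (.node 2 (.node 1 (.leaf 0x25e) (.leaf 0x25f)) (.node 1 (.leaf 0x260) (.leaf 0x261))) (.node 2 (.node 1 (.leaf 0x262) (.leaf 0x263)) (.node 1 (.leaf 0x264) (.leaf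 0x265)))) (.node 4 (.node 2 (.node 1 (.leaf 0x266) (.leaf 0x267)) (.node 1 (.leaf 0x268) (.leaf 0x269))) (.node 2 (.node 1 (.leaf 0x26a) (.leaf 0x26b)) (.node 1 (.leaf 0x26c) (.leaf 0x0))))) (.node 8 (.node 4 (.node 2 (.node 1 (.leaf 0x26d) (.leaf 0x0)) (.node 1 (.leaf 0x26e) (.leaf 0x26f))) (.node 2 (.node 1 (.leaf 0x270) (.leaf 0x0)) (.node 1 (.leaf 0x0) (.leaf 0x271)))) (.node 4 (.node 2 (.node 1 (.leaf 0x272) (.leaf 0x0)) (.node 1 (.leaf 0x273) (.leaf 0x274))) (.node 2 (.node 1 (.leaf 0x275) (.leaf 0x276)) (.node 1 (.leaf 0x277) (.leaf 0x278)))))) (.node 16 (.node 8 (.node 4 (.node 2 (.node 1 (.leaf 0x279) (.leaf 0x27a)) (.node 1 (.leaf 0x27b) (.leaf 0x27c))) (.node 2 (.node 1 (.leaf 0x0) (.leaf 0x27d)) (.node 1 (.leaf 0x0) (.leaf 0x0)))) (.node 4 (.node 2 (.node 1 (.leaf 0x27e) (.leaf 0x27f)) (.node 1 (.leaf 0x0) (.leaf 0x280))) (.node 2 (.node 1 (.leaf 0x281)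 (.leaf 0x282)) (.node 1 (.leaf 0x283) (.leaf 0x284))))) (.node 8 (.node 4 (.node 2 (.node 1 (.leaf 0x0) (.leaf 0x285)) (.node 1 (.leaf 0x286) (.leaf 0x0))) (.node 2 (.node 1 (.leaf 0x0) (.leaf 0x0)) (.node 1 (.leaf 0x287) (.leaf 0x288)))) (.node 4 (.node 2 (.node 1 (.leaf 0x289) (.leaf 0x0)) (.node 1 (.leaf 0x28a) (.leaf 0x28b))) (.node 2 (.node 1 (.leaf 0x28c) (.leaf 0x28d)) (.node 1 (.leaf 0x0) (.leaf 0x0)))))))

def chainPos1_7 : Tree :=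
  .node 64 (.node 32 (.node 16 (.node 8 (.node 4 (.node 2 (.node 1 (.leaf 0x0) (.leaf 0x0)) (.node 1 (.leaf 0x0) (.leaf 0x0))) (.node 2 (.node 1 (.leaf 0x0) (.leaf 0x0)) (.node 1 (.leaf 0x28e) (.leaf 0x28f)))) (.node 4 (.node 2 (.node 1 (.leaf 0x0) (.leaf 0x0)) (.node 1 (.leaf 0x0) (.leaf 0x0))) (.node 2 (.node 1 (.leaf 0x0) (.leaf 0x0)) (.node 1 (.leaf 0x290) (.leaf 0x291))))) (.node 8 (.node 4 (.node 2 (.node 1 (.leaf 0x292) (.leaf 0x293)) (.node 1 (.leaf 0x294) (.leaf 0x295))) (.node 2 (.node 1 (.leaf 0x296) (.leaf 0x297)) (.node 1 (.leaf 0x298) (.leaf 0x299)))) (.node 4 (.node 2 (.node 1 (.leaf 0x29a) (.leaf 0x29b)) (.node 1 (.leaf 0x29c) (.leaf 0x29d))) (.node 2 (.node 1 (.leaf 0x29e) (.leaf 0x29f)) (.node 1 (.leaf 0x0) (.leaf 0x2a0)))))) (.node 16 (.node 8 (.node 4 (.node 2 (.node 1 (.leaf 0x2a1) (.leaf 0x2a2)) (.node 1 (.leaf 0x0) (.leaf 0x0))) (.node 2 (.node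 1 (.leaf 0x2a3) (.leaf 0x2a4)) (.node 1 (.leaf 0x2a5) (.leaf 0x2a6)))) (.node 4 (.node 2 (.node 1 (.leaf 0x2a7) (.leaf 0x2a8)) (.node 1 (.leaf 0x0) (.leaf 0x2a9))) (.node 2 (.node 1 (.leaf 0x0) (.leaf 0x2aa)) (.node 1 (.leaf 0x2ab) (.leaf 0x2ac))))) (.node 8 (.node 4 (.node 2 (.node 1 (.leaf 0x2ad) (.leaf 0x2ae)) (.node 1 (.leaf 0x2af) (.leaf 0x2b0))) (.node 2 (.node 1 (.leaf 0x2b1) (.leaf 0x2b2)) (.node 1 (.leaf 0x2b3) (.leaf 0x2b4)))) (.node 4 (.node 2 (.node 1 (.leaf 0x2b5) (.leaf 0x0)) (.node 1 (.leaf 0x0) (.leaf 0x0))) (.node 2 (.node 1 (.leaf 0x2b6) (.leaf 0x2b7)) (.node 1 (.leaf 0x0) (.leaf 0x2b8))))))) (.node 32 (.node 16 (.node 8 (.node 4 (.node 2 (.node 1 (.leaf 0x0) (.leaf 0x0)) (.node 1 (.leaf 0x0) (.leaf 0x2b9))) (.node 2 (.node 1 (.leaf 0x2ba) (.leaf 0x2bb)) (.node 1 (.leaf 0x0) (.leaf 0x2bc)))) (.node 4 (.node 2 (.node 1 (.leaf 0x2bd) (.leaf 0x2be))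 (.node 1 (.leaf 0x0) (.leaf 0x0))) (.node 2 (.node 1 (.leaf 0x0) (.leaf 0x2bf)) (.node 1 (.leaf 0x2c0) (.leaf 0x2c1))))) (.node 8 (.node 4 (.node 2 (.node 1 (.leaf 0x0) (.leaf 0x2c2)) (.node 1 (.leaf 0x2c3) (.leaf 0x2c4))) (.node 2 (.node 1 (.leaf 0x2c5) (.leaf 0x0)) (.node 1 (.leaf 0x0) (.leaf 0x2c6)))) (.node 4 (.node 2 (.node 1 (.leaf 0x2c7) (.leaf 0x2c8)) (.node 1 (.leaf 0x2c9) (.leaf 0x2ca))) (.node 2 (.node 1 (.leaf 0x2cb) (.leaf 0x0)) (.node 1 (.leaf 0x0) (.leaf 0x0)))))) (.node 16 (.node 8 (.node 4 (.node 2 (.node 1 (.leaf 0x0) (.leaf 0x0)) (.node 1 (.leaf 0x0) (.leaf 0x0))) (.node 2 (.node 1 (.leaf 0x2cc) (.leaf 0x2cd)) (.node 1 (.leaf 0x2ce) (.leaf 0x2cf)))) (.node 4 (.node 2 (.node 1 (.leaf 0x2d0) (.leaf 0x2d1)) (.node 1 (.leaf 0x0) (.leaf 0x0))) (.node 2 (.node 1 (.leaf 0x0) (.leaf 0x0)) (.node 1 (.leaf 0x2d2) (.leaf 0x2d3))))) (.node 8 (.node 4 (.node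 2 (.node 1 (.leaf 0x2d4) (.leaf 0x2d5)) (.node 1 (.leaf 0x2d6) (.leaf 0x2d7))) (.node 2 (.node 1 (.leaf 0x0) (.leaf 0x0)) (.node 1 (.leaf 0x0) (.leaf 0x2d8)))) (.node 4 (.node 2 (.node 1 (.leaf 0x2d9) (.leaf 0x2da)) (.node 1 (.leaf 0x2db) (.leaf 0x2dc))) (.node 2 (.node 1 (.leaf 0x2dd) (.leaf 0x2de)) (.node 1 (.leaf 0x2df) (.leaf 0x2e0)))))))

def chainPos1_8 : Tree :=
  .node 64 (.node 32 (.node 16 (.node 8 (.node 4 (.node 2 (.node 1 (.leaf 0x2e1) (.leaf 0x2e2)) (.node 1 (.leaf 0x2e3) (.leaf 0x2e4))) (.node 2 (.node 1 (.leaf 0x2e5) (.leaf 0x2e6)) (.node 1 (.leaf 0x2e7) (.leaf 0x2e8)))) (.node 4 (.node 2 (.node 1 (.leaf 0x2e9) (.leaf 0x2ea)) (.node 1 (.leaf 0x2eb) (.leaf 0x2ec))) (.node 2 (.node 1 (.leaf 0x2ed) (.leaf 0x2ee)) (.node 1 (.leaf 0x2ef) (.leaf 0x2f0))))) (.node 8 (.node 4 (.node 2 (.node 1 (.leaf 0x2f1) (.leaf 0x2f2)) (.node 1 (.leaf 0x2f3) (.leaf 0x2f4)))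 (.node 2 (.node 1 (.leaf 0x2f5) (.leaf 0x2f6)) (.node 1 (.leaf 0x2f7) (.leaf 0x2f8)))) (.node 4 (.node 2 (.node 1 (.leaf 0x2f9) (.leaf 0x2fa)) (.node 1 (.leaf 0x2fb) (.leaf 0x2fc))) (.node 2 (.node 1 (.leaf 0x2fd) (.leaf 0x2fe)) (.node 1 (.leaf 0x2ff) (.leaf 0x300)))))) (.node 16 (.node 8 (.node 4 (.node 2 (.node 1 (.leaf 0x301) (.leaf 0x302)) (.node 1 (.leaf 0x303) (.leaf 0x304))) (.node 2 (.node 1 (.leaf 0x305) (.leaf 0x306)) (.node 1 (.leaf 0x307) (.leaf 0x308)))) (.node 4 (.node 2 (.node 1 (.leaf 0x309) (.leaf 0x30a)) (.node 1 (.leaf 0x30b) (.leaf 0x30c))) (.node 2 (.node 1 (.leaf 0x30d) (.leaf 0x30e)) (.node 1 (.leaf 0x30f) (.leaf 0x310))))) (.node 8 (.node 4 (.node 2 (.node 1 (.leaf 0x311) (.leaf 0x0)) (.node 1 (.leaf 0x312) (.leaf 0x313))) (.node 2 (.node 1 (.leaf 0x314) (.leaf 0x315)) (.node 1 (.leaf 0x316) (.leaf 0x317)))) (.node 4 (.node 2 (.node 1 (.leaf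 0x318) (.leaf 0x319)) (.node 1 (.leaf 0x31a) (.leaf 0x31b))) (.node 2 (.node 1 (.leaf 0x0) (.leaf 0x31c)) (.node 1 (.leaf 0x31d) (.leaf 0x31e))))))) (.node 32 (.node 16 (.node 8 (.node 4 (.node 2 (.node 1 (.leaf 0x31f) (.leaf 0x320)) (.node 1 (.leaf 0x321) (.leaf 0x322))) (.node 2 (.node 1 (.leaf 0x323) (.leaf 0x324)) (.node 1 (.leaf 0x325) (.leaf 0x326)))) (.node 4 (.node 2 (.node 1 (.leaf 0x327) (.leaf 0x0)) (.node 1 (.leaf 0x0) (.leaf 0x328))) (.node 2 (.node 1 (.leaf 0x329) (.leaf 0x0)) (.node 1 (.leaf 0x0) (.leaf 0x0))))) (.node 8 (.node 4 (.node 2 (.node 1 (.leaf 0x0) (.leaf 0x32a)) (.node 1 (.leaf 0x32b) (.leaf 0x32c))) (.node 2 (.node 1 (.leaf 0x32d) (.leaf 0x32e)) (.node 1 (.leaf 0x32f) (.leaf 0x0)))) (.node 4 (.node 2 (.node 1 (.leaf 0x330) (.leaf 0x331)) (.node 1 (.leaf 0x0) (.leaf 0x0))) (.node 2 (.node 1 (.leaf 0x0) (.leaf 0x332)) (.node 1 (.leaf 0x333)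 (.leaf 0x0)))))) (.node 16 (.node 8 (.node 4 (.node 2 (.node 1 (.leaf 0x0) (.leaf 0x0)) (.node 1 (.leaf 0x0) (.leaf 0x334))) (.node 2 (.node 1 (.leaf 0x335) (.leaf 0x336)) (.node 1 (.leaf 0x337) (.leaf 0x338)))) (.node 4 (.node 2 (.node 1 (.leaf 0x339) (.leaf 0x33a)) (.node 1 (.leaf 0x33b) (.leaf 0x33c))) (.node 2 (.node 1 (.leaf 0x33d) (.leaf 0x33e)) (.node 1 (.leaf 0x33f) (.leaf 0x340))))) (.node 8 (.node 4 (.node 2 (.node 1 (.leaf 0x341) (.leaf 0x342)) (.node 1 (.leaf 0x343) (.leaf 0x344))) (.node 2 (.node 1 (.leaf 0x345) (.leaf 0x346)) (.node 1 (.leaf 0x347) (.leaf 0x348)))) (.node 4 (.node 2 (.node 1 (.leaf 0x349) (.leaf 0x34a)) (.node 1 (.leaf 0x34b) (.leaf 0x34c))) (.node 2 (.node 1 (.leaf 0x34d) (.leaf 0x34e)) (.node 1 (.leaf 0x34f) (.leaf 0x350)))))))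

def chainPos1_9 : Tree :=
  .node 64 (.node 32 (.node 16 (.node 8 (.node 4 (.node 2 (.node 1 (.leaf 0x351) (.leaf 0x352)) (.node 1 (.leaf 0x353) (.leaf 0x354))) (.node 2 (.node 1 (.leaf 0x355) (.leaf 0x356)) (.node 1 (.leaf 0x357) (.leaf 0x358)))) (.node 4 (.node 2 (.node 1 (.leaf 0x359) (.leaf 0x35a)) (.node 1 (.leaf 0x35b) (.leaf 0x35c))) (.node 2 (.node 1 (.leaf 0x35d) (.leaf 0x35e)) (.node 1 (.leaf 0x35f) (.leaf 0x360))))) (.node 8 (.node 4 (.node 2 (.node 1 (.leaf 0x361) (.leaf 0x362)) (.node 1 (.leaf 0x363) (.leaf 0x364))) (.node 2 (.node 1 (.leaf 0x365) (.leaf 0x366)) (.node 1 (.leaf 0x367) (.leaf 0x368)))) (.node 4 (.node 2 (.node 1 (.leaf 0x369) (.leaf 0x36a)) (.node 1 (.leaf 0x36b) (.leaf 0x36c))) (.node 2 (.node 1 (.leaf 0x36d) (.leaf 0x36e)) (.node 1 (.leaf 0x36f) (.leaf 0x370)))))) (.node 16 (.node 8 (.node 4 (.node 2 (.node 1 (.leaf 0x371) (.leaf 0x372))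 (.node 1 (.leaf 0x373) (.leaf 0x374))) (.node 2 (.node 1 (.leaf 0x375) (.leaf 0x376)) (.node 1 (.leaf 0x377) (.leaf 0x378)))) (.node 4 (.node 2 (.node 1 (.leaf 0x379) (.leaf 0x37a)) (.node 1 (.leaf 0x37b) (.leaf 0x37c))) (.node 2 (.node 1 (.leaf 0x37d) (.leaf 0x37e)) (.node 1 (.leaf 0x37f) (.leaf 0x380))))) (.node 8 (.node 4 (.node 2 (.node 1 (.leaf 0x381) (.leaf 0x382)) (.node 1 (.leaf 0x383) (.leaf 0x384))) (.node 2 (.node 1 (.leaf 0x385) (.leaf 0x386)) (.node 1 (.leaf 0x387) (.leaf 0x388)))) (.node 4 (.node 2 (.node 1 (.leaf 0x389) (.leaf 0x38a)) (.node 1 (.leaf 0x38b) (.leaf 0x38c))) (.node 2 (.node 1 (.leaf 0x38d) (.leaf 0x38e)) (.node 1 (.leaf 0x0) (.leaf 0x0))))))) (.node 32 (.node 16 (.node 8 (.node 4 (.node 2 (.node 1 (.leaf 0x38f) (.leaf 0x390)) (.node 1 (.leaf 0x391) (.leaf 0x392))) (.node 2 (.node 1 (.leaf 0x393) (.leaf 0x394)) (.node 1 (.leaf 0x0) (.leaf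 0x395)))) (.node 4 (.node 2 (.node 1 (.leaf 0x396) (.leaf 0x0)) (.node 1 (.leaf 0x0) (.leaf 0x397))) (.node 2 (.node 1 (.leaf 0x398) (.leaf 0x399)) (.node 1 (.leaf 0x39a) (.leaf 0x0))))) (.node 8 (.node 4 (.node 2 (.node 1 (.leaf 0x0) (.leaf 0x39b)) (.node 1 (.leaf 0x0) (.leaf 0x39c))) (.node 2 (.node 1 (.leaf 0x39d) (.leaf 0x0)) (.node 1 (.leaf 0x39e) (.leaf 0x39f)))) (.node 4 (.node 2 (.node 1 (.leaf 0x3a0) (.leaf 0x0)) (.node 1 (.leaf 0x3a1) (.leaf 0x3a2))) (.node 2 (.node 1 (.leaf 0x3a3) (.leaf 0x3a4)) (.node 1 (.leaf 0x3a5) (.leaf 0x0)))))) (.node 16 (.node 8 (.node 4 (.node 2 (.node 1 (.leaf 0x0) (.leaf 0x0)) (.node 1 (.leaf 0x3a6) (.leaf 0x3a7))) (.node 2 (.node 1 (.leaf 0x3a8) (.leaf 0x0)) (.node 1 (.leaf 0x0) (.leaf 0x0)))) (.node 4 (.node 2 (.node 1 (.leaf 0x0) (.leaf 0x0)) (.node 1 (.leaf 0x0) (.leaf 0x0))) (.node 2 (.node 1 (.leaf 0x0) (.leaf 0x0)) (.node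 1 (.leaf 0x3a9) (.leaf 0x3aa))))) (.node 8 (.node 4 (.node 2 (.node 1 (.leaf 0x3ab) (.leaf 0x0)) (.node 1 (.leaf 0x0) (.leaf 0x0))) (.node 2 (.node 1 (.leaf 0x3ac) (.leaf 0x3ad)) (.node 1 (.leaf 0x3ae) (.leaf 0x3af)))) (.node 4 (.node 2 (.node 1 (.leaf 0x3b0) (.leaf 0x3b1)) (.node 1 (.leaf 0x3b2) (.leaf 0x3b3))) (.node 2 (.node 1 (.leaf 0x3b4) (.leaf 0x3b5)) (.node 1 (.leaf 0x3b6) (.leaf 0x3b7)))))))

def chainPos1_10 : Tree :=
  .node 64 (.node 32 (.node 16 (.node 8 (.node 4 (.node 2 (.node 1 (.leaf 0x3b8) (.leaf 0x3b9)) (.node 1 (.leaf 0x0) (.leaf 0x0))) (.node 2 (.node 1 (.leaf 0x3ba) (.leaf 0x3bb)) (.node 1 (.leaf 0x3bc) (.leaf 0x0)))) (.node 4 (.node 2 (.node 1 (.leaf 0x3bd) (.leaf 0x3be)) (.node 1 (.leaf 0x0) (.leaf 0x3bf))) (.node 2 (.node 1 (.leaf 0x3c0) (.leaf 0x3c1)) (.node 1 (.leaf 0x3c2) (.leaf 0x3c3))))) (.node 8 (.node 4 (.node 2 (.node 1 (.leaf 0x3c4)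 (.leaf 0x3c5)) (.node 1 (.leaf 0x3c6) (.leaf 0x3c7))) (.node 2 (.node 1 (.leaf 0x3c8) (.leaf 0x3c9)) (.node 1 (.leaf 0x3ca) (.leaf 0x0)))) (.node 4 (.node 2 (.node 1 (.leaf 0x3cb) (.leaf 0x0)) (.node 1 (.leaf 0x3cc) (.leaf 0x0))) (.node 2 (.node 1 (.leaf 0x3cd) (.leaf 0x3ce)) (.node 1 (.leaf 0x3cf) (.leaf 0x0)))))) (.node 16 (.node 8 (.node 4 (.node 2 (.node 1 (.leaf 0x3d0) (.leaf 0x0)) (.node 1 (.leaf 0x0) (.leaf 0x0))) (.node 2 (.node 1 (.leaf 0x3d1) (.leaf 0x3d2)) (.node 1 (.leaf 0x0) (.leaf 0x0)))) (.node 4 (.node 2 (.node 1 (.leaf 0x0) (.leaf 0x0)) (.node 1 (.leaf 0x3d3) (.leaf 0x3d4))) (.node 2 (.node 1 (.leaf 0x3d5) (.leaf 0x3d6)) (.node 1 (.leaf 0x3d7) (.leaf 0x0))))) (.node 8 (.node 4 (.node 2 (.node 1 (.leaf 0x0) (.leaf 0x3d8)) (.node 1 (.leaf 0x0) (.leaf 0x0))) (.node 2 (.node 1 (.leaf 0x3d9) (.leaf 0x3da)) (.node 1 (.leaf 0x3db) (.leaf 0x3dc)))) (.node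 4 (.node 2 (.node 1 (.leaf 0x3dd) (.leaf 0x3de)) (.node 1 (.leaf 0x0) (.leaf 0x0))) (.node 2 (.node 1 (.leaf 0x0) (.leaf 0x0)) (.node 1 (.leaf 0x0) (.leaf 0x0))))))) (.node 32 (.node 16 (.node 8 (.node 4 (.node 2 (.node 1 (.leaf 0x0) (.leaf 0x3df)) (.node 1 (.leaf 0x3e0) (.leaf 0x3e1))) (.node 2 (.node 1 (.leaf 0x3e2) (.leaf 0x3e3)) (.node 1 (.leaf 0x3e4) (.leaf 0x0)))) (.node 4 (.node 2 (.node 1 (.leaf 0x0) (.leaf 0x3e5)) (.node 1 (.leaf 0x3e6) (.leaf 0x3e7))) (.node 2 (.node 1 (.leaf 0x3e8) (.leaf 0x3e9)) (.node 1 (.leaf 0x3ea) (.leaf 0x3eb))))) (.node 8 (.node 4 (.node 2 (.node 1 (.leaf 0x3ec) (.leaf 0x3ed)) (.node 1 (.leaf 0x3ee) (.leaf 0x0))) (.node 2 (.node 1 (.leaf 0x3ef) (.leaf 0x3f0)) (.node 1 (.leaf 0x3f1) (.leaf 0x3f2)))) (.node 4 (.node 2 (.node 1 (.leaf 0x3f3) (.leaf 0x3f4)) (.node 1 (.leaf 0x3f5) (.leaf 0x3f6))) (.node 2 (.node 1 (.leaf 0x3f7) (.leaf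 0x3f8)) (.node 1 (.leaf 0x3f9) (.leaf 0x3fa)))))) (.node 16 (.node 8 (.node 4 (.node 2 (.node 1 (.leaf 0x3fb) (.leaf 0x3fc)) (.node 1 (.leaf 0x3fd) (.leaf 0x3fe))) (.node 2 (.node 1 (.leaf 0x3ff) (.leaf 0x400)) (.node 1 (.leaf 0x401) (.leaf 0x402)))) (.node 4 (.node 2 (.node 1 (.leaf 0x403) (.leaf 0x404)) (.node 1 (.leaf 0x405) (.leaf 0x406))) (.node 2 (.node 1 (.leaf 0x407) (.leaf 0x408)) (.node 1 (.leaf 0x409) (.leaf 0x40a))))) (.node 8 (.node 4 (.node 2 (.node 1 (.leaf 0x40b) (.leaf 0x40c)) (.node 1 (.leaf 0x40d) (.leaf 0x40e))) (.node 2 (.node 1 (.leaf 0x40f) (.leaf 0x410)) (.node 1 (.leaf 0x411) (.leaf 0x412)))) (.node 4 (.node 2 (.node 1 (.leaf 0x413) (.leaf 0x414)) (.node 1 (.leaf 0x415) (.leaf 0x416))) (.node 2 (.node 1 (.leaf 0x417) (.leaf 0x418)) (.node 1 (.leaf 0x419) (.leaf 0x41a)))))))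

def chainPos1_11 : Tree :=
  .node 64 (.node 32 (.node 16 (.node 8 (.node 4 (.node 2 (.node 1 (.leaf 0x41b) (.leaf 0x41c)) (.node 1 (.leaf 0x41d) (.leaf 0x41e))) (.node 2 (.node 1 (.leaf 0x41f) (.leaf 0x420)) (.node 1 (.leaf 0x421) (.leaf 0x422)))) (.node 4 (.node 2 (.node 1 (.leaf 0x423) (.leaf 0x424)) (.node 1 (.leaf 0x425) (.leaf 0x426))) (.node 2 (.node 1 (.leaf 0x427) (.leaf 0x428)) (.node 1 (.leaf 0x0) (.leaf 0x429))))) (.node 8 (.node 4 (.node 2 (.node 1 (.leaf 0x42a) (.leaf 0x42b)) (.node 1 (.leaf 0x42c) (.leaf 0x42d))) (.node 2 (.node 1 (.leaf 0x42e) (.leaf 0x42f)) (.node 1 (.leaf 0x430) (.leaf 0x431)))) (.node 4 (.node 2 (.node 1 (.leaf 0x432) (.leaf 0x433)) (.node 1 (.leaf 0x434) (.leaf 0x435))) (.node 2 (.node 1 (.leaf 0x436) (.leaf 0x437)) (.node 1 (.leaf 0x438) (.leaf 0x439)))))) (.node 16 (.node 8 (.node 4 (.node 2 (.node 1 (.leaf 0x43a) (.leaf 0x0))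 (.node 1 (.leaf 0x43b) (.leaf 0x43c))) (.node 2 (.node 1 (.leaf 0x0) (.leaf 0x0)) (.node 1 (.leaf 0x0) (.leaf 0x43d)))) (.node 4 (.node 2 (.node 1 (.leaf 0x43e) (.leaf 0x0)) (.node 1 (.leaf 0x0) (.leaf 0x0))) (.node 2 (.node 1 (.leaf 0x0) (.leaf 0x43f)) (.node 1 (.leaf 0x440) (.leaf 0x441))))) (.node 8 (.node 4 (.node 2 (.node 1 (.leaf 0x442) (.leaf 0x443)) (.node 1 (.leaf 0x444) (.leaf 0x0))) (.node 2 (.node 1 (.leaf 0x0) (.leaf 0x0)) (.node 1 (.leaf 0x0) (.leaf 0x445)))) (.node 4 (.node 2 (.node 1 (.leaf 0x446) (.leaf 0x0)) (.node 1 (.leaf 0x0) (.leaf 0x447))) (.node 2 (.node 1 (.leaf 0x448) (.leaf 0x449)) (.node 1 (.leaf 0x44a) (.leaf 0x44b))))))) (.node 32 (.node 16 (.node 8 (.node 4 (.node 2 (.node 1 (.leaf 0x44c) (.leaf 0x44d)) (.node 1 (.leaf 0x44e) (.leaf 0x44f))) (.node 2 (.node 1 (.leaf 0x450) (.leaf 0x451)) (.node 1 (.leaf 0x452) (.leaf 0x453)))) (.node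 4 (.node 2 (.node 1 (.leaf 0x454) (.leaf 0x455)) (.node 1 (.leaf 0x456) (.leaf 0x457))) (.node 2 (.node 1 (.leaf 0x458) (.leaf 0x459)) (.node 1 (.leaf 0x45a) (.leaf 0x45b))))) (.node 8 (.node 4 (.node 2 (.node 1 (.leaf 0x45c) (.leaf 0x45d)) (.node 1 (.leaf 0x45e) (.leaf 0x45f))) (.node 2 (.node 1 (.leaf 0x460) (.leaf 0x461)) (.node 1 (.leaf 0x462) (.leaf 0x463)))) (.node 4 (.node 2 (.node 1 (.leaf 0x464) (.leaf 0x465)) (.node 1 (.leaf 0x466) (.leaf 0x467))) (.node 2 (.node 1 (.leaf 0x468) (.leaf 0x469)) (.node 1 (.leaf 0x46a) (.leaf 0x46b)))))) (.node 16 (.node 8 (.node 4 (.node 2 (.node 1 (.leaf 0x46c) (.leaf 0x46d)) (.node 1 (.leaf 0x46e) (.leaf 0x46f))) (.node 2 (.node 1 (.leaf 0x470) (.leaf 0x471)) (.node 1 (.leaf 0x472) (.leaf 0x473)))) (.node 4 (.node 2 (.node 1 (.leaf 0x474) (.leaf 0x475)) (.node 1 (.leaf 0x476) (.leaf 0x477))) (.node 2 (.node 1 (.leaf 0x478)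 (.leaf 0x479)) (.node 1 (.leaf 0x47a) (.leaf 0x47b))))) (.node 8 (.node 4 (.node 2 (.node 1 (.leaf 0x47c) (.leaf 0x47d)) (.node 1 (.leaf 0x47e) (.leaf 0x47f))) (.node 2 (.node 1 (.leaf 0x480) (.leaf 0x481)) (.node 1 (.leaf 0x482) (.leaf 0x483)))) (.node 4 (.node 2 (.node 1 (.leaf 0x484) (.leaf 0x485)) (.node 1 (.leaf 0x486) (.leaf 0x487))) (.node 2 (.node 1 (.leaf 0x488) (.leaf 0x489)) (.node 1 (.leaf 0x48a) (.leaf 0x48b)))))))

def chainPos1_12 : Tree :=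
  .node 64 (.node 32 (.node 16 (.node 8 (.node 4 (.node 2 (.node 1 (.leaf 0x48c) (.leaf 0x48d)) (.node 1 (.leaf 0x48e) (.leaf 0x48f))) (.node 2 (.node 1 (.leaf 0x490) (.leaf 0x491)) (.node 1 (.leaf 0x492) (.leaf 0x493)))) (.node 4 (.node 2 (.node 1 (.leaf 0x494) (.leaf 0x495)) (.node 1 (.leaf 0x496) (.leaf 0x497))) (.node 2 (.node 1 (.leaf 0x498) (.leaf 0x499)) (.node 1 (.leaf 0x49a) (.leaf 0x49b))))) (.node 8 (.node 4 (.node 2 (.node 1 (.leaf 0x49c) (.leaf 0x49d)) (.node 1 (.leaf 0x49e) (.leaf 0x49f))) (.node 2 (.node 1 (.leaf 0x4a0) (.leaf 0x4a1)) (.node 1 (.leaf 0x4a2) (.leaf 0x4a3)))) (.node 4 (.node 2 (.node 1 (.leaf 0x4a4) (.leaf 0x4a5)) (.node 1 (.leaf 0x4a6) (.leaf 0x4a7))) (.node 2 (.node 1 (.leaf 0x4a8) (.leaf 0x4a9)) (.node 1 (.leaf 0x4aa) (.leaf 0x4ab)))))) (.node 16 (.node 8 (.node 4 (.node 2 (.node 1 (.leaf 0x4ac) (.leaf 0x4ad)) (.node 1 (.leaf 0x4ae)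 (.leaf 0x4af))) (.node 2 (.node 1 (.leaf 0x4b0) (.leaf 0x0)) (.node 1 (.leaf 0x4b1) (.leaf 0x4b2)))) (.node 4 (.node 2 (.node 1 (.leaf 0x4b3) (.leaf 0x4b4)) (.node 1 (.leaf 0x4b5) (.leaf 0x4b6))) (.node 2 (.node 1 (.leaf 0x4b7) (.leaf 0x4b8)) (.node 1 (.leaf 0x4b9) (.leaf 0x0))))) (.node 8 (.node 4 (.node 2 (.node 1 (.leaf 0x0) (.leaf 0x4ba)) (.node 1 (.leaf 0x4bb) (.leaf 0x4bc))) (.node 2 (.node 1 (.leaf 0x0) (.leaf 0x0)) (.node 1 (.leaf 0x4bd) (.leaf 0x4be)))) (.node 4 (.node 2 (.node 1 (.leaf 0x0) (.leaf 0x4bf)) (.node 1 (.leaf 0x0) (.leaf 0x0))) (.node 2 (.node 1 (.leaf 0x4c0) (.leaf 0x4c1)) (.node 1 (.leaf 0x4c2) (.leaf 0x4c3))))))) (.node 32 (.node 16 (.node 8 (.node 4 (.node 2 (.node 1 (.leaf 0x4c4) (.leaf 0x4c5)) (.node 1 (.leaf 0x4c6) (.leaf 0x4c7))) (.node 2 (.node 1 (.leaf 0x4c8) (.leaf 0x0)) (.node 1 (.leaf 0x4c9) (.leaf 0x4ca)))) (.node 4 (.node 2 (.node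 1 (.leaf 0x4cb) (.leaf 0x4cc)) (.node 1 (.leaf 0x4cd) (.leaf 0x4ce))) (.node 2 (.node 1 (.leaf 0x4cf) (.leaf 0x4d0)) (.node 1 (.leaf 0x4d1) (.leaf 0x0))))) (.node 8 (.node 4 (.node 2 (.node 1 (.leaf 0x0) (.leaf 0x0)) (.node 1 (.leaf 0x4d2) (.leaf 0x0))) (.node 2 (.node 1 (.leaf 0x4d3) (.leaf 0x0)) (.node 1 (.leaf 0x0) (.leaf 0x0)))) (.node 4 (.node 2 (.node 1 (.leaf 0x4d4) (.leaf 0x0)) (.node 1 (.leaf 0x0) (.leaf 0x0))) (.node 2 (.node 1 (.leaf 0x4d5) (.leaf 0x4d6)) (.node 1 (.leaf 0x0) (.leaf 0x4d7)))))) (.node 16 (.node 8 (.node 4 (.node 2 (.node 1 (.leaf 0x4d8) (.leaf 0x4d9)) (.node 1 (.leaf 0x4da) (.leaf 0x4db))) (.node 2 (.node 1 (.leaf 0x4dc) (.leaf 0x4dd)) (.node 1 (.leaf 0x4de) (.leaf 0x0)))) (.node 4 (.node 2 (.node 1 (.leaf 0x4df) (.leaf 0x4e0)) (.node 1 (.leaf 0x4e1) (.leaf 0x4e2))) (.node 2 (.node 1 (.leaf 0x4e3) (.leaf 0x4e4)) (.node 1 (.leaf 0x4e5) (.leaf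 0x4e6))))) (.node 8 (.node 4 (.node 2 (.node 1 (.leaf 0x4e7) (.leaf 0x4e8)) (.node 1 (.leaf 0x4e9) (.leaf 0x4ea))) (.node 2 (.node 1 (.leaf 0x4eb) (.leaf 0x4ec)) (.node 1 (.leaf 0x4ed) (.leaf 0x0)))) (.node 4 (.node 2 (.node 1 (.leaf 0x4ee) (.leaf 0x4ef)) (.node 1 (.leaf 0x4f0) (.leaf 0x4f1))) (.node 2 (.node 1 (.leaf 0x4f2) (.leaf 0x4f3)) (.node 1 (.leaf 0x4f4) (.leaf 0x4f5)))))))

def chainPos1_13 : Tree :=
  .node 59 (.node 29 (.node 14 (.node 7 (.node 3 (.node 1 (.leaf 0x4f6) (.node 1 (.leaf 0x4f7) (.leaf 0x4f8))) (.node 2 (.node 1 (.leaf 0x4f9) (.leaf 0x4fa)) (.node 1 (.leaf 0x4fb) (.leaf 0x4fc)))) (.node 3 (.node 1 (.leaf 0x4fd) (.node 1 (.leaf 0x4fe) (.leaf 0x4ff))) (.node 2 (.node 1 (.leaf 0x500) (.leaf 0x501)) (.node 1 (.leaf 0x502) (.leaf 0x503))))) (.node 7 (.node 3 (.node 1 (.leaf 0x504) (.node 1 (.leaf 0x505) (.leaf 0x506))) (.node 2 (.node 1 (.leaf 0x507)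 (.leaf 0x508)) (.node 1 (.leaf 0x509) (.leaf 0x50a)))) (.node 4 (.node 2 (.node 1 (.leaf 0x50b) (.leaf 0x50c)) (.node 1 (.leaf 0x50d) (.leaf 0x50e))) (.node 2 (.node 1 (.leaf 0x50f) (.leaf 0x510)) (.node 1 (.leaf 0x511) (.leaf 0x512)))))) (.node 15 (.node 7 (.node 3 (.node 1 (.leaf 0x513) (.node 1 (.leaf 0x514) (.leaf 0x515))) (.node 2 (.node 1 (.leaf 0x0) (.leaf 0x0)) (.node 1 (.leaf 0x0) (.leaf 0x0)))) (.node 4 (.node 2 (.node 1 (.leaf 0x0) (.leaf 0x0)) (.node 1 (.leaf 0x0) (.leaf 0x516))) (.node 2 (.node 1 (.leaf 0x517) (.leaf 0x518)) (.node 1 (.leaf 0x519) (.leaf 0x51a))))) (.node 7 (.node 3 (.node 1 (.leaf 0x51b) (.node 1 (.leaf 0x51c) (.leaf 0x51d))) (.node 2 (.node 1 (.leaf 0x51e) (.leaf 0x51f)) (.node 1 (.leaf 0x520) (.leaf 0x521)))) (.node 4 (.node 2 (.node 1 (.leaf 0x522) (.leaf 0x523)) (.node 1 (.leaf 0x524) (.leaf 0x525))) (.node 2 (.node 1 (.leaf 0x526)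 (.leaf 0x527)) (.node 1 (.leaf 0x528) (.leaf 0x529))))))) (.node 29 (.node 14 (.node 7 (.node 3 (.node 1 (.leaf 0x52a) (.node 1 (.leaf 0x52b) (.leaf 0x52c))) (.node 2 (.node 1 (.leaf 0x52d) (.leaf 0x52e)) (.node 1 (.leaf 0x52f) (.leaf 0x530)))) (.node 3 (.node 1 (.leaf 0x531) (.node 1 (.leaf 0x532) (.leaf 0x533))) (.node 2 (.node 1 (.leaf 0x534) (.leaf 0x535)) (.node 1 (.leaf 0x536) (.leaf 0x537))))) (.node 7 (.node 3 (.node 1 (.leaf 0x538) (.node 1 (.leaf 0x539) (.leaf 0x53a))) (.node 2 (.node 1 (.leaf 0x53b) (.leaf 0x53c)) (.node 1 (.leaf 0x53d) (.leaf 0x53e)))) (.node 4 (.node 2 (.node 1 (.leaf 0x53f) (.leaf 0x540)) (.node 1 (.leaf 0x0) (.leaf 0x0))) (.node 2 (.node 1 (.leaf 0x541) (.leaf 0x542)) (.node 1 (.leaf 0x543) (.leaf 0x544)))))) (.node 15 (.node 7 (.node 3 (.node 1 (.leaf 0x545) (.node 1 (.leaf 0x0) (.leaf 0x546))) (.node 2 (.node 1 (.leaf 0x547) (.leaf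 0x0)) (.node 1 (.leaf 0x0) (.leaf 0x0)))) (.node 4 (.node 2 (.node 1 (.leaf 0x0) (.leaf 0x0)) (.node 1 (.leaf 0x0) (.leaf 0x0))) (.node 2 (.node 1 (.leaf 0x548) (.leaf 0x549)) (.node 1 (.leaf 0x54a) (.leaf 0x54b))))) (.node 7 (.node 3 (.node 1 (.leaf 0x54c) (.node 1 (.leaf 0x54d) (.leaf 0x54e))) (.node 2 (.node 1 (.leaf 0x54f) (.leaf 0x550)) (.node 1 (.leaf 0x551) (.leaf 0x552)))) (.node 4 (.node 2 (.node 1 (.leaf 0x553) (.leaf 0x0)) (.node 1 (.leaf 0x0) (.leaf 0x0))) (.node 2 (.node 1 (.leaf 0x554) (.leaf 0x555)) (.node 1 (.leaf 0x0) (.leaf 0x0)))))))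

def chainPos1 : Tree :=
  .node 896 (.node 384 (.node 128 (chainPos1_0) (.node 128 (chainPos1_1) (chainPos1_2))) (.node 256 (.node 128 (chainPos1_3) (chainPos1_4)) (.node 128 (chainPos1_5) (chainPos1_6)))) (.node 384 (.node 128 (chainPos1_7) (.node 128 (chainPos1_8) (chainPos1_9))) (.node 256 (.node 128 (chainPos1_10) (chainPos1_11)) (.node 128 (chainPos1_12) (chainPos1_13))))

def chain2_0 : List (List ℕ) :=
  [[], [0x1], [0x3], [0x6], [0x767], [0x272132712321272, 0x213], [0x43], [0x63], [0x7673], [0x72362767263271], [0x127272362126327, 0x2172343643432], [0x213243126343276, 0x7], [0x543], [0x127236276726327, 0x272123434634327], [0x723621263271], [0x343463462126327, 0x7212], [0x7236276726327], [0x721234346343273], [0x621327123212672, 0x27], [0x72362126327], [0x213243126343271, 0x7], [0x127272362126327, 0x52172343643432], [0x213243126343276, 0x57], [0x213243126343267,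 0x7], [0x127236276726327, 0x272123434634327, 0x5], [0x234623241231273, 0x7], [0x321723621267321, 0x7212], [0x721324312634327], [0x343463462126327, 0x57212], [0x434321362126327, 0x723436], [0x213271232126721, 0x276], [0x234623241231271, 0x321723621267327, 0x7212], [0x721234346343273, 0x5], [0x234364343212723, 0x217], [0x472362126327], [0x726121273], [0x213243126343271, 0x57], [0x723462324123127, 0x721234346343275], [0x213243126343267, 0x57], [0x721234346343273, 0x272132712321272, 0x213], [0x241231362126327, 0x7234623], [0x234623241231273, 0x57], [0x123434634327123, 0x272], [0x126346276726327, 0x7213243], [0x721324312634327, 0x5], [0x434321362126327, 0x5723436], [0x712723621263271, 0x27212343463432], [0x621327123212672, 0x132431263432727, 0x72], [0x234623241231271, 0x217236212673257, 0x72123], [0x723462324123127, 0x232172362126732, 0x721], [0x132431263432743, 0x72],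 [0x234364343212723, 0x5217], [0x5472362126327], [0x723436434321273], [0x234623241231271, 0x212343463432757, 0x7], [0x213243126343273, 0x27672127], [0x723462324123127, 0x721234346343275, 0x3], [0x723462324123127, 0x234364343212725, 0x217], [0x721234346343273, 0x721327123212725, 0x2132], [0x213243126343273, 0x7], [0x241231362126327, 0x57234623], [0x321723621267321, 0x7234623241232], [0x123434634327123, 0x5272], [0x126346276726327, 0x57213243], [0x263462767263271, 0x72132431], [0x721324312634327, 0x45], [0x712723621263271, 0x527212343463432], [0x213243126343271, 0x213271232126727, 0x276], [0x621327123212672, 0x132431263432727, 0x572], [0x213271232126721, 0x324312634327276, 0x721], [0x213243126343273, 0x212343463432757, 0x7], [0x723462324123127, 0x321723621267325, 0x7212], [0x132431263432743, 0x572], [0x631234346343273, 0x7236212], [0x723462324123127, 0x621327123212672,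 0x27], [0x723436434321273, 0x5], [0x723462324123127, 0x721234346343275, 0x272132712321272, 0x213], [0x213243126343273, 0x276721257], [0x723462324123127, 0x234364343212725, 0x3217], [0x123136276726327, 0x327125723462324, 0x272123434634], [0x213243126343273, 0x57], [0x272132712321272, 0x324312634327213, 0x721], [0x241231362126327, 0x457234623], [0x321723621267321, 0x57234623241232], [0x723462324123127, 0x212343463432712, 0x27], [0x126346276726327, 0x457213243], [0x263462767263271, 0x572132431], [0x721324312634327, 0x621327123212672, 0x27], [0x723462324123127, 0x234364343212725, 0x721327123212717, 0x2132], [0x234364343212723, 0x72362126327217], [0x213243126343271, 0x132712321267257, 0x2762], [0x241231362126327, 0x463432757234623, 0x7212343], [0x213271232126721, 0x324312634327276, 0x5721], [0x723462324123127, 0x272132712321272, 0x213], [0x213243126343273, 0x212343463432757,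 0x37], [0x213243126343273, 0x343643432127257, 0x2172], [0x621327123212672, 0x132431263432727, 0x343463432712572, 0x27212], [0x721234346343273, 0x723621263275], [0x723462324123127, 0x213271232126725, 0x276], [0x123234346343273, 0x723462324], [0x123136276726327, 0x723462324], [0x723462324123127, 0x721327123212725, 0x436434321272132, 0x723], [0x721234346343273, 0x234623241231275, 0x264364343212757, 0x72362767], [0x213243126343273, 0x212343463432757, 0x721327123212727, 0x2132], [0x213243126343273, 0x457], [0x272132712321272, 0x324312634327213, 0x5721], [0x763462324123127, 0x267212], [0x241231362126327, 0x3457234623], [0x126346276726327, 0x343271257213243, 0x2721234346], [0x723462324123127, 0x212343463432712, 0x527], [0x723462324123127, 0x2127672], [0x723462324123127], [0x241231362126327, 0x463432757234623, 0x123212727212343, 0x2132721327], [0x723462324123127, 0x213271232126725,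 0x172343643432126, 0x2], [0x721324312634327, 0x213271232126725, 0x276], [0x324312634327543, 0x234346343275721, 0x723627672631], [0x213462324123127, 0x7261], [0x231362767263271, 0x7234623241], [0x234364343212723, 0x723621263275217], [0x234623241231273, 0x321723621267327, 0x7212], [0x723462324123127, 0x421723621267325, 0x72343643], [0x241231362126327, 0x463432757234623, 0x37212343], [0x241231362126327, 0x432127257234623, 0x2172343643], [0x723462324123127, 0x721327123212725, 0x2132], [0x234623241231276, 0x7], [0x234364343212723, 0x243126343275217, 0x57213], [0x213243126343273, 0x343643432127257, 0x32172], [0x241231362126327, 0x321272457234623, 0x213272132712], [0x241231362126327, 0x343271257234623, 0x2721234346], [0x126346276726327, 0x343212757213243, 0x7234364], [0x123234346343273, 0x5723462324], [0x123136276726327, 0x5723462324], [0x234623241231271, 0x7], [0x621327123212672,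 0x346232412312727, 0x72], [0x723462324123127, 0x234623241231275, 0x321723621267327, 0x7212], [0x234623241231267, 0x7], [0x721324312634327, 0x634623241231275, 0x2672127], [0x213243126343273, 0x343643432127257, 0x213271232127172, 0x21327], [0x234623241231271, 0x217236212673257, 0x572346232412323, 0x723462324123127], [0x721234346343273, 0x234623241231275, 0x234346343271257, 0x621327123212621, 0x27], [0x721234346343273, 0x234623241231275, 0x234346343271257, 0x362767263272721, 0x72], [0x234364343212723, 0x243126343275217, 0x457213], [0x324312634327543, 0x271232127245721, 0x21327213], [0x213243126343273, 0x3457], [0x123136276726327, 0x212725723462324, 0x217234364343], [0x723462324123127, 0x26721276275], [0x231362767263271, 0x432757234623241, 0x72132431263], [0x126346276726327, 0x343212757213243, 0x123212727234364, 0x2132721327], [0x721324312634327, 0x234364343212725, 0x217],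 [0x723462324123127, 0x21276725]]

def chain2_1 : List (List ℕ) :=
  [[0x723462324123127, 0x5], [0x234623241231273, 0x346232412312757, 0x123434634327572, 0x72], [0x723462324123127, 0x631234346343275, 0x723627672], [0x241231362126327, 0x432127257234623, 0x232127172343643, 0x21327213271], [0x721324312634327, 0x213271232126725, 0x4276], [0x324312634327543, 0x364343212725721, 0x271232126717234, 0x276213], [0x324312634327543, 0x364343212725721, 0x276726327217234, 0x7236], [0x721234346343273, 0x234623241231275, 0x212343463432757, 0x721327123212727, 0x2132], [0x723462324123127, 0x726121275], [0x231362767263271, 0x57234623241], [0x234364343212723, 0x634621263275217, 0x5721324312], [0x723462324123127, 0x213271232126725, 0x123434634327176, 0x272], [0x234623241231273, 0x217236212673257, 0x72123], [0x213243126343273, 0x132712321272457, 0x213272], [0x234364343212723, 0x243126343275217,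 0x7213], [0x723462324123127, 0x234364343212725, 0x213271232126717, 0x276], [0x241231362126327, 0x432127257234623, 0x32172343643], [0x213243126343273, 0x234346343271257, 0x2721], [0x234623241231276, 0x57], [0x434321362126327, 0x126343275723436, 0x57213243], [0x712723621263271, 0x527212343463432, 0x721324312634327, 0x5], [0x343463462126327, 0x431263432757212, 0x572132], [0x621327123212672, 0x132431263432727, 0x324312634327572, 0x721], [0x275472362126327, 0x327234623241231, 0x212321723621267, 0x7], [0x126346276726327, 0x343212757213243, 0x37234364], [0x241231362126327, 0x343212757234623, 0x7234364], [0x241231362126327, 0x343212757234623, 0x123212727234364, 0x2132721327], [0x213243126343273, 0x234364343212757, 0x7], [0x234623241231271, 0x57], [0x621327123212672, 0x346232412312727, 0x572], [0x723462324123127, 0x234623241231275, 0x217236212673257, 0x72123], [0x462324123127543,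 0x7261213], [0x721234346343273, 0x234623241231275, 0x212343463432757, 0x37], [0x234623241231271, 0x346232412312757, 0x217236212673272, 0x72123], [0x723462324123127, 0x234623241231275, 0x321723621267327, 0x47212], [0x234623241231276, 0x346232412312757, 0x217236212673272, 0x72123], [0x213243126343273, 0x123127276721257, 0x723462324], [0x723462324123127, 0x321723621267325, 0x727234623241232, 0x21276], [0x234623241231267, 0x57], [0x723462324123127, 0x213271232127245, 0x232412312721327, 0x72346], [0x213243126343271, 0x346232412312757, 0x726121], [0x721324312634327, 0x234623241231275, 0x123434634327127, 0x272], [0x721324312634327, 0x134623241231275, 0x72612], [0x462324123127543, 0x172362126732723, 0x721232], [0x721324312634327, 0x234623241231275, 0x7], [0x324312634327543, 0x45721], [0x721234346343273, 0x721327123212725, 0x623241231272132, 0x232412312757234, 0x72346], [0x721234346343273,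 0x234623241231275, 0x234364343212757, 0x213271232126727, 0x276], [0x712723621263271, 0x527212343463432, 0x721324312634327, 0x45], [0x434321362126327, 0x126343275723436, 0x457213243], [0x343463462126327, 0x431263432757212, 0x4572132], [0x723462324123127, 0x321723621267325, 0x757234623241232, 0x72346232412312], [0x723462324123127, 0x213271232126725, 0x324312634327276, 0x721], [0x723462324123127, 0x723436434321275, 0x232172362126732, 0x721], [0x123136276726327, 0x212725723462324, 0x3217234364343], [0x723462324123127, 0x123434634327125, 0x272], [0x123136276726327, 0x343275723462324, 0x7213243126], [0x723462324123127, 0x213243126343275, 0x213271232126727, 0x276], [0x241231362126327, 0x263432757234623, 0x72132431], [0x721234346343273, 0x234623241231275, 0x267212762757], [0x234623241231271, 0x234364343212757, 0x7], [0x721324312634327, 0x234364343212725, 0x3217], [0x723462324123127,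 0x45], [0x723436434321273, 0x234623241231275, 0x343643432127257, 0x2172], [0x723436434321273, 0x234623241231275, 0x276721257], [0x234623241231273, 0x346232412312757, 0x436434321272572, 0x21723], [0x434321362126327, 0x241231275723436, 0x463432757234623, 0x7212343], [0x723462324123127, 0x631234346343275, 0x7236212], [0x723462324123127, 0x234364343212725, 0x236276726327217, 0x7], [0x213243126343273, 0x134364343212757, 0x723462324123], [0x123136276726327, 0x212725723462324, 0x212717234364343, 0x2132721327123], [0x324312634327543, 0x234346343275721, 0x327123212672721, 0x27621], [0x721234346343273, 0x234623241231275, 0x343643432127257, 0x32172], [0x721234346343273, 0x234623241231275, 0x343643432127257, 0x213271232127172, 0x21327], [0x234623241231273, 0x132431263432757, 0x72], [0x723462324123127, 0x723436434321275], [0x234364343212723, 0x634621263275217, 0x721324312], [0x723462324123127,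 0x321723621267325, 0x72123434634312], [0x123234346343273, 0x343275723462324, 0x57213243126], [0x241231362126327, 0x412312757234623, 0x126127572346232, 0x72], [0x721234346343273, 0x213243126343275, 0x213271232127257, 0x21327], [0x213243126343273, 0x132431263432757, 0x572], [0x126346276726327, 0x463432757213243, 0x7212343], [0x126346276726327, 0x463432757213243, 0x123212727212343, 0x2132721327], [0x275472362126327, 0x257234623241231, 0x123217236212673, 0x72], [0x434321362126327, 0x126343275723436, 0x7213243], [0x723436434321273, 0x234623241231275, 0x27672127], [0x712723621263271, 0x527212343463432, 0x721324312634327], [0x343463462126327, 0x431263432757212, 0x72132], [0x723462324123127, 0x721234346343275, 0x621327123212672, 0x27], [0x621327123212672, 0x132431263432727, 0x324312634327572, 0x5721], [0x213243126343273, 0x234364343212757, 0x721327123212727, 0x2132], [0x234623241231276,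 0x457], [0x126346276726327, 0x412312757213243, 0x721261346232], [0x721234346343273, 0x213243126343275, 0x57], [0x324312634327543, 0x5721], [0x126346276726327, 0x263432757213243, 0x72132431], [0x127272362126327, 0x752172343643432, 0x572132431263432], [0x234623241231273, 0x217236212673257, 0x72346232412323], [0x127236276726327, 0x272123434634327, 0x213243126343275, 0x57], [0x263462767263271, 0x634327572132431, 0x721324312], [0x213243126343267, 0x132431263432757, 0x72], [0x213243126343273, 0x634327276721257, 0x721324312], [0x123434634327123, 0x623241231275272, 0x723621267327234, 0x7212321], [0x234623241231273, 0x346232412312757, 0x217236212673272, 0x72123], [0x721234346343273, 0x234623241231275, 0x234346343271257, 0x2721], [0x721324312634327, 0x123434634327125, 0x272], [0x241231362126327, 0x343212757234623, 0x37234364], [0x213243126343273, 0x343643432127257, 0x723621263272172],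 [0x213243126343273, 0x234364343212757, 0x37], [0x721324312634327, 0x213271232126725, 0x343643432127276, 0x72], [0x234623241231271, 0x346232412312757, 0x172362126732572, 0x721232], [0x723462324123127, 0x431234346343275, 0x732572132431263, 0x721232172362126], [0x234623241231276, 0x346232412312757, 0x172362126732572, 0x721232], [0x213243126343273, 0x123127276721257, 0x5723462324], [0x723462324123127, 0x321723621267325, 0x257234623241232, 0x212767], [0x213243126343273, 0x132431263432757, 0x4572], [0x462324123127543, 0x2127672723], [0x234623241231273, 0x132431263432757, 0x472], [0x462324123127543, 0x7234364343213], [0x462324123127543, 0x267212763], [0x343463462126327, 0x232412312757212, 0x72346], [0x721234346343273, 0x234623241231275, 0x212343463432757, 0x7], [0x213243126343271, 0x346232412312757, 0x276721272], [0x723462324123127, 0x234623241231275, 0x721327123212727,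 0x436434321272132, 0x723], [0x234623241231267, 0x346232412312757, 0x217236212673272, 0x72123], [0x721234346343273, 0x721327123212725, 0x623241231272132, 0x7234], [0x723462324123127, 0x132431263432745, 0x132712321267272, 0x2762], [0x123234346343273, 0x343275723462324, 0x434634313243126, 0x72123], [0x241231362126327, 0x412312757234623, 0x436434321346232, 0x723], [0x723462324123127, 0x321723621267325, 0x612134623241232, 0x72], [0x723462324123127, 0x321723621267325, 0x7234623241232], [0x234623241231271, 0x217236212673257, 0x72346232412323], [0x234623241231271, 0x217236212673257, 0x272346232412323, 0x721234346343271, 0x2], [0x234623241231271, 0x217236212673257, 0x121346232412323, 0x726], [0x723462324123127, 0x346232412312745, 0x276721272], [0x241231362126327, 0x412312757234623, 0x72346232], [0x721324312634327, 0x723436434321275], [0x723462324123127, 0x321723621267325,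 0x627234623241232, 0x72672127], [0x324312634327543, 0x4721], [0x721324312634327, 0x134623241231275, 0x236212643643432, 0x7], [0x721324312634327, 0x723436434321275, 0x234623241231273, 0x7], [0x241231362126327, 0x412312757234623, 0x721261346232], [0x213243126343271, 0x346232412312757, 0x723436434321], [0x721324312634327, 0x234623241231275, 0x21276727], [0x127272362126327, 0x752172343643432, 0x272346232412312, 0x123217236212673, 0x72], [0x213243126343267, 0x346232412312757, 0x72], [0x723462324123127, 0x213243126343275, 0x234364343212727, 0x217], [0x721324312634327, 0x134623241231275, 0x72343643432], [0x723462324123127, 0x234623241231275, 0x321723621267327, 0x72123434634312]]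

def chain2_2 : List (List ℕ) :=
  [[0x721324312634327, 0x234623241231275, 0x47], [0x241231362126327, 0x412312757234623, 0x276721272346232], [0x343463462126327, 0x232412312757212, 0x236212673272346, 0x72123217], [0x213243126343271, 0x346232412312757, 0x72], [0x213243126343273, 0x346232412312757, 0x72], [0x213243126343276, 0x346232412312757, 0x72], [0x127272362126327, 0x752172343643432, 0x572132431263432, 0x4], [0x324312634327543, 0x236212673245721, 0x72123217], [0x721234346343273, 0x213243126343275, 0x457], [0x213243126343267, 0x132431263432757, 0x217236212673272, 0x72123], [0x127236276726327, 0x272123434634327, 0x213243126343275, 0x457], [0x723462324123127, 0x726436434321275, 0x7236276], [0x721234346343273, 0x234623241231275, 0x213271232126727, 0x276], [0x321723621267321, 0x757234623241232, 0x72132431263432], [0x721324312634327, 0x7236212632745], [0x721234346343273,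 0x634623241231275, 0x2672127], [0x723462324123127, 0x723436434321275, 0x272132712321272, 0x213], [0x723462324123127, 0x721327123212725, 0x243126343272132, 0x7213], [0x234364343212723, 0x623241231275217, 0x7261212757234], [0x132431263432743, 0x324312634327572, 0x721], [0x324312634327543, 0x57212343463431], [0x723462324123127, 0x213271232126725, 0x324312634327276, 0x343463432712721, 0x527212], [0x234623241231273, 0x346232412312757, 0x572], [0x721324312634327, 0x234364343212725, 0x721327123212717, 0x2132], [0x213243126343273, 0x212343463432757, 0x213271232126727, 0x276], [0x723462324123127, 0x345], [0x213243126343267, 0x132431263432757, 0x172362126732572, 0x721232], [0x723436434321273, 0x234623241231275, 0x726721276257], [0x723436434321273, 0x234623241231275, 0x212343463432757, 0x7], [0x723462324123127, 0x234623241231275, 0x672636721276257, 0x723627], [0x234623241231273,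 0x346232412312757, 0x7267212762572], [0x234364343212723, 0x623241231275217, 0x276721257234], [0x213243126343271, 0x346232412312757, 0x217236212673272, 0x72123], [0x721234346343273, 0x234623241231275, 0x343643432127257, 0x2172], [0x434321362126327, 0x241231275723436, 0x432127257234623, 0x2172343643], [0x721234346343273, 0x234623241231275, 0x132712321267257, 0x2762], [0x723462324123127, 0x234364343212725, 0x72362126327217], [0x723462324123127, 0x432726721276275, 0x673272132431263, 0x72123217236212], [0x721324312634327, 0x234623241231275, 0x321723621267327, 0x7212], [0x126346276726327, 0x412312757213243, 0x72346232], [0x127272362126327, 0x752172343643432, 0x572132431263432, 0x723436434321272, 0x21], [0x721234346343273, 0x234623241231275, 0x212343463432757, 0x321723621267327, 0x7212], [0x723462324123127, 0x123434634327125, 0x762132712321262, 0x2], [0x723462324123127,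 0x213243126343275, 0x7], [0x723436434321273, 0x213243126343275, 0x7], [0x275472362126327, 0x7213243126343], [0x272132712321272, 0x324312634327213, 0x243126343275721, 0x57213], [0x723462324123127, 0x723436434321275, 0x3], [0x123234346343273, 0x343275723462324, 0x7213243126], [0x723462324123127, 0x213243126343275, 0x123434634327127, 0x236276726327272, 0x7], [0x721234346343273, 0x213243126343275, 0x721327123212727, 0x2132], [0x213243126343273, 0x132431263432757, 0x72], [0x723462324123127, 0x321723621267325, 0x372123434634312], [0x213243126343273, 0x132431263432757, 0x72612127572], [0x721234346343273, 0x312634621263275, 0x5721324], [0x721324312634327, 0x213271232126725, 0x324312634327276, 0x5721], [0x241231362126327, 0x412312757234623, 0x212762572346232, 0x7267], [0x213243126343271, 0x132712321267257, 0x243126343272762, 0x57213], [0x126346276726327, 0x463432757213243,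 0x37212343], [0x213243126343273, 0x312343463432757, 0x72362126], [0x123434634327123, 0x623241231275272, 0x236212673257234, 0x72123217], [0x234623241231273, 0x346232412312757, 0x172362126732572, 0x721232], [0x234623241231273, 0x217236212673257, 0x572346232412323], [0x213243126343273, 0x346232412312757, 0x721261], [0x723436434321273, 0x234623241231275, 0x72672127627], [0x721234346343273, 0x213243126343275, 0x7], [0x324312634327543, 0x721], [0x723462324123127, 0x234623241231275, 0x767263672127627, 0x72362], [0x234623241231273, 0x346232412312757, 0x726721276272], [0x234364343212723, 0x623241231275217, 0x27672127234], [0x126346276726327, 0x263432757213243, 0x572132431], [0x127272362126327, 0x752172343643432, 0x72132431263432], [0x127236276726327, 0x272123434634327, 0x213243126343275, 0x7], [0x723462324123127, 0x432726721276275, 0x732572132431263, 0x721232172362126], [0x263462767263271,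 0x634327572132431, 0x5721324312], [0x213243126343267, 0x132431263432757, 0x572], [0x213243126343273, 0x634327276721257, 0x5721324312], [0x126346276726327, 0x343271257213243, 0x263272721234346, 0x72362767], [0x723462324123127, 0x213271232127245, 0x21327], [0x241231362126327, 0x343271257234623, 0x231272721234346, 0x7234623241], [0x723462324123127, 0x321723621267325, 0x721324312634312, 0x723436434321272, 0x21], [0x241231362126327, 0x343212757234623, 0x462324123134364, 0x723], [0x721234346343273, 0x213243126343275, 0x343643432127257, 0x2172], [0x721324312634327, 0x213243126343275, 0x721327123212727, 0x2132], [0x721324312634327, 0x213243126343275, 0x7], [0x721234346343273, 0x721327123212725, 0x243126343272132, 0x7213], [0x721234346343273, 0x412313621263275, 0x72346232], [0x723462324123127, 0x346232412312745, 0x132712321272572, 0x213272], [0x721234346343273, 0x213243126343275,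 0x234364343212757, 0x7], [0x213243126343271, 0x132431263432757, 0x72], [0x234623241231271, 0x217236212673257, 0x213243126343123, 0x7], [0x234623241231271, 0x346232412312757, 0x72], [0x723462324123127, 0x431263436121275, 0x72132], [0x723462324123127, 0x321723621267325, 0x721324312634312], [0x723436434321273, 0x234623241231275, 0x321723621267327, 0x7212], [0x234364343212723, 0x623241231275217, 0x364343212757234, 0x7234], [0x234364343212723, 0x313621263275217, 0x72346232412], [0x721234346343273, 0x234623241231275, 0x234364343212757, 0x7], [0x324312634327543, 0x343672127625721, 0x7213243126], [0x234623241231273, 0x346232412312757, 0x4572], [0x721324312634327, 0x723436434321275, 0x272132712321272, 0x213], [0x723462324123127, 0x234623241231275, 0x7261212757], [0x723462324123127, 0x123243126343275, 0x72346232412316], [0x213243126343273, 0x343643432127257, 0x362767263272172,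 0x72], [0x241231362126327, 0x432127257234623, 0x263272172343643, 0x723621], [0x241231362126327, 0x212672457234623, 0x27621327123], [0x723462324123127, 0x134623241231275, 0x72612], [0x723462324123127, 0x321723621267325, 0x272123434634312, 0x327213271232127, 0x21], [0x462324123127543, 0x7267212762723], [0x723462324123127, 0x234623241231275, 0x213271232127257, 0x364343212721327, 0x7234], [0x234623241231267, 0x346232412312757, 0x172362126732572, 0x721232], [0x721234346343273, 0x721327123212725, 0x623241231272132, 0x57234], [0x213243126343273, 0x243124343212757, 0x57213], [0x723462324123127, 0x431234346343275, 0x673272132431263, 0x72123217236212], [0x241231362126327, 0x412312757234623, 0x432127572346232, 0x72343643], [0x324312634327543, 0x723621267325721, 0x7212321], [0x723462324123127, 0x321723621267325, 0x757234623241232, 0x7261212], [0x723462324123127, 0x321723621267325,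 0x57234623241232], [0x234623241231271, 0x217236212673257, 0x572346232412323], [0x213243126343273, 0x132431263432757, 0x2767212572], [0x213243126343273, 0x132431263432757, 0x436434321272572, 0x21723], [0x723462324123127, 0x346232412312745, 0x2767212572], [0x241231362126327, 0x412312757234623, 0x572346232], [0x723462324123127, 0x321723621267325, 0x257234623241232, 0x726721276], [0x324312634327543, 0x54721], [0x721324312634327, 0x723436434321275, 0x234623241231273, 0x57], [0x721324312634327, 0x234623241231275, 0x27672127], [0x723436434321273, 0x213243126343275, 0x72672127627], [0x123434634327123, 0x243126343275272, 0x72123434634313], [0x127236276726327, 0x272123434634327, 0x234623241231275, 0x7], [0x462324123127543, 0x7212613], [0x721324312634327, 0x234623241231275, 0x72672127627], [0x462324123127543, 0x2767212723], [0x723462324123127, 0x462324123127345, 0x5723], [0x723462324123127,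 0x213243126343275, 0x72672127627], [0x462324123127543, 0x343463432712723, 0x27212], [0x123136276726327, 0x343275723462324, 0x672127213243126, 0x27], [0x234623241231271, 0x132431263432757, 0x217236212673272, 0x72123], [0x241231362126327, 0x412312757234623, 0x767212572346232, 0x2], [0x127272362126327, 0x752172343643432, 0x72346232412312], [0x462324123127543, 0x723], [0x721324312634327, 0x134623241231275, 0x72126], [0x234623241231276, 0x324312634327457, 0x721], [0x723462324123127, 0x213271232127245, 0x431263432721327, 0x72132], [0x721234346343273, 0x312634621263275, 0x434321272721324, 0x21723436], [0x241231362126327, 0x412312757234623, 0x343271272346232, 0x2721234346], [0x213243126343273, 0x132431263432757, 0x234346343271272, 0x2721], [0x721324312634327, 0x723436434321275, 0x272132712321272, 0x324312634327213, 0x721], [0x723462324123127, 0x213243126343275, 0x7236212632747],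 [0x723462324123127, 0x321723621267325, 0x432134623241232, 0x72343643]]

def chain2_3 : List (List ℕ) :=
  [[0x723462324123127, 0x324312634327345, 0x721], [0x723462324123127, 0x321723621267325, 0x127634623241232, 0x2672], [0x234364343212723, 0x623241231275217, 0x723621267327234, 0x7212321], [0x234623241231271, 0x346232412312757, 0x213271232127272, 0x21327], [0x723462324123127, 0x234364343212725, 0x213271232126717, 0x462324123127276, 0x723], [0x234623241231271, 0x217236212673257, 0x321346232412323, 0x723436434], [0x213243126343276, 0x346232412312757, 0x472], [0x241231362126327, 0x412312757234623, 0x472346232], [0x721234346343273, 0x234623241231275, 0x321723621267327, 0x7212], [0x723462324123127, 0x234623241231275, 0x721327123212727, 0x2132], [0x723462324123127, 0x263432721276725, 0x72132431], [0x723462324123127, 0x234623241231275, 0x7], [0x723462324123127, 0x213271232126725,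 0x462324123127276, 0x723], [0x721324312634327, 0x723436434321275, 0x3], [0x213243126343273, 0x324312634327457, 0x721], [0x723462324123127, 0x462324123127345, 0x723], [0x721234346343273, 0x234623241231275, 0x72672127627], [0x721324312634327, 0x134623241231275, 0x627672643643432, 0x723], [0x213243126343273, 0x132431263432757, 0x472], [0x123136276726327, 0x212725723462324, 0x327217234364343, 0x721324312634], [0x241231362126327, 0x343212757234623, 0x7213243124], [0x241231362126327, 0x412312757234623, 0x721276272346232, 0x726], [0x723462324123127, 0x132431263432745, 0x72], [0x723462324123127, 0x313243126343275, 0x72123434634], [0x213243126343271, 0x346232412312757, 0x234346343271272, 0x2721], [0x723462324123127, 0x234623241231275, 0x321723621267327, 0x364343212727212, 0x217234], [0x213243126343267, 0x346232412312757, 0x472], [0x126346276726327, 0x412312757213243, 0x726121346232],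 [0x213243126343271, 0x132712321267257, 0x623241231272762, 0x7234], [0x234623241231276, 0x132431263432757, 0x721234346343], [0x241231362126327, 0x123127457234623, 0x723462324], [0x723462324123127, 0x213243126343275, 0x123434634327127, 0x272], [0x126346276726327, 0x463432757213243, 0x324312634312343, 0x721], [0x723462324123127, 0x213271232126725, 0x462324123127276, 0x4723], [0x213243126343271, 0x346232412312757, 0x472], [0x721234346343273, 0x213243126343275, 0x7261212757], [0x721324312634327, 0x234623241231275, 0x721327123212727, 0x2132], [0x721324312634327, 0x213271232126725, 0x462324123127276, 0x723], [0x213243126343273, 0x312343463432757, 0x7236276726], [0x723462324123127, 0x721234346343275, 0x232172362126732, 0x721], [0x324312634327543, 0x436434321275721, 0x72362126], [0x213243126343271, 0x132431263432757, 0x243126343274572, 0x7213], [0x723436434321273, 0x234623241231275,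 0x234364343212757, 0x213271232126727, 0x276], [0x234623241231271, 0x346232412312757, 0x172362126732572, 0x723462324123232], [0x721234346343273, 0x213243126343275, 0x726721276257], [0x324312634327543, 0x172362126732721, 0x721232], [0x721324312634327, 0x213243126343275, 0x321723621267327, 0x7212], [0x213243126343276, 0x132431263432757, 0x217236212673272, 0x72123], [0x213243126343273, 0x243124343212757, 0x7213], [0x621327123212672, 0x346232412312727, 0x462324123127572, 0x5723], [0x723462324123127, 0x123434634327125, 0x236276726327272, 0x7], [0x723462324123127, 0x126436434321275, 0x72362], [0x721324312634327, 0x217236212673245, 0x72123], [0x234364343212723, 0x623241231275217, 0x72612134], [0x721234346343273, 0x234623241231275, 0x123434634327127, 0x272], [0x324312634327543, 0x7212343463431], [0x723462324123127, 0x213271232126725, 0x324312634327276, 0x343463432712721, 0x27212],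 [0x234623241231273, 0x346232412312757, 0x72], [0x213243126343273, 0x343643432127257, 0x132712321267172, 0x2762], [0x723462324123127, 0x721327123212725, 0x623241231272132, 0x7234], [0x324312634327543, 0x436434321272721, 0x521723], [0x241231362126327, 0x463432757234623, 0x234623241232343, 0x57], [0x275472362126327, 0x57234623241231], [0x723462324123127, 0x721327123212725, 0x623241231272132, 0x57234], [0x123136276726327, 0x231275723462324, 0x127627234623241, 0x72672], [0x123136276726327, 0x231275723462324, 0x432757234623241, 0x7212343463], [0x123434634327123, 0x623241231275272, 0x57234], [0x723462324123127, 0x234623241231275, 0x634327276721257, 0x721324312], [0x123136276726327, 0x231275723462324, 0x57234623241], [0x723436434321273, 0x234623241231275, 0x57], [0x241231362126327, 0x463432757234623, 0x232126727212343, 0x276213271], [0x126346276726327, 0x126732457213243,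 0x721232172362], [0x234623241231273, 0x346232412312757, 0x212767272], [0x721324312634327, 0x213243126343275, 0x217236212673257, 0x72123], [0x213243126343276, 0x132431263432757, 0x172362126732572, 0x721232], [0x721234346343273, 0x213243126343275, 0x547], [0x721234346343273, 0x213243126343275, 0x72672127627], [0x213243126343273, 0x346232412312757, 0x234346343271272, 0x2721], [0x721234346343273, 0x234623241231275, 0x726721276257], [0x721234346343273, 0x234623241231275, 0x276721257], [0x213243126343273, 0x346232412312757, 0x726121], [0x721324312634327, 0x234623241231275, 0x213271232126727, 0x276], [0x241231362126327, 0x463432757234623, 0x236276726312343, 0x7], [0x621327123212672, 0x346232412312727, 0x462324123127572, 0x723], [0x234364343212723, 0x313621263275217, 0x572346232412], [0x721234346343273, 0x234623241231275, 0x123434634327127, 0x5272], [0x723462324123127, 0x431263436121275,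 0x236212673272132, 0x72123217], [0x721234346343273, 0x213243126343275, 0x21276727], [0x126346276726327, 0x412312757213243, 0x472346232], [0x721234346343273, 0x123243126343275, 0x726], [0x263462767263271, 0x123127572132431, 0x723462324], [0x234364343212723, 0x243126343275217, 0x364343212757213, 0x7234], [0x213243126343271, 0x346232412312757, 0x132712321267272, 0x2762], [0x324312634327543, 0x234346343275721, 0x721], [0x234623241231271, 0x346232412312757, 0x623241231274572, 0x7234], [0x127272362126327, 0x752172343643432, 0x572132431263432, 0x72123434634327], [0x723462324123127, 0x234623241231275, 0x217236212673257, 0x72346232412323], [0x721234346343273, 0x213243126343275, 0x234364343212757, 0x321723621267327, 0x7212], [0x723462324123127, 0x723436434321275, 0x621327123212672, 0x27], [0x234623241231271, 0x264364343212757, 0x723621], [0x723462324123127, 0x7236212632745],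 [0x234623241231271, 0x132431263432757, 0x72], [0x723462324123127, 0x213243126343275, 0x47], [0x234623241231276, 0x132431263432757, 0x72], [0x272132712321272, 0x324312634327213, 0x243126343275721, 0x7213], [0x123434634327123, 0x243126343275272, 0x7213], [0x213243126343273, 0x232431263432757, 0x7261], [0x723462324123127, 0x631234346343275, 0x462324123136212, 0x723], [0x721234346343273, 0x312634621263275, 0x721324], [0x721324312634327, 0x213271232126725, 0x324312634327276, 0x721], [0x723462324123127, 0x213243126343275, 0x217236212673247, 0x72123], [0x723462324123127, 0x123234346343275, 0x212672723462324, 0x27621327123], [0x213243126343271, 0x132712321267257, 0x243126343272762, 0x7213], [0x241231362126327, 0x726327457234623, 0x7236276], [0x213243126343273, 0x132431263432757, 0x2127672572], [0x234364343212723, 0x243126343275217, 0x236212673257213, 0x72123217], [0x723462324123127,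 0x213243126343275, 0x321723621267327, 0x7212], [0x213243126343271, 0x132431263432757, 0x123434634327572, 0x72], [0x213243126343273, 0x234364343212757, 0x321723621267327, 0x7212], [0x241231362126327, 0x463432757234623, 0x72362126312343], [0x723436434321273, 0x234623241231275, 0x217236212673257, 0x72123], [0x721234346343273, 0x412313621263275, 0x572346232], [0x213243126343273, 0x346232412312757, 0x726721276272], [0x721234346343273, 0x213243126343275, 0x47], [0x123434634327123, 0x623241231275272, 0x364343212757234, 0x7234], [0x723462324123127, 0x234623241231275, 0x421723621267327, 0x72343643], [0x213243126343273, 0x346232412312757, 0x234346343271272, 0x52721], [0x721234346343273, 0x234623241231275, 0x27672127], [0x721324312634327, 0x213243126343275, 0x213271232127257, 0x21327], [0x721324312634327, 0x213243126343275, 0x57], [0x721234346343273, 0x721327123212725, 0x243126343272132,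 0x57213], [0x723462324123127, 0x346232412312745, 0x213271232127272, 0x21327], [0x723462324123127, 0x431263436121275, 0x362126732572132, 0x721232172], [0x721234346343273, 0x213243126343275, 0x212767257], [0x126346276726327, 0x412312757213243, 0x5472346232], [0x723436434321273, 0x234623241231275, 0x457], [0x213243126343271, 0x132431263432757, 0x572], [0x234623241231271, 0x217236212673257, 0x213243126343123, 0x57], [0x213243126343267, 0x132431263432757, 0x4572], [0x723462324123127, 0x431263436121275, 0x572132], [0x723462324123127, 0x321723621267325, 0x721324312634312, 0x5], [0x123136276726327, 0x212725723462324, 0x327217234364343, 0x7236276726], [0x126346276726327, 0x343212757213243, 0x723621264364], [0x126346276726327, 0x463432757213243, 0x234623241232343, 0x7], [0x723462324123127, 0x321723621267325, 0x343123434634312, 0x7213243126], [0x213243126343273, 0x346232412312757,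 0x276721272], [0x721234346343273, 0x213243126343275, 0x212343463432757, 0x7], [0x234364343212723, 0x243126343275217, 0x643432127257213, 0x2172343], [0x712723621263271, 0x527212343463432, 0x723462324123127, 0x45], [0x343463462126327, 0x431263432757212, 0x643432127572132, 0x72343]]

def chain2_4 : List (List ℕ) :=
  [[0x213243126343276, 0x132431263432757, 0x72], [0x723462324123127, 0x234623241231275, 0x234346343271257, 0x623241231272721, 0x7234], [0x241231362126327, 0x263432757234623, 0x432127272132431, 0x52172343643], [0x721324312634327, 0x313436434321275, 0x572346232412], [0x123136276726327, 0x231275723462324, 0x612757234623241, 0x7212], [0x721234346343273, 0x213243126343275, 0x234346343271257, 0x2721], [0x721234346343273, 0x234623241231275, 0x312343463432757, 0x721324312634], [0x324312634327543, 0x364343212725721, 0x217234], [0x213243126343276, 0x132431263432757,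 0x4572], [0x234623241231276, 0x346232412312757, 0x72], [0x723462324123127, 0x212343463432712, 0x324312634327527, 0x721], [0x723436434321273, 0x634623241231275, 0x2672127], [0x234623241231271, 0x346232412312757, 0x572], [0x434321362126327, 0x241231275723436, 0x621267327234623, 0x7212321723], [0x723462324123127, 0x232412316121275, 0x72346], [0x723462324123127, 0x432726721276275, 0x72132431263], [0x213243126343273, 0x346232412312757, 0x5723436434321], [0x723462324123127, 0x213243126343275, 0x212632727672127, 0x7236], [0x234364343212723, 0x623241231275217, 0x346343271257234, 0x2721234], [0x324312634327543, 0x432727672125721, 0x72132431263], [0x275472362126327, 0x457234623241231], [0x324312634327543, 0x2767212721], [0x123136276726327, 0x231275723462324, 0x212727234623241, 0x217234364343], [0x721234346343273, 0x234623241231275, 0x234364343212757, 0x37], [0x123434634327123,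 0x623241231275272, 0x457234], [0x723462324123127, 0x234623241231275, 0x212343463432757, 0x721327123212727, 0x2132], [0x712723621263271, 0x527212343463432, 0x723462324123127, 0x234623241231275, 0x7], [0x234623241231273, 0x346232412312757, 0x2127672572], [0x241231362126327, 0x463432757234623, 0x621267327212343, 0x7212321723], [0x723462324123127, 0x234623241231275, 0x267212762757], [0x723462324123127, 0x234623241231275, 0x234364343212757, 0x7], [0x723462324123127, 0x234623241231275, 0x212767257], [0x723462324123127, 0x232412316121275, 0x572346], [0x723462324123127, 0x213243126343275, 0x241231672127627, 0x7234623], [0x241231362126327, 0x432127257234623, 0x263272172343643, 0x72362767], [0x213243126343273, 0x327123212672457, 0x27621], [0x723462324123127, 0x134623241231275, 0x72343643432], [0x126346276726327, 0x343271257213243, 0x123212621234346, 0x27621327], [0x723462324123127,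 0x634623241231275, 0x2672127], [0x723462324123127, 0x234623241231275, 0x21276727], [0x234623241231271, 0x346232412312757, 0x436434321272572, 0x21723], [0x723462324123127, 0x321723621267325, 0x343123434634312, 0x57213243126], [0x234623241231271, 0x312343463432757, 0x732721324312634, 0x721232172362126], [0x241231362126327, 0x412312757234623, 0x432712572346232, 0x27212343463], [0x213243126343273, 0x346232412312757, 0x343643432127272, 0x52172], [0x723462324123127, 0x234364343212725, 0x324312634327217, 0x172362126732721, 0x721232], [0x723462324123127, 0x126436434321275, 0x572132431263462], [0x127236276726327, 0x272123434634327, 0x213243126343275, 0x217236212673257, 0x72123], [0x213243126343273, 0x132431263432757, 0x123434634327572, 0x72], [0x234364343212723, 0x623241231275217, 0x236212673257234, 0x72123217], [0x234623241231271, 0x346232412312757, 0x132712321272572, 0x213272],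 [0x213243126343273, 0x132431263432757, 0x276721272], [0x213243126343273, 0x132431263432757, 0x7267212762572], [0x723462324123127, 0x234623241231275, 0x234364343212727, 0x5217], [0x721234346343273, 0x213243126343275, 0x217236212673257, 0x72123], [0x721234346343273, 0x234623241231275, 0x217236212673257, 0x72123], [0x723462324123127, 0x234623241231275, 0x213271232127257, 0x21327], [0x723462324123127, 0x412312721276725, 0x432712572346232, 0x27212343463], [0x723462324123127, 0x234623241231275, 0x57], [0x723462324123127, 0x213271232126725, 0x462324123127276, 0x5723], [0x723462324123127, 0x263432721276725, 0x572132431], [0x723462324123127, 0x234623241231275, 0x312343463432757, 0x7236276726], [0x723462324123127, 0x263243126343275, 0x721], [0x723436434321273, 0x213243126343275, 0x27672127], [0x721324312634327, 0x234623241231275, 0x234364343212727, 0x217], [0x723462324123127,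 0x213243126343275, 0x27672127], [0x241231362126327, 0x263432757234623, 0x276721272132431], [0x723462324123127, 0x613243126343275, 0x2672127], [0x123136276726327, 0x231275723462324, 0x47234623241], [0x234623241231273, 0x232431263432757, 0x7261], [0x723462324123127, 0x213243126343275, 0x672632721276727, 0x723627], [0x462324123127543, 0x4723], [0x721324312634327, 0x126436434321275, 0x72362], [0x721324312634327, 0x324312434321275, 0x721], [0x723462324123127, 0x721234346343275, 0x232172362126732, 0x72132431263431], [0x234623241231267, 0x132431263432757, 0x472], [0x213243126343273, 0x232343463432757, 0x7234623241], [0x723462324123127, 0x313243126343275, 0x673272123434634, 0x72123217236212], [0x123136276726327, 0x327125723462324, 0x127272123434634, 0x723462324123], [0x723462324123127, 0x123234346343275, 0x321272723462324, 0x213272132712], [0x723462324123127, 0x721327123212725,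 0x436434321272132, 0x72346232412313], [0x723462324123127, 0x321723621267325, 0x127234623241232, 0x272123434634327], [0x213243126343273, 0x132431263432757, 0x343643432127272, 0x2172], [0x234623241231271, 0x232343463432757, 0x7234623241], [0x723462324123127, 0x313243126343275, 0x127272123434634, 0x21327213271232], [0x721324312634327, 0x213243126343275, 0x3457], [0x234623241231267, 0x346232412312757, 0x72], [0x241231362126327, 0x126327457234623, 0x72362], [0x721324312634327, 0x234623241231275, 0x123434634327127, 0x236276726327272, 0x7], [0x723462324123127, 0x213243126343275, 0x234364343212727, 0x72362126327217], [0x723462324123127, 0x421723621267325, 0x72132431243], [0x723462324123127, 0x126346212632745, 0x7213243], [0x723462324123127, 0x313243126343275, 0x267272123434634, 0x2762132712321], [0x721324312634327, 0x234623241231275, 0x123434634327127, 0x762132712321262,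 0x2], [0x721324312634327, 0x234623241231275, 0x7236212632747], [0x723462324123127, 0x123234346343275, 0x126732723462324, 0x721232172362], [0x241231362126327, 0x412312757234623, 0x432127272346232, 0x2172343643], [0x234623241231271, 0x132431263432757, 0x472], [0x234623241231276, 0x132431263432757, 0x343643432127272, 0x2172], [0x126346276726327, 0x343212757213243, 0x462324123134364, 0x723], [0x721324312634327, 0x346232412312745, 0x72], [0x126346276726327, 0x263432757213243, 0x7212632431], [0x723462324123127, 0x213243126343275, 0x123434634327127, 0x762132712321262, 0x2], [0x126346276726327, 0x343271257213243, 0x231272721234346, 0x7234623241], [0x723462324123127, 0x123234346343275, 0x723462324], [0x723462324123127, 0x234364343212725, 0x263462126327217, 0x72132431], [0x723462324123127, 0x132431263432745, 0x217236212673272, 0x72123], [0x721234346343273, 0x213243126343275,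 0x267212762757], [0x324312634327543, 0x72672127625721], [0x723436434321273, 0x234623241231275, 0x123434634327127, 0x272], [0x721234346343273, 0x213243126343275, 0x343643432127257, 0x362767263272172, 0x72], [0x721324312634327, 0x723436434321275, 0x621327123212672, 0x27], [0x723462324123127, 0x234623241231275, 0x123434634327127, 0x5272], [0x721324312634327, 0x213243126343275, 0x324312634327457, 0x721], [0x723436434321273, 0x234623241231275, 0x234346343271257, 0x621327123212621, 0x27], [0x723462324123127, 0x346232412312745, 0x234346343271272, 0x52721], [0x723462324123127, 0x234623241231275, 0x327267212762757, 0x721324312634], [0x324312634327543, 0x234346343275721, 0x723462324123], [0x721234346343273, 0x234623241231275, 0x236276726327457, 0x7], [0x721234346343273, 0x213243126343275, 0x276721257], [0x721234346343273, 0x213243126343275, 0x7212612757], [0x343463462126327,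 0x431263432757212, 0x72612127572132], [0x127236276726327, 0x272123434634327, 0x213243126343275, 0x321723621267327, 0x7212], [0x213243126343271, 0x132431263432757, 0x217236212673272, 0x72123], [0x723462324123127, 0x321723621267325, 0x126324312634312, 0x72], [0x213243126343273, 0x346232412312757, 0x343643432127272, 0x2172], [0x723462324123127, 0x217236212673245, 0x72123], [0x241231362126327, 0x343212757234623, 0x232126727234364, 0x276213271], [0x723462324123127, 0x132712321267245, 0x2762], [0x324312634327543, 0x436434321272721, 0x21723], [0x241231362126327, 0x463432757234623, 0x234623241232343, 0x7], [0x275472362126327, 0x7234623241231], [0x324312634327543, 0x72126], [0x123136276726327, 0x231275723462324, 0x276257234623241, 0x726721], [0x126346276726327, 0x123127457213243, 0x723462324], [0x123434634327123, 0x623241231275272, 0x7234], [0x241231362126327, 0x263432757234623,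 0x212767272132431], [0x123136276726327, 0x231275723462324, 0x7234623241], [0x723436434321273, 0x234623241231275, 0x7], [0x241231362126327, 0x432127257234623, 0x321267172343643, 0x2762132712], [0x231362767263271, 0x312757234623241, 0x72346232412], [0x234364343212723, 0x623241231275217, 0x457234], [0x241231362126327, 0x263432757234623, 0x343271272132431, 0x52721234346], [0x213243126343273, 0x462324123127457, 0x5723], [0x231362767263271, 0x312757234623241, 0x572346232412], [0x213243126343273, 0x462324123127457, 0x723], [0x723462324123127, 0x234623241231275, 0x27672127], [0x123136276726327, 0x231275723462324, 0x72126134623241], [0x241231362126327, 0x263432757234623, 0x234346343132431, 0x721], [0x723462324123127, 0x234623241231275, 0x7212612757]]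

def chain2_5 : List (List ℕ) :=
  [[0x723462324123127, 0x134623241231275, 0x372126], [0x712723621263271, 0x527212343463432, 0x723462324123127], [0x123136276726327, 0x212725723462324, 0x327217234364343, 0x72362126], [0x721234346343273, 0x213243126343275, 0x27672127], [0x721234346343273, 0x213243126343275, 0x234364343212727, 0x217], [0x213243126343271, 0x132431263432757, 0x172362126732572, 0x721232], [0x721234346343273, 0x263243126343275, 0x721], [0x126346276726327, 0x263432757213243, 0x432127572132431, 0x72343643], [0x723462324123127, 0x346232412312745, 0x234346343271272, 0x2721], [0x343463462126327, 0x431263432757212, 0x7261232], [0x213243126343273, 0x346232412312757, 0x723436434321], [0x723462324123127, 0x723436434321275, 0x272132712321272, 0x324312634327213, 0x721], [0x126346276726327, 0x263432757213243, 0x126127572132431, 0x72], [0x213243126343273, 0x72362126327457],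 [0x324312634327543, 0x27672125721], [0x324312634327543, 0x721261275721], [0x234364343212723, 0x243126343275217, 0x2672127613], [0x126346276726327, 0x263432757213243, 0x276721272132431], [0x721234346343273, 0x613243126343275, 0x2672127], [0x324312634327543, 0x7267212762721], [0x723436434321273, 0x234623241231275, 0x123434634327127, 0x5272], [0x234364343212723, 0x243126343275217, 0x346343271257213, 0x2721234], [0x721234346343273, 0x234623241231275, 0x234364343212757, 0x321723621267327, 0x7212], [0x241231362126327, 0x263432757234623, 0x26721276132431], [0x723462324123127, 0x234623241231275, 0x462324123127457, 0x723], [0x721324312634327, 0x234364343212725, 0x324312634327217, 0x623241231275721, 0x7234], [0x324312634327543, 0x364343212725721, 0x327123212717234, 0x2132721], [0x721234346343273, 0x234623241231275, 0x327123212672457, 0x27621], [0x723462324123127, 0x234623241231275,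 0x234346343271257, 0x362767263272721, 0x72], [0x721324312634327, 0x234364343212725, 0x72362126327217], [0x241231362126327, 0x343271257234623, 0x263272721234346, 0x72362767], [0x723462324123127, 0x723627672632745], [0x234623241231267, 0x132431263432757, 0x72], [0x723462324123127, 0x213243126343275, 0x347], [0x234623241231276, 0x132431263432757, 0x472], [0x723462324123127, 0x313243126343275, 0x621263123434634, 0x723], [0x213243126343273, 0x132431263432757, 0x212767272], [0x723462324123127, 0x721234346343275, 0x234623241231273, 0x7], [0x723462324123127, 0x721234346343275, 0x272132712321272, 0x462324123127213, 0x723], [0x234364343212723, 0x243126343275217, 0x723621267327213, 0x7212321], [0x723462324123127, 0x213243126343275, 0x21276727], [0x213243126343273, 0x236276726327457, 0x7], [0x723462324123127, 0x234623241231275, 0x217236212673257, 0x721234346343123], [0x234623241231271,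 0x312343463432757, 0x5721324312634], [0x213243126343273, 0x132431263432757, 0x72126127572], [0x241231362126327, 0x263432757234623, 0x7261232431], [0x723462324123127, 0x234623241231275, 0x726721276257], [0x721324312634327, 0x213243126343275, 0x212343463432757, 0x7], [0x721324312634327, 0x234364343212725, 0x324312634327217, 0x5721], [0x213243126343271, 0x132431263432757, 0x436434321272572, 0x21723], [0x721324312634327, 0x213243126343275, 0x132431263432757, 0x72], [0x241231362126327, 0x343212757234623, 0x621267327234364, 0x7212321723], [0x241231362126327, 0x432127257234623, 0x343272172343643, 0x7213243126], [0x721324312634327, 0x723436434321275, 0x621327123212672, 0x346232412312727, 0x72], [0x723436434321273, 0x234623241231275, 0x234364343212757, 0x7], [0x721234346343273, 0x213243126343275, 0x234364343212727, 0x5217], [0x123434634327123, 0x623241231275272, 0x346343271257234,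 0x2721234], [0x343463462126327, 0x431263432757212, 0x463432712572132, 0x27212343], [0x434321362126327, 0x241231275723436, 0x457234623], [0x721324312634327, 0x324312434321275, 0x172362126732721, 0x721232], [0x723462324123127, 0x723436434321275, 0x272132712321272, 0x324312634327213, 0x5721], [0x213243126343276, 0x132431263432757, 0x572], [0x721324312634327, 0x213243126343275, 0x457], [0x241231362126327, 0x263432757234623, 0x432127272132431, 0x2172343643], [0x721324312634327, 0x313436434321275, 0x72346232412], [0x234364343212723, 0x243126343275217, 0x267212762757213], [0x126346276726327, 0x263432757213243, 0x767212572132431, 0x2], [0x721234346343273, 0x213243126343275, 0x132431263432757, 0x72], [0x234623241231267, 0x346232412312757, 0x4572], [0x213243126343271, 0x132431263432757, 0x4572], [0x723462324123127, 0x212343463432712, 0x324312634327527, 0x5721], [0x723436434321273,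 0x234623241231275, 0x267212762757], [0x723462324123127, 0x234623241231275, 0x72362126327457], [0x234623241231271, 0x346232412312757, 0x4572], [0x723462324123127, 0x431263436121275, 0x4572132], [0x723462324123127, 0x432726721276275, 0x572132431263], [0x723462324123127, 0x721327123212725, 0x436434321272132, 0x172362126732723, 0x721232], [0x213243126343273, 0x264364343212757, 0x72362767], [0x241231362126327, 0x343212757234623, 0x72362767264364], [0x234364343212723, 0x243126343275217, 0x343463432757213, 0x7212], [0x721234346343273, 0x234623241231275, 0x457], [0x324312634327543, 0x436434321275721, 0x723], [0x213243126343273, 0x212343463432757, 0x321723621267327, 0x7212], [0x712723621263271, 0x527212343463432, 0x723462324123127, 0x5], [0x324312634327543, 0x434634327125721, 0x272123], [0x234623241231276, 0x346232412312757, 0x572], [0x241231362126327, 0x263432757234623, 0x234346343132431,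 0x5721], [0x234623241231276, 0x462324123127457, 0x5723], [0x324312634327543, 0x2127672721], [0x723462324123127, 0x346232412312745, 0x572], [0x723462324123127, 0x234623241231275, 0x346232412312757, 0x72], [0x234623241231271, 0x346232412312757, 0x7267212762572], [0x721234346343273, 0x234623241231275, 0x343643432127257, 0x723621263272172], [0x721324312634327, 0x213243126343275, 0x132712321272457, 0x213272], [0x324312634327543, 0x243126343275721, 0x364343212727213, 0x217234], [0x234364343212723, 0x623241231275217, 0x7234], [0x723462324123127, 0x432726721276275, 0x4572132431263], [0x723462324123127, 0x431234346343275, 0x127572132431263, 0x723462324123], [0x721234346343273, 0x313243126343275, 0x72123434634], [0x434321362126327, 0x241231275723436, 0x212673257234623, 0x72123217236], [0x723462324123127, 0x263432721276725, 0x276721272132431], [0x723462324123127, 0x412312721276725,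 0x72346232], [0x723462324123127, 0x212343463432712, 0x462324123127527, 0x723], [0x123136276726327, 0x343275723462324, 0x721263243126], [0x234364343212723, 0x623241231275217, 0x57234], [0x324312634327543, 0x263431261275721, 0x72132431], [0x234364343212723, 0x243126343275217, 0x431263432757213, 0x72132], [0x213243126343273, 0x343643432127257, 0x243126343272172, 0x7213], [0x234623241231271, 0x232431263432757, 0x7261], [0x213243126343273, 0x312343463432757, 0x721324312634], [0x241231362126327, 0x263432757234623, 0x7212632431], [0x723462324123127, 0x234364343212725, 0x324312634327217, 0x721], [0x723462324123127, 0x234623241231275, 0x212343463432757, 0x37], [0x721234346343273, 0x234623241231275, 0x346232412312757, 0x72], [0x234623241231273, 0x346232412312757, 0x462324123127572, 0x723], [0x723462324123127, 0x234623241231275, 0x234346343271257, 0x2721], [0x723462324123127,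 0x313436434321275, 0x572346232412], [0x723462324123127, 0x412312721276725, 0x572346232], [0x213243126343271, 0x132431263432757, 0x343463432712572, 0x27212], [0x721324312634327, 0x213243126343275, 0x234364343212757, 0x7], [0x234623241231276, 0x346232412312757, 0x343643432127572, 0x72], [0x723462324123127, 0x232412316121275, 0x4572346], [0x723462324123127, 0x312726721276275, 0x572346232412], [0x723462324123127, 0x212343463432712, 0x462324123127527, 0x5723], [0x723462324123127, 0x134623241231275, 0x572343643432], [0x123136276726327, 0x212725723462324, 0x126717234364343, 0x276213271232], [0x723462324123127, 0x234623241231275, 0x123434634327127, 0x272], [0x324312634327543, 0x267212761], [0x721324312634327, 0x213243126343275, 0x21276727], [0x723462324123127, 0x313436434321275, 0x72346232412], [0x234623241231271, 0x346232412312757, 0x123434634327572, 0x72], [0x723462324123127,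 0x312726721276275, 0x72346232412], [0x723462324123127, 0x234623241231275, 0x212343463432757, 0x7], [0x721324312634327, 0x132431263432745, 0x217236212673272, 0x72123], [0x723462324123127, 0x126436434321275, 0x72132431263462], [0x723462324123127, 0x324312434321275, 0x5721], [0x723462324123127, 0x232412316121275, 0x643432127572346, 0x72343], [0x213243126343273, 0x132431263432757, 0x726721276272], [0x723462324123127, 0x234623241231275, 0x234364343212727, 0x217], [0x721234346343273, 0x213243126343275, 0x321723621267327, 0x7212], [0x721324312634327, 0x213243126343275, 0x276721257], [0x434321362126327, 0x126343275723436, 0x212673257213243, 0x72123217236], [0x721324312634327, 0x213243126343275, 0x343643432127257, 0x2172], [0x723462324123127, 0x431234346343275, 0x572132431263], [0x723462324123127, 0x234623241231275, 0x3457], [0x723462324123127, 0x346232412312745, 0x436434321272572,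 0x21723], [0x234623241231267, 0x346232412312757, 0x572], [0x213243126343273, 0x132431263432757, 0x232412326127572, 0x72346], [0x723462324123127, 0x263432721276725, 0x4572132431], [0x723462324123127, 0x234623241231275, 0x457]]

def chain2_6 : List (List ℕ) :=
  [[0x723462324123127, 0x234623241231275, 0x343643432127257, 0x132712321267172, 0x2762], [0x213243126343273, 0x132431263432757, 0x231272767212572, 0x7234623241], [0x723462324123127, 0x234623241231275, 0x343643432127257, 0x362767263272172, 0x72], [0x213243126343273, 0x132431263432757, 0x324312634327572, 0x721], [0x234623241231271, 0x132431263432757, 0x276721272], [0x723462324123127, 0x132431263432745, 0x213271232127272, 0x21327], [0x241231362126327, 0x463432757234623, 0x324312634312343, 0x721], [0x723462324123127, 0x123243126343275, 0x726], [0x434321362126327, 0x241231275723436, 0x7234623], [0x721324312634327,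 0x726436434321275, 0x7236276], [0x721324312634327, 0x126436434321275, 0x72132431263462], [0x723462324123127, 0x213243126343275, 0x321723621267327, 0x721324312634312], [0x213243126343273, 0x132431263432757, 0x721234346343], [0x723462324123127, 0x234623241231275, 0x234364343212727, 0x623241231275217, 0x7234], [0x234623241231276, 0x346232412312757, 0x4572], [0x723462324123127, 0x213243126343275, 0x234364343212727, 0x236276726327217, 0x7], [0x721324312634327, 0x134623241231275, 0x267272343643432, 0x2762132712321], [0x723462324123127, 0x213243126343275, 0x213271232127247, 0x21327], [0x723462324123127, 0x213243126343275, 0x234364343212727, 0x213271232126717, 0x276], [0x234623241231273, 0x132431263432757, 0x462324123127472, 0x723], [0x434321362126327, 0x126343275723436, 0x621267327213243, 0x7212321723], [0x723462324123127, 0x234364343212725, 0x721327123212717, 0x623241231272132,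 0x7234], [0x721324312634327, 0x213243126343275, 0x212343463432757, 0x321723621267327, 0x7212], [0x721234346343273, 0x213243126343275, 0x343643432127257, 0x723621263272172], [0x723462324123127, 0x234623241231275, 0x343643432127257, 0x2172], [0x324312634327543, 0x726121275721], [0x213243126343273, 0x264364343212757, 0x723621], [0x721324312634327, 0x213243126343275, 0x234346343271257, 0x2721], [0x213243126343271, 0x132431263432757, 0x2672127627572], [0x723462324123127, 0x412312721276725, 0x5472346232], [0x721324312634327, 0x123434634327125, 0x462324123127272, 0x5723], [0x723462324123127, 0x234623241231275, 0x634327212767257, 0x721324312], [0x324312634327543, 0x243126343275721, 0x434634327127213, 0x272123], [0x723462324123127, 0x346232412312745, 0x5723436434321], [0x723462324123127, 0x263432721276725, 0x634327572132431, 0x72123434], [0x721324312634327, 0x213243126343275,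 0x212767257], [0x723462324123127, 0x234623241231275, 0x217236212673257, 0x213243126343123, 0x7], [0x234623241231271, 0x346232412312757, 0x172362126732572, 0x132431263431232, 0x72], [0x723462324123127, 0x234623241231275, 0x312634361212757, 0x721324], [0x723462324123127, 0x346232412312745, 0x324312634327572, 0x721], [0x721324312634327, 0x123434634327125, 0x462324123127272, 0x723], [0x324312634327543, 0x21276725721], [0x324312634327543, 0x26721276275721], [0x213243126343273, 0x234346343271257, 0x621327123212621, 0x27], [0x721234346343273, 0x313243126343275, 0x572123434634], [0x241231362126327, 0x343271257234623, 0x123212621234346, 0x27621327], [0x126346276726327, 0x343212757213243, 0x621267327234364, 0x7212321723], [0x213243126343273, 0x234364343212757, 0x213271232126727, 0x276], [0x723462324123127, 0x132712321267245, 0x42762], [0x241231362126327, 0x263432757234623,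 0x343271272132431, 0x2721234346], [0x723462324123127, 0x234623241231275, 0x276721257], [0x241231362126327, 0x263432757234623, 0x212673272132431, 0x72123217236], [0x241231362126327, 0x126732457234623, 0x721232172362], [0x723436434321273, 0x234623241231275, 0x234346343271257, 0x2721], [0x213243126343273, 0x172362126732457, 0x721232], [0x723462324123127, 0x234623241231275, 0x72672127627], [0x721324312634327, 0x213243126343275, 0x27672127], [0x234623241231271, 0x346232412312757, 0x726721276272], [0x723462324123127, 0x134623241231275, 0x72126], [0x721234346343273, 0x234623241231275, 0x7], [0x723462324123127, 0x346232412312745, 0x723436434321], [0x723462324123127, 0x412312721276725, 0x472346232], [0x324312634327543, 0x72612], [0x723462324123127, 0x263432721276725, 0x767212572132431, 0x2], [0x721234346343273, 0x234623241231275, 0x312343463432757, 0x72362126], [0x723462324123127,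 0x234623241231275, 0x212343463432757, 0x321723621267327, 0x7212], [0x723462324123127, 0x234364343212725, 0x324312634327217, 0x5721], [0x721324312634327, 0x213243126343275, 0x123127276721257, 0x723462324], [0x723462324123127, 0x431234346343275, 0x327572132431263, 0x72123434634], [0x723462324123127, 0x234623241231275, 0x234364343212757, 0x213271232126727, 0x276], [0x723462324123127, 0x234623241231275, 0x172362126732457, 0x721232], [0x721324312634327, 0x213243126343275, 0x234346343271257, 0x362767263272721, 0x72], [0x213243126343273, 0x234346343271257, 0x362767263272721, 0x72], [0x234623241231271, 0x132431263432757, 0x217236212673272, 0x213243126343123, 0x7], [0x723462324123127, 0x313243126343275, 0x767263123434634, 0x72362], [0x234623241231271, 0x312343463432757, 0x721324312634], [0x213243126343273, 0x632431263432757, 0x7212], [0x213243126343271, 0x132431263432757,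 0x26721276], [0x213243126343271, 0x132431263432757, 0x324312634327572, 0x721], [0x721324312634327, 0x234364343212725, 0x324312634327217, 0x721], [0x213243126343267, 0x132431263432757, 0x324312634327572, 0x721], [0x213243126343276, 0x132431263432757, 0x324312634327572, 0x721], [0x234623241231276, 0x462324123127457, 0x723], [0x434321362126327, 0x241231275723436, 0x57234623], [0x723462324123127, 0x346232412312745, 0x72], [0x723462324123127, 0x234623241231275, 0x132712321272457, 0x213272], [0x324312634327543, 0x243126343275721, 0x7213], [0x721324312634327, 0x213243126343275, 0x72362126327457], [0x723462324123127, 0x346232412312745, 0x123434634327572, 0x72], [0x241231362126327, 0x343212757234623, 0x723621264364], [0x721234346343273, 0x234623241231275, 0x57], [0x234623241231276, 0x346232412312757, 0x462324123127572, 0x723], [0x234623241231271, 0x346232412312757, 0x462324123127572,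 0x723], [0x723462324123127, 0x324312434321275, 0x623241231275721, 0x7234], [0x123434634327123, 0x623241231275272, 0x232412312757234, 0x72346], [0x723462324123127, 0x234623241231275, 0x343643432127257, 0x32172], [0x126346276726327, 0x463432757213243, 0x72362126312343], [0x723462324123127, 0x234623241231275, 0x234346343271257, 0x621327123212621, 0x27], [0x721324312634327, 0x132431263432745, 0x72], [0x723462324123127, 0x324312434321275, 0x721], [0x723436434321273, 0x234623241231275, 0x346232412312757, 0x72], [0x213243126343271, 0x132431263432757, 0x343643432127572, 0x72], [0x234623241231276, 0x346232412312757, 0x343463432712572, 0x27212], [0x723462324123127, 0x412312721276725, 0x4572346232], [0x723462324123127, 0x431263436121275, 0x434634327572132, 0x72123], [0x723462324123127, 0x431263436121275, 0x434321272572132, 0x21723436], [0x723462324123127, 0x346232412312745,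 0x343463432712572, 0x27212], [0x723462324123127, 0x346232412312745, 0x343643432127572, 0x72], [0x234623241231267, 0x346232412312757, 0x462324123127572, 0x723], [0x723462324123127, 0x431234346343275, 0x72132431263], [0x721324312634327, 0x132431263432745, 0x572], [0x723462324123127, 0x234623241231275, 0x212343463432757, 0x213271232126727, 0x276], [0x723462324123127, 0x234623241231275, 0x213271232127257, 0x232412312721327, 0x72346], [0x213243126343273, 0x132431263432757, 0x123167212762572, 0x723462324], [0x213243126343273, 0x132431263432757, 0x324312634327572, 0x2767212721], [0x723462324123127, 0x213271232126725, 0x462324123127276, 0x623241231275723, 0x7234], [0x721324312634327, 0x213271232126725, 0x324312634327276, 0x243126343275721, 0x7213], [0x723462324123127, 0x723436434321275, 0x342172362126732, 0x7234364], [0x723462324123127, 0x263432721276725, 0x321272572132431,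 0x21723436434], [0x213243126343273, 0x132431263432757, 0x324312634327572, 0x72612], [0x721324312634327, 0x213243126343275, 0x132431263432757, 0x217236212673272, 0x72123], [0x723462324123127, 0x313436434321275, 0x327572346232412, 0x721324312634], [0x723462324123127, 0x234623241231275, 0x264364343212757, 0x723621], [0x721324312634327, 0x213243126343275, 0x264364343212757, 0x72362767]]

def chain2 : List (List ℕ) := unchunk (((chain2_0 ++ (chain2_1 ++ chain2_2)) ++ ((chain2_3 ++ chain2_4) ++ (chain2_5 ++ chain2_6))))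

def chainPos2_0 : Tree :=
  .node 64 (.node 32 (.node 16 (.node 8 (.node 4 (.node 2 (.node 1 (.leaf 0x0) (.leaf 0x0)) (.node 1 (.leaf 0x1) (.leaf 0x2))) (.node 2 (.node 1 (.leaf 0x3) (.leaf 0x4)) (.node 1 (.leaf 0x5) (.leaf 0x6)))) (.node 4 (.node 2 (.node 1 (.leaf 0x7) (.leaf 0x8)) (.node 1 (.leaf 0x9) (.leaf 0xa))) (.node 2 (.node 1 (.leaf 0xb) (.leaf 0xc)) (.node 1 (.leaf 0xd) (.leaf 0xe))))) (.node 8 (.node 4 (.node 2 (.node 1 (.leaf 0x0) (.leaf 0xf)) (.node 1 (.leaf 0x10) (.leaf 0x11))) (.node 2 (.node 1 (.leaf 0x12) (.leaf 0x13)) (.node 1 (.leaf 0x14) (.leaf 0x15)))) (.node 4 (.node 2 (.node 1 (.leaf 0x16) (.leaf 0x0)) (.node 1 (.leaf 0x17) (.leaf 0x18))) (.node 2 (.node 1 (.leaf 0x19) (.leaf 0x0)) (.node 1 (.leaf 0x0) (.leaf 0x1a)))))) (.node 16 (.node 8 (.node 4 (.node 2 (.node 1 (.leaf 0x1b) (.leaf 0x1c)) (.node 1 (.leaf 0x1d) (.leaf 0x1e))) (.node 2 (.node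 1 (.leaf 0x1f) (.leaf 0x20)) (.node 1 (.leaf 0x21) (.leaf 0x22)))) (.node 4 (.node 2 (.node 1 (.leaf 0x23) (.leaf 0x24)) (.node 1 (.leaf 0x0) (.leaf 0x25))) (.node 2 (.node 1 (.leaf 0x0) (.leaf 0x0)) (.node 1 (.leaf 0x0) (.leaf 0x0))))) (.node 8 (.node 4 (.node 2 (.node 1 (.leaf 0x26) (.leaf 0x27)) (.node 1 (.leaf 0x28) (.leaf 0x0))) (.node 2 (.node 1 (.leaf 0x0) (.leaf 0x29)) (.node 1 (.leaf 0x2a) (.leaf 0x2b)))) (.node 4 (.node 2 (.node 1 (.leaf 0x2c) (.leaf 0x2d)) (.node 1 (.leaf 0x2e) (.leaf 0x2f))) (.node 2 (.node 1 (.leaf 0x0) (.leaf 0x30)) (.node 1 (.leaf 0x31) (.leaf 0x32))))))) (.node 32 (.node 16 (.node 8 (.node 4 (.node 2 (.node 1 (.leaf 0x33) (.leaf 0x34)) (.node 1 (.leaf 0x35) (.leaf 0x36))) (.node 2 (.node 1 (.leaf 0x0) (.leaf 0x0)) (.node 1 (.leaf 0x0) (.leaf 0x0)))) (.node 4 (.node 2 (.node 1 (.leaf 0x0) (.leaf 0x37)) (.node 1 (.leaf 0x0) (.leaf 0x0)))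 (.node 2 (.node 1 (.leaf 0x0) (.leaf 0x0)) (.node 1 (.leaf 0x0) (.leaf 0x0))))) (.node 8 (.node 4 (.node 2 (.node 1 (.leaf 0x38) (.leaf 0x0)) (.node 1 (.leaf 0x0) (.leaf 0x39))) (.node 2 (.node 1 (.leaf 0x3a) (.leaf 0x3b)) (.node 1 (.leaf 0x0) (.leaf 0x3c)))) (.node 4 (.node 2 (.node 1 (.leaf 0x3d) (.leaf 0x3e)) (.node 1 (.leaf 0x3f) (.leaf 0x40))) (.node 2 (.node 1 (.leaf 0x41) (.leaf 0x42)) (.node 1 (.leaf 0x43) (.leaf 0x0)))))) (.node 16 (.node 8 (.node 4 (.node 2 (.node 1 (.leaf 0x0) (.leaf 0x0)) (.node 1 (.leaf 0x0) (.leaf 0x0))) (.node 2 (.node 1 (.leaf 0x44) (.leaf 0x45)) (.node 1 (.leaf 0x46) (.leaf 0x47)))) (.node 4 (.node 2 (.node 1 (.leaf 0x48) (.leaf 0x49)) (.node 1 (.leaf 0x4a) (.leaf 0x4b))) (.node 2 (.node 1 (.leaf 0x4c) (.leaf 0x0)) (.node 1 (.leaf 0x0) (.leaf 0x0))))) (.node 8 (.node 4 (.node 2 (.node 1 (.leaf 0x0) (.leaf 0x0)) (.node 1 (.leaf 0x0)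 (.leaf 0x0))) (.node 2 (.node 1 (.leaf 0x0) (.leaf 0x0)) (.node 1 (.leaf 0x4d) (.leaf 0x0)))) (.node 4 (.node 2 (.node 1 (.leaf 0x0) (.leaf 0x0)) (.node 1 (.leaf 0x0) (.leaf 0x0))) (.node 2 (.node 1 (.leaf 0x0) (.leaf 0x0)) (.node 1 (.leaf 0x4e) (.leaf 0x0)))))))

def chainPos2_1 : Tree :=
  .node 64 (.node 32 (.node 16 (.node 8 (.node 4 (.node 2 (.node 1 (.leaf 0x0) (.leaf 0x0)) (.node 1 (.leaf 0x0) (.leaf 0x0))) (.node 2 (.node 1 (.leaf 0x4f) (.leaf 0x50)) (.node 1 (.leaf 0x51) (.leaf 0x52)))) (.node 4 (.node 2 (.node 1 (.leaf 0x53) (.leaf 0x54)) (.node 1 (.leaf 0x55) (.leaf 0x56))) (.node 2 (.node 1 (.leaf 0x57) (.leaf 0x58)) (.node 1 (.leaf 0x59) (.leaf 0x0))))) (.node 8 (.node 4 (.node 2 (.node 1 (.leaf 0x0) (.leaf 0x0)) (.node 1 (.leaf 0x0) (.leaf 0x0))) (.node 2 (.node 1 (.leaf 0x0) (.leaf 0x0)) (.node 1 (.leaf 0x0) (.leaf 0x0)))) (.node 4 (.node 2 (.node 1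 (.leaf 0x0) (.leaf 0x5a)) (.node 1 (.leaf 0x0) (.leaf 0x0))) (.node 2 (.node 1 (.leaf 0x5b) (.leaf 0x5c)) (.node 1 (.leaf 0x5d) (.leaf 0x5e)))))) (.node 16 (.node 8 (.node 4 (.node 2 (.node 1 (.leaf 0x5f) (.leaf 0x60)) (.node 1 (.leaf 0x61) (.leaf 0x62))) (.node 2 (.node 1 (.leaf 0x63) (.leaf 0x64)) (.node 1 (.leaf 0x65) (.leaf 0x0)))) (.node 4 (.node 2 (.node 1 (.leaf 0x0) (.leaf 0x0)) (.node 1 (.leaf 0x0) (.leaf 0x0))) (.node 2 (.node 1 (.leaf 0x0) (.leaf 0x0)) (.node 1 (.leaf 0x0) (.leaf 0x0))))) (.node 8 (.node 4 (.node 2 (.node 1 (.leaf 0x0) (.leaf 0x0)) (.node 1 (.leaf 0x0) (.leaf 0x0))) (.node 2 (.node 1 (.leaf 0x0) (.leaf 0x0)) (.node 1 (.leaf 0x0) (.leaf 0x0)))) (.node 4 (.node 2 (.node 1 (.leaf 0x0) (.leaf 0x0)) (.node 1 (.leaf 0x0) (.leaf 0x0))) (.node 2 (.node 1 (.leaf 0x0) (.leaf 0x0)) (.node 1 (.leaf 0x0) (.leaf 0x0))))))) (.node 32 (.node 16 (.node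 8 (.node 4 (.node 2 (.node 1 (.leaf 0x0) (.leaf 0x66)) (.node 1 (.leaf 0x0) (.leaf 0x0))) (.node 2 (.node 1 (.leaf 0x0) (.leaf 0x0)) (.node 1 (.leaf 0x0) (.leaf 0x0)))) (.node 4 (.node 2 (.node 1 (.leaf 0x0) (.leaf 0x0)) (.node 1 (.leaf 0x0) (.leaf 0x0))) (.node 2 (.node 1 (.leaf 0x0) (.leaf 0x0)) (.node 1 (.leaf 0x67) (.leaf 0x68))))) (.node 8 (.node 4 (.node 2 (.node 1 (.leaf 0x69) (.leaf 0x6a)) (.node 1 (.leaf 0x6b) (.leaf 0x6c))) (.node 2 (.node 1 (.leaf 0x6d) (.leaf 0x6e)) (.node 1 (.leaf 0x6f) (.leaf 0x70)))) (.node 4 (.node 2 (.node 1 (.leaf 0x71) (.leaf 0x72)) (.node 1 (.leaf 0x73) (.leaf 0x0))) (.node 2 (.node 1 (.leaf 0x74) (.leaf 0x0)) (.node 1 (.leaf 0x0) (.leaf 0x0)))))) (.node 16 (.node 8 (.node 4 (.node 2 (.node 1 (.leaf 0x0) (.leaf 0x0)) (.node 1 (.leaf 0x0) (.leaf 0x75))) (.node 2 (.node 1 (.leaf 0x0) (.leaf 0x0)) (.node 1 (.leaf 0x0) (.leaf 0x0))))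 (.node 4 (.node 2 (.node 1 (.leaf 0x76) (.leaf 0x0)) (.node 1 (.leaf 0x0) (.leaf 0x0))) (.node 2 (.node 1 (.leaf 0x0) (.leaf 0x0)) (.node 1 (.leaf 0x77) (.leaf 0x0))))) (.node 8 (.node 4 (.node 2 (.node 1 (.leaf 0x0) (.leaf 0x78)) (.node 1 (.leaf 0x79) (.leaf 0x7a))) (.node 2 (.node 1 (.leaf 0x7b) (.leaf 0x7c)) (.node 1 (.leaf 0x7d) (.leaf 0x7e)))) (.node 4 (.node 2 (.node 1 (.leaf 0x7f) (.leaf 0x80)) (.node 1 (.leaf 0x81) (.leaf 0x82))) (.node 2 (.node 1 (.leaf 0x83) (.leaf 0x84)) (.node 1 (.leaf 0x0) (.leaf 0x85)))))))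

def chainPos2_2 : Tree :=
  .node 64 (.node 32 (.node 16 (.node 8 (.node 4 (.node 2 (.node 1 (.leaf 0x86) (.leaf 0x0)) (.node 1 (.leaf 0x0) (.leaf 0x0))) (.node 2 (.node 1 (.leaf 0x0) (.leaf 0x0)) (.node 1 (.leaf 0x0) (.leaf 0x0)))) (.node 4 (.node 2 (.node 1 (.leaf 0x0) (.leaf 0x0)) (.node 1 (.leaf 0x0) (.leaf 0x0))) (.node 2 (.node 1 (.leaf 0x0) (.leaf 0x0)) (.node 1 (.leaf 0x0) (.leaf 0x0))))) (.node 8 (.node 4 (.node 2 (.node 1 (.leaf 0x0) (.leaf 0x0)) (.node 1 (.leaf 0x0) (.leaf 0x0))) (.node 2 (.node 1 (.leaf 0x0) (.leaf 0x0)) (.node 1 (.leaf 0x0) (.leaf 0x0)))) (.node 4 (.node 2 (.node 1 (.leaf 0x0) (.leaf 0x0)) (.node 1 (.leaf 0x0) (.leaf 0x87))) (.node 2 (.node 1 (.leaf 0x0) (.leaf 0x0)) (.node 1 (.leaf 0x0) (.leaf 0x0)))))) (.node 16 (.node 8 (.node 4 (.node 2 (.node 1 (.leaf 0x0) (.leaf 0x0)) (.node 1 (.leaf 0x0) (.leaf 0x88))) (.node 2 (.node 1 (.leaf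 0x0) (.leaf 0x0)) (.node 1 (.leaf 0x0) (.leaf 0x0)))) (.node 4 (.node 2 (.node 1 (.leaf 0x0) (.leaf 0x0)) (.node 1 (.leaf 0x0) (.leaf 0x0))) (.node 2 (.node 1 (.leaf 0x0) (.leaf 0x0)) (.node 1 (.leaf 0x89) (.leaf 0x0))))) (.node 8 (.node 4 (.node 2 (.node 1 (.leaf 0x0) (.leaf 0x0)) (.node 1 (.leaf 0x8a) (.leaf 0x0))) (.node 2 (.node 1 (.leaf 0x0) (.leaf 0x0)) (.node 1 (.leaf 0x0) (.leaf 0x0)))) (.node 4 (.node 2 (.node 1 (.leaf 0x0) (.leaf 0x0)) (.node 1 (.leaf 0x0) (.leaf 0x0))) (.node 2 (.node 1 (.leaf 0x0) (.leaf 0x0)) (.node 1 (.leaf 0x0) (.leaf 0x8b))))))) (.node 32 (.node 16 (.node 8 (.node 4 (.node 2 (.node 1 (.leaf 0x0) (.leaf 0x0)) (.node 1 (.leaf 0x8c) (.leaf 0x0))) (.node 2 (.node 1 (.leaf 0x0) (.leaf 0x8d)) (.node 1 (.leaf 0x8e) (.leaf 0x8f)))) (.node 4 (.node 2 (.node 1 (.leaf 0x90) (.leaf 0x91)) (.node 1 (.leaf 0x92) (.leaf 0x93))) (.node 2 (.node 1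 (.leaf 0x94) (.leaf 0x95)) (.node 1 (.leaf 0x96) (.leaf 0x97))))) (.node 8 (.node 4 (.node 2 (.node 1 (.leaf 0x98) (.leaf 0x99)) (.node 1 (.leaf 0x9a) (.leaf 0x9b))) (.node 2 (.node 1 (.leaf 0x0) (.leaf 0x9c)) (.node 1 (.leaf 0x9d) (.leaf 0x9e)))) (.node 4 (.node 2 (.node 1 (.leaf 0x0) (.leaf 0x0)) (.node 1 (.leaf 0x0) (.leaf 0x0))) (.node 2 (.node 1 (.leaf 0x0) (.leaf 0x0)) (.node 1 (.leaf 0x0) (.leaf 0x9f)))))) (.node 16 (.node 8 (.node 4 (.node 2 (.node 1 (.leaf 0x0) (.leaf 0x0)) (.node 1 (.leaf 0x0) (.leaf 0x0))) (.node 2 (.node 1 (.leaf 0xa0) (.leaf 0x0)) (.node 1 (.leaf 0x0) (.leaf 0xa1)))) (.node 4 (.node 2 (.node 1 (.leaf 0x0) (.leaf 0x0)) (.node 1 (.leaf 0x0) (.leaf 0xa2))) (.node 2 (.node 1 (.leaf 0x0) (.leaf 0x0)) (.node 1 (.leaf 0xa3) (.leaf 0xa4))))) (.node 8 (.node 4 (.node 2 (.node 1 (.leaf 0xa5) (.leaf 0xa6)) (.node 1 (.leaf 0xa7) (.leaf 0xa8))) (.node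 2 (.node 1 (.leaf 0xa9) (.leaf 0xaa)) (.node 1 (.leaf 0xab) (.leaf 0xac)))) (.node 4 (.node 2 (.node 1 (.leaf 0xad) (.leaf 0xae)) (.node 1 (.leaf 0xaf) (.leaf 0xb0))) (.node 2 (.node 1 (.leaf 0xb1) (.leaf 0xb2)) (.node 1 (.leaf 0x0) (.leaf 0xb3)))))))

def chainPos2_3 : Tree :=
  .node 64 (.node 32 (.node 16 (.node 8 (.node 4 (.node 2 (.node 1 (.leaf 0xb4) (.leaf 0x0)) (.node 1 (.leaf 0x0) (.leaf 0x0))) (.node 2 (.node 1 (.leaf 0x0) (.leaf 0xb5)) (.node 1 (.leaf 0x0) (.leaf 0x0)))) (.node 4 (.node 2 (.node 1 (.leaf 0x0) (.leaf 0x0)) (.node 1 (.leaf 0x0) (.leaf 0x0))) (.node 2 (.node 1 (.leaf 0x0) (.leaf 0x0)) (.node 1 (.leaf 0x0) (.leaf 0x0))))) (.node 8 (.node 4 (.node 2 (.node 1 (.leaf 0x0) (.leaf 0x0)) (.node 1 (.leaf 0x0) (.leaf 0x0))) (.node 2 (.node 1 (.leaf 0x0) (.leaf 0xb6)) (.node 1 (.leaf 0x0) (.leaf 0x0)))) (.node 4 (.node 2 (.node 1 (.leaf 0x0) (.leaf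 0x0)) (.node 1 (.leaf 0x0) (.leaf 0x0))) (.node 2 (.node 1 (.leaf 0x0) (.leaf 0x0)) (.node 1 (.leaf 0x0) (.leaf 0x0)))))) (.node 16 (.node 8 (.node 4 (.node 2 (.node 1 (.leaf 0x0) (.leaf 0xb7)) (.node 1 (.leaf 0x0) (.leaf 0x0))) (.node 2 (.node 1 (.leaf 0x0) (.leaf 0x0)) (.node 1 (.leaf 0xb8) (.leaf 0xb9)))) (.node 4 (.node 2 (.node 1 (.leaf 0xba) (.leaf 0xbb)) (.node 1 (.leaf 0x0) (.leaf 0x0))) (.node 2 (.node 1 (.leaf 0x0) (.leaf 0xbc)) (.node 1 (.leaf 0x0) (.leaf 0x0))))) (.node 8 (.node 4 (.node 2 (.node 1 (.leaf 0x0) (.leaf 0x0)) (.node 1 (.leaf 0xbd) (.leaf 0x0))) (.node 2 (.node 1 (.leaf 0x0) (.leaf 0x0)) (.node 1 (.leaf 0x0) (.leaf 0x0)))) (.node 4 (.node 2 (.node 1 (.leaf 0xbe) (.leaf 0x0)) (.node 1 (.leaf 0x0) (.leaf 0x0))) (.node 2 (.node 1 (.leaf 0x0) (.leaf 0x0)) (.node 1 (.leaf 0x0) (.leaf 0x0))))))) (.node 32 (.node 16 (.node 8 (.node 4 (.node 2 (.node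 1 (.leaf 0xbf) (.leaf 0x0)) (.node 1 (.leaf 0x0) (.leaf 0x0))) (.node 2 (.node 1 (.leaf 0x0) (.leaf 0x0)) (.node 1 (.leaf 0xc0) (.leaf 0x0)))) (.node 4 (.node 2 (.node 1 (.leaf 0x0) (.leaf 0x0)) (.node 1 (.leaf 0xc1) (.leaf 0xc2))) (.node 2 (.node 1 (.leaf 0xc3) (.leaf 0x0)) (.node 1 (.leaf 0x0) (.leaf 0x0))))) (.node 8 (.node 4 (.node 2 (.node 1 (.leaf 0x0) (.leaf 0x0)) (.node 1 (.leaf 0x0) (.leaf 0x0))) (.node 2 (.node 1 (.leaf 0x0) (.leaf 0x0)) (.node 1 (.leaf 0x0) (.leaf 0x0)))) (.node 4 (.node 2 (.node 1 (.leaf 0x0) (.leaf 0x0)) (.node 1 (.leaf 0x0) (.leaf 0xc4))) (.node 2 (.node 1 (.leaf 0xc5) (.leaf 0x0)) (.node 1 (.leaf 0x0) (.leaf 0xc6)))))) (.node 16 (.node 8 (.node 4 (.node 2 (.node 1 (.leaf 0xc7) (.leaf 0x0)) (.node 1 (.leaf 0x0) (.leaf 0xc8))) (.node 2 (.node 1 (.leaf 0xc9) (.leaf 0xca)) (.node 1 (.leaf 0xcb) (.leaf 0xcc)))) (.node 4 (.node 2 (.node 1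 (.leaf 0xcd) (.leaf 0xce)) (.node 1 (.leaf 0xcf) (.leaf 0xd0))) (.node 2 (.node 1 (.leaf 0xd1) (.leaf 0xd2)) (.node 1 (.leaf 0xd3) (.leaf 0xd4))))) (.node 8 (.node 4 (.node 2 (.node 1 (.leaf 0xd5) (.leaf 0xd6)) (.node 1 (.leaf 0xd7) (.leaf 0xd8))) (.node 2 (.node 1 (.leaf 0xd9) (.leaf 0xda)) (.node 1 (.leaf 0xdb) (.leaf 0xdc)))) (.node 4 (.node 2 (.node 1 (.leaf 0xdd) (.leaf 0x0)) (.node 1 (.leaf 0x0) (.leaf 0xde))) (.node 2 (.node 1 (.leaf 0xdf) (.leaf 0xe0)) (.node 1 (.leaf 0x0) (.leaf 0x0)))))))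

def chainPos2_4 : Tree :=
  .node 64 (.node 32 (.node 16 (.node 8 (.node 4 (.node 2 (.node 1 (.leaf 0x0) (.leaf 0x0)) (.node 1 (.leaf 0xe1) (.leaf 0x0))) (.node 2 (.node 1 (.leaf 0x0) (.leaf 0xe2)) (.node 1 (.leaf 0x0) (.leaf 0xe3)))) (.node 4 (.node 2 (.node 1 (.leaf 0x0) (.leaf 0x0)) (.node 1 (.leaf 0x0) (.leaf 0xe4))) (.node 2 (.node 1 (.leaf 0x0) (.leaf 0x0)) (.node 1 (.leaf 0xe5) (.leaf 0xe6))))) (.node 8 (.node 4 (.node 2 (.node 1 (.leaf 0xe7) (.leaf 0xe8)) (.node 1 (.leaf 0x0) (.leaf 0x0))) (.node 2 (.node 1 (.leaf 0x0) (.leaf 0x0)) (.node 1 (.leaf 0x0) (.leaf 0x0)))) (.node 4 (.node 2 (.node 1 (.leaf 0x0) (.leaf 0xe9)) (.node 1 (.leaf 0xea) (.leaf 0xeb))) (.node 2 (.node 1 (.leaf 0xec) (.leaf 0xed)) (.node 1 (.leaf 0xee) (.leaf 0xef)))))) (.node 16 (.node 8 (.node 4 (.node 2 (.node 1 (.leaf 0xf0) (.leaf 0xf1)) (.node 1 (.leaf 0xf2) (.leaf 0xf3))) (.node 2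 (.node 1 (.leaf 0xf4) (.leaf 0xf5)) (.node 1 (.leaf 0xf6) (.leaf 0xf7)))) (.node 4 (.node 2 (.node 1 (.leaf 0xf8) (.leaf 0xf9)) (.node 1 (.leaf 0xfa) (.leaf 0xfb))) (.node 2 (.node 1 (.leaf 0xfc) (.leaf 0xfd)) (.node 1 (.leaf 0xfe) (.leaf 0xff))))) (.node 8 (.node 4 (.node 2 (.node 1 (.leaf 0x100) (.leaf 0x101)) (.node 1 (.leaf 0x102) (.leaf 0x103))) (.node 2 (.node 1 (.leaf 0x104) (.leaf 0x105)) (.node 1 (.leaf 0x0) (.leaf 0x0)))) (.node 4 (.node 2 (.node 1 (.leaf 0x0) (.leaf 0x0)) (.node 1 (.leaf 0x106) (.leaf 0x107))) (.node 2 (.node 1 (.leaf 0x108) (.leaf 0x109)) (.node 1 (.leaf 0x0) (.leaf 0x0))))))) (.node 32 (.node 16 (.node 8 (.node 4 (.node 2 (.node 1 (.leaf 0x0) (.leaf 0x10a)) (.node 1 (.leaf 0x0) (.leaf 0x0))) (.node 2 (.node 1 (.leaf 0x0) (.leaf 0x0)) (.node 1 (.leaf 0x0) (.leaf 0x10b)))) (.node 4 (.node 2 (.node 1 (.leaf 0x0) (.leaf 0x0)) (.node 1 (.leaf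 0x0) (.leaf 0x0))) (.node 2 (.node 1 (.leaf 0x0) (.leaf 0x0)) (.node 1 (.leaf 0x0) (.leaf 0x10c))))) (.node 8 (.node 4 (.node 2 (.node 1 (.leaf 0x0) (.leaf 0x0)) (.node 1 (.leaf 0x0) (.leaf 0x10d))) (.node 2 (.node 1 (.leaf 0x0) (.leaf 0x0)) (.node 1 (.leaf 0x0) (.leaf 0x0)))) (.node 4 (.node 2 (.node 1 (.leaf 0x0) (.leaf 0x10e)) (.node 1 (.leaf 0x0) (.leaf 0x0))) (.node 2 (.node 1 (.leaf 0x0) (.leaf 0x10f)) (.node 1 (.leaf 0x110) (.leaf 0x0)))))) (.node 16 (.node 8 (.node 4 (.node 2 (.node 1 (.leaf 0x0) (.leaf 0x0)) (.node 1 (.leaf 0x0) (.leaf 0x0))) (.node 2 (.node 1 (.leaf 0x0) (.leaf 0x0)) (.node 1 (.leaf 0x0) (.leaf 0x0)))) (.node 4 (.node 2 (.node 1 (.leaf 0x111) (.leaf 0x0)) (.node 1 (.leaf 0x0) (.leaf 0x0))) (.node 2 (.node 1 (.leaf 0x112) (.leaf 0x113)) (.node 1 (.leaf 0x114) (.leaf 0x115))))) (.node 8 (.node 4 (.node 2 (.node 1 (.leaf 0x116) (.leaf 0x117))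 (.node 1 (.leaf 0x118) (.leaf 0x119))) (.node 2 (.node 1 (.leaf 0x11a) (.leaf 0x0)) (.node 1 (.leaf 0x11b) (.leaf 0x0)))) (.node 4 (.node 2 (.node 1 (.leaf 0x0) (.leaf 0x11c)) (.node 1 (.leaf 0x0) (.leaf 0x11d))) (.node 2 (.node 1 (.leaf 0x11e) (.leaf 0x11f)) (.node 1 (.leaf 0x0) (.leaf 0x0)))))))

def chainPos2_5 : Tree :=
  .node 64 (.node 32 (.node 16 (.node 8 (.node 4 (.node 2 (.node 1 (.leaf 0x120) (.leaf 0x0)) (.node 1 (.leaf 0x0) (.leaf 0x0))) (.node 2 (.node 1 (.leaf 0x0) (.leaf 0x121)) (.node 1 (.leaf 0x122) (.leaf 0x123)))) (.node 4 (.node 2 (.node 1 (.leaf 0x124) (.leaf 0x125)) (.node 1 (.leaf 0x0) (.leaf 0x0))) (.node 2 (.node 1 (.leaf 0x0) (.leaf 0x0)) (.node 1 (.leaf 0x0) (.leaf 0x0))))) (.node 8 (.node 4 (.node 2 (.node 1 (.leaf 0x0) (.leaf 0x0)) (.node 1 (.leaf 0x0) (.leaf 0x126))) (.node 2 (.node 1 (.leaf 0x0) (.leaf 0x0)) (.node 1 (.leaf 0x0) (.leaf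 0x127)))) (.node 4 (.node 2 (.node 1 (.leaf 0x128) (.leaf 0x129)) (.node 1 (.leaf 0x0) (.leaf 0x12a))) (.node 2 (.node 1 (.leaf 0x0) (.leaf 0x0)) (.node 1 (.leaf 0x0) (.leaf 0x12b)))))) (.node 16 (.node 8 (.node 4 (.node 2 (.node 1 (.leaf 0x12c) (.leaf 0x12d)) (.node 1 (.leaf 0x0) (.leaf 0x12e))) (.node 2 (.node 1 (.leaf 0x12f) (.leaf 0x130)) (.node 1 (.leaf 0x131) (.leaf 0x0)))) (.node 4 (.node 2 (.node 1 (.leaf 0x132) (.leaf 0x0)) (.node 1 (.leaf 0x0) (.leaf 0x0))) (.node 2 (.node 1 (.leaf 0x0) (.leaf 0x0)) (.node 1 (.leaf 0x0) (.leaf 0x0))))) (.node 8 (.node 4 (.node 2 (.node 1 (.leaf 0x0) (.leaf 0x0)) (.node 1 (.leaf 0x0) (.leaf 0x133))) (.node 2 (.node 1 (.leaf 0x0) (.leaf 0x0)) (.node 1 (.leaf 0x0) (.leaf 0x0)))) (.node 4 (.node 2 (.node 1 (.leaf 0x0) (.leaf 0x0)) (.node 1 (.leaf 0x0) (.leaf 0x134))) (.node 2 (.node 1 (.leaf 0x135) (.leaf 0x0)) (.node 1 (.leaf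 0x0) (.leaf 0x0))))))) (.node 32 (.node 16 (.node 8 (.node 4 (.node 2 (.node 1 (.leaf 0x0) (.leaf 0x0)) (.node 1 (.leaf 0x0) (.leaf 0x136))) (.node 2 (.node 1 (.leaf 0x137) (.leaf 0x138)) (.node 1 (.leaf 0x139) (.leaf 0x13a)))) (.node 4 (.node 2 (.node 1 (.leaf 0x13b) (.leaf 0x13c)) (.node 1 (.leaf 0x13d) (.leaf 0x13e))) (.node 2 (.node 1 (.leaf 0x13f) (.leaf 0x140)) (.node 1 (.leaf 0x141) (.leaf 0x142))))) (.node 8 (.node 4 (.node 2 (.node 1 (.leaf 0x143) (.leaf 0x144)) (.node 1 (.leaf 0x145) (.leaf 0x146))) (.node 2 (.node 1 (.leaf 0x147) (.leaf 0x148)) (.node 1 (.leaf 0x149) (.leaf 0x14a)))) (.node 4 (.node 2 (.node 1 (.leaf 0x14b) (.leaf 0x14c)) (.node 1 (.leaf 0x14d) (.leaf 0x14e))) (.node 2 (.node 1 (.leaf 0x14f) (.leaf 0x150)) (.node 1 (.leaf 0x151) (.leaf 0x152)))))) (.node 16 (.node 8 (.node 4 (.node 2 (.node 1 (.leaf 0x153) (.leaf 0x154)) (.node 1 (.leaf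 0x155) (.leaf 0x0))) (.node 2 (.node 1 (.leaf 0x0) (.leaf 0x0)) (.node 1 (.leaf 0x0) (.leaf 0x156)))) (.node 4 (.node 2 (.node 1 (.leaf 0x0) (.leaf 0x157)) (.node 1 (.leaf 0x158) (.leaf 0x0))) (.node 2 (.node 1 (.leaf 0x0) (.leaf 0x0)) (.node 1 (.leaf 0x0) (.leaf 0x159))))) (.node 8 (.node 4 (.node 2 (.node 1 (.leaf 0x15a) (.leaf 0x15b)) (.node 1 (.leaf 0x15c) (.leaf 0x15d))) (.node 2 (.node 1 (.leaf 0x15e) (.leaf 0x15f)) (.node 1 (.leaf 0x160) (.leaf 0x0)))) (.node 4 (.node 2 (.node 1 (.leaf 0x0) (.leaf 0x0)) (.node 1 (.leaf 0x0) (.leaf 0x0))) (.node 2 (.node 1 (.leaf 0x0) (.leaf 0x0)) (.node 1 (.leaf 0x161) (.leaf 0x162)))))))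

def chainPos2_6 : Tree :=
  .node 64 (.node 32 (.node 16 (.node 8 (.node 4 (.node 2 (.node 1 (.leaf 0x163) (.leaf 0x164)) (.node 1 (.leaf 0x165) (.leaf 0x0))) (.node 2 (.node 1 (.leaf 0x166) (.leaf 0x0)) (.node 1 (.leaf 0x0) (.leaf 0x0)))) (.node 4 (.node 2 (.node 1 (.leaf 0x0) (.leaf 0x0)) (.node 1 (.leaf 0x0) (.leaf 0x0))) (.node 2 (.node 1 (.leaf 0x0) (.leaf 0x0)) (.node 1 (.leaf 0x0) (.leaf 0x167))))) (.node 8 (.node 4 (.node 2 (.node 1 (.leaf 0x168) (.leaf 0x169)) (.node 1 (.leaf 0x16a) (.leaf 0x16b))) (.node 2 (.node 1 (.leaf 0x16c) (.leaf 0x16d)) (.node 1 (.leaf 0x16e) (.leaf 0x16f)))) (.node 4 (.node 2 (.node 1 (.leaf 0x170) (.leaf 0x171)) (.node 1 (.leaf 0x172) (.leaf 0x173))) (.node 2 (.node 1 (.leaf 0x174) (.leaf 0x175)) (.node 1 (.leaf 0x176) (.leaf 0x177)))))) (.node 16 (.node 8 (.node 4 (.node 2 (.node 1 (.leaf 0x178) (.leaf 0x179)) (.node 1 (.leaf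 0x17a) (.leaf 0x17b))) (.node 2 (.node 1 (.leaf 0x17c) (.leaf 0x17d)) (.node 1 (.leaf 0x17e) (.leaf 0x17f)))) (.node 4 (.node 2 (.node 1 (.leaf 0x180) (.leaf 0x181)) (.node 1 (.leaf 0x182) (.leaf 0x183))) (.node 2 (.node 1 (.leaf 0x184) (.leaf 0x185)) (.node 1 (.leaf 0x186) (.leaf 0x187))))) (.node 8 (.node 4 (.node 2 (.node 1 (.leaf 0x188) (.leaf 0x189)) (.node 1 (.leaf 0x18a) (.leaf 0x18b))) (.node 2 (.node 1 (.leaf 0x18c) (.leaf 0x18d)) (.node 1 (.leaf 0x18e) (.leaf 0x18f)))) (.node 4 (.node 2 (.node 1 (.leaf 0x190) (.leaf 0x191)) (.node 1 (.leaf 0x192) (.leaf 0x193))) (.node 2 (.node 1 (.leaf 0x194) (.leaf 0x195)) (.node 1 (.leaf 0x196) (.leaf 0x197))))))) (.node 32 (.node 16 (.node 8 (.node 4 (.node 2 (.node 1 (.leaf 0x198) (.leaf 0x0)) (.node 1 (.leaf 0x199) (.leaf 0x19a))) (.node 2 (.node 1 (.leaf 0x19b) (.leaf 0x19c)) (.node 1 (.leaf 0x19d) (.leaf 0x19e))))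 (.node 4 (.node 2 (.node 1 (.leaf 0x19f) (.leaf 0x1a0)) (.node 1 (.leaf 0x1a1) (.leaf 0x1a2))) (.node 2 (.node 1 (.leaf 0x0) (.leaf 0x1a3)) (.node 1 (.leaf 0x0) (.leaf 0x0))))) (.node 8 (.node 4 (.node 2 (.node 1 (.leaf 0x1a4) (.leaf 0x0)) (.node 1 (.leaf 0x1a5) (.leaf 0x1a6))) (.node 2 (.node 1 (.leaf 0x1a7) (.leaf 0x0)) (.node 1 (.leaf 0x0) (.leaf 0x0)))) (.node 4 (.node 2 (.node 1 (.leaf 0x0) (.leaf 0x0)) (.node 1 (.leaf 0x0) (.leaf 0x1a8))) (.node 2 (.node 1 (.leaf 0x1a9) (.leaf 0x1aa)) (.node 1 (.leaf 0x0) (.leaf 0x0)))))) (.node 16 (.node 8 (.node 4 (.node 2 (.node 1 (.leaf 0x1ab) (.leaf 0x0)) (.node 1 (.leaf 0x0) (.leaf 0x0))) (.node 2 (.node 1 (.leaf 0x0) (.leaf 0x1ac)) (.node 1 (.leaf 0x0) (.leaf 0x0)))) (.node 4 (.node 2 (.node 1 (.leaf 0x1ad) (.leaf 0x1ae)) (.node 1 (.leaf 0x0) (.leaf 0x1af))) (.node 2 (.node 1 (.leaf 0x1b0) (.leaf 0x1b1)) (.node 1 (.leaf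 0x0) (.leaf 0x0))))) (.node 8 (.node 4 (.node 2 (.node 1 (.leaf 0x0) (.leaf 0x1b2)) (.node 1 (.leaf 0x1b3) (.leaf 0x0))) (.node 2 (.node 1 (.leaf 0x0) (.leaf 0x0)) (.node 1 (.leaf 0x1b4) (.leaf 0x1b5)))) (.node 4 (.node 2 (.node 1 (.leaf 0x1b6) (.leaf 0x0)) (.node 1 (.leaf 0x1b7) (.leaf 0x1b8))) (.node 2 (.node 1 (.leaf 0x0) (.leaf 0x1b9)) (.node 1 (.leaf 0x0) (.leaf 0x0)))))))

def chainPos2_7 : Tree :=
  .node 64 (.node 32 (.node 16 (.node 8 (.node 4 (.node 2 (.node 1 (.leaf 0x0) (.leaf 0x0)) (.node 1 (.leaf 0x0) (.leaf 0x0))) (.node 2 (.node 1 (.leaf 0x0) (.leaf 0x0)) (.node 1 (.leaf 0x0) (.leaf 0x0)))) (.node 4 (.node 2 (.node 1 (.leaf 0x0) (.leaf 0x0)) (.node 1 (.leaf 0x0) (.leaf 0x0))) (.node 2 (.node 1 (.leaf 0x0) (.leaf 0x0)) (.node 1 (.leaf 0x1ba) (.leaf 0x1bb))))) (.node 8 (.node 4 (.node 2 (.node 1 (.leaf 0x1bc) (.leaf 0x1bd)) (.node 1 (.leaf 0x1be) (.leaf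 0x1bf))) (.node 2 (.node 1 (.leaf 0x1c0) (.leaf 0x1c1)) (.node 1 (.leaf 0x1c2) (.leaf 0x1c3)))) (.node 4 (.node 2 (.node 1 (.leaf 0x1c4) (.leaf 0x1c5)) (.node 1 (.leaf 0x1c6) (.leaf 0x0))) (.node 2 (.node 1 (.leaf 0x0) (.leaf 0x1c7)) (.node 1 (.leaf 0x0) (.leaf 0x1c8)))))) (.node 16 (.node 8 (.node 4 (.node 2 (.node 1 (.leaf 0x1c9) (.leaf 0x1ca)) (.node 1 (.leaf 0x0) (.leaf 0x0))) (.node 2 (.node 1 (.leaf 0x0) (.leaf 0x1cb)) (.node 1 (.leaf 0x1cc) (.leaf 0x1cd)))) (.node 4 (.node 2 (.node 1 (.leaf 0x1ce) (.leaf 0x1cf)) (.node 1 (.leaf 0x0) (.leaf 0x1d0))) (.node 2 (.node 1 (.leaf 0x0) (.leaf 0x1d1)) (.node 1 (.leaf 0x1d2) (.leaf 0x1d3))))) (.node 8 (.node 4 (.node 2 (.node 1 (.leaf 0x1d4) (.leaf 0x1d5)) (.node 1 (.leaf 0x1d6) (.leaf 0x1d7))) (.node 2 (.node 1 (.leaf 0x1d8) (.leaf 0x1d9)) (.node 1 (.leaf 0x0) (.leaf 0x0)))) (.node 4 (.node 2 (.node 1 (.leaf 0x0) (.leaf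 0x0)) (.node 1 (.leaf 0x0) (.leaf 0x0))) (.node 2 (.node 1 (.leaf 0x0) (.leaf 0x0)) (.node 1 (.leaf 0x0) (.leaf 0x1da))))))) (.node 32 (.node 16 (.node 8 (.node 4 (.node 2 (.node 1 (.leaf 0x0) (.leaf 0x0)) (.node 1 (.leaf 0x0) (.leaf 0x1db))) (.node 2 (.node 1 (.leaf 0x1dc) (.leaf 0x1dd)) (.node 1 (.leaf 0x0) (.leaf 0x1de)))) (.node 4 (.node 2 (.node 1 (.leaf 0x1df) (.leaf 0x0)) (.node 1 (.leaf 0x0) (.leaf 0x0))) (.node 2 (.node 1 (.leaf 0x0) (.leaf 0x1e0)) (.node 1 (.leaf 0x1e1) (.leaf 0x1e2))))) (.node 8 (.node 4 (.node 2 (.node 1 (.leaf 0x0) (.leaf 0x1e3)) (.node 1 (.leaf 0x1e4) (.leaf 0x1e5))) (.node 2 (.node 1 (.leaf 0x0) (.leaf 0x0)) (.node 1 (.leaf 0x0) (.leaf 0x1e6)))) (.node 4 (.node 2 (.node 1 (.leaf 0x1e7) (.leaf 0x1e8)) (.node 1 (.leaf 0x0) (.leaf 0x0))) (.node 2 (.node 1 (.leaf 0x0) (.leaf 0x0)) (.node 1 (.leaf 0x0) (.leaf 0x0)))))) (.node 16 (.node 8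 (.node 4 (.node 2 (.node 1 (.leaf 0x0) (.leaf 0x0)) (.node 1 (.leaf 0x0) (.leaf 0x0))) (.node 2 (.node 1 (.leaf 0x1e9) (.leaf 0x0)) (.node 1 (.leaf 0x0) (.leaf 0x1ea)))) (.node 4 (.node 2 (.node 1 (.leaf 0x0) (.leaf 0x0)) (.node 1 (.leaf 0x0) (.leaf 0x0))) (.node 2 (.node 1 (.leaf 0x0) (.leaf 0x0)) (.node 1 (.leaf 0x0) (.leaf 0x1eb))))) (.node 8 (.node 4 (.node 2 (.node 1 (.leaf 0x1ec) (.leaf 0x1ed)) (.node 1 (.leaf 0x1ee) (.leaf 0x1ef))) (.node 2 (.node 1 (.leaf 0x0) (.leaf 0x0)) (.node 1 (.leaf 0x0) (.leaf 0x0)))) (.node 4 (.node 2 (.node 1 (.leaf 0x1f0) (.leaf 0x0)) (.node 1 (.leaf 0x1f1) (.leaf 0x1f2))) (.node 2 (.node 1 (.leaf 0x1f3) (.leaf 0x1f4)) (.node 1 (.leaf 0x1f5) (.leaf 0x1f6)))))))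

def chainPos2_8 : Tree :=
  .node 64 (.node 32 (.node 16 (.node 8 (.node 4 (.node 2 (.node 1 (.leaf 0x1f7) (.leaf 0x1f8)) (.node 1 (.leaf 0x1f9) (.leaf 0x1fa))) (.node 2 (.node 1 (.leaf 0x1fb) (.leaf 0x1fc)) (.node 1 (.leaf 0x1fd) (.leaf 0x1fe)))) (.node 4 (.node 2 (.node 1 (.leaf 0x1ff) (.leaf 0x200)) (.node 1 (.leaf 0x201) (.leaf 0x202))) (.node 2 (.node 1 (.leaf 0x203) (.leaf 0x204)) (.node 1 (.leaf 0x205) (.leaf 0x206))))) (.node 8 (.node 4 (.node 2 (.node 1 (.leaf 0x207) (.leaf 0x208)) (.node 1 (.leaf 0x209) (.leaf 0x20a))) (.node 2 (.node 1 (.leaf 0x20b) (.leaf 0x20c)) (.node 1 (.leaf 0x20d) (.leaf 0x20e)))) (.node 4 (.node 2 (.node 1 (.leaf 0x20f) (.leaf 0x210)) (.node 1 (.leaf 0x211) (.leaf 0x212))) (.node 2 (.node 1 (.leaf 0x213) (.leaf 0x214)) (.node 1 (.leaf 0x215) (.leaf 0x216)))))) (.node 16 (.node 8 (.node 4 (.node 2 (.node 1 (.leaf 0x217) (.leaf 0x218))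 (.node 1 (.leaf 0x219) (.leaf 0x21a))) (.node 2 (.node 1 (.leaf 0x21b) (.leaf 0x21c)) (.node 1 (.leaf 0x21d) (.leaf 0x21e)))) (.node 4 (.node 2 (.node 1 (.leaf 0x21f) (.leaf 0x220)) (.node 1 (.leaf 0x221) (.leaf 0x222))) (.node 2 (.node 1 (.leaf 0x0) (.leaf 0x0)) (.node 1 (.leaf 0x0) (.leaf 0x0))))) (.node 8 (.node 4 (.node 2 (.node 1 (.leaf 0x223) (.leaf 0x0)) (.node 1 (.leaf 0x224) (.leaf 0x0))) (.node 2 (.node 1 (.leaf 0x0) (.leaf 0x225)) (.node 1 (.leaf 0x226) (.leaf 0x227)))) (.node 4 (.node 2 (.node 1 (.leaf 0x228) (.leaf 0x229)) (.node 1 (.leaf 0x22a) (.leaf 0x0))) (.node 2 (.node 1 (.leaf 0x0) (.leaf 0x22b)) (.node 1 (.leaf 0x22c) (.leaf 0x22d))))))) (.node 32 (.node 16 (.node 8 (.node 4 (.node 2 (.node 1 (.leaf 0x22e) (.leaf 0x22f)) (.node 1 (.leaf 0x230) (.leaf 0x231))) (.node 2 (.node 1 (.leaf 0x232) (.leaf 0x0)) (.node 1 (.leaf 0x233) (.leaf 0x0)))) (.node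 4 (.node 2 (.node 1 (.leaf 0x0) (.leaf 0x0)) (.node 1 (.leaf 0x0) (.leaf 0x0))) (.node 2 (.node 1 (.leaf 0x0) (.leaf 0x0)) (.node 1 (.leaf 0x0) (.leaf 0x0))))) (.node 8 (.node 4 (.node 2 (.node 1 (.leaf 0x0) (.leaf 0x234)) (.node 1 (.leaf 0x235) (.leaf 0x0))) (.node 2 (.node 1 (.leaf 0x0) (.leaf 0x236)) (.node 1 (.leaf 0x0) (.leaf 0x0)))) (.node 4 (.node 2 (.node 1 (.leaf 0x0) (.leaf 0x0)) (.node 1 (.leaf 0x0) (.leaf 0x0))) (.node 2 (.node 1 (.leaf 0x0) (.leaf 0x237)) (.node 1 (.leaf 0x0) (.leaf 0x0)))))) (.node 16 (.node 8 (.node 4 (.node 2 (.node 1 (.leaf 0x0) (.leaf 0x0)) (.node 1 (.leaf 0x0) (.leaf 0x238))) (.node 2 (.node 1 (.leaf 0x239) (.leaf 0x23a)) (.node 1 (.leaf 0x23b) (.leaf 0x23c)))) (.node 4 (.node 2 (.node 1 (.leaf 0x23d) (.leaf 0x23e)) (.node 1 (.leaf 0x23f) (.leaf 0x240))) (.node 2 (.node 1 (.leaf 0x241) (.leaf 0x242)) (.node 1 (.leaf 0x243) (.leaf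 0x244))))) (.node 8 (.node 4 (.node 2 (.node 1 (.leaf 0x245) (.leaf 0x246)) (.node 1 (.leaf 0x247) (.leaf 0x248))) (.node 2 (.node 1 (.leaf 0x249) (.leaf 0x24a)) (.node 1 (.leaf 0x24b) (.leaf 0x24c)))) (.node 4 (.node 2 (.node 1 (.leaf 0x24d) (.leaf 0x24e)) (.node 1 (.leaf 0x24f) (.leaf 0x250))) (.node 2 (.node 1 (.leaf 0x251) (.leaf 0x252)) (.node 1 (.leaf 0x253) (.leaf 0x254)))))))

def chainPos2_9 : Tree :=
  .node 64 (.node 32 (.node 16 (.node 8 (.node 4 (.node 2 (.node 1 (.leaf 0x255) (.leaf 0x256)) (.node 1 (.leaf 0x257) (.leaf 0x258))) (.node 2 (.node 1 (.leaf 0x259) (.leaf 0x25a)) (.node 1 (.leaf 0x25b) (.leaf 0x25c)))) (.node 4 (.node 2 (.node 1 (.leaf 0x25d) (.leaf 0x25e)) (.node 1 (.leaf 0x25f) (.leaf 0x260))) (.node 2 (.node 1 (.leaf 0x261) (.leaf 0x262)) (.node 1 (.leaf 0x263) (.leaf 0x264))))) (.node 8 (.node 4 (.node 2 (.node 1 (.leaf 0x265) (.leaf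 0x266)) (.node 1 (.leaf 0x267) (.leaf 0x268))) (.node 2 (.node 1 (.leaf 0x269) (.leaf 0x26a)) (.node 1 (.leaf 0x26b) (.leaf 0x26c)))) (.node 4 (.node 2 (.node 1 (.leaf 0x26d) (.leaf 0x26e)) (.node 1 (.leaf 0x26f) (.leaf 0x270))) (.node 2 (.node 1 (.leaf 0x271) (.leaf 0x272)) (.node 1 (.leaf 0x273) (.leaf 0x274)))))) (.node 16 (.node 8 (.node 4 (.node 2 (.node 1 (.leaf 0x275) (.leaf 0x276)) (.node 1 (.leaf 0x277) (.leaf 0x278))) (.node 2 (.node 1 (.leaf 0x279) (.leaf 0x27a)) (.node 1 (.leaf 0x27b) (.leaf 0x27c)))) (.node 4 (.node 2 (.node 1 (.leaf 0x27d) (.leaf 0x27e)) (.node 1 (.leaf 0x27f) (.leaf 0x280))) (.node 2 (.node 1 (.leaf 0x281) (.leaf 0x282)) (.node 1 (.leaf 0x283) (.leaf 0x284))))) (.node 8 (.node 4 (.node 2 (.node 1 (.leaf 0x0) (.leaf 0x285)) (.node 1 (.leaf 0x286) (.leaf 0x287))) (.node 2 (.node 1 (.leaf 0x288) (.leaf 0x289)) (.node 1 (.leaf 0x28a) (.leaf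 0x28b)))) (.node 4 (.node 2 (.node 1 (.leaf 0x0) (.leaf 0x0)) (.node 1 (.leaf 0x28c) (.leaf 0x28d))) (.node 2 (.node 1 (.leaf 0x28e) (.leaf 0x28f)) (.node 1 (.leaf 0x0) (.leaf 0x0))))))) (.node 32 (.node 16 (.node 8 (.node 4 (.node 2 (.node 1 (.leaf 0x0) (.leaf 0x290)) (.node 1 (.leaf 0x291) (.leaf 0x292))) (.node 2 (.node 1 (.leaf 0x293) (.leaf 0x294)) (.node 1 (.leaf 0x0) (.leaf 0x295)))) (.node 4 (.node 2 (.node 1 (.leaf 0x0) (.leaf 0x0)) (.node 1 (.leaf 0x0) (.leaf 0x296))) (.node 2 (.node 1 (.leaf 0x0) (.leaf 0x0)) (.node 1 (.leaf 0x297) (.leaf 0x0))))) (.node 8 (.node 4 (.node 2 (.node 1 (.leaf 0x0) (.leaf 0x298)) (.node 1 (.leaf 0x0) (.leaf 0x299))) (.node 2 (.node 1 (.leaf 0x0) (.leaf 0x0)) (.node 1 (.leaf 0x29a) (.leaf 0x29b)))) (.node 4 (.node 2 (.node 1 (.leaf 0x29c) (.leaf 0x0)) (.node 1 (.leaf 0x29d) (.leaf 0x29e))) (.node 2 (.node 1 (.leaf 0x29f) (.leaf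 0x0)) (.node 1 (.leaf 0x2a0) (.leaf 0x0)))))) (.node 16 (.node 8 (.node 4 (.node 2 (.node 1 (.leaf 0x0) (.leaf 0x0)) (.node 1 (.leaf 0x0) (.leaf 0x0))) (.node 2 (.node 1 (.leaf 0x0) (.leaf 0x0)) (.node 1 (.leaf 0x0) (.leaf 0x0)))) (.node 4 (.node 2 (.node 1 (.leaf 0x0) (.leaf 0x0)) (.node 1 (.leaf 0x0) (.leaf 0x0))) (.node 2 (.node 1 (.leaf 0x0) (.leaf 0x0)) (.node 1 (.leaf 0x2a1) (.leaf 0x0))))) (.node 8 (.node 4 (.node 2 (.node 1 (.leaf 0x0) (.leaf 0x0)) (.node 1 (.leaf 0x0) (.leaf 0x0))) (.node 2 (.node 1 (.leaf 0x2a2) (.leaf 0x2a3)) (.node 1 (.leaf 0x2a4) (.leaf 0x2a5)))) (.node 4 (.node 2 (.node 1 (.leaf 0x2a6) (.leaf 0x2a7)) (.node 1 (.leaf 0x0) (.leaf 0x2a8))) (.node 2 (.node 1 (.leaf 0x2a9) (.leaf 0x2aa)) (.node 1 (.leaf 0x0) (.leaf 0x2ab)))))))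

def chainPos2_10 : Tree :=
  .node 64 (.node 32 (.node 16 (.node 8 (.node 4 (.node 2 (.node 1 (.leaf 0x2ac) (.leaf 0x2ad)) (.node 1 (.leaf 0x0) (.leaf 0x0))) (.node 2 (.node 1 (.leaf 0x0) (.leaf 0x0)) (.node 1 (.leaf 0x0) (.leaf 0x0)))) (.node 4 (.node 2 (.node 1 (.leaf 0x2ae) (.leaf 0x2af)) (.node 1 (.leaf 0x0) (.leaf 0x2b0))) (.node 2 (.node 1 (.leaf 0x2b1) (.leaf 0x2b2)) (.node 1 (.leaf 0x2b3) (.leaf 0x2b4))))) (.node 8 (.node 4 (.node 2 (.node 1 (.leaf 0x2b5) (.leaf 0x2b6)) (.node 1 (.leaf 0x2b7) (.leaf 0x2b8))) (.node 2 (.node 1 (.leaf 0x2b9) (.leaf 0x2ba)) (.node 1 (.leaf 0x0) (.leaf 0x0)))) (.node 4 (.node 2 (.node 1 (.leaf 0x0) (.leaf 0x0)) (.node 1 (.leaf 0x0) (.leaf 0x0))) (.node 2 (.node 1 (.leaf 0x2bb) (.leaf 0x2bc)) (.node 1 (.leaf 0x2bd) (.leaf 0x0)))))) (.node 16 (.node 8 (.node 4 (.node 2 (.node 1 (.leaf 0x0) (.leaf 0x0)) (.node 1 (.leaf 0x0) (.leaf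 0x0))) (.node 2 (.node 1 (.leaf 0x2be) (.leaf 0x0)) (.node 1 (.leaf 0x0) (.leaf 0x0)))) (.node 4 (.node 2 (.node 1 (.leaf 0x0) (.leaf 0x0)) (.node 1 (.leaf 0x2bf) (.leaf 0x2c0))) (.node 2 (.node 1 (.leaf 0x2c1) (.leaf 0x2c2)) (.node 1 (.leaf 0x0) (.leaf 0x0))))) (.node 8 (.node 4 (.node 2 (.node 1 (.leaf 0x0) (.leaf 0x2c3)) (.node 1 (.leaf 0x0) (.leaf 0x0))) (.node 2 (.node 1 (.leaf 0x2c4) (.leaf 0x2c5)) (.node 1 (.leaf 0x2c6) (.leaf 0x0)))) (.node 4 (.node 2 (.node 1 (.leaf 0x0) (.leaf 0x0)) (.node 1 (.leaf 0x0) (.leaf 0x0))) (.node 2 (.node 1 (.leaf 0x0) (.leaf 0x0)) (.node 1 (.leaf 0x0) (.leaf 0x0))))))) (.node 32 (.node 16 (.node 8 (.node 4 (.node 2 (.node 1 (.leaf 0x0) (.leaf 0x2c7)) (.node 1 (.leaf 0x0) (.leaf 0x2c8))) (.node 2 (.node 1 (.leaf 0x2c9) (.leaf 0x0)) (.node 1 (.leaf 0x0) (.leaf 0x0)))) (.node 4 (.node 2 (.node 1 (.leaf 0x0) (.leaf 0x0)) (.node 1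 (.leaf 0x2ca) (.leaf 0x2cb))) (.node 2 (.node 1 (.leaf 0x2cc) (.leaf 0x2cd)) (.node 1 (.leaf 0x2ce) (.leaf 0x2cf))))) (.node 8 (.node 4 (.node 2 (.node 1 (.leaf 0x2d0) (.leaf 0x2d1)) (.node 1 (.leaf 0x2d2) (.leaf 0x0))) (.node 2 (.node 1 (.leaf 0x2d3) (.leaf 0x0)) (.node 1 (.leaf 0x2d4) (.leaf 0x2d5)))) (.node 4 (.node 2 (.node 1 (.leaf 0x2d6) (.leaf 0x2d7)) (.node 1 (.leaf 0x2d8) (.leaf 0x2d9))) (.node 2 (.node 1 (.leaf 0x2da) (.leaf 0x2db)) (.node 1 (.leaf 0x2dc) (.leaf 0x2dd)))))) (.node 16 (.node 8 (.node 4 (.node 2 (.node 1 (.leaf 0x2de) (.leaf 0x2df)) (.node 1 (.leaf 0x2e0) (.leaf 0x2e1))) (.node 2 (.node 1 (.leaf 0x2e2) (.leaf 0x2e3)) (.node 1 (.leaf 0x2e4) (.leaf 0x2e5)))) (.node 4 (.node 2 (.node 1 (.leaf 0x2e6) (.leaf 0x2e7)) (.node 1 (.leaf 0x2e8) (.leaf 0x2e9))) (.node 2 (.node 1 (.leaf 0x2ea) (.leaf 0x2eb)) (.node 1 (.leaf 0x2ec) (.leaf 0x2ed))))) (.node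 8 (.node 4 (.node 2 (.node 1 (.leaf 0x2ee) (.leaf 0x2ef)) (.node 1 (.leaf 0x2f0) (.leaf 0x2f1))) (.node 2 (.node 1 (.leaf 0x2f2) (.leaf 0x2f3)) (.node 1 (.leaf 0x2f4) (.leaf 0x2f5)))) (.node 4 (.node 2 (.node 1 (.leaf 0x2f6) (.leaf 0x2f7)) (.node 1 (.leaf 0x2f8) (.leaf 0x2f9))) (.node 2 (.node 1 (.leaf 0x2fa) (.leaf 0x2fb)) (.node 1 (.leaf 0x2fc) (.leaf 0x2fd)))))))

def chainPos2_11 : Tree :=
  .node 64 (.node 32 (.node 16 (.node 8 (.node 4 (.node 2 (.node 1 (.leaf 0x2fe) (.leaf 0x2ff)) (.node 1 (.leaf 0x300) (.leaf 0x301))) (.node 2 (.node 1 (.leaf 0x302) (.leaf 0x303)) (.node 1 (.leaf 0x304) (.leaf 0x305)))) (.node 4 (.node 2 (.node 1 (.leaf 0x306) (.leaf 0x307)) (.node 1 (.leaf 0x308) (.leaf 0x309))) (.node 2 (.node 1 (.leaf 0x0) (.leaf 0x0)) (.node 1 (.leaf 0x0) (.leaf 0x30a))))) (.node 8 (.node 4 (.node 2 (.node 1 (.leaf 0x30b) (.leaf 0x0)) (.node 1 (.leaf 0x0)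 (.leaf 0x30c))) (.node 2 (.node 1 (.leaf 0x30d) (.leaf 0x30e)) (.node 1 (.leaf 0x30f) (.leaf 0x310)))) (.node 4 (.node 2 (.node 1 (.leaf 0x311) (.leaf 0x312)) (.node 1 (.leaf 0x313) (.leaf 0x314))) (.node 2 (.node 1 (.leaf 0x315) (.leaf 0x0)) (.node 1 (.leaf 0x0) (.leaf 0x316)))))) (.node 16 (.node 8 (.node 4 (.node 2 (.node 1 (.leaf 0x0) (.leaf 0x0)) (.node 1 (.leaf 0x0) (.leaf 0x0))) (.node 2 (.node 1 (.leaf 0x0) (.leaf 0x0)) (.node 1 (.leaf 0x0) (.leaf 0x317)))) (.node 4 (.node 2 (.node 1 (.leaf 0x0) (.leaf 0x0)) (.node 1 (.leaf 0x0) (.leaf 0x0))) (.node 2 (.node 1 (.leaf 0x0) (.leaf 0x318)) (.node 1 (.leaf 0x0) (.leaf 0x319))))) (.node 8 (.node 4 (.node 2 (.node 1 (.leaf 0x31a) (.leaf 0x31b)) (.node 1 (.leaf 0x0) (.leaf 0x0))) (.node 2 (.node 1 (.leaf 0x0) (.leaf 0x0)) (.node 1 (.leaf 0x0) (.leaf 0x31c)))) (.node 4 (.node 2 (.node 1 (.leaf 0x31d) (.leaf 0x0))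 (.node 1 (.leaf 0x0) (.leaf 0x31e))) (.node 2 (.node 1 (.leaf 0x31f) (.leaf 0x320)) (.node 1 (.leaf 0x321) (.leaf 0x322))))))) (.node 32 (.node 16 (.node 8 (.node 4 (.node 2 (.node 1 (.leaf 0x323) (.leaf 0x324)) (.node 1 (.leaf 0x325) (.leaf 0x326))) (.node 2 (.node 1 (.leaf 0x327) (.leaf 0x328)) (.node 1 (.leaf 0x329) (.leaf 0x32a)))) (.node 4 (.node 2 (.node 1 (.leaf 0x32b) (.leaf 0x32c)) (.node 1 (.leaf 0x32d) (.leaf 0x32e))) (.node 2 (.node 1 (.leaf 0x32f) (.leaf 0x330)) (.node 1 (.leaf 0x331) (.leaf 0x332))))) (.node 8 (.node 4 (.node 2 (.node 1 (.leaf 0x333) (.leaf 0x334)) (.node 1 (.leaf 0x335) (.leaf 0x336))) (.node 2 (.node 1 (.leaf 0x337) (.leaf 0x338)) (.node 1 (.leaf 0x339) (.leaf 0x33a)))) (.node 4 (.node 2 (.node 1 (.leaf 0x33b) (.leaf 0x33c)) (.node 1 (.leaf 0x33d) (.leaf 0x33e))) (.node 2 (.node 1 (.leaf 0x33f) (.leaf 0x340)) (.node 1 (.leaf 0x341)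 (.leaf 0x342)))))) (.node 16 (.node 8 (.node 4 (.node 2 (.node 1 (.leaf 0x343) (.leaf 0x344)) (.node 1 (.leaf 0x345) (.leaf 0x346))) (.node 2 (.node 1 (.leaf 0x347) (.leaf 0x348)) (.node 1 (.leaf 0x349) (.leaf 0x34a)))) (.node 4 (.node 2 (.node 1 (.leaf 0x34b) (.leaf 0x34c)) (.node 1 (.leaf 0x34d) (.leaf 0x34e))) (.node 2 (.node 1 (.leaf 0x34f) (.leaf 0x350)) (.node 1 (.leaf 0x351) (.leaf 0x352))))) (.node 8 (.node 4 (.node 2 (.node 1 (.leaf 0x353) (.leaf 0x354)) (.node 1 (.leaf 0x355) (.leaf 0x356))) (.node 2 (.node 1 (.leaf 0x357) (.leaf 0x358)) (.node 1 (.leaf 0x359) (.leaf 0x35a)))) (.node 4 (.node 2 (.node 1 (.leaf 0x35b) (.leaf 0x35c)) (.node 1 (.leaf 0x35d) (.leaf 0x35e))) (.node 2 (.node 1 (.leaf 0x35f) (.leaf 0x360)) (.node 1 (.leaf 0x361) (.leaf 0x0)))))))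

def chainPos2_12 : Tree :=
  .node 64 (.node 32 (.node 16 (.node 8 (.node 4 (.node 2 (.node 1 (.leaf 0x362) (.leaf 0x363)) (.node 1 (.leaf 0x364) (.leaf 0x365))) (.node 2 (.node 1 (.leaf 0x366) (.leaf 0x367)) (.node 1 (.leaf 0x368) (.leaf 0x369)))) (.node 4 (.node 2 (.node 1 (.leaf 0x36a) (.leaf 0x36b)) (.node 1 (.leaf 0x36c) (.leaf 0x36d))) (.node 2 (.node 1 (.leaf 0x36e) (.leaf 0x36f)) (.node 1 (.leaf 0x370) (.leaf 0x371))))) (.node 8 (.node 4 (.node 2 (.node 1 (.leaf 0x372) (.leaf 0x373)) (.node 1 (.leaf 0x374) (.leaf 0x375))) (.node 2 (.node 1 (.leaf 0x376) (.leaf 0x0)) (.node 1 (.leaf 0x377) (.leaf 0x0)))) (.node 4 (.node 2 (.node 1 (.leaf 0x378) (.leaf 0x379)) (.node 1 (.leaf 0x37a) (.leaf 0x37b))) (.node 2 (.node 1 (.leaf 0x37c) (.leaf 0x37d)) (.node 1 (.leaf 0x37e) (.leaf 0x37f)))))) (.node 16 (.node 8 (.node 4 (.node 2 (.node 1 (.leaf 0x380) (.leaf 0x381))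 (.node 1 (.leaf 0x382) (.leaf 0x383))) (.node 2 (.node 1 (.leaf 0x384) (.leaf 0x0)) (.node 1 (.leaf 0x385) (.leaf 0x386)))) (.node 4 (.node 2 (.node 1 (.leaf 0x387) (.leaf 0x388)) (.node 1 (.leaf 0x389) (.leaf 0x38a))) (.node 2 (.node 1 (.leaf 0x38b) (.leaf 0x38c)) (.node 1 (.leaf 0x0) (.leaf 0x0))))) (.node 8 (.node 4 (.node 2 (.node 1 (.leaf 0x0) (.leaf 0x38d)) (.node 1 (.leaf 0x0) (.leaf 0x0))) (.node 2 (.node 1 (.leaf 0x0) (.leaf 0x0)) (.node 1 (.leaf 0x0) (.leaf 0x0)))) (.node 4 (.node 2 (.node 1 (.leaf 0x0) (.leaf 0x0)) (.node 1 (.leaf 0x0) (.leaf 0x0))) (.node 2 (.node 1 (.leaf 0x38e) (.leaf 0x38f)) (.node 1 (.leaf 0x390) (.leaf 0x0))))))) (.node 32 (.node 16 (.node 8 (.node 4 (.node 2 (.node 1 (.leaf 0x391) (.leaf 0x0)) (.node 1 (.leaf 0x0) (.leaf 0x0))) (.node 2 (.node 1 (.leaf 0x0) (.leaf 0x0)) (.node 1 (.leaf 0x392) (.leaf 0x393)))) (.node 4 (.node 2 (.node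 1 (.leaf 0x0) (.leaf 0x394)) (.node 1 (.leaf 0x395) (.leaf 0x396))) (.node 2 (.node 1 (.leaf 0x397) (.leaf 0x398)) (.node 1 (.leaf 0x0) (.leaf 0x0))))) (.node 8 (.node 4 (.node 2 (.node 1 (.leaf 0x0) (.leaf 0x0)) (.node 1 (.leaf 0x399) (.leaf 0x0))) (.node 2 (.node 1 (.leaf 0x0) (.leaf 0x0)) (.node 1 (.leaf 0x0) (.leaf 0x0)))) (.node 4 (.node 2 (.node 1 (.leaf 0x39a) (.leaf 0x0)) (.node 1 (.leaf 0x0) (.leaf 0x0))) (.node 2 (.node 1 (.leaf 0x0) (.leaf 0x39b)) (.node 1 (.leaf 0x0) (.leaf 0x39c)))))) (.node 16 (.node 8 (.node 4 (.node 2 (.node 1 (.leaf 0x39d) (.leaf 0x39e)) (.node 1 (.leaf 0x39f) (.leaf 0x3a0))) (.node 2 (.node 1 (.leaf 0x3a1) (.leaf 0x3a2)) (.node 1 (.leaf 0x0) (.leaf 0x0)))) (.node 4 (.node 2 (.node 1 (.leaf 0x0) (.leaf 0x3a3)) (.node 1 (.leaf 0x3a4) (.leaf 0x3a5))) (.node 2 (.node 1 (.leaf 0x3a6) (.leaf 0x3a7)) (.node 1 (.leaf 0x3a8) (.leaf 0x3a9)))))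 (.node 8 (.node 4 (.node 2 (.node 1 (.leaf 0x3aa) (.leaf 0x3ab)) (.node 1 (.leaf 0x3ac) (.leaf 0x0))) (.node 2 (.node 1 (.leaf 0x3ad) (.leaf 0x3ae)) (.node 1 (.leaf 0x3af) (.leaf 0x0)))) (.node 4 (.node 2 (.node 1 (.leaf 0x0) (.leaf 0x3b0)) (.node 1 (.leaf 0x3b1) (.leaf 0x3b2))) (.node 2 (.node 1 (.leaf 0x3b3) (.leaf 0x3b4)) (.node 1 (.leaf 0x3b5) (.leaf 0x3b6)))))))

def chainPos2_13 : Tree :=
  .node 59 (.node 29 (.node 14 (.node 7 (.node 3 (.node 1 (.leaf 0x3b7) (.node 1 (.leaf 0x3b8) (.leaf 0x3b9))) (.node 2 (.node 1 (.leaf 0x3ba) (.leaf 0x3bb)) (.node 1 (.leaf 0x3bc) (.leaf 0x3bd)))) (.node 3 (.node 1 (.leaf 0x3be) (.node 1 (.leaf 0x3bf) (.leaf 0x3c0))) (.node 2 (.node 1 (.leaf 0x3c1) (.leaf 0x3c2)) (.node 1 (.leaf 0x3c3) (.leaf 0x3c4))))) (.node 7 (.node 3 (.node 1 (.leaf 0x3c5) (.node 1 (.leaf 0x3c6) (.leaf 0x3c7))) (.node 2 (.node 1 (.leaf 0x3c8) (.leaf 0x3c9))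 (.node 1 (.leaf 0x0) (.leaf 0x3ca)))) (.node 4 (.node 2 (.node 1 (.leaf 0x3cb) (.leaf 0x3cc)) (.node 1 (.leaf 0x3cd) (.leaf 0x3ce))) (.node 2 (.node 1 (.leaf 0x3cf) (.leaf 0x0)) (.node 1 (.leaf 0x0) (.leaf 0x3d0)))))) (.node 15 (.node 7 (.node 3 (.node 1 (.leaf 0x3d1) (.node 1 (.leaf 0x0) (.leaf 0x0))) (.node 2 (.node 1 (.leaf 0x0) (.leaf 0x0)) (.node 1 (.leaf 0x0) (.leaf 0x0)))) (.node 4 (.node 2 (.node 1 (.leaf 0x0) (.leaf 0x0)) (.node 1 (.leaf 0x0) (.leaf 0x3d2))) (.node 2 (.node 1 (.leaf 0x3d3) (.leaf 0x3d4)) (.node 1 (.leaf 0x3d5) (.leaf 0x3d6))))) (.node 7 (.node 3 (.node 1 (.leaf 0x3d7) (.node 1 (.leaf 0x3d8) (.leaf 0x3d9))) (.node 2 (.node 1 (.leaf 0x3da) (.leaf 0x3db)) (.node 1 (.leaf 0x3dc) (.leaf 0x3dd)))) (.node 4 (.node 2 (.node 1 (.leaf 0x3de) (.leaf 0x3df)) (.node 1 (.leaf 0x3e0) (.leaf 0x3e1))) (.node 2 (.node 1 (.leaf 0x3e2) (.leaf 0x3e3)) (.node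 1 (.leaf 0x3e4) (.leaf 0x3e5))))))) (.node 29 (.node 14 (.node 7 (.node 3 (.node 1 (.leaf 0x3e6) (.node 1 (.leaf 0x3e7) (.leaf 0x3e8))) (.node 2 (.node 1 (.leaf 0x3e9) (.leaf 0x3ea)) (.node 1 (.leaf 0x3eb) (.leaf 0x3ec)))) (.node 3 (.node 1 (.leaf 0x0) (.node 1 (.leaf 0x3ed) (.leaf 0x3ee))) (.node 2 (.node 1 (.leaf 0x3ef) (.leaf 0x3f0)) (.node 1 (.leaf 0x3f1) (.leaf 0x0))))) (.node 7 (.node 3 (.node 1 (.leaf 0x3f2) (.node 1 (.leaf 0x3f3) (.leaf 0x3f4))) (.node 2 (.node 1 (.leaf 0x3f5) (.leaf 0x3f6)) (.node 1 (.leaf 0x3f7) (.leaf 0x3f8)))) (.node 4 (.node 2 (.node 1 (.leaf 0x3f9) (.leaf 0x0)) (.node 1 (.leaf 0x0) (.leaf 0x0))) (.node 2 (.node 1 (.leaf 0x0) (.leaf 0x3fa)) (.node 1 (.leaf 0x0) (.leaf 0x0)))))) (.node 15 (.node 7 (.node 3 (.node 1 (.leaf 0x0) (.node 1 (.leaf 0x0) (.leaf 0x0))) (.node 2 (.node 1 (.leaf 0x0) (.leaf 0x0)) (.node 1 (.leaf 0x0) (.leaf 0x0))))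 (.node 4 (.node 2 (.node 1 (.leaf 0x0) (.leaf 0x0)) (.node 1 (.leaf 0x0) (.leaf 0x0))) (.node 2 (.node 1 (.leaf 0x0) (.leaf 0x3fb)) (.node 1 (.leaf 0x3fc) (.leaf 0x3fd))))) (.node 7 (.node 3 (.node 1 (.leaf 0x3fe) (.node 1 (.leaf 0x0) (.leaf 0x3ff))) (.node 2 (.node 1 (.leaf 0x400) (.leaf 0x0)) (.node 1 (.leaf 0x0) (.leaf 0x0)))) (.node 4 (.node 2 (.node 1 (.leaf 0x0) (.leaf 0x0)) (.node 1 (.leaf 0x0) (.leaf 0x0))) (.node 2 (.node 1 (.leaf 0x0) (.leaf 0x0)) (.node 1 (.leaf 0x0) (.leaf 0x0)))))))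

def chainPos2 : Tree :=
  .node 896 (.node 384 (.node 128 (chainPos2_0) (.node 128 (chainPos2_1) (chainPos2_2))) (.node 256 (.node 128 (chainPos2_3) (chainPos2_4)) (.node 128 (chainPos2_5) (chainPos2_6)))) (.node 384 (.node 128 (chainPos2_7) (.node 128 (chainPos2_8) (chainPos2_9))) (.node 256 (.node 128 (chainPos2_10) (chainPos2_11)) (.node 128 (chainPos2_12) (chainPos2_13))))

def chain3_0 : List (List ℕ) :=
  [[], [0x12767212], [0x436213423127343, 0x6723]]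

def chain3 : List (List ℕ) := unchunk (chain3_0)

def chainPos3_0 : Tree :=
  .node 64 (.node 32 (.node 16 (.node 8 (.node 4 (.node 2 (.node 1 (.leaf 0x0) (.leaf 0x0)) (.node 1 (.leaf 0x0) (.leaf 0x1))) (.node 2 (.node 1 (.leaf 0x0) (.leaf 0x2)) (.node 1 (.leaf 0x3) (.leaf 0x0)))) (.node 4 (.node 2 (.node 1 (.leaf 0x0) (.leaf 0x0)) (.node 1 (.leaf 0x0) (.leaf 0x0))) (.node 2 (.node 1 (.leaf 0x0) (.leaf 0x0)) (.node 1 (.leaf 0x0) (.leaf 0x0))))) (.node 8 (.node 4 (.node 2 (.node 1 (.leaf 0x0) (.leaf 0x0)) (.node 1 (.leaf 0x0) (.leaf 0x0))) (.node 2 (.node 1 (.leaf 0x0) (.leaf 0x0)) (.node 1 (.leaf 0x0) (.leaf 0x0)))) (.node 4 (.node 2 (.node 1 (.leaf 0x0) (.leaf 0x0)) (.node 1 (.leaf 0x0) (.leaf 0x0))) (.node 2 (.node 1 (.leaf 0x0) (.leaf 0x0)) (.node 1 (.leaf 0x0) (.leaf 0x0)))))) (.node 16 (.node 8 (.node 4 (.node 2 (.node 1 (.leaf 0x0) (.leaf 0x0)) (.node 1 (.leaf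 0x0) (.leaf 0x0))) (.node 2 (.node 1 (.leaf 0x0) (.leaf 0x0)) (.node 1 (.leaf 0x0) (.leaf 0x0)))) (.node 4 (.node 2 (.node 1 (.leaf 0x0) (.leaf 0x0)) (.node 1 (.leaf 0x0) (.leaf 0x0))) (.node 2 (.node 1 (.leaf 0x0) (.leaf 0x0)) (.node 1 (.leaf 0x0) (.leaf 0x0))))) (.node 8 (.node 4 (.node 2 (.node 1 (.leaf 0x0) (.leaf 0x0)) (.node 1 (.leaf 0x0) (.leaf 0x0))) (.node 2 (.node 1 (.leaf 0x0) (.leaf 0x0)) (.node 1 (.leaf 0x0) (.leaf 0x0)))) (.node 4 (.node 2 (.node 1 (.leaf 0x0) (.leaf 0x0)) (.node 1 (.leaf 0x0) (.leaf 0x0))) (.node 2 (.node 1 (.leaf 0x0) (.leaf 0x0)) (.node 1 (.leaf 0x0) (.leaf 0x0))))))) (.node 32 (.node 16 (.node 8 (.node 4 (.node 2 (.node 1 (.leaf 0x0) (.leaf 0x0)) (.node 1 (.leaf 0x0) (.leaf 0x0))) (.node 2 (.node 1 (.leaf 0x0) (.leaf 0x0)) (.node 1 (.leaf 0x0) (.leaf 0x0)))) (.node 4 (.node 2 (.node 1 (.leaf 0x0) (.leaf 0x0)) (.node 1 (.leaf 0x0)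 (.leaf 0x0))) (.node 2 (.node 1 (.leaf 0x0) (.leaf 0x0)) (.node 1 (.leaf 0x0) (.leaf 0x0))))) (.node 8 (.node 4 (.node 2 (.node 1 (.leaf 0x0) (.leaf 0x0)) (.node 1 (.leaf 0x0) (.leaf 0x0))) (.node 2 (.node 1 (.leaf 0x0) (.leaf 0x0)) (.node 1 (.leaf 0x0) (.leaf 0x0)))) (.node 4 (.node 2 (.node 1 (.leaf 0x0) (.leaf 0x0)) (.node 1 (.leaf 0x0) (.leaf 0x0))) (.node 2 (.node 1 (.leaf 0x0) (.leaf 0x0)) (.node 1 (.leaf 0x0) (.leaf 0x0)))))) (.node 16 (.node 8 (.node 4 (.node 2 (.node 1 (.leaf 0x0) (.leaf 0x0)) (.node 1 (.leaf 0x0) (.leaf 0x0))) (.node 2 (.node 1 (.leaf 0x0) (.leaf 0x0)) (.node 1 (.leaf 0x0) (.leaf 0x0)))) (.node 4 (.node 2 (.node 1 (.leaf 0x0) (.leaf 0x0)) (.node 1 (.leaf 0x0) (.leaf 0x0))) (.node 2 (.node 1 (.leaf 0x0) (.leaf 0x0)) (.node 1 (.leaf 0x0) (.leaf 0x0))))) (.node 8 (.node 4 (.node 2 (.node 1 (.leaf 0x0) (.leaf 0x0)) (.node 1 (.leaf 0x0) (.leaf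 0x0))) (.node 2 (.node 1 (.leaf 0x0) (.leaf 0x0)) (.node 1 (.leaf 0x0) (.leaf 0x0)))) (.node 4 (.node 2 (.node 1 (.leaf 0x0) (.leaf 0x0)) (.node 1 (.leaf 0x0) (.leaf 0x0))) (.node 2 (.node 1 (.leaf 0x0) (.leaf 0x0)) (.node 1 (.leaf 0x0) (.leaf 0x0)))))))

def chainPos3_1 : Tree :=
  .node 64 (.node 32 (.node 16 (.node 8 (.node 4 (.node 2 (.node 1 (.leaf 0x0) (.leaf 0x0)) (.node 1 (.leaf 0x0) (.leaf 0x0))) (.node 2 (.node 1 (.leaf 0x0) (.leaf 0x0)) (.node 1 (.leaf 0x0) (.leaf 0x0)))) (.node 4 (.node 2 (.node 1 (.leaf 0x0) (.leaf 0x0)) (.node 1 (.leaf 0x0) (.leaf 0x0))) (.node 2 (.node 1 (.leaf 0x0) (.leaf 0x0)) (.node 1 (.leaf 0x0) (.leaf 0x0))))) (.node 8 (.node 4 (.node 2 (.node 1 (.leaf 0x0) (.leaf 0x0)) (.node 1 (.leaf 0x0) (.leaf 0x0))) (.node 2 (.node 1 (.leaf 0x0) (.leaf 0x0)) (.node 1 (.leaf 0x0) (.leaf 0x0)))) (.node 4 (.node 2 (.node 1 (.leaf 0x0) (.leaf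 0x0)) (.node 1 (.leaf 0x0) (.leaf 0x0))) (.node 2 (.node 1 (.leaf 0x0) (.leaf 0x0)) (.node 1 (.leaf 0x0) (.leaf 0x0)))))) (.node 16 (.node 8 (.node 4 (.node 2 (.node 1 (.leaf 0x0) (.leaf 0x0)) (.node 1 (.leaf 0x0) (.leaf 0x0))) (.node 2 (.node 1 (.leaf 0x0) (.leaf 0x0)) (.node 1 (.leaf 0x0) (.leaf 0x0)))) (.node 4 (.node 2 (.node 1 (.leaf 0x0) (.leaf 0x0)) (.node 1 (.leaf 0x0) (.leaf 0x0))) (.node 2 (.node 1 (.leaf 0x0) (.leaf 0x0)) (.node 1 (.leaf 0x0) (.leaf 0x0))))) (.node 8 (.node 4 (.node 2 (.node 1 (.leaf 0x0) (.leaf 0x0)) (.node 1 (.leaf 0x0) (.leaf 0x0))) (.node 2 (.node 1 (.leaf 0x0) (.leaf 0x0)) (.node 1 (.leaf 0x0) (.leaf 0x0)))) (.node 4 (.node 2 (.node 1 (.leaf 0x0) (.leaf 0x0)) (.node 1 (.leaf 0x0) (.leaf 0x0))) (.node 2 (.node 1 (.leaf 0x0) (.leaf 0x0)) (.node 1 (.leaf 0x0) (.leaf 0x0))))))) (.node 32 (.node 16 (.node 8 (.node 4 (.node 2 (.node 1 (.leaf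 0x0) (.leaf 0x0)) (.node 1 (.leaf 0x0) (.leaf 0x0))) (.node 2 (.node 1 (.leaf 0x0) (.leaf 0x0)) (.node 1 (.leaf 0x0) (.leaf 0x0)))) (.node 4 (.node 2 (.node 1 (.leaf 0x0) (.leaf 0x0)) (.node 1 (.leaf 0x0) (.leaf 0x0))) (.node 2 (.node 1 (.leaf 0x0) (.leaf 0x0)) (.node 1 (.leaf 0x0) (.leaf 0x0))))) (.node 8 (.node 4 (.node 2 (.node 1 (.leaf 0x0) (.leaf 0x0)) (.node 1 (.leaf 0x0) (.leaf 0x0))) (.node 2 (.node 1 (.leaf 0x0) (.leaf 0x0)) (.node 1 (.leaf 0x0) (.leaf 0x0)))) (.node 4 (.node 2 (.node 1 (.leaf 0x0) (.leaf 0x0)) (.node 1 (.leaf 0x0) (.leaf 0x0))) (.node 2 (.node 1 (.leaf 0x0) (.leaf 0x0)) (.node 1 (.leaf 0x0) (.leaf 0x0)))))) (.node 16 (.node 8 (.node 4 (.node 2 (.node 1 (.leaf 0x0) (.leaf 0x0)) (.node 1 (.leaf 0x0) (.leaf 0x0))) (.node 2 (.node 1 (.leaf 0x0) (.leaf 0x0)) (.node 1 (.leaf 0x0) (.leaf 0x0)))) (.node 4 (.node 2 (.node 1 (.leaf 0x0) (.leaf 0x0))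 (.node 1 (.leaf 0x0) (.leaf 0x0))) (.node 2 (.node 1 (.leaf 0x0) (.leaf 0x0)) (.node 1 (.leaf 0x0) (.leaf 0x0))))) (.node 8 (.node 4 (.node 2 (.node 1 (.leaf 0x0) (.leaf 0x0)) (.node 1 (.leaf 0x0) (.leaf 0x0))) (.node 2 (.node 1 (.leaf 0x0) (.leaf 0x0)) (.node 1 (.leaf 0x0) (.leaf 0x0)))) (.node 4 (.node 2 (.node 1 (.leaf 0x0) (.leaf 0x0)) (.node 1 (.leaf 0x0) (.leaf 0x0))) (.node 2 (.node 1 (.leaf 0x0) (.leaf 0x0)) (.node 1 (.leaf 0x0) (.leaf 0x0)))))))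

def chainPos3_2 : Tree :=
  .node 64 (.node 32 (.node 16 (.node 8 (.node 4 (.node 2 (.node 1 (.leaf 0x0) (.leaf 0x0)) (.node 1 (.leaf 0x0) (.leaf 0x0))) (.node 2 (.node 1 (.leaf 0x0) (.leaf 0x0)) (.node 1 (.leaf 0x0) (.leaf 0x0)))) (.node 4 (.node 2 (.node 1 (.leaf 0x0) (.leaf 0x0)) (.node 1 (.leaf 0x0) (.leaf 0x0))) (.node 2 (.node 1 (.leaf 0x0) (.leaf 0x0)) (.node 1 (.leaf 0x0) (.leaf 0x0))))) (.node 8 (.node 4 (.node 2 (.node 1 (.leaf 0x0) (.leaf 0x0)) (.node 1 (.leaf 0x0) (.leaf 0x0))) (.node 2 (.node 1 (.leaf 0x0) (.leaf 0x0)) (.node 1 (.leaf 0x0) (.leaf 0x0)))) (.node 4 (.node 2 (.node 1 (.leaf 0x0) (.leaf 0x0)) (.node 1 (.leaf 0x0) (.leaf 0x0))) (.node 2 (.node 1 (.leaf 0x0) (.leaf 0x0)) (.node 1 (.leaf 0x0) (.leaf 0x0)))))) (.node 16 (.node 8 (.node 4 (.node 2 (.node 1 (.leaf 0x0) (.leaf 0x0)) (.node 1 (.leaf 0x0) (.leaf 0x0))) (.node 2 (.node 1 (.leaf 0x0)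 (.leaf 0x0)) (.node 1 (.leaf 0x0) (.leaf 0x0)))) (.node 4 (.node 2 (.node 1 (.leaf 0x0) (.leaf 0x0)) (.node 1 (.leaf 0x0) (.leaf 0x0))) (.node 2 (.node 1 (.leaf 0x0) (.leaf 0x0)) (.node 1 (.leaf 0x0) (.leaf 0x0))))) (.node 8 (.node 4 (.node 2 (.node 1 (.leaf 0x0) (.leaf 0x0)) (.node 1 (.leaf 0x0) (.leaf 0x0))) (.node 2 (.node 1 (.leaf 0x0) (.leaf 0x0)) (.node 1 (.leaf 0x0) (.leaf 0x0)))) (.node 4 (.node 2 (.node 1 (.leaf 0x0) (.leaf 0x0)) (.node 1 (.leaf 0x0) (.leaf 0x0))) (.node 2 (.node 1 (.leaf 0x0) (.leaf 0x0)) (.node 1 (.leaf 0x0) (.leaf 0x0))))))) (.node 32 (.node 16 (.node 8 (.node 4 (.node 2 (.node 1 (.leaf 0x0) (.leaf 0x0)) (.node 1 (.leaf 0x0) (.leaf 0x0))) (.node 2 (.node 1 (.leaf 0x0) (.leaf 0x0)) (.node 1 (.leaf 0x0) (.leaf 0x0)))) (.node 4 (.node 2 (.node 1 (.leaf 0x0) (.leaf 0x0)) (.node 1 (.leaf 0x0) (.leaf 0x0))) (.node 2 (.node 1 (.leaf 0x0) (.leaf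 0x0)) (.node 1 (.leaf 0x0) (.leaf 0x0))))) (.node 8 (.node 4 (.node 2 (.node 1 (.leaf 0x0) (.leaf 0x0)) (.node 1 (.leaf 0x0) (.leaf 0x0))) (.node 2 (.node 1 (.leaf 0x0) (.leaf 0x0)) (.node 1 (.leaf 0x0) (.leaf 0x0)))) (.node 4 (.node 2 (.node 1 (.leaf 0x0) (.leaf 0x0)) (.node 1 (.leaf 0x0) (.leaf 0x0))) (.node 2 (.node 1 (.leaf 0x0) (.leaf 0x0)) (.node 1 (.leaf 0x0) (.leaf 0x0)))))) (.node 16 (.node 8 (.node 4 (.node 2 (.node 1 (.leaf 0x0) (.leaf 0x0)) (.node 1 (.leaf 0x0) (.leaf 0x0))) (.node 2 (.node 1 (.leaf 0x0) (.leaf 0x0)) (.node 1 (.leaf 0x0) (.leaf 0x0)))) (.node 4 (.node 2 (.node 1 (.leaf 0x0) (.leaf 0x0)) (.node 1 (.leaf 0x0) (.leaf 0x0))) (.node 2 (.node 1 (.leaf 0x0) (.leaf 0x0)) (.node 1 (.leaf 0x0) (.leaf 0x0))))) (.node 8 (.node 4 (.node 2 (.node 1 (.leaf 0x0) (.leaf 0x0)) (.node 1 (.leaf 0x0) (.leaf 0x0))) (.node 2 (.node 1 (.leaf 0x0) (.leaf 0x0))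 (.node 1 (.leaf 0x0) (.leaf 0x0)))) (.node 4 (.node 2 (.node 1 (.leaf 0x0) (.leaf 0x0)) (.node 1 (.leaf 0x0) (.leaf 0x0))) (.node 2 (.node 1 (.leaf 0x0) (.leaf 0x0)) (.node 1 (.leaf 0x0) (.leaf 0x0)))))))

def chainPos3_3 : Tree :=
  .node 64 (.node 32 (.node 16 (.node 8 (.node 4 (.node 2 (.node 1 (.leaf 0x0) (.leaf 0x0)) (.node 1 (.leaf 0x0) (.leaf 0x0))) (.node 2 (.node 1 (.leaf 0x0) (.leaf 0x0)) (.node 1 (.leaf 0x0) (.leaf 0x0)))) (.node 4 (.node 2 (.node 1 (.leaf 0x0) (.leaf 0x0)) (.node 1 (.leaf 0x0) (.leaf 0x0))) (.node 2 (.node 1 (.leaf 0x0) (.leaf 0x0)) (.node 1 (.leaf 0x0) (.leaf 0x0))))) (.node 8 (.node 4 (.node 2 (.node 1 (.leaf 0x0) (.leaf 0x0)) (.node 1 (.leaf 0x0) (.leaf 0x0))) (.node 2 (.node 1 (.leaf 0x0) (.leaf 0x0)) (.node 1 (.leaf 0x0) (.leaf 0x0)))) (.node 4 (.node 2 (.node 1 (.leaf 0x0) (.leaf 0x0)) (.node 1 (.leaf 0x0) (.leaf 0x0))) (.node 2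 (.node 1 (.leaf 0x0) (.leaf 0x0)) (.node 1 (.leaf 0x0) (.leaf 0x0)))))) (.node 16 (.node 8 (.node 4 (.node 2 (.node 1 (.leaf 0x0) (.leaf 0x0)) (.node 1 (.leaf 0x0) (.leaf 0x0))) (.node 2 (.node 1 (.leaf 0x0) (.leaf 0x0)) (.node 1 (.leaf 0x0) (.leaf 0x0)))) (.node 4 (.node 2 (.node 1 (.leaf 0x0) (.leaf 0x0)) (.node 1 (.leaf 0x0) (.leaf 0x0))) (.node 2 (.node 1 (.leaf 0x0) (.leaf 0x0)) (.node 1 (.leaf 0x0) (.leaf 0x0))))) (.node 8 (.node 4 (.node 2 (.node 1 (.leaf 0x0) (.leaf 0x0)) (.node 1 (.leaf 0x0) (.leaf 0x0))) (.node 2 (.node 1 (.leaf 0x0) (.leaf 0x0)) (.node 1 (.leaf 0x0) (.leaf 0x0)))) (.node 4 (.node 2 (.node 1 (.leaf 0x0) (.leaf 0x0)) (.node 1 (.leaf 0x0) (.leaf 0x0))) (.node 2 (.node 1 (.leaf 0x0) (.leaf 0x0)) (.node 1 (.leaf 0x0) (.leaf 0x0))))))) (.node 32 (.node 16 (.node 8 (.node 4 (.node 2 (.node 1 (.leaf 0x0) (.leaf 0x0)) (.node 1 (.leaf 0x0) (.leaf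 0x0))) (.node 2 (.node 1 (.leaf 0x0) (.leaf 0x0)) (.node 1 (.leaf 0x0) (.leaf 0x0)))) (.node 4 (.node 2 (.node 1 (.leaf 0x0) (.leaf 0x0)) (.node 1 (.leaf 0x0) (.leaf 0x0))) (.node 2 (.node 1 (.leaf 0x0) (.leaf 0x0)) (.node 1 (.leaf 0x0) (.leaf 0x0))))) (.node 8 (.node 4 (.node 2 (.node 1 (.leaf 0x0) (.leaf 0x0)) (.node 1 (.leaf 0x0) (.leaf 0x0))) (.node 2 (.node 1 (.leaf 0x0) (.leaf 0x0)) (.node 1 (.leaf 0x0) (.leaf 0x0)))) (.node 4 (.node 2 (.node 1 (.leaf 0x0) (.leaf 0x0)) (.node 1 (.leaf 0x0) (.leaf 0x0))) (.node 2 (.node 1 (.leaf 0x0) (.leaf 0x0)) (.node 1 (.leaf 0x0) (.leaf 0x0)))))) (.node 16 (.node 8 (.node 4 (.node 2 (.node 1 (.leaf 0x0) (.leaf 0x0)) (.node 1 (.leaf 0x0) (.leaf 0x0))) (.node 2 (.node 1 (.leaf 0x0) (.leaf 0x0)) (.node 1 (.leaf 0x0) (.leaf 0x0)))) (.node 4 (.node 2 (.node 1 (.leaf 0x0) (.leaf 0x0)) (.node 1 (.leaf 0x0) (.leaf 0x0))) (.node 2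 (.node 1 (.leaf 0x0) (.leaf 0x0)) (.node 1 (.leaf 0x0) (.leaf 0x0))))) (.node 8 (.node 4 (.node 2 (.node 1 (.leaf 0x0) (.leaf 0x0)) (.node 1 (.leaf 0x0) (.leaf 0x0))) (.node 2 (.node 1 (.leaf 0x0) (.leaf 0x0)) (.node 1 (.leaf 0x0) (.leaf 0x0)))) (.node 4 (.node 2 (.node 1 (.leaf 0x0) (.leaf 0x0)) (.node 1 (.leaf 0x0) (.leaf 0x0))) (.node 2 (.node 1 (.leaf 0x0) (.leaf 0x0)) (.node 1 (.leaf 0x0) (.leaf 0x0)))))))

def chainPos3_4 : Tree :=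
  .node 64 (.node 32 (.node 16 (.node 8 (.node 4 (.node 2 (.node 1 (.leaf 0x0) (.leaf 0x0)) (.node 1 (.leaf 0x0) (.leaf 0x0))) (.node 2 (.node 1 (.leaf 0x0) (.leaf 0x0)) (.node 1 (.leaf 0x0) (.leaf 0x0)))) (.node 4 (.node 2 (.node 1 (.leaf 0x0) (.leaf 0x0)) (.node 1 (.leaf 0x0) (.leaf 0x0))) (.node 2 (.node 1 (.leaf 0x0) (.leaf 0x0)) (.node 1 (.leaf 0x0) (.leaf 0x0))))) (.node 8 (.node 4 (.node 2 (.node 1 (.leaf 0x0) (.leaf 0x0)) (.node 1 (.leaf 0x0) (.leaf 0x0))) (.node 2 (.node 1 (.leaf 0x0) (.leaf 0x0)) (.node 1 (.leaf 0x0) (.leaf 0x0)))) (.node 4 (.node 2 (.node 1 (.leaf 0x0) (.leaf 0x0)) (.node 1 (.leaf 0x0) (.leaf 0x0))) (.node 2 (.node 1 (.leaf 0x0) (.leaf 0x0)) (.node 1 (.leaf 0x0) (.leaf 0x0)))))) (.node 16 (.node 8 (.node 4 (.node 2 (.node 1 (.leaf 0x0) (.leaf 0x0)) (.node 1 (.leaf 0x0) (.leaf 0x0))) (.node 2 (.node 1 (.leaf 0x0) (.leaf 0x0)) (.node 1 (.leaf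 0x0) (.leaf 0x0)))) (.node 4 (.node 2 (.node 1 (.leaf 0x0) (.leaf 0x0)) (.node 1 (.leaf 0x0) (.leaf 0x0))) (.node 2 (.node 1 (.leaf 0x0) (.leaf 0x0)) (.node 1 (.leaf 0x0) (.leaf 0x0))))) (.node 8 (.node 4 (.node 2 (.node 1 (.leaf 0x0) (.leaf 0x0)) (.node 1 (.leaf 0x0) (.leaf 0x0))) (.node 2 (.node 1 (.leaf 0x0) (.leaf 0x0)) (.node 1 (.leaf 0x0) (.leaf 0x0)))) (.node 4 (.node 2 (.node 1 (.leaf 0x0) (.leaf 0x0)) (.node 1 (.leaf 0x0) (.leaf 0x0))) (.node 2 (.node 1 (.leaf 0x0) (.leaf 0x0)) (.node 1 (.leaf 0x0) (.leaf 0x0))))))) (.node 32 (.node 16 (.node 8 (.node 4 (.node 2 (.node 1 (.leaf 0x0) (.leaf 0x0)) (.node 1 (.leaf 0x0) (.leaf 0x0))) (.node 2 (.node 1 (.leaf 0x0) (.leaf 0x0)) (.node 1 (.leaf 0x0) (.leaf 0x0)))) (.node 4 (.node 2 (.node 1 (.leaf 0x0) (.leaf 0x0)) (.node 1 (.leaf 0x0) (.leaf 0x0))) (.node 2 (.node 1 (.leaf 0x0) (.leaf 0x0)) (.node 1 (.leaf 0x0)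 (.leaf 0x0))))) (.node 8 (.node 4 (.node 2 (.node 1 (.leaf 0x0) (.leaf 0x0)) (.node 1 (.leaf 0x0) (.leaf 0x0))) (.node 2 (.node 1 (.leaf 0x0) (.leaf 0x0)) (.node 1 (.leaf 0x0) (.leaf 0x0)))) (.node 4 (.node 2 (.node 1 (.leaf 0x0) (.leaf 0x0)) (.node 1 (.leaf 0x0) (.leaf 0x0))) (.node 2 (.node 1 (.leaf 0x0) (.leaf 0x0)) (.node 1 (.leaf 0x0) (.leaf 0x0)))))) (.node 16 (.node 8 (.node 4 (.node 2 (.node 1 (.leaf 0x0) (.leaf 0x0)) (.node 1 (.leaf 0x0) (.leaf 0x0))) (.node 2 (.node 1 (.leaf 0x0) (.leaf 0x0)) (.node 1 (.leaf 0x0) (.leaf 0x0)))) (.node 4 (.node 2 (.node 1 (.leaf 0x0) (.leaf 0x0)) (.node 1 (.leaf 0x0) (.leaf 0x0))) (.node 2 (.node 1 (.leaf 0x0) (.leaf 0x0)) (.node 1 (.leaf 0x0) (.leaf 0x0))))) (.node 8 (.node 4 (.node 2 (.node 1 (.leaf 0x0) (.leaf 0x0)) (.node 1 (.leaf 0x0) (.leaf 0x0))) (.node 2 (.node 1 (.leaf 0x0) (.leaf 0x0)) (.node 1 (.leaf 0x0) (.leaf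 0x0)))) (.node 4 (.node 2 (.node 1 (.leaf 0x0) (.leaf 0x0)) (.node 1 (.leaf 0x0) (.leaf 0x0))) (.node 2 (.node 1 (.leaf 0x0) (.leaf 0x0)) (.node 1 (.leaf 0x0) (.leaf 0x0)))))))

def chainPos3_5 : Tree :=
  .node 64 (.node 32 (.node 16 (.node 8 (.node 4 (.node 2 (.node 1 (.leaf 0x0) (.leaf 0x0)) (.node 1 (.leaf 0x0) (.leaf 0x0))) (.node 2 (.node 1 (.leaf 0x0) (.leaf 0x0)) (.node 1 (.leaf 0x0) (.leaf 0x0)))) (.node 4 (.node 2 (.node 1 (.leaf 0x0) (.leaf 0x0)) (.node 1 (.leaf 0x0) (.leaf 0x0))) (.node 2 (.node 1 (.leaf 0x0) (.leaf 0x0)) (.node 1 (.leaf 0x0) (.leaf 0x0))))) (.node 8 (.node 4 (.node 2 (.node 1 (.leaf 0x0) (.leaf 0x0)) (.node 1 (.leaf 0x0) (.leaf 0x0))) (.node 2 (.node 1 (.leaf 0x0) (.leaf 0x0)) (.node 1 (.leaf 0x0) (.leaf 0x0)))) (.node 4 (.node 2 (.node 1 (.leaf 0x0) (.leaf 0x0)) (.node 1 (.leaf 0x0) (.leaf 0x0))) (.node 2 (.node 1 (.leaf 0x0) (.leaf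 0x0)) (.node 1 (.leaf 0x0) (.leaf 0x0)))))) (.node 16 (.node 8 (.node 4 (.node 2 (.node 1 (.leaf 0x0) (.leaf 0x0)) (.node 1 (.leaf 0x0) (.leaf 0x0))) (.node 2 (.node 1 (.leaf 0x0) (.leaf 0x0)) (.node 1 (.leaf 0x0) (.leaf 0x0)))) (.node 4 (.node 2 (.node 1 (.leaf 0x0) (.leaf 0x0)) (.node 1 (.leaf 0x0) (.leaf 0x0))) (.node 2 (.node 1 (.leaf 0x0) (.leaf 0x0)) (.node 1 (.leaf 0x0) (.leaf 0x0))))) (.node 8 (.node 4 (.node 2 (.node 1 (.leaf 0x0) (.leaf 0x0)) (.node 1 (.leaf 0x0) (.leaf 0x0))) (.node 2 (.node 1 (.leaf 0x0) (.leaf 0x0)) (.node 1 (.leaf 0x0) (.leaf 0x0)))) (.node 4 (.node 2 (.node 1 (.leaf 0x0) (.leaf 0x0)) (.node 1 (.leaf 0x0) (.leaf 0x0))) (.node 2 (.node 1 (.leaf 0x0) (.leaf 0x0)) (.node 1 (.leaf 0x0) (.leaf 0x0))))))) (.node 32 (.node 16 (.node 8 (.node 4 (.node 2 (.node 1 (.leaf 0x0) (.leaf 0x0)) (.node 1 (.leaf 0x0) (.leaf 0x0))) (.node 2 (.node 1 (.leaf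 0x0) (.leaf 0x0)) (.node 1 (.leaf 0x0) (.leaf 0x0)))) (.node 4 (.node 2 (.node 1 (.leaf 0x0) (.leaf 0x0)) (.node 1 (.leaf 0x0) (.leaf 0x0))) (.node 2 (.node 1 (.leaf 0x0) (.leaf 0x0)) (.node 1 (.leaf 0x0) (.leaf 0x0))))) (.node 8 (.node 4 (.node 2 (.node 1 (.leaf 0x0) (.leaf 0x0)) (.node 1 (.leaf 0x0) (.leaf 0x0))) (.node 2 (.node 1 (.leaf 0x0) (.leaf 0x0)) (.node 1 (.leaf 0x0) (.leaf 0x0)))) (.node 4 (.node 2 (.node 1 (.leaf 0x0) (.leaf 0x0)) (.node 1 (.leaf 0x0) (.leaf 0x0))) (.node 2 (.node 1 (.leaf 0x0) (.leaf 0x0)) (.node 1 (.leaf 0x0) (.leaf 0x0)))))) (.node 16 (.node 8 (.node 4 (.node 2 (.node 1 (.leaf 0x0) (.leaf 0x0)) (.node 1 (.leaf 0x0) (.leaf 0x0))) (.node 2 (.node 1 (.leaf 0x0) (.leaf 0x0)) (.node 1 (.leaf 0x0) (.leaf 0x0)))) (.node 4 (.node 2 (.node 1 (.leaf 0x0) (.leaf 0x0)) (.node 1 (.leaf 0x0) (.leaf 0x0))) (.node 2 (.node 1 (.leaf 0x0) (.leaf 0x0))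 (.node 1 (.leaf 0x0) (.leaf 0x0))))) (.node 8 (.node 4 (.node 2 (.node 1 (.leaf 0x0) (.leaf 0x0)) (.node 1 (.leaf 0x0) (.leaf 0x0))) (.node 2 (.node 1 (.leaf 0x0) (.leaf 0x0)) (.node 1 (.leaf 0x0) (.leaf 0x0)))) (.node 4 (.node 2 (.node 1 (.leaf 0x0) (.leaf 0x0)) (.node 1 (.leaf 0x0) (.leaf 0x0))) (.node 2 (.node 1 (.leaf 0x0) (.leaf 0x0)) (.node 1 (.leaf 0x0) (.leaf 0x0)))))))

def chainPos3_6 : Tree :=
  .node 64 (.node 32 (.node 16 (.node 8 (.node 4 (.node 2 (.node 1 (.leaf 0x0) (.leaf 0x0)) (.node 1 (.leaf 0x0) (.leaf 0x0))) (.node 2 (.node 1 (.leaf 0x0) (.leaf 0x0)) (.node 1 (.leaf 0x0) (.leaf 0x0)))) (.node 4 (.node 2 (.node 1 (.leaf 0x0) (.leaf 0x0)) (.node 1 (.leaf 0x0) (.leaf 0x0))) (.node 2 (.node 1 (.leaf 0x0) (.leaf 0x0)) (.node 1 (.leaf 0x0) (.leaf 0x0))))) (.node 8 (.node 4 (.node 2 (.node 1 (.leaf 0x0) (.leaf 0x0)) (.node 1 (.leaf 0x0) (.leaf 0x0)))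 (.node 2 (.node 1 (.leaf 0x0) (.leaf 0x0)) (.node 1 (.leaf 0x0) (.leaf 0x0)))) (.node 4 (.node 2 (.node 1 (.leaf 0x0) (.leaf 0x0)) (.node 1 (.leaf 0x0) (.leaf 0x0))) (.node 2 (.node 1 (.leaf 0x0) (.leaf 0x0)) (.node 1 (.leaf 0x0) (.leaf 0x0)))))) (.node 16 (.node 8 (.node 4 (.node 2 (.node 1 (.leaf 0x0) (.leaf 0x0)) (.node 1 (.leaf 0x0) (.leaf 0x0))) (.node 2 (.node 1 (.leaf 0x0) (.leaf 0x0)) (.node 1 (.leaf 0x0) (.leaf 0x0)))) (.node 4 (.node 2 (.node 1 (.leaf 0x0) (.leaf 0x0)) (.node 1 (.leaf 0x0) (.leaf 0x0))) (.node 2 (.node 1 (.leaf 0x0) (.leaf 0x0)) (.node 1 (.leaf 0x0) (.leaf 0x0))))) (.node 8 (.node 4 (.node 2 (.node 1 (.leaf 0x0) (.leaf 0x0)) (.node 1 (.leaf 0x0) (.leaf 0x0))) (.node 2 (.node 1 (.leaf 0x0) (.leaf 0x0)) (.node 1 (.leaf 0x0) (.leaf 0x0)))) (.node 4 (.node 2 (.node 1 (.leaf 0x0) (.leaf 0x0)) (.node 1 (.leaf 0x0) (.leaf 0x0))) (.node 2 (.node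 1 (.leaf 0x0) (.leaf 0x0)) (.node 1 (.leaf 0x0) (.leaf 0x0))))))) (.node 32 (.node 16 (.node 8 (.node 4 (.node 2 (.node 1 (.leaf 0x0) (.leaf 0x0)) (.node 1 (.leaf 0x0) (.leaf 0x0))) (.node 2 (.node 1 (.leaf 0x0) (.leaf 0x0)) (.node 1 (.leaf 0x0) (.leaf 0x0)))) (.node 4 (.node 2 (.node 1 (.leaf 0x0) (.leaf 0x0)) (.node 1 (.leaf 0x0) (.leaf 0x0))) (.node 2 (.node 1 (.leaf 0x0) (.leaf 0x0)) (.node 1 (.leaf 0x0) (.leaf 0x0))))) (.node 8 (.node 4 (.node 2 (.node 1 (.leaf 0x0) (.leaf 0x0)) (.node 1 (.leaf 0x0) (.leaf 0x0))) (.node 2 (.node 1 (.leaf 0x0) (.leaf 0x0)) (.node 1 (.leaf 0x0) (.leaf 0x0)))) (.node 4 (.node 2 (.node 1 (.leaf 0x0) (.leaf 0x0)) (.node 1 (.leaf 0x0) (.leaf 0x0))) (.node 2 (.node 1 (.leaf 0x0) (.leaf 0x0)) (.node 1 (.leaf 0x0) (.leaf 0x0)))))) (.node 16 (.node 8 (.node 4 (.node 2 (.node 1 (.leaf 0x0) (.leaf 0x0)) (.node 1 (.leaf 0x0) (.leaf 0x0)))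 (.node 2 (.node 1 (.leaf 0x0) (.leaf 0x0)) (.node 1 (.leaf 0x0) (.leaf 0x0)))) (.node 4 (.node 2 (.node 1 (.leaf 0x0) (.leaf 0x0)) (.node 1 (.leaf 0x0) (.leaf 0x0))) (.node 2 (.node 1 (.leaf 0x0) (.leaf 0x0)) (.node 1 (.leaf 0x0) (.leaf 0x0))))) (.node 8 (.node 4 (.node 2 (.node 1 (.leaf 0x0) (.leaf 0x0)) (.node 1 (.leaf 0x0) (.leaf 0x0))) (.node 2 (.node 1 (.leaf 0x0) (.leaf 0x0)) (.node 1 (.leaf 0x0) (.leaf 0x0)))) (.node 4 (.node 2 (.node 1 (.leaf 0x0) (.leaf 0x0)) (.node 1 (.leaf 0x0) (.leaf 0x0))) (.node 2 (.node 1 (.leaf 0x0) (.leaf 0x0)) (.node 1 (.leaf 0x0) (.leaf 0x0)))))))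

def chainPos3_7 : Tree :=
  .node 64 (.node 32 (.node 16 (.node 8 (.node 4 (.node 2 (.node 1 (.leaf 0x0) (.leaf 0x0)) (.node 1 (.leaf 0x0) (.leaf 0x0))) (.node 2 (.node 1 (.leaf 0x0) (.leaf 0x0)) (.node 1 (.leaf 0x0) (.leaf 0x0)))) (.node 4 (.node 2 (.node 1 (.leaf 0x0) (.leaf 0x0)) (.node 1 (.leaf 0x0) (.leaf 0x0))) (.node 2 (.node 1 (.leaf 0x0) (.leaf 0x0)) (.node 1 (.leaf 0x0) (.leaf 0x0))))) (.node 8 (.node 4 (.node 2 (.node 1 (.leaf 0x0) (.leaf 0x0)) (.node 1 (.leaf 0x0) (.leaf 0x0))) (.node 2 (.node 1 (.leaf 0x0) (.leaf 0x0)) (.node 1 (.leaf 0x0) (.leaf 0x0)))) (.node 4 (.node 2 (.node 1 (.leaf 0x0) (.leaf 0x0)) (.node 1 (.leaf 0x0) (.leaf 0x0))) (.node 2 (.node 1 (.leaf 0x0) (.leaf 0x0)) (.node 1 (.leaf 0x0) (.leaf 0x0)))))) (.node 16 (.node 8 (.node 4 (.node 2 (.node 1 (.leaf 0x0) (.leaf 0x0)) (.node 1 (.leaf 0x0) (.leaf 0x0))) (.node 2 (.node 1 (.leaf 0x0)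 (.leaf 0x0)) (.node 1 (.leaf 0x0) (.leaf 0x0)))) (.node 4 (.node 2 (.node 1 (.leaf 0x0) (.leaf 0x0)) (.node 1 (.leaf 0x0) (.leaf 0x0))) (.node 2 (.node 1 (.leaf 0x0) (.leaf 0x0)) (.node 1 (.leaf 0x0) (.leaf 0x0))))) (.node 8 (.node 4 (.node 2 (.node 1 (.leaf 0x0) (.leaf 0x0)) (.node 1 (.leaf 0x0) (.leaf 0x0))) (.node 2 (.node 1 (.leaf 0x0) (.leaf 0x0)) (.node 1 (.leaf 0x0) (.leaf 0x0)))) (.node 4 (.node 2 (.node 1 (.leaf 0x0) (.leaf 0x0)) (.node 1 (.leaf 0x0) (.leaf 0x0))) (.node 2 (.node 1 (.leaf 0x0) (.leaf 0x0)) (.node 1 (.leaf 0x0) (.leaf 0x0))))))) (.node 32 (.node 16 (.node 8 (.node 4 (.node 2 (.node 1 (.leaf 0x0) (.leaf 0x0)) (.node 1 (.leaf 0x0) (.leaf 0x0))) (.node 2 (.node 1 (.leaf 0x0) (.leaf 0x0)) (.node 1 (.leaf 0x0) (.leaf 0x0)))) (.node 4 (.node 2 (.node 1 (.leaf 0x0) (.leaf 0x0)) (.node 1 (.leaf 0x0) (.leaf 0x0))) (.node 2 (.node 1 (.leaf 0x0) (.leaf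 0x0)) (.node 1 (.leaf 0x0) (.leaf 0x0))))) (.node 8 (.node 4 (.node 2 (.node 1 (.leaf 0x0) (.leaf 0x0)) (.node 1 (.leaf 0x0) (.leaf 0x0))) (.node 2 (.node 1 (.leaf 0x0) (.leaf 0x0)) (.node 1 (.leaf 0x0) (.leaf 0x0)))) (.node 4 (.node 2 (.node 1 (.leaf 0x0) (.leaf 0x0)) (.node 1 (.leaf 0x0) (.leaf 0x0))) (.node 2 (.node 1 (.leaf 0x0) (.leaf 0x0)) (.node 1 (.leaf 0x0) (.leaf 0x0)))))) (.node 16 (.node 8 (.node 4 (.node 2 (.node 1 (.leaf 0x0) (.leaf 0x0)) (.node 1 (.leaf 0x0) (.leaf 0x0))) (.node 2 (.node 1 (.leaf 0x0) (.leaf 0x0)) (.node 1 (.leaf 0x0) (.leaf 0x0)))) (.node 4 (.node 2 (.node 1 (.leaf 0x0) (.leaf 0x0)) (.node 1 (.leaf 0x0) (.leaf 0x0))) (.node 2 (.node 1 (.leaf 0x0) (.leaf 0x0)) (.node 1 (.leaf 0x0) (.leaf 0x0))))) (.node 8 (.node 4 (.node 2 (.node 1 (.leaf 0x0) (.leaf 0x0)) (.node 1 (.leaf 0x0) (.leaf 0x0))) (.node 2 (.node 1 (.leaf 0x0) (.leaf 0x0))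 (.node 1 (.leaf 0x0) (.leaf 0x0)))) (.node 4 (.node 2 (.node 1 (.leaf 0x0) (.leaf 0x0)) (.node 1 (.leaf 0x0) (.leaf 0x0))) (.node 2 (.node 1 (.leaf 0x0) (.leaf 0x0)) (.node 1 (.leaf 0x0) (.leaf 0x0)))))))

def chainPos3_8 : Tree :=
  .node 64 (.node 32 (.node 16 (.node 8 (.node 4 (.node 2 (.node 1 (.leaf 0x0) (.leaf 0x0)) (.node 1 (.leaf 0x0) (.leaf 0x0))) (.node 2 (.node 1 (.leaf 0x0) (.leaf 0x0)) (.node 1 (.leaf 0x0) (.leaf 0x0)))) (.node 4 (.node 2 (.node 1 (.leaf 0x0) (.leaf 0x0)) (.node 1 (.leaf 0x0) (.leaf 0x0))) (.node 2 (.node 1 (.leaf 0x0) (.leaf 0x0)) (.node 1 (.leaf 0x0) (.leaf 0x0))))) (.node 8 (.node 4 (.node 2 (.node 1 (.leaf 0x0) (.leaf 0x0)) (.node 1 (.leaf 0x0) (.leaf 0x0))) (.node 2 (.node 1 (.leaf 0x0) (.leaf 0x0)) (.node 1 (.leaf 0x0) (.leaf 0x0)))) (.node 4 (.node 2 (.node 1 (.leaf 0x0) (.leaf 0x0)) (.node 1 (.leaf 0x0) (.leaf 0x0))) (.node 2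 (.node 1 (.leaf 0x0) (.leaf 0x0)) (.node 1 (.leaf 0x0) (.leaf 0x0)))))) (.node 16 (.node 8 (.node 4 (.node 2 (.node 1 (.leaf 0x0) (.leaf 0x0)) (.node 1 (.leaf 0x0) (.leaf 0x0))) (.node 2 (.node 1 (.leaf 0x0) (.leaf 0x0)) (.node 1 (.leaf 0x0) (.leaf 0x0)))) (.node 4 (.node 2 (.node 1 (.leaf 0x0) (.leaf 0x0)) (.node 1 (.leaf 0x0) (.leaf 0x0))) (.node 2 (.node 1 (.leaf 0x0) (.leaf 0x0)) (.node 1 (.leaf 0x0) (.leaf 0x0))))) (.node 8 (.node 4 (.node 2 (.node 1 (.leaf 0x0) (.leaf 0x0)) (.node 1 (.leaf 0x0) (.leaf 0x0))) (.node 2 (.node 1 (.leaf 0x0) (.leaf 0x0)) (.node 1 (.leaf 0x0) (.leaf 0x0)))) (.node 4 (.node 2 (.node 1 (.leaf 0x0) (.leaf 0x0)) (.node 1 (.leaf 0x0) (.leaf 0x0))) (.node 2 (.node 1 (.leaf 0x0) (.leaf 0x0)) (.node 1 (.leaf 0x0) (.leaf 0x0))))))) (.node 32 (.node 16 (.node 8 (.node 4 (.node 2 (.node 1 (.leaf 0x0) (.leaf 0x0)) (.node 1 (.leaf 0x0) (.leaf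 0x0))) (.node 2 (.node 1 (.leaf 0x0) (.leaf 0x0)) (.node 1 (.leaf 0x0) (.leaf 0x0)))) (.node 4 (.node 2 (.node 1 (.leaf 0x0) (.leaf 0x0)) (.node 1 (.leaf 0x0) (.leaf 0x0))) (.node 2 (.node 1 (.leaf 0x0) (.leaf 0x0)) (.node 1 (.leaf 0x0) (.leaf 0x0))))) (.node 8 (.node 4 (.node 2 (.node 1 (.leaf 0x0) (.leaf 0x0)) (.node 1 (.leaf 0x0) (.leaf 0x0))) (.node 2 (.node 1 (.leaf 0x0) (.leaf 0x0)) (.node 1 (.leaf 0x0) (.leaf 0x0)))) (.node 4 (.node 2 (.node 1 (.leaf 0x0) (.leaf 0x0)) (.node 1 (.leaf 0x0) (.leaf 0x0))) (.node 2 (.node 1 (.leaf 0x0) (.leaf 0x0)) (.node 1 (.leaf 0x0) (.leaf 0x0)))))) (.node 16 (.node 8 (.node 4 (.node 2 (.node 1 (.leaf 0x0) (.leaf 0x0)) (.node 1 (.leaf 0x0) (.leaf 0x0))) (.node 2 (.node 1 (.leaf 0x0) (.leaf 0x0)) (.node 1 (.leaf 0x0) (.leaf 0x0)))) (.node 4 (.node 2 (.node 1 (.leaf 0x0) (.leaf 0x0)) (.node 1 (.leaf 0x0) (.leaf 0x0))) (.node 2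 (.node 1 (.leaf 0x0) (.leaf 0x0)) (.node 1 (.leaf 0x0) (.leaf 0x0))))) (.node 8 (.node 4 (.node 2 (.node 1 (.leaf 0x0) (.leaf 0x0)) (.node 1 (.leaf 0x0) (.leaf 0x0))) (.node 2 (.node 1 (.leaf 0x0) (.leaf 0x0)) (.node 1 (.leaf 0x0) (.leaf 0x0)))) (.node 4 (.node 2 (.node 1 (.leaf 0x0) (.leaf 0x0)) (.node 1 (.leaf 0x0) (.leaf 0x0))) (.node 2 (.node 1 (.leaf 0x0) (.leaf 0x0)) (.node 1 (.leaf 0x0) (.leaf 0x0)))))))

def chainPos3_9 : Tree :=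
  .node 64 (.node 32 (.node 16 (.node 8 (.node 4 (.node 2 (.node 1 (.leaf 0x0) (.leaf 0x0)) (.node 1 (.leaf 0x0) (.leaf 0x0))) (.node 2 (.node 1 (.leaf 0x0) (.leaf 0x0)) (.node 1 (.leaf 0x0) (.leaf 0x0)))) (.node 4 (.node 2 (.node 1 (.leaf 0x0) (.leaf 0x0)) (.node 1 (.leaf 0x0) (.leaf 0x0))) (.node 2 (.node 1 (.leaf 0x0) (.leaf 0x0)) (.node 1 (.leaf 0x0) (.leaf 0x0))))) (.node 8 (.node 4 (.node 2 (.node 1 (.leaf 0x0) (.leaf 0x0)) (.node 1 (.leaf 0x0) (.leaf 0x0))) (.node 2 (.node 1 (.leaf 0x0) (.leaf 0x0)) (.node 1 (.leaf 0x0) (.leaf 0x0)))) (.node 4 (.node 2 (.node 1 (.leaf 0x0) (.leaf 0x0)) (.node 1 (.leaf 0x0) (.leaf 0x0))) (.node 2 (.node 1 (.leaf 0x0) (.leaf 0x0)) (.node 1 (.leaf 0x0) (.leaf 0x0)))))) (.node 16 (.node 8 (.node 4 (.node 2 (.node 1 (.leaf 0x0) (.leaf 0x0)) (.node 1 (.leaf 0x0) (.leaf 0x0))) (.node 2 (.node 1 (.leaf 0x0) (.leaf 0x0)) (.node 1 (.leaf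 0x0) (.leaf 0x0)))) (.node 4 (.node 2 (.node 1 (.leaf 0x0) (.leaf 0x0)) (.node 1 (.leaf 0x0) (.leaf 0x0))) (.node 2 (.node 1 (.leaf 0x0) (.leaf 0x0)) (.node 1 (.leaf 0x0) (.leaf 0x0))))) (.node 8 (.node 4 (.node 2 (.node 1 (.leaf 0x0) (.leaf 0x0)) (.node 1 (.leaf 0x0) (.leaf 0x0))) (.node 2 (.node 1 (.leaf 0x0) (.leaf 0x0)) (.node 1 (.leaf 0x0) (.leaf 0x0)))) (.node 4 (.node 2 (.node 1 (.leaf 0x0) (.leaf 0x0)) (.node 1 (.leaf 0x0) (.leaf 0x0))) (.node 2 (.node 1 (.leaf 0x0) (.leaf 0x0)) (.node 1 (.leaf 0x0) (.leaf 0x0))))))) (.node 32 (.node 16 (.node 8 (.node 4 (.node 2 (.node 1 (.leaf 0x0) (.leaf 0x0)) (.node 1 (.leaf 0x0) (.leaf 0x0))) (.node 2 (.node 1 (.leaf 0x0) (.leaf 0x0)) (.node 1 (.leaf 0x0) (.leaf 0x0)))) (.node 4 (.node 2 (.node 1 (.leaf 0x0) (.leaf 0x0)) (.node 1 (.leaf 0x0) (.leaf 0x0))) (.node 2 (.node 1 (.leaf 0x0) (.leaf 0x0)) (.node 1 (.leaf 0x0)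 (.leaf 0x0))))) (.node 8 (.node 4 (.node 2 (.node 1 (.leaf 0x0) (.leaf 0x0)) (.node 1 (.leaf 0x0) (.leaf 0x0))) (.node 2 (.node 1 (.leaf 0x0) (.leaf 0x0)) (.node 1 (.leaf 0x0) (.leaf 0x0)))) (.node 4 (.node 2 (.node 1 (.leaf 0x0) (.leaf 0x0)) (.node 1 (.leaf 0x0) (.leaf 0x0))) (.node 2 (.node 1 (.leaf 0x0) (.leaf 0x0)) (.node 1 (.leaf 0x0) (.leaf 0x0)))))) (.node 16 (.node 8 (.node 4 (.node 2 (.node 1 (.leaf 0x0) (.leaf 0x0)) (.node 1 (.leaf 0x0) (.leaf 0x0))) (.node 2 (.node 1 (.leaf 0x0) (.leaf 0x0)) (.node 1 (.leaf 0x0) (.leaf 0x0)))) (.node 4 (.node 2 (.node 1 (.leaf 0x0) (.leaf 0x0)) (.node 1 (.leaf 0x0) (.leaf 0x0))) (.node 2 (.node 1 (.leaf 0x0) (.leaf 0x0)) (.node 1 (.leaf 0x0) (.leaf 0x0))))) (.node 8 (.node 4 (.node 2 (.node 1 (.leaf 0x0) (.leaf 0x0)) (.node 1 (.leaf 0x0) (.leaf 0x0))) (.node 2 (.node 1 (.leaf 0x0) (.leaf 0x0)) (.node 1 (.leaf 0x0) (.leaf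 0x0)))) (.node 4 (.node 2 (.node 1 (.leaf 0x0) (.leaf 0x0)) (.node 1 (.leaf 0x0) (.leaf 0x0))) (.node 2 (.node 1 (.leaf 0x0) (.leaf 0x0)) (.node 1 (.leaf 0x0) (.leaf 0x0)))))))

def chainPos3_10 : Tree :=
  .node 64 (.node 32 (.node 16 (.node 8 (.node 4 (.node 2 (.node 1 (.leaf 0x0) (.leaf 0x0)) (.node 1 (.leaf 0x0) (.leaf 0x0))) (.node 2 (.node 1 (.leaf 0x0) (.leaf 0x0)) (.node 1 (.leaf 0x0) (.leaf 0x0)))) (.node 4 (.node 2 (.node 1 (.leaf 0x0) (.leaf 0x0)) (.node 1 (.leaf 0x0) (.leaf 0x0))) (.node 2 (.node 1 (.leaf 0x0) (.leaf 0x0)) (.node 1 (.leaf 0x0) (.leaf 0x0))))) (.node 8 (.node 4 (.node 2 (.node 1 (.leaf 0x0) (.leaf 0x0)) (.node 1 (.leaf 0x0) (.leaf 0x0))) (.node 2 (.node 1 (.leaf 0x0) (.leaf 0x0)) (.node 1 (.leaf 0x0) (.leaf 0x0)))) (.node 4 (.node 2 (.node 1 (.leaf 0x0) (.leaf 0x0)) (.node 1 (.leaf 0x0) (.leaf 0x0))) (.node 2 (.node 1 (.leaf 0x0) (.leaf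 0x0)) (.node 1 (.leaf 0x0) (.leaf 0x0)))))) (.node 16 (.node 8 (.node 4 (.node 2 (.node 1 (.leaf 0x0) (.leaf 0x0)) (.node 1 (.leaf 0x0) (.leaf 0x0))) (.node 2 (.node 1 (.leaf 0x0) (.leaf 0x0)) (.node 1 (.leaf 0x0) (.leaf 0x0)))) (.node 4 (.node 2 (.node 1 (.leaf 0x0) (.leaf 0x0)) (.node 1 (.leaf 0x0) (.leaf 0x0))) (.node 2 (.node 1 (.leaf 0x0) (.leaf 0x0)) (.node 1 (.leaf 0x0) (.leaf 0x0))))) (.node 8 (.node 4 (.node 2 (.node 1 (.leaf 0x0) (.leaf 0x0)) (.node 1 (.leaf 0x0) (.leaf 0x0))) (.node 2 (.node 1 (.leaf 0x0) (.leaf 0x0)) (.node 1 (.leaf 0x0) (.leaf 0x0)))) (.node 4 (.node 2 (.node 1 (.leaf 0x0) (.leaf 0x0)) (.node 1 (.leaf 0x0) (.leaf 0x0))) (.node 2 (.node 1 (.leaf 0x0) (.leaf 0x0)) (.node 1 (.leaf 0x0) (.leaf 0x0))))))) (.node 32 (.node 16 (.node 8 (.node 4 (.node 2 (.node 1 (.leaf 0x0) (.leaf 0x0)) (.node 1 (.leaf 0x0) (.leaf 0x0))) (.node 2 (.node 1 (.leaf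 0x0) (.leaf 0x0)) (.node 1 (.leaf 0x0) (.leaf 0x0)))) (.node 4 (.node 2 (.node 1 (.leaf 0x0) (.leaf 0x0)) (.node 1 (.leaf 0x0) (.leaf 0x0))) (.node 2 (.node 1 (.leaf 0x0) (.leaf 0x0)) (.node 1 (.leaf 0x0) (.leaf 0x0))))) (.node 8 (.node 4 (.node 2 (.node 1 (.leaf 0x0) (.leaf 0x0)) (.node 1 (.leaf 0x0) (.leaf 0x0))) (.node 2 (.node 1 (.leaf 0x0) (.leaf 0x0)) (.node 1 (.leaf 0x0) (.leaf 0x0)))) (.node 4 (.node 2 (.node 1 (.leaf 0x0) (.leaf 0x0)) (.node 1 (.leaf 0x0) (.leaf 0x0))) (.node 2 (.node 1 (.leaf 0x0) (.leaf 0x0)) (.node 1 (.leaf 0x0) (.leaf 0x0)))))) (.node 16 (.node 8 (.node 4 (.node 2 (.node 1 (.leaf 0x0) (.leaf 0x0)) (.node 1 (.leaf 0x0) (.leaf 0x0))) (.node 2 (.node 1 (.leaf 0x0) (.leaf 0x0)) (.node 1 (.leaf 0x0) (.leaf 0x0)))) (.node 4 (.node 2 (.node 1 (.leaf 0x0) (.leaf 0x0)) (.node 1 (.leaf 0x0) (.leaf 0x0))) (.node 2 (.node 1 (.leaf 0x0) (.leaf 0x0))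 (.node 1 (.leaf 0x0) (.leaf 0x0))))) (.node 8 (.node 4 (.node 2 (.node 1 (.leaf 0x0) (.leaf 0x0)) (.node 1 (.leaf 0x0) (.leaf 0x0))) (.node 2 (.node 1 (.leaf 0x0) (.leaf 0x0)) (.node 1 (.leaf 0x0) (.leaf 0x0)))) (.node 4 (.node 2 (.node 1 (.leaf 0x0) (.leaf 0x0)) (.node 1 (.leaf 0x0) (.leaf 0x0))) (.node 2 (.node 1 (.leaf 0x0) (.leaf 0x0)) (.node 1 (.leaf 0x0) (.leaf 0x0)))))))

def chainPos3_11 : Tree :=
  .node 64 (.node 32 (.node 16 (.node 8 (.node 4 (.node 2 (.node 1 (.leaf 0x0) (.leaf 0x0)) (.node 1 (.leaf 0x0) (.leaf 0x0))) (.node 2 (.node 1 (.leaf 0x0) (.leaf 0x0)) (.node 1 (.leaf 0x0) (.leaf 0x0)))) (.node 4 (.node 2 (.node 1 (.leaf 0x0) (.leaf 0x0)) (.node 1 (.leaf 0x0) (.leaf 0x0))) (.node 2 (.node 1 (.leaf 0x0) (.leaf 0x0)) (.node 1 (.leaf 0x0) (.leaf 0x0))))) (.node 8 (.node 4 (.node 2 (.node 1 (.leaf 0x0) (.leaf 0x0)) (.node 1 (.leaf 0x0) (.leaf 0x0)))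 (.node 2 (.node 1 (.leaf 0x0) (.leaf 0x0)) (.node 1 (.leaf 0x0) (.leaf 0x0)))) (.node 4 (.node 2 (.node 1 (.leaf 0x0) (.leaf 0x0)) (.node 1 (.leaf 0x0) (.leaf 0x0))) (.node 2 (.node 1 (.leaf 0x0) (.leaf 0x0)) (.node 1 (.leaf 0x0) (.leaf 0x0)))))) (.node 16 (.node 8 (.node 4 (.node 2 (.node 1 (.leaf 0x0) (.leaf 0x0)) (.node 1 (.leaf 0x0) (.leaf 0x0))) (.node 2 (.node 1 (.leaf 0x0) (.leaf 0x0)) (.node 1 (.leaf 0x0) (.leaf 0x0)))) (.node 4 (.node 2 (.node 1 (.leaf 0x0) (.leaf 0x0)) (.node 1 (.leaf 0x0) (.leaf 0x0))) (.node 2 (.node 1 (.leaf 0x0) (.leaf 0x0)) (.node 1 (.leaf 0x0) (.leaf 0x0))))) (.node 8 (.node 4 (.node 2 (.node 1 (.leaf 0x0) (.leaf 0x0)) (.node 1 (.leaf 0x0) (.leaf 0x0))) (.node 2 (.node 1 (.leaf 0x0) (.leaf 0x0)) (.node 1 (.leaf 0x0) (.leaf 0x0)))) (.node 4 (.node 2 (.node 1 (.leaf 0x0) (.leaf 0x0)) (.node 1 (.leaf 0x0) (.leaf 0x0))) (.node 2 (.node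 1 (.leaf 0x0) (.leaf 0x0)) (.node 1 (.leaf 0x0) (.leaf 0x0))))))) (.node 32 (.node 16 (.node 8 (.node 4 (.node 2 (.node 1 (.leaf 0x0) (.leaf 0x0)) (.node 1 (.leaf 0x0) (.leaf 0x0))) (.node 2 (.node 1 (.leaf 0x0) (.leaf 0x0)) (.node 1 (.leaf 0x0) (.leaf 0x0)))) (.node 4 (.node 2 (.node 1 (.leaf 0x0) (.leaf 0x0)) (.node 1 (.leaf 0x0) (.leaf 0x0))) (.node 2 (.node 1 (.leaf 0x0) (.leaf 0x0)) (.node 1 (.leaf 0x0) (.leaf 0x0))))) (.node 8 (.node 4 (.node 2 (.node 1 (.leaf 0x0) (.leaf 0x0)) (.node 1 (.leaf 0x0) (.leaf 0x0))) (.node 2 (.node 1 (.leaf 0x0) (.leaf 0x0)) (.node 1 (.leaf 0x0) (.leaf 0x0)))) (.node 4 (.node 2 (.node 1 (.leaf 0x0) (.leaf 0x0)) (.node 1 (.leaf 0x0) (.leaf 0x0))) (.node 2 (.node 1 (.leaf 0x0) (.leaf 0x0)) (.node 1 (.leaf 0x0) (.leaf 0x0)))))) (.node 16 (.node 8 (.node 4 (.node 2 (.node 1 (.leaf 0x0) (.leaf 0x0)) (.node 1 (.leaf 0x0) (.leaf 0x0)))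 (.node 2 (.node 1 (.leaf 0x0) (.leaf 0x0)) (.node 1 (.leaf 0x0) (.leaf 0x0)))) (.node 4 (.node 2 (.node 1 (.leaf 0x0) (.leaf 0x0)) (.node 1 (.leaf 0x0) (.leaf 0x0))) (.node 2 (.node 1 (.leaf 0x0) (.leaf 0x0)) (.node 1 (.leaf 0x0) (.leaf 0x0))))) (.node 8 (.node 4 (.node 2 (.node 1 (.leaf 0x0) (.leaf 0x0)) (.node 1 (.leaf 0x0) (.leaf 0x0))) (.node 2 (.node 1 (.leaf 0x0) (.leaf 0x0)) (.node 1 (.leaf 0x0) (.leaf 0x0)))) (.node 4 (.node 2 (.node 1 (.leaf 0x0) (.leaf 0x0)) (.node 1 (.leaf 0x0) (.leaf 0x0))) (.node 2 (.node 1 (.leaf 0x0) (.leaf 0x0)) (.node 1 (.leaf 0x0) (.leaf 0x0)))))))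

def chainPos3_12 : Tree :=
  .node 64 (.node 32 (.node 16 (.node 8 (.node 4 (.node 2 (.node 1 (.leaf 0x0) (.leaf 0x0)) (.node 1 (.leaf 0x0) (.leaf 0x0))) (.node 2 (.node 1 (.leaf 0x0) (.leaf 0x0)) (.node 1 (.leaf 0x0) (.leaf 0x0)))) (.node 4 (.node 2 (.node 1 (.leaf 0x0) (.leaf 0x0)) (.node 1 (.leaf 0x0) (.leaf 0x0))) (.node 2 (.node 1 (.leaf 0x0) (.leaf 0x0)) (.node 1 (.leaf 0x0) (.leaf 0x0))))) (.node 8 (.node 4 (.node 2 (.node 1 (.leaf 0x0) (.leaf 0x0)) (.node 1 (.leaf 0x0) (.leaf 0x0))) (.node 2 (.node 1 (.leaf 0x0) (.leaf 0x0)) (.node 1 (.leaf 0x0) (.leaf 0x0)))) (.node 4 (.node 2 (.node 1 (.leaf 0x0) (.leaf 0x0)) (.node 1 (.leaf 0x0) (.leaf 0x0))) (.node 2 (.node 1 (.leaf 0x0) (.leaf 0x0)) (.node 1 (.leaf 0x0) (.leaf 0x0)))))) (.node 16 (.node 8 (.node 4 (.node 2 (.node 1 (.leaf 0x0) (.leaf 0x0)) (.node 1 (.leaf 0x0) (.leaf 0x0))) (.node 2 (.node 1 (.leaf 0x0)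 (.leaf 0x0)) (.node 1 (.leaf 0x0) (.leaf 0x0)))) (.node 4 (.node 2 (.node 1 (.leaf 0x0) (.leaf 0x0)) (.node 1 (.leaf 0x0) (.leaf 0x0))) (.node 2 (.node 1 (.leaf 0x0) (.leaf 0x0)) (.node 1 (.leaf 0x0) (.leaf 0x0))))) (.node 8 (.node 4 (.node 2 (.node 1 (.leaf 0x0) (.leaf 0x0)) (.node 1 (.leaf 0x0) (.leaf 0x0))) (.node 2 (.node 1 (.leaf 0x0) (.leaf 0x0)) (.node 1 (.leaf 0x0) (.leaf 0x0)))) (.node 4 (.node 2 (.node 1 (.leaf 0x0) (.leaf 0x0)) (.node 1 (.leaf 0x0) (.leaf 0x0))) (.node 2 (.node 1 (.leaf 0x0) (.leaf 0x0)) (.node 1 (.leaf 0x0) (.leaf 0x0))))))) (.node 32 (.node 16 (.node 8 (.node 4 (.node 2 (.node 1 (.leaf 0x0) (.leaf 0x0)) (.node 1 (.leaf 0x0) (.leaf 0x0))) (.node 2 (.node 1 (.leaf 0x0) (.leaf 0x0)) (.node 1 (.leaf 0x0) (.leaf 0x0)))) (.node 4 (.node 2 (.node 1 (.leaf 0x0) (.leaf 0x0)) (.node 1 (.leaf 0x0) (.leaf 0x0))) (.node 2 (.node 1 (.leaf 0x0) (.leaf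 0x0)) (.node 1 (.leaf 0x0) (.leaf 0x0))))) (.node 8 (.node 4 (.node 2 (.node 1 (.leaf 0x0) (.leaf 0x0)) (.node 1 (.leaf 0x0) (.leaf 0x0))) (.node 2 (.node 1 (.leaf 0x0) (.leaf 0x0)) (.node 1 (.leaf 0x0) (.leaf 0x0)))) (.node 4 (.node 2 (.node 1 (.leaf 0x0) (.leaf 0x0)) (.node 1 (.leaf 0x0) (.leaf 0x0))) (.node 2 (.node 1 (.leaf 0x0) (.leaf 0x0)) (.node 1 (.leaf 0x0) (.leaf 0x0)))))) (.node 16 (.node 8 (.node 4 (.node 2 (.node 1 (.leaf 0x0) (.leaf 0x0)) (.node 1 (.leaf 0x0) (.leaf 0x0))) (.node 2 (.node 1 (.leaf 0x0) (.leaf 0x0)) (.node 1 (.leaf 0x0) (.leaf 0x0)))) (.node 4 (.node 2 (.node 1 (.leaf 0x0) (.leaf 0x0)) (.node 1 (.leaf 0x0) (.leaf 0x0))) (.node 2 (.node 1 (.leaf 0x0) (.leaf 0x0)) (.node 1 (.leaf 0x0) (.leaf 0x0))))) (.node 8 (.node 4 (.node 2 (.node 1 (.leaf 0x0) (.leaf 0x0)) (.node 1 (.leaf 0x0) (.leaf 0x0))) (.node 2 (.node 1 (.leaf 0x0) (.leaf 0x0))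 (.node 1 (.leaf 0x0) (.leaf 0x0)))) (.node 4 (.node 2 (.node 1 (.leaf 0x0) (.leaf 0x0)) (.node 1 (.leaf 0x0) (.leaf 0x0))) (.node 2 (.node 1 (.leaf 0x0) (.leaf 0x0)) (.node 1 (.leaf 0x0) (.leaf 0x0)))))))

def chainPos3_13 : Tree :=
  .node 59 (.node 29 (.node 14 (.node 7 (.node 3 (.node 1 (.leaf 0x0) (.node 1 (.leaf 0x0) (.leaf 0x0))) (.node 2 (.node 1 (.leaf 0x0) (.leaf 0x0)) (.node 1 (.leaf 0x0) (.leaf 0x0)))) (.node 3 (.node 1 (.leaf 0x0) (.node 1 (.leaf 0x0) (.leaf 0x0))) (.node 2 (.node 1 (.leaf 0x0) (.leaf 0x0)) (.node 1 (.leaf 0x0) (.leaf 0x0))))) (.node 7 (.node 3 (.node 1 (.leaf 0x0) (.node 1 (.leaf 0x0) (.leaf 0x0))) (.node 2 (.node 1 (.leaf 0x0) (.leaf 0x0)) (.node 1 (.leaf 0x0) (.leaf 0x0)))) (.node 4 (.node 2 (.node 1 (.leaf 0x0) (.leaf 0x0)) (.node 1 (.leaf 0x0) (.leaf 0x0))) (.node 2 (.node 1 (.leaf 0x0) (.leaf 0x0)) (.node 1 (.leaf 0x0) (.leaf 0x0))))))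 (.node 15 (.node 7 (.node 3 (.node 1 (.leaf 0x0) (.node 1 (.leaf 0x0) (.leaf 0x0))) (.node 2 (.node 1 (.leaf 0x0) (.leaf 0x0)) (.node 1 (.leaf 0x0) (.leaf 0x0)))) (.node 4 (.node 2 (.node 1 (.leaf 0x0) (.leaf 0x0)) (.node 1 (.leaf 0x0) (.leaf 0x0))) (.node 2 (.node 1 (.leaf 0x0) (.leaf 0x0)) (.node 1 (.leaf 0x0) (.leaf 0x0))))) (.node 7 (.node 3 (.node 1 (.leaf 0x0) (.node 1 (.leaf 0x0) (.leaf 0x0))) (.node 2 (.node 1 (.leaf 0x0) (.leaf 0x0)) (.node 1 (.leaf 0x0) (.leaf 0x0)))) (.node 4 (.node 2 (.node 1 (.leaf 0x0) (.leaf 0x0)) (.node 1 (.leaf 0x0) (.leaf 0x0))) (.node 2 (.node 1 (.leaf 0x0) (.leaf 0x0)) (.node 1 (.leaf 0x0) (.leaf 0x0))))))) (.node 29 (.node 14 (.node 7 (.node 3 (.node 1 (.leaf 0x0) (.node 1 (.leaf 0x0) (.leaf 0x0))) (.node 2 (.node 1 (.leaf 0x0) (.leaf 0x0)) (.node 1 (.leaf 0x0) (.leaf 0x0)))) (.node 3 (.node 1 (.leaf 0x0) (.node 1 (.leaf 0x0)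 (.leaf 0x0))) (.node 2 (.node 1 (.leaf 0x0) (.leaf 0x0)) (.node 1 (.leaf 0x0) (.leaf 0x0))))) (.node 7 (.node 3 (.node 1 (.leaf 0x0) (.node 1 (.leaf 0x0) (.leaf 0x0))) (.node 2 (.node 1 (.leaf 0x0) (.leaf 0x0)) (.node 1 (.leaf 0x0) (.leaf 0x0)))) (.node 4 (.node 2 (.node 1 (.leaf 0x0) (.leaf 0x0)) (.node 1 (.leaf 0x0) (.leaf 0x0))) (.node 2 (.node 1 (.leaf 0x0) (.leaf 0x0)) (.node 1 (.leaf 0x0) (.leaf 0x0)))))) (.node 15 (.node 7 (.node 3 (.node 1 (.leaf 0x0) (.node 1 (.leaf 0x0) (.leaf 0x0))) (.node 2 (.node 1 (.leaf 0x0) (.leaf 0x0)) (.node 1 (.leaf 0x0) (.leaf 0x0)))) (.node 4 (.node 2 (.node 1 (.leaf 0x0) (.leaf 0x0)) (.node 1 (.leaf 0x0) (.leaf 0x0))) (.node 2 (.node 1 (.leaf 0x0) (.leaf 0x0)) (.node 1 (.leaf 0x0) (.leaf 0x0))))) (.node 7 (.node 3 (.node 1 (.leaf 0x0) (.node 1 (.leaf 0x0) (.leaf 0x0))) (.node 2 (.node 1 (.leaf 0x0) (.leaf 0x0)) (.node 1 (.leaf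 0x0) (.leaf 0x0)))) (.node 4 (.node 2 (.node 1 (.leaf 0x0) (.leaf 0x0)) (.node 1 (.leaf 0x0) (.leaf 0x0))) (.node 2 (.node 1 (.leaf 0x0) (.leaf 0x0)) (.node 1 (.leaf 0x0) (.leaf 0x0)))))))

def chainPos3 : Tree :=
  .node 896 (.node 384 (.node 128 (chainPos3_0) (.node 128 (chainPos3_1) (chainPos3_2))) (.node 256 (.node 128 (chainPos3_3) (chainPos3_4)) (.node 128 (chainPos3_5) (chainPos3_6)))) (.node 384 (.node 128 (chainPos3_7) (.node 128 (chainPos3_8) (chainPos3_9))) (.node 256 (.node 128 (chainPos3_10) (chainPos3_11)) (.node 128 (chainPos3_12) (chainPos3_13))))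

def chain4_0 : List (List ℕ) :=
  [[], [0x4], [0x54], [0x273431276721254, 0x67234362134231], [0x273431276721254, 0x467234362134231]]

def chain4 : List (List ℕ) := unchunk (chain4_0)

def chain5_0 : List (List ℕ) :=
  [[], [0x5], [0x127343127672125, 0x546723436213423], [0x127343127672125, 0x46723436213423]]

def chain5 : List (List ℕ) := unchunk (chain5_0)

def chain6_0 : List (List ℕ) :=
  [[], [0x312734312767212, 0x124672343621342, 0x423127343127672, 0x46723436213], [0x312734312767212, 0x4672343621342]]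

def chain6 : List (List ℕ) := unchunk (chain6_0)

def chain : List (ℕ × List (List ℕ)) := [(0, chain0), (1, chain1), (2, chain2), (3, chain3), (4, chain4), (8, chain5), (14, chain6)]

def chainPos : ℕ → Tree
  | 0 => chainPos0
  | 1 => chainPos1
  | 2 => chainPos2
  | _ => chainPos3

def chainF0_0 : List (List ℕ) :=
  [[0x7231264321], [0x231264321], [0x31264321], [0x3264321], [0x1264321], [0x34326121], [0x32642321], [0x264321], [0x126321], [0x4326121], [0x2642321], [0x64321], [0x26321], [0x262121], [0x1265321], [0x326121], [0x72643121], [0x642321], [0x262321], [0x643121], [0x6321], [0x4321], [0x764321], [0x326321], [0x265321], [0x62121], [0x2652121], [0x26121], [0x3265121], [0x3263121], [0x2643121], [0x62321], [0x42321], [0x26127], [0x2652321], [0x63121], [0x43121], [0x621], [0x65321], [0x321], [0x76321], [0x343121], [0x32621], [0x3265321], [0x27621], [0x652121],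 [0x2121], [0x762121], [0x26452121], [0x265121], [0x6121], [0x32653121], [0x263121], [0x6721], [0x652321], [0x2321], [0x6127], [0x261275], [0x653121], [0x3121], [0x2621], [0x627], [0x6521], [0x21], [0x7621], [0x5321], [0x765321], [0x73121], [0x2343121], [0x63423], [0x326521], [0x3261], [0x732621], [0x43265321], [0x276521], [0x12121], [0x672121], [0x6452121], [0x52121], [0x7652121], [0x121], [0x72121], [0x712121], [0x326452121], [0x2645121], [0x65121], [0x2653121], [0x6272], [0x67521], [0x721], [0x52321], [0x61275], [0x127], [0x2612745], [0x53121], [0x6423], [0x6232], [0x26521], [0x261], [0x72621], [0x6327], [0x6275], [0x27], [0x64521], [0x521], [0x76521], [0x1], [0x7121], [0x753121], [0x273121], [0x653423], [0x3423], [0x26723], [0x4326521], [0x32651], [0x7326521], [0x73261], [0x73423], [0x343265321], [0x2764521], [0x512121], [0x6752121], [0x1212], [0x63452121], [0x452121],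 [0x76452121], [0x5121], [0x752121], [0x7512121], [0x67212], [0x2712121], [0x3263452121], [0x32645121], [0x645121], [0x62752], [0x272], [0x674521], [0x7521], [0x31], [0x612745], [0x1275], [0x327], [0x32612745], [0x623], [0x65423], [0x423], [0x67261], [0x65232], [0x232], [0x6723]]

def chainF0_1 : List (List ℕ) :=
  [[0x264521], [0x2651], [0x726521], [0x61], [0x7261], [0x7423], [0x63275], [0x62745], [0x275], [0x7], [0x634521], [0x4521], [0x764521], [0x51], [0x75121], [], [0x4], [0x1264], [0x2753121], [0x231264], [0x6453423], [0x53423], [0x267523], [0x326], [0x34326521], [0x432651], [0x74326521], [0x732651], [0x753423], [0x7126], [0x273423], [0x2343265321], [0x32764521], [0x4512121], [0x67452121], [0x51212], [0x212], [0x31212], [0x71212], [0x263452121], [0x643452121], [0x3452121], [0x763452121], [0x45121], [0x7452121], [0x74512121], [0x675212], [0x27512121], [0x7264],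 [0x673212], [0x7212], [0x1273212], [0x271212], [0x2634234543], [0x2734234543], [0x73263452121], [0x326345121], [0x6345121], [0x627452], [0x2752], [0x72], [0x6734521], [0x74521], [0x531], [0x3], [0x42], [0x6312745], [0x12745], [0x3275], [0x126], [0x326312745], [0x6523], [0x23], [0x7623], [0x645423], [0x5423], [0x672651], [0x43], [0x267261], [0x645232], [0x5232], [0x67523], [0x32], [0x7232], [0x723], [0x3264521], [0x26451], [0x7264521], [0x651], [0x72651], [0x75423], [0x6], [0x762745], [0x632745], [0x2745], [0x75], [0x62], [0x2634521], [0x34521], [0x7634521], [0x451], [0x745121], [0x5], [0x54], [0x12654], [0x2], [0x64], [0x264], [0x31264], [0x2312654], [0x4231264], [0x63453423], [0x453423], [0x2674523], [0x3265], [0x262], [0x26], [0x7326], [0x234326521], [0x434326521], [0x3432651], [0x734326521], [0x7432651], [0x7453423], [0x71265], [0x2753423], [0x726], [0x7262], [0x273212],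 [0x27326], [0x12343265321], [0x62343265321], [0x72343265321], [0x327634521], [0x432764521], [0x34512121], [0x673452121], [0x451212], [0x5212], [0x531212], [0x751212], [0x12], [0x3212], [0x431212], [0x731212], [0x263423453], [0x2643452121], [0x2623452121], [0x7263452121], [0x6543452121]]

def chainF0_2 : List (List ℕ) :=
  [[0x43452121], [0x7643452121], [0x23452121], [0x73452121], [0x2763452121], [0x734512121], [0x345121], [0x6745212], [0x274512121], [0x72654], [0x6753212], [0x75212], [0x12753212], [0x2751212], [0x73264], [0x6743212], [0x73212], [0x12743212], [0x3271212], [0x634234543], [0x3263423451], [0x62732643451], [0x734234543], [0x2732643451], [0x32734512121], [0x3126345121], [0x26345121], [0x7326345121], [0x6327452], [0x27452], [0x752], [0x26734521], [0x734521], [0x4531], [0x53], [0x542], [0x26312745], [0x64312745], [0x312745], [0x43275], [0x1265], [0x3126312745],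 [0x7434234543], [0x7326312745], [0x64523], [0x523], [0x76523], [0x27623], [0x6345423], [0x45423], [0x6726451], [0x543], [0x2672651], [0x6345232], [0x45232], [0x674523], [0x532], [0x75232], [0x7523], [0x32634521], [0x43264521], [0x326451], [0x73264521], [0x6451], [0x726451], [0x745423], [0x65], [0x7632745], [0x6723453], [0x6432745], [0x32745], [0x745], [0x652], [0x12634521], [0x7234543], [0x72634521], [0x234521], [0x27634521], [0x7345121], [0x45], [0x3451], [0x454], [0x126454], [0x52], [0x654], [0x2654], [0x312654], [0x3264], [0x431264], [0x263453423], [0x343264521], [0x3453423], [0x32674523], [0x43265], [0x2652], [0x265], [0x73265], [0x1234326521], [0x4234326521], [0x6234326521], [0x7234326521], [0x64345423], [0x5434326521], [0x43432651], [0x7434326521], [0x23432651], [0x73432651], [0x2734326521], [0x73453423], [0x712645], [0x27453423], [0x7265], [0x72652], [0x2753212],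 [0x273265], [0x2743212], [0x273264], [0x6434234543], [0x32653423451], [0x32743264521], [0x27326543451], [0x3273453423], [0x3127634521], [0x4327634521], [0x6327634521], [0x3272634521], [0x5432764521], [0x434512121], [0x6743452121], [0x234512121], [0x2673452121], [0x45212], [0x3451212], [0x7451212], [0x512], [0x53212], [0x7531212], [0x43212], [0x7431212], [0x2731212], [0x63423453], [0x2643423453], [0x263423451], [0x7263423453], [0x32643452121], [0x26543452121], [0x26423452121], [0x72643452121], [0x623452121], [0x2734234532]]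

def chainF0_3 : List (List ℕ) :=
  [[0x27263452121], [0x2734512121], [0x543452121], [0x76543452121], [0x423452121], [0x743452121], [0x27643452121], [0x7434512121], [0x123452121], [0x2345121], [0x723452121], [0x273452121], [0x726454], [0x67345212], [0x745212], [0x3274512121], [0x27451212], [0x732654], [0x753212], [0x32751212], [0x743264], [0x743212], [0x312743212], [0x43271212], [0x32731212], [0x64234543], [0x34234543], [0x326423451], [0x723126345121], [0x7341234543], [0x74234543], [0x732643451], [0x23126345121], [0x126345121], [0x726345121], [0x341234543], [0x26327452], [0x64327452], [0x327452], [0x7452], [0x126734521], [0x262734521], [0x726734521], [0x2734521], [0x453], [0x34531], [0x4542], [0x126312745], [0x675423453], [0x754234543], [0x726312745], [0x76432745], [0x4312745], [0x2312745], [0x343275], [0x12645], [0x23126312745], [0x3421234542], [0x434234543], [0x3212723452],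 [0x634523], [0x4523], [0x764523], [0x276523], [0x26345423], [0x345423], [0x67326451], [0x4543], [0x26726451], [0x26345232], [0x64345232], [0x345232], [0x6734523], [0x4532], [0x745232], [0x74523], [0x312634521], [0x432634521], [0x72345423], [0x732634521], [0x543264521], [0x4326451], [0x743264521], [0x3263451], [0x7326451], [0x273264521], [0x7345423], [0x645], [0x63451], [0x27632745], [0x7623453], [0x67423453], [0x723453], [0x6123453], [0x432745], [0x327345], [0x7345], [0x6452], [0x212634521], [0x71234543], [0x6234543], [0x6234521], [0x234543], [0x272634521], [0x1234543], [0x1234521], [0x23451], [0x7234521], [0x127634521], [0x627634521], [0x27345121], [0x452], [0x345], [0x43451], [0x3454], [0x6454], [0x26454], [0x3126454], [0x32654], [0x43264], [0x1263453423], [0x2343264521], [0x2623453423], [0x326123453], [0x5343264521], [0x34326451], [0x432674523], [0x23453423], [0x326734523],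 [0x26452], [0x343265], [0x672645], [0x2645], [0x653423453], [0x2732634521], [0x2653423451], [0x2743264521], [0x34234326521], [0x1261234523], [0x76273264521], [0x1273264521], [0x623432651], [0x1273453423], [0x27234326521], [0x273453423], [0x264345423], [0x654345423], [0x4345423], [0x674326451], [0x543432651]]

def chainF0_4 : List (List ℕ) :=
  [[0x75434326521], [0x423432651], [0x743432651], [0x27434326521], [0x734326451], [0x123432651], [0x723432651], [0x273432651], [0x72645], [0x7312645], [0x726452], [0x327453423], [0x2672645], [0x2732654], [0x32743212], [0x2743264], [0x654234543], [0x3265423451], [0x34326734523], [0x7326543451], [0x23127634521], [0x43127634521], [0x63127634521], [0x3264327452], [0x43272634521], [0x54327634521], [0x64327634521], [0x734123451], [0x26123452121], [0x72673452121], [0x3276234345], [0x5434512121], [0x67543452121], [0x4234512121], [0x26743452121],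 [0x673423451], [0x76423451], [0x63423451], [0x12673452121], [0x26273452121], [0x4512], [0x345212], [0x73451212], [0x27531212], [0x27431212], [0x634123453], [0x6423453], [0x643423453], [0x3423453], [0x632123452], [0x21265434523], [0x2641234523], [0x2643423451], [0x2675434523], [0x7543264521], [0x12126434523], [0x326423452121], [0x72627434523], [0x1267434523], [0x6423452121], [0x27434234532], [0x272643452121], [0x27434512121], [0x6123452121], [0x62345121], [0x34234512], [0x734234532], [0x5423452121], [0x7543452121], [0x276543452121], [0x75434512121], [0x343423451], [0x434123451], [0x7423452121], [0x2743452121], [0x73423453], [0x12345121], [0x273423451], [0x72345121], [0x2723452121], [0x234123451], [0x1273452121], [0x267345212], [0x6273452121], [0x7326454], [0x7345212], [0x327451212], [0x327531212], [0x2312743212], [0x343271212], [0x627431212], [0x4234543], [0x32643451],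 [0x3126423451], [0x26423451], [0x7326423451], [0x73212634523], [0x71212634523], [0x26732643451], [0x27341234543], [0x741234543], [0x7312643451], [0x72643451], [0x6732643451], [0x3212634523], [0x1212634523], [0x23212712345], [0x2126345121], [0x41234543], [0x2341234543], [0x264327452], [0x263273452], [0x4327452], [0x3273452], [0x73452], [0x276273452], [0x62734521], [0x276234531], [0x12734521], [0x234531], [0x27234521], [0x3453], [0x34345], [0x34542], [0x2126312745], [0x621234542], [0x421234542], [0x4312634521], [0x75423453], [0x654123453], [0x62312745], [0x54234543], [0x212723452], [0x126123453], [0x4343275], [0x54327345], [0x12312745], [0x72312745], [0x2343275], [0x312645], [0x32126345423], [0x12126345423], [0x212312643451], [0x3276423454], [0x326543451], [0x23212723452], [0x2634523], [0x6434523], [0x34523], [0x7634523]]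

def chainF0_5 : List (List ℕ) :=
  [[0x2764523], [0x126345423], [0x262345423], [0x2345423], [0x34543], [0x76234523], [0x264345232], [0x7234523], [0x61234523], [0x654345232], [0x4345232], [0x67434523], [0x2345232], [0x7345232], [0x26734523], [0x734523], [0x34532], [0x2312634521], [0x712345423], [0x62345423], [0x321234542], [0x32623451], [0x12345423], [0x54326451], [0x43263451], [0x74326451], [0x74345423], [0x31263451], [0x263451], [0x73263451], [0x27326451], [0x6273264521], [0x27345423], [0x6345], [0x643451], [0x264123453], [0x627632745], [0x26123453], [0x27623453], [0x62123452], [0x7123453], [0x623453], [0x673423453], [0x7423453], [0x64123453], [0x7263452], [0x23453], [0x123453], [0x4327345], [0x3127345], [0x27345], [0x3272345], [0x74345], [0x63452], [0x327623453], [0x127623453], [0x6212634521], [0x54123452], [0x61234521], [0x623451], [0x234512], [0x276234345], [0x21234543],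 [0x21234521], [0x123451], [0x6234512], [0x423451], [0x723451], [0x1234512], [0x6127634521], [0x627345121], [0x7627634521], [0x127345121], [0x43263454], [0x272345121], [0x3452], [0x2345], [0x4345], [0x43453], [0x543451], [0x43454], [0x23454], [0x63454], [0x326454], [0x21263453423], [0x72312634521], [0x12623453423], [0x3126123453], [0x2621234542], [0x3262123452], [0x231264345], [0x4326123453], [0x623453423], [0x26123432651], [0x3261234523], [0x3262123453], [0x534326451], [0x5432674523], [0x234326451], [0x4326734523], [0x123453423], [0x2343265], [0x653423451], [0x3126734523], [0x3262734523], [0x326452], [0x4343265], [0x6732645], [0x32645], [0x642345423], [0x65423453], [0x53423453], [0x261234523], [0x2673264345], [0x3264345423], [0x21264345423], [0x726273452121], [0x7262734523], [0x126734523], [0x7231263451], [0x21273264521], [0x2734326451], [0x6123432651], [0x534234512],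 [0x7431263451], [0x1264345423], [0x2654345423], [0x2642345423], [0x65434523], [0x54345423], [0x6754326451], [0x42345423], [0x342123453], [0x7543432651], [0x62126734523], [0x7534326451], [0x327423452], [0x127423452], [0x312743452], [0x2743432651], [0x753423453], [0x432743452], [0x2723432651], [0x3261234521], [0x1273432651], [0x27312645], [0x6273432651], [0x732645], [0x74312645], [0x7326452]]

def chainF0_6 : List (List ℕ) :=
  [[0x32672645], [0x32743264], [0x342123454], [0x265423451], [0x326732645], [0x632127326451], [0x27342123454], [0x7321262345], [0x726543451], [0x7342123454], [0x2634123453], [0x12654234523], [0x43264327452], [0x21264234523], [0x643127634521], [0x12764234523], [0x43276234345], [0x4326123452], [0x7434123451], [0x26343423451], [0x73423451], [0x74123451], [0x34123451], [0x32673264345], [0x76273452121], [0x4326212345], [0x31267434523], [0x6743423451],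 [0x4234123451], [0x643423451], [0x32675434523], [0x327434512121], [0x31212345], [0x67423451], [0x634123451], [0x7623451], [0x6423451], [0x3423451], [0x32734326451], [0x34512], [0x726423451], [0x654234523], [0x34123453], [0x423453], [0x6343423453], [0x641234523], [0x43423453], [0x2654345232], [0x32123452], [0x1265434523], [0x2126434523], [0x32643423451], [0x26543423451], [0x267434523], [0x675434523], [0x754345423], [0x42312712345], [0x54312712345], [0x432734326451], [0x65423452121], [0x2627434523], [0x21267434523], [0x12627434523], [0x6343423451], [0x6434123451], [0x434234512], [0x7434234532], [0x612345121], [0x4234512], [0x34234532], [0x763212345], [0x74234532], [0x73212345], [0x5343423451], [0x5434123451], [0x4327123452], [0x4327212345], [0x743423453], [0x43423451], [0x7343423451], [0x5432712345], [0x12743452121], [0x32743452121], [0x212345121], [0x64234512], [0x41234512],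 [0x3267264345], [0x212672345], [0x2634123451], [0x21273452121], [0x627432645], [0x327432645], [0x27326454], [0x271263451], [0x72623451], [0x62312743212], [0x434543], [0x312643451], [0x2643451], [0x23126423451], [0x126423451], [0x2623451], [0x273212634523], [0x7212634523], [0x32127345232], [0x12127345232], [0x63212634523], [0x32762343452], [0x2765423454], [0x3212712345], [0x62312643451], [0x721234531], [0x712643451], [0x7263451], [0x672643451], [0x212634523], [0x1276234523], [0x2312712345], [0x6726123452], [0x7126123452], [0x262123452], [0x71234531], [0x12341234543], [0x2127234521], [0x72341234543], [0x63273452], [0x43273452], [0x31273452], [0x273452], [0x32723452], [0x743452], [0x76273452], [0x612734521], [0x6234531], [0x762734521], [0x76234531], [0x212734521], [0x1234531], [0x127234521], [0x234345], [0x7234531], [0x627234521], [0x534345], [0x434542], [0x234542],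 [0x2127623453], [0x2641234542], [0x21234542], [0x41234542], [0x726543452]]

def chainF0_7 : List (List ℕ) :=
  [[0x5423453], [0x54123453], [0x212643452], [0x54234512], [0x5434543], [0x12723452], [0x2312643452], [0x42343275], [0x621263452], [0x432723452], [0x343273452], [0x212312745], [0x654234512], [0x72343275], [0x261234521], [0x12343275], [0x2312645], [0x62343275], [0x4312645], [0x2126345423], [0x632126345423], [0x72127326451], [0x12312643451], [0x32127326451], [0x276423454], [0x321262345], [0x26543451], [0x32126123452], [0x2312723452], [0x3267234345], [0x12634523], [0x26434523], [0x26234523], [0x434523], [0x76434523], [0x234523], [0x1262345423], [0x276234523], [0x764234523], [0x71234523], [0x6234523], [0x3264345232], [0x74234523], [0x62345232], [0x1234523], [0x54345232], [0x42345232], [0x74345232], [0x7434523], [0x12345232], [0x234532], [0x72345232], [0x27345232],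 [0x262734523], [0x2734523], [0x434532], [0x7231264345], [0x32123454], [0x312623451], [0x73264345], [0x63212345], [0x754326451], [0x431263451], [0x62123454], [0x743263451], [0x274326451], [0x274345423], [0x231263451], [0x1263451], [0x731263451], [0x273263451], [0x673263451], [0x127326451], [0x26345], [0x64345], [0x6543451], [0x2642123453], [0x262123453], [0x264123452], [0x2123452], [0x4123452], [0x7654234523], [0x72643452], [0x4123453], [0x71263452], [0x627345], [0x263452], [0x2123453], [0x43127345], [0x34327345], [0x43272345], [0x23127345], [0x127345], [0x2623452], [0x274345], [0x272345], [0x1263452], [0x754345], [0x643452], [0x3264123452], [0x1262123452], [0x1264123452], [0x654123452], [0x5423452], [0x7423452], [0x3423452], [0x6123451], [0x76234345], [0x7234345], [0x72343452], [0x1234345], [0x121234521], [0x321234521], [0x721234521], [0x2123451], [0x4123451], [0x7123451],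 [0x6234542], [0x5423451], [0x7423451], [0x723454], [0x6723451], [0x21234512], [0x762743452], [0x27623452], [0x274123451], [0x326272345], [0x643273452], [0x627123452], [0x72672345], [0x32672345], [0x3263454], [0x12672345], [0x23452], [0x43452], [0x12345], [0x42345], [0x62345], [0x72345], [0x54345], [0x543453], [0x543454], [0x423454], [0x343452], [0x123454], [0x623454], [0x263454], [0x12621234542], [0x2126234523], [0x1231264345]]

def chainF0_8 : List (List ℕ) :=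
  [[0x73262734523], [0x261234542], [0x326123452], [0x31264345], [0x32641234542], [0x43264345], [0x62343265], [0x534123451], [0x32621234523], [0x76273432651], [0x326212345], [0x32642345], [0x12642345], [0x673264345], [0x62127326451], [0x12127326451], [0x312123454], [0x12343265], [0x321274345], [0x42343265], [0x65423451], [0x53423451], [0x21274326451], [0x3263452], [0x4326452], [0x67432645], [0x26732645], [0x326345], [0x432645], [0x2621234523], [0x7212345232], [0x2126734523], [0x1262734523], [0x6327423452], [0x754234532], [0x265434523], [0x5434523], [0x765434523], [0x271234523], [0x42123453], [0x327123452], [0x327212345], [0x27423452], [0x32743452], [0x12743452], [0x327123454], [0x1231263451], [0x21273263451], [0x272123454], [0x12673263451], [0x12723432651], [0x272312645], [0x2321274345], [0x12743263451], [0x276212345], [0x3274312645], [0x274312645], [0x271234532],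 [0x2732645], [0x7432645], [0x74326452], [0x76234532], [0x2342123454], [0x42123454], [0x12123454], [0x2632127326451], [0x721262345], [0x742123454], [0x2654234523], [0x276434234523], [0x1264234523], [0x2764234523], [0x43126123452], [0x34326123452], [0x53432712345], [0x432612345], [0x74326123452], [0x743423451], [0x2721263451], [0x4234212345], [0x54234123451], [0x6543423451], [0x3267434523], [0x121274345232], [0x431212345], [0x3212345], [0x1212345], [0x731212345], [0x63274345], [0x64123451], [0x3274326451], [0x434512], [0x6434234523], [0x64234523], [0x54234523], [0x31265434523], [0x6341234523], [0x343423453], [0x32654345232], [0x41234523], [0x432123452], [0x126434523], [0x62126434523], [0x75434523], [0x4312712345], [0x21274345232], [0x26434123451], [0x43274326451], [0x65343423451], [0x65434123451], [0x5434234512], [0x627434523], [0x434234532], [0x7542345232], [0x73434234532],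 [0x275434523], [0x126543452], [0x4234532], [0x2763212345], [0x76212345], [0x7234532], [0x7212345], [0x741234523], [0x543423451], [0x4327543452], [0x121234523], [0x432712345], [0x32127434523], [0x12127434523], [0x2343423453], [0x212743452121], [0x4327432645], [0x321234512], [0x32643452], [0x64234542], [0x267264345], [0x273263454], [0x274326345], [0x2743263451], [0x762123454], [0x62732645], [0x27432645], [0x12732645], [0x71263451], [0x67263451], [0x2312643451], [0x12643451], [0x5234123454], [0x54123454], [0x12623451]]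

def chainF0_9 : List (List ℕ) :=
  [[0x6234532], [0x2127345232], [0x1212734523], [0x6212634523], [0x2762343452], [0x2321262345], [0x765423454], [0x273412345], [0x212712345], [0x1276423454], [0x54234542], [0x6721234531], [0x21234531], [0x627212345], [0x73126123452], [0x312712345], [0x726123452], [0x126123452], [0x26123452], [0x7234123454], [0x326723452], [0x2612123453], [0x263423452], [0x6273452], [0x763273452], [0x261234531], [0x61234345], [0x1273452], [0x312723452], [0x2743452], [0x2723452], [0x632723452], [0x7543452], [0x62723452], [0x76423452], [0x61234531], [0x6234345], [0x67234531], [0x65234345], [0x121234532], [0x72123453], [0x612123453], [0x2342345], [0x5234345], [0x7234542], [0x5434542], [0x4234542], [0x1234542], [0x7261234542], [0x641234542], [0x1261234542], [0x76423454], [0x21273452], [0x21263452], [0x26543452], [0x12643452], [0x5434512], [0x312643452],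 [0x326423452], [0x7261234531], [0x265423452], [0x321263452], [0x326543452], [0x654234542], [0x326723454], [0x72312645], [0x612743452], [0x12312645], [0x54326345], [0x62312645], [0x62126345423], [0x3127123454], [0x2127326451], [0x2127123454], [0x27623454], [0x21262345], [0x54234532], [0x2126123452], [0x7267234531], [0x267234345], [0x126234523], [0x326434523], [0x264234523], [0x4234523], [0x7326123452], [0x7634234523], [0x734234523], [0x642345232], [0x34212345], [0x21234523], [0x542345232], [0x754345232], [0x412345232], [0x342345232], [0x742345232], [0x274345232], [0x27434523], [0x212345232], [0x1234532], [0x62734523], [0x272345232], [0x12734523], [0x127345232], [0x5434532], [0x2123454], [0x731264345], [0x7264345], [0x3264345], [0x6212345], [0x2754326451], [0x6743263451], [0x1274326451], [0x72123454], [0x62743452], [0x21263451], [0x1273263451], [0x2673263451], [0x126345],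 [0x264345], [0x262345], [0x726345], [0x654345], [0x642123453], [0x62123453], [0x64123452], [0x123452], [0x423452], [0x34123452], [0x74123452], [0x76434234523], [0x2643452], [0x6127345], [0x6274345], [0x12123453], [0x32123453], [0x343127345], [0x26423452], [0x126272345], [0x2127345], [0x1274345], [0x1272345], [0x623452], [0x3274345], [0x2754345], [0x2742345], [0x6272345], [0x6543452], [0x7267423452], [0x3267423452], [0x65423452]]

def chainF0_10 : List (List ℕ) :=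
  [[0x67423452], [0x634123452], [0x543452], [0x723452], [0x63423452], [0x54123451], [0x67234345], [0x721263451], [0x74234542], [0x72342345], [0x7263454], [0x2343452], [0x26723451], [0x32123451], [0x612312645], [0x76234542], [0x72123451], [0x27123451], [0x61234542], [0x75423451], [0x7423454], [0x7123454], [0x6723454], [0x627423452], [0x7623452], [0x327623452], [0x26272345], [0x627543452], [0x1212345232], [0x27123452], [0x6234123452], [0x72612345], [0x31263454], [0x2672345], [0x73263454], [0x212345], [0x412345], [0x612345], [0x712345], [0x342345], [0x542345], [0x642345], [0x742345], [0x762345], [0x672345], [0x5423454], [0x5343452], [0x4123454], [0x3423454], [0x6423454], [0x6123454], [0x2623454], [0x7623454], [0x1263454], [0x3126123452], [0x32612345], [0x1264345], [0x3274123454], [0x34326345], [0x2721234532], [0x234212345], [0x26212345], [0x621234523], [0x2642345], [0x732642345],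 [0x1262345], [0x67264345], [0x743262345], [0x72127345], [0x21274345], [0x43262345], [0x43263452], [0x62754345], [0x712123454], [0x3126345], [0x4326345], [0x3262345], [0x7326345], [0x6271234523], [0x3265434523], [0x234123452], [0x327543452], [0x32712345], [0x6212734523], [0x27212345], [0x71234542], [0x27123454], [0x6327123454], [0x1272123454], [0x2742123454], [0x2726212345], [0x231274345], [0x71234532], [0x27326345], [0x71212345], [0x67234532], [0x234123454], [0x32654234523], [0x27634234523], [0x3432712345], [0x432654345], [0x267263454], [0x434212345], [0x43212345], [0x3431212345], [0x1275434523], [0x343263452], [0x12754345], [0x26434234523], [0x634234523], [0x434234523], [0x3126434523], [0x341234523], [0x3432123452], [0x6432712345], [0x1274345232], [0x2754345232], [0x343274326451], [0x6121234523], [0x6327434523], [0x3434234532], [0x27542345232], [0x74342345232], [0x3275434523],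 [0x2341234523], [0x12742345232], [0x2127434523], [0x231275434523], [0x26726345], [0x74326345], [0x267263451], [0x432762345], [0x12623454], [0x534123454], [0x1267234531], [0x5412345], [0x4342345], [0x754123454], [0x4212345], [0x212734523], [0x6312712345], [0x762343452], [0x272623454], [0x231262345], [0x74342345], [0x73412345], [0x65423454], [0x627642345], [0x27642345], [0x327642345]]

def chainF0_11 : List (List ℕ) :=
  [[0x127623454], [0x12712345], [0x7121234532], [0x34342345], [0x53423454], [0x762712345], [0x612712345], [0x726723452], [0x6123452], [0x7267234542], [0x26723452], [0x3267234542], [0x1267234542], [0x61273452], [0x62343452], [0x27543452], [0x262723452], [0x6423452], [0x267234531], [0x21234532], [0x23412345], [0x52343452], [0x26412345], [0x67234542], [0x34234542], [0x74123454], [0x34123454], [0x75423454], [0x26723454], [0x31274345], [0x71264345], [0x32742345],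 [0x12742345], [0x127123454], [0x627623454], [0x327623454], [0x2762345], [0x3267234531], [0x3264234523], [0x34234523], [0x2734234523], [0x6342345232], [0x72654345], [0x32654345], [0x4342345232], [0x3412345232], [0x7342345232], [0x2742345232], [0x127434523], [0x3274345232], [0x327434523], [0x1272345232], [0x7627123454], [0x2126345], [0x7126345], [0x2654345], [0x7262345], [0x6726345], [0x721234532], [0x7123452], [0x312123453], [0x32127345], [0x673263454], [0x32754345], [0x27542345], [0x267423452], [0x6723452], [0x67263454], [0x71263454], [0x732123451], [0x272123451], [0x127123451], [0x126723452], [0x32762345], [0x723412345], [0x2612345], [0x26742345], [0x3412345], [0x6412345], [0x7412345], [0x2712345], [0x7342345], [0x7542345], [0x7642345], [0x6742345], [0x72623454], [0x274123454], [0x726212345], [0x72642345], [0x31262345], [0x73262345], [0x431262345], [0x43126345],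 [0x27342345], [0x67326345], [0x632712345], [0x127212345], [0x267234532], [0x627123454], [0x267234542], [0x326434234523], [0x3434212345], [0x343212345], [0x31275434523], [0x2634234523], [0x23432123452], [0x31274345232], [0x32754345232], [0x327542345232], [0x274342345232], [0x23127434523], [0x1267263451], [0x3267263451], [0x275412345], [0x75412345], [0x627262345], [0x27262345], [0x327262345], [0x327412345], [0x62762345], [0x12762345], [0x127412345], [0x62712345], [0x32634234523], [0x26342345232], [0x27342345232], [0x3127434523], [0x32742345232], [0x27412345], [0x2343212345], [0x3274342345232], [0x327342345232]]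

def chainF0 : List (List ℕ) := unchunk ((((chainF0_0 ++ (chainF0_1 ++ chainF0_2)) ++ (chainF0_3 ++ (chainF0_4 ++ chainF0_5))) ++ ((chainF0_6 ++ (chainF0_7 ++ chainF0_8)) ++ (chainF0_9 ++ (chainF0_10 ++ chainF0_11)))))

def chainFPos0_0 : Tree :=
  .node 64 (.node 32 (.node 16 (.node 8 (.node 4 (.node 2 (.node 1 (.leaf 0x1) (.leaf 0x2)) (.node 1 (.leaf 0x3) (.leaf 0x4))) (.node 2 (.node 1 (.leaf 0x5) (.leaf 0x6)) (.node 1 (.leaf 0x7) (.leaf 0x8)))) (.node 4 (.node 2 (.node 1 (.leaf 0x9) (.leaf 0xa)) (.node 1 (.leaf 0xb) (.leaf 0xc))) (.node 2 (.node 1 (.leaf 0xd) (.leaf 0xe)) (.node 1 (.leaf 0xf) (.leaf 0x10))))) (.node 8 (.node 4 (.node 2 (.node 1 (.leaf 0x11) (.leaf 0x12)) (.node 1 (.leaf 0x13) (.leaf 0x14))) (.node 2 (.node 1 (.leaf 0x15) (.leaf 0x16)) (.node 1 (.leaf 0x17) (.leaf 0x18)))) (.node 4 (.node 2 (.node 1 (.leaf 0x19) (.leaf 0x1a)) (.node 1 (.leaf 0x1b)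 (.leaf 0x1c))) (.node 2 (.node 1 (.leaf 0x1d) (.leaf 0x1e)) (.node 1 (.leaf 0x1f) (.leaf 0x20)))))) (.node 16 (.node 8 (.node 4 (.node 2 (.node 1 (.leaf 0x21) (.leaf 0x22)) (.node 1 (.leaf 0x23) (.leaf 0x24))) (.node 2 (.node 1 (.leaf 0x25) (.leaf 0x26)) (.node 1 (.leaf 0x27) (.leaf 0x28)))) (.node 4 (.node 2 (.node 1 (.leaf 0x29) (.leaf 0x2a)) (.node 1 (.leaf 0x2b) (.leaf 0x2c))) (.node 2 (.node 1 (.leaf 0x2d) (.leaf 0x2e)) (.node 1 (.leaf 0x2f) (.leaf 0x30))))) (.node 8 (.node 4 (.node 2 (.node 1 (.leaf 0x31) (.leaf 0x32)) (.node 1 (.leaf 0x33) (.leaf 0x34))) (.node 2 (.node 1 (.leaf 0x35) (.leaf 0x36)) (.node 1 (.leaf 0x37) (.leaf 0x38)))) (.node 4 (.node 2 (.node 1 (.leaf 0x39) (.leaf 0x3a)) (.node 1 (.leaf 0x3b) (.leaf 0x3c))) (.node 2 (.node 1 (.leaf 0x3d) (.leaf 0x3e)) (.node 1 (.leaf 0x3f) (.leaf 0x40))))))) (.node 32 (.node 16 (.node 8 (.node 4 (.node 2 (.node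 1 (.leaf 0x41) (.leaf 0x42)) (.node 1 (.leaf 0x43) (.leaf 0x44))) (.node 2 (.node 1 (.leaf 0x45) (.leaf 0x46)) (.node 1 (.leaf 0x47) (.leaf 0x48)))) (.node 4 (.node 2 (.node 1 (.leaf 0x49) (.leaf 0x4a)) (.node 1 (.leaf 0x4b) (.leaf 0x4c))) (.node 2 (.node 1 (.leaf 0x4d) (.leaf 0x4e)) (.node 1 (.leaf 0x4f) (.leaf 0x50))))) (.node 8 (.node 4 (.node 2 (.node 1 (.leaf 0x51) (.leaf 0x52)) (.node 1 (.leaf 0x53) (.leaf 0x54))) (.node 2 (.node 1 (.leaf 0x55) (.leaf 0x56)) (.node 1 (.leaf 0x57) (.leaf 0x58)))) (.node 4 (.node 2 (.node 1 (.leaf 0x59) (.leaf 0x5a)) (.node 1 (.leaf 0x5b) (.leaf 0x5c))) (.node 2 (.node 1 (.leaf 0x5d) (.leaf 0x5e)) (.node 1 (.leaf 0x5f) (.leaf 0x60)))))) (.node 16 (.node 8 (.node 4 (.node 2 (.node 1 (.leaf 0x61) (.leaf 0x62)) (.node 1 (.leaf 0x63) (.leaf 0x64))) (.node 2 (.node 1 (.leaf 0x65) (.leaf 0x66)) (.node 1 (.leaf 0x67) (.leaf 0x68))))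 (.node 4 (.node 2 (.node 1 (.leaf 0x69) (.leaf 0x6a)) (.node 1 (.leaf 0x6b) (.leaf 0x6c))) (.node 2 (.node 1 (.leaf 0x6d) (.leaf 0x6e)) (.node 1 (.leaf 0x6f) (.leaf 0x70))))) (.node 8 (.node 4 (.node 2 (.node 1 (.leaf 0x71) (.leaf 0x72)) (.node 1 (.leaf 0x73) (.leaf 0x74))) (.node 2 (.node 1 (.leaf 0x75) (.leaf 0x76)) (.node 1 (.leaf 0x77) (.leaf 0x78)))) (.node 4 (.node 2 (.node 1 (.leaf 0x79) (.leaf 0x7a)) (.node 1 (.leaf 0x7b) (.leaf 0x7c))) (.node 2 (.node 1 (.leaf 0x7d) (.leaf 0x7e)) (.node 1 (.leaf 0x7f) (.leaf 0x80)))))))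

def chainFPos0_1 : Tree :=
  .node 64 (.node 32 (.node 16 (.node 8 (.node 4 (.node 2 (.node 1 (.leaf 0x81) (.leaf 0x82)) (.node 1 (.leaf 0x83) (.leaf 0x84))) (.node 2 (.node 1 (.leaf 0x85) (.leaf 0x86)) (.node 1 (.leaf 0x87) (.leaf 0x88)))) (.node 4 (.node 2 (.node 1 (.leaf 0x89) (.leaf 0x8a)) (.node 1 (.leaf 0x8b) (.leaf 0x8c))) (.node 2 (.node 1 (.leaf 0x8d) (.leaf 0x8e)) (.node 1 (.leaf 0x8f) (.leaf 0x90))))) (.node 8 (.node 4 (.node 2 (.node 1 (.leaf 0x91) (.leaf 0x92)) (.node 1 (.leaf 0x93) (.leaf 0x94))) (.node 2 (.node 1 (.leaf 0x95) (.leaf 0x96)) (.node 1 (.leaf 0x97) (.leaf 0x98)))) (.node 4 (.node 2 (.node 1 (.leaf 0x99) (.leaf 0x9a)) (.node 1 (.leaf 0x9b) (.leaf 0x9c))) (.node 2 (.node 1 (.leaf 0x9d) (.leaf 0x9e)) (.node 1 (.leaf 0x9f) (.leaf 0xa0)))))) (.node 16 (.node 8 (.node 4 (.node 2 (.node 1 (.leaf 0xa1) (.leaf 0xa2)) (.node 1 (.leaf 0xa3) (.leaf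 0xa4))) (.node 2 (.node 1 (.leaf 0xa5) (.leaf 0xa6)) (.node 1 (.leaf 0xa7) (.leaf 0xa8)))) (.node 4 (.node 2 (.node 1 (.leaf 0xa9) (.leaf 0xaa)) (.node 1 (.leaf 0xab) (.leaf 0xac))) (.node 2 (.node 1 (.leaf 0xad) (.leaf 0xae)) (.node 1 (.leaf 0xaf) (.leaf 0xb0))))) (.node 8 (.node 4 (.node 2 (.node 1 (.leaf 0xb1) (.leaf 0xb2)) (.node 1 (.leaf 0xb3) (.leaf 0xb4))) (.node 2 (.node 1 (.leaf 0xb5) (.leaf 0xb6)) (.node 1 (.leaf 0xb7) (.leaf 0xb8)))) (.node 4 (.node 2 (.node 1 (.leaf 0xb9) (.leaf 0xba)) (.node 1 (.leaf 0xbb) (.leaf 0xbc))) (.node 2 (.node 1 (.leaf 0xbd) (.leaf 0xbe)) (.node 1 (.leaf 0xbf) (.leaf 0xc0))))))) (.node 32 (.node 16 (.node 8 (.node 4 (.node 2 (.node 1 (.leaf 0xc1) (.leaf 0xc2)) (.node 1 (.leaf 0xc3) (.leaf 0xc4))) (.node 2 (.node 1 (.leaf 0xc5) (.leaf 0xc6)) (.node 1 (.leaf 0xc7) (.leaf 0xc8)))) (.node 4 (.node 2 (.node 1 (.leaf 0xc9) (.leaf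 0xca)) (.node 1 (.leaf 0xcb) (.leaf 0xcc))) (.node 2 (.node 1 (.leaf 0xcd) (.leaf 0xce)) (.node 1 (.leaf 0xcf) (.leaf 0xd0))))) (.node 8 (.node 4 (.node 2 (.node 1 (.leaf 0xd1) (.leaf 0xd2)) (.node 1 (.leaf 0xd3) (.leaf 0xd4))) (.node 2 (.node 1 (.leaf 0xd5) (.leaf 0xd6)) (.node 1 (.leaf 0xd7) (.leaf 0xd8)))) (.node 4 (.node 2 (.node 1 (.leaf 0xd9) (.leaf 0xda)) (.node 1 (.leaf 0xdb) (.leaf 0xdc))) (.node 2 (.node 1 (.leaf 0xdd) (.leaf 0xde)) (.node 1 (.leaf 0xdf) (.leaf 0xe0)))))) (.node 16 (.node 8 (.node 4 (.node 2 (.node 1 (.leaf 0xe1) (.leaf 0xe2)) (.node 1 (.leaf 0xe3) (.leaf 0xe4))) (.node 2 (.node 1 (.leaf 0xe5) (.leaf 0xe6)) (.node 1 (.leaf 0xe7) (.leaf 0xe8)))) (.node 4 (.node 2 (.node 1 (.leaf 0xe9) (.leaf 0xea)) (.node 1 (.leaf 0xeb) (.leaf 0xec))) (.node 2 (.node 1 (.leaf 0xed) (.leaf 0xee)) (.node 1 (.leaf 0xef) (.leaf 0xf0))))) (.node 8 (.node 4 (.node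 2 (.node 1 (.leaf 0xf1) (.leaf 0xf2)) (.node 1 (.leaf 0xf3) (.leaf 0xf4))) (.node 2 (.node 1 (.leaf 0xf5) (.leaf 0xf6)) (.node 1 (.leaf 0xf7) (.leaf 0xf8)))) (.node 4 (.node 2 (.node 1 (.leaf 0xf9) (.leaf 0xfa)) (.node 1 (.leaf 0xfb) (.leaf 0xfc))) (.node 2 (.node 1 (.leaf 0xfd) (.leaf 0xfe)) (.node 1 (.leaf 0xff) (.leaf 0x100)))))))

def chainFPos0_2 : Tree :=
  .node 64 (.node 32 (.node 16 (.node 8 (.node 4 (.node 2 (.node 1 (.leaf 0x101) (.leaf 0x102)) (.node 1 (.leaf 0x103) (.leaf 0x104))) (.node 2 (.node 1 (.leaf 0x105) (.leaf 0x106)) (.node 1 (.leaf 0x107) (.leaf 0x108)))) (.node 4 (.node 2 (.node 1 (.leaf 0x109) (.leaf 0x10a)) (.node 1 (.leaf 0x10b) (.leaf 0x10c))) (.node 2 (.node 1 (.leaf 0x10d) (.leaf 0x10e)) (.node 1 (.leaf 0x10f) (.leaf 0x110))))) (.node 8 (.node 4 (.node 2 (.node 1 (.leaf 0x111) (.leaf 0x112)) (.node 1 (.leaf 0x113) (.leaf 0x114))) (.node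 2 (.node 1 (.leaf 0x115) (.leaf 0x116)) (.node 1 (.leaf 0x117) (.leaf 0x118)))) (.node 4 (.node 2 (.node 1 (.leaf 0x119) (.leaf 0x11a)) (.node 1 (.leaf 0x11b) (.leaf 0x11c))) (.node 2 (.node 1 (.leaf 0x11d) (.leaf 0x11e)) (.node 1 (.leaf 0x11f) (.leaf 0x120)))))) (.node 16 (.node 8 (.node 4 (.node 2 (.node 1 (.leaf 0x121) (.leaf 0x122)) (.node 1 (.leaf 0x123) (.leaf 0x124))) (.node 2 (.node 1 (.leaf 0x125) (.leaf 0x126)) (.node 1 (.leaf 0x127) (.leaf 0x128)))) (.node 4 (.node 2 (.node 1 (.leaf 0x129) (.leaf 0x12a)) (.node 1 (.leaf 0x12b) (.leaf 0x12c))) (.node 2 (.node 1 (.leaf 0x12d) (.leaf 0x12e)) (.node 1 (.leaf 0x12f) (.leaf 0x130))))) (.node 8 (.node 4 (.node 2 (.node 1 (.leaf 0x131) (.leaf 0x132)) (.node 1 (.leaf 0x133) (.leaf 0x134))) (.node 2 (.node 1 (.leaf 0x135) (.leaf 0x136)) (.node 1 (.leaf 0x137) (.leaf 0x138)))) (.node 4 (.node 2 (.node 1 (.leaf 0x139)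 (.leaf 0x13a)) (.node 1 (.leaf 0x13b) (.leaf 0x13c))) (.node 2 (.node 1 (.leaf 0x13d) (.leaf 0x13e)) (.node 1 (.leaf 0x13f) (.leaf 0x140))))))) (.node 32 (.node 16 (.node 8 (.node 4 (.node 2 (.node 1 (.leaf 0x141) (.leaf 0x142)) (.node 1 (.leaf 0x143) (.leaf 0x144))) (.node 2 (.node 1 (.leaf 0x145) (.leaf 0x146)) (.node 1 (.leaf 0x147) (.leaf 0x148)))) (.node 4 (.node 2 (.node 1 (.leaf 0x149) (.leaf 0x14a)) (.node 1 (.leaf 0x14b) (.leaf 0x14c))) (.node 2 (.node 1 (.leaf 0x14d) (.leaf 0x14e)) (.node 1 (.leaf 0x14f) (.leaf 0x150))))) (.node 8 (.node 4 (.node 2 (.node 1 (.leaf 0x151) (.leaf 0x152)) (.node 1 (.leaf 0x153) (.leaf 0x154))) (.node 2 (.node 1 (.leaf 0x155) (.leaf 0x156)) (.node 1 (.leaf 0x157) (.leaf 0x158)))) (.node 4 (.node 2 (.node 1 (.leaf 0x159) (.leaf 0x15a)) (.node 1 (.leaf 0x15b) (.leaf 0x15c))) (.node 2 (.node 1 (.leaf 0x15d) (.leaf 0x15e)) (.node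 1 (.leaf 0x15f) (.leaf 0x160)))))) (.node 16 (.node 8 (.node 4 (.node 2 (.node 1 (.leaf 0x161) (.leaf 0x162)) (.node 1 (.leaf 0x163) (.leaf 0x164))) (.node 2 (.node 1 (.leaf 0x165) (.leaf 0x166)) (.node 1 (.leaf 0x167) (.leaf 0x168)))) (.node 4 (.node 2 (.node 1 (.leaf 0x169) (.leaf 0x16a)) (.node 1 (.leaf 0x16b) (.leaf 0x16c))) (.node 2 (.node 1 (.leaf 0x16d) (.leaf 0x16e)) (.node 1 (.leaf 0x16f) (.leaf 0x170))))) (.node 8 (.node 4 (.node 2 (.node 1 (.leaf 0x171) (.leaf 0x172)) (.node 1 (.leaf 0x173) (.leaf 0x174))) (.node 2 (.node 1 (.leaf 0x175) (.leaf 0x176)) (.node 1 (.leaf 0x177) (.leaf 0x178)))) (.node 4 (.node 2 (.node 1 (.leaf 0x179) (.leaf 0x17a)) (.node 1 (.leaf 0x17b) (.leaf 0x17c))) (.node 2 (.node 1 (.leaf 0x17d) (.leaf 0x17e)) (.node 1 (.leaf 0x17f) (.leaf 0x180)))))))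

def chainFPos0_3 : Tree :=
  .node 64 (.node 32 (.node 16 (.node 8 (.node 4 (.node 2 (.node 1 (.leaf 0x181) (.leaf 0x182)) (.node 1 (.leaf 0x183) (.leaf 0x184))) (.node 2 (.node 1 (.leaf 0x185) (.leaf 0x186)) (.node 1 (.leaf 0x187) (.leaf 0x188)))) (.node 4 (.node 2 (.node 1 (.leaf 0x189) (.leaf 0x18a)) (.node 1 (.leaf 0x18b) (.leaf 0x18c))) (.node 2 (.node 1 (.leaf 0x18d) (.leaf 0x18e)) (.node 1 (.leaf 0x18f) (.leaf 0x190))))) (.node 8 (.node 4 (.node 2 (.node 1 (.leaf 0x191) (.leaf 0x192)) (.node 1 (.leaf 0x193) (.leaf 0x194))) (.node 2 (.node 1 (.leaf 0x195) (.leaf 0x196)) (.node 1 (.leaf 0x197) (.leaf 0x198)))) (.node 4 (.node 2 (.node 1 (.leaf 0x199) (.leaf 0x19a)) (.node 1 (.leaf 0x19b) (.leaf 0x19c))) (.node 2 (.node 1 (.leaf 0x19d) (.leaf 0x19e)) (.node 1 (.leaf 0x19f) (.leaf 0x1a0)))))) (.node 16 (.node 8 (.node 4 (.node 2 (.node 1 (.leaf 0x1a1) (.leaf 0x1a2))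 (.node 1 (.leaf 0x1a3) (.leaf 0x1a4))) (.node 2 (.node 1 (.leaf 0x1a5) (.leaf 0x1a6)) (.node 1 (.leaf 0x1a7) (.leaf 0x1a8)))) (.node 4 (.node 2 (.node 1 (.leaf 0x1a9) (.leaf 0x1aa)) (.node 1 (.leaf 0x1ab) (.leaf 0x1ac))) (.node 2 (.node 1 (.leaf 0x1ad) (.leaf 0x1ae)) (.node 1 (.leaf 0x1af) (.leaf 0x1b0))))) (.node 8 (.node 4 (.node 2 (.node 1 (.leaf 0x1b1) (.leaf 0x1b2)) (.node 1 (.leaf 0x1b3) (.leaf 0x1b4))) (.node 2 (.node 1 (.leaf 0x1b5) (.leaf 0x1b6)) (.node 1 (.leaf 0x1b7) (.leaf 0x1b8)))) (.node 4 (.node 2 (.node 1 (.leaf 0x1b9) (.leaf 0x1ba)) (.node 1 (.leaf 0x1bb) (.leaf 0x1bc))) (.node 2 (.node 1 (.leaf 0x1bd) (.leaf 0x1be)) (.node 1 (.leaf 0x1bf) (.leaf 0x1c0))))))) (.node 32 (.node 16 (.node 8 (.node 4 (.node 2 (.node 1 (.leaf 0x1c1) (.leaf 0x1c2)) (.node 1 (.leaf 0x1c3) (.leaf 0x1c4))) (.node 2 (.node 1 (.leaf 0x1c5) (.leaf 0x1c6)) (.node 1 (.leaf 0x1c7)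 (.leaf 0x1c8)))) (.node 4 (.node 2 (.node 1 (.leaf 0x1c9) (.leaf 0x1ca)) (.node 1 (.leaf 0x1cb) (.leaf 0x1cc))) (.node 2 (.node 1 (.leaf 0x1cd) (.leaf 0x1ce)) (.node 1 (.leaf 0x1cf) (.leaf 0x1d0))))) (.node 8 (.node 4 (.node 2 (.node 1 (.leaf 0x1d1) (.leaf 0x1d2)) (.node 1 (.leaf 0x1d3) (.leaf 0x1d4))) (.node 2 (.node 1 (.leaf 0x1d5) (.leaf 0x1d6)) (.node 1 (.leaf 0x1d7) (.leaf 0x1d8)))) (.node 4 (.node 2 (.node 1 (.leaf 0x1d9) (.leaf 0x1da)) (.node 1 (.leaf 0x1db) (.leaf 0x1dc))) (.node 2 (.node 1 (.leaf 0x1dd) (.leaf 0x1de)) (.node 1 (.leaf 0x1df) (.leaf 0x1e0)))))) (.node 16 (.node 8 (.node 4 (.node 2 (.node 1 (.leaf 0x1e1) (.leaf 0x1e2)) (.node 1 (.leaf 0x1e3) (.leaf 0x1e4))) (.node 2 (.node 1 (.leaf 0x1e5) (.leaf 0x1e6)) (.node 1 (.leaf 0x1e7) (.leaf 0x1e8)))) (.node 4 (.node 2 (.node 1 (.leaf 0x1e9) (.leaf 0x1ea)) (.node 1 (.leaf 0x1eb) (.leaf 0x1ec))) (.node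 2 (.node 1 (.leaf 0x1ed) (.leaf 0x1ee)) (.node 1 (.leaf 0x1ef) (.leaf 0x1f0))))) (.node 8 (.node 4 (.node 2 (.node 1 (.leaf 0x1f1) (.leaf 0x1f2)) (.node 1 (.leaf 0x1f3) (.leaf 0x1f4))) (.node 2 (.node 1 (.leaf 0x1f5) (.leaf 0x1f6)) (.node 1 (.leaf 0x1f7) (.leaf 0x1f8)))) (.node 4 (.node 2 (.node 1 (.leaf 0x1f9) (.leaf 0x1fa)) (.node 1 (.leaf 0x1fb) (.leaf 0x1fc))) (.node 2 (.node 1 (.leaf 0x1fd) (.leaf 0x1fe)) (.node 1 (.leaf 0x1ff) (.leaf 0x200)))))))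

def chainFPos0_4 : Tree :=
  .node 64 (.node 32 (.node 16 (.node 8 (.node 4 (.node 2 (.node 1 (.leaf 0x201) (.leaf 0x202)) (.node 1 (.leaf 0x203) (.leaf 0x204))) (.node 2 (.node 1 (.leaf 0x205) (.leaf 0x206)) (.node 1 (.leaf 0x207) (.leaf 0x208)))) (.node 4 (.node 2 (.node 1 (.leaf 0x209) (.leaf 0x20a)) (.node 1 (.leaf 0x20b) (.leaf 0x20c))) (.node 2 (.node 1 (.leaf 0x20d) (.leaf 0x20e)) (.node 1 (.leaf 0x20f) (.leaf 0x210))))) (.node 8 (.node 4 (.node 2 (.node 1 (.leaf 0x211) (.leaf 0x212)) (.node 1 (.leaf 0x213) (.leaf 0x214))) (.node 2 (.node 1 (.leaf 0x215) (.leaf 0x216)) (.node 1 (.leaf 0x217) (.leaf 0x218)))) (.node 4 (.node 2 (.node 1 (.leaf 0x219) (.leaf 0x21a)) (.node 1 (.leaf 0x21b) (.leaf 0x21c))) (.node 2 (.node 1 (.leaf 0x21d) (.leaf 0x21e)) (.node 1 (.leaf 0x21f) (.leaf 0x220)))))) (.node 16 (.node 8 (.node 4 (.node 2 (.node 1 (.leaf 0x221) (.leaf 0x222))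 (.node 1 (.leaf 0x223) (.leaf 0x224))) (.node 2 (.node 1 (.leaf 0x225) (.leaf 0x226)) (.node 1 (.leaf 0x227) (.leaf 0x228)))) (.node 4 (.node 2 (.node 1 (.leaf 0x229) (.leaf 0x22a)) (.node 1 (.leaf 0x22b) (.leaf 0x22c))) (.node 2 (.node 1 (.leaf 0x22d) (.leaf 0x22e)) (.node 1 (.leaf 0x22f) (.leaf 0x230))))) (.node 8 (.node 4 (.node 2 (.node 1 (.leaf 0x231) (.leaf 0x232)) (.node 1 (.leaf 0x233) (.leaf 0x234))) (.node 2 (.node 1 (.leaf 0x235) (.leaf 0x236)) (.node 1 (.leaf 0x237) (.leaf 0x238)))) (.node 4 (.node 2 (.node 1 (.leaf 0x239) (.leaf 0x23a)) (.node 1 (.leaf 0x23b) (.leaf 0x23c))) (.node 2 (.node 1 (.leaf 0x23d) (.leaf 0x23e)) (.node 1 (.leaf 0x23f) (.leaf 0x240))))))) (.node 32 (.node 16 (.node 8 (.node 4 (.node 2 (.node 1 (.leaf 0x241) (.leaf 0x242)) (.node 1 (.leaf 0x243) (.leaf 0x244))) (.node 2 (.node 1 (.leaf 0x245) (.leaf 0x246)) (.node 1 (.leaf 0x247)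 (.leaf 0x248)))) (.node 4 (.node 2 (.node 1 (.leaf 0x249) (.leaf 0x24a)) (.node 1 (.leaf 0x24b) (.leaf 0x24c))) (.node 2 (.node 1 (.leaf 0x24d) (.leaf 0x24e)) (.node 1 (.leaf 0x24f) (.leaf 0x250))))) (.node 8 (.node 4 (.node 2 (.node 1 (.leaf 0x251) (.leaf 0x252)) (.node 1 (.leaf 0x253) (.leaf 0x254))) (.node 2 (.node 1 (.leaf 0x255) (.leaf 0x256)) (.node 1 (.leaf 0x257) (.leaf 0x258)))) (.node 4 (.node 2 (.node 1 (.leaf 0x259) (.leaf 0x25a)) (.node 1 (.leaf 0x25b) (.leaf 0x25c))) (.node 2 (.node 1 (.leaf 0x25d) (.leaf 0x25e)) (.node 1 (.leaf 0x25f) (.leaf 0x260)))))) (.node 16 (.node 8 (.node 4 (.node 2 (.node 1 (.leaf 0x261) (.leaf 0x262)) (.node 1 (.leaf 0x263) (.leaf 0x264))) (.node 2 (.node 1 (.leaf 0x265) (.leaf 0x266)) (.node 1 (.leaf 0x267) (.leaf 0x268)))) (.node 4 (.node 2 (.node 1 (.leaf 0x269) (.leaf 0x26a)) (.node 1 (.leaf 0x26b) (.leaf 0x26c))) (.node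 2 (.node 1 (.leaf 0x26d) (.leaf 0x26e)) (.node 1 (.leaf 0x26f) (.leaf 0x270))))) (.node 8 (.node 4 (.node 2 (.node 1 (.leaf 0x271) (.leaf 0x272)) (.node 1 (.leaf 0x273) (.leaf 0x274))) (.node 2 (.node 1 (.leaf 0x275) (.leaf 0x276)) (.node 1 (.leaf 0x277) (.leaf 0x278)))) (.node 4 (.node 2 (.node 1 (.leaf 0x279) (.leaf 0x27a)) (.node 1 (.leaf 0x27b) (.leaf 0x27c))) (.node 2 (.node 1 (.leaf 0x27d) (.leaf 0x27e)) (.node 1 (.leaf 0x27f) (.leaf 0x280)))))))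

def chainFPos0_5 : Tree :=
  .node 64 (.node 32 (.node 16 (.node 8 (.node 4 (.node 2 (.node 1 (.leaf 0x281) (.leaf 0x282)) (.node 1 (.leaf 0x283) (.leaf 0x284))) (.node 2 (.node 1 (.leaf 0x285) (.leaf 0x286)) (.node 1 (.leaf 0x287) (.leaf 0x288)))) (.node 4 (.node 2 (.node 1 (.leaf 0x289) (.leaf 0x28a)) (.node 1 (.leaf 0x28b) (.leaf 0x28c))) (.node 2 (.node 1 (.leaf 0x28d) (.leaf 0x28e)) (.node 1 (.leaf 0x28f) (.leaf 0x290))))) (.node 8 (.node 4 (.node 2 (.node 1 (.leaf 0x291) (.leaf 0x292)) (.node 1 (.leaf 0x293) (.leaf 0x294))) (.node 2 (.node 1 (.leaf 0x295) (.leaf 0x296)) (.node 1 (.leaf 0x297) (.leaf 0x298)))) (.node 4 (.node 2 (.node 1 (.leaf 0x299) (.leaf 0x29a)) (.node 1 (.leaf 0x29b) (.leaf 0x29c))) (.node 2 (.node 1 (.leaf 0x29d) (.leaf 0x29e)) (.node 1 (.leaf 0x29f) (.leaf 0x2a0)))))) (.node 16 (.node 8 (.node 4 (.node 2 (.node 1 (.leaf 0x2a1) (.leaf 0x2a2))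 (.node 1 (.leaf 0x2a3) (.leaf 0x2a4))) (.node 2 (.node 1 (.leaf 0x2a5) (.leaf 0x2a6)) (.node 1 (.leaf 0x2a7) (.leaf 0x2a8)))) (.node 4 (.node 2 (.node 1 (.leaf 0x2a9) (.leaf 0x2aa)) (.node 1 (.leaf 0x2ab) (.leaf 0x2ac))) (.node 2 (.node 1 (.leaf 0x2ad) (.leaf 0x2ae)) (.node 1 (.leaf 0x2af) (.leaf 0x2b0))))) (.node 8 (.node 4 (.node 2 (.node 1 (.leaf 0x2b1) (.leaf 0x2b2)) (.node 1 (.leaf 0x2b3) (.leaf 0x2b4))) (.node 2 (.node 1 (.leaf 0x2b5) (.leaf 0x2b6)) (.node 1 (.leaf 0x2b7) (.leaf 0x2b8)))) (.node 4 (.node 2 (.node 1 (.leaf 0x2b9) (.leaf 0x2ba)) (.node 1 (.leaf 0x2bb) (.leaf 0x2bc))) (.node 2 (.node 1 (.leaf 0x2bd) (.leaf 0x2be)) (.node 1 (.leaf 0x2bf) (.leaf 0x2c0))))))) (.node 32 (.node 16 (.node 8 (.node 4 (.node 2 (.node 1 (.leaf 0x2c1) (.leaf 0x2c2)) (.node 1 (.leaf 0x2c3) (.leaf 0x2c4))) (.node 2 (.node 1 (.leaf 0x2c5) (.leaf 0x2c6)) (.node 1 (.leaf 0x2c7)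 (.leaf 0x2c8)))) (.node 4 (.node 2 (.node 1 (.leaf 0x2c9) (.leaf 0x2ca)) (.node 1 (.leaf 0x2cb) (.leaf 0x2cc))) (.node 2 (.node 1 (.leaf 0x2cd) (.leaf 0x2ce)) (.node 1 (.leaf 0x2cf) (.leaf 0x2d0))))) (.node 8 (.node 4 (.node 2 (.node 1 (.leaf 0x2d1) (.leaf 0x2d2)) (.node 1 (.leaf 0x2d3) (.leaf 0x2d4))) (.node 2 (.node 1 (.leaf 0x2d5) (.leaf 0x2d6)) (.node 1 (.leaf 0x2d7) (.leaf 0x2d8)))) (.node 4 (.node 2 (.node 1 (.leaf 0x2d9) (.leaf 0x2da)) (.node 1 (.leaf 0x2db) (.leaf 0x2dc))) (.node 2 (.node 1 (.leaf 0x2dd) (.leaf 0x2de)) (.node 1 (.leaf 0x2df) (.leaf 0x2e0)))))) (.node 16 (.node 8 (.node 4 (.node 2 (.node 1 (.leaf 0x2e1) (.leaf 0x2e2)) (.node 1 (.leaf 0x2e3) (.leaf 0x2e4))) (.node 2 (.node 1 (.leaf 0x2e5) (.leaf 0x2e6)) (.node 1 (.leaf 0x2e7) (.leaf 0x2e8)))) (.node 4 (.node 2 (.node 1 (.leaf 0x2e9) (.leaf 0x2ea)) (.node 1 (.leaf 0x2eb) (.leaf 0x2ec))) (.node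 2 (.node 1 (.leaf 0x2ed) (.leaf 0x2ee)) (.node 1 (.leaf 0x2ef) (.leaf 0x2f0))))) (.node 8 (.node 4 (.node 2 (.node 1 (.leaf 0x2f1) (.leaf 0x2f2)) (.node 1 (.leaf 0x2f3) (.leaf 0x2f4))) (.node 2 (.node 1 (.leaf 0x2f5) (.leaf 0x2f6)) (.node 1 (.leaf 0x2f7) (.leaf 0x2f8)))) (.node 4 (.node 2 (.node 1 (.leaf 0x2f9) (.leaf 0x2fa)) (.node 1 (.leaf 0x2fb) (.leaf 0x2fc))) (.node 2 (.node 1 (.leaf 0x2fd) (.leaf 0x2fe)) (.node 1 (.leaf 0x2ff) (.leaf 0x300)))))))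

def chainFPos0_6 : Tree :=
  .node 64 (.node 32 (.node 16 (.node 8 (.node 4 (.node 2 (.node 1 (.leaf 0x301) (.leaf 0x302)) (.node 1 (.leaf 0x303) (.leaf 0x304))) (.node 2 (.node 1 (.leaf 0x305) (.leaf 0x306)) (.node 1 (.leaf 0x307) (.leaf 0x308)))) (.node 4 (.node 2 (.node 1 (.leaf 0x309) (.leaf 0x30a)) (.node 1 (.leaf 0x30b) (.leaf 0x30c))) (.node 2 (.node 1 (.leaf 0x30d) (.leaf 0x30e)) (.node 1 (.leaf 0x30f) (.leaf 0x310))))) (.node 8 (.node 4 (.node 2 (.node 1 (.leaf 0x311) (.leaf 0x312)) (.node 1 (.leaf 0x313) (.leaf 0x314))) (.node 2 (.node 1 (.leaf 0x315) (.leaf 0x316)) (.node 1 (.leaf 0x317) (.leaf 0x318)))) (.node 4 (.node 2 (.node 1 (.leaf 0x319) (.leaf 0x31a)) (.node 1 (.leaf 0x31b) (.leaf 0x31c))) (.node 2 (.node 1 (.leaf 0x31d) (.leaf 0x31e)) (.node 1 (.leaf 0x31f) (.leaf 0x320)))))) (.node 16 (.node 8 (.node 4 (.node 2 (.node 1 (.leaf 0x321) (.leaf 0x322))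 (.node 1 (.leaf 0x323) (.leaf 0x324))) (.node 2 (.node 1 (.leaf 0x325) (.leaf 0x326)) (.node 1 (.leaf 0x327) (.leaf 0x328)))) (.node 4 (.node 2 (.node 1 (.leaf 0x329) (.leaf 0x32a)) (.node 1 (.leaf 0x32b) (.leaf 0x32c))) (.node 2 (.node 1 (.leaf 0x32d) (.leaf 0x32e)) (.node 1 (.leaf 0x32f) (.leaf 0x330))))) (.node 8 (.node 4 (.node 2 (.node 1 (.leaf 0x331) (.leaf 0x332)) (.node 1 (.leaf 0x333) (.leaf 0x334))) (.node 2 (.node 1 (.leaf 0x335) (.leaf 0x336)) (.node 1 (.leaf 0x337) (.leaf 0x338)))) (.node 4 (.node 2 (.node 1 (.leaf 0x339) (.leaf 0x33a)) (.node 1 (.leaf 0x33b) (.leaf 0x33c))) (.node 2 (.node 1 (.leaf 0x33d) (.leaf 0x33e)) (.node 1 (.leaf 0x33f) (.leaf 0x340))))))) (.node 32 (.node 16 (.node 8 (.node 4 (.node 2 (.node 1 (.leaf 0x341) (.leaf 0x342)) (.node 1 (.leaf 0x343) (.leaf 0x344))) (.node 2 (.node 1 (.leaf 0x345) (.leaf 0x346)) (.node 1 (.leaf 0x347)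 (.leaf 0x348)))) (.node 4 (.node 2 (.node 1 (.leaf 0x349) (.leaf 0x34a)) (.node 1 (.leaf 0x34b) (.leaf 0x34c))) (.node 2 (.node 1 (.leaf 0x34d) (.leaf 0x34e)) (.node 1 (.leaf 0x34f) (.leaf 0x350))))) (.node 8 (.node 4 (.node 2 (.node 1 (.leaf 0x351) (.leaf 0x352)) (.node 1 (.leaf 0x353) (.leaf 0x354))) (.node 2 (.node 1 (.leaf 0x355) (.leaf 0x356)) (.node 1 (.leaf 0x357) (.leaf 0x358)))) (.node 4 (.node 2 (.node 1 (.leaf 0x359) (.leaf 0x35a)) (.node 1 (.leaf 0x35b) (.leaf 0x35c))) (.node 2 (.node 1 (.leaf 0x35d) (.leaf 0x35e)) (.node 1 (.leaf 0x35f) (.leaf 0x360)))))) (.node 16 (.node 8 (.node 4 (.node 2 (.node 1 (.leaf 0x361) (.leaf 0x362)) (.node 1 (.leaf 0x363) (.leaf 0x364))) (.node 2 (.node 1 (.leaf 0x365) (.leaf 0x366)) (.node 1 (.leaf 0x367) (.leaf 0x368)))) (.node 4 (.node 2 (.node 1 (.leaf 0x369) (.leaf 0x36a)) (.node 1 (.leaf 0x36b) (.leaf 0x36c))) (.node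 2 (.node 1 (.leaf 0x36d) (.leaf 0x36e)) (.node 1 (.leaf 0x36f) (.leaf 0x370))))) (.node 8 (.node 4 (.node 2 (.node 1 (.leaf 0x371) (.leaf 0x372)) (.node 1 (.leaf 0x373) (.leaf 0x374))) (.node 2 (.node 1 (.leaf 0x375) (.leaf 0x376)) (.node 1 (.leaf 0x377) (.leaf 0x378)))) (.node 4 (.node 2 (.node 1 (.leaf 0x379) (.leaf 0x37a)) (.node 1 (.leaf 0x37b) (.leaf 0x37c))) (.node 2 (.node 1 (.leaf 0x37d) (.leaf 0x37e)) (.node 1 (.leaf 0x37f) (.leaf 0x380)))))))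

def chainFPos0_7 : Tree :=
  .node 64 (.node 32 (.node 16 (.node 8 (.node 4 (.node 2 (.node 1 (.leaf 0x381) (.leaf 0x382)) (.node 1 (.leaf 0x383) (.leaf 0x384))) (.node 2 (.node 1 (.leaf 0x385) (.leaf 0x386)) (.node 1 (.leaf 0x387) (.leaf 0x388)))) (.node 4 (.node 2 (.node 1 (.leaf 0x389) (.leaf 0x38a)) (.node 1 (.leaf 0x38b) (.leaf 0x38c))) (.node 2 (.node 1 (.leaf 0x38d) (.leaf 0x38e)) (.node 1 (.leaf 0x38f) (.leaf 0x390))))) (.node 8 (.node 4 (.node 2 (.node 1 (.leaf 0x391) (.leaf 0x392)) (.node 1 (.leaf 0x393) (.leaf 0x394))) (.node 2 (.node 1 (.leaf 0x395) (.leaf 0x396)) (.node 1 (.leaf 0x397) (.leaf 0x398)))) (.node 4 (.node 2 (.node 1 (.leaf 0x399) (.leaf 0x39a)) (.node 1 (.leaf 0x39b) (.leaf 0x39c))) (.node 2 (.node 1 (.leaf 0x39d) (.leaf 0x39e)) (.node 1 (.leaf 0x39f) (.leaf 0x3a0)))))) (.node 16 (.node 8 (.node 4 (.node 2 (.node 1 (.leaf 0x3a1) (.leaf 0x3a2))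 (.node 1 (.leaf 0x3a3) (.leaf 0x3a4))) (.node 2 (.node 1 (.leaf 0x3a5) (.leaf 0x3a6)) (.node 1 (.leaf 0x3a7) (.leaf 0x3a8)))) (.node 4 (.node 2 (.node 1 (.leaf 0x3a9) (.leaf 0x3aa)) (.node 1 (.leaf 0x3ab) (.leaf 0x3ac))) (.node 2 (.node 1 (.leaf 0x3ad) (.leaf 0x3ae)) (.node 1 (.leaf 0x3af) (.leaf 0x3b0))))) (.node 8 (.node 4 (.node 2 (.node 1 (.leaf 0x3b1) (.leaf 0x3b2)) (.node 1 (.leaf 0x3b3) (.leaf 0x3b4))) (.node 2 (.node 1 (.leaf 0x3b5) (.leaf 0x3b6)) (.node 1 (.leaf 0x3b7) (.leaf 0x3b8)))) (.node 4 (.node 2 (.node 1 (.leaf 0x3b9) (.leaf 0x3ba)) (.node 1 (.leaf 0x3bb) (.leaf 0x3bc))) (.node 2 (.node 1 (.leaf 0x3bd) (.leaf 0x3be)) (.node 1 (.leaf 0x3bf) (.leaf 0x3c0))))))) (.node 32 (.node 16 (.node 8 (.node 4 (.node 2 (.node 1 (.leaf 0x3c1) (.leaf 0x3c2)) (.node 1 (.leaf 0x3c3) (.leaf 0x3c4))) (.node 2 (.node 1 (.leaf 0x3c5) (.leaf 0x3c6)) (.node 1 (.leaf 0x3c7)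 (.leaf 0x3c8)))) (.node 4 (.node 2 (.node 1 (.leaf 0x3c9) (.leaf 0x3ca)) (.node 1 (.leaf 0x3cb) (.leaf 0x3cc))) (.node 2 (.node 1 (.leaf 0x3cd) (.leaf 0x3ce)) (.node 1 (.leaf 0x3cf) (.leaf 0x3d0))))) (.node 8 (.node 4 (.node 2 (.node 1 (.leaf 0x3d1) (.leaf 0x3d2)) (.node 1 (.leaf 0x3d3) (.leaf 0x3d4))) (.node 2 (.node 1 (.leaf 0x3d5) (.leaf 0x3d6)) (.node 1 (.leaf 0x3d7) (.leaf 0x3d8)))) (.node 4 (.node 2 (.node 1 (.leaf 0x3d9) (.leaf 0x3da)) (.node 1 (.leaf 0x3db) (.leaf 0x3dc))) (.node 2 (.node 1 (.leaf 0x3dd) (.leaf 0x3de)) (.node 1 (.leaf 0x3df) (.leaf 0x3e0)))))) (.node 16 (.node 8 (.node 4 (.node 2 (.node 1 (.leaf 0x3e1) (.leaf 0x3e2)) (.node 1 (.leaf 0x3e3) (.leaf 0x3e4))) (.node 2 (.node 1 (.leaf 0x3e5) (.leaf 0x3e6)) (.node 1 (.leaf 0x3e7) (.leaf 0x3e8)))) (.node 4 (.node 2 (.node 1 (.leaf 0x3e9) (.leaf 0x3ea)) (.node 1 (.leaf 0x3eb) (.leaf 0x3ec))) (.node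 2 (.node 1 (.leaf 0x3ed) (.leaf 0x3ee)) (.node 1 (.leaf 0x3ef) (.leaf 0x3f0))))) (.node 8 (.node 4 (.node 2 (.node 1 (.leaf 0x3f1) (.leaf 0x3f2)) (.node 1 (.leaf 0x3f3) (.leaf 0x3f4))) (.node 2 (.node 1 (.leaf 0x3f5) (.leaf 0x3f6)) (.node 1 (.leaf 0x3f7) (.leaf 0x3f8)))) (.node 4 (.node 2 (.node 1 (.leaf 0x3f9) (.leaf 0x3fa)) (.node 1 (.leaf 0x3fb) (.leaf 0x3fc))) (.node 2 (.node 1 (.leaf 0x3fd) (.leaf 0x3fe)) (.node 1 (.leaf 0x3ff) (.leaf 0x400)))))))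

def chainFPos0_8 : Tree :=
  .node 64 (.node 32 (.node 16 (.node 8 (.node 4 (.node 2 (.node 1 (.leaf 0x401) (.leaf 0x402)) (.node 1 (.leaf 0x403) (.leaf 0x404))) (.node 2 (.node 1 (.leaf 0x405) (.leaf 0x406)) (.node 1 (.leaf 0x407) (.leaf 0x408)))) (.node 4 (.node 2 (.node 1 (.leaf 0x409) (.leaf 0x40a)) (.node 1 (.leaf 0x40b) (.leaf 0x40c))) (.node 2 (.node 1 (.leaf 0x40d) (.leaf 0x40e)) (.node 1 (.leaf 0x40f) (.leaf 0x410))))) (.node 8 (.node 4 (.node 2 (.node 1 (.leaf 0x411) (.leaf 0x412)) (.node 1 (.leaf 0x413) (.leaf 0x414))) (.node 2 (.node 1 (.leaf 0x415) (.leaf 0x416)) (.node 1 (.leaf 0x417) (.leaf 0x418)))) (.node 4 (.node 2 (.node 1 (.leaf 0x419) (.leaf 0x41a)) (.node 1 (.leaf 0x41b) (.leaf 0x41c))) (.node 2 (.node 1 (.leaf 0x41d) (.leaf 0x41e)) (.node 1 (.leaf 0x41f) (.leaf 0x420)))))) (.node 16 (.node 8 (.node 4 (.node 2 (.node 1 (.leaf 0x421) (.leaf 0x422))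 (.node 1 (.leaf 0x423) (.leaf 0x424))) (.node 2 (.node 1 (.leaf 0x425) (.leaf 0x426)) (.node 1 (.leaf 0x427) (.leaf 0x428)))) (.node 4 (.node 2 (.node 1 (.leaf 0x429) (.leaf 0x42a)) (.node 1 (.leaf 0x42b) (.leaf 0x42c))) (.node 2 (.node 1 (.leaf 0x42d) (.leaf 0x42e)) (.node 1 (.leaf 0x42f) (.leaf 0x430))))) (.node 8 (.node 4 (.node 2 (.node 1 (.leaf 0x431) (.leaf 0x432)) (.node 1 (.leaf 0x433) (.leaf 0x434))) (.node 2 (.node 1 (.leaf 0x435) (.leaf 0x436)) (.node 1 (.leaf 0x437) (.leaf 0x438)))) (.node 4 (.node 2 (.node 1 (.leaf 0x439) (.leaf 0x43a)) (.node 1 (.leaf 0x43b) (.leaf 0x43c))) (.node 2 (.node 1 (.leaf 0x43d) (.leaf 0x43e)) (.node 1 (.leaf 0x43f) (.leaf 0x440))))))) (.node 32 (.node 16 (.node 8 (.node 4 (.node 2 (.node 1 (.leaf 0x441) (.leaf 0x442)) (.node 1 (.leaf 0x443) (.leaf 0x444))) (.node 2 (.node 1 (.leaf 0x445) (.leaf 0x446)) (.node 1 (.leaf 0x447)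 (.leaf 0x448)))) (.node 4 (.node 2 (.node 1 (.leaf 0x449) (.leaf 0x44a)) (.node 1 (.leaf 0x44b) (.leaf 0x44c))) (.node 2 (.node 1 (.leaf 0x44d) (.leaf 0x44e)) (.node 1 (.leaf 0x44f) (.leaf 0x450))))) (.node 8 (.node 4 (.node 2 (.node 1 (.leaf 0x451) (.leaf 0x452)) (.node 1 (.leaf 0x453) (.leaf 0x454))) (.node 2 (.node 1 (.leaf 0x455) (.leaf 0x456)) (.node 1 (.leaf 0x457) (.leaf 0x458)))) (.node 4 (.node 2 (.node 1 (.leaf 0x459) (.leaf 0x45a)) (.node 1 (.leaf 0x45b) (.leaf 0x45c))) (.node 2 (.node 1 (.leaf 0x45d) (.leaf 0x45e)) (.node 1 (.leaf 0x45f) (.leaf 0x460)))))) (.node 16 (.node 8 (.node 4 (.node 2 (.node 1 (.leaf 0x461) (.leaf 0x462)) (.node 1 (.leaf 0x463) (.leaf 0x464))) (.node 2 (.node 1 (.leaf 0x465) (.leaf 0x466)) (.node 1 (.leaf 0x467) (.leaf 0x468)))) (.node 4 (.node 2 (.node 1 (.leaf 0x469) (.leaf 0x46a)) (.node 1 (.leaf 0x46b) (.leaf 0x46c))) (.node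 2 (.node 1 (.leaf 0x46d) (.leaf 0x46e)) (.node 1 (.leaf 0x46f) (.leaf 0x470))))) (.node 8 (.node 4 (.node 2 (.node 1 (.leaf 0x471) (.leaf 0x472)) (.node 1 (.leaf 0x473) (.leaf 0x474))) (.node 2 (.node 1 (.leaf 0x475) (.leaf 0x476)) (.node 1 (.leaf 0x477) (.leaf 0x478)))) (.node 4 (.node 2 (.node 1 (.leaf 0x479) (.leaf 0x47a)) (.node 1 (.leaf 0x47b) (.leaf 0x47c))) (.node 2 (.node 1 (.leaf 0x47d) (.leaf 0x47e)) (.node 1 (.leaf 0x47f) (.leaf 0x480)))))))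

def chainFPos0_9 : Tree :=
  .node 64 (.node 32 (.node 16 (.node 8 (.node 4 (.node 2 (.node 1 (.leaf 0x481) (.leaf 0x482)) (.node 1 (.leaf 0x483) (.leaf 0x484))) (.node 2 (.node 1 (.leaf 0x485) (.leaf 0x486)) (.node 1 (.leaf 0x487) (.leaf 0x488)))) (.node 4 (.node 2 (.node 1 (.leaf 0x489) (.leaf 0x48a)) (.node 1 (.leaf 0x48b) (.leaf 0x48c))) (.node 2 (.node 1 (.leaf 0x48d) (.leaf 0x48e)) (.node 1 (.leaf 0x48f) (.leaf 0x490))))) (.node 8 (.node 4 (.node 2 (.node 1 (.leaf 0x491) (.leaf 0x492)) (.node 1 (.leaf 0x493) (.leaf 0x494))) (.node 2 (.node 1 (.leaf 0x495) (.leaf 0x496)) (.node 1 (.leaf 0x497) (.leaf 0x498)))) (.node 4 (.node 2 (.node 1 (.leaf 0x499) (.leaf 0x49a)) (.node 1 (.leaf 0x49b) (.leaf 0x49c))) (.node 2 (.node 1 (.leaf 0x49d) (.leaf 0x49e)) (.node 1 (.leaf 0x49f) (.leaf 0x4a0)))))) (.node 16 (.node 8 (.node 4 (.node 2 (.node 1 (.leaf 0x4a1) (.leaf 0x4a2))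 (.node 1 (.leaf 0x4a3) (.leaf 0x4a4))) (.node 2 (.node 1 (.leaf 0x4a5) (.leaf 0x4a6)) (.node 1 (.leaf 0x4a7) (.leaf 0x4a8)))) (.node 4 (.node 2 (.node 1 (.leaf 0x4a9) (.leaf 0x4aa)) (.node 1 (.leaf 0x4ab) (.leaf 0x4ac))) (.node 2 (.node 1 (.leaf 0x4ad) (.leaf 0x4ae)) (.node 1 (.leaf 0x4af) (.leaf 0x4b0))))) (.node 8 (.node 4 (.node 2 (.node 1 (.leaf 0x4b1) (.leaf 0x4b2)) (.node 1 (.leaf 0x4b3) (.leaf 0x4b4))) (.node 2 (.node 1 (.leaf 0x4b5) (.leaf 0x4b6)) (.node 1 (.leaf 0x4b7) (.leaf 0x4b8)))) (.node 4 (.node 2 (.node 1 (.leaf 0x4b9) (.leaf 0x4ba)) (.node 1 (.leaf 0x4bb) (.leaf 0x4bc))) (.node 2 (.node 1 (.leaf 0x4bd) (.leaf 0x4be)) (.node 1 (.leaf 0x4bf) (.leaf 0x4c0))))))) (.node 32 (.node 16 (.node 8 (.node 4 (.node 2 (.node 1 (.leaf 0x4c1) (.leaf 0x4c2)) (.node 1 (.leaf 0x4c3) (.leaf 0x4c4))) (.node 2 (.node 1 (.leaf 0x4c5) (.leaf 0x4c6)) (.node 1 (.leaf 0x4c7)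 (.leaf 0x4c8)))) (.node 4 (.node 2 (.node 1 (.leaf 0x4c9) (.leaf 0x4ca)) (.node 1 (.leaf 0x4cb) (.leaf 0x4cc))) (.node 2 (.node 1 (.leaf 0x4cd) (.leaf 0x4ce)) (.node 1 (.leaf 0x4cf) (.leaf 0x4d0))))) (.node 8 (.node 4 (.node 2 (.node 1 (.leaf 0x4d1) (.leaf 0x4d2)) (.node 1 (.leaf 0x4d3) (.leaf 0x4d4))) (.node 2 (.node 1 (.leaf 0x4d5) (.leaf 0x4d6)) (.node 1 (.leaf 0x4d7) (.leaf 0x4d8)))) (.node 4 (.node 2 (.node 1 (.leaf 0x4d9) (.leaf 0x4da)) (.node 1 (.leaf 0x4db) (.leaf 0x4dc))) (.node 2 (.node 1 (.leaf 0x4dd) (.leaf 0x4de)) (.node 1 (.leaf 0x4df) (.leaf 0x4e0)))))) (.node 16 (.node 8 (.node 4 (.node 2 (.node 1 (.leaf 0x4e1) (.leaf 0x4e2)) (.node 1 (.leaf 0x4e3) (.leaf 0x4e4))) (.node 2 (.node 1 (.leaf 0x4e5) (.leaf 0x4e6)) (.node 1 (.leaf 0x4e7) (.leaf 0x4e8)))) (.node 4 (.node 2 (.node 1 (.leaf 0x4e9) (.leaf 0x4ea)) (.node 1 (.leaf 0x4eb) (.leaf 0x4ec))) (.node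 2 (.node 1 (.leaf 0x4ed) (.leaf 0x4ee)) (.node 1 (.leaf 0x4ef) (.leaf 0x4f0))))) (.node 8 (.node 4 (.node 2 (.node 1 (.leaf 0x4f1) (.leaf 0x4f2)) (.node 1 (.leaf 0x4f3) (.leaf 0x4f4))) (.node 2 (.node 1 (.leaf 0x4f5) (.leaf 0x4f6)) (.node 1 (.leaf 0x4f7) (.leaf 0x4f8)))) (.node 4 (.node 2 (.node 1 (.leaf 0x4f9) (.leaf 0x4fa)) (.node 1 (.leaf 0x4fb) (.leaf 0x4fc))) (.node 2 (.node 1 (.leaf 0x4fd) (.leaf 0x4fe)) (.node 1 (.leaf 0x4ff) (.leaf 0x500)))))))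

def chainFPos0_10 : Tree :=
  .node 64 (.node 32 (.node 16 (.node 8 (.node 4 (.node 2 (.node 1 (.leaf 0x501) (.leaf 0x502)) (.node 1 (.leaf 0x503) (.leaf 0x504))) (.node 2 (.node 1 (.leaf 0x505) (.leaf 0x506)) (.node 1 (.leaf 0x507) (.leaf 0x508)))) (.node 4 (.node 2 (.node 1 (.leaf 0x509) (.leaf 0x50a)) (.node 1 (.leaf 0x50b) (.leaf 0x50c))) (.node 2 (.node 1 (.leaf 0x50d) (.leaf 0x50e)) (.node 1 (.leaf 0x50f) (.leaf 0x510))))) (.node 8 (.node 4 (.node 2 (.node 1 (.leaf 0x511) (.leaf 0x512)) (.node 1 (.leaf 0x513) (.leaf 0x514))) (.node 2 (.node 1 (.leaf 0x515) (.leaf 0x516)) (.node 1 (.leaf 0x517) (.leaf 0x518)))) (.node 4 (.node 2 (.node 1 (.leaf 0x519) (.leaf 0x51a)) (.node 1 (.leaf 0x51b) (.leaf 0x51c))) (.node 2 (.node 1 (.leaf 0x51d) (.leaf 0x51e)) (.node 1 (.leaf 0x51f) (.leaf 0x520)))))) (.node 16 (.node 8 (.node 4 (.node 2 (.node 1 (.leaf 0x521) (.leaf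 0x522)) (.node 1 (.leaf 0x523) (.leaf 0x524))) (.node 2 (.node 1 (.leaf 0x525) (.leaf 0x526)) (.node 1 (.leaf 0x527) (.leaf 0x528)))) (.node 4 (.node 2 (.node 1 (.leaf 0x529) (.leaf 0x52a)) (.node 1 (.leaf 0x52b) (.leaf 0x52c))) (.node 2 (.node 1 (.leaf 0x52d) (.leaf 0x52e)) (.node 1 (.leaf 0x52f) (.leaf 0x530))))) (.node 8 (.node 4 (.node 2 (.node 1 (.leaf 0x531) (.leaf 0x532)) (.node 1 (.leaf 0x533) (.leaf 0x534))) (.node 2 (.node 1 (.leaf 0x535) (.leaf 0x536)) (.node 1 (.leaf 0x537) (.leaf 0x538)))) (.node 4 (.node 2 (.node 1 (.leaf 0x539) (.leaf 0x53a)) (.node 1 (.leaf 0x53b) (.leaf 0x53c))) (.node 2 (.node 1 (.leaf 0x53d) (.leaf 0x53e)) (.node 1 (.leaf 0x53f) (.leaf 0x540))))))) (.node 32 (.node 16 (.node 8 (.node 4 (.node 2 (.node 1 (.leaf 0x541) (.leaf 0x542)) (.node 1 (.leaf 0x543) (.leaf 0x544))) (.node 2 (.node 1 (.leaf 0x545) (.leaf 0x546)) (.node 1 (.leaf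 0x547) (.leaf 0x548)))) (.node 4 (.node 2 (.node 1 (.leaf 0x549) (.leaf 0x54a)) (.node 1 (.leaf 0x54b) (.leaf 0x54c))) (.node 2 (.node 1 (.leaf 0x54d) (.leaf 0x54e)) (.node 1 (.leaf 0x54f) (.leaf 0x550))))) (.node 8 (.node 4 (.node 2 (.node 1 (.leaf 0x551) (.leaf 0x552)) (.node 1 (.leaf 0x553) (.leaf 0x554))) (.node 2 (.node 1 (.leaf 0x555) (.leaf 0x556)) (.node 1 (.leaf 0x557) (.leaf 0x558)))) (.node 4 (.node 2 (.node 1 (.leaf 0x559) (.leaf 0x55a)) (.node 1 (.leaf 0x55b) (.leaf 0x55c))) (.node 2 (.node 1 (.leaf 0x55d) (.leaf 0x55e)) (.node 1 (.leaf 0x55f) (.leaf 0x560)))))) (.node 16 (.node 8 (.node 4 (.node 2 (.node 1 (.leaf 0x561) (.leaf 0x562)) (.node 1 (.leaf 0x563) (.leaf 0x564))) (.node 2 (.node 1 (.leaf 0x565) (.leaf 0x566)) (.node 1 (.leaf 0x567) (.leaf 0x568)))) (.node 4 (.node 2 (.node 1 (.leaf 0x569) (.leaf 0x56a)) (.node 1 (.leaf 0x56b) (.leaf 0x56c)))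 (.node 2 (.node 1 (.leaf 0x56d) (.leaf 0x56e)) (.node 1 (.leaf 0x56f) (.leaf 0x570))))) (.node 8 (.node 4 (.node 2 (.node 1 (.leaf 0x571) (.leaf 0x572)) (.node 1 (.leaf 0x573) (.leaf 0x574))) (.node 2 (.node 1 (.leaf 0x575) (.leaf 0x576)) (.node 1 (.leaf 0x577) (.leaf 0x578)))) (.node 4 (.node 2 (.node 1 (.leaf 0x579) (.leaf 0x57a)) (.node 1 (.leaf 0x57b) (.leaf 0x57c))) (.node 2 (.node 1 (.leaf 0x57d) (.leaf 0x57e)) (.node 1 (.leaf 0x57f) (.leaf 0x580)))))))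

def chainFPos0_11 : Tree :=
  .node 64 (.node 32 (.node 16 (.node 8 (.node 4 (.node 2 (.node 1 (.leaf 0x581) (.leaf 0x582)) (.node 1 (.leaf 0x583) (.leaf 0x584))) (.node 2 (.node 1 (.leaf 0x585) (.leaf 0x586)) (.node 1 (.leaf 0x587) (.leaf 0x588)))) (.node 4 (.node 2 (.node 1 (.leaf 0x589) (.leaf 0x58a)) (.node 1 (.leaf 0x58b) (.leaf 0x58c))) (.node 2 (.node 1 (.leaf 0x58d) (.leaf 0x58e)) (.node 1 (.leaf 0x58f) (.leaf 0x590))))) (.node 8 (.node 4 (.node 2 (.node 1 (.leaf 0x591) (.leaf 0x592)) (.node 1 (.leaf 0x593) (.leaf 0x594))) (.node 2 (.node 1 (.leaf 0x595) (.leaf 0x596)) (.node 1 (.leaf 0x597) (.leaf 0x598)))) (.node 4 (.node 2 (.node 1 (.leaf 0x599) (.leaf 0x59a)) (.node 1 (.leaf 0x59b) (.leaf 0x59c))) (.node 2 (.node 1 (.leaf 0x59d) (.leaf 0x59e)) (.node 1 (.leaf 0x59f) (.leaf 0x5a0)))))) (.node 16 (.node 8 (.node 4 (.node 2 (.node 1 (.leaf 0x5a1) (.leaf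 0x5a2)) (.node 1 (.leaf 0x5a3) (.leaf 0x5a4))) (.node 2 (.node 1 (.leaf 0x5a5) (.leaf 0x5a6)) (.node 1 (.leaf 0x5a7) (.leaf 0x5a8)))) (.node 4 (.node 2 (.node 1 (.leaf 0x5a9) (.leaf 0x5aa)) (.node 1 (.leaf 0x5ab) (.leaf 0x5ac))) (.node 2 (.node 1 (.leaf 0x5ad) (.leaf 0x5ae)) (.node 1 (.leaf 0x5af) (.leaf 0x5b0))))) (.node 8 (.node 4 (.node 2 (.node 1 (.leaf 0x5b1) (.leaf 0x5b2)) (.node 1 (.leaf 0x5b3) (.leaf 0x5b4))) (.node 2 (.node 1 (.leaf 0x5b5) (.leaf 0x5b6)) (.node 1 (.leaf 0x5b7) (.leaf 0x5b8)))) (.node 4 (.node 2 (.node 1 (.leaf 0x5b9) (.leaf 0x5ba)) (.node 1 (.leaf 0x5bb) (.leaf 0x5bc))) (.node 2 (.node 1 (.leaf 0x5bd) (.leaf 0x5be)) (.node 1 (.leaf 0x5bf) (.leaf 0x5c0))))))) (.node 32 (.node 16 (.node 8 (.node 4 (.node 2 (.node 1 (.leaf 0x5c1) (.leaf 0x5c2)) (.node 1 (.leaf 0x5c3) (.leaf 0x5c4))) (.node 2 (.node 1 (.leaf 0x5c5) (.leaf 0x5c6)) (.node 1 (.leaf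 0x5c7) (.leaf 0x5c8)))) (.node 4 (.node 2 (.node 1 (.leaf 0x5c9) (.leaf 0x5ca)) (.node 1 (.leaf 0x5cb) (.leaf 0x5cc))) (.node 2 (.node 1 (.leaf 0x5cd) (.leaf 0x5ce)) (.node 1 (.leaf 0x5cf) (.leaf 0x5d0))))) (.node 8 (.node 4 (.node 2 (.node 1 (.leaf 0x5d1) (.leaf 0x5d2)) (.node 1 (.leaf 0x5d3) (.leaf 0x5d4))) (.node 2 (.node 1 (.leaf 0x5d5) (.leaf 0x5d6)) (.node 1 (.leaf 0x5d7) (.leaf 0x5d8)))) (.node 4 (.node 2 (.node 1 (.leaf 0x5d9) (.leaf 0x5da)) (.node 1 (.leaf 0x5db) (.leaf 0x5dc))) (.node 2 (.node 1 (.leaf 0x5dd) (.leaf 0x5de)) (.node 1 (.leaf 0x5df) (.leaf 0x5e0)))))) (.node 16 (.node 8 (.node 4 (.node 2 (.node 1 (.leaf 0x5e1) (.leaf 0x5e2)) (.node 1 (.leaf 0x5e3) (.leaf 0x5e4))) (.node 2 (.node 1 (.leaf 0x5e5) (.leaf 0x5e6)) (.node 1 (.leaf 0x5e7) (.leaf 0x5e8)))) (.node 4 (.node 2 (.node 1 (.leaf 0x5e9) (.leaf 0x5ea)) (.node 1 (.leaf 0x5eb) (.leaf 0x5ec)))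 (.node 2 (.node 1 (.leaf 0x5ed) (.leaf 0x5ee)) (.node 1 (.leaf 0x5ef) (.leaf 0x5f0))))) (.node 8 (.node 4 (.node 2 (.node 1 (.leaf 0x5f1) (.leaf 0x5f2)) (.node 1 (.leaf 0x5f3) (.leaf 0x5f4))) (.node 2 (.node 1 (.leaf 0x5f5) (.leaf 0x5f6)) (.node 1 (.leaf 0x5f7) (.leaf 0x5f8)))) (.node 4 (.node 2 (.node 1 (.leaf 0x5f9) (.leaf 0x5fa)) (.node 1 (.leaf 0x5fb) (.leaf 0x5fc))) (.node 2 (.node 1 (.leaf 0x5fd) (.leaf 0x5fe)) (.node 1 (.leaf 0x5ff) (.leaf 0x600)))))))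

def chainFPos0_12 : Tree :=
  .node 64 (.node 32 (.node 16 (.node 8 (.node 4 (.node 2 (.node 1 (.leaf 0x601) (.leaf 0x602)) (.node 1 (.leaf 0x603) (.leaf 0x604))) (.node 2 (.node 1 (.leaf 0x605) (.leaf 0x606)) (.node 1 (.leaf 0x607) (.leaf 0x608)))) (.node 4 (.node 2 (.node 1 (.leaf 0x609) (.leaf 0x60a)) (.node 1 (.leaf 0x60b) (.leaf 0x60c))) (.node 2 (.node 1 (.leaf 0x60d) (.leaf 0x60e)) (.node 1 (.leaf 0x60f) (.leaf 0x610))))) (.node 8 (.node 4 (.node 2 (.node 1 (.leaf 0x611) (.leaf 0x612)) (.node 1 (.leaf 0x613) (.leaf 0x614))) (.node 2 (.node 1 (.leaf 0x615) (.leaf 0x616)) (.node 1 (.leaf 0x617) (.leaf 0x618)))) (.node 4 (.node 2 (.node 1 (.leaf 0x619) (.leaf 0x61a)) (.node 1 (.leaf 0x61b) (.leaf 0x61c))) (.node 2 (.node 1 (.leaf 0x61d) (.leaf 0x61e)) (.node 1 (.leaf 0x61f) (.leaf 0x620)))))) (.node 16 (.node 8 (.node 4 (.node 2 (.node 1 (.leaf 0x621) (.leaf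 0x622)) (.node 1 (.leaf 0x623) (.leaf 0x624))) (.node 2 (.node 1 (.leaf 0x625) (.leaf 0x626)) (.node 1 (.leaf 0x627) (.leaf 0x628)))) (.node 4 (.node 2 (.node 1 (.leaf 0x629) (.leaf 0x62a)) (.node 1 (.leaf 0x62b) (.leaf 0x62c))) (.node 2 (.node 1 (.leaf 0x62d) (.leaf 0x62e)) (.node 1 (.leaf 0x62f) (.leaf 0x630))))) (.node 8 (.node 4 (.node 2 (.node 1 (.leaf 0x631) (.leaf 0x632)) (.node 1 (.leaf 0x633) (.leaf 0x634))) (.node 2 (.node 1 (.leaf 0x635) (.leaf 0x636)) (.node 1 (.leaf 0x637) (.leaf 0x638)))) (.node 4 (.node 2 (.node 1 (.leaf 0x639) (.leaf 0x63a)) (.node 1 (.leaf 0x63b) (.leaf 0x63c))) (.node 2 (.node 1 (.leaf 0x63d) (.leaf 0x63e)) (.node 1 (.leaf 0x63f) (.leaf 0x640))))))) (.node 32 (.node 16 (.node 8 (.node 4 (.node 2 (.node 1 (.leaf 0x641) (.leaf 0x642)) (.node 1 (.leaf 0x643) (.leaf 0x644))) (.node 2 (.node 1 (.leaf 0x645) (.leaf 0x646)) (.node 1 (.leaf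 0x647) (.leaf 0x648)))) (.node 4 (.node 2 (.node 1 (.leaf 0x649) (.leaf 0x64a)) (.node 1 (.leaf 0x64b) (.leaf 0x64c))) (.node 2 (.node 1 (.leaf 0x64d) (.leaf 0x64e)) (.node 1 (.leaf 0x64f) (.leaf 0x650))))) (.node 8 (.node 4 (.node 2 (.node 1 (.leaf 0x651) (.leaf 0x652)) (.node 1 (.leaf 0x653) (.leaf 0x654))) (.node 2 (.node 1 (.leaf 0x655) (.leaf 0x656)) (.node 1 (.leaf 0x657) (.leaf 0x658)))) (.node 4 (.node 2 (.node 1 (.leaf 0x659) (.leaf 0x65a)) (.node 1 (.leaf 0x65b) (.leaf 0x65c))) (.node 2 (.node 1 (.leaf 0x65d) (.leaf 0x65e)) (.node 1 (.leaf 0x65f) (.leaf 0x660)))))) (.node 16 (.node 8 (.node 4 (.node 2 (.node 1 (.leaf 0x661) (.leaf 0x662)) (.node 1 (.leaf 0x663) (.leaf 0x664))) (.node 2 (.node 1 (.leaf 0x665) (.leaf 0x666)) (.node 1 (.leaf 0x667) (.leaf 0x668)))) (.node 4 (.node 2 (.node 1 (.leaf 0x669) (.leaf 0x66a)) (.node 1 (.leaf 0x66b) (.leaf 0x66c)))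 (.node 2 (.node 1 (.leaf 0x66d) (.leaf 0x66e)) (.node 1 (.leaf 0x66f) (.leaf 0x670))))) (.node 8 (.node 4 (.node 2 (.node 1 (.leaf 0x671) (.leaf 0x672)) (.node 1 (.leaf 0x673) (.leaf 0x674))) (.node 2 (.node 1 (.leaf 0x675) (.leaf 0x676)) (.node 1 (.leaf 0x677) (.leaf 0x678)))) (.node 4 (.node 2 (.node 1 (.leaf 0x679) (.leaf 0x67a)) (.node 1 (.leaf 0x67b) (.leaf 0x67c))) (.node 2 (.node 1 (.leaf 0x67d) (.leaf 0x67e)) (.node 1 (.leaf 0x67f) (.leaf 0x680)))))))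

def chainFPos0_13 : Tree :=
  .node 59 (.node 29 (.node 14 (.node 7 (.node 3 (.node 1 (.leaf 0x681) (.node 1 (.leaf 0x682) (.leaf 0x683))) (.node 2 (.node 1 (.leaf 0x684) (.leaf 0x685)) (.node 1 (.leaf 0x686) (.leaf 0x687)))) (.node 3 (.node 1 (.leaf 0x688) (.node 1 (.leaf 0x689) (.leaf 0x68a))) (.node 2 (.node 1 (.leaf 0x68b) (.leaf 0x68c)) (.node 1 (.leaf 0x68d) (.leaf 0x68e))))) (.node 7 (.node 3 (.node 1 (.leaf 0x68f) (.node 1 (.leaf 0x690) (.leaf 0x691))) (.node 2 (.node 1 (.leaf 0x692) (.leaf 0x693)) (.node 1 (.leaf 0x694) (.leaf 0x695)))) (.node 4 (.node 2 (.node 1 (.leaf 0x696) (.leaf 0x697)) (.node 1 (.leaf 0x698) (.leaf 0x699))) (.node 2 (.node 1 (.leaf 0x69a) (.leaf 0x69b)) (.node 1 (.leaf 0x69c) (.leaf 0x69d)))))) (.node 15 (.node 7 (.node 3 (.node 1 (.leaf 0x69e) (.node 1 (.leaf 0x69f) (.leaf 0x6a0))) (.node 2 (.node 1 (.leaf 0x6a1) (.leaf 0x6a2)) (.node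 1 (.leaf 0x6a3) (.leaf 0x6a4)))) (.node 4 (.node 2 (.node 1 (.leaf 0x6a5) (.leaf 0x6a6)) (.node 1 (.leaf 0x6a7) (.leaf 0x6a8))) (.node 2 (.node 1 (.leaf 0x6a9) (.leaf 0x6aa)) (.node 1 (.leaf 0x6ab) (.leaf 0x6ac))))) (.node 7 (.node 3 (.node 1 (.leaf 0x6ad) (.node 1 (.leaf 0x6ae) (.leaf 0x6af))) (.node 2 (.node 1 (.leaf 0x6b0) (.leaf 0x6b1)) (.node 1 (.leaf 0x6b2) (.leaf 0x6b3)))) (.node 4 (.node 2 (.node 1 (.leaf 0x6b4) (.leaf 0x6b5)) (.node 1 (.leaf 0x6b6) (.leaf 0x6b7))) (.node 2 (.node 1 (.leaf 0x6b8) (.leaf 0x6b9)) (.node 1 (.leaf 0x6ba) (.leaf 0x6bb))))))) (.node 29 (.node 14 (.node 7 (.node 3 (.node 1 (.leaf 0x6bc) (.node 1 (.leaf 0x6bd) (.leaf 0x6be))) (.node 2 (.node 1 (.leaf 0x6bf) (.leaf 0x6c0)) (.node 1 (.leaf 0x6c1) (.leaf 0x6c2)))) (.node 3 (.node 1 (.leaf 0x6c3) (.node 1 (.leaf 0x6c4) (.leaf 0x6c5))) (.node 2 (.node 1 (.leaf 0x6c6) (.leaf 0x6c7)) (.node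 1 (.leaf 0x6c8) (.leaf 0x6c9))))) (.node 7 (.node 3 (.node 1 (.leaf 0x6ca) (.node 1 (.leaf 0x6cb) (.leaf 0x6cc))) (.node 2 (.node 1 (.leaf 0x6cd) (.leaf 0x6ce)) (.node 1 (.leaf 0x6cf) (.leaf 0x6d0)))) (.node 4 (.node 2 (.node 1 (.leaf 0x6d1) (.leaf 0x6d2)) (.node 1 (.leaf 0x6d3) (.leaf 0x6d4))) (.node 2 (.node 1 (.leaf 0x6d5) (.leaf 0x6d6)) (.node 1 (.leaf 0x6d7) (.leaf 0x6d8)))))) (.node 15 (.node 7 (.node 3 (.node 1 (.leaf 0x6d9) (.node 1 (.leaf 0x6da) (.leaf 0x6db))) (.node 2 (.node 1 (.leaf 0x6dc) (.leaf 0x6dd)) (.node 1 (.leaf 0x6de) (.leaf 0x6df)))) (.node 4 (.node 2 (.node 1 (.leaf 0x6e0) (.leaf 0x6e1)) (.node 1 (.leaf 0x6e2) (.leaf 0x6e3))) (.node 2 (.node 1 (.leaf 0x6e4) (.leaf 0x6e5)) (.node 1 (.leaf 0x6e6) (.leaf 0x6e7))))) (.node 7 (.node 3 (.node 1 (.leaf 0x6e8) (.node 1 (.leaf 0x6e9) (.leaf 0x6ea))) (.node 2 (.node 1 (.leaf 0x6eb) (.leaf 0x6ec)) (.node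 1 (.leaf 0x6ed) (.leaf 0x6ee)))) (.node 4 (.node 2 (.node 1 (.leaf 0x6ef) (.leaf 0x6f0)) (.node 1 (.leaf 0x6f1) (.leaf 0x6f2))) (.node 2 (.node 1 (.leaf 0x6f3) (.leaf 0x6f4)) (.node 1 (.leaf 0x6f5) (.leaf 0x6f6)))))))

def chainFPos0 : Tree :=
  .node 896 (.node 384 (.node 128 (chainFPos0_0) (.node 128 (chainFPos0_1) (chainFPos0_2))) (.node 256 (.node 128 (chainFPos0_3) (chainFPos0_4)) (.node 128 (chainFPos0_5) (chainFPos0_6)))) (.node 384 (.node 128 (chainFPos0_7) (.node 128 (chainFPos0_8) (chainFPos0_9))) (.node 256 (.node 128 (chainFPos0_10) (chainFPos0_11)) (.node 128 (chainFPos0_12) (chainFPos0_13))))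

def chainF1_0 : List (List ℕ) :=
  [[0x543472612123451], [0x121562343265121], [0x721232623454321], [0x15432672345212], [0x7632123454321], [0x543216212654345], [0x32412623454321], [0x543276234521741, 0x21], [0x764234562342121, 0x21215432], [0x626327123454321, 0x3243], [0x35432762632745], [0x46312123454321], [0x247262345121741, 0x34543], [0x123454321], [0x326727326452741, 0x2354], [0x623726327121434, 0x4], [0x263274562341212, 0x3543276], [0x721345432745741, 0x54], [0x132723423454342, 0x54362], [0x234623454321], [0x512121234543212, 0x215432476234], [0x343454326452741, 0x562], [0x432123423452434, 0x2543], [0x326345272347121, 0x5437267], [0x343454327452741, 0x572], [0x263423123454321, 0x7236], [0x326412123454342, 0x2354], [0x432123423454342, 0x2543], [0x634517236263423, 0x54343263212], [0x632734562341212, 0x2543627], [0x742345234543212, 0x12154326], [0x121343262343121],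 [0x434212634543463, 0x5432], [0x273264123454321, 0x21217236], [0x362763273452434, 0x254], [0x732645272347121, 0x235432672], [0x321212672463423, 0x2123454], [0x324762345121741, 0x2154], [0x621423423454342, 0x4543], [0x215432674234512, 0x1], [0x273264123454321, 0x21217231], [0x524621326231264, 0x45432463212734], [0x45623432654], [0x121245623432654, 0x62372627], [0x321234234524342, 0x5434], [0x543276243274345, 0x4], [0x54721345432745], [0x345432726234521], [0x62372627121434], [0x623432651213463, 0x1215], [0x234523123454321, 0x2325432627], [0x347234543212], [0x324632127345434, 0x454], [0x723126462341212, 0x462132], [0x154324762345121, 0x2], [0x267231234342321, 0x1212764], [0x125437647326454, 0x2], [0x212741234534342, 0x2543], [0x234547236263423, 0x54347234267], [0x234621326231264, 0x23254326272345], [0x212641234543463, 0x5436], [0x234312162341212, 0x12134321], [0x345245623432654,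 0x454324632127], [0x451212123454321, 0x1543246723], [0x263453243412121, 0x54324327231], [], [0x263271232434321, 0x32436], [0x327121234543741, 0x5434], [0x123454321741], [0x326742345123463, 0x12154], [0x121343272343121], [0x524621326231264, 0x25432147534234], [0x543212751234345, 0x3], [0x247623451214342, 0x21543], [0x546237467345212, 0x4], [0x21234543212], [0x472623451212434, 0x345432], [0x454324732126345, 0x2], [0x254321274123453], [0x712121234543212, 0x46212], [0x472623451214342, 0x345432], [0x262345262342121, 0x3454327], [0x326452123454321, 0x2354326727], [0x276246721213463, 0x3], [0x424621327231264, 0x54362127342345], [0x121543276423451, 0x2], [0x124621321231264, 0x1212172312732], [0x325436272634523], [0x476374312123463, 0x2123], [0x272623452323463, 0x32543], [0x343265472347121, 0x4562], [0x562343265121741, 0x121], [0x741], [0x121343212343121], [0x434521234543212,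 0x454327624327], [0x623432643213463, 0x1234], [0x213437431213463, 0x1], [0x374673452123463, 0x45462], [0x212143262434], [0x327642345123461, 0x212154], [0x267321234543212], [0x273423123454321, 0x3243726], [0x726732634524342, 0x543], [0x263271234342321, 0x32436], [0x327231263453463, 0x54324], [0x312641232434321, 0x46213272], [0x121234523454321, 0x5434726], [0x354326727326452, 0x2], [0x434543264523463, 0x5623], [0x345121232434321, 0x12154326742], [0x476374312124342, 0x2123], [0x326726212143423, 0x32672], [0x343454327453461, 0x572], [0x467523432652434, 0x15432], [0x263453243412121, 0x24543247321], [0x645245623432654, 0x235432672732], [0x254362756234521], [0x432627234543741, 0x125], [0x347123463], [0x321465342345741, 0x54], [0x123627263214342], [0x454362142342345], [0x264123463], [0x263212634513463, 0x54343], [0x762727453423741, 0x5462], [0x543276423451741, 0x2121], [0x454326743423454,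 0x2], [0x723127326423461, 0x2121], [0x212345432123463], [0x512121234543212, 0x3454324726234], [0x273452123454321, 0x4543246321], [0x672345472347121, 0x543472342], [0x762745162342121, 0x32435462], [0x7236263423], [0x243726273423741, 0x3], [0x342345472347121, 0x254372126], [0x213212312643463, 0x46], [0x762345262342121, 0x215432], [0x274621326231264, 0x32436263], [0x237213271212741, 0x46], [0x1276262723463], [0x12672463423741], [0x627626276232434, 0x1], [0x214653423452434, 0x543], [0x623126434], [0x72321264342], [0x327627634232434], [0x4621321231264], [0x362372631212434, 0x121], [0x327626327452434, 0x354]]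

def chainF1_1 : List (List ℕ) :=
  [[0x126412345323463, 0x5432], [0x234543123454321, 0x5434327121], [0x723471213463], [0x273265623432654, 0x21217236], [0x454321465342345, 0x543472342672345], [0x213272312643463, 0x46], [0x543246752343265, 0x1], [0x372627134543212, 0x62], [0x324672345121434, 0x154], [0x434232162341212, 0x123], [0x623421262342121, 0x1], [0x247623451212434, 0x21543], [0x454726726453423, 0x543472342672345], [0x263271212143423, 0x32436], [0x263243726273423, 0x72321], [0x462343264321741, 0x123], [0x127342362341212, 0x1212172], [0x162342121], [0x343212343121741, 0x121], [0x423454162342121, 0x2543721263], [0x434231212143423, 0x12121], [0x354324712123452], [0x21543276234521], [0x345232762763423, 0x54343212342], [0x672345243412121, 0x5472362], [0x326723452123463, 0x154], [0x32437212743423], [0x72362634232434], [0x376473264542434, 0x21254], [0x726726453423741,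 0x54], [0x1234342321], [0x326723267261741], [0x432745162342121, 0x54721345], [0x721232612434], [0x327262345232741, 0x3254], [0x456234326542434], [0x54321465342345], [0x4621327231264], [0x727326212143423, 0x621], [0x543457236263423, 0x5432162126], [0x3463], [0x54726726453423], [0x723454162342121, 0x5434723426], [0x452121232434321, 0x154326723], [0x232123741], [0x321234234523463, 0x5434], [0x172127342323461, 0x1212], [0x72321262434], [0x23461], [0x16276326723741], [0x452321212143423, 0x32543272623], [0x621262342345741, 0x1543], [0x246321273453461, 0x4543], [0x1232434321], [0x624672132434321, 0x327], [0x623412123463], [0x72347121], [0x2321234342], [0x327457236263423, 0x547213454], [0x1623212723461], [0x1234543213463], [0x213721273121741, 0x1], [0x213621263121741, 0x1], [0x723627312124342, 0x21213], [0x123726273212741, 0x2], [0x372632712124342, 0x462], [0x342345123454321,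 0x54321465], [0x234512672463423, 0x5432146534], [0x137212731212434, 0x12], [0x543243421263454], [0x137212731214342, 0x12], [0x327643726273423, 0x162762], [0x276213243412121, 0x324364], [0x723626723453741, 0x54], [0x123454162342121, 0x543621264], [0x34712162342121], [0x32434121213463], [0x62341212], [0x234512672463423, 0x23543264121], [0x623451262342121, 0x345432472], [0x3243412121], [0x276342362341212, 0x3276], [0x543247262345121, 0x34], [0x12672463423], [0x762432743452434, 0x45432], [0x327262345212434, 0x3454], [0x262721212143423, 0x1276], [0x271212345432434, 0x54343], [0x372132712123463, 0x462], [0x634521232434321, 0x543726732], [0x312121232434321, 0x2123476374], [0x213437431212434, 0x1], [0x372132712121741, 0x212], [0x16237271262434], [0x246342362341212, 0x1267], [0x624327434523461, 0x454327], [0x267434234543463, 0x24543], [0x212623423452434, 0x15436], [0x327623452123461,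 0x2154], [0x267231212143423, 0x1212764], [0x434543274523463, 0x5723], [0x623432765423451, 0x5], [0x324367267232434], [0x712121232434321, 0x6237262], [0x162372623212434, 0x12], [0x472623451213463, 0x345432], [0x136237263121741, 0x12], [0x121721273423741, 0x12], [0x162126543453463, 0x5432], [0x147534234524342, 0x25432], [0x214621321231264, 0x345432472623451], [0x343212342345741, 0x254], [0x543621264123454], [0x247623451213463, 0x21543], [0x62123241], [0x1621423741], [0x623431262342121, 0x1213432], [0x32762763423], [0x254321465342345, 0x6234121], [0x732121232434321, 0x21237262], [0x4621326231264], [0x347121232434321], [0x451212672463423, 0x121543267423], [0x1234543212434], [0x212764267232434, 0x1], [0x634523243412121, 0x1543267532], [0x2346162341212], [0x354627627452434, 0x324], [0x217212734232434, 0x121], [0x4342], [0x2434], [0x32436726723741], [0x534237236263423, 0x54627627274],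 [0x321475342345434, 0x254], [0x212623423453463, 0x15436], [0x472726726452434, 0x32435], [0x72312723463], [0x264127236263423], [0x432657236263423, 0x15432467523], [0x432123423452741, 0x543], [0x214653423453463, 0x543], [0x16237271264342], [0x134374312123461, 0x12], [0x423452123454321, 0x2543214753], [0x162321272434], [0x462762727453423, 0x5], [0x12121721273423], [0x423454162342121, 0x2454326743], [0x121721273262434, 0x2], [0x672645342323461, 0x5472]]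

def chainF1_2 : List (List ℕ) :=
  [[0x214653423454342, 0x543], [0x12362726321741], [0x723127434], [0x324364276213463], [0x645342362341212, 0x5472672], [0x432674342345342, 0x245], [0x654621327231264, 0x15432467523432], [0x1212143423], [0x132712143423], [0x26731212143423], [0x276243274345741, 0x4543], [0x271212162341212, 0x3243721], [0x267532634523463, 0x1543], [0x345431212143423, 0x1254326272], [0x472623452143423, 0x345432], [0x12723212143423], [0x343262343121741, 0x121], [0x743271232434321, 0x121], [0x162762627623741], [0x212372627321434], [0x324364276212434], [0x234541232434321, 0x5436212641], [0x214753423452741, 0x2543], [0x2726267213463], [0x362312621214342, 0x12], [0x212345232434321, 0x54347261], [0x32672127623741], [0x642345212143423, 0x212154327], [0x263451232434321, 0x54324327231], [0x467523432654342, 0x15432], [0x467523432653463, 0x15432], [0x216212654345741,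 0x543], [0x172362732643463, 0x212], [0x412345472347121, 0x54362126], [0x263452162342121, 0x54372673], [0x3243726273423], [0x212634234542434, 0x25437], [0x212712172347121, 0x46], [0x324126172347121], [0x543214753423452, 0x2], [0x463423162342121, 0x12672], [0x234267234543463, 0x54347], [0x1272312434], [0x712121212143423, 0x6237262], [0x327654234512434, 0x56234], [0x462132434231264], [0x234312172347121, 0x12134321], [0x234541232434321, 0x54347234267], [0x645212672463423, 0x235432672732], [0x327262345213463, 0x3454], [0x127342345424342, 0x54362], [0x21217236273264], [0x1212143423741], [0x32412613463], [0x672672362341212, 0x3243], [0x432641212345741, 0x235], [0x434327121234543, 0x5], [0x712121234342321, 0x462372632], [0x7236263423741], [0x247321263453463, 0x24543], [0x343272343121741, 0x121], [0x263452162342121, 0x154326753], [0x162762327623741], [0x212641234542434, 0x5436],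 [0x12121434232434], [0x127231741], [0x162762727623741], [0x247623452143423, 0x21543], [0x327453243412121, 0x354327626], [0x327626732612434], [0x432627234523741, 0x2325], [0x762345132434321, 0x2154324], [0x621423423453463, 0x4543], [0x432654162342121, 0x45623], [0x345431234342321, 0x54343271212], [0x1234342321741], [0x267262672612434, 0x3], [0x267326212143423, 0x3276], [0x123454362341212, 0x543432712], [0x123262672463423, 0x72], [0x712123243412121, 0x6237262], [0x436272634523741, 0x325], [0x34632434], [0x6217273261741], [0x423452162342121, 0x543432123], [0x721327121212434, 0x2123], [0x234512162342121, 0x1215432674], [0x267264534232434, 0x547], [0x123126472347121, 0x462132], [0x437262734232434, 0x32], [0x463121232434321], [0x453243726273423, 0x4543621423423], [0x267312672463423], [0x267264572347121, 0x324354727], [0x432123431213463, 0x1213], [0x275123434523461, 0x354321],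 [0x327654234513463, 0x56234], [0x21217231273264], [0x634541212143423, 0x5432434212], [0x634231212143423, 0x72362], [0x212347637431212], [0x26732434], [0x62123272434], [0x162312623212434, 0x12], [0x452121232434321, 0x45462374673], [0x1623421213463], [0x172312732124342, 0x1212], [0x2743212143423], [0x672613243412121, 0x3267262], [0x345421232434321, 0x54362127342], [0x632712672463423, 0x324362], [0x121276426723741], [0x126345472347121, 0x54324342], [0x542345234342321, 0x562343276], [0x434232172347121, 0x123], [0x271261212143423, 0x16237]]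

def chainF1 : List (List ℕ) := unchunk ((chainF1_0 ++ (chainF1_1 ++ chainF1_2)))

def chainFPos1_0 : Tree :=
  .node 64 (.node 32 (.node 16 (.node 8 (.node 4 (.node 2 (.node 1 (.leaf 0x0) (.leaf 0x0)) (.node 1 (.leaf 0x0) (.leaf 0x0))) (.node 2 (.node 1 (.leaf 0x1) (.leaf 0x2)) (.node 1 (.leaf 0x3) (.leaf 0x0)))) (.node 4 (.node 2 (.node 1 (.leaf 0x0) (.leaf 0x4)) (.node 1 (.leaf 0x0) (.leaf 0x5))) (.node 2 (.node 1 (.leaf 0x6) (.leaf 0x7)) (.node 1 (.leaf 0x0) (.leaf 0x8))))) (.node 8 (.node 4 (.node 2 (.node 1 (.leaf 0x0) (.leaf 0x0)) (.node 1 (.leaf 0x0) (.leaf 0x0))) (.node 2 (.node 1 (.leaf 0x0) (.leaf 0x0)) (.node 1 (.leaf 0x0) (.leaf 0x9)))) (.node 4 (.node 2 (.node 1 (.leaf 0x0) (.leaf 0x0)) (.node 1 (.leaf 0x0) (.leaf 0x0))) (.node 2 (.node 1 (.leaf 0x0) (.leaf 0xa)) (.node 1 (.leaf 0xb) (.leaf 0xc)))))) (.node 16 (.node 8 (.node 4 (.node 2 (.node 1 (.leaf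 0x0) (.leaf 0x0)) (.node 1 (.leaf 0xd) (.leaf 0x0))) (.node 2 (.node 1 (.leaf 0xe) (.leaf 0x0)) (.node 1 (.leaf 0x0) (.leaf 0x0)))) (.node 4 (.node 2 (.node 1 (.leaf 0x0) (.leaf 0x0)) (.node 1 (.leaf 0xf) (.leaf 0x0))) (.node 2 (.node 1 (.leaf 0x0) (.leaf 0x10)) (.node 1 (.leaf 0x11) (.leaf 0x0))))) (.node 8 (.node 4 (.node 2 (.node 1 (.leaf 0x0) (.leaf 0x0)) (.node 1 (.leaf 0x0) (.leaf 0x0))) (.node 2 (.node 1 (.leaf 0x0) (.leaf 0x0)) (.node 1 (.leaf 0x0) (.leaf 0x12)))) (.node 4 (.node 2 (.node 1 (.leaf 0x13) (.leaf 0x0)) (.node 1 (.leaf 0x0) (.leaf 0x0))) (.node 2 (.node 1 (.leaf 0x14) (.leaf 0x0)) (.node 1 (.leaf 0x15) (.leaf 0x0))))))) (.node 32 (.node 16 (.node 8 (.node 4 (.node 2 (.node 1 (.leaf 0x16) (.leaf 0x0)) (.node 1 (.leaf 0x0) (.leaf 0x0))) (.node 2 (.node 1 (.leaf 0x0) (.leaf 0x0)) (.node 1 (.leaf 0x0) (.leaf 0x17)))) (.node 4 (.node 2 (.node 1 (.leaf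 0x0) (.leaf 0x0)) (.node 1 (.leaf 0x0) (.leaf 0x0))) (.node 2 (.node 1 (.leaf 0x18) (.leaf 0x0)) (.node 1 (.leaf 0x0) (.leaf 0x0))))) (.node 8 (.node 4 (.node 2 (.node 1 (.leaf 0x0) (.leaf 0x19)) (.node 1 (.leaf 0x1a) (.leaf 0x0))) (.node 2 (.node 1 (.leaf 0x0) (.leaf 0x0)) (.node 1 (.leaf 0x0) (.leaf 0x0)))) (.node 4 (.node 2 (.node 1 (.leaf 0x0) (.leaf 0x1b)) (.node 1 (.leaf 0x0) (.leaf 0x0))) (.node 2 (.node 1 (.leaf 0x1c) (.leaf 0x0)) (.node 1 (.leaf 0x0) (.leaf 0x0)))))) (.node 16 (.node 8 (.node 4 (.node 2 (.node 1 (.leaf 0x1d) (.leaf 0x0)) (.node 1 (.leaf 0x0) (.leaf 0x1e))) (.node 2 (.node 1 (.leaf 0x0) (.leaf 0x0)) (.node 1 (.leaf 0x0) (.leaf 0x0)))) (.node 4 (.node 2 (.node 1 (.leaf 0x1f) (.leaf 0x0)) (.node 1 (.leaf 0x0) (.leaf 0x0))) (.node 2 (.node 1 (.leaf 0x0) (.leaf 0x0)) (.node 1 (.leaf 0x20) (.leaf 0x21))))) (.node 8 (.node 4 (.node 2 (.node 1 (.leaf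 0x0) (.leaf 0x0)) (.node 1 (.leaf 0x0) (.leaf 0x0))) (.node 2 (.node 1 (.leaf 0x0) (.leaf 0x22)) (.node 1 (.leaf 0x23) (.leaf 0x0)))) (.node 4 (.node 2 (.node 1 (.leaf 0x0) (.leaf 0x0)) (.node 1 (.leaf 0x24) (.leaf 0x0))) (.node 2 (.node 1 (.leaf 0x0) (.leaf 0x0)) (.node 1 (.leaf 0x0) (.leaf 0x0)))))))

def chainFPos1_1 : Tree :=
  .node 64 (.node 32 (.node 16 (.node 8 (.node 4 (.node 2 (.node 1 (.leaf 0x0) (.leaf 0x0)) (.node 1 (.leaf 0x0) (.leaf 0x0))) (.node 2 (.node 1 (.leaf 0x0) (.leaf 0x0)) (.node 1 (.leaf 0x0) (.leaf 0x0)))) (.node 4 (.node 2 (.node 1 (.leaf 0x25) (.leaf 0x0)) (.node 1 (.leaf 0x0) (.leaf 0x26))) (.node 2 (.node 1 (.leaf 0x0) (.leaf 0x0)) (.node 1 (.leaf 0x0) (.leaf 0x27))))) (.node 8 (.node 4 (.node 2 (.node 1 (.leaf 0x28) (.leaf 0x0)) (.node 1 (.leaf 0x29) (.leaf 0x0))) (.node 2 (.node 1 (.leaf 0x0) (.leaf 0x0)) (.node 1 (.leaf 0x0) (.leaf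 0x0)))) (.node 4 (.node 2 (.node 1 (.leaf 0x0) (.leaf 0x0)) (.node 1 (.leaf 0x2a) (.leaf 0x0))) (.node 2 (.node 1 (.leaf 0x2b) (.leaf 0x0)) (.node 1 (.leaf 0x0) (.leaf 0x0)))))) (.node 16 (.node 8 (.node 4 (.node 2 (.node 1 (.leaf 0x0) (.leaf 0x0)) (.node 1 (.leaf 0x0) (.leaf 0x0))) (.node 2 (.node 1 (.leaf 0x0) (.leaf 0x0)) (.node 1 (.leaf 0x0) (.leaf 0x0)))) (.node 4 (.node 2 (.node 1 (.leaf 0x2c) (.leaf 0x0)) (.node 1 (.leaf 0x0) (.leaf 0x0))) (.node 2 (.node 1 (.leaf 0x0) (.leaf 0x2d)) (.node 1 (.leaf 0x0) (.leaf 0x0))))) (.node 8 (.node 4 (.node 2 (.node 1 (.leaf 0x2e) (.leaf 0x2f)) (.node 1 (.leaf 0x0) (.leaf 0x0))) (.node 2 (.node 1 (.leaf 0x30) (.leaf 0x0)) (.node 1 (.leaf 0x0) (.leaf 0x0)))) (.node 4 (.node 2 (.node 1 (.leaf 0x31) (.leaf 0x0)) (.node 1 (.leaf 0x0) (.leaf 0x0))) (.node 2 (.node 1 (.leaf 0x0) (.leaf 0x0)) (.node 1 (.leaf 0x0) (.leaf 0x32)))))))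 (.node 32 (.node 16 (.node 8 (.node 4 (.node 2 (.node 1 (.leaf 0x0) (.leaf 0x0)) (.node 1 (.leaf 0x0) (.leaf 0x0))) (.node 2 (.node 1 (.leaf 0x0) (.leaf 0x33)) (.node 1 (.leaf 0x0) (.leaf 0x0)))) (.node 4 (.node 2 (.node 1 (.leaf 0x34) (.leaf 0x0)) (.node 1 (.leaf 0x0) (.leaf 0x0))) (.node 2 (.node 1 (.leaf 0x35) (.leaf 0x36)) (.node 1 (.leaf 0x0) (.leaf 0x0))))) (.node 8 (.node 4 (.node 2 (.node 1 (.leaf 0x0) (.leaf 0x37)) (.node 1 (.leaf 0x0) (.leaf 0x0))) (.node 2 (.node 1 (.leaf 0x0) (.leaf 0x0)) (.node 1 (.leaf 0x0) (.leaf 0x0)))) (.node 4 (.node 2 (.node 1 (.leaf 0x38) (.leaf 0x39)) (.node 1 (.leaf 0x0) (.leaf 0x0))) (.node 2 (.node 1 (.leaf 0x0) (.leaf 0x0)) (.node 1 (.leaf 0x3a) (.leaf 0x3b)))))) (.node 16 (.node 8 (.node 4 (.node 2 (.node 1 (.leaf 0x0) (.leaf 0x0)) (.node 1 (.leaf 0x0) (.leaf 0x0))) (.node 2 (.node 1 (.leaf 0x3c) (.leaf 0x0)) (.node 1 (.leaf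 0x0) (.leaf 0x0)))) (.node 4 (.node 2 (.node 1 (.leaf 0x3d) (.leaf 0x0)) (.node 1 (.leaf 0x0) (.leaf 0x0))) (.node 2 (.node 1 (.leaf 0x3e) (.leaf 0x3f)) (.node 1 (.leaf 0x0) (.leaf 0x0))))) (.node 8 (.node 4 (.node 2 (.node 1 (.leaf 0x40) (.leaf 0x0)) (.node 1 (.leaf 0x0) (.leaf 0x0))) (.node 2 (.node 1 (.leaf 0x0) (.leaf 0x0)) (.node 1 (.leaf 0x0) (.leaf 0x0)))) (.node 4 (.node 2 (.node 1 (.leaf 0x0) (.leaf 0x0)) (.node 1 (.leaf 0x0) (.leaf 0x41))) (.node 2 (.node 1 (.leaf 0x42) (.leaf 0x43)) (.node 1 (.leaf 0x0) (.leaf 0x0)))))))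

def chainFPos1_2 : Tree :=
  .node 64 (.node 32 (.node 16 (.node 8 (.node 4 (.node 2 (.node 1 (.leaf 0x44) (.leaf 0x0)) (.node 1 (.leaf 0x0) (.leaf 0x0))) (.node 2 (.node 1 (.leaf 0x0) (.leaf 0x0)) (.node 1 (.leaf 0x45) (.leaf 0x0)))) (.node 4 (.node 2 (.node 1 (.leaf 0x0) (.leaf 0x0)) (.node 1 (.leaf 0x0) (.leaf 0x0))) (.node 2 (.node 1 (.leaf 0x0) (.leaf 0x0)) (.node 1 (.leaf 0x0) (.leaf 0x46))))) (.node 8 (.node 4 (.node 2 (.node 1 (.leaf 0x0) (.leaf 0x0)) (.node 1 (.leaf 0x47) (.leaf 0x0))) (.node 2 (.node 1 (.leaf 0x0) (.leaf 0x48)) (.node 1 (.leaf 0x0) (.leaf 0x49)))) (.node 4 (.node 2 (.node 1 (.leaf 0x4a) (.leaf 0x0)) (.node 1 (.leaf 0x0) (.leaf 0x0))) (.node 2 (.node 1 (.leaf 0x0) (.leaf 0x0)) (.node 1 (.leaf 0x0) (.leaf 0x0)))))) (.node 16 (.node 8 (.node 4 (.node 2 (.node 1 (.leaf 0x0) (.leaf 0x0)) (.node 1 (.leaf 0x0) (.leaf 0x0))) (.node 2 (.node 1 (.leaf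 0x4b) (.leaf 0x4c)) (.node 1 (.leaf 0x0) (.leaf 0x0)))) (.node 4 (.node 2 (.node 1 (.leaf 0x4d) (.leaf 0x0)) (.node 1 (.leaf 0x0) (.leaf 0x0))) (.node 2 (.node 1 (.leaf 0x0) (.leaf 0x0)) (.node 1 (.leaf 0x0) (.leaf 0x0))))) (.node 8 (.node 4 (.node 2 (.node 1 (.leaf 0x0) (.leaf 0x0)) (.node 1 (.leaf 0x0) (.leaf 0x0))) (.node 2 (.node 1 (.leaf 0x0) (.leaf 0x0)) (.node 1 (.leaf 0x0) (.leaf 0x0)))) (.node 4 (.node 2 (.node 1 (.leaf 0x0) (.leaf 0x0)) (.node 1 (.leaf 0x0) (.leaf 0x0))) (.node 2 (.node 1 (.leaf 0x4e) (.leaf 0x4f)) (.node 1 (.leaf 0x50) (.leaf 0x0))))))) (.node 32 (.node 16 (.node 8 (.node 4 (.node 2 (.node 1 (.leaf 0x0) (.leaf 0x0)) (.node 1 (.leaf 0x0) (.leaf 0x0))) (.node 2 (.node 1 (.leaf 0x0) (.leaf 0x0)) (.node 1 (.leaf 0x51) (.leaf 0x52)))) (.node 4 (.node 2 (.node 1 (.leaf 0x0) (.leaf 0x0)) (.node 1 (.leaf 0x0) (.leaf 0x0))) (.node 2 (.node 1 (.leaf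 0x0) (.leaf 0x0)) (.node 1 (.leaf 0x0) (.leaf 0x0))))) (.node 8 (.node 4 (.node 2 (.node 1 (.leaf 0x0) (.leaf 0x0)) (.node 1 (.leaf 0x0) (.leaf 0x0))) (.node 2 (.node 1 (.leaf 0x53) (.leaf 0x54)) (.node 1 (.leaf 0x0) (.leaf 0x0)))) (.node 4 (.node 2 (.node 1 (.leaf 0x0) (.leaf 0x0)) (.node 1 (.leaf 0x0) (.leaf 0x55))) (.node 2 (.node 1 (.leaf 0x0) (.leaf 0x0)) (.node 1 (.leaf 0x0) (.leaf 0x0)))))) (.node 16 (.node 8 (.node 4 (.node 2 (.node 1 (.leaf 0x0) (.leaf 0x0)) (.node 1 (.leaf 0x0) (.leaf 0x0))) (.node 2 (.node 1 (.leaf 0x0) (.leaf 0x56)) (.node 1 (.leaf 0x0) (.leaf 0x0)))) (.node 4 (.node 2 (.node 1 (.leaf 0x57) (.leaf 0x0)) (.node 1 (.leaf 0x0) (.leaf 0x0))) (.node 2 (.node 1 (.leaf 0x0) (.leaf 0x0)) (.node 1 (.leaf 0x58) (.leaf 0x0))))) (.node 8 (.node 4 (.node 2 (.node 1 (.leaf 0x0) (.leaf 0x0)) (.node 1 (.leaf 0x59) (.leaf 0x0))) (.node 2 (.node 1 (.leaf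 0x0) (.leaf 0x5a)) (.node 1 (.leaf 0x0) (.leaf 0x5b)))) (.node 4 (.node 2 (.node 1 (.leaf 0x0) (.leaf 0x0)) (.node 1 (.leaf 0x0) (.leaf 0x5c))) (.node 2 (.node 1 (.leaf 0x0) (.leaf 0x5d)) (.node 1 (.leaf 0x0) (.leaf 0x5e)))))))

def chainFPos1_3 : Tree :=
  .node 64 (.node 32 (.node 16 (.node 8 (.node 4 (.node 2 (.node 1 (.leaf 0x0) (.leaf 0x0)) (.node 1 (.leaf 0x5f) (.leaf 0x0))) (.node 2 (.node 1 (.leaf 0x0) (.leaf 0x0)) (.node 1 (.leaf 0x60) (.leaf 0x61)))) (.node 4 (.node 2 (.node 1 (.leaf 0x0) (.leaf 0x0)) (.node 1 (.leaf 0x0) (.leaf 0x0))) (.node 2 (.node 1 (.leaf 0x0) (.leaf 0x62)) (.node 1 (.leaf 0x0) (.leaf 0x0))))) (.node 8 (.node 4 (.node 2 (.node 1 (.leaf 0x0) (.leaf 0x0)) (.node 1 (.leaf 0x0) (.leaf 0x0))) (.node 2 (.node 1 (.leaf 0x0) (.leaf 0x63)) (.node 1 (.leaf 0x0) (.leaf 0x64)))) (.node 4 (.node 2 (.node 1 (.leaf 0x0) (.leaf 0x0)) (.node 1 (.leaf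 0x0) (.leaf 0x0))) (.node 2 (.node 1 (.leaf 0x0) (.leaf 0x0)) (.node 1 (.leaf 0x0) (.leaf 0x65)))))) (.node 16 (.node 8 (.node 4 (.node 2 (.node 1 (.leaf 0x66) (.leaf 0x0)) (.node 1 (.leaf 0x0) (.leaf 0x0))) (.node 2 (.node 1 (.leaf 0x0) (.leaf 0x67)) (.node 1 (.leaf 0x68) (.leaf 0x0)))) (.node 4 (.node 2 (.node 1 (.leaf 0x0) (.leaf 0x0)) (.node 1 (.leaf 0x0) (.leaf 0x0))) (.node 2 (.node 1 (.leaf 0x0) (.leaf 0x69)) (.node 1 (.leaf 0x0) (.leaf 0x0))))) (.node 8 (.node 4 (.node 2 (.node 1 (.leaf 0x6a) (.leaf 0x0)) (.node 1 (.leaf 0x6b) (.leaf 0x0))) (.node 2 (.node 1 (.leaf 0x0) (.leaf 0x0)) (.node 1 (.leaf 0x6c) (.leaf 0x0)))) (.node 4 (.node 2 (.node 1 (.leaf 0x0) (.leaf 0x0)) (.node 1 (.leaf 0x6d) (.leaf 0x6e))) (.node 2 (.node 1 (.leaf 0x6f) (.leaf 0x70)) (.node 1 (.leaf 0x0) (.leaf 0x0))))))) (.node 32 (.node 16 (.node 8 (.node 4 (.node 2 (.node 1 (.leaf 0x71)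 (.leaf 0x0)) (.node 1 (.leaf 0x0) (.leaf 0x0))) (.node 2 (.node 1 (.leaf 0x0) (.leaf 0x0)) (.node 1 (.leaf 0x0) (.leaf 0x0)))) (.node 4 (.node 2 (.node 1 (.leaf 0x0) (.leaf 0x72)) (.node 1 (.leaf 0x0) (.leaf 0x73))) (.node 2 (.node 1 (.leaf 0x0) (.leaf 0x0)) (.node 1 (.leaf 0x0) (.leaf 0x0))))) (.node 8 (.node 4 (.node 2 (.node 1 (.leaf 0x0) (.leaf 0x0)) (.node 1 (.leaf 0x0) (.leaf 0x74))) (.node 2 (.node 1 (.leaf 0x0) (.leaf 0x0)) (.node 1 (.leaf 0x0) (.leaf 0x0)))) (.node 4 (.node 2 (.node 1 (.leaf 0x0) (.leaf 0x0)) (.node 1 (.leaf 0x75) (.leaf 0x0))) (.node 2 (.node 1 (.leaf 0x0) (.leaf 0x76)) (.node 1 (.leaf 0x0) (.leaf 0x77)))))) (.node 16 (.node 8 (.node 4 (.node 2 (.node 1 (.leaf 0x0) (.leaf 0x0)) (.node 1 (.leaf 0x0) (.leaf 0x78))) (.node 2 (.node 1 (.leaf 0x79) (.leaf 0x0)) (.node 1 (.leaf 0x0) (.leaf 0x0)))) (.node 4 (.node 2 (.node 1 (.leaf 0x0) (.leaf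 0x7a)) (.node 1 (.leaf 0x0) (.leaf 0x0))) (.node 2 (.node 1 (.leaf 0x7b) (.leaf 0x0)) (.node 1 (.leaf 0x0) (.leaf 0x0))))) (.node 8 (.node 4 (.node 2 (.node 1 (.leaf 0x0) (.leaf 0x0)) (.node 1 (.leaf 0x0) (.leaf 0x7c))) (.node 2 (.node 1 (.leaf 0x0) (.leaf 0x7d)) (.node 1 (.leaf 0x0) (.leaf 0x0)))) (.node 4 (.node 2 (.node 1 (.leaf 0x0) (.leaf 0x0)) (.node 1 (.leaf 0x7e) (.leaf 0x0))) (.node 2 (.node 1 (.leaf 0x7f) (.leaf 0x0)) (.node 1 (.leaf 0x0) (.leaf 0x80)))))))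

def chainFPos1_4 : Tree :=
  .node 64 (.node 32 (.node 16 (.node 8 (.node 4 (.node 2 (.node 1 (.leaf 0x0) (.leaf 0x0)) (.node 1 (.leaf 0x0) (.leaf 0x81))) (.node 2 (.node 1 (.leaf 0x82) (.leaf 0x83)) (.node 1 (.leaf 0x0) (.leaf 0x0)))) (.node 4 (.node 2 (.node 1 (.leaf 0x0) (.leaf 0x0)) (.node 1 (.leaf 0x84) (.leaf 0x85))) (.node 2 (.node 1 (.leaf 0x0) (.leaf 0x0)) (.node 1 (.leaf 0x86) (.leaf 0x0))))) (.node 8 (.node 4 (.node 2 (.node 1 (.leaf 0x0) (.leaf 0x0)) (.node 1 (.leaf 0x0) (.leaf 0x0))) (.node 2 (.node 1 (.leaf 0x0) (.leaf 0x87)) (.node 1 (.leaf 0x0) (.leaf 0x0)))) (.node 4 (.node 2 (.node 1 (.leaf 0x0) (.leaf 0x0)) (.node 1 (.leaf 0x0) (.leaf 0x88))) (.node 2 (.node 1 (.leaf 0x0) (.leaf 0x0)) (.node 1 (.leaf 0x0) (.leaf 0x0)))))) (.node 16 (.node 8 (.node 4 (.node 2 (.node 1 (.leaf 0x0) (.leaf 0x0)) (.node 1 (.leaf 0x89) (.leaf 0x0))) (.node 2 (.node 1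 (.leaf 0x8a) (.leaf 0x0)) (.node 1 (.leaf 0x8b) (.leaf 0x0)))) (.node 4 (.node 2 (.node 1 (.leaf 0x0) (.leaf 0x0)) (.node 1 (.leaf 0x0) (.leaf 0x0))) (.node 2 (.node 1 (.leaf 0x8c) (.leaf 0x0)) (.node 1 (.leaf 0x8d) (.leaf 0x8e))))) (.node 8 (.node 4 (.node 2 (.node 1 (.leaf 0x0) (.leaf 0x0)) (.node 1 (.leaf 0x0) (.leaf 0x8f))) (.node 2 (.node 1 (.leaf 0x90) (.leaf 0x0)) (.node 1 (.leaf 0x0) (.leaf 0x0)))) (.node 4 (.node 2 (.node 1 (.leaf 0x0) (.leaf 0x0)) (.node 1 (.leaf 0x0) (.leaf 0x91))) (.node 2 (.node 1 (.leaf 0x92) (.leaf 0x0)) (.node 1 (.leaf 0x0) (.leaf 0x0))))))) (.node 32 (.node 16 (.node 8 (.node 4 (.node 2 (.node 1 (.leaf 0x0) (.leaf 0x0)) (.node 1 (.leaf 0x0) (.leaf 0x0))) (.node 2 (.node 1 (.leaf 0x0) (.leaf 0x0)) (.node 1 (.leaf 0x93) (.leaf 0x94)))) (.node 4 (.node 2 (.node 1 (.leaf 0x0) (.leaf 0x0)) (.node 1 (.leaf 0x0) (.leaf 0x0))) (.node 2 (.node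 1 (.leaf 0x0) (.leaf 0x0)) (.node 1 (.leaf 0x95) (.leaf 0x0))))) (.node 8 (.node 4 (.node 2 (.node 1 (.leaf 0x96) (.leaf 0x0)) (.node 1 (.leaf 0x0) (.leaf 0x97))) (.node 2 (.node 1 (.leaf 0x0) (.leaf 0x0)) (.node 1 (.leaf 0x0) (.leaf 0x98)))) (.node 4 (.node 2 (.node 1 (.leaf 0x0) (.leaf 0x0)) (.node 1 (.leaf 0x99) (.leaf 0x0))) (.node 2 (.node 1 (.leaf 0x0) (.leaf 0x0)) (.node 1 (.leaf 0x9a) (.leaf 0x0)))))) (.node 16 (.node 8 (.node 4 (.node 2 (.node 1 (.leaf 0x9b) (.leaf 0x9c)) (.node 1 (.leaf 0x0) (.leaf 0x0))) (.node 2 (.node 1 (.leaf 0x9d) (.leaf 0x0)) (.node 1 (.leaf 0x9e) (.leaf 0x0)))) (.node 4 (.node 2 (.node 1 (.leaf 0x0) (.leaf 0x0)) (.node 1 (.leaf 0x0) (.leaf 0x9f))) (.node 2 (.node 1 (.leaf 0x0) (.leaf 0x0)) (.node 1 (.leaf 0xa0) (.leaf 0x0))))) (.node 8 (.node 4 (.node 2 (.node 1 (.leaf 0xa1) (.leaf 0x0)) (.node 1 (.leaf 0x0) (.leaf 0x0))) (.node 2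 (.node 1 (.leaf 0x0) (.leaf 0x0)) (.node 1 (.leaf 0x0) (.leaf 0x0)))) (.node 4 (.node 2 (.node 1 (.leaf 0x0) (.leaf 0x0)) (.node 1 (.leaf 0x0) (.leaf 0x0))) (.node 2 (.node 1 (.leaf 0x0) (.leaf 0x0)) (.node 1 (.leaf 0xa2) (.leaf 0x0)))))))

def chainFPos1_5 : Tree :=
  .node 64 (.node 32 (.node 16 (.node 8 (.node 4 (.node 2 (.node 1 (.leaf 0x0) (.leaf 0x0)) (.node 1 (.leaf 0xa3) (.leaf 0x0))) (.node 2 (.node 1 (.leaf 0x0) (.leaf 0x0)) (.node 1 (.leaf 0x0) (.leaf 0xa4)))) (.node 4 (.node 2 (.node 1 (.leaf 0x0) (.leaf 0x0)) (.node 1 (.leaf 0x0) (.leaf 0x0))) (.node 2 (.node 1 (.leaf 0x0) (.leaf 0x0)) (.node 1 (.leaf 0xa5) (.leaf 0xa6))))) (.node 8 (.node 4 (.node 2 (.node 1 (.leaf 0x0) (.leaf 0x0)) (.node 1 (.leaf 0x0) (.leaf 0x0))) (.node 2 (.node 1 (.leaf 0xa7) (.leaf 0x0)) (.node 1 (.leaf 0x0) (.leaf 0xa8)))) (.node 4 (.node 2 (.node 1 (.leaf 0xa9) (.leaf 0x0)) (.node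 1 (.leaf 0x0) (.leaf 0x0))) (.node 2 (.node 1 (.leaf 0x0) (.leaf 0x0)) (.node 1 (.leaf 0xaa) (.leaf 0x0)))))) (.node 16 (.node 8 (.node 4 (.node 2 (.node 1 (.leaf 0xab) (.leaf 0x0)) (.node 1 (.leaf 0x0) (.leaf 0x0))) (.node 2 (.node 1 (.leaf 0x0) (.leaf 0x0)) (.node 1 (.leaf 0x0) (.leaf 0x0)))) (.node 4 (.node 2 (.node 1 (.leaf 0x0) (.leaf 0x0)) (.node 1 (.leaf 0x0) (.leaf 0x0))) (.node 2 (.node 1 (.leaf 0x0) (.leaf 0x0)) (.node 1 (.leaf 0x0) (.leaf 0x0))))) (.node 8 (.node 4 (.node 2 (.node 1 (.leaf 0x0) (.leaf 0xac)) (.node 1 (.leaf 0xad) (.leaf 0x0))) (.node 2 (.node 1 (.leaf 0xae) (.leaf 0x0)) (.node 1 (.leaf 0xaf) (.leaf 0x0)))) (.node 4 (.node 2 (.node 1 (.leaf 0xb0) (.leaf 0x0)) (.node 1 (.leaf 0x0) (.leaf 0x0))) (.node 2 (.node 1 (.leaf 0x0) (.leaf 0x0)) (.node 1 (.leaf 0x0) (.leaf 0x0))))))) (.node 32 (.node 16 (.node 8 (.node 4 (.node 2 (.node 1 (.leaf 0x0)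 (.leaf 0x0)) (.node 1 (.leaf 0xb1) (.leaf 0x0))) (.node 2 (.node 1 (.leaf 0x0) (.leaf 0xb2)) (.node 1 (.leaf 0x0) (.leaf 0x0)))) (.node 4 (.node 2 (.node 1 (.leaf 0x0) (.leaf 0xb3)) (.node 1 (.leaf 0x0) (.leaf 0x0))) (.node 2 (.node 1 (.leaf 0x0) (.leaf 0xb4)) (.node 1 (.leaf 0xb5) (.leaf 0x0))))) (.node 8 (.node 4 (.node 2 (.node 1 (.leaf 0x0) (.leaf 0xb6)) (.node 1 (.leaf 0x0) (.leaf 0x0))) (.node 2 (.node 1 (.leaf 0x0) (.leaf 0x0)) (.node 1 (.leaf 0xb7) (.leaf 0x0)))) (.node 4 (.node 2 (.node 1 (.leaf 0xb8) (.leaf 0x0)) (.node 1 (.leaf 0x0) (.leaf 0x0))) (.node 2 (.node 1 (.leaf 0xb9) (.leaf 0xba)) (.node 1 (.leaf 0xbb) (.leaf 0x0)))))) (.node 16 (.node 8 (.node 4 (.node 2 (.node 1 (.leaf 0x0) (.leaf 0x0)) (.node 1 (.leaf 0x0) (.leaf 0x0))) (.node 2 (.node 1 (.leaf 0x0) (.leaf 0xbc)) (.node 1 (.leaf 0x0) (.leaf 0x0)))) (.node 4 (.node 2 (.node 1 (.leaf 0x0) (.leaf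 0x0)) (.node 1 (.leaf 0x0) (.leaf 0xbd))) (.node 2 (.node 1 (.leaf 0x0) (.leaf 0x0)) (.node 1 (.leaf 0x0) (.leaf 0xbe))))) (.node 8 (.node 4 (.node 2 (.node 1 (.leaf 0x0) (.leaf 0x0)) (.node 1 (.leaf 0xbf) (.leaf 0xc0))) (.node 2 (.node 1 (.leaf 0x0) (.leaf 0xc1)) (.node 1 (.leaf 0x0) (.leaf 0x0)))) (.node 4 (.node 2 (.node 1 (.leaf 0x0) (.leaf 0x0)) (.node 1 (.leaf 0x0) (.leaf 0x0))) (.node 2 (.node 1 (.leaf 0xc2) (.leaf 0x0)) (.node 1 (.leaf 0x0) (.leaf 0x0)))))))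

def chainFPos1_6 : Tree :=
  .node 64 (.node 32 (.node 16 (.node 8 (.node 4 (.node 2 (.node 1 (.leaf 0x0) (.leaf 0x0)) (.node 1 (.leaf 0xc3) (.leaf 0xc4))) (.node 2 (.node 1 (.leaf 0xc5) (.leaf 0x0)) (.node 1 (.leaf 0x0) (.leaf 0xc6)))) (.node 4 (.node 2 (.node 1 (.leaf 0x0) (.leaf 0x0)) (.node 1 (.leaf 0xc7) (.leaf 0x0))) (.node 2 (.node 1 (.leaf 0x0) (.leaf 0x0)) (.node 1 (.leaf 0x0) (.leaf 0x0))))) (.node 8 (.node 4 (.node 2 (.node 1 (.leaf 0x0) (.leaf 0xc8)) (.node 1 (.leaf 0x0) (.leaf 0x0))) (.node 2 (.node 1 (.leaf 0x0) (.leaf 0x0)) (.node 1 (.leaf 0x0) (.leaf 0x0)))) (.node 4 (.node 2 (.node 1 (.leaf 0xc9) (.leaf 0x0)) (.node 1 (.leaf 0x0) (.leaf 0x0))) (.node 2 (.node 1 (.leaf 0x0) (.leaf 0x0)) (.node 1 (.leaf 0x0) (.leaf 0x0)))))) (.node 16 (.node 8 (.node 4 (.node 2 (.node 1 (.leaf 0x0) (.leaf 0x0)) (.node 1 (.leaf 0x0) (.leaf 0x0))) (.node 2 (.node 1 (.leaf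 0x0) (.leaf 0x0)) (.node 1 (.leaf 0xca) (.leaf 0x0)))) (.node 4 (.node 2 (.node 1 (.leaf 0xcb) (.leaf 0x0)) (.node 1 (.leaf 0x0) (.leaf 0x0))) (.node 2 (.node 1 (.leaf 0x0) (.leaf 0x0)) (.node 1 (.leaf 0xcc) (.leaf 0xcd))))) (.node 8 (.node 4 (.node 2 (.node 1 (.leaf 0x0) (.leaf 0x0)) (.node 1 (.leaf 0xce) (.leaf 0x0))) (.node 2 (.node 1 (.leaf 0x0) (.leaf 0x0)) (.node 1 (.leaf 0x0) (.leaf 0x0)))) (.node 4 (.node 2 (.node 1 (.leaf 0xcf) (.leaf 0x0)) (.node 1 (.leaf 0x0) (.leaf 0xd0))) (.node 2 (.node 1 (.leaf 0x0) (.leaf 0x0)) (.node 1 (.leaf 0x0) (.leaf 0x0))))))) (.node 32 (.node 16 (.node 8 (.node 4 (.node 2 (.node 1 (.leaf 0x0) (.leaf 0x0)) (.node 1 (.leaf 0x0) (.leaf 0x0))) (.node 2 (.node 1 (.leaf 0x0) (.leaf 0xd1)) (.node 1 (.leaf 0x0) (.leaf 0x0)))) (.node 4 (.node 2 (.node 1 (.leaf 0x0) (.leaf 0x0)) (.node 1 (.leaf 0x0) (.leaf 0x0))) (.node 2 (.node 1 (.leaf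 0x0) (.leaf 0x0)) (.node 1 (.leaf 0x0) (.leaf 0x0))))) (.node 8 (.node 4 (.node 2 (.node 1 (.leaf 0x0) (.leaf 0x0)) (.node 1 (.leaf 0x0) (.leaf 0x0))) (.node 2 (.node 1 (.leaf 0x0) (.leaf 0xd2)) (.node 1 (.leaf 0x0) (.leaf 0x0)))) (.node 4 (.node 2 (.node 1 (.leaf 0x0) (.leaf 0x0)) (.node 1 (.leaf 0xd3) (.leaf 0x0))) (.node 2 (.node 1 (.leaf 0x0) (.leaf 0x0)) (.node 1 (.leaf 0x0) (.leaf 0xd4)))))) (.node 16 (.node 8 (.node 4 (.node 2 (.node 1 (.leaf 0x0) (.leaf 0x0)) (.node 1 (.leaf 0x0) (.leaf 0x0))) (.node 2 (.node 1 (.leaf 0x0) (.leaf 0xd5)) (.node 1 (.leaf 0xd6) (.leaf 0x0)))) (.node 4 (.node 2 (.node 1 (.leaf 0xd7) (.leaf 0x0)) (.node 1 (.leaf 0xd8) (.leaf 0x0))) (.node 2 (.node 1 (.leaf 0x0) (.leaf 0x0)) (.node 1 (.leaf 0xd9) (.leaf 0x0))))) (.node 8 (.node 4 (.node 2 (.node 1 (.leaf 0x0) (.leaf 0x0)) (.node 1 (.leaf 0x0) (.leaf 0x0))) (.node 2 (.node 1 (.leaf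 0x0) (.leaf 0x0)) (.node 1 (.leaf 0xda) (.leaf 0x0)))) (.node 4 (.node 2 (.node 1 (.leaf 0x0) (.leaf 0xdb)) (.node 1 (.leaf 0x0) (.leaf 0x0))) (.node 2 (.node 1 (.leaf 0x0) (.leaf 0xdc)) (.node 1 (.leaf 0x0) (.leaf 0x0)))))))

def chainFPos1_7 : Tree :=
  .node 64 (.node 32 (.node 16 (.node 8 (.node 4 (.node 2 (.node 1 (.leaf 0x0) (.leaf 0x0)) (.node 1 (.leaf 0xdd) (.leaf 0x0))) (.node 2 (.node 1 (.leaf 0x0) (.leaf 0x0)) (.node 1 (.leaf 0x0) (.leaf 0x0)))) (.node 4 (.node 2 (.node 1 (.leaf 0x0) (.leaf 0x0)) (.node 1 (.leaf 0xde) (.leaf 0xdf))) (.node 2 (.node 1 (.leaf 0x0) (.leaf 0xe0)) (.node 1 (.leaf 0x0) (.leaf 0x0))))) (.node 8 (.node 4 (.node 2 (.node 1 (.leaf 0x0) (.leaf 0x0)) (.node 1 (.leaf 0x0) (.leaf 0xe1))) (.node 2 (.node 1 (.leaf 0x0) (.leaf 0x0)) (.node 1 (.leaf 0x0) (.leaf 0xe2)))) (.node 4 (.node 2 (.node 1 (.leaf 0xe3) (.leaf 0xe4)) (.node 1 (.leaf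 0xe5) (.leaf 0xe6))) (.node 2 (.node 1 (.leaf 0x0) (.leaf 0x0)) (.node 1 (.leaf 0x0) (.leaf 0x0)))))) (.node 16 (.node 8 (.node 4 (.node 2 (.node 1 (.leaf 0xe7) (.leaf 0x0)) (.node 1 (.leaf 0x0) (.leaf 0xe8))) (.node 2 (.node 1 (.leaf 0x0) (.leaf 0x0)) (.node 1 (.leaf 0x0) (.leaf 0x0)))) (.node 4 (.node 2 (.node 1 (.leaf 0x0) (.leaf 0x0)) (.node 1 (.leaf 0x0) (.leaf 0xe9))) (.node 2 (.node 1 (.leaf 0x0) (.leaf 0x0)) (.node 1 (.leaf 0x0) (.leaf 0x0))))) (.node 8 (.node 4 (.node 2 (.node 1 (.leaf 0x0) (.leaf 0xea)) (.node 1 (.leaf 0xeb) (.leaf 0x0))) (.node 2 (.node 1 (.leaf 0xec) (.leaf 0x0)) (.node 1 (.leaf 0x0) (.leaf 0x0)))) (.node 4 (.node 2 (.node 1 (.leaf 0x0) (.leaf 0x0)) (.node 1 (.leaf 0x0) (.leaf 0x0))) (.node 2 (.node 1 (.leaf 0x0) (.leaf 0x0)) (.node 1 (.leaf 0x0) (.leaf 0x0))))))) (.node 32 (.node 16 (.node 8 (.node 4 (.node 2 (.node 1 (.leaf 0xed) (.leaf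 0x0)) (.node 1 (.leaf 0x0) (.leaf 0x0))) (.node 2 (.node 1 (.leaf 0xee) (.leaf 0xef)) (.node 1 (.leaf 0x0) (.leaf 0x0)))) (.node 4 (.node 2 (.node 1 (.leaf 0xf0) (.leaf 0x0)) (.node 1 (.leaf 0x0) (.leaf 0x0))) (.node 2 (.node 1 (.leaf 0x0) (.leaf 0x0)) (.node 1 (.leaf 0xf1) (.leaf 0x0))))) (.node 8 (.node 4 (.node 2 (.node 1 (.leaf 0x0) (.leaf 0x0)) (.node 1 (.leaf 0x0) (.leaf 0x0))) (.node 2 (.node 1 (.leaf 0x0) (.leaf 0x0)) (.node 1 (.leaf 0xf2) (.leaf 0x0)))) (.node 4 (.node 2 (.node 1 (.leaf 0x0) (.leaf 0x0)) (.node 1 (.leaf 0x0) (.leaf 0x0))) (.node 2 (.node 1 (.leaf 0xf3) (.leaf 0xf4)) (.node 1 (.leaf 0x0) (.leaf 0xf5)))))) (.node 16 (.node 8 (.node 4 (.node 2 (.node 1 (.leaf 0x0) (.leaf 0xf6)) (.node 1 (.leaf 0x0) (.leaf 0x0))) (.node 2 (.node 1 (.leaf 0x0) (.leaf 0xf7)) (.node 1 (.leaf 0x0) (.leaf 0xf8)))) (.node 4 (.node 2 (.node 1 (.leaf 0x0) (.leaf 0x0))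 (.node 1 (.leaf 0xf9) (.leaf 0xfa))) (.node 2 (.node 1 (.leaf 0x0) (.leaf 0x0)) (.node 1 (.leaf 0x0) (.leaf 0x0))))) (.node 8 (.node 4 (.node 2 (.node 1 (.leaf 0xfb) (.leaf 0x0)) (.node 1 (.leaf 0x0) (.leaf 0x0))) (.node 2 (.node 1 (.leaf 0xfc) (.leaf 0x0)) (.node 1 (.leaf 0x0) (.leaf 0x0)))) (.node 4 (.node 2 (.node 1 (.leaf 0x0) (.leaf 0xfd)) (.node 1 (.leaf 0x0) (.leaf 0x0))) (.node 2 (.node 1 (.leaf 0x0) (.leaf 0x0)) (.node 1 (.leaf 0x0) (.leaf 0x0)))))))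

def chainFPos1_8 : Tree :=
  .node 64 (.node 32 (.node 16 (.node 8 (.node 4 (.node 2 (.node 1 (.leaf 0xfe) (.leaf 0xff)) (.node 1 (.leaf 0x100) (.leaf 0x0))) (.node 2 (.node 1 (.leaf 0x0) (.leaf 0x0)) (.node 1 (.leaf 0x101) (.leaf 0x0)))) (.node 4 (.node 2 (.node 1 (.leaf 0x0) (.leaf 0x0)) (.node 1 (.leaf 0x0) (.leaf 0x0))) (.node 2 (.node 1 (.leaf 0x102) (.leaf 0x0)) (.node 1 (.leaf 0x0) (.leaf 0x0))))) (.node 8 (.node 4 (.node 2 (.node 1 (.leaf 0x0) (.leaf 0x0)) (.node 1 (.leaf 0x0) (.leaf 0x103))) (.node 2 (.node 1 (.leaf 0x104) (.leaf 0x0)) (.node 1 (.leaf 0x0) (.leaf 0x0)))) (.node 4 (.node 2 (.node 1 (.leaf 0x0) (.leaf 0x0)) (.node 1 (.leaf 0x105) (.leaf 0x106))) (.node 2 (.node 1 (.leaf 0x0) (.leaf 0x0)) (.node 1 (.leaf 0x107) (.leaf 0x0)))))) (.node 16 (.node 8 (.node 4 (.node 2 (.node 1 (.leaf 0x0) (.leaf 0x0)) (.node 1 (.leaf 0x0) (.leaf 0x0))) (.node 2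 (.node 1 (.leaf 0x0) (.leaf 0x108)) (.node 1 (.leaf 0x0) (.leaf 0x109)))) (.node 4 (.node 2 (.node 1 (.leaf 0x0) (.leaf 0x0)) (.node 1 (.leaf 0x0) (.leaf 0x0))) (.node 2 (.node 1 (.leaf 0x0) (.leaf 0x0)) (.node 1 (.leaf 0x0) (.leaf 0x0))))) (.node 8 (.node 4 (.node 2 (.node 1 (.leaf 0x0) (.leaf 0x0)) (.node 1 (.leaf 0x0) (.leaf 0x0))) (.node 2 (.node 1 (.leaf 0x10a) (.leaf 0x10b)) (.node 1 (.leaf 0x0) (.leaf 0x0)))) (.node 4 (.node 2 (.node 1 (.leaf 0x0) (.leaf 0x0)) (.node 1 (.leaf 0x0) (.leaf 0x0))) (.node 2 (.node 1 (.leaf 0x0) (.leaf 0x0)) (.node 1 (.leaf 0x0) (.leaf 0x0))))))) (.node 32 (.node 16 (.node 8 (.node 4 (.node 2 (.node 1 (.leaf 0x0) (.leaf 0x0)) (.node 1 (.leaf 0x0) (.leaf 0x0))) (.node 2 (.node 1 (.leaf 0x0) (.leaf 0x0)) (.node 1 (.leaf 0x0) (.leaf 0x0)))) (.node 4 (.node 2 (.node 1 (.leaf 0x0) (.leaf 0x0)) (.node 1 (.leaf 0x0) (.leaf 0x0))) (.node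 2 (.node 1 (.leaf 0x10c) (.leaf 0x0)) (.node 1 (.leaf 0x0) (.leaf 0x0))))) (.node 8 (.node 4 (.node 2 (.node 1 (.leaf 0x0) (.leaf 0x0)) (.node 1 (.leaf 0x0) (.leaf 0x0))) (.node 2 (.node 1 (.leaf 0x10d) (.leaf 0x0)) (.node 1 (.leaf 0x0) (.leaf 0x0)))) (.node 4 (.node 2 (.node 1 (.leaf 0x0) (.leaf 0x0)) (.node 1 (.leaf 0x0) (.leaf 0x0))) (.node 2 (.node 1 (.leaf 0x10e) (.leaf 0x10f)) (.node 1 (.leaf 0x0) (.leaf 0x0)))))) (.node 16 (.node 8 (.node 4 (.node 2 (.node 1 (.leaf 0x0) (.leaf 0x0)) (.node 1 (.leaf 0x0) (.leaf 0x0))) (.node 2 (.node 1 (.leaf 0x0) (.leaf 0x0)) (.node 1 (.leaf 0x0) (.leaf 0x0)))) (.node 4 (.node 2 (.node 1 (.leaf 0x0) (.leaf 0x0)) (.node 1 (.leaf 0x0) (.leaf 0x0))) (.node 2 (.node 1 (.leaf 0x0) (.leaf 0x0)) (.node 1 (.leaf 0x0) (.leaf 0x0))))) (.node 8 (.node 4 (.node 2 (.node 1 (.leaf 0x110) (.leaf 0x0)) (.node 1 (.leaf 0x0) (.leaf 0x0))) (.node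 2 (.node 1 (.leaf 0x0) (.leaf 0x0)) (.node 1 (.leaf 0x0) (.leaf 0x0)))) (.node 4 (.node 2 (.node 1 (.leaf 0x0) (.leaf 0x0)) (.node 1 (.leaf 0x0) (.leaf 0x0))) (.node 2 (.node 1 (.leaf 0x0) (.leaf 0x0)) (.node 1 (.leaf 0x111) (.leaf 0x0)))))))

def chainFPos1_9 : Tree :=
  .node 64 (.node 32 (.node 16 (.node 8 (.node 4 (.node 2 (.node 1 (.leaf 0x0) (.leaf 0x0)) (.node 1 (.leaf 0x0) (.leaf 0x0))) (.node 2 (.node 1 (.leaf 0x0) (.leaf 0x0)) (.node 1 (.leaf 0x0) (.leaf 0x0)))) (.node 4 (.node 2 (.node 1 (.leaf 0x0) (.leaf 0x0)) (.node 1 (.leaf 0x0) (.leaf 0x0))) (.node 2 (.node 1 (.leaf 0x112) (.leaf 0x0)) (.node 1 (.leaf 0x0) (.leaf 0x0))))) (.node 8 (.node 4 (.node 2 (.node 1 (.leaf 0x0) (.leaf 0x113)) (.node 1 (.leaf 0x114) (.leaf 0x0))) (.node 2 (.node 1 (.leaf 0x115) (.leaf 0x0)) (.node 1 (.leaf 0x0) (.leaf 0x0)))) (.node 4 (.node 2 (.node 1 (.leaf 0x0) (.leaf 0x116))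 (.node 1 (.leaf 0x0) (.leaf 0x0))) (.node 2 (.node 1 (.leaf 0x0) (.leaf 0x0)) (.node 1 (.leaf 0x117) (.leaf 0x0)))))) (.node 16 (.node 8 (.node 4 (.node 2 (.node 1 (.leaf 0x118) (.leaf 0x0)) (.node 1 (.leaf 0x119) (.leaf 0x0))) (.node 2 (.node 1 (.leaf 0x0) (.leaf 0x0)) (.node 1 (.leaf 0x0) (.leaf 0x0)))) (.node 4 (.node 2 (.node 1 (.leaf 0x11a) (.leaf 0x0)) (.node 1 (.leaf 0x0) (.leaf 0x0))) (.node 2 (.node 1 (.leaf 0x0) (.leaf 0x0)) (.node 1 (.leaf 0x11b) (.leaf 0x0))))) (.node 8 (.node 4 (.node 2 (.node 1 (.leaf 0x11c) (.leaf 0x11d)) (.node 1 (.leaf 0x0) (.leaf 0x0))) (.node 2 (.node 1 (.leaf 0x11e) (.leaf 0x0)) (.node 1 (.leaf 0x11f) (.leaf 0x0)))) (.node 4 (.node 2 (.node 1 (.leaf 0x0) (.leaf 0x120)) (.node 1 (.leaf 0x121) (.leaf 0x0))) (.node 2 (.node 1 (.leaf 0x122) (.leaf 0x0)) (.node 1 (.leaf 0x0) (.leaf 0x0))))))) (.node 32 (.node 16 (.node 8 (.node 4 (.node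 2 (.node 1 (.leaf 0x0) (.leaf 0x123)) (.node 1 (.leaf 0x0) (.leaf 0x0))) (.node 2 (.node 1 (.leaf 0x124) (.leaf 0x0)) (.node 1 (.leaf 0x0) (.leaf 0x125)))) (.node 4 (.node 2 (.node 1 (.leaf 0x0) (.leaf 0x0)) (.node 1 (.leaf 0x126) (.leaf 0x0))) (.node 2 (.node 1 (.leaf 0x127) (.leaf 0x128)) (.node 1 (.leaf 0x129) (.leaf 0x0))))) (.node 8 (.node 4 (.node 2 (.node 1 (.leaf 0x0) (.leaf 0x0)) (.node 1 (.leaf 0x0) (.leaf 0x0))) (.node 2 (.node 1 (.leaf 0x0) (.leaf 0x0)) (.node 1 (.leaf 0x0) (.leaf 0x12a)))) (.node 4 (.node 2 (.node 1 (.leaf 0x0) (.leaf 0x0)) (.node 1 (.leaf 0x0) (.leaf 0x12b))) (.node 2 (.node 1 (.leaf 0x0) (.leaf 0x0)) (.node 1 (.leaf 0x0) (.leaf 0x0)))))) (.node 16 (.node 8 (.node 4 (.node 2 (.node 1 (.leaf 0x0) (.leaf 0x12c)) (.node 1 (.leaf 0x12d) (.leaf 0x0))) (.node 2 (.node 1 (.leaf 0x12e) (.leaf 0x0)) (.node 1 (.leaf 0x0) (.leaf 0x0)))) (.node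 4 (.node 2 (.node 1 (.leaf 0x12f) (.leaf 0x0)) (.node 1 (.leaf 0x0) (.leaf 0x0))) (.node 2 (.node 1 (.leaf 0x0) (.leaf 0x0)) (.node 1 (.leaf 0x0) (.leaf 0x0))))) (.node 8 (.node 4 (.node 2 (.node 1 (.leaf 0x0) (.leaf 0x0)) (.node 1 (.leaf 0x0) (.leaf 0x0))) (.node 2 (.node 1 (.leaf 0x0) (.leaf 0x130)) (.node 1 (.leaf 0x0) (.leaf 0x0)))) (.node 4 (.node 2 (.node 1 (.leaf 0x0) (.leaf 0x0)) (.node 1 (.leaf 0x131) (.leaf 0x0))) (.node 2 (.node 1 (.leaf 0x132) (.leaf 0x133)) (.node 1 (.leaf 0x0) (.leaf 0x0)))))))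

def chainFPos1_10 : Tree :=
  .node 64 (.node 32 (.node 16 (.node 8 (.node 4 (.node 2 (.node 1 (.leaf 0x134) (.leaf 0x0)) (.node 1 (.leaf 0x0) (.leaf 0x135))) (.node 2 (.node 1 (.leaf 0x0) (.leaf 0x0)) (.node 1 (.leaf 0x0) (.leaf 0x0)))) (.node 4 (.node 2 (.node 1 (.leaf 0x0) (.leaf 0x0)) (.node 1 (.leaf 0x0) (.leaf 0x0))) (.node 2 (.node 1 (.leaf 0x0) (.leaf 0x0)) (.node 1 (.leaf 0x0) (.leaf 0x0))))) (.node 8 (.node 4 (.node 2 (.node 1 (.leaf 0x0) (.leaf 0x0)) (.node 1 (.leaf 0x0) (.leaf 0x136))) (.node 2 (.node 1 (.leaf 0x0) (.leaf 0x0)) (.node 1 (.leaf 0x0) (.leaf 0x0)))) (.node 4 (.node 2 (.node 1 (.leaf 0x0) (.leaf 0x0)) (.node 1 (.leaf 0x0) (.leaf 0x0))) (.node 2 (.node 1 (.leaf 0x0) (.leaf 0x137)) (.node 1 (.leaf 0x138) (.leaf 0x0)))))) (.node 16 (.node 8 (.node 4 (.node 2 (.node 1 (.leaf 0x0) (.leaf 0x0)) (.node 1 (.leaf 0x0) (.leaf 0x0))) (.node 2 (.node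 1 (.leaf 0x0) (.leaf 0x0)) (.node 1 (.leaf 0x0) (.leaf 0x139)))) (.node 4 (.node 2 (.node 1 (.leaf 0x13a) (.leaf 0x0)) (.node 1 (.leaf 0x0) (.leaf 0x0))) (.node 2 (.node 1 (.leaf 0x0) (.leaf 0x13b)) (.node 1 (.leaf 0x0) (.leaf 0x0))))) (.node 8 (.node 4 (.node 2 (.node 1 (.leaf 0x13c) (.leaf 0x0)) (.node 1 (.leaf 0x0) (.leaf 0x0))) (.node 2 (.node 1 (.leaf 0x0) (.leaf 0x0)) (.node 1 (.leaf 0x13d) (.leaf 0x0)))) (.node 4 (.node 2 (.node 1 (.leaf 0x0) (.leaf 0x13e)) (.node 1 (.leaf 0x0) (.leaf 0x13f))) (.node 2 (.node 1 (.leaf 0x0) (.leaf 0x0)) (.node 1 (.leaf 0x140) (.leaf 0x0))))))) (.node 32 (.node 16 (.node 8 (.node 4 (.node 2 (.node 1 (.leaf 0x141) (.leaf 0x0)) (.node 1 (.leaf 0x0) (.leaf 0x0))) (.node 2 (.node 1 (.leaf 0x0) (.leaf 0x0)) (.node 1 (.leaf 0x0) (.leaf 0x0)))) (.node 4 (.node 2 (.node 1 (.leaf 0x0) (.leaf 0x0)) (.node 1 (.leaf 0x0) (.leaf 0x0))) (.node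 2 (.node 1 (.leaf 0x0) (.leaf 0x0)) (.node 1 (.leaf 0x0) (.leaf 0x142))))) (.node 8 (.node 4 (.node 2 (.node 1 (.leaf 0x0) (.leaf 0x0)) (.node 1 (.leaf 0x0) (.leaf 0x143))) (.node 2 (.node 1 (.leaf 0x0) (.leaf 0x0)) (.node 1 (.leaf 0x0) (.leaf 0x0)))) (.node 4 (.node 2 (.node 1 (.leaf 0x144) (.leaf 0x0)) (.node 1 (.leaf 0x0) (.leaf 0x0))) (.node 2 (.node 1 (.leaf 0x0) (.leaf 0x0)) (.node 1 (.leaf 0x0) (.leaf 0x0)))))) (.node 16 (.node 8 (.node 4 (.node 2 (.node 1 (.leaf 0x0) (.leaf 0x0)) (.node 1 (.leaf 0x145) (.leaf 0x0))) (.node 2 (.node 1 (.leaf 0x0) (.leaf 0x146)) (.node 1 (.leaf 0x147) (.leaf 0x0)))) (.node 4 (.node 2 (.node 1 (.leaf 0x0) (.leaf 0x0)) (.node 1 (.leaf 0x148) (.leaf 0x149))) (.node 2 (.node 1 (.leaf 0x0) (.leaf 0x0)) (.node 1 (.leaf 0x0) (.leaf 0x14a))))) (.node 8 (.node 4 (.node 2 (.node 1 (.leaf 0x0) (.leaf 0x14b)) (.node 1 (.leaf 0x0) (.leaf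 0x14c))) (.node 2 (.node 1 (.leaf 0x0) (.leaf 0x14d)) (.node 1 (.leaf 0x14e) (.leaf 0x14f)))) (.node 4 (.node 2 (.node 1 (.leaf 0x150) (.leaf 0x0)) (.node 1 (.leaf 0x151) (.leaf 0x0))) (.node 2 (.node 1 (.leaf 0x0) (.leaf 0x0)) (.node 1 (.leaf 0x0) (.leaf 0x0)))))))

def chainFPos1_11 : Tree :=
  .node 64 (.node 32 (.node 16 (.node 8 (.node 4 (.node 2 (.node 1 (.leaf 0x152) (.leaf 0x153)) (.node 1 (.leaf 0x0) (.leaf 0x0))) (.node 2 (.node 1 (.leaf 0x0) (.leaf 0x0)) (.node 1 (.leaf 0x0) (.leaf 0x0)))) (.node 4 (.node 2 (.node 1 (.leaf 0x0) (.leaf 0x0)) (.node 1 (.leaf 0x154) (.leaf 0x0))) (.node 2 (.node 1 (.leaf 0x0) (.leaf 0x0)) (.node 1 (.leaf 0x155) (.leaf 0x156))))) (.node 8 (.node 4 (.node 2 (.node 1 (.leaf 0x157) (.leaf 0x0)) (.node 1 (.leaf 0x0) (.leaf 0x0))) (.node 2 (.node 1 (.leaf 0x0) (.leaf 0x0)) (.node 1 (.leaf 0x0) (.leaf 0x0)))) (.node 4 (.node 2 (.node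 1 (.leaf 0x0) (.leaf 0x0)) (.node 1 (.leaf 0x0) (.leaf 0x0))) (.node 2 (.node 1 (.leaf 0x0) (.leaf 0x0)) (.node 1 (.leaf 0x0) (.leaf 0x0)))))) (.node 16 (.node 8 (.node 4 (.node 2 (.node 1 (.leaf 0x0) (.leaf 0x0)) (.node 1 (.leaf 0x0) (.leaf 0x0))) (.node 2 (.node 1 (.leaf 0x0) (.leaf 0x158)) (.node 1 (.leaf 0x0) (.leaf 0x0)))) (.node 4 (.node 2 (.node 1 (.leaf 0x0) (.leaf 0x0)) (.node 1 (.leaf 0x0) (.leaf 0x0))) (.node 2 (.node 1 (.leaf 0x0) (.leaf 0x159)) (.node 1 (.leaf 0x15a) (.leaf 0x0))))) (.node 8 (.node 4 (.node 2 (.node 1 (.leaf 0x15b) (.leaf 0x0)) (.node 1 (.leaf 0x15c) (.leaf 0x0))) (.node 2 (.node 1 (.leaf 0x15d) (.leaf 0x0)) (.node 1 (.leaf 0x0) (.leaf 0x0)))) (.node 4 (.node 2 (.node 1 (.leaf 0x0) (.leaf 0x0)) (.node 1 (.leaf 0x15e) (.leaf 0x15f))) (.node 2 (.node 1 (.leaf 0x160) (.leaf 0x0)) (.node 1 (.leaf 0x0) (.leaf 0x0))))))) (.node 32 (.node 16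 (.node 8 (.node 4 (.node 2 (.node 1 (.leaf 0x161) (.leaf 0x0)) (.node 1 (.leaf 0x0) (.leaf 0x0))) (.node 2 (.node 1 (.leaf 0x162) (.leaf 0x0)) (.node 1 (.leaf 0x0) (.leaf 0x0)))) (.node 4 (.node 2 (.node 1 (.leaf 0x0) (.leaf 0x0)) (.node 1 (.leaf 0x0) (.leaf 0x0))) (.node 2 (.node 1 (.leaf 0x163) (.leaf 0x0)) (.node 1 (.leaf 0x0) (.leaf 0x0))))) (.node 8 (.node 4 (.node 2 (.node 1 (.leaf 0x0) (.leaf 0x0)) (.node 1 (.leaf 0x0) (.leaf 0x0))) (.node 2 (.node 1 (.leaf 0x0) (.leaf 0x164)) (.node 1 (.leaf 0x0) (.leaf 0x0)))) (.node 4 (.node 2 (.node 1 (.leaf 0x165) (.leaf 0x166)) (.node 1 (.leaf 0x0) (.leaf 0x167))) (.node 2 (.node 1 (.leaf 0x0) (.leaf 0x0)) (.node 1 (.leaf 0x0) (.leaf 0x0)))))) (.node 16 (.node 8 (.node 4 (.node 2 (.node 1 (.leaf 0x0) (.leaf 0x168)) (.node 1 (.leaf 0x0) (.leaf 0x0))) (.node 2 (.node 1 (.leaf 0x169) (.leaf 0x0)) (.node 1 (.leaf 0x0) (.leaf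 0x0)))) (.node 4 (.node 2 (.node 1 (.leaf 0x0) (.leaf 0x0)) (.node 1 (.leaf 0x0) (.leaf 0x16a))) (.node 2 (.node 1 (.leaf 0x0) (.leaf 0x0)) (.node 1 (.leaf 0x0) (.leaf 0x0))))) (.node 8 (.node 4 (.node 2 (.node 1 (.leaf 0x0) (.leaf 0x16b)) (.node 1 (.leaf 0x0) (.leaf 0x0))) (.node 2 (.node 1 (.leaf 0x0) (.leaf 0x0)) (.node 1 (.leaf 0x0) (.leaf 0x16c)))) (.node 4 (.node 2 (.node 1 (.leaf 0x0) (.leaf 0x0)) (.node 1 (.leaf 0x0) (.leaf 0x0))) (.node 2 (.node 1 (.leaf 0x16d) (.leaf 0x0)) (.node 1 (.leaf 0x0) (.leaf 0x0)))))))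

def chainFPos1_12 : Tree :=
  .node 64 (.node 32 (.node 16 (.node 8 (.node 4 (.node 2 (.node 1 (.leaf 0x0) (.leaf 0x0)) (.node 1 (.leaf 0x16e) (.leaf 0x0))) (.node 2 (.node 1 (.leaf 0x0) (.leaf 0x0)) (.node 1 (.leaf 0x0) (.leaf 0x0)))) (.node 4 (.node 2 (.node 1 (.leaf 0x0) (.leaf 0x16f)) (.node 1 (.leaf 0x170) (.leaf 0x171))) (.node 2 (.node 1 (.leaf 0x0) (.leaf 0x0)) (.node 1 (.leaf 0x0) (.leaf 0x0))))) (.node 8 (.node 4 (.node 2 (.node 1 (.leaf 0x0) (.leaf 0x0)) (.node 1 (.leaf 0x172) (.leaf 0x0))) (.node 2 (.node 1 (.leaf 0x0) (.leaf 0x0)) (.node 1 (.leaf 0x0) (.leaf 0x0)))) (.node 4 (.node 2 (.node 1 (.leaf 0x0) (.leaf 0x0)) (.node 1 (.leaf 0x0) (.leaf 0x0))) (.node 2 (.node 1 (.leaf 0x0) (.leaf 0x173)) (.node 1 (.leaf 0x0) (.leaf 0x0)))))) (.node 16 (.node 8 (.node 4 (.node 2 (.node 1 (.leaf 0x174) (.leaf 0x0)) (.node 1 (.leaf 0x0) (.leaf 0x0))) (.node 2 (.node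 1 (.leaf 0x175) (.leaf 0x0)) (.node 1 (.leaf 0x0) (.leaf 0x0)))) (.node 4 (.node 2 (.node 1 (.leaf 0x0) (.leaf 0x0)) (.node 1 (.leaf 0x176) (.leaf 0x0))) (.node 2 (.node 1 (.leaf 0x0) (.leaf 0x0)) (.node 1 (.leaf 0x0) (.leaf 0x0))))) (.node 8 (.node 4 (.node 2 (.node 1 (.leaf 0x0) (.leaf 0x0)) (.node 1 (.leaf 0x0) (.leaf 0x0))) (.node 2 (.node 1 (.leaf 0x177) (.leaf 0x0)) (.node 1 (.leaf 0x178) (.leaf 0x0)))) (.node 4 (.node 2 (.node 1 (.leaf 0x0) (.leaf 0x179)) (.node 1 (.leaf 0x0) (.leaf 0x0))) (.node 2 (.node 1 (.leaf 0x0) (.leaf 0x0)) (.node 1 (.leaf 0x17a) (.leaf 0x17b))))))) (.node 32 (.node 16 (.node 8 (.node 4 (.node 2 (.node 1 (.leaf 0x17c) (.leaf 0x0)) (.node 1 (.leaf 0x0) (.leaf 0x0))) (.node 2 (.node 1 (.leaf 0x0) (.leaf 0x0)) (.node 1 (.leaf 0x0) (.leaf 0x0)))) (.node 4 (.node 2 (.node 1 (.leaf 0x0) (.leaf 0x0)) (.node 1 (.leaf 0x0) (.leaf 0x0))) (.node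 2 (.node 1 (.leaf 0x0) (.leaf 0x0)) (.node 1 (.leaf 0x0) (.leaf 0x0))))) (.node 8 (.node 4 (.node 2 (.node 1 (.leaf 0x17d) (.leaf 0x0)) (.node 1 (.leaf 0x0) (.leaf 0x0))) (.node 2 (.node 1 (.leaf 0x0) (.leaf 0x0)) (.node 1 (.leaf 0x0) (.leaf 0x0)))) (.node 4 (.node 2 (.node 1 (.leaf 0x0) (.leaf 0x0)) (.node 1 (.leaf 0x0) (.leaf 0x0))) (.node 2 (.node 1 (.leaf 0x0) (.leaf 0x0)) (.node 1 (.leaf 0x17e) (.leaf 0x0)))))) (.node 16 (.node 8 (.node 4 (.node 2 (.node 1 (.leaf 0x0) (.leaf 0x17f)) (.node 1 (.leaf 0x0) (.leaf 0x0))) (.node 2 (.node 1 (.leaf 0x0) (.leaf 0x0)) (.node 1 (.leaf 0x0) (.leaf 0x180)))) (.node 4 (.node 2 (.node 1 (.leaf 0x0) (.leaf 0x0)) (.node 1 (.leaf 0x181) (.leaf 0x182))) (.node 2 (.node 1 (.leaf 0x0) (.leaf 0x0)) (.node 1 (.leaf 0x0) (.leaf 0x0))))) (.node 8 (.node 4 (.node 2 (.node 1 (.leaf 0x0) (.leaf 0x0)) (.node 1 (.leaf 0x0) (.leaf 0x0)))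 (.node 2 (.node 1 (.leaf 0x0) (.leaf 0x0)) (.node 1 (.leaf 0x0) (.leaf 0x0)))) (.node 4 (.node 2 (.node 1 (.leaf 0x0) (.leaf 0x183)) (.node 1 (.leaf 0x0) (.leaf 0x0))) (.node 2 (.node 1 (.leaf 0x0) (.leaf 0x0)) (.node 1 (.leaf 0x0) (.leaf 0x0)))))))

def chainFPos1_13 : Tree :=
  .node 59 (.node 29 (.node 14 (.node 7 (.node 3 (.node 1 (.leaf 0x184) (.node 1 (.leaf 0x0) (.leaf 0x185))) (.node 2 (.node 1 (.leaf 0x0) (.leaf 0x0)) (.node 1 (.leaf 0x0) (.leaf 0x0)))) (.node 3 (.node 1 (.leaf 0x0) (.node 1 (.leaf 0x0) (.leaf 0x186))) (.node 2 (.node 1 (.leaf 0x0) (.leaf 0x0)) (.node 1 (.leaf 0x0) (.leaf 0x0))))) (.node 7 (.node 3 (.node 1 (.leaf 0x187) (.node 1 (.leaf 0x0) (.leaf 0x0))) (.node 2 (.node 1 (.leaf 0x0) (.leaf 0x0)) (.node 1 (.leaf 0x0) (.leaf 0x188)))) (.node 4 (.node 2 (.node 1 (.leaf 0x0) (.leaf 0x0)) (.node 1 (.leaf 0x0) (.leaf 0x0))) (.node 2 (.node 1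 (.leaf 0x0) (.leaf 0x189)) (.node 1 (.leaf 0x18a) (.leaf 0x0)))))) (.node 15 (.node 7 (.node 3 (.node 1 (.leaf 0x18b) (.node 1 (.leaf 0x0) (.leaf 0x0))) (.node 2 (.node 1 (.leaf 0x0) (.leaf 0x0)) (.node 1 (.leaf 0x0) (.leaf 0x0)))) (.node 4 (.node 2 (.node 1 (.leaf 0x0) (.leaf 0x18c)) (.node 1 (.leaf 0x0) (.leaf 0x0))) (.node 2 (.node 1 (.leaf 0x18d) (.leaf 0x18e)) (.node 1 (.leaf 0x18f) (.leaf 0x0))))) (.node 7 (.node 3 (.node 1 (.leaf 0x0) (.node 1 (.leaf 0x190) (.leaf 0x191))) (.node 2 (.node 1 (.leaf 0x0) (.leaf 0x0)) (.node 1 (.leaf 0x0) (.leaf 0x192)))) (.node 4 (.node 2 (.node 1 (.leaf 0x0) (.leaf 0x0)) (.node 1 (.leaf 0x193) (.leaf 0x0))) (.node 2 (.node 1 (.leaf 0x0) (.leaf 0x0)) (.node 1 (.leaf 0x0) (.leaf 0x194))))))) (.node 29 (.node 14 (.node 7 (.node 3 (.node 1 (.leaf 0x0) (.node 1 (.leaf 0x0) (.leaf 0x195))) (.node 2 (.node 1 (.leaf 0x0) (.leaf 0x0))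 (.node 1 (.leaf 0x0) (.leaf 0x0)))) (.node 3 (.node 1 (.leaf 0x0) (.node 1 (.leaf 0x0) (.leaf 0x0))) (.node 2 (.node 1 (.leaf 0x0) (.leaf 0x0)) (.node 1 (.leaf 0x0) (.leaf 0x196))))) (.node 7 (.node 3 (.node 1 (.leaf 0x0) (.node 1 (.leaf 0x197) (.leaf 0x0))) (.node 2 (.node 1 (.leaf 0x0) (.leaf 0x0)) (.node 1 (.leaf 0x0) (.leaf 0x0)))) (.node 4 (.node 2 (.node 1 (.leaf 0x0) (.leaf 0x198)) (.node 1 (.leaf 0x0) (.leaf 0x0))) (.node 2 (.node 1 (.leaf 0x0) (.leaf 0x0)) (.node 1 (.leaf 0x0) (.leaf 0x0)))))) (.node 15 (.node 7 (.node 3 (.node 1 (.leaf 0x199) (.node 1 (.leaf 0x19a) (.leaf 0x0))) (.node 2 (.node 1 (.leaf 0x19b) (.leaf 0x0)) (.node 1 (.leaf 0x0) (.leaf 0x0)))) (.node 4 (.node 2 (.node 1 (.leaf 0x0) (.leaf 0x0)) (.node 1 (.leaf 0x0) (.leaf 0x0))) (.node 2 (.node 1 (.leaf 0x0) (.leaf 0x19c)) (.node 1 (.leaf 0x0) (.leaf 0x0))))) (.node 7 (.node 3 (.node 1 (.leaf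 0x19d) (.node 1 (.leaf 0x19e) (.leaf 0x0))) (.node 2 (.node 1 (.leaf 0x0) (.leaf 0x0)) (.node 1 (.leaf 0x19f) (.leaf 0x0)))) (.node 4 (.node 2 (.node 1 (.leaf 0x0) (.leaf 0x0)) (.node 1 (.leaf 0x1a0) (.leaf 0x0))) (.node 2 (.node 1 (.leaf 0x0) (.leaf 0x0)) (.node 1 (.leaf 0x0) (.leaf 0x0)))))))

def chainFPos1 : Tree :=
  .node 896 (.node 384 (.node 128 (chainFPos1_0) (.node 128 (chainFPos1_1) (chainFPos1_2))) (.node 256 (.node 128 (chainFPos1_3) (chainFPos1_4)) (.node 128 (chainFPos1_5) (chainFPos1_6)))) (.node 384 (.node 128 (chainFPos1_7) (.node 128 (chainFPos1_8) (chainFPos1_9))) (.node 256 (.node 128 (chainFPos1_10) (chainFPos1_11)) (.node 128 (chainFPos1_12) (chainFPos1_13))))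

def chainF2_0 : List (List ℕ) :=
  [[0x543721263423454, 0x214342374124342, 0x345623432654121, 0x364], [0x463212734524342, 0x234543212435432, 0x16432121743271], [0x463212734524342, 0x243543212435432, 0x324341213], [0x345424343214342, 0x762673261434212, 0x32], [0x247321263452434, 0x217234712124543, 0x341543247623451, 0x4], [0x436212734234542, 0x423451434243425, 0x143262121543276, 0x212], [0x345424343214342, 0x434212], [0x343454326453461, 0x43423643562], [0x743272321234342, 0x364312345431], [0x345424343214342, 0x726723741434212, 0x431627623276436, 0x36], [0x354326743423454, 0x412134543264324, 0x212345432123243], [0x543721263423454, 0x212345243424342, 0x643214635432641, 0x3], [0x247321263452434, 0x123454321243543, 0x3643212143262], [0x456234326543463, 0x1473243412121], [0x326412123452434, 0x36432146354], [0x543721263423454, 0x36424126124342], [0x543721263423454, 0x276276342324342,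 0x462132762312643], [0x432764234514342, 0x2121432621215], [0x543721263423454, 0x543212346324342, 0x426212324121234, 0x43], [0x345424343214342, 0x762632745434212, 0x454321763235432, 0x123], [0x341345432123463, 0x123434232162], [0x247321263452434, 0x326512723143543, 0x154324567234], [0x234543267323461, 0x3643125432627], [0x543721263423454, 0x2641274124342], [0x543721263423454, 0x312345432124342, 0x723626723453267, 0x54], [0x543721263423454, 0x121345432124342, 0x123454321232434, 0x2], [0x543721263423454, 0x627634246324342, 0x327], [], [0x345424343214342, 0x762763423434212, 0x621327623126432, 0x4], [0x345424343214342, 0x123454321434212, 0x236267234532673, 0x547], [0x345424343214342, 0x172312732634212, 0x623726327134543, 0x4], [0x543721263423454, 0x142463243424342, 0x12343423262], [0x345121262341212, 0x2434154324672], [0x543721263423454, 0x723627326424342, 0x237213271345431,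 0x46], [0x347623453423461, 0x454324], [0x234512172347121, 0x43415432476], [0x543721263423454, 0x431743272321232, 0x364312345], [0x543721263423454, 0x126342345424342, 0x2434254372], [0x347623453423461, 0x462127121454324, 0x147], [0x543721263423454, 0x276542345124342, 0x434132721562343, 0x2], [0x436212734234542, 0x267423451243425, 0x432146272347543, 0x36], [0x543721263423454, 0x562343265424342, 0x134326123431214, 0x12], [0x436212734234542, 0x217234712143425, 0x341543247623451, 0x4], [0x543721263423454, 0x1623212724342], [0x574327264123463, 0x215432476234], [0x543721263423454, 0x326726174124342, 0x254362726345672, 0x364], [0x143261232434321, 0x364321234543], [0x543721263423454, 0x471212346124342, 0x342123454321723, 0x4], [0x463212734524342, 0x45432], [0x436212734234542, 0x267345432143425, 0x236267234532726, 0x547], [0x543721263423454, 0x217234712124342, 0x341543247623451,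 0x4], [0x247321263452434, 0x24543], [0x234326574123461, 0x154324567], [0x543721263423454, 0x267234312124342, 0x432721232621343, 0x16], [0x213243543212434, 0x324341], [0x212342321272434, 0x1471234543], [0x436212734234542, 0x145623432653425, 0x121343261234312], [0x543721263423454, 0x212345424343212, 0x434], [0x436212734234542, 0x232123434243425, 0x431234543174327, 0x36], [0x345424343214342, 0x272634523434212, 0x323276276345436, 0x164], [0x543721263423454, 0x321234543214342, 0x12345431214342], [0x543721263423454, 0x723626342324342, 0x546237276234532, 0x434], [0x543721263423454, 0x231214342324342, 0x43421234534], [0x436212734234542, 0x123243432143425, 0x432123454314326, 0x36], [0x543721263423454, 0x274312346124342, 0x254723626723453, 0x434], [0x543721263423454, 0x273264543424342, 0x362632723543267, 0x324], [0x436212734234542, 0x623434543264525, 0x364316214235], [0x543721263423454,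 0x326723126424342, 0x324367267234621], [0x543721263423454, 0x354321243424342, 0x32434121324], [0x543721263423454, 0x13272124342], [0x623432765423451, 0x24341327215], [0x342321234543212, 0x12345431214], [0x543721263423454, 0x472121432624342, 0x1], [0x436212734234542, 0x43425], [0x543721263423454, 0x6231264342], [0x543721263423454, 0x24342], [0x543721263423454, 0x723432651272312, 0x15432456], [0x543721263423454, 0x723212624342], [0x347623453423461, 0x7632454324], [0x247321263452434, 0x327642345143543, 0x21214326212154], [0x247321263452434, 0x121345432143543, 0x147324372127], [0x543721263423454, 0x432645346124342, 0x342364356234345, 0x4], [0x543721263423454, 0x243672672324342, 0x364], [0x543267423451434, 0x12174327121], [0x543721263423454, 0x276542345124342, 0x16432741562343], [0x247321263452434, 0x126412345424543, 0x312174212654362, 0x364], [0x463212734524342, 0x267423451435432,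 0x12174327121543], [0x543721263423454, 0x345342346124342, 0x45432434762], [0x543721263423454, 0x264562341214342, 0x434324354727267, 0x2], [0x543721263423454, 0x7231274342], [0x543721263423454, 0x623126212124342, 0x123], [0x543721263423454, 0x454321243424342, 0x643212174327123, 0x1], [0x247321263452434, 0x454243432143543, 0x4342123], [0x543721263423454, 0x23212324342], [0x327231263452434, 0x364354324], [0x463212734524342, 0x341212346345432, 0x342123454321262, 0x24], [0x454317231273264, 0x462372632713], [0x454317236273264, 0x462372132713], [0x354326743423454, 0x164324], [0x543621264123454, 0x3643121742126]]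

def chainF2 : List (List ℕ) := unchunk (chainF2_0)

def chainFPos2_0 : Tree :=
  .node 64 (.node 32 (.node 16 (.node 8 (.node 4 (.node 2 (.node 1 (.leaf 0x0) (.leaf 0x0)) (.node 1 (.leaf 0x0) (.leaf 0x0))) (.node 2 (.node 1 (.leaf 0x1) (.leaf 0x2)) (.node 1 (.leaf 0x3) (.leaf 0x0)))) (.node 4 (.node 2 (.node 1 (.leaf 0x0) (.leaf 0x4)) (.node 1 (.leaf 0x0) (.leaf 0x5))) (.node 2 (.node 1 (.leaf 0x0) (.leaf 0x0)) (.node 1 (.leaf 0x0) (.leaf 0x0))))) (.node 8 (.node 4 (.node 2 (.node 1 (.leaf 0x0) (.leaf 0x0)) (.node 1 (.leaf 0x0) (.leaf 0x0))) (.node 2 (.node 1 (.leaf 0x0) (.leaf 0x0)) (.node 1 (.leaf 0x0) (.leaf 0x0)))) (.node 4 (.node 2 (.node 1 (.leaf 0x0) (.leaf 0x0)) (.node 1 (.leaf 0x0) (.leaf 0x0))) (.node 2 (.node 1 (.leaf 0x0) (.leaf 0x0)) (.node 1 (.leaf 0x6) (.leaf 0x0)))))) (.node 16 (.node 8 (.node 4 (.node 2 (.node 1 (.leaf 0x0) (.leaf 0x0)) (.node 1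 (.leaf 0x0) (.leaf 0x0))) (.node 2 (.node 1 (.leaf 0x7) (.leaf 0x0)) (.node 1 (.leaf 0x0) (.leaf 0x0)))) (.node 4 (.node 2 (.node 1 (.leaf 0x0) (.leaf 0x0)) (.node 1 (.leaf 0x0) (.leaf 0x0))) (.node 2 (.node 1 (.leaf 0x0) (.leaf 0x0)) (.node 1 (.leaf 0x0) (.leaf 0x0))))) (.node 8 (.node 4 (.node 2 (.node 1 (.leaf 0x0) (.leaf 0x0)) (.node 1 (.leaf 0x0) (.leaf 0x0))) (.node 2 (.node 1 (.leaf 0x0) (.leaf 0x0)) (.node 1 (.leaf 0x0) (.leaf 0x0)))) (.node 4 (.node 2 (.node 1 (.leaf 0x0) (.leaf 0x0)) (.node 1 (.leaf 0x0) (.leaf 0x0))) (.node 2 (.node 1 (.leaf 0x0) (.leaf 0x0)) (.node 1 (.leaf 0x0) (.leaf 0x0))))))) (.node 32 (.node 16 (.node 8 (.node 4 (.node 2 (.node 1 (.leaf 0x0) (.leaf 0x0)) (.node 1 (.leaf 0x0) (.leaf 0x0))) (.node 2 (.node 1 (.leaf 0x0) (.leaf 0x0)) (.node 1 (.leaf 0x0) (.leaf 0x0)))) (.node 4 (.node 2 (.node 1 (.leaf 0x0) (.leaf 0x0)) (.node 1 (.leaf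 0x0) (.leaf 0x0))) (.node 2 (.node 1 (.leaf 0x0) (.leaf 0x0)) (.node 1 (.leaf 0x0) (.leaf 0x0))))) (.node 8 (.node 4 (.node 2 (.node 1 (.leaf 0x0) (.leaf 0x0)) (.node 1 (.leaf 0x0) (.leaf 0x0))) (.node 2 (.node 1 (.leaf 0x0) (.leaf 0x0)) (.node 1 (.leaf 0x0) (.leaf 0x0)))) (.node 4 (.node 2 (.node 1 (.leaf 0x0) (.leaf 0x0)) (.node 1 (.leaf 0x0) (.leaf 0x0))) (.node 2 (.node 1 (.leaf 0x0) (.leaf 0x0)) (.node 1 (.leaf 0x0) (.leaf 0x0)))))) (.node 16 (.node 8 (.node 4 (.node 2 (.node 1 (.leaf 0x0) (.leaf 0x0)) (.node 1 (.leaf 0x0) (.leaf 0x0))) (.node 2 (.node 1 (.leaf 0x0) (.leaf 0x0)) (.node 1 (.leaf 0x0) (.leaf 0x0)))) (.node 4 (.node 2 (.node 1 (.leaf 0x0) (.leaf 0x0)) (.node 1 (.leaf 0x0) (.leaf 0x0))) (.node 2 (.node 1 (.leaf 0x0) (.leaf 0x0)) (.node 1 (.leaf 0x0) (.leaf 0x0))))) (.node 8 (.node 4 (.node 2 (.node 1 (.leaf 0x0) (.leaf 0x0)) (.node 1 (.leaf 0x0)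 (.leaf 0x0))) (.node 2 (.node 1 (.leaf 0x0) (.leaf 0x0)) (.node 1 (.leaf 0x0) (.leaf 0x0)))) (.node 4 (.node 2 (.node 1 (.leaf 0x0) (.leaf 0x0)) (.node 1 (.leaf 0x0) (.leaf 0x0))) (.node 2 (.node 1 (.leaf 0x0) (.leaf 0x0)) (.node 1 (.leaf 0x0) (.leaf 0x0)))))))

def chainFPos2_1 : Tree :=
  .node 64 (.node 32 (.node 16 (.node 8 (.node 4 (.node 2 (.node 1 (.leaf 0x0) (.leaf 0x0)) (.node 1 (.leaf 0x0) (.leaf 0x0))) (.node 2 (.node 1 (.leaf 0x0) (.leaf 0x0)) (.node 1 (.leaf 0x0) (.leaf 0x0)))) (.node 4 (.node 2 (.node 1 (.leaf 0x0) (.leaf 0x0)) (.node 1 (.leaf 0x0) (.leaf 0x0))) (.node 2 (.node 1 (.leaf 0x0) (.leaf 0x0)) (.node 1 (.leaf 0x0) (.leaf 0x0))))) (.node 8 (.node 4 (.node 2 (.node 1 (.leaf 0x0) (.leaf 0x0)) (.node 1 (.leaf 0x0) (.leaf 0x0))) (.node 2 (.node 1 (.leaf 0x0) (.leaf 0x0)) (.node 1 (.leaf 0x0) (.leaf 0x0)))) (.node 4 (.node 2 (.node 1 (.leaf 0x0)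 (.leaf 0x0)) (.node 1 (.leaf 0x0) (.leaf 0x0))) (.node 2 (.node 1 (.leaf 0x0) (.leaf 0x0)) (.node 1 (.leaf 0x0) (.leaf 0x0)))))) (.node 16 (.node 8 (.node 4 (.node 2 (.node 1 (.leaf 0x0) (.leaf 0x0)) (.node 1 (.leaf 0x0) (.leaf 0x0))) (.node 2 (.node 1 (.leaf 0x0) (.leaf 0x0)) (.node 1 (.leaf 0x0) (.leaf 0x0)))) (.node 4 (.node 2 (.node 1 (.leaf 0x0) (.leaf 0x0)) (.node 1 (.leaf 0x0) (.leaf 0x0))) (.node 2 (.node 1 (.leaf 0x0) (.leaf 0x0)) (.node 1 (.leaf 0x0) (.leaf 0x0))))) (.node 8 (.node 4 (.node 2 (.node 1 (.leaf 0x0) (.leaf 0x0)) (.node 1 (.leaf 0x0) (.leaf 0x0))) (.node 2 (.node 1 (.leaf 0x0) (.leaf 0x0)) (.node 1 (.leaf 0x0) (.leaf 0x0)))) (.node 4 (.node 2 (.node 1 (.leaf 0x0) (.leaf 0x0)) (.node 1 (.leaf 0x0) (.leaf 0x0))) (.node 2 (.node 1 (.leaf 0x0) (.leaf 0x0)) (.node 1 (.leaf 0x0) (.leaf 0x0))))))) (.node 32 (.node 16 (.node 8 (.node 4 (.node 2 (.node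 1 (.leaf 0x0) (.leaf 0x0)) (.node 1 (.leaf 0x0) (.leaf 0x0))) (.node 2 (.node 1 (.leaf 0x0) (.leaf 0x0)) (.node 1 (.leaf 0x0) (.leaf 0x0)))) (.node 4 (.node 2 (.node 1 (.leaf 0x0) (.leaf 0x0)) (.node 1 (.leaf 0x0) (.leaf 0x0))) (.node 2 (.node 1 (.leaf 0x0) (.leaf 0x0)) (.node 1 (.leaf 0x0) (.leaf 0x0))))) (.node 8 (.node 4 (.node 2 (.node 1 (.leaf 0x0) (.leaf 0x0)) (.node 1 (.leaf 0x0) (.leaf 0x0))) (.node 2 (.node 1 (.leaf 0x0) (.leaf 0x0)) (.node 1 (.leaf 0x0) (.leaf 0x0)))) (.node 4 (.node 2 (.node 1 (.leaf 0x0) (.leaf 0x0)) (.node 1 (.leaf 0x0) (.leaf 0x0))) (.node 2 (.node 1 (.leaf 0x0) (.leaf 0x0)) (.node 1 (.leaf 0x0) (.leaf 0x0)))))) (.node 16 (.node 8 (.node 4 (.node 2 (.node 1 (.leaf 0x0) (.leaf 0x0)) (.node 1 (.leaf 0x0) (.leaf 0x0))) (.node 2 (.node 1 (.leaf 0x0) (.leaf 0x0)) (.node 1 (.leaf 0x0) (.leaf 0x0)))) (.node 4 (.node 2 (.node 1 (.leaf 0x0) (.leaf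 0x0)) (.node 1 (.leaf 0x0) (.leaf 0x0))) (.node 2 (.node 1 (.leaf 0x0) (.leaf 0x0)) (.node 1 (.leaf 0x0) (.leaf 0x0))))) (.node 8 (.node 4 (.node 2 (.node 1 (.leaf 0x0) (.leaf 0x0)) (.node 1 (.leaf 0x0) (.leaf 0x0))) (.node 2 (.node 1 (.leaf 0x0) (.leaf 0x0)) (.node 1 (.leaf 0x0) (.leaf 0x0)))) (.node 4 (.node 2 (.node 1 (.leaf 0x0) (.leaf 0x0)) (.node 1 (.leaf 0x0) (.leaf 0x0))) (.node 2 (.node 1 (.leaf 0x0) (.leaf 0x0)) (.node 1 (.leaf 0x0) (.leaf 0x0)))))))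

def chainFPos2_2 : Tree :=
  .node 64 (.node 32 (.node 16 (.node 8 (.node 4 (.node 2 (.node 1 (.leaf 0x0) (.leaf 0x0)) (.node 1 (.leaf 0x0) (.leaf 0x0))) (.node 2 (.node 1 (.leaf 0x0) (.leaf 0x0)) (.node 1 (.leaf 0x0) (.leaf 0x0)))) (.node 4 (.node 2 (.node 1 (.leaf 0x0) (.leaf 0x0)) (.node 1 (.leaf 0x0) (.leaf 0x0))) (.node 2 (.node 1 (.leaf 0x0) (.leaf 0x0)) (.node 1 (.leaf 0x0) (.leaf 0x0))))) (.node 8 (.node 4 (.node 2 (.node 1 (.leaf 0x0) (.leaf 0x0)) (.node 1 (.leaf 0x0) (.leaf 0x0))) (.node 2 (.node 1 (.leaf 0x0) (.leaf 0x0)) (.node 1 (.leaf 0x0) (.leaf 0x0)))) (.node 4 (.node 2 (.node 1 (.leaf 0x0) (.leaf 0x0)) (.node 1 (.leaf 0x0) (.leaf 0x0))) (.node 2 (.node 1 (.leaf 0x0) (.leaf 0x0)) (.node 1 (.leaf 0x0) (.leaf 0x0)))))) (.node 16 (.node 8 (.node 4 (.node 2 (.node 1 (.leaf 0x0) (.leaf 0x0)) (.node 1 (.leaf 0x0) (.leaf 0x0))) (.node 2 (.node 1 (.leaf 0x0)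 (.leaf 0x8)) (.node 1 (.leaf 0x0) (.leaf 0x0)))) (.node 4 (.node 2 (.node 1 (.leaf 0x9) (.leaf 0x0)) (.node 1 (.leaf 0x0) (.leaf 0x0))) (.node 2 (.node 1 (.leaf 0x0) (.leaf 0x0)) (.node 1 (.leaf 0x0) (.leaf 0x0))))) (.node 8 (.node 4 (.node 2 (.node 1 (.leaf 0x0) (.leaf 0x0)) (.node 1 (.leaf 0x0) (.leaf 0x0))) (.node 2 (.node 1 (.leaf 0x0) (.leaf 0x0)) (.node 1 (.leaf 0x0) (.leaf 0x0)))) (.node 4 (.node 2 (.node 1 (.leaf 0x0) (.leaf 0x0)) (.node 1 (.leaf 0x0) (.leaf 0x0))) (.node 2 (.node 1 (.leaf 0x0) (.leaf 0xa)) (.node 1 (.leaf 0x0) (.leaf 0x0))))))) (.node 32 (.node 16 (.node 8 (.node 4 (.node 2 (.node 1 (.leaf 0x0) (.leaf 0x0)) (.node 1 (.leaf 0x0) (.leaf 0x0))) (.node 2 (.node 1 (.leaf 0x0) (.leaf 0x0)) (.node 1 (.leaf 0x0) (.leaf 0x0)))) (.node 4 (.node 2 (.node 1 (.leaf 0x0) (.leaf 0x0)) (.node 1 (.leaf 0x0) (.leaf 0x0))) (.node 2 (.node 1 (.leaf 0x0) (.leaf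 0x0)) (.node 1 (.leaf 0x0) (.leaf 0x0))))) (.node 8 (.node 4 (.node 2 (.node 1 (.leaf 0x0) (.leaf 0x0)) (.node 1 (.leaf 0x0) (.leaf 0x0))) (.node 2 (.node 1 (.leaf 0x0) (.leaf 0x0)) (.node 1 (.leaf 0x0) (.leaf 0x0)))) (.node 4 (.node 2 (.node 1 (.leaf 0x0) (.leaf 0x0)) (.node 1 (.leaf 0x0) (.leaf 0x0))) (.node 2 (.node 1 (.leaf 0x0) (.leaf 0x0)) (.node 1 (.leaf 0x0) (.leaf 0x0)))))) (.node 16 (.node 8 (.node 4 (.node 2 (.node 1 (.leaf 0x0) (.leaf 0x0)) (.node 1 (.leaf 0x0) (.leaf 0x0))) (.node 2 (.node 1 (.leaf 0x0) (.leaf 0x0)) (.node 1 (.leaf 0x0) (.leaf 0x0)))) (.node 4 (.node 2 (.node 1 (.leaf 0x0) (.leaf 0x0)) (.node 1 (.leaf 0x0) (.leaf 0x0))) (.node 2 (.node 1 (.leaf 0x0) (.leaf 0x0)) (.node 1 (.leaf 0x0) (.leaf 0x0))))) (.node 8 (.node 4 (.node 2 (.node 1 (.leaf 0x0) (.leaf 0x0)) (.node 1 (.leaf 0x0) (.leaf 0x0))) (.node 2 (.node 1 (.leaf 0x0) (.leaf 0x0))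 (.node 1 (.leaf 0x0) (.leaf 0x0)))) (.node 4 (.node 2 (.node 1 (.leaf 0x0) (.leaf 0x0)) (.node 1 (.leaf 0x0) (.leaf 0xb))) (.node 2 (.node 1 (.leaf 0x0) (.leaf 0xc)) (.node 1 (.leaf 0x0) (.leaf 0x0)))))))

def chainFPos2_3 : Tree :=
  .node 64 (.node 32 (.node 16 (.node 8 (.node 4 (.node 2 (.node 1 (.leaf 0x0) (.leaf 0x0)) (.node 1 (.leaf 0x0) (.leaf 0x0))) (.node 2 (.node 1 (.leaf 0x0) (.leaf 0x0)) (.node 1 (.leaf 0x0) (.leaf 0x0)))) (.node 4 (.node 2 (.node 1 (.leaf 0x0) (.leaf 0x0)) (.node 1 (.leaf 0x0) (.leaf 0x0))) (.node 2 (.node 1 (.leaf 0x0) (.leaf 0x0)) (.node 1 (.leaf 0x0) (.leaf 0x0))))) (.node 8 (.node 4 (.node 2 (.node 1 (.leaf 0x0) (.leaf 0x0)) (.node 1 (.leaf 0x0) (.leaf 0x0))) (.node 2 (.node 1 (.leaf 0x0) (.leaf 0x0)) (.node 1 (.leaf 0x0) (.leaf 0x0)))) (.node 4 (.node 2 (.node 1 (.leaf 0x0) (.leaf 0x0)) (.node 1 (.leaf 0x0) (.leaf 0x0))) (.node 2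 (.node 1 (.leaf 0x0) (.leaf 0x0)) (.node 1 (.leaf 0x0) (.leaf 0xd)))))) (.node 16 (.node 8 (.node 4 (.node 2 (.node 1 (.leaf 0x0) (.leaf 0x0)) (.node 1 (.leaf 0x0) (.leaf 0x0))) (.node 2 (.node 1 (.leaf 0x0) (.leaf 0x0)) (.node 1 (.leaf 0x0) (.leaf 0x0)))) (.node 4 (.node 2 (.node 1 (.leaf 0x0) (.leaf 0x0)) (.node 1 (.leaf 0x0) (.leaf 0x0))) (.node 2 (.node 1 (.leaf 0x0) (.leaf 0x0)) (.node 1 (.leaf 0x0) (.leaf 0x0))))) (.node 8 (.node 4 (.node 2 (.node 1 (.leaf 0x0) (.leaf 0x0)) (.node 1 (.leaf 0x0) (.leaf 0x0))) (.node 2 (.node 1 (.leaf 0x0) (.leaf 0x0)) (.node 1 (.leaf 0xe) (.leaf 0x0)))) (.node 4 (.node 2 (.node 1 (.leaf 0x0) (.leaf 0x0)) (.node 1 (.leaf 0x0) (.leaf 0x0))) (.node 2 (.node 1 (.leaf 0xf) (.leaf 0x10)) (.node 1 (.leaf 0x0) (.leaf 0x0))))))) (.node 32 (.node 16 (.node 8 (.node 4 (.node 2 (.node 1 (.leaf 0x0) (.leaf 0x0)) (.node 1 (.leaf 0x0) (.leaf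 0x0))) (.node 2 (.node 1 (.leaf 0x0) (.leaf 0x0)) (.node 1 (.leaf 0x0) (.leaf 0x0)))) (.node 4 (.node 2 (.node 1 (.leaf 0x0) (.leaf 0x11)) (.node 1 (.leaf 0x0) (.leaf 0x0))) (.node 2 (.node 1 (.leaf 0x0) (.leaf 0x0)) (.node 1 (.leaf 0x0) (.leaf 0x0))))) (.node 8 (.node 4 (.node 2 (.node 1 (.leaf 0x0) (.leaf 0x0)) (.node 1 (.leaf 0x0) (.leaf 0x0))) (.node 2 (.node 1 (.leaf 0x0) (.leaf 0x0)) (.node 1 (.leaf 0x0) (.leaf 0x0)))) (.node 4 (.node 2 (.node 1 (.leaf 0x0) (.leaf 0x0)) (.node 1 (.leaf 0x0) (.leaf 0x0))) (.node 2 (.node 1 (.leaf 0x0) (.leaf 0x0)) (.node 1 (.leaf 0x0) (.leaf 0x0)))))) (.node 16 (.node 8 (.node 4 (.node 2 (.node 1 (.leaf 0x0) (.leaf 0x0)) (.node 1 (.leaf 0x0) (.leaf 0x0))) (.node 2 (.node 1 (.leaf 0x0) (.leaf 0x0)) (.node 1 (.leaf 0x0) (.leaf 0x0)))) (.node 4 (.node 2 (.node 1 (.leaf 0x0) (.leaf 0x0)) (.node 1 (.leaf 0x0) (.leaf 0x0))) (.node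 2 (.node 1 (.leaf 0x0) (.leaf 0x0)) (.node 1 (.leaf 0x0) (.leaf 0x0))))) (.node 8 (.node 4 (.node 2 (.node 1 (.leaf 0x0) (.leaf 0x0)) (.node 1 (.leaf 0x0) (.leaf 0x0))) (.node 2 (.node 1 (.leaf 0x0) (.leaf 0x0)) (.node 1 (.leaf 0x0) (.leaf 0x0)))) (.node 4 (.node 2 (.node 1 (.leaf 0x0) (.leaf 0x0)) (.node 1 (.leaf 0x0) (.leaf 0x0))) (.node 2 (.node 1 (.leaf 0x0) (.leaf 0x0)) (.node 1 (.leaf 0x0) (.leaf 0x0)))))))

def chainFPos2_4 : Tree :=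
  .node 64 (.node 32 (.node 16 (.node 8 (.node 4 (.node 2 (.node 1 (.leaf 0x0) (.leaf 0x0)) (.node 1 (.leaf 0x0) (.leaf 0x0))) (.node 2 (.node 1 (.leaf 0x0) (.leaf 0x0)) (.node 1 (.leaf 0x0) (.leaf 0x0)))) (.node 4 (.node 2 (.node 1 (.leaf 0x0) (.leaf 0x0)) (.node 1 (.leaf 0x0) (.leaf 0x0))) (.node 2 (.node 1 (.leaf 0x0) (.leaf 0x0)) (.node 1 (.leaf 0x12) (.leaf 0x0))))) (.node 8 (.node 4 (.node 2 (.node 1 (.leaf 0x0) (.leaf 0x0)) (.node 1 (.leaf 0x0) (.leaf 0x0))) (.node 2 (.node 1 (.leaf 0x0) (.leaf 0x0)) (.node 1 (.leaf 0x0) (.leaf 0x0)))) (.node 4 (.node 2 (.node 1 (.leaf 0x0) (.leaf 0x0)) (.node 1 (.leaf 0x0) (.leaf 0x0))) (.node 2 (.node 1 (.leaf 0x0) (.leaf 0x0)) (.node 1 (.leaf 0x0) (.leaf 0x0)))))) (.node 16 (.node 8 (.node 4 (.node 2 (.node 1 (.leaf 0x0) (.leaf 0x0)) (.node 1 (.leaf 0x0) (.leaf 0x0))) (.node 2 (.node 1 (.leaf 0x0) (.leaf 0x0)) (.node 1 (.leaf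 0x0) (.leaf 0x0)))) (.node 4 (.node 2 (.node 1 (.leaf 0x0) (.leaf 0x0)) (.node 1 (.leaf 0x0) (.leaf 0x0))) (.node 2 (.node 1 (.leaf 0x0) (.leaf 0x0)) (.node 1 (.leaf 0x13) (.leaf 0x0))))) (.node 8 (.node 4 (.node 2 (.node 1 (.leaf 0x0) (.leaf 0x0)) (.node 1 (.leaf 0x0) (.leaf 0x0))) (.node 2 (.node 1 (.leaf 0x0) (.leaf 0x0)) (.node 1 (.leaf 0x0) (.leaf 0x0)))) (.node 4 (.node 2 (.node 1 (.leaf 0x0) (.leaf 0x0)) (.node 1 (.leaf 0x0) (.leaf 0x0))) (.node 2 (.node 1 (.leaf 0x0) (.leaf 0x0)) (.node 1 (.leaf 0x0) (.leaf 0x0))))))) (.node 32 (.node 16 (.node 8 (.node 4 (.node 2 (.node 1 (.leaf 0x0) (.leaf 0x0)) (.node 1 (.leaf 0x0) (.leaf 0x0))) (.node 2 (.node 1 (.leaf 0x0) (.leaf 0x0)) (.node 1 (.leaf 0x0) (.leaf 0x0)))) (.node 4 (.node 2 (.node 1 (.leaf 0x0) (.leaf 0x0)) (.node 1 (.leaf 0x0) (.leaf 0x0))) (.node 2 (.node 1 (.leaf 0x0) (.leaf 0x0)) (.node 1 (.leaf 0x0)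 (.leaf 0x0))))) (.node 8 (.node 4 (.node 2 (.node 1 (.leaf 0x0) (.leaf 0x0)) (.node 1 (.leaf 0x0) (.leaf 0x0))) (.node 2 (.node 1 (.leaf 0x0) (.leaf 0x0)) (.node 1 (.leaf 0x0) (.leaf 0x0)))) (.node 4 (.node 2 (.node 1 (.leaf 0x0) (.leaf 0x0)) (.node 1 (.leaf 0x0) (.leaf 0x0))) (.node 2 (.node 1 (.leaf 0x0) (.leaf 0x0)) (.node 1 (.leaf 0x0) (.leaf 0x0)))))) (.node 16 (.node 8 (.node 4 (.node 2 (.node 1 (.leaf 0x0) (.leaf 0x0)) (.node 1 (.leaf 0x0) (.leaf 0x0))) (.node 2 (.node 1 (.leaf 0x0) (.leaf 0x0)) (.node 1 (.leaf 0x14) (.leaf 0x0)))) (.node 4 (.node 2 (.node 1 (.leaf 0x0) (.leaf 0x0)) (.node 1 (.leaf 0x0) (.leaf 0x0))) (.node 2 (.node 1 (.leaf 0x0) (.leaf 0x0)) (.node 1 (.leaf 0x0) (.leaf 0x0))))) (.node 8 (.node 4 (.node 2 (.node 1 (.leaf 0x15) (.leaf 0x0)) (.node 1 (.leaf 0x0) (.leaf 0x0))) (.node 2 (.node 1 (.leaf 0x0) (.leaf 0x0)) (.node 1 (.leaf 0x0) (.leaf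 0x0)))) (.node 4 (.node 2 (.node 1 (.leaf 0x0) (.leaf 0x0)) (.node 1 (.leaf 0x0) (.leaf 0x0))) (.node 2 (.node 1 (.leaf 0x0) (.leaf 0x0)) (.node 1 (.leaf 0x16) (.leaf 0x0)))))))

def chainFPos2_5 : Tree :=
  .node 64 (.node 32 (.node 16 (.node 8 (.node 4 (.node 2 (.node 1 (.leaf 0x0) (.leaf 0x0)) (.node 1 (.leaf 0x0) (.leaf 0x0))) (.node 2 (.node 1 (.leaf 0x0) (.leaf 0x0)) (.node 1 (.leaf 0x0) (.leaf 0x17)))) (.node 4 (.node 2 (.node 1 (.leaf 0x0) (.leaf 0x0)) (.node 1 (.leaf 0x0) (.leaf 0x0))) (.node 2 (.node 1 (.leaf 0x0) (.leaf 0x0)) (.node 1 (.leaf 0x0) (.leaf 0x18))))) (.node 8 (.node 4 (.node 2 (.node 1 (.leaf 0x0) (.leaf 0x0)) (.node 1 (.leaf 0x0) (.leaf 0x0))) (.node 2 (.node 1 (.leaf 0x19) (.leaf 0x0)) (.node 1 (.leaf 0x0) (.leaf 0x1a)))) (.node 4 (.node 2 (.node 1 (.leaf 0x0) (.leaf 0x0)) (.node 1 (.leaf 0x0) (.leaf 0x0))) (.node 2 (.node 1 (.leaf 0x0) (.leaf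 0x0)) (.node 1 (.leaf 0x1b) (.leaf 0x0)))))) (.node 16 (.node 8 (.node 4 (.node 2 (.node 1 (.leaf 0x1c) (.leaf 0x0)) (.node 1 (.leaf 0x0) (.leaf 0x0))) (.node 2 (.node 1 (.leaf 0x0) (.leaf 0x0)) (.node 1 (.leaf 0x0) (.leaf 0x0)))) (.node 4 (.node 2 (.node 1 (.leaf 0x0) (.leaf 0x0)) (.node 1 (.leaf 0x0) (.leaf 0x0))) (.node 2 (.node 1 (.leaf 0x0) (.leaf 0x0)) (.node 1 (.leaf 0x0) (.leaf 0x0))))) (.node 8 (.node 4 (.node 2 (.node 1 (.leaf 0x0) (.leaf 0x1d)) (.node 1 (.leaf 0x1e) (.leaf 0x0))) (.node 2 (.node 1 (.leaf 0x0) (.leaf 0x0)) (.node 1 (.leaf 0x0) (.leaf 0x0)))) (.node 4 (.node 2 (.node 1 (.leaf 0x0) (.leaf 0x0)) (.node 1 (.leaf 0x0) (.leaf 0x0))) (.node 2 (.node 1 (.leaf 0x0) (.leaf 0x0)) (.node 1 (.leaf 0x0) (.leaf 0x0))))))) (.node 32 (.node 16 (.node 8 (.node 4 (.node 2 (.node 1 (.leaf 0x0) (.leaf 0x0)) (.node 1 (.leaf 0x0) (.leaf 0x0))) (.node 2 (.node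 1 (.leaf 0x0) (.leaf 0x0)) (.node 1 (.leaf 0x0) (.leaf 0x0)))) (.node 4 (.node 2 (.node 1 (.leaf 0x0) (.leaf 0x0)) (.node 1 (.leaf 0x0) (.leaf 0x0))) (.node 2 (.node 1 (.leaf 0x0) (.leaf 0x0)) (.node 1 (.leaf 0x0) (.leaf 0x0))))) (.node 8 (.node 4 (.node 2 (.node 1 (.leaf 0x0) (.leaf 0x1f)) (.node 1 (.leaf 0x0) (.leaf 0x0))) (.node 2 (.node 1 (.leaf 0x0) (.leaf 0x0)) (.node 1 (.leaf 0x0) (.leaf 0x0)))) (.node 4 (.node 2 (.node 1 (.leaf 0x0) (.leaf 0x0)) (.node 1 (.leaf 0x0) (.leaf 0x0))) (.node 2 (.node 1 (.leaf 0x0) (.leaf 0x0)) (.node 1 (.leaf 0x0) (.leaf 0x0)))))) (.node 16 (.node 8 (.node 4 (.node 2 (.node 1 (.leaf 0x0) (.leaf 0x0)) (.node 1 (.leaf 0x0) (.leaf 0x0))) (.node 2 (.node 1 (.leaf 0x0) (.leaf 0x0)) (.node 1 (.leaf 0x0) (.leaf 0x0)))) (.node 4 (.node 2 (.node 1 (.leaf 0x0) (.leaf 0x0)) (.node 1 (.leaf 0x0) (.leaf 0x20))) (.node 2 (.node 1 (.leaf 0x0)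 (.leaf 0x0)) (.node 1 (.leaf 0x0) (.leaf 0x0))))) (.node 8 (.node 4 (.node 2 (.node 1 (.leaf 0x0) (.leaf 0x0)) (.node 1 (.leaf 0x21) (.leaf 0x22))) (.node 2 (.node 1 (.leaf 0x0) (.leaf 0x0)) (.node 1 (.leaf 0x0) (.leaf 0x0)))) (.node 4 (.node 2 (.node 1 (.leaf 0x0) (.leaf 0x0)) (.node 1 (.leaf 0x0) (.leaf 0x0))) (.node 2 (.node 1 (.leaf 0x0) (.leaf 0x0)) (.node 1 (.leaf 0x0) (.leaf 0x0)))))))

def chainFPos2_6 : Tree :=
  .node 64 (.node 32 (.node 16 (.node 8 (.node 4 (.node 2 (.node 1 (.leaf 0x0) (.leaf 0x0)) (.node 1 (.leaf 0x23) (.leaf 0x0))) (.node 2 (.node 1 (.leaf 0x0) (.leaf 0x0)) (.node 1 (.leaf 0x0) (.leaf 0x0)))) (.node 4 (.node 2 (.node 1 (.leaf 0x0) (.leaf 0x0)) (.node 1 (.leaf 0x24) (.leaf 0x0))) (.node 2 (.node 1 (.leaf 0x0) (.leaf 0x0)) (.node 1 (.leaf 0x0) (.leaf 0x0))))) (.node 8 (.node 4 (.node 2 (.node 1 (.leaf 0x0) (.leaf 0x25)) (.node 1 (.leaf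 0x0) (.leaf 0x0))) (.node 2 (.node 1 (.leaf 0x0) (.leaf 0x0)) (.node 1 (.leaf 0x0) (.leaf 0x0)))) (.node 4 (.node 2 (.node 1 (.leaf 0x0) (.leaf 0x0)) (.node 1 (.leaf 0x0) (.leaf 0x0))) (.node 2 (.node 1 (.leaf 0x0) (.leaf 0x0)) (.node 1 (.leaf 0x0) (.leaf 0x0)))))) (.node 16 (.node 8 (.node 4 (.node 2 (.node 1 (.leaf 0x0) (.leaf 0x0)) (.node 1 (.leaf 0x0) (.leaf 0x0))) (.node 2 (.node 1 (.leaf 0x0) (.leaf 0x0)) (.node 1 (.leaf 0x0) (.leaf 0x0)))) (.node 4 (.node 2 (.node 1 (.leaf 0x0) (.leaf 0x0)) (.node 1 (.leaf 0x0) (.leaf 0x0))) (.node 2 (.node 1 (.leaf 0x0) (.leaf 0x0)) (.node 1 (.leaf 0x0) (.leaf 0x0))))) (.node 8 (.node 4 (.node 2 (.node 1 (.leaf 0x0) (.leaf 0x0)) (.node 1 (.leaf 0x0) (.leaf 0x0))) (.node 2 (.node 1 (.leaf 0x0) (.leaf 0x0)) (.node 1 (.leaf 0x0) (.leaf 0x0)))) (.node 4 (.node 2 (.node 1 (.leaf 0x26) (.leaf 0x0)) (.node 1 (.leaf 0x0) (.leaf 0x0)))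 (.node 2 (.node 1 (.leaf 0x0) (.leaf 0x0)) (.node 1 (.leaf 0x0) (.leaf 0x0))))))) (.node 32 (.node 16 (.node 8 (.node 4 (.node 2 (.node 1 (.leaf 0x0) (.leaf 0x0)) (.node 1 (.leaf 0x0) (.leaf 0x0))) (.node 2 (.node 1 (.leaf 0x0) (.leaf 0x0)) (.node 1 (.leaf 0x0) (.leaf 0x0)))) (.node 4 (.node 2 (.node 1 (.leaf 0x0) (.leaf 0x0)) (.node 1 (.leaf 0x0) (.leaf 0x0))) (.node 2 (.node 1 (.leaf 0x0) (.leaf 0x0)) (.node 1 (.leaf 0x0) (.leaf 0x0))))) (.node 8 (.node 4 (.node 2 (.node 1 (.leaf 0x0) (.leaf 0x0)) (.node 1 (.leaf 0x0) (.leaf 0x0))) (.node 2 (.node 1 (.leaf 0x0) (.leaf 0x27)) (.node 1 (.leaf 0x0) (.leaf 0x0)))) (.node 4 (.node 2 (.node 1 (.leaf 0x0) (.leaf 0x0)) (.node 1 (.leaf 0x0) (.leaf 0x0))) (.node 2 (.node 1 (.leaf 0x0) (.leaf 0x0)) (.node 1 (.leaf 0x0) (.leaf 0x28)))))) (.node 16 (.node 8 (.node 4 (.node 2 (.node 1 (.leaf 0x0) (.leaf 0x0)) (.node 1 (.leaf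 0x0) (.leaf 0x0))) (.node 2 (.node 1 (.leaf 0x0) (.leaf 0x29)) (.node 1 (.leaf 0x0) (.leaf 0x0)))) (.node 4 (.node 2 (.node 1 (.leaf 0x2a) (.leaf 0x0)) (.node 1 (.leaf 0x0) (.leaf 0x0))) (.node 2 (.node 1 (.leaf 0x0) (.leaf 0x0)) (.node 1 (.leaf 0x2b) (.leaf 0x0))))) (.node 8 (.node 4 (.node 2 (.node 1 (.leaf 0x0) (.leaf 0x0)) (.node 1 (.leaf 0x0) (.leaf 0x0))) (.node 2 (.node 1 (.leaf 0x0) (.leaf 0x0)) (.node 1 (.leaf 0x0) (.leaf 0x0)))) (.node 4 (.node 2 (.node 1 (.leaf 0x0) (.leaf 0x0)) (.node 1 (.leaf 0x0) (.leaf 0x0))) (.node 2 (.node 1 (.leaf 0x0) (.leaf 0x0)) (.node 1 (.leaf 0x0) (.leaf 0x0)))))))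

def chainFPos2_7 : Tree :=
  .node 64 (.node 32 (.node 16 (.node 8 (.node 4 (.node 2 (.node 1 (.leaf 0x0) (.leaf 0x0)) (.node 1 (.leaf 0x0) (.leaf 0x0))) (.node 2 (.node 1 (.leaf 0x0) (.leaf 0x0)) (.node 1 (.leaf 0x0) (.leaf 0x0)))) (.node 4 (.node 2 (.node 1 (.leaf 0x0) (.leaf 0x0)) (.node 1 (.leaf 0x0) (.leaf 0x0))) (.node 2 (.node 1 (.leaf 0x0) (.leaf 0x0)) (.node 1 (.leaf 0x0) (.leaf 0x0))))) (.node 8 (.node 4 (.node 2 (.node 1 (.leaf 0x0) (.leaf 0x0)) (.node 1 (.leaf 0x0) (.leaf 0x2c))) (.node 2 (.node 1 (.leaf 0x0) (.leaf 0x0)) (.node 1 (.leaf 0x0) (.leaf 0x2d)))) (.node 4 (.node 2 (.node 1 (.leaf 0x0) (.leaf 0x2e)) (.node 1 (.leaf 0x0) (.leaf 0x0))) (.node 2 (.node 1 (.leaf 0x0) (.leaf 0x0)) (.node 1 (.leaf 0x0) (.leaf 0x0)))))) (.node 16 (.node 8 (.node 4 (.node 2 (.node 1 (.leaf 0x2f) (.leaf 0x0)) (.node 1 (.leaf 0x0) (.leaf 0x30))) (.node 2 (.node 1 (.leaf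 0x0) (.leaf 0x0)) (.node 1 (.leaf 0x0) (.leaf 0x0)))) (.node 4 (.node 2 (.node 1 (.leaf 0x0) (.leaf 0x0)) (.node 1 (.leaf 0x0) (.leaf 0x0))) (.node 2 (.node 1 (.leaf 0x0) (.leaf 0x0)) (.node 1 (.leaf 0x0) (.leaf 0x0))))) (.node 8 (.node 4 (.node 2 (.node 1 (.leaf 0x0) (.leaf 0x31)) (.node 1 (.leaf 0x32) (.leaf 0x0))) (.node 2 (.node 1 (.leaf 0x33) (.leaf 0x0)) (.node 1 (.leaf 0x0) (.leaf 0x0)))) (.node 4 (.node 2 (.node 1 (.leaf 0x0) (.leaf 0x0)) (.node 1 (.leaf 0x0) (.leaf 0x0))) (.node 2 (.node 1 (.leaf 0x0) (.leaf 0x0)) (.node 1 (.leaf 0x0) (.leaf 0x0))))))) (.node 32 (.node 16 (.node 8 (.node 4 (.node 2 (.node 1 (.leaf 0x34) (.leaf 0x0)) (.node 1 (.leaf 0x0) (.leaf 0x0))) (.node 2 (.node 1 (.leaf 0x35) (.leaf 0x36)) (.node 1 (.leaf 0x0) (.leaf 0x0)))) (.node 4 (.node 2 (.node 1 (.leaf 0x0) (.leaf 0x0)) (.node 1 (.leaf 0x0) (.leaf 0x0))) (.node 2 (.node 1 (.leaf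 0x0) (.leaf 0x0)) (.node 1 (.leaf 0x37) (.leaf 0x0))))) (.node 8 (.node 4 (.node 2 (.node 1 (.leaf 0x0) (.leaf 0x0)) (.node 1 (.leaf 0x0) (.leaf 0x0))) (.node 2 (.node 1 (.leaf 0x0) (.leaf 0x0)) (.node 1 (.leaf 0x38) (.leaf 0x0)))) (.node 4 (.node 2 (.node 1 (.leaf 0x0) (.leaf 0x0)) (.node 1 (.leaf 0x0) (.leaf 0x0))) (.node 2 (.node 1 (.leaf 0x39) (.leaf 0x0)) (.node 1 (.leaf 0x0) (.leaf 0x0)))))) (.node 16 (.node 8 (.node 4 (.node 2 (.node 1 (.leaf 0x0) (.leaf 0x0)) (.node 1 (.leaf 0x0) (.leaf 0x0))) (.node 2 (.node 1 (.leaf 0x0) (.leaf 0x0)) (.node 1 (.leaf 0x0) (.leaf 0x0)))) (.node 4 (.node 2 (.node 1 (.leaf 0x0) (.leaf 0x0)) (.node 1 (.leaf 0x0) (.leaf 0x0))) (.node 2 (.node 1 (.leaf 0x0) (.leaf 0x0)) (.node 1 (.leaf 0x0) (.leaf 0x0))))) (.node 8 (.node 4 (.node 2 (.node 1 (.leaf 0x0) (.leaf 0x0)) (.node 1 (.leaf 0x0) (.leaf 0x0))) (.node 2 (.node 1 (.leaf 0x0)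 (.leaf 0x0)) (.node 1 (.leaf 0x0) (.leaf 0x0)))) (.node 4 (.node 2 (.node 1 (.leaf 0x0) (.leaf 0x0)) (.node 1 (.leaf 0x0) (.leaf 0x0))) (.node 2 (.node 1 (.leaf 0x0) (.leaf 0x0)) (.node 1 (.leaf 0x0) (.leaf 0x0)))))))

def chainFPos2_8 : Tree :=
  .node 64 (.node 32 (.node 16 (.node 8 (.node 4 (.node 2 (.node 1 (.leaf 0x0) (.leaf 0x0)) (.node 1 (.leaf 0x0) (.leaf 0x0))) (.node 2 (.node 1 (.leaf 0x0) (.leaf 0x0)) (.node 1 (.leaf 0x3a) (.leaf 0x0)))) (.node 4 (.node 2 (.node 1 (.leaf 0x0) (.leaf 0x0)) (.node 1 (.leaf 0x0) (.leaf 0x0))) (.node 2 (.node 1 (.leaf 0x0) (.leaf 0x0)) (.node 1 (.leaf 0x0) (.leaf 0x0))))) (.node 8 (.node 4 (.node 2 (.node 1 (.leaf 0x0) (.leaf 0x0)) (.node 1 (.leaf 0x0) (.leaf 0x3b))) (.node 2 (.node 1 (.leaf 0x0) (.leaf 0x0)) (.node 1 (.leaf 0x0) (.leaf 0x0)))) (.node 4 (.node 2 (.node 1 (.leaf 0x0) (.leaf 0x0)) (.node 1 (.leaf 0x0) (.leaf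 0x0))) (.node 2 (.node 1 (.leaf 0x0) (.leaf 0x0)) (.node 1 (.leaf 0x0) (.leaf 0x0)))))) (.node 16 (.node 8 (.node 4 (.node 2 (.node 1 (.leaf 0x0) (.leaf 0x0)) (.node 1 (.leaf 0x0) (.leaf 0x0))) (.node 2 (.node 1 (.leaf 0x0) (.leaf 0x0)) (.node 1 (.leaf 0x0) (.leaf 0x3c)))) (.node 4 (.node 2 (.node 1 (.leaf 0x0) (.leaf 0x0)) (.node 1 (.leaf 0x0) (.leaf 0x0))) (.node 2 (.node 1 (.leaf 0x0) (.leaf 0x0)) (.node 1 (.leaf 0x0) (.leaf 0x0))))) (.node 8 (.node 4 (.node 2 (.node 1 (.leaf 0x0) (.leaf 0x0)) (.node 1 (.leaf 0x0) (.leaf 0x0))) (.node 2 (.node 1 (.leaf 0x0) (.leaf 0x0)) (.node 1 (.leaf 0x0) (.leaf 0x0)))) (.node 4 (.node 2 (.node 1 (.leaf 0x0) (.leaf 0x0)) (.node 1 (.leaf 0x0) (.leaf 0x0))) (.node 2 (.node 1 (.leaf 0x0) (.leaf 0x0)) (.node 1 (.leaf 0x0) (.leaf 0x0))))))) (.node 32 (.node 16 (.node 8 (.node 4 (.node 2 (.node 1 (.leaf 0x0) (.leaf 0x0)) (.node 1 (.leaf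 0x0) (.leaf 0x0))) (.node 2 (.node 1 (.leaf 0x0) (.leaf 0x0)) (.node 1 (.leaf 0x0) (.leaf 0x0)))) (.node 4 (.node 2 (.node 1 (.leaf 0x0) (.leaf 0x0)) (.node 1 (.leaf 0x0) (.leaf 0x0))) (.node 2 (.node 1 (.leaf 0x3d) (.leaf 0x0)) (.node 1 (.leaf 0x0) (.leaf 0x0))))) (.node 8 (.node 4 (.node 2 (.node 1 (.leaf 0x0) (.leaf 0x0)) (.node 1 (.leaf 0x0) (.leaf 0x0))) (.node 2 (.node 1 (.leaf 0x0) (.leaf 0x0)) (.node 1 (.leaf 0x0) (.leaf 0x0)))) (.node 4 (.node 2 (.node 1 (.leaf 0x0) (.leaf 0x0)) (.node 1 (.leaf 0x0) (.leaf 0x0))) (.node 2 (.node 1 (.leaf 0x0) (.leaf 0x0)) (.node 1 (.leaf 0x0) (.leaf 0x0)))))) (.node 16 (.node 8 (.node 4 (.node 2 (.node 1 (.leaf 0x0) (.leaf 0x0)) (.node 1 (.leaf 0x0) (.leaf 0x0))) (.node 2 (.node 1 (.leaf 0x0) (.leaf 0x0)) (.node 1 (.leaf 0x0) (.leaf 0x0)))) (.node 4 (.node 2 (.node 1 (.leaf 0x0) (.leaf 0x0)) (.node 1 (.leaf 0x0) (.leaf 0x0)))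 (.node 2 (.node 1 (.leaf 0x0) (.leaf 0x0)) (.node 1 (.leaf 0x0) (.leaf 0x0))))) (.node 8 (.node 4 (.node 2 (.node 1 (.leaf 0x0) (.leaf 0x0)) (.node 1 (.leaf 0x0) (.leaf 0x0))) (.node 2 (.node 1 (.leaf 0x0) (.leaf 0x0)) (.node 1 (.leaf 0x0) (.leaf 0x0)))) (.node 4 (.node 2 (.node 1 (.leaf 0x0) (.leaf 0x0)) (.node 1 (.leaf 0x0) (.leaf 0x0))) (.node 2 (.node 1 (.leaf 0x0) (.leaf 0x0)) (.node 1 (.leaf 0x0) (.leaf 0x0)))))))

def chainFPos2_9 : Tree :=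
  .node 64 (.node 32 (.node 16 (.node 8 (.node 4 (.node 2 (.node 1 (.leaf 0x0) (.leaf 0x0)) (.node 1 (.leaf 0x0) (.leaf 0x0))) (.node 2 (.node 1 (.leaf 0x0) (.leaf 0x0)) (.node 1 (.leaf 0x0) (.leaf 0x0)))) (.node 4 (.node 2 (.node 1 (.leaf 0x0) (.leaf 0x0)) (.node 1 (.leaf 0x0) (.leaf 0x0))) (.node 2 (.node 1 (.leaf 0x0) (.leaf 0x0)) (.node 1 (.leaf 0x0) (.leaf 0x0))))) (.node 8 (.node 4 (.node 2 (.node 1 (.leaf 0x0) (.leaf 0x0)) (.node 1 (.leaf 0x0) (.leaf 0x0))) (.node 2 (.node 1 (.leaf 0x0) (.leaf 0x0)) (.node 1 (.leaf 0x0) (.leaf 0x0)))) (.node 4 (.node 2 (.node 1 (.leaf 0x0) (.leaf 0x0)) (.node 1 (.leaf 0x0) (.leaf 0x0))) (.node 2 (.node 1 (.leaf 0x0) (.leaf 0x0)) (.node 1 (.leaf 0x0) (.leaf 0x0)))))) (.node 16 (.node 8 (.node 4 (.node 2 (.node 1 (.leaf 0x0) (.leaf 0x0)) (.node 1 (.leaf 0x0) (.leaf 0x0))) (.node 2 (.node 1 (.leaf 0x0) (.leaf 0x0)) (.node 1 (.leaf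 0x0) (.leaf 0x0)))) (.node 4 (.node 2 (.node 1 (.leaf 0x3e) (.leaf 0x0)) (.node 1 (.leaf 0x0) (.leaf 0x0))) (.node 2 (.node 1 (.leaf 0x0) (.leaf 0x0)) (.node 1 (.leaf 0x0) (.leaf 0x0))))) (.node 8 (.node 4 (.node 2 (.node 1 (.leaf 0x0) (.leaf 0x3f)) (.node 1 (.leaf 0x0) (.leaf 0x0))) (.node 2 (.node 1 (.leaf 0x0) (.leaf 0x0)) (.node 1 (.leaf 0x40) (.leaf 0x0)))) (.node 4 (.node 2 (.node 1 (.leaf 0x0) (.leaf 0x0)) (.node 1 (.leaf 0x0) (.leaf 0x0))) (.node 2 (.node 1 (.leaf 0x0) (.leaf 0x0)) (.node 1 (.leaf 0x0) (.leaf 0x0))))))) (.node 32 (.node 16 (.node 8 (.node 4 (.node 2 (.node 1 (.leaf 0x0) (.leaf 0x0)) (.node 1 (.leaf 0x0) (.leaf 0x0))) (.node 2 (.node 1 (.leaf 0x0) (.leaf 0x0)) (.node 1 (.leaf 0x0) (.leaf 0x0)))) (.node 4 (.node 2 (.node 1 (.leaf 0x0) (.leaf 0x0)) (.node 1 (.leaf 0x0) (.leaf 0x0))) (.node 2 (.node 1 (.leaf 0x0) (.leaf 0x41)) (.node 1 (.leaf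 0x42) (.leaf 0x0))))) (.node 8 (.node 4 (.node 2 (.node 1 (.leaf 0x0) (.leaf 0x0)) (.node 1 (.leaf 0x0) (.leaf 0x0))) (.node 2 (.node 1 (.leaf 0x0) (.leaf 0x0)) (.node 1 (.leaf 0x0) (.leaf 0x0)))) (.node 4 (.node 2 (.node 1 (.leaf 0x0) (.leaf 0x0)) (.node 1 (.leaf 0x0) (.leaf 0x0))) (.node 2 (.node 1 (.leaf 0x0) (.leaf 0x0)) (.node 1 (.leaf 0x0) (.leaf 0x0)))))) (.node 16 (.node 8 (.node 4 (.node 2 (.node 1 (.leaf 0x0) (.leaf 0x0)) (.node 1 (.leaf 0x0) (.leaf 0x0))) (.node 2 (.node 1 (.leaf 0x43) (.leaf 0x0)) (.node 1 (.leaf 0x0) (.leaf 0x0)))) (.node 4 (.node 2 (.node 1 (.leaf 0x0) (.leaf 0x0)) (.node 1 (.leaf 0x0) (.leaf 0x0))) (.node 2 (.node 1 (.leaf 0x0) (.leaf 0x0)) (.node 1 (.leaf 0x0) (.leaf 0x0))))) (.node 8 (.node 4 (.node 2 (.node 1 (.leaf 0x0) (.leaf 0x0)) (.node 1 (.leaf 0x0) (.leaf 0x0))) (.node 2 (.node 1 (.leaf 0x0) (.leaf 0x44)) (.node 1 (.leaf 0x0)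 (.leaf 0x0)))) (.node 4 (.node 2 (.node 1 (.leaf 0x0) (.leaf 0x0)) (.node 1 (.leaf 0x45) (.leaf 0x0))) (.node 2 (.node 1 (.leaf 0x46) (.leaf 0x47)) (.node 1 (.leaf 0x0) (.leaf 0x0)))))))

def chainFPos2_10 : Tree :=
  .node 64 (.node 32 (.node 16 (.node 8 (.node 4 (.node 2 (.node 1 (.leaf 0x48) (.leaf 0x0)) (.node 1 (.leaf 0x0) (.leaf 0x49))) (.node 2 (.node 1 (.leaf 0x0) (.leaf 0x0)) (.node 1 (.leaf 0x0) (.leaf 0x0)))) (.node 4 (.node 2 (.node 1 (.leaf 0x0) (.leaf 0x0)) (.node 1 (.leaf 0x0) (.leaf 0x0))) (.node 2 (.node 1 (.leaf 0x0) (.leaf 0x0)) (.node 1 (.leaf 0x0) (.leaf 0x0))))) (.node 8 (.node 4 (.node 2 (.node 1 (.leaf 0x0) (.leaf 0x0)) (.node 1 (.leaf 0x0) (.leaf 0x4a))) (.node 2 (.node 1 (.leaf 0x0) (.leaf 0x0)) (.node 1 (.leaf 0x0) (.leaf 0x0)))) (.node 4 (.node 2 (.node 1 (.leaf 0x0) (.leaf 0x0)) (.node 1 (.leaf 0x0) (.leaf 0x0))) (.node 2 (.node 1 (.leaf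 0x0) (.leaf 0x4b)) (.node 1 (.leaf 0x4c) (.leaf 0x0)))))) (.node 16 (.node 8 (.node 4 (.node 2 (.node 1 (.leaf 0x0) (.leaf 0x0)) (.node 1 (.leaf 0x0) (.leaf 0x0))) (.node 2 (.node 1 (.leaf 0x0) (.leaf 0x0)) (.node 1 (.leaf 0x0) (.leaf 0x4d)))) (.node 4 (.node 2 (.node 1 (.leaf 0x0) (.leaf 0x0)) (.node 1 (.leaf 0x0) (.leaf 0x0))) (.node 2 (.node 1 (.leaf 0x0) (.leaf 0x0)) (.node 1 (.leaf 0x0) (.leaf 0x0))))) (.node 8 (.node 4 (.node 2 (.node 1 (.leaf 0x4e) (.leaf 0x0)) (.node 1 (.leaf 0x0) (.leaf 0x0))) (.node 2 (.node 1 (.leaf 0x0) (.leaf 0x0)) (.node 1 (.leaf 0x0) (.leaf 0x0)))) (.node 4 (.node 2 (.node 1 (.leaf 0x0) (.leaf 0x0)) (.node 1 (.leaf 0x0) (.leaf 0x4f))) (.node 2 (.node 1 (.leaf 0x0) (.leaf 0x0)) (.node 1 (.leaf 0x0) (.leaf 0x0))))))) (.node 32 (.node 16 (.node 8 (.node 4 (.node 2 (.node 1 (.leaf 0x0) (.leaf 0x0)) (.node 1 (.leaf 0x0) (.leaf 0x0))) (.node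 2 (.node 1 (.leaf 0x0) (.leaf 0x0)) (.node 1 (.leaf 0x0) (.leaf 0x0)))) (.node 4 (.node 2 (.node 1 (.leaf 0x0) (.leaf 0x0)) (.node 1 (.leaf 0x0) (.leaf 0x0))) (.node 2 (.node 1 (.leaf 0x0) (.leaf 0x0)) (.node 1 (.leaf 0x0) (.leaf 0x0))))) (.node 8 (.node 4 (.node 2 (.node 1 (.leaf 0x0) (.leaf 0x0)) (.node 1 (.leaf 0x0) (.leaf 0x0))) (.node 2 (.node 1 (.leaf 0x0) (.leaf 0x0)) (.node 1 (.leaf 0x0) (.leaf 0x0)))) (.node 4 (.node 2 (.node 1 (.leaf 0x50) (.leaf 0x0)) (.node 1 (.leaf 0x0) (.leaf 0x0))) (.node 2 (.node 1 (.leaf 0x0) (.leaf 0x0)) (.node 1 (.leaf 0x0) (.leaf 0x0)))))) (.node 16 (.node 8 (.node 4 (.node 2 (.node 1 (.leaf 0x0) (.leaf 0x0)) (.node 1 (.leaf 0x0) (.leaf 0x0))) (.node 2 (.node 1 (.leaf 0x0) (.leaf 0x0)) (.node 1 (.leaf 0x51) (.leaf 0x0)))) (.node 4 (.node 2 (.node 1 (.leaf 0x0) (.leaf 0x0)) (.node 1 (.leaf 0x0) (.leaf 0x0))) (.node 2 (.node 1 (.leaf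 0x0) (.leaf 0x0)) (.node 1 (.leaf 0x0) (.leaf 0x0))))) (.node 8 (.node 4 (.node 2 (.node 1 (.leaf 0x0) (.leaf 0x0)) (.node 1 (.leaf 0x0) (.leaf 0x52))) (.node 2 (.node 1 (.leaf 0x0) (.leaf 0x0)) (.node 1 (.leaf 0x0) (.leaf 0x0)))) (.node 4 (.node 2 (.node 1 (.leaf 0x0) (.leaf 0x0)) (.node 1 (.leaf 0x0) (.leaf 0x0))) (.node 2 (.node 1 (.leaf 0x0) (.leaf 0x0)) (.node 1 (.leaf 0x0) (.leaf 0x0)))))))

def chainFPos2_11 : Tree :=
  .node 64 (.node 32 (.node 16 (.node 8 (.node 4 (.node 2 (.node 1 (.leaf 0x0) (.leaf 0x0)) (.node 1 (.leaf 0x0) (.leaf 0x0))) (.node 2 (.node 1 (.leaf 0x0) (.leaf 0x0)) (.node 1 (.leaf 0x0) (.leaf 0x0)))) (.node 4 (.node 2 (.node 1 (.leaf 0x0) (.leaf 0x0)) (.node 1 (.leaf 0x0) (.leaf 0x0))) (.node 2 (.node 1 (.leaf 0x0) (.leaf 0x0)) (.node 1 (.leaf 0x0) (.leaf 0x0))))) (.node 8 (.node 4 (.node 2 (.node 1 (.leaf 0x0) (.leaf 0x0)) (.node 1 (.leaf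 0x0) (.leaf 0x0))) (.node 2 (.node 1 (.leaf 0x0) (.leaf 0x0)) (.node 1 (.leaf 0x0) (.leaf 0x0)))) (.node 4 (.node 2 (.node 1 (.leaf 0x0) (.leaf 0x0)) (.node 1 (.leaf 0x0) (.leaf 0x0))) (.node 2 (.node 1 (.leaf 0x0) (.leaf 0x0)) (.node 1 (.leaf 0x0) (.leaf 0x0)))))) (.node 16 (.node 8 (.node 4 (.node 2 (.node 1 (.leaf 0x0) (.leaf 0x0)) (.node 1 (.leaf 0x0) (.leaf 0x0))) (.node 2 (.node 1 (.leaf 0x0) (.leaf 0x53)) (.node 1 (.leaf 0x0) (.leaf 0x0)))) (.node 4 (.node 2 (.node 1 (.leaf 0x0) (.leaf 0x0)) (.node 1 (.leaf 0x0) (.leaf 0x0))) (.node 2 (.node 1 (.leaf 0x0) (.leaf 0x0)) (.node 1 (.leaf 0x0) (.leaf 0x0))))) (.node 8 (.node 4 (.node 2 (.node 1 (.leaf 0x0) (.leaf 0x0)) (.node 1 (.leaf 0x0) (.leaf 0x0))) (.node 2 (.node 1 (.leaf 0x0) (.leaf 0x0)) (.node 1 (.leaf 0x0) (.leaf 0x0)))) (.node 4 (.node 2 (.node 1 (.leaf 0x0) (.leaf 0x0)) (.node 1 (.leaf 0x54) (.leaf 0x0)))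 (.node 2 (.node 1 (.leaf 0x55) (.leaf 0x0)) (.node 1 (.leaf 0x0) (.leaf 0x0))))))) (.node 32 (.node 16 (.node 8 (.node 4 (.node 2 (.node 1 (.leaf 0x0) (.leaf 0x0)) (.node 1 (.leaf 0x0) (.leaf 0x0))) (.node 2 (.node 1 (.leaf 0x0) (.leaf 0x0)) (.node 1 (.leaf 0x0) (.leaf 0x0)))) (.node 4 (.node 2 (.node 1 (.leaf 0x0) (.leaf 0x0)) (.node 1 (.leaf 0x0) (.leaf 0x0))) (.node 2 (.node 1 (.leaf 0x0) (.leaf 0x0)) (.node 1 (.leaf 0x0) (.leaf 0x0))))) (.node 8 (.node 4 (.node 2 (.node 1 (.leaf 0x0) (.leaf 0x0)) (.node 1 (.leaf 0x0) (.leaf 0x0))) (.node 2 (.node 1 (.leaf 0x0) (.leaf 0x0)) (.node 1 (.leaf 0x0) (.leaf 0x0)))) (.node 4 (.node 2 (.node 1 (.leaf 0x0) (.leaf 0x0)) (.node 1 (.leaf 0x0) (.leaf 0x0))) (.node 2 (.node 1 (.leaf 0x0) (.leaf 0x0)) (.node 1 (.leaf 0x0) (.leaf 0x0)))))) (.node 16 (.node 8 (.node 4 (.node 2 (.node 1 (.leaf 0x0) (.leaf 0x0)) (.node 1 (.leaf 0x0)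 (.leaf 0x0))) (.node 2 (.node 1 (.leaf 0x0) (.leaf 0x0)) (.node 1 (.leaf 0x0) (.leaf 0x0)))) (.node 4 (.node 2 (.node 1 (.leaf 0x0) (.leaf 0x0)) (.node 1 (.leaf 0x0) (.leaf 0x0))) (.node 2 (.node 1 (.leaf 0x0) (.leaf 0x0)) (.node 1 (.leaf 0x0) (.leaf 0x0))))) (.node 8 (.node 4 (.node 2 (.node 1 (.leaf 0x0) (.leaf 0x56)) (.node 1 (.leaf 0x0) (.leaf 0x0))) (.node 2 (.node 1 (.leaf 0x0) (.leaf 0x0)) (.node 1 (.leaf 0x0) (.leaf 0x0)))) (.node 4 (.node 2 (.node 1 (.leaf 0x0) (.leaf 0x0)) (.node 1 (.leaf 0x0) (.leaf 0x0))) (.node 2 (.node 1 (.leaf 0x0) (.leaf 0x0)) (.node 1 (.leaf 0x0) (.leaf 0x0)))))))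

def chainFPos2_12 : Tree :=
  .node 64 (.node 32 (.node 16 (.node 8 (.node 4 (.node 2 (.node 1 (.leaf 0x0) (.leaf 0x0)) (.node 1 (.leaf 0x57) (.leaf 0x0))) (.node 2 (.node 1 (.leaf 0x0) (.leaf 0x0)) (.node 1 (.leaf 0x0) (.leaf 0x0)))) (.node 4 (.node 2 (.node 1 (.leaf 0x0) (.leaf 0x58)) (.node 1 (.leaf 0x0) (.leaf 0x0))) (.node 2 (.node 1 (.leaf 0x0) (.leaf 0x0)) (.node 1 (.leaf 0x0) (.leaf 0x0))))) (.node 8 (.node 4 (.node 2 (.node 1 (.leaf 0x0) (.leaf 0x0)) (.node 1 (.leaf 0x0) (.leaf 0x0))) (.node 2 (.node 1 (.leaf 0x0) (.leaf 0x0)) (.node 1 (.leaf 0x0) (.leaf 0x0)))) (.node 4 (.node 2 (.node 1 (.leaf 0x0) (.leaf 0x0)) (.node 1 (.leaf 0x0) (.leaf 0x0))) (.node 2 (.node 1 (.leaf 0x0) (.leaf 0x0)) (.node 1 (.leaf 0x0) (.leaf 0x0)))))) (.node 16 (.node 8 (.node 4 (.node 2 (.node 1 (.leaf 0x0) (.leaf 0x0)) (.node 1 (.leaf 0x0) (.leaf 0x0))) (.node 2 (.node 1 (.leaf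 0x0) (.leaf 0x0)) (.node 1 (.leaf 0x0) (.leaf 0x0)))) (.node 4 (.node 2 (.node 1 (.leaf 0x0) (.leaf 0x0)) (.node 1 (.leaf 0x0) (.leaf 0x0))) (.node 2 (.node 1 (.leaf 0x0) (.leaf 0x0)) (.node 1 (.leaf 0x0) (.leaf 0x0))))) (.node 8 (.node 4 (.node 2 (.node 1 (.leaf 0x0) (.leaf 0x0)) (.node 1 (.leaf 0x0) (.leaf 0x0))) (.node 2 (.node 1 (.leaf 0x0) (.leaf 0x0)) (.node 1 (.leaf 0x0) (.leaf 0x0)))) (.node 4 (.node 2 (.node 1 (.leaf 0x0) (.leaf 0x0)) (.node 1 (.leaf 0x0) (.leaf 0x0))) (.node 2 (.node 1 (.leaf 0x0) (.leaf 0x0)) (.node 1 (.leaf 0x59) (.leaf 0x5a))))))) (.node 32 (.node 16 (.node 8 (.node 4 (.node 2 (.node 1 (.leaf 0x5b) (.leaf 0x0)) (.node 1 (.leaf 0x0) (.leaf 0x0))) (.node 2 (.node 1 (.leaf 0x0) (.leaf 0x0)) (.node 1 (.leaf 0x0) (.leaf 0x0)))) (.node 4 (.node 2 (.node 1 (.leaf 0x0) (.leaf 0x0)) (.node 1 (.leaf 0x0) (.leaf 0x0))) (.node 2 (.node 1 (.leaf 0x0)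 (.leaf 0x0)) (.node 1 (.leaf 0x0) (.leaf 0x0))))) (.node 8 (.node 4 (.node 2 (.node 1 (.leaf 0x5c) (.leaf 0x0)) (.node 1 (.leaf 0x0) (.leaf 0x0))) (.node 2 (.node 1 (.leaf 0x0) (.leaf 0x0)) (.node 1 (.leaf 0x0) (.leaf 0x0)))) (.node 4 (.node 2 (.node 1 (.leaf 0x0) (.leaf 0x0)) (.node 1 (.leaf 0x0) (.leaf 0x0))) (.node 2 (.node 1 (.leaf 0x0) (.leaf 0x0)) (.node 1 (.leaf 0x0) (.leaf 0x0)))))) (.node 16 (.node 8 (.node 4 (.node 2 (.node 1 (.leaf 0x0) (.leaf 0x0)) (.node 1 (.leaf 0x0) (.leaf 0x0))) (.node 2 (.node 1 (.leaf 0x0) (.leaf 0x0)) (.node 1 (.leaf 0x0) (.leaf 0x5d)))) (.node 4 (.node 2 (.node 1 (.leaf 0x0) (.leaf 0x0)) (.node 1 (.leaf 0x0) (.leaf 0x0))) (.node 2 (.node 1 (.leaf 0x0) (.leaf 0x0)) (.node 1 (.leaf 0x0) (.leaf 0x0))))) (.node 8 (.node 4 (.node 2 (.node 1 (.leaf 0x0) (.leaf 0x0)) (.node 1 (.leaf 0x0) (.leaf 0x0))) (.node 2 (.node 1 (.leaf 0x0) (.leaf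 0x0)) (.node 1 (.leaf 0x0) (.leaf 0x0)))) (.node 4 (.node 2 (.node 1 (.leaf 0x0) (.leaf 0x0)) (.node 1 (.leaf 0x0) (.leaf 0x0))) (.node 2 (.node 1 (.leaf 0x0) (.leaf 0x0)) (.node 1 (.leaf 0x0) (.leaf 0x0)))))))

def chainFPos2_13 : Tree :=
  .node 59 (.node 29 (.node 14 (.node 7 (.node 3 (.node 1 (.leaf 0x0) (.node 1 (.leaf 0x0) (.leaf 0x0))) (.node 2 (.node 1 (.leaf 0x0) (.leaf 0x0)) (.node 1 (.leaf 0x0) (.leaf 0x0)))) (.node 3 (.node 1 (.leaf 0x0) (.node 1 (.leaf 0x0) (.leaf 0x0))) (.node 2 (.node 1 (.leaf 0x0) (.leaf 0x0)) (.node 1 (.leaf 0x0) (.leaf 0x0))))) (.node 7 (.node 3 (.node 1 (.leaf 0x0) (.node 1 (.leaf 0x0) (.leaf 0x0))) (.node 2 (.node 1 (.leaf 0x0) (.leaf 0x0)) (.node 1 (.leaf 0x0) (.leaf 0x0)))) (.node 4 (.node 2 (.node 1 (.leaf 0x0) (.leaf 0x0)) (.node 1 (.leaf 0x0) (.leaf 0x0))) (.node 2 (.node 1 (.leaf 0x0) (.leaf 0x5e)) (.node 1 (.leaf 0x5f) (.leaf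 0x0)))))) (.node 15 (.node 7 (.node 3 (.node 1 (.leaf 0x0) (.node 1 (.leaf 0x0) (.leaf 0x0))) (.node 2 (.node 1 (.leaf 0x0) (.leaf 0x0)) (.node 1 (.leaf 0x0) (.leaf 0x0)))) (.node 4 (.node 2 (.node 1 (.leaf 0x0) (.leaf 0x0)) (.node 1 (.leaf 0x0) (.leaf 0x0))) (.node 2 (.node 1 (.leaf 0x0) (.leaf 0x60)) (.node 1 (.leaf 0x0) (.leaf 0x0))))) (.node 7 (.node 3 (.node 1 (.leaf 0x0) (.node 1 (.leaf 0x0) (.leaf 0x0))) (.node 2 (.node 1 (.leaf 0x0) (.leaf 0x0)) (.node 1 (.leaf 0x0) (.leaf 0x0)))) (.node 4 (.node 2 (.node 1 (.leaf 0x0) (.leaf 0x0)) (.node 1 (.leaf 0x0) (.leaf 0x0))) (.node 2 (.node 1 (.leaf 0x0) (.leaf 0x0)) (.node 1 (.leaf 0x0) (.leaf 0x0))))))) (.node 29 (.node 14 (.node 7 (.node 3 (.node 1 (.leaf 0x0) (.node 1 (.leaf 0x0) (.leaf 0x0))) (.node 2 (.node 1 (.leaf 0x0) (.leaf 0x0)) (.node 1 (.leaf 0x0) (.leaf 0x0)))) (.node 3 (.node 1 (.leaf 0x0) (.node 1 (.leaf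 0x0) (.leaf 0x0))) (.node 2 (.node 1 (.leaf 0x0) (.leaf 0x0)) (.node 1 (.leaf 0x0) (.leaf 0x0))))) (.node 7 (.node 3 (.node 1 (.leaf 0x0) (.node 1 (.leaf 0x0) (.leaf 0x0))) (.node 2 (.node 1 (.leaf 0x0) (.leaf 0x0)) (.node 1 (.leaf 0x0) (.leaf 0x0)))) (.node 4 (.node 2 (.node 1 (.leaf 0x0) (.leaf 0x0)) (.node 1 (.leaf 0x0) (.leaf 0x0))) (.node 2 (.node 1 (.leaf 0x0) (.leaf 0x0)) (.node 1 (.leaf 0x0) (.leaf 0x0)))))) (.node 15 (.node 7 (.node 3 (.node 1 (.leaf 0x61) (.node 1 (.leaf 0x62) (.leaf 0x0))) (.node 2 (.node 1 (.leaf 0x63) (.leaf 0x0)) (.node 1 (.leaf 0x0) (.leaf 0x0)))) (.node 4 (.node 2 (.node 1 (.leaf 0x0) (.leaf 0x0)) (.node 1 (.leaf 0x0) (.leaf 0x0))) (.node 2 (.node 1 (.leaf 0x0) (.leaf 0x0)) (.node 1 (.leaf 0x0) (.leaf 0x0))))) (.node 7 (.node 3 (.node 1 (.leaf 0x0) (.node 1 (.leaf 0x0) (.leaf 0x0))) (.node 2 (.node 1 (.leaf 0x0) (.leaf 0x0)) (.node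 1 (.leaf 0x0) (.leaf 0x0)))) (.node 4 (.node 2 (.node 1 (.leaf 0x0) (.leaf 0x0)) (.node 1 (.leaf 0x64) (.leaf 0x0))) (.node 2 (.node 1 (.leaf 0x0) (.leaf 0x0)) (.node 1 (.leaf 0x0) (.leaf 0x0)))))))

def chainFPos2 : Tree :=
  .node 896 (.node 384 (.node 128 (chainFPos2_0) (.node 128 (chainFPos2_1) (chainFPos2_2))) (.node 256 (.node 128 (chainFPos2_3) (chainFPos2_4)) (.node 128 (chainFPos2_5) (chainFPos2_6)))) (.node 384 (.node 128 (chainFPos2_7) (.node 128 (chainFPos2_8) (chainFPos2_9))) (.node 256 (.node 128 (chainFPos2_10) (chainFPos2_11)) (.node 128 (chainFPos2_12) (chainFPos2_13))))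

def chainF3_0 : List (List ℕ) :=
  [[0x346213267231264, 0x534231214672672, 0x267231263421234, 0x214672672346213, 0x143421234534231, 0x326723126412723, 0x121467267234621, 0x4342123453423], [0x346213267231264, 0x534231214672672, 0x267231263421234, 0x214672672346213, 0x263421234534231, 0x672346213267231, 0x234534231214672, 0x43421], [0x346213267231264, 0x534231214672672, 0x673267343421234, 0x26732], [0x346213267231264, 0x534231214672672, 0x673267343421234, 0x2], [0x346213267231264, 0x534231214672672, 0x267231263421234, 0x214672672346213, 0x263421234534231, 0x672346213267231, 0x234534231214672, 0x267343421], [0x346213267231264, 0x534231214672672, 0x267343421234], [0x346213267231264, 0x534231214672672, 0x43421234], [0x346213267231264, 0x534231214672672, 0x264267343421234, 0x672346213267231, 0x234534231214672, 0x127231267343421], [0x346213267231264, 0x534231214672672,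 0x264267343421234, 0x672346213267231, 0x234534231214672, 0x2673267343421], [0x346213267231264, 0x534231214672672, 0x264267343421234, 0x672346213267231, 0x234534231214672, 0x43421], [0x346213267231264, 0x534231214672672, 0x267231263421234, 0x214672672346213, 0x263421234534231, 0x672346213267231, 0x234534231214672, 0x213267231263421, 0x231214672672346, 0x43421234534], [0x346213267231264, 0x534231214672672, 0x267231263421234, 0x214672672346213, 0x263421234534231, 0x672346213267231, 0x234534231214672, 0x213267231263421, 0x231214672672346, 0x231263421234534, 0x672672346213267, 0x421234534231214, 0x43], [0x346213267231264, 0x534231214672672, 0x264267343421234, 0x672346213267231, 0x234534231214672, 0x12723143421], [0x346213267231264, 0x534231214672672, 0x264267343421234, 0x672346213267231, 0x234534231214672, 0x642673267343421, 0x723462132672312, 0x345342312146726, 0x434212],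 [0x346213267231264, 0x534231214672672, 0x264267343421234, 0x672346213267231, 0x234534231214672, 0x126412723143421, 0x267234621326723, 0x123453423121467, 0x621326723126342, 0x423121467267234, 0x4342123453], [0x346213267231264, 0x534231214672672, 0x264267343421234, 0x672346213267231, 0x234534231214672, 0x267343421], [0x346213267231264, 0x534231214672672, 0x673267343421234, 0x326723126426732, 0x121467267234621, 0x4342123453423], [0x346213267231264, 0x534231214672672, 0x264267343421234, 0x672346213267231, 0x234534231214672, 0x126412723143421, 0x267234621326723, 0x123453423121467, 0x4342], [0x346213267231264, 0x534231214672672, 0x264267343421234, 0x672346213267231, 0x234534231214672, 0x213267231263421, 0x231214672672346, 0x723143421234534, 0x12], [0x346213267231264, 0x534231214672672, 0x267231263421234, 0x214672672346213, 0x143421234534231, 0x2673127232723], [0x346213267231264,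 0x534231214672672, 0x267231263421234, 0x214672672346213, 0x343421234534231, 0x213267231264267, 0x231214672672346, 0x723143421234534, 0x12], [], [0x346213267231264, 0x534231214672672, 0x267231263421234, 0x214672672346213, 0x343421234534231, 0x642673127231267, 0x723462132672312, 0x345342312146726, 0x434212], [0x346213267231264, 0x534231214672672, 0x267231263421234, 0x214672672346213, 0x43421234534231], [0x346213267231264, 0x534231214672672, 0x267231263421234, 0x214672672346213, 0x143421234534231, 0x127232723], [0x346213267231264, 0x534231214672672, 0x267231263421234, 0x214672672346213, 0x343421234534231, 0x267], [0x346213267231264, 0x534231214672672, 0x267231263421234, 0x214672672346213, 0x143421234534231, 0x267312723], [0x346213267231264, 0x534231214672672, 0x267231263421234, 0x214672672346213, 0x343421234534231, 0x213267231264267, 0x231214672672346, 0x43421234534],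 [0x346213267231264, 0x534231214672672, 0x267231263421234, 0x214672672346213, 0x143421234534231, 0x12723], [0x346213267231264, 0x534231214672672, 0x264267343421234, 0x672346213267231, 0x234534231214672, 0x126412723143421, 0x267234621326723, 0x123453423121467, 0x26734342], [0x346213267231264, 0x534231214672672, 0x264267343421234, 0x672346213267231, 0x234534231214672, 0x213267231263421, 0x231214672672346, 0x43421234534], [0x346213267231264, 0x534231214672672, 0x264267343421234, 0x672346213267231, 0x234534231214672, 0x213267231263421, 0x231214672672346, 0x723143421234534, 0x267312], [0x346213267231264, 0x534231214672672, 0x267231263421234, 0x214672672346213, 0x143421234534231, 0x2673267312723], [0x346213267231264, 0x534231214672672, 0x267231263421234, 0x214672672346213, 0x343421234534231, 0x127231267], [0x346213267231264, 0x534231214672672, 0x267231263421234, 0x214672672346213,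 0x343421234534231, 0x2673127231267], [0x346213267231264, 0x534231214672672, 0x267231263421234, 0x214672672346213, 0x343421234534231, 0x1272327231267]]

def chainF3 : List (List ℕ) := unchunk (chainF3_0)

def chainFPos3_0 : Tree :=
  .node 64 (.node 32 (.node 16 (.node 8 (.node 4 (.node 2 (.node 1 (.leaf 0x0) (.leaf 0x0)) (.node 1 (.leaf 0x0) (.leaf 0x0))) (.node 2 (.node 1 (.leaf 0x1) (.leaf 0x2)) (.node 1 (.leaf 0x3) (.leaf 0x0)))) (.node 4 (.node 2 (.node 1 (.leaf 0x0) (.leaf 0x4)) (.node 1 (.leaf 0x0) (.leaf 0x5))) (.node 2 (.node 1 (.leaf 0x0) (.leaf 0x0)) (.node 1 (.leaf 0x0) (.leaf 0x0))))) (.node 8 (.node 4 (.node 2 (.node 1 (.leaf 0x0) (.leaf 0x0)) (.node 1 (.leaf 0x0) (.leaf 0x0))) (.node 2 (.node 1 (.leaf 0x0) (.leaf 0x0)) (.node 1 (.leaf 0x0) (.leaf 0x0)))) (.node 4 (.node 2 (.node 1 (.leaf 0x0) (.leaf 0x0)) (.node 1 (.leaf 0x0) (.leaf 0x0))) (.node 2 (.node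 1 (.leaf 0x0) (.leaf 0x0)) (.node 1 (.leaf 0x6) (.leaf 0x0)))))) (.node 16 (.node 8 (.node 4 (.node 2 (.node 1 (.leaf 0x0) (.leaf 0x0)) (.node 1 (.leaf 0x0) (.leaf 0x0))) (.node 2 (.node 1 (.leaf 0x7) (.leaf 0x0)) (.node 1 (.leaf 0x0) (.leaf 0x0)))) (.node 4 (.node 2 (.node 1 (.leaf 0x0) (.leaf 0x0)) (.node 1 (.leaf 0x0) (.leaf 0x0))) (.node 2 (.node 1 (.leaf 0x0) (.leaf 0x0)) (.node 1 (.leaf 0x0) (.leaf 0x0))))) (.node 8 (.node 4 (.node 2 (.node 1 (.leaf 0x0) (.leaf 0x0)) (.node 1 (.leaf 0x0) (.leaf 0x0))) (.node 2 (.node 1 (.leaf 0x0) (.leaf 0x0)) (.node 1 (.leaf 0x0) (.leaf 0x0)))) (.node 4 (.node 2 (.node 1 (.leaf 0x0) (.leaf 0x0)) (.node 1 (.leaf 0x0) (.leaf 0x0))) (.node 2 (.node 1 (.leaf 0x0) (.leaf 0x0)) (.node 1 (.leaf 0x0) (.leaf 0x0))))))) (.node 32 (.node 16 (.node 8 (.node 4 (.node 2 (.node 1 (.leaf 0x0) (.leaf 0x0)) (.node 1 (.leaf 0x0) (.leaf 0x0)))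 (.node 2 (.node 1 (.leaf 0x0) (.leaf 0x0)) (.node 1 (.leaf 0x0) (.leaf 0x0)))) (.node 4 (.node 2 (.node 1 (.leaf 0x0) (.leaf 0x0)) (.node 1 (.leaf 0x0) (.leaf 0x0))) (.node 2 (.node 1 (.leaf 0x0) (.leaf 0x0)) (.node 1 (.leaf 0x0) (.leaf 0x0))))) (.node 8 (.node 4 (.node 2 (.node 1 (.leaf 0x0) (.leaf 0x0)) (.node 1 (.leaf 0x0) (.leaf 0x0))) (.node 2 (.node 1 (.leaf 0x0) (.leaf 0x0)) (.node 1 (.leaf 0x0) (.leaf 0x0)))) (.node 4 (.node 2 (.node 1 (.leaf 0x0) (.leaf 0x0)) (.node 1 (.leaf 0x0) (.leaf 0x0))) (.node 2 (.node 1 (.leaf 0x0) (.leaf 0x0)) (.node 1 (.leaf 0x0) (.leaf 0x0)))))) (.node 16 (.node 8 (.node 4 (.node 2 (.node 1 (.leaf 0x0) (.leaf 0x0)) (.node 1 (.leaf 0x0) (.leaf 0x0))) (.node 2 (.node 1 (.leaf 0x0) (.leaf 0x0)) (.node 1 (.leaf 0x0) (.leaf 0x0)))) (.node 4 (.node 2 (.node 1 (.leaf 0x0) (.leaf 0x0)) (.node 1 (.leaf 0x0) (.leaf 0x0))) (.node 2 (.node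 1 (.leaf 0x0) (.leaf 0x0)) (.node 1 (.leaf 0x0) (.leaf 0x0))))) (.node 8 (.node 4 (.node 2 (.node 1 (.leaf 0x0) (.leaf 0x0)) (.node 1 (.leaf 0x0) (.leaf 0x0))) (.node 2 (.node 1 (.leaf 0x0) (.leaf 0x0)) (.node 1 (.leaf 0x0) (.leaf 0x0)))) (.node 4 (.node 2 (.node 1 (.leaf 0x0) (.leaf 0x0)) (.node 1 (.leaf 0x0) (.leaf 0x0))) (.node 2 (.node 1 (.leaf 0x0) (.leaf 0x0)) (.node 1 (.leaf 0x0) (.leaf 0x0)))))))

def chainFPos3_1 : Tree :=
  .node 64 (.node 32 (.node 16 (.node 8 (.node 4 (.node 2 (.node 1 (.leaf 0x0) (.leaf 0x0)) (.node 1 (.leaf 0x0) (.leaf 0x0))) (.node 2 (.node 1 (.leaf 0x0) (.leaf 0x0)) (.node 1 (.leaf 0x0) (.leaf 0x0)))) (.node 4 (.node 2 (.node 1 (.leaf 0x0) (.leaf 0x0)) (.node 1 (.leaf 0x0) (.leaf 0x0))) (.node 2 (.node 1 (.leaf 0x0) (.leaf 0x0)) (.node 1 (.leaf 0x0) (.leaf 0x0))))) (.node 8 (.node 4 (.node 2 (.node 1 (.leaf 0x0) (.leaf 0x0)) (.node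 1 (.leaf 0x0) (.leaf 0x0))) (.node 2 (.node 1 (.leaf 0x0) (.leaf 0x0)) (.node 1 (.leaf 0x0) (.leaf 0x0)))) (.node 4 (.node 2 (.node 1 (.leaf 0x0) (.leaf 0x0)) (.node 1 (.leaf 0x0) (.leaf 0x0))) (.node 2 (.node 1 (.leaf 0x0) (.leaf 0x0)) (.node 1 (.leaf 0x0) (.leaf 0x0)))))) (.node 16 (.node 8 (.node 4 (.node 2 (.node 1 (.leaf 0x0) (.leaf 0x0)) (.node 1 (.leaf 0x0) (.leaf 0x0))) (.node 2 (.node 1 (.leaf 0x0) (.leaf 0x0)) (.node 1 (.leaf 0x0) (.leaf 0x0)))) (.node 4 (.node 2 (.node 1 (.leaf 0x0) (.leaf 0x0)) (.node 1 (.leaf 0x0) (.leaf 0x0))) (.node 2 (.node 1 (.leaf 0x0) (.leaf 0x0)) (.node 1 (.leaf 0x0) (.leaf 0x0))))) (.node 8 (.node 4 (.node 2 (.node 1 (.leaf 0x0) (.leaf 0x0)) (.node 1 (.leaf 0x0) (.leaf 0x0))) (.node 2 (.node 1 (.leaf 0x0) (.leaf 0x0)) (.node 1 (.leaf 0x0) (.leaf 0x0)))) (.node 4 (.node 2 (.node 1 (.leaf 0x0) (.leaf 0x0)) (.node 1 (.leaf 0x0) (.leaf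 0x0))) (.node 2 (.node 1 (.leaf 0x0) (.leaf 0x0)) (.node 1 (.leaf 0x0) (.leaf 0x0))))))) (.node 32 (.node 16 (.node 8 (.node 4 (.node 2 (.node 1 (.leaf 0x0) (.leaf 0x0)) (.node 1 (.leaf 0x0) (.leaf 0x0))) (.node 2 (.node 1 (.leaf 0x0) (.leaf 0x0)) (.node 1 (.leaf 0x0) (.leaf 0x0)))) (.node 4 (.node 2 (.node 1 (.leaf 0x0) (.leaf 0x0)) (.node 1 (.leaf 0x0) (.leaf 0x0))) (.node 2 (.node 1 (.leaf 0x0) (.leaf 0x0)) (.node 1 (.leaf 0x0) (.leaf 0x0))))) (.node 8 (.node 4 (.node 2 (.node 1 (.leaf 0x0) (.leaf 0x0)) (.node 1 (.leaf 0x0) (.leaf 0x0))) (.node 2 (.node 1 (.leaf 0x0) (.leaf 0x0)) (.node 1 (.leaf 0x0) (.leaf 0x0)))) (.node 4 (.node 2 (.node 1 (.leaf 0x0) (.leaf 0x0)) (.node 1 (.leaf 0x0) (.leaf 0x0))) (.node 2 (.node 1 (.leaf 0x0) (.leaf 0x0)) (.node 1 (.leaf 0x0) (.leaf 0x0)))))) (.node 16 (.node 8 (.node 4 (.node 2 (.node 1 (.leaf 0x0) (.leaf 0x0)) (.node 1 (.leaf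 0x0) (.leaf 0x0))) (.node 2 (.node 1 (.leaf 0x0) (.leaf 0x0)) (.node 1 (.leaf 0x0) (.leaf 0x0)))) (.node 4 (.node 2 (.node 1 (.leaf 0x0) (.leaf 0x0)) (.node 1 (.leaf 0x0) (.leaf 0x0))) (.node 2 (.node 1 (.leaf 0x0) (.leaf 0x0)) (.node 1 (.leaf 0x0) (.leaf 0x0))))) (.node 8 (.node 4 (.node 2 (.node 1 (.leaf 0x0) (.leaf 0x0)) (.node 1 (.leaf 0x0) (.leaf 0x0))) (.node 2 (.node 1 (.leaf 0x0) (.leaf 0x0)) (.node 1 (.leaf 0x0) (.leaf 0x0)))) (.node 4 (.node 2 (.node 1 (.leaf 0x0) (.leaf 0x0)) (.node 1 (.leaf 0x0) (.leaf 0x0))) (.node 2 (.node 1 (.leaf 0x0) (.leaf 0x0)) (.node 1 (.leaf 0x0) (.leaf 0x0)))))))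

def chainFPos3_2 : Tree :=
  .node 64 (.node 32 (.node 16 (.node 8 (.node 4 (.node 2 (.node 1 (.leaf 0x0) (.leaf 0x0)) (.node 1 (.leaf 0x0) (.leaf 0x0))) (.node 2 (.node 1 (.leaf 0x0) (.leaf 0x0)) (.node 1 (.leaf 0x0) (.leaf 0x0)))) (.node 4 (.node 2 (.node 1 (.leaf 0x0) (.leaf 0x0)) (.node 1 (.leaf 0x0) (.leaf 0x0))) (.node 2 (.node 1 (.leaf 0x0) (.leaf 0x0)) (.node 1 (.leaf 0x0) (.leaf 0x0))))) (.node 8 (.node 4 (.node 2 (.node 1 (.leaf 0x0) (.leaf 0x0)) (.node 1 (.leaf 0x0) (.leaf 0x0))) (.node 2 (.node 1 (.leaf 0x0) (.leaf 0x0)) (.node 1 (.leaf 0x0) (.leaf 0x0)))) (.node 4 (.node 2 (.node 1 (.leaf 0x0) (.leaf 0x0)) (.node 1 (.leaf 0x0) (.leaf 0x0))) (.node 2 (.node 1 (.leaf 0x0) (.leaf 0x0)) (.node 1 (.leaf 0x0) (.leaf 0x0)))))) (.node 16 (.node 8 (.node 4 (.node 2 (.node 1 (.leaf 0x0) (.leaf 0x0)) (.node 1 (.leaf 0x0) (.leaf 0x0))) (.node 2 (.node 1 (.leaf 0x0)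 (.leaf 0x8)) (.node 1 (.leaf 0x0) (.leaf 0x0)))) (.node 4 (.node 2 (.node 1 (.leaf 0x0) (.leaf 0x0)) (.node 1 (.leaf 0x0) (.leaf 0x0))) (.node 2 (.node 1 (.leaf 0x0) (.leaf 0x0)) (.node 1 (.leaf 0x0) (.leaf 0x0))))) (.node 8 (.node 4 (.node 2 (.node 1 (.leaf 0x0) (.leaf 0x0)) (.node 1 (.leaf 0x0) (.leaf 0x0))) (.node 2 (.node 1 (.leaf 0x0) (.leaf 0x0)) (.node 1 (.leaf 0x0) (.leaf 0x0)))) (.node 4 (.node 2 (.node 1 (.leaf 0x0) (.leaf 0x0)) (.node 1 (.leaf 0x0) (.leaf 0x0))) (.node 2 (.node 1 (.leaf 0x0) (.leaf 0x9)) (.node 1 (.leaf 0x0) (.leaf 0x0))))))) (.node 32 (.node 16 (.node 8 (.node 4 (.node 2 (.node 1 (.leaf 0x0) (.leaf 0x0)) (.node 1 (.leaf 0x0) (.leaf 0x0))) (.node 2 (.node 1 (.leaf 0x0) (.leaf 0x0)) (.node 1 (.leaf 0x0) (.leaf 0x0)))) (.node 4 (.node 2 (.node 1 (.leaf 0x0) (.leaf 0x0)) (.node 1 (.leaf 0x0) (.leaf 0x0))) (.node 2 (.node 1 (.leaf 0x0) (.leaf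 0x0)) (.node 1 (.leaf 0x0) (.leaf 0x0))))) (.node 8 (.node 4 (.node 2 (.node 1 (.leaf 0x0) (.leaf 0x0)) (.node 1 (.leaf 0x0) (.leaf 0x0))) (.node 2 (.node 1 (.leaf 0x0) (.leaf 0x0)) (.node 1 (.leaf 0x0) (.leaf 0x0)))) (.node 4 (.node 2 (.node 1 (.leaf 0x0) (.leaf 0x0)) (.node 1 (.leaf 0x0) (.leaf 0x0))) (.node 2 (.node 1 (.leaf 0x0) (.leaf 0x0)) (.node 1 (.leaf 0x0) (.leaf 0x0)))))) (.node 16 (.node 8 (.node 4 (.node 2 (.node 1 (.leaf 0x0) (.leaf 0x0)) (.node 1 (.leaf 0x0) (.leaf 0x0))) (.node 2 (.node 1 (.leaf 0x0) (.leaf 0x0)) (.node 1 (.leaf 0x0) (.leaf 0x0)))) (.node 4 (.node 2 (.node 1 (.leaf 0x0) (.leaf 0x0)) (.node 1 (.leaf 0x0) (.leaf 0x0))) (.node 2 (.node 1 (.leaf 0x0) (.leaf 0x0)) (.node 1 (.leaf 0x0) (.leaf 0x0))))) (.node 8 (.node 4 (.node 2 (.node 1 (.leaf 0x0) (.leaf 0x0)) (.node 1 (.leaf 0x0) (.leaf 0x0))) (.node 2 (.node 1 (.leaf 0x0) (.leaf 0x0))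 (.node 1 (.leaf 0x0) (.leaf 0x0)))) (.node 4 (.node 2 (.node 1 (.leaf 0x0) (.leaf 0x0)) (.node 1 (.leaf 0x0) (.leaf 0x0))) (.node 2 (.node 1 (.leaf 0x0) (.leaf 0x0)) (.node 1 (.leaf 0x0) (.leaf 0x0)))))))

def chainFPos3_3 : Tree :=
  .node 64 (.node 32 (.node 16 (.node 8 (.node 4 (.node 2 (.node 1 (.leaf 0x0) (.leaf 0x0)) (.node 1 (.leaf 0x0) (.leaf 0x0))) (.node 2 (.node 1 (.leaf 0x0) (.leaf 0x0)) (.node 1 (.leaf 0x0) (.leaf 0x0)))) (.node 4 (.node 2 (.node 1 (.leaf 0x0) (.leaf 0x0)) (.node 1 (.leaf 0x0) (.leaf 0x0))) (.node 2 (.node 1 (.leaf 0x0) (.leaf 0x0)) (.node 1 (.leaf 0x0) (.leaf 0x0))))) (.node 8 (.node 4 (.node 2 (.node 1 (.leaf 0x0) (.leaf 0x0)) (.node 1 (.leaf 0x0) (.leaf 0x0))) (.node 2 (.node 1 (.leaf 0x0) (.leaf 0x0)) (.node 1 (.leaf 0x0) (.leaf 0x0)))) (.node 4 (.node 2 (.node 1 (.leaf 0x0) (.leaf 0x0)) (.node 1 (.leaf 0x0) (.leaf 0x0))) (.node 2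 (.node 1 (.leaf 0x0) (.leaf 0x0)) (.node 1 (.leaf 0x0) (.leaf 0xa)))))) (.node 16 (.node 8 (.node 4 (.node 2 (.node 1 (.leaf 0x0) (.leaf 0x0)) (.node 1 (.leaf 0x0) (.leaf 0x0))) (.node 2 (.node 1 (.leaf 0x0) (.leaf 0x0)) (.node 1 (.leaf 0x0) (.leaf 0x0)))) (.node 4 (.node 2 (.node 1 (.leaf 0x0) (.leaf 0x0)) (.node 1 (.leaf 0x0) (.leaf 0x0))) (.node 2 (.node 1 (.leaf 0x0) (.leaf 0x0)) (.node 1 (.leaf 0x0) (.leaf 0x0))))) (.node 8 (.node 4 (.node 2 (.node 1 (.leaf 0x0) (.leaf 0x0)) (.node 1 (.leaf 0x0) (.leaf 0x0))) (.node 2 (.node 1 (.leaf 0x0) (.leaf 0x0)) (.node 1 (.leaf 0xb) (.leaf 0x0)))) (.node 4 (.node 2 (.node 1 (.leaf 0x0) (.leaf 0x0)) (.node 1 (.leaf 0x0) (.leaf 0x0))) (.node 2 (.node 1 (.leaf 0x0) (.leaf 0xc)) (.node 1 (.leaf 0x0) (.leaf 0x0))))))) (.node 32 (.node 16 (.node 8 (.node 4 (.node 2 (.node 1 (.leaf 0x0) (.leaf 0x0)) (.node 1 (.leaf 0x0) (.leaf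 0x0))) (.node 2 (.node 1 (.leaf 0x0) (.leaf 0x0)) (.node 1 (.leaf 0x0) (.leaf 0x0)))) (.node 4 (.node 2 (.node 1 (.leaf 0x0) (.leaf 0x0)) (.node 1 (.leaf 0x0) (.leaf 0x0))) (.node 2 (.node 1 (.leaf 0x0) (.leaf 0x0)) (.node 1 (.leaf 0x0) (.leaf 0x0))))) (.node 8 (.node 4 (.node 2 (.node 1 (.leaf 0x0) (.leaf 0x0)) (.node 1 (.leaf 0x0) (.leaf 0x0))) (.node 2 (.node 1 (.leaf 0x0) (.leaf 0x0)) (.node 1 (.leaf 0x0) (.leaf 0x0)))) (.node 4 (.node 2 (.node 1 (.leaf 0x0) (.leaf 0x0)) (.node 1 (.leaf 0x0) (.leaf 0x0))) (.node 2 (.node 1 (.leaf 0x0) (.leaf 0x0)) (.node 1 (.leaf 0x0) (.leaf 0x0)))))) (.node 16 (.node 8 (.node 4 (.node 2 (.node 1 (.leaf 0x0) (.leaf 0x0)) (.node 1 (.leaf 0x0) (.leaf 0x0))) (.node 2 (.node 1 (.leaf 0x0) (.leaf 0x0)) (.node 1 (.leaf 0x0) (.leaf 0x0)))) (.node 4 (.node 2 (.node 1 (.leaf 0x0) (.leaf 0x0)) (.node 1 (.leaf 0x0) (.leaf 0x0))) (.node 2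 (.node 1 (.leaf 0x0) (.leaf 0x0)) (.node 1 (.leaf 0x0) (.leaf 0x0))))) (.node 8 (.node 4 (.node 2 (.node 1 (.leaf 0x0) (.leaf 0x0)) (.node 1 (.leaf 0x0) (.leaf 0x0))) (.node 2 (.node 1 (.leaf 0x0) (.leaf 0x0)) (.node 1 (.leaf 0x0) (.leaf 0x0)))) (.node 4 (.node 2 (.node 1 (.leaf 0x0) (.leaf 0x0)) (.node 1 (.leaf 0x0) (.leaf 0x0))) (.node 2 (.node 1 (.leaf 0x0) (.leaf 0x0)) (.node 1 (.leaf 0x0) (.leaf 0x0)))))))

def chainFPos3_4 : Tree :=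
  .node 64 (.node 32 (.node 16 (.node 8 (.node 4 (.node 2 (.node 1 (.leaf 0x0) (.leaf 0x0)) (.node 1 (.leaf 0x0) (.leaf 0x0))) (.node 2 (.node 1 (.leaf 0x0) (.leaf 0x0)) (.node 1 (.leaf 0x0) (.leaf 0x0)))) (.node 4 (.node 2 (.node 1 (.leaf 0x0) (.leaf 0x0)) (.node 1 (.leaf 0x0) (.leaf 0x0))) (.node 2 (.node 1 (.leaf 0x0) (.leaf 0x0)) (.node 1 (.leaf 0x0) (.leaf 0x0))))) (.node 8 (.node 4 (.node 2 (.node 1 (.leaf 0x0) (.leaf 0x0)) (.node 1 (.leaf 0x0) (.leaf 0x0))) (.node 2 (.node 1 (.leaf 0x0) (.leaf 0x0)) (.node 1 (.leaf 0x0) (.leaf 0x0)))) (.node 4 (.node 2 (.node 1 (.leaf 0x0) (.leaf 0x0)) (.node 1 (.leaf 0x0) (.leaf 0x0))) (.node 2 (.node 1 (.leaf 0x0) (.leaf 0x0)) (.node 1 (.leaf 0x0) (.leaf 0x0)))))) (.node 16 (.node 8 (.node 4 (.node 2 (.node 1 (.leaf 0x0) (.leaf 0x0)) (.node 1 (.leaf 0x0) (.leaf 0x0))) (.node 2 (.node 1 (.leaf 0x0) (.leaf 0x0)) (.node 1 (.leaf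 0x0) (.leaf 0x0)))) (.node 4 (.node 2 (.node 1 (.leaf 0x0) (.leaf 0x0)) (.node 1 (.leaf 0x0) (.leaf 0x0))) (.node 2 (.node 1 (.leaf 0x0) (.leaf 0x0)) (.node 1 (.leaf 0x0) (.leaf 0x0))))) (.node 8 (.node 4 (.node 2 (.node 1 (.leaf 0x0) (.leaf 0x0)) (.node 1 (.leaf 0x0) (.leaf 0x0))) (.node 2 (.node 1 (.leaf 0x0) (.leaf 0x0)) (.node 1 (.leaf 0x0) (.leaf 0x0)))) (.node 4 (.node 2 (.node 1 (.leaf 0x0) (.leaf 0x0)) (.node 1 (.leaf 0x0) (.leaf 0x0))) (.node 2 (.node 1 (.leaf 0x0) (.leaf 0x0)) (.node 1 (.leaf 0x0) (.leaf 0x0))))))) (.node 32 (.node 16 (.node 8 (.node 4 (.node 2 (.node 1 (.leaf 0x0) (.leaf 0x0)) (.node 1 (.leaf 0x0) (.leaf 0x0))) (.node 2 (.node 1 (.leaf 0x0) (.leaf 0x0)) (.node 1 (.leaf 0x0) (.leaf 0x0)))) (.node 4 (.node 2 (.node 1 (.leaf 0x0) (.leaf 0x0)) (.node 1 (.leaf 0x0) (.leaf 0x0))) (.node 2 (.node 1 (.leaf 0x0) (.leaf 0x0)) (.node 1 (.leaf 0x0)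 (.leaf 0x0))))) (.node 8 (.node 4 (.node 2 (.node 1 (.leaf 0x0) (.leaf 0x0)) (.node 1 (.leaf 0x0) (.leaf 0x0))) (.node 2 (.node 1 (.leaf 0x0) (.leaf 0x0)) (.node 1 (.leaf 0x0) (.leaf 0x0)))) (.node 4 (.node 2 (.node 1 (.leaf 0x0) (.leaf 0x0)) (.node 1 (.leaf 0x0) (.leaf 0x0))) (.node 2 (.node 1 (.leaf 0x0) (.leaf 0x0)) (.node 1 (.leaf 0x0) (.leaf 0x0)))))) (.node 16 (.node 8 (.node 4 (.node 2 (.node 1 (.leaf 0x0) (.leaf 0x0)) (.node 1 (.leaf 0x0) (.leaf 0x0))) (.node 2 (.node 1 (.leaf 0x0) (.leaf 0x0)) (.node 1 (.leaf 0xd) (.leaf 0x0)))) (.node 4 (.node 2 (.node 1 (.leaf 0x0) (.leaf 0x0)) (.node 1 (.leaf 0x0) (.leaf 0x0))) (.node 2 (.node 1 (.leaf 0x0) (.leaf 0x0)) (.node 1 (.leaf 0x0) (.leaf 0x0))))) (.node 8 (.node 4 (.node 2 (.node 1 (.leaf 0x0) (.leaf 0x0)) (.node 1 (.leaf 0x0) (.leaf 0x0))) (.node 2 (.node 1 (.leaf 0x0) (.leaf 0x0)) (.node 1 (.leaf 0x0) (.leaf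 0x0)))) (.node 4 (.node 2 (.node 1 (.leaf 0x0) (.leaf 0x0)) (.node 1 (.leaf 0x0) (.leaf 0x0))) (.node 2 (.node 1 (.leaf 0x0) (.leaf 0x0)) (.node 1 (.leaf 0x0) (.leaf 0x0)))))))

def chainFPos3_5 : Tree :=
  .node 64 (.node 32 (.node 16 (.node 8 (.node 4 (.node 2 (.node 1 (.leaf 0x0) (.leaf 0x0)) (.node 1 (.leaf 0x0) (.leaf 0x0))) (.node 2 (.node 1 (.leaf 0x0) (.leaf 0x0)) (.node 1 (.leaf 0x0) (.leaf 0x0)))) (.node 4 (.node 2 (.node 1 (.leaf 0x0) (.leaf 0x0)) (.node 1 (.leaf 0x0) (.leaf 0x0))) (.node 2 (.node 1 (.leaf 0x0) (.leaf 0x0)) (.node 1 (.leaf 0x0) (.leaf 0xe))))) (.node 8 (.node 4 (.node 2 (.node 1 (.leaf 0x0) (.leaf 0x0)) (.node 1 (.leaf 0x0) (.leaf 0x0))) (.node 2 (.node 1 (.leaf 0x0) (.leaf 0x0)) (.node 1 (.leaf 0x0) (.leaf 0x0)))) (.node 4 (.node 2 (.node 1 (.leaf 0x0) (.leaf 0x0)) (.node 1 (.leaf 0x0) (.leaf 0x0))) (.node 2 (.node 1 (.leaf 0x0) (.leaf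 0x0)) (.node 1 (.leaf 0xf) (.leaf 0x0)))))) (.node 16 (.node 8 (.node 4 (.node 2 (.node 1 (.leaf 0x0) (.leaf 0x0)) (.node 1 (.leaf 0x0) (.leaf 0x0))) (.node 2 (.node 1 (.leaf 0x0) (.leaf 0x0)) (.node 1 (.leaf 0x0) (.leaf 0x0)))) (.node 4 (.node 2 (.node 1 (.leaf 0x0) (.leaf 0x0)) (.node 1 (.leaf 0x0) (.leaf 0x0))) (.node 2 (.node 1 (.leaf 0x0) (.leaf 0x0)) (.node 1 (.leaf 0x0) (.leaf 0x0))))) (.node 8 (.node 4 (.node 2 (.node 1 (.leaf 0x0) (.leaf 0x10)) (.node 1 (.leaf 0x11) (.leaf 0x0))) (.node 2 (.node 1 (.leaf 0x0) (.leaf 0x0)) (.node 1 (.leaf 0x0) (.leaf 0x0)))) (.node 4 (.node 2 (.node 1 (.leaf 0x0) (.leaf 0x0)) (.node 1 (.leaf 0x0) (.leaf 0x0))) (.node 2 (.node 1 (.leaf 0x0) (.leaf 0x0)) (.node 1 (.leaf 0x0) (.leaf 0x0))))))) (.node 32 (.node 16 (.node 8 (.node 4 (.node 2 (.node 1 (.leaf 0x0) (.leaf 0x0)) (.node 1 (.leaf 0x0) (.leaf 0x0))) (.node 2 (.node 1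 (.leaf 0x0) (.leaf 0x0)) (.node 1 (.leaf 0x0) (.leaf 0x0)))) (.node 4 (.node 2 (.node 1 (.leaf 0x0) (.leaf 0x0)) (.node 1 (.leaf 0x0) (.leaf 0x0))) (.node 2 (.node 1 (.leaf 0x0) (.leaf 0x0)) (.node 1 (.leaf 0x0) (.leaf 0x0))))) (.node 8 (.node 4 (.node 2 (.node 1 (.leaf 0x0) (.leaf 0x0)) (.node 1 (.leaf 0x0) (.leaf 0x0))) (.node 2 (.node 1 (.leaf 0x0) (.leaf 0x0)) (.node 1 (.leaf 0x0) (.leaf 0x0)))) (.node 4 (.node 2 (.node 1 (.leaf 0x0) (.leaf 0x0)) (.node 1 (.leaf 0x0) (.leaf 0x0))) (.node 2 (.node 1 (.leaf 0x0) (.leaf 0x0)) (.node 1 (.leaf 0x0) (.leaf 0x0)))))) (.node 16 (.node 8 (.node 4 (.node 2 (.node 1 (.leaf 0x0) (.leaf 0x0)) (.node 1 (.leaf 0x0) (.leaf 0x0))) (.node 2 (.node 1 (.leaf 0x0) (.leaf 0x0)) (.node 1 (.leaf 0x0) (.leaf 0x0)))) (.node 4 (.node 2 (.node 1 (.leaf 0x0) (.leaf 0x0)) (.node 1 (.leaf 0x0) (.leaf 0x12))) (.node 2 (.node 1 (.leaf 0x0) (.leaf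 0x0)) (.node 1 (.leaf 0x0) (.leaf 0x0))))) (.node 8 (.node 4 (.node 2 (.node 1 (.leaf 0x0) (.leaf 0x0)) (.node 1 (.leaf 0x0) (.leaf 0x0))) (.node 2 (.node 1 (.leaf 0x0) (.leaf 0x0)) (.node 1 (.leaf 0x0) (.leaf 0x0)))) (.node 4 (.node 2 (.node 1 (.leaf 0x0) (.leaf 0x0)) (.node 1 (.leaf 0x0) (.leaf 0x0))) (.node 2 (.node 1 (.leaf 0x0) (.leaf 0x0)) (.node 1 (.leaf 0x0) (.leaf 0x0)))))))

def chainFPos3_6 : Tree :=
  .node 64 (.node 32 (.node 16 (.node 8 (.node 4 (.node 2 (.node 1 (.leaf 0x0) (.leaf 0x0)) (.node 1 (.leaf 0x0) (.leaf 0x0))) (.node 2 (.node 1 (.leaf 0x0) (.leaf 0x0)) (.node 1 (.leaf 0x0) (.leaf 0x0)))) (.node 4 (.node 2 (.node 1 (.leaf 0x0) (.leaf 0x0)) (.node 1 (.leaf 0x0) (.leaf 0x0))) (.node 2 (.node 1 (.leaf 0x0) (.leaf 0x0)) (.node 1 (.leaf 0x0) (.leaf 0x0))))) (.node 8 (.node 4 (.node 2 (.node 1 (.leaf 0x0) (.leaf 0x0)) (.node 1 (.leaf 0x0) (.leaf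 0x0))) (.node 2 (.node 1 (.leaf 0x0) (.leaf 0x0)) (.node 1 (.leaf 0x0) (.leaf 0x0)))) (.node 4 (.node 2 (.node 1 (.leaf 0x0) (.leaf 0x0)) (.node 1 (.leaf 0x0) (.leaf 0x0))) (.node 2 (.node 1 (.leaf 0x0) (.leaf 0x0)) (.node 1 (.leaf 0x0) (.leaf 0x0)))))) (.node 16 (.node 8 (.node 4 (.node 2 (.node 1 (.leaf 0x0) (.leaf 0x0)) (.node 1 (.leaf 0x0) (.leaf 0x0))) (.node 2 (.node 1 (.leaf 0x0) (.leaf 0x0)) (.node 1 (.leaf 0x0) (.leaf 0x0)))) (.node 4 (.node 2 (.node 1 (.leaf 0x0) (.leaf 0x0)) (.node 1 (.leaf 0x0) (.leaf 0x0))) (.node 2 (.node 1 (.leaf 0x0) (.leaf 0x0)) (.node 1 (.leaf 0x0) (.leaf 0x0))))) (.node 8 (.node 4 (.node 2 (.node 1 (.leaf 0x0) (.leaf 0x0)) (.node 1 (.leaf 0x0) (.leaf 0x0))) (.node 2 (.node 1 (.leaf 0x0) (.leaf 0x0)) (.node 1 (.leaf 0x0) (.leaf 0x0)))) (.node 4 (.node 2 (.node 1 (.leaf 0x0) (.leaf 0x0)) (.node 1 (.leaf 0x0) (.leaf 0x0))) (.node 2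 (.node 1 (.leaf 0x0) (.leaf 0x0)) (.node 1 (.leaf 0x0) (.leaf 0x0))))))) (.node 32 (.node 16 (.node 8 (.node 4 (.node 2 (.node 1 (.leaf 0x0) (.leaf 0x0)) (.node 1 (.leaf 0x0) (.leaf 0x0))) (.node 2 (.node 1 (.leaf 0x0) (.leaf 0x0)) (.node 1 (.leaf 0x0) (.leaf 0x0)))) (.node 4 (.node 2 (.node 1 (.leaf 0x0) (.leaf 0x0)) (.node 1 (.leaf 0x0) (.leaf 0x0))) (.node 2 (.node 1 (.leaf 0x0) (.leaf 0x0)) (.node 1 (.leaf 0x0) (.leaf 0x0))))) (.node 8 (.node 4 (.node 2 (.node 1 (.leaf 0x0) (.leaf 0x0)) (.node 1 (.leaf 0x0) (.leaf 0x0))) (.node 2 (.node 1 (.leaf 0x0) (.leaf 0x0)) (.node 1 (.leaf 0x0) (.leaf 0x0)))) (.node 4 (.node 2 (.node 1 (.leaf 0x0) (.leaf 0x0)) (.node 1 (.leaf 0x0) (.leaf 0x0))) (.node 2 (.node 1 (.leaf 0x0) (.leaf 0x0)) (.node 1 (.leaf 0x0) (.leaf 0x0)))))) (.node 16 (.node 8 (.node 4 (.node 2 (.node 1 (.leaf 0x0) (.leaf 0x0)) (.node 1 (.leaf 0x0) (.leaf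 0x0))) (.node 2 (.node 1 (.leaf 0x0) (.leaf 0x0)) (.node 1 (.leaf 0x0) (.leaf 0x0)))) (.node 4 (.node 2 (.node 1 (.leaf 0x0) (.leaf 0x0)) (.node 1 (.leaf 0x0) (.leaf 0x0))) (.node 2 (.node 1 (.leaf 0x0) (.leaf 0x0)) (.node 1 (.leaf 0x0) (.leaf 0x0))))) (.node 8 (.node 4 (.node 2 (.node 1 (.leaf 0x0) (.leaf 0x0)) (.node 1 (.leaf 0x0) (.leaf 0x0))) (.node 2 (.node 1 (.leaf 0x0) (.leaf 0x0)) (.node 1 (.leaf 0x0) (.leaf 0x0)))) (.node 4 (.node 2 (.node 1 (.leaf 0x0) (.leaf 0x0)) (.node 1 (.leaf 0x0) (.leaf 0x0))) (.node 2 (.node 1 (.leaf 0x0) (.leaf 0x0)) (.node 1 (.leaf 0x0) (.leaf 0x0)))))))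

def chainFPos3_7 : Tree :=
  .node 64 (.node 32 (.node 16 (.node 8 (.node 4 (.node 2 (.node 1 (.leaf 0x0) (.leaf 0x0)) (.node 1 (.leaf 0x0) (.leaf 0x0))) (.node 2 (.node 1 (.leaf 0x0) (.leaf 0x0)) (.node 1 (.leaf 0x0) (.leaf 0x0)))) (.node 4 (.node 2 (.node 1 (.leaf 0x0) (.leaf 0x0)) (.node 1 (.leaf 0x0) (.leaf 0x0))) (.node 2 (.node 1 (.leaf 0x0) (.leaf 0x0)) (.node 1 (.leaf 0x0) (.leaf 0x0))))) (.node 8 (.node 4 (.node 2 (.node 1 (.leaf 0x0) (.leaf 0x0)) (.node 1 (.leaf 0x0) (.leaf 0x13))) (.node 2 (.node 1 (.leaf 0x0) (.leaf 0x0)) (.node 1 (.leaf 0x0) (.leaf 0x0)))) (.node 4 (.node 2 (.node 1 (.leaf 0x0) (.leaf 0x0)) (.node 1 (.leaf 0x0) (.leaf 0x0))) (.node 2 (.node 1 (.leaf 0x0) (.leaf 0x0)) (.node 1 (.leaf 0x0) (.leaf 0x0)))))) (.node 16 (.node 8 (.node 4 (.node 2 (.node 1 (.leaf 0x0) (.leaf 0x0)) (.node 1 (.leaf 0x0) (.leaf 0x0))) (.node 2 (.node 1 (.leaf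 0x0) (.leaf 0x0)) (.node 1 (.leaf 0x0) (.leaf 0x0)))) (.node 4 (.node 2 (.node 1 (.leaf 0x0) (.leaf 0x0)) (.node 1 (.leaf 0x0) (.leaf 0x0))) (.node 2 (.node 1 (.leaf 0x0) (.leaf 0x0)) (.node 1 (.leaf 0x0) (.leaf 0x0))))) (.node 8 (.node 4 (.node 2 (.node 1 (.leaf 0x0) (.leaf 0x14)) (.node 1 (.leaf 0x0) (.leaf 0x0))) (.node 2 (.node 1 (.leaf 0x0) (.leaf 0x0)) (.node 1 (.leaf 0x0) (.leaf 0x0)))) (.node 4 (.node 2 (.node 1 (.leaf 0x0) (.leaf 0x0)) (.node 1 (.leaf 0x0) (.leaf 0x0))) (.node 2 (.node 1 (.leaf 0x0) (.leaf 0x0)) (.node 1 (.leaf 0x0) (.leaf 0x0))))))) (.node 32 (.node 16 (.node 8 (.node 4 (.node 2 (.node 1 (.leaf 0x15) (.leaf 0x0)) (.node 1 (.leaf 0x0) (.leaf 0x0))) (.node 2 (.node 1 (.leaf 0x0) (.leaf 0x0)) (.node 1 (.leaf 0x0) (.leaf 0x0)))) (.node 4 (.node 2 (.node 1 (.leaf 0x0) (.leaf 0x0)) (.node 1 (.leaf 0x0) (.leaf 0x0))) (.node 2 (.node 1 (.leaf 0x0)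 (.leaf 0x0)) (.node 1 (.leaf 0x16) (.leaf 0x0))))) (.node 8 (.node 4 (.node 2 (.node 1 (.leaf 0x0) (.leaf 0x0)) (.node 1 (.leaf 0x0) (.leaf 0x0))) (.node 2 (.node 1 (.leaf 0x0) (.leaf 0x0)) (.node 1 (.leaf 0x0) (.leaf 0x0)))) (.node 4 (.node 2 (.node 1 (.leaf 0x0) (.leaf 0x0)) (.node 1 (.leaf 0x0) (.leaf 0x0))) (.node 2 (.node 1 (.leaf 0x0) (.leaf 0x0)) (.node 1 (.leaf 0x0) (.leaf 0x0)))))) (.node 16 (.node 8 (.node 4 (.node 2 (.node 1 (.leaf 0x0) (.leaf 0x0)) (.node 1 (.leaf 0x0) (.leaf 0x0))) (.node 2 (.node 1 (.leaf 0x0) (.leaf 0x0)) (.node 1 (.leaf 0x0) (.leaf 0x0)))) (.node 4 (.node 2 (.node 1 (.leaf 0x0) (.leaf 0x0)) (.node 1 (.leaf 0x0) (.leaf 0x0))) (.node 2 (.node 1 (.leaf 0x0) (.leaf 0x0)) (.node 1 (.leaf 0x0) (.leaf 0x0))))) (.node 8 (.node 4 (.node 2 (.node 1 (.leaf 0x0) (.leaf 0x0)) (.node 1 (.leaf 0x0) (.leaf 0x0))) (.node 2 (.node 1 (.leaf 0x0) (.leaf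 0x0)) (.node 1 (.leaf 0x0) (.leaf 0x0)))) (.node 4 (.node 2 (.node 1 (.leaf 0x0) (.leaf 0x0)) (.node 1 (.leaf 0x0) (.leaf 0x0))) (.node 2 (.node 1 (.leaf 0x0) (.leaf 0x0)) (.node 1 (.leaf 0x0) (.leaf 0x0)))))))

def chainFPos3_8 : Tree :=
  .node 64 (.node 32 (.node 16 (.node 8 (.node 4 (.node 2 (.node 1 (.leaf 0x0) (.leaf 0x0)) (.node 1 (.leaf 0x0) (.leaf 0x0))) (.node 2 (.node 1 (.leaf 0x0) (.leaf 0x0)) (.node 1 (.leaf 0x0) (.leaf 0x0)))) (.node 4 (.node 2 (.node 1 (.leaf 0x0) (.leaf 0x0)) (.node 1 (.leaf 0x0) (.leaf 0x0))) (.node 2 (.node 1 (.leaf 0x0) (.leaf 0x0)) (.node 1 (.leaf 0x0) (.leaf 0x0))))) (.node 8 (.node 4 (.node 2 (.node 1 (.leaf 0x0) (.leaf 0x0)) (.node 1 (.leaf 0x0) (.leaf 0x0))) (.node 2 (.node 1 (.leaf 0x0) (.leaf 0x0)) (.node 1 (.leaf 0x0) (.leaf 0x0)))) (.node 4 (.node 2 (.node 1 (.leaf 0x0) (.leaf 0x0)) (.node 1 (.leaf 0x0) (.leaf 0x0))) (.node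 2 (.node 1 (.leaf 0x0) (.leaf 0x0)) (.node 1 (.leaf 0x0) (.leaf 0x0)))))) (.node 16 (.node 8 (.node 4 (.node 2 (.node 1 (.leaf 0x0) (.leaf 0x0)) (.node 1 (.leaf 0x0) (.leaf 0x0))) (.node 2 (.node 1 (.leaf 0x0) (.leaf 0x0)) (.node 1 (.leaf 0x0) (.leaf 0x0)))) (.node 4 (.node 2 (.node 1 (.leaf 0x0) (.leaf 0x0)) (.node 1 (.leaf 0x0) (.leaf 0x0))) (.node 2 (.node 1 (.leaf 0x0) (.leaf 0x0)) (.node 1 (.leaf 0x0) (.leaf 0x0))))) (.node 8 (.node 4 (.node 2 (.node 1 (.leaf 0x0) (.leaf 0x0)) (.node 1 (.leaf 0x0) (.leaf 0x0))) (.node 2 (.node 1 (.leaf 0x0) (.leaf 0x0)) (.node 1 (.leaf 0x0) (.leaf 0x0)))) (.node 4 (.node 2 (.node 1 (.leaf 0x0) (.leaf 0x0)) (.node 1 (.leaf 0x0) (.leaf 0x0))) (.node 2 (.node 1 (.leaf 0x0) (.leaf 0x0)) (.node 1 (.leaf 0x0) (.leaf 0x0))))))) (.node 32 (.node 16 (.node 8 (.node 4 (.node 2 (.node 1 (.leaf 0x0) (.leaf 0x0)) (.node 1 (.leaf 0x0) (.leaf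 0x0))) (.node 2 (.node 1 (.leaf 0x0) (.leaf 0x0)) (.node 1 (.leaf 0x0) (.leaf 0x0)))) (.node 4 (.node 2 (.node 1 (.leaf 0x0) (.leaf 0x0)) (.node 1 (.leaf 0x0) (.leaf 0x0))) (.node 2 (.node 1 (.leaf 0x0) (.leaf 0x0)) (.node 1 (.leaf 0x0) (.leaf 0x0))))) (.node 8 (.node 4 (.node 2 (.node 1 (.leaf 0x0) (.leaf 0x0)) (.node 1 (.leaf 0x0) (.leaf 0x0))) (.node 2 (.node 1 (.leaf 0x0) (.leaf 0x0)) (.node 1 (.leaf 0x0) (.leaf 0x0)))) (.node 4 (.node 2 (.node 1 (.leaf 0x0) (.leaf 0x0)) (.node 1 (.leaf 0x0) (.leaf 0x0))) (.node 2 (.node 1 (.leaf 0x0) (.leaf 0x0)) (.node 1 (.leaf 0x0) (.leaf 0x0)))))) (.node 16 (.node 8 (.node 4 (.node 2 (.node 1 (.leaf 0x0) (.leaf 0x0)) (.node 1 (.leaf 0x0) (.leaf 0x0))) (.node 2 (.node 1 (.leaf 0x0) (.leaf 0x0)) (.node 1 (.leaf 0x0) (.leaf 0x0)))) (.node 4 (.node 2 (.node 1 (.leaf 0x0) (.leaf 0x0)) (.node 1 (.leaf 0x0) (.leaf 0x0))) (.node 2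 (.node 1 (.leaf 0x0) (.leaf 0x0)) (.node 1 (.leaf 0x0) (.leaf 0x0))))) (.node 8 (.node 4 (.node 2 (.node 1 (.leaf 0x0) (.leaf 0x0)) (.node 1 (.leaf 0x0) (.leaf 0x0))) (.node 2 (.node 1 (.leaf 0x0) (.leaf 0x0)) (.node 1 (.leaf 0x0) (.leaf 0x0)))) (.node 4 (.node 2 (.node 1 (.leaf 0x0) (.leaf 0x0)) (.node 1 (.leaf 0x0) (.leaf 0x0))) (.node 2 (.node 1 (.leaf 0x0) (.leaf 0x0)) (.node 1 (.leaf 0x0) (.leaf 0x0)))))))

def chainFPos3_9 : Tree :=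
  .node 64 (.node 32 (.node 16 (.node 8 (.node 4 (.node 2 (.node 1 (.leaf 0x0) (.leaf 0x0)) (.node 1 (.leaf 0x0) (.leaf 0x0))) (.node 2 (.node 1 (.leaf 0x0) (.leaf 0x0)) (.node 1 (.leaf 0x0) (.leaf 0x0)))) (.node 4 (.node 2 (.node 1 (.leaf 0x0) (.leaf 0x0)) (.node 1 (.leaf 0x0) (.leaf 0x0))) (.node 2 (.node 1 (.leaf 0x0) (.leaf 0x0)) (.node 1 (.leaf 0x0) (.leaf 0x0))))) (.node 8 (.node 4 (.node 2 (.node 1 (.leaf 0x0) (.leaf 0x0)) (.node 1 (.leaf 0x0) (.leaf 0x0))) (.node 2 (.node 1 (.leaf 0x0) (.leaf 0x0)) (.node 1 (.leaf 0x0) (.leaf 0x0)))) (.node 4 (.node 2 (.node 1 (.leaf 0x0) (.leaf 0x0)) (.node 1 (.leaf 0x0) (.leaf 0x0))) (.node 2 (.node 1 (.leaf 0x0) (.leaf 0x0)) (.node 1 (.leaf 0x0) (.leaf 0x0)))))) (.node 16 (.node 8 (.node 4 (.node 2 (.node 1 (.leaf 0x0) (.leaf 0x0)) (.node 1 (.leaf 0x0) (.leaf 0x0))) (.node 2 (.node 1 (.leaf 0x0) (.leaf 0x0)) (.node 1 (.leaf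 0x0) (.leaf 0x0)))) (.node 4 (.node 2 (.node 1 (.leaf 0x0) (.leaf 0x0)) (.node 1 (.leaf 0x0) (.leaf 0x0))) (.node 2 (.node 1 (.leaf 0x0) (.leaf 0x0)) (.node 1 (.leaf 0x0) (.leaf 0x0))))) (.node 8 (.node 4 (.node 2 (.node 1 (.leaf 0x0) (.leaf 0x0)) (.node 1 (.leaf 0x0) (.leaf 0x0))) (.node 2 (.node 1 (.leaf 0x0) (.leaf 0x0)) (.node 1 (.leaf 0x0) (.leaf 0x0)))) (.node 4 (.node 2 (.node 1 (.leaf 0x0) (.leaf 0x0)) (.node 1 (.leaf 0x0) (.leaf 0x0))) (.node 2 (.node 1 (.leaf 0x0) (.leaf 0x0)) (.node 1 (.leaf 0x0) (.leaf 0x0))))))) (.node 32 (.node 16 (.node 8 (.node 4 (.node 2 (.node 1 (.leaf 0x0) (.leaf 0x0)) (.node 1 (.leaf 0x0) (.leaf 0x0))) (.node 2 (.node 1 (.leaf 0x0) (.leaf 0x0)) (.node 1 (.leaf 0x0) (.leaf 0x0)))) (.node 4 (.node 2 (.node 1 (.leaf 0x0) (.leaf 0x0)) (.node 1 (.leaf 0x0) (.leaf 0x0))) (.node 2 (.node 1 (.leaf 0x0) (.leaf 0x0)) (.node 1 (.leaf 0x0)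 (.leaf 0x0))))) (.node 8 (.node 4 (.node 2 (.node 1 (.leaf 0x0) (.leaf 0x0)) (.node 1 (.leaf 0x0) (.leaf 0x0))) (.node 2 (.node 1 (.leaf 0x0) (.leaf 0x0)) (.node 1 (.leaf 0x0) (.leaf 0x0)))) (.node 4 (.node 2 (.node 1 (.leaf 0x0) (.leaf 0x0)) (.node 1 (.leaf 0x0) (.leaf 0x0))) (.node 2 (.node 1 (.leaf 0x0) (.leaf 0x0)) (.node 1 (.leaf 0x0) (.leaf 0x0)))))) (.node 16 (.node 8 (.node 4 (.node 2 (.node 1 (.leaf 0x0) (.leaf 0x0)) (.node 1 (.leaf 0x0) (.leaf 0x0))) (.node 2 (.node 1 (.leaf 0x0) (.leaf 0x0)) (.node 1 (.leaf 0x0) (.leaf 0x0)))) (.node 4 (.node 2 (.node 1 (.leaf 0x0) (.leaf 0x0)) (.node 1 (.leaf 0x0) (.leaf 0x0))) (.node 2 (.node 1 (.leaf 0x0) (.leaf 0x0)) (.node 1 (.leaf 0x0) (.leaf 0x0))))) (.node 8 (.node 4 (.node 2 (.node 1 (.leaf 0x0) (.leaf 0x0)) (.node 1 (.leaf 0x0) (.leaf 0x0))) (.node 2 (.node 1 (.leaf 0x0) (.leaf 0x0)) (.node 1 (.leaf 0x0) (.leaf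 0x0)))) (.node 4 (.node 2 (.node 1 (.leaf 0x0) (.leaf 0x0)) (.node 1 (.leaf 0x0) (.leaf 0x0))) (.node 2 (.node 1 (.leaf 0x17) (.leaf 0x0)) (.node 1 (.leaf 0x0) (.leaf 0x0)))))))

def chainFPos3_10 : Tree :=
  .node 64 (.node 32 (.node 16 (.node 8 (.node 4 (.node 2 (.node 1 (.leaf 0x18) (.leaf 0x0)) (.node 1 (.leaf 0x0) (.leaf 0x19))) (.node 2 (.node 1 (.leaf 0x0) (.leaf 0x0)) (.node 1 (.leaf 0x0) (.leaf 0x0)))) (.node 4 (.node 2 (.node 1 (.leaf 0x0) (.leaf 0x0)) (.node 1 (.leaf 0x0) (.leaf 0x0))) (.node 2 (.node 1 (.leaf 0x0) (.leaf 0x0)) (.node 1 (.leaf 0x0) (.leaf 0x0))))) (.node 8 (.node 4 (.node 2 (.node 1 (.leaf 0x0) (.leaf 0x0)) (.node 1 (.leaf 0x0) (.leaf 0x1a))) (.node 2 (.node 1 (.leaf 0x0) (.leaf 0x0)) (.node 1 (.leaf 0x0) (.leaf 0x0)))) (.node 4 (.node 2 (.node 1 (.leaf 0x0) (.leaf 0x0)) (.node 1 (.leaf 0x0) (.leaf 0x0))) (.node 2 (.node 1 (.leaf 0x0) (.leaf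 0x1b)) (.node 1 (.leaf 0x1c) (.leaf 0x0)))))) (.node 16 (.node 8 (.node 4 (.node 2 (.node 1 (.leaf 0x0) (.leaf 0x0)) (.node 1 (.leaf 0x0) (.leaf 0x0))) (.node 2 (.node 1 (.leaf 0x0) (.leaf 0x0)) (.node 1 (.leaf 0x0) (.leaf 0x0)))) (.node 4 (.node 2 (.node 1 (.leaf 0x0) (.leaf 0x0)) (.node 1 (.leaf 0x0) (.leaf 0x0))) (.node 2 (.node 1 (.leaf 0x0) (.leaf 0x0)) (.node 1 (.leaf 0x0) (.leaf 0x0))))) (.node 8 (.node 4 (.node 2 (.node 1 (.leaf 0x1d) (.leaf 0x0)) (.node 1 (.leaf 0x0) (.leaf 0x0))) (.node 2 (.node 1 (.leaf 0x0) (.leaf 0x0)) (.node 1 (.leaf 0x0) (.leaf 0x0)))) (.node 4 (.node 2 (.node 1 (.leaf 0x0) (.leaf 0x0)) (.node 1 (.leaf 0x0) (.leaf 0x0))) (.node 2 (.node 1 (.leaf 0x0) (.leaf 0x0)) (.node 1 (.leaf 0x0) (.leaf 0x0))))))) (.node 32 (.node 16 (.node 8 (.node 4 (.node 2 (.node 1 (.leaf 0x0) (.leaf 0x0)) (.node 1 (.leaf 0x0) (.leaf 0x0))) (.node 2 (.node 1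 (.leaf 0x0) (.leaf 0x0)) (.node 1 (.leaf 0x0) (.leaf 0x0)))) (.node 4 (.node 2 (.node 1 (.leaf 0x0) (.leaf 0x0)) (.node 1 (.leaf 0x0) (.leaf 0x0))) (.node 2 (.node 1 (.leaf 0x0) (.leaf 0x0)) (.node 1 (.leaf 0x0) (.leaf 0x0))))) (.node 8 (.node 4 (.node 2 (.node 1 (.leaf 0x0) (.leaf 0x0)) (.node 1 (.leaf 0x0) (.leaf 0x0))) (.node 2 (.node 1 (.leaf 0x0) (.leaf 0x0)) (.node 1 (.leaf 0x0) (.leaf 0x0)))) (.node 4 (.node 2 (.node 1 (.leaf 0x0) (.leaf 0x0)) (.node 1 (.leaf 0x0) (.leaf 0x0))) (.node 2 (.node 1 (.leaf 0x0) (.leaf 0x0)) (.node 1 (.leaf 0x0) (.leaf 0x0)))))) (.node 16 (.node 8 (.node 4 (.node 2 (.node 1 (.leaf 0x0) (.leaf 0x0)) (.node 1 (.leaf 0x0) (.leaf 0x0))) (.node 2 (.node 1 (.leaf 0x0) (.leaf 0x0)) (.node 1 (.leaf 0x0) (.leaf 0x0)))) (.node 4 (.node 2 (.node 1 (.leaf 0x0) (.leaf 0x0)) (.node 1 (.leaf 0x0) (.leaf 0x0))) (.node 2 (.node 1 (.leaf 0x0) (.leaf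 0x0)) (.node 1 (.leaf 0x0) (.leaf 0x0))))) (.node 8 (.node 4 (.node 2 (.node 1 (.leaf 0x0) (.leaf 0x0)) (.node 1 (.leaf 0x0) (.leaf 0x0))) (.node 2 (.node 1 (.leaf 0x0) (.leaf 0x0)) (.node 1 (.leaf 0x0) (.leaf 0x0)))) (.node 4 (.node 2 (.node 1 (.leaf 0x0) (.leaf 0x0)) (.node 1 (.leaf 0x0) (.leaf 0x0))) (.node 2 (.node 1 (.leaf 0x0) (.leaf 0x0)) (.node 1 (.leaf 0x0) (.leaf 0x0)))))))

def chainFPos3_11 : Tree :=
  .node 64 (.node 32 (.node 16 (.node 8 (.node 4 (.node 2 (.node 1 (.leaf 0x0) (.leaf 0x0)) (.node 1 (.leaf 0x0) (.leaf 0x0))) (.node 2 (.node 1 (.leaf 0x0) (.leaf 0x0)) (.node 1 (.leaf 0x0) (.leaf 0x0)))) (.node 4 (.node 2 (.node 1 (.leaf 0x0) (.leaf 0x0)) (.node 1 (.leaf 0x0) (.leaf 0x0))) (.node 2 (.node 1 (.leaf 0x0) (.leaf 0x0)) (.node 1 (.leaf 0x0) (.leaf 0x0))))) (.node 8 (.node 4 (.node 2 (.node 1 (.leaf 0x0) (.leaf 0x0)) (.node 1 (.leaf 0x0) (.leaf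 0x0))) (.node 2 (.node 1 (.leaf 0x0) (.leaf 0x0)) (.node 1 (.leaf 0x0) (.leaf 0x0)))) (.node 4 (.node 2 (.node 1 (.leaf 0x0) (.leaf 0x0)) (.node 1 (.leaf 0x0) (.leaf 0x0))) (.node 2 (.node 1 (.leaf 0x0) (.leaf 0x0)) (.node 1 (.leaf 0x0) (.leaf 0x0)))))) (.node 16 (.node 8 (.node 4 (.node 2 (.node 1 (.leaf 0x0) (.leaf 0x0)) (.node 1 (.leaf 0x0) (.leaf 0x0))) (.node 2 (.node 1 (.leaf 0x0) (.leaf 0x1e)) (.node 1 (.leaf 0x0) (.leaf 0x0)))) (.node 4 (.node 2 (.node 1 (.leaf 0x0) (.leaf 0x0)) (.node 1 (.leaf 0x0) (.leaf 0x0))) (.node 2 (.node 1 (.leaf 0x0) (.leaf 0x0)) (.node 1 (.leaf 0x0) (.leaf 0x0))))) (.node 8 (.node 4 (.node 2 (.node 1 (.leaf 0x0) (.leaf 0x0)) (.node 1 (.leaf 0x0) (.leaf 0x0))) (.node 2 (.node 1 (.leaf 0x0) (.leaf 0x0)) (.node 1 (.leaf 0x0) (.leaf 0x0)))) (.node 4 (.node 2 (.node 1 (.leaf 0x0) (.leaf 0x0)) (.node 1 (.leaf 0x0) (.leaf 0x0))) (.node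 2 (.node 1 (.leaf 0x0) (.leaf 0x0)) (.node 1 (.leaf 0x0) (.leaf 0x0))))))) (.node 32 (.node 16 (.node 8 (.node 4 (.node 2 (.node 1 (.leaf 0x0) (.leaf 0x0)) (.node 1 (.leaf 0x0) (.leaf 0x0))) (.node 2 (.node 1 (.leaf 0x0) (.leaf 0x0)) (.node 1 (.leaf 0x0) (.leaf 0x0)))) (.node 4 (.node 2 (.node 1 (.leaf 0x0) (.leaf 0x0)) (.node 1 (.leaf 0x0) (.leaf 0x0))) (.node 2 (.node 1 (.leaf 0x0) (.leaf 0x0)) (.node 1 (.leaf 0x0) (.leaf 0x0))))) (.node 8 (.node 4 (.node 2 (.node 1 (.leaf 0x0) (.leaf 0x0)) (.node 1 (.leaf 0x0) (.leaf 0x0))) (.node 2 (.node 1 (.leaf 0x0) (.leaf 0x0)) (.node 1 (.leaf 0x0) (.leaf 0x0)))) (.node 4 (.node 2 (.node 1 (.leaf 0x0) (.leaf 0x0)) (.node 1 (.leaf 0x0) (.leaf 0x0))) (.node 2 (.node 1 (.leaf 0x0) (.leaf 0x0)) (.node 1 (.leaf 0x0) (.leaf 0x0)))))) (.node 16 (.node 8 (.node 4 (.node 2 (.node 1 (.leaf 0x0) (.leaf 0x0)) (.node 1 (.leaf 0x0) (.leaf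 0x0))) (.node 2 (.node 1 (.leaf 0x0) (.leaf 0x0)) (.node 1 (.leaf 0x0) (.leaf 0x0)))) (.node 4 (.node 2 (.node 1 (.leaf 0x0) (.leaf 0x0)) (.node 1 (.leaf 0x0) (.leaf 0x0))) (.node 2 (.node 1 (.leaf 0x0) (.leaf 0x0)) (.node 1 (.leaf 0x0) (.leaf 0x0))))) (.node 8 (.node 4 (.node 2 (.node 1 (.leaf 0x0) (.leaf 0x0)) (.node 1 (.leaf 0x0) (.leaf 0x0))) (.node 2 (.node 1 (.leaf 0x0) (.leaf 0x0)) (.node 1 (.leaf 0x0) (.leaf 0x0)))) (.node 4 (.node 2 (.node 1 (.leaf 0x0) (.leaf 0x0)) (.node 1 (.leaf 0x0) (.leaf 0x0))) (.node 2 (.node 1 (.leaf 0x0) (.leaf 0x0)) (.node 1 (.leaf 0x0) (.leaf 0x0)))))))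

def chainFPos3_12 : Tree :=
  .node 64 (.node 32 (.node 16 (.node 8 (.node 4 (.node 2 (.node 1 (.leaf 0x0) (.leaf 0x0)) (.node 1 (.leaf 0x0) (.leaf 0x0))) (.node 2 (.node 1 (.leaf 0x0) (.leaf 0x0)) (.node 1 (.leaf 0x0) (.leaf 0x0)))) (.node 4 (.node 2 (.node 1 (.leaf 0x0) (.leaf 0x0)) (.node 1 (.leaf 0x0) (.leaf 0x0))) (.node 2 (.node 1 (.leaf 0x0) (.leaf 0x0)) (.node 1 (.leaf 0x0) (.leaf 0x0))))) (.node 8 (.node 4 (.node 2 (.node 1 (.leaf 0x0) (.leaf 0x0)) (.node 1 (.leaf 0x0) (.leaf 0x0))) (.node 2 (.node 1 (.leaf 0x0) (.leaf 0x0)) (.node 1 (.leaf 0x0) (.leaf 0x0)))) (.node 4 (.node 2 (.node 1 (.leaf 0x0) (.leaf 0x0)) (.node 1 (.leaf 0x0) (.leaf 0x0))) (.node 2 (.node 1 (.leaf 0x0) (.leaf 0x0)) (.node 1 (.leaf 0x0) (.leaf 0x0)))))) (.node 16 (.node 8 (.node 4 (.node 2 (.node 1 (.leaf 0x0) (.leaf 0x0)) (.node 1 (.leaf 0x0) (.leaf 0x0))) (.node 2 (.node 1 (.leaf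 0x0) (.leaf 0x0)) (.node 1 (.leaf 0x0) (.leaf 0x0)))) (.node 4 (.node 2 (.node 1 (.leaf 0x0) (.leaf 0x0)) (.node 1 (.leaf 0x0) (.leaf 0x0))) (.node 2 (.node 1 (.leaf 0x0) (.leaf 0x0)) (.node 1 (.leaf 0x0) (.leaf 0x0))))) (.node 8 (.node 4 (.node 2 (.node 1 (.leaf 0x0) (.leaf 0x0)) (.node 1 (.leaf 0x0) (.leaf 0x0))) (.node 2 (.node 1 (.leaf 0x0) (.leaf 0x0)) (.node 1 (.leaf 0x0) (.leaf 0x0)))) (.node 4 (.node 2 (.node 1 (.leaf 0x0) (.leaf 0x0)) (.node 1 (.leaf 0x0) (.leaf 0x0))) (.node 2 (.node 1 (.leaf 0x0) (.leaf 0x0)) (.node 1 (.leaf 0x1f) (.leaf 0x20))))))) (.node 32 (.node 16 (.node 8 (.node 4 (.node 2 (.node 1 (.leaf 0x21) (.leaf 0x0)) (.node 1 (.leaf 0x0) (.leaf 0x0))) (.node 2 (.node 1 (.leaf 0x0) (.leaf 0x0)) (.node 1 (.leaf 0x0) (.leaf 0x0)))) (.node 4 (.node 2 (.node 1 (.leaf 0x0) (.leaf 0x0)) (.node 1 (.leaf 0x0) (.leaf 0x0))) (.node 2 (.node 1 (.leaf 0x0)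 (.leaf 0x0)) (.node 1 (.leaf 0x0) (.leaf 0x0))))) (.node 8 (.node 4 (.node 2 (.node 1 (.leaf 0x0) (.leaf 0x0)) (.node 1 (.leaf 0x0) (.leaf 0x0))) (.node 2 (.node 1 (.leaf 0x0) (.leaf 0x0)) (.node 1 (.leaf 0x0) (.leaf 0x0)))) (.node 4 (.node 2 (.node 1 (.leaf 0x0) (.leaf 0x0)) (.node 1 (.leaf 0x0) (.leaf 0x0))) (.node 2 (.node 1 (.leaf 0x0) (.leaf 0x0)) (.node 1 (.leaf 0x0) (.leaf 0x0)))))) (.node 16 (.node 8 (.node 4 (.node 2 (.node 1 (.leaf 0x0) (.leaf 0x0)) (.node 1 (.leaf 0x0) (.leaf 0x0))) (.node 2 (.node 1 (.leaf 0x0) (.leaf 0x0)) (.node 1 (.leaf 0x0) (.leaf 0x0)))) (.node 4 (.node 2 (.node 1 (.leaf 0x0) (.leaf 0x0)) (.node 1 (.leaf 0x0) (.leaf 0x0))) (.node 2 (.node 1 (.leaf 0x0) (.leaf 0x0)) (.node 1 (.leaf 0x0) (.leaf 0x0))))) (.node 8 (.node 4 (.node 2 (.node 1 (.leaf 0x0) (.leaf 0x0)) (.node 1 (.leaf 0x0) (.leaf 0x0))) (.node 2 (.node 1 (.leaf 0x0) (.leaf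 0x0)) (.node 1 (.leaf 0x0) (.leaf 0x0)))) (.node 4 (.node 2 (.node 1 (.leaf 0x0) (.leaf 0x0)) (.node 1 (.leaf 0x0) (.leaf 0x0))) (.node 2 (.node 1 (.leaf 0x0) (.leaf 0x0)) (.node 1 (.leaf 0x0) (.leaf 0x0)))))))

def chainFPos3_13 : Tree :=
  .node 59 (.node 29 (.node 14 (.node 7 (.node 3 (.node 1 (.leaf 0x0) (.node 1 (.leaf 0x0) (.leaf 0x0))) (.node 2 (.node 1 (.leaf 0x0) (.leaf 0x0)) (.node 1 (.leaf 0x0) (.leaf 0x0)))) (.node 3 (.node 1 (.leaf 0x0) (.node 1 (.leaf 0x0) (.leaf 0x0))) (.node 2 (.node 1 (.leaf 0x0) (.leaf 0x0)) (.node 1 (.leaf 0x0) (.leaf 0x0))))) (.node 7 (.node 3 (.node 1 (.leaf 0x0) (.node 1 (.leaf 0x0) (.leaf 0x0))) (.node 2 (.node 1 (.leaf 0x0) (.leaf 0x0)) (.node 1 (.leaf 0x0) (.leaf 0x0)))) (.node 4 (.node 2 (.node 1 (.leaf 0x0) (.leaf 0x0)) (.node 1 (.leaf 0x0) (.leaf 0x0))) (.node 2 (.node 1 (.leaf 0x0) (.leaf 0x22)) (.node 1 (.leaf 0x23) (.leaf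 0x0)))))) (.node 15 (.node 7 (.node 3 (.node 1 (.leaf 0x0) (.node 1 (.leaf 0x0) (.leaf 0x0))) (.node 2 (.node 1 (.leaf 0x0) (.leaf 0x0)) (.node 1 (.leaf 0x0) (.leaf 0x0)))) (.node 4 (.node 2 (.node 1 (.leaf 0x0) (.leaf 0x0)) (.node 1 (.leaf 0x0) (.leaf 0x0))) (.node 2 (.node 1 (.leaf 0x0) (.leaf 0x0)) (.node 1 (.leaf 0x0) (.leaf 0x0))))) (.node 7 (.node 3 (.node 1 (.leaf 0x0) (.node 1 (.leaf 0x0) (.leaf 0x0))) (.node 2 (.node 1 (.leaf 0x0) (.leaf 0x0)) (.node 1 (.leaf 0x0) (.leaf 0x0)))) (.node 4 (.node 2 (.node 1 (.leaf 0x0) (.leaf 0x0)) (.node 1 (.leaf 0x0) (.leaf 0x0))) (.node 2 (.node 1 (.leaf 0x0) (.leaf 0x0)) (.node 1 (.leaf 0x0) (.leaf 0x0))))))) (.node 29 (.node 14 (.node 7 (.node 3 (.node 1 (.leaf 0x0) (.node 1 (.leaf 0x0) (.leaf 0x0))) (.node 2 (.node 1 (.leaf 0x0) (.leaf 0x0)) (.node 1 (.leaf 0x0) (.leaf 0x0)))) (.node 3 (.node 1 (.leaf 0x0) (.node 1 (.leaf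 0x0) (.leaf 0x0))) (.node 2 (.node 1 (.leaf 0x0) (.leaf 0x0)) (.node 1 (.leaf 0x0) (.leaf 0x0))))) (.node 7 (.node 3 (.node 1 (.leaf 0x0) (.node 1 (.leaf 0x0) (.leaf 0x0))) (.node 2 (.node 1 (.leaf 0x0) (.leaf 0x0)) (.node 1 (.leaf 0x0) (.leaf 0x0)))) (.node 4 (.node 2 (.node 1 (.leaf 0x0) (.leaf 0x0)) (.node 1 (.leaf 0x0) (.leaf 0x0))) (.node 2 (.node 1 (.leaf 0x0) (.leaf 0x0)) (.node 1 (.leaf 0x0) (.leaf 0x0)))))) (.node 15 (.node 7 (.node 3 (.node 1 (.leaf 0x0) (.node 1 (.leaf 0x0) (.leaf 0x0))) (.node 2 (.node 1 (.leaf 0x0) (.leaf 0x0)) (.node 1 (.leaf 0x0) (.leaf 0x0)))) (.node 4 (.node 2 (.node 1 (.leaf 0x0) (.leaf 0x0)) (.node 1 (.leaf 0x0) (.leaf 0x0))) (.node 2 (.node 1 (.leaf 0x0) (.leaf 0x0)) (.node 1 (.leaf 0x0) (.leaf 0x0))))) (.node 7 (.node 3 (.node 1 (.leaf 0x0) (.node 1 (.leaf 0x0) (.leaf 0x0))) (.node 2 (.node 1 (.leaf 0x0) (.leaf 0x0)) (.node 1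 (.leaf 0x0) (.leaf 0x0)))) (.node 4 (.node 2 (.node 1 (.leaf 0x0) (.leaf 0x0)) (.node 1 (.leaf 0x24) (.leaf 0x0))) (.node 2 (.node 1 (.leaf 0x0) (.leaf 0x0)) (.node 1 (.leaf 0x0) (.leaf 0x0)))))))

def chainFPos3 : Tree :=
  .node 896 (.node 384 (.node 128 (chainFPos3_0) (.node 128 (chainFPos3_1) (chainFPos3_2))) (.node 256 (.node 128 (chainFPos3_3) (chainFPos3_4)) (.node 128 (chainFPos3_5) (chainFPos3_6)))) (.node 384 (.node 128 (chainFPos3_7) (.node 128 (chainFPos3_8) (chainFPos3_9))) (.node 256 (.node 128 (chainFPos3_10) (chainFPos3_11)) (.node 128 (chainFPos3_12) (chainFPos3_13))))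

def chainF4_0 : List (List ℕ) :=
  [[], [0x312723272312673, 0x267], [0x2673], [0x127231], [0x1272327231], [0x12723272312673], [0x26732673], [0x1272312673], [0x267326732673], [0x312723126732673, 0x267], [0x12723126732673], [0x673267326732673, 0x2], [0x326731272312673, 0x267], [0x26731272312673]]

def chainF4 : List (List ℕ) := unchunk (chainF4_0)

def chainF5_0 : List (List ℕ) :=
  [[], [0x126731272327231, 0x132721267312723], [0x327212673127231, 0x267312723137621, 0x3762132721], [0x126731272327231, 0x13272], [0x327212673127231, 0x267312723137621, 0x272313762132721, 0x132721267312723], [0x327212673127231, 0x127232723137621, 0x126731272312673, 0x13272], [0x327212673127231, 0x127232723137621, 0x326731272312673, 0x3762132721267], [0x126731272327231, 0x212673267312723, 0x37621327], [0x327212673127231, 0x37621], [0x326731272327231, 0x3762132721267], [0x327212673127231,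 0x127232723137621, 0x1327212673], [0x326731272327231, 0x313762132721267, 0x213272126731272, 0x376]]

def chainF5 : List (List ℕ) := unchunk (chainF5_0)

def chainF : List (ℕ × List (List ℕ)) := [(165, chainF0), (252, chainF1), (672, chainF2), (974, chainF3), (0, chainF4), (1, chainF5)]

def chainFPos : ℕ → Tree
  | 0 => chainFPos0
  | 1 => chainFPos1
  | 2 => chainFPos2
  | _ => chainFPos3

def baseL : List ℕ := [0, 1, 2, 3, 4, 8, 14]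

def gensE_0 : List (List ℕ) :=
  [[0x1], [0x2], [0x3], [0x5], [0x6], [0x7], [0x126327123212764, 0x431267126343], [0x312734312767212, 0x454672343621342, 0x436213423127343, 0x6]]

def gensE : List (List ℕ) := unchunk (gensE_0)

def gensP_0 : List (List ℕ) :=
  [[0x1], [0x3], [0x5], [0x6], [0x7], [0x632712321276462, 0x743126712634312, 0x26], [0x431276721271212, 0x234362134231273, 0x342312734345467, 0x643621], [0x734312767212312, 0x672343621342312, 0x213423127343454, 0x2716436]]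

def gensP : List (List ℕ) := unchunk (gensP_0)

def idxP_0 : List (List ℕ) :=
  [[0x1], [0x3], [0x4], [0x5], [0x6], [0x256752], [0x861212], [0x2618312]]

def idxP : List (List ℕ) := unchunk (idxP_0)

def inE0_0 : List (List ℕ) :=
  [[], [0x6], [0x26], [0x77], [0x58], [0x38], [0x88], [0x377], [0x8], [0x18], [0x818], [0x28], [0x218], [0x6218], [0x2717], [0x8377], [0x628], [0x717], [0x8717], [0x1717], [0x7567], [0x76], [0x317], [0x617], [0x7717], [0x17], [0x738], [0x27], [0x567], [0x67], [0x78], [0x687], [0x387], [0x7], [0x8317], [0x726], [0x5817], [0x758], [0x87], [0x817], [0x187], [0x5758]]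

def inE0 : List (List ℕ) := unchunk (inE0_0)

def inE1_0 : List (List ℕ) :=
  [[], [0x2], [0x12], [0x32], [0x52], [0x212], [0x312], [0x86], [0x862], [0x2312], [0x286], [0x2862], [0x12312], [0x52312], [0x86312], [0x8632], [0x7176], [0x87837], [0x17176], [0x75676]]

def inE1 : List (List ℕ) := unchunk (inE1_0)

def inE2_0 : List (List ℕ) :=
  [[], [0x1], [0x3], [0x5], [0x51], [0x31], [0x53], [0x531], [0x86523], [0x386523], [0x862523], [0x586523], [0x621773], [0x6217731], [0x865231], [0x776123]]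

def inE2 : List (List ℕ) := unchunk (inE2_0)

def inE3_0 : List (List ℕ) :=
  [[], [0x217761], [0x621771]]

def inE3 : List (List ℕ) := unchunk (inE3_0)

def inE4_0 : List (List ℕ) :=
  [[]]

def inE4 : List (List ℕ) := unchunk (inE4_0)

def inE5_0 : List (List ℕ) :=
  [[], [0x4], [0x828282], [0x8282842]]

def inE5 : List (List ℕ) := unchunk (inE5_0)

def inE6_0 : List (List ℕ) :=
  [[]]

def inE6 : List (List ℕ) := unchunk (inE6_0)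

def chainE : List (ℕ × List (List ℕ)) := [(0, inE0), (1, inE1), (2, inE2), (3, inE3), (4, inE4), (8, inE5), (14, inE6)]

def wordsPTree_0 : Tree :=
  .node 64 (.node 32 (.node 16 (.node 8 (.node 4 (.node 2 (.node 1 (.leaf 0x0) (.leaf 0x53)) (.node 1 (.leaf 0x3) (.leaf 0x87532))) (.node 2 (.node 1 (.leaf 0x8732) (.leaf 0x875321)) (.node 1 (.leaf 0x87321) (.leaf 0x531)))) (.node 4 (.node 2 (.node 1 (.leaf 0x31) (.leaf 0x532)) (.node 1 (.leaf 0x32) (.leaf 0x8753))) (.node 2 (.node 1 (.leaf 0x873) (.leaf 0x5)) (.node 1 (.leaf 0x8752) (.leaf 0x872))))) (.node 8 (.node 4 (.node 2 (.node 1 (.leaf 0x453) (.leaf 0x43)) (.node 1 (.leaf 0x87543) (.leaf 0x87431))) (.node 2 (.node 1 (.leaf 0x87453) (.leaf 0x8743)) (.node 1 (.leaf 0x543) (.leaf 0x431)))) (.node 4 (.node 2 (.node 1 (.leaf 0x87531) (.leaf 0x8731)) (.node 1 (.leaf 0x5321) (.leaf 0x321))) (.node 2 (.node 1 (.leaf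 0x87521) (.leaf 0x8721)) (.node 1 (.leaf 0x51) (.leaf 0x1)))))) (.node 16 (.node 8 (.node 4 (.node 2 (.node 1 (.leaf 0x52) (.leaf 0x2)) (.node 1 (.leaf 0x875) (.leaf 0x87))) (.node 2 (.node 1 (.leaf 0x4532) (.leaf 0x432)) (.node 1 (.leaf 0x48753) (.leaf 0x4873)))) (.node 4 (.node 2 (.node 1 (.leaf 0x45) (.leaf 0x4)) (.node 1 (.leaf 0x8754) (.leaf 0x8741))) (.node 2 (.node 1 (.leaf 0x54873) (.leaf 0x48731)) (.node 1 (.leaf 0x5432) (.leaf 0x4321))))) (.node 8 (.node 4 (.node 2 (.node 1 (.leaf 0x8745) (.leaf 0x874)) (.node 1 (.leaf 0x54) (.leaf 0x41))) (.node 2 (.node 1 (.leaf 0x8751) (.leaf 0x871)) (.node 1 (.leaf 0x521) (.leaf 0x21)))) (.node 4 (.node 2 (.node 1 (.leaf 0x452) (.leaf 0x42)) (.node 1 (.leaf 0x4875) (.leaf 0x487))) (.node 2 (.node 1 (.leaf 0x76865) (.leaf 0x7686)) (.node 1 (.leaf 0x86846) (.leaf 0x68682))))))) (.node 32 (.node 16 (.node 8 (.node 4 (.node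 2 (.node 1 (.leaf 0x5487) (.leaf 0x4871)) (.node 1 (.leaf 0x542) (.leaf 0x421))) (.node 2 (.node 1 (.leaf 0x85686) (.leaf 0x86862)) (.node 1 (.leaf 0x76486) (.leaf 0x76861)))) (.node 4 (.node 2 (.node 1 (.leaf 0x75686) (.leaf 0x76862)) (.node 1 (.leaf 0x68685) (.leaf 0x6868))) (.node 2 (.node 1 (.leaf 0x64876) (.leaf 0x68761)) (.node 1 (.leaf 0x868463) (.leaf 0x686832))))) (.node 8 (.node 4 (.node 2 (.node 1 (.leaf 0x764864) (.leaf 0x76864)) (.node 1 (.leaf 0x686854) (.leaf 0x86864))) (.node 2 (.node 1 (.leaf 0x86865) (.leaf 0x8686)) (.node 1 (.leaf 0x76846) (.leaf 0x76826)))) (.node 4 (.node 2 (.node 1 (.leaf 0x856863) (.leaf 0x868632)) (.node 1 (.leaf 0x68765) (.leaf 0x6876))) (.node 2 (.node 1 (.leaf 0x868654) (.leaf 0x68684)) (.node 1 (.leaf 0x768654) (.leaf 0x768641)))))) (.node 16 (.node 8 (.node 4 (.node 2 (.node 1 (.leaf 0x8568) (.leaf 0x86854)) (.node 1 (.leaf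 0x48674) (.leaf 0x8674))) (.node 2 (.node 1 (.leaf 0x68746) (.leaf 0x68726)) (.node 1 (.leaf 0x686853) (.leaf 0x68683)))) (.node 4 (.node 2 (.node 1 (.leaf 0x768464) (.leaf 0x76856)) (.node 1 (.leaf 0x868464) (.leaf 0x86856))) (.node 2 (.node 1 (.leaf 0x687654) (.leaf 0x687641)) (.node 1 (.leaf 0x6868543) (.leaf 0x868643))))) (.node 8 (.node 4 (.node 2 (.node 1 (.leaf 0x856864) (.leaf 0x48686)) (.node 1 (.leaf 0x756864) (.leaf 0x768561))) (.node 2 (.node 1 (.leaf 0x868653) (.leaf 0x86863)) (.node 1 (.leaf 0x56876) (.leaf 0x68762)))) (.node 4 (.node 2 (.node 1 (.leaf 0x8686543) (.leaf 0x686843)) (.node 1 (.leaf 0x648764) (.leaf 0x68764))) (.node 2 (.node 1 (.leaf 0x6453) (.leaf 0x643)) (.node 1 (.leaf 0x7684) (.leaf 0x76845)))))))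

def wordsPTree_1 : Tree :=
  .node 64 (.node 32 (.node 16 (.node 8 (.node 4 (.node 2 (.node 1 (.leaf 0x7268) (.leaf 0x7468)) (.node 1 (.leaf 0x653) (.leaf 0x63))) (.node 2 (.node 1 (.leaf 0x86754) (.leaf 0x86741)) (.node 1 (.leaf 0x8684) (.leaf 0x48684)))) (.node 4 (.node 2 (.node 1 (.leaf 0x85683) (.leaf 0x868543)) (.node 1 (.leaf 0x87654) (.leaf 0x87641))) (.node 2 (.node 1 (.leaf 0x86481) (.leaf 0x84684)) (.node 1 (.leaf 0x54867) (.leaf 0x85671))))) (.node 8 (.node 4 (.node 2 (.node 1 (.leaf 0x868) (.leaf 0x8685)) (.node 1 (.leaf 0x84671) (.leaf 0x8672))) (.node 2 (.node 1 (.leaf 0x568764) (.leaf 0x687561)) (.node 1 (.leaf 0x8684643) (.leaf 0x868563)))) (.node 4 (.node 2 (.node 1 (.leaf 0x8568643) (.leaf 0x486863)) (.node 1 (.leaf 0x687464) (.leaf 0x68756))) (.node 2 (.node 1 (.leaf 0x76481) (.leaf 0x74684)) (.node 1 (.leaf 0x4643) (.leaf 0x563)))))) (.node 16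 (.node 8 (.node 4 (.node 2 (.node 1 (.leaf 0x645) (.leaf 0x64)) (.node 1 (.leaf 0x5687) (.leaf 0x68754))) (.node 2 (.node 1 (.leaf 0x7568) (.leaf 0x76854)) (.node 1 (.leaf 0x6543) (.leaf 0x6431)))) (.node 4 (.node 2 (.node 1 (.leaf 0x46431) (.leaf 0x5631)) (.node 1 (.leaf 0x7648) (.leaf 0x76485))) (.node 2 (.node 1 (.leaf 0x4631) (.leaf 0x632)) (.node 1 (.leaf 0x7681) (.leaf 0x76851))))) (.node 8 (.node 4 (.node 2 (.node 1 (.leaf 0x6872) (.leaf 0x46871)) (.node 1 (.leaf 0x65) (.leaf 0x6))) (.node 2 (.node 1 (.leaf 0x48764) (.leaf 0x8764)) (.node 1 (.leaf 0x86843) (.leaf 0x486843)))) (.node 4 (.node 2 (.node 1 (.leaf 0x6531) (.leaf 0x631)) (.node 1 (.leaf 0x7682) (.leaf 0x74681))) (.node 2 (.node 1 (.leaf 0x768) (.leaf 0x7685)) (.node 1 (.leaf 0x463) (.leaf 0x263))))))) (.node 32 (.node 16 (.node 8 (.node 4 (.node 2 (.node 1 (.leaf 0x84674) (.leaf 0x8567)) (.node 1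 (.leaf 0x8648) (.leaf 0x86485))) (.node 2 (.node 1 (.leaf 0x8467) (.leaf 0x8267)) (.node 1 (.leaf 0x8681) (.leaf 0x4868)))) (.node 4 (.node 2 (.node 1 (.leaf 0x864831) (.leaf 0x846843)) (.node 1 (.leaf 0x87464) (.leaf 0x8756))) (.node 2 (.node 1 (.leaf 0x8683) (.leaf 0x86853)) (.node 1 (.leaf 0x8746) (.leaf 0x8726))))) (.node 8 (.node 4 (.node 2 (.node 1 (.leaf 0x8268) (.leaf 0x8468)) (.node 1 (.leaf 0x4867) (.leaf 0x8671))) (.node 2 (.node 1 (.leaf 0x6487) (.leaf 0x64875)) (.node 1 (.leaf 0x464) (.leaf 0x56)))) (.node 4 (.node 2 (.node 1 (.leaf 0x6874) (.leaf 0x68745)) (.node 1 (.leaf 0x654) (.leaf 0x641))) (.node 2 (.node 1 (.leaf 0x4641) (.leaf 0x561)) (.node 1 (.leaf 0x64871) (.leaf 0x46874)))))) (.node 16 (.node 8 (.node 4 (.node 2 (.node 1 (.leaf 0x461) (.leaf 0x62)) (.node 1 (.leaf 0x687) (.leaf 0x6875))) (.node 2 (.node 1 (.leaf 0x651) (.leaf 0x61)) (.node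 1 (.leaf 0x2687) (.leaf 0x4687)))) (.node 4 (.node 2 (.node 1 (.leaf 0x6871) (.leaf 0x68751)) (.node 1 (.leaf 0x46) (.leaf 0x26))) (.node 2 (.node 1 (.leaf 0x54876) (.leaf 0x87561)) (.node 1 (.leaf 0x86483) (.leaf 0x864853))))) (.node 8 (.node 4 (.node 2 (.node 1 (.leaf 0x87461) (.leaf 0x8762)) (.node 1 (.leaf 0x86831) (.leaf 0x48683))) (.node 2 (.node 1 (.leaf 0x8675) (.leaf 0x867)) (.node 1 (.leaf 0x8682) (.leaf 0x84681)))) (.node 4 (.node 2 (.node 1 (.leaf 0x868765) (.leaf 0x86876)) (.node 1 (.leaf 0x56863) (.leaf 0x68632))) (.node 2 (.node 1 (.leaf 0x82683) (.leaf 0x84683)) (.node 1 (.leaf 0x8765) (.leaf 0x876)))))))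

def wordsPTree_2 : Tree :=
  .node 64 (.node 32 (.node 16 (.node 8 (.node 4 (.node 2 (.node 1 (.leaf 0x4876) (.leaf 0x8761)) (.node 1 (.leaf 0x86832) (.leaf 0x846831))) (.node 2 (.node 1 (.leaf 0x68463) (.leaf 0x68263)) (.node 1 (.leaf 0x687685) (.leaf 0x68768)))) (.node 4 (.node 2 (.node 1 (.leaf 0x856876) (.leaf 0x868762)) (.node 1 (.leaf 0x68653) (.leaf 0x6863))) (.node 2 (.node 1 (.leaf 0x686875) (.leaf 0x68687)) (.node 1 (.leaf 0x5686) (.leaf 0x6862))))) (.node 8 (.node 4 (.node 2 (.node 1 (.leaf 0x8568764) (.leaf 0x486876)) (.node 1 (.leaf 0x684643) (.leaf 0x68563))) (.node 2 (.node 1 (.leaf 0x6832) (.leaf 0x46831)) (.node 1 (.leaf 0x7651) (.leaf 0x761)))) (.node 4 (.node 2 (.node 1 (.leaf 0x854) (.leaf 0x841)) (.node 1 (.leaf 0x745) (.leaf 0x74))) (.node 2 (.node 1 (.leaf 0x64863) (.leaf 0x68631)) (.node 1 (.leaf 0x868746) (.leaf 0x687682)))))) (.node 16 (.node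 8 (.node 4 (.node 2 (.node 1 (.leaf 0x6846) (.leaf 0x6826)) (.node 1 (.leaf 0x876865) (.leaf 0x87686))) (.node 2 (.node 1 (.leaf 0x568643) (.leaf 0x685631)) (.node 1 (.leaf 0x8687464) (.leaf 0x868756)))) (.node 4 (.node 2 (.node 1 (.leaf 0x876846) (.leaf 0x686872)) (.node 1 (.leaf 0x6865) (.leaf 0x686))) (.node 2 (.node 1 (.leaf 0x8687654) (.leaf 0x687684)) (.node 1 (.leaf 0x648643) (.leaf 0x68643))))) (.node 8 (.node 4 (.node 2 (.node 1 (.leaf 0x8768464) (.leaf 0x876856)) (.node 1 (.leaf 0x68464) (.leaf 0x6856))) (.node 2 (.node 1 (.leaf 0x686543) (.leaf 0x686431)) (.node 1 (.leaf 0x6876854) (.leaf 0x868764)))) (.node 4 (.node 2 (.node 1 (.leaf 0x852) (.leaf 0x82)) (.node 1 (.leaf 0x75) (.leaf 0x7))) (.node 2 (.node 1 (.leaf 0x7464) (.leaf 0x756)) (.node 1 (.leaf 0x64831) (.leaf 0x46843))))))) (.node 32 (.node 16 (.node 8 (.node 4 (.node 2 (.node 1 (.leaf 0x682)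 (.leaf 0x4681)) (.node 1 (.leaf 0x675) (.leaf 0x67))) (.node 2 (.node 1 (.leaf 0x6483) (.leaf 0x64853)) (.node 1 (.leaf 0x74641) (.leaf 0x7561)))) (.node 4 (.node 2 (.node 1 (.leaf 0x765) (.leaf 0x76)) (.node 1 (.leaf 0x2683) (.leaf 0x4683))) (.node 2 (.node 1 (.leaf 0x6831) (.leaf 0x68531)) (.node 1 (.leaf 0x7461) (.leaf 0x762))))) (.node 8 (.node 4 (.node 2 (.node 1 (.leaf 0x7531) (.leaf 0x731)) (.node 1 (.leaf 0x85321) (.leaf 0x8321))) (.node 2 (.node 1 (.leaf 0x751) (.leaf 0x71)) (.node 1 (.leaf 0x8521) (.leaf 0x821)))) (.node 4 (.node 2 (.node 1 (.leaf 0x754) (.leaf 0x741)) (.node 1 (.leaf 0x845) (.leaf 0x84))) (.node 2 (.node 1 (.leaf 0x485) (.leaf 0x48)) (.node 1 (.leaf 0x7452) (.leaf 0x742)))))) (.node 16 (.node 8 (.node 4 (.node 2 (.node 1 (.leaf 0x8543) (.leaf 0x8431)) (.node 1 (.leaf 0x7453) (.leaf 0x743))) (.node 2 (.node 1 (.leaf 0x6486) (.leaf 0x6861))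 (.node 1 (.leaf 0x875686) (.leaf 0x876862)))) (.node 4 (.node 2 (.node 1 (.leaf 0x56864) (.leaf 0x68561)) (.node 1 (.leaf 0x8756864) (.leaf 0x487686))) (.node 2 (.node 1 (.leaf 0x6868754) (.leaf 0x876864)) (.node 1 (.leaf 0x64864) (.leaf 0x6864))))) (.node 8 (.node 4 (.node 2 (.node 1 (.leaf 0x6843) (.leaf 0x68453)) (.node 1 (.leaf 0x7645) (.leaf 0x764))) (.node 2 (.node 1 (.leaf 0x68654) (.leaf 0x68641)) (.node 1 (.leaf 0x8768654) (.leaf 0x686874)))) (.node 4 (.node 2 (.node 1 (.leaf 0x85) (.leaf 0x8)) (.node 1 (.leaf 0x752) (.leaf 0x72))) (.node 2 (.node 1 (.leaf 0x8532) (.leaf 0x832)) (.node 1 (.leaf 0x753) (.leaf 0x73)))))))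

def wordsPTree_3 : Tree :=
  .node 64 (.node 32 (.node 16 (.node 8 (.node 4 (.node 2 (.node 1 (.leaf 0x46741) (.leaf 0x5671)) (.node 1 (.leaf 0x6481) (.leaf 0x4684))) (.node 2 (.node 1 (.leaf 0x7654) (.leaf 0x7641)) (.node 1 (.leaf 0x5683) (.leaf 0x68543)))) (.node 4 (.node 2 (.node 1 (.leaf 0x8464) (.leaf 0x856)) (.node 1 (.leaf 0x86487) (.leaf 0x864875))) (.node 2 (.node 1 (.leaf 0x648) (.leaf 0x6485)) (.node 1 (.leaf 0x4674) (.leaf 0x567))))) (.node 8 (.node 4 (.node 2 (.node 1 (.leaf 0x6751) (.leaf 0x671)) (.node 1 (.leaf 0x268) (.leaf 0x468))) (.node 2 (.node 1 (.leaf 0x681) (.leaf 0x6851)) (.node 1 (.leaf 0x467) (.leaf 0x267)))) (.node 4 (.node 2 (.node 1 (.leaf 0x865) (.leaf 0x86)) (.node 1 (.leaf 0x86872) (.leaf 0x846871))) (.node 2 (.node 1 (.leaf 0x746) (.leaf 0x726)) (.node 1 (.leaf 0x683) (.leaf 0x6853)))))) (.node 16 (.node 8 (.node 4 (.node 2 (.node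 1 (.leaf 0x75321) (.leaf 0x7321)) (.node 1 (.leaf 0x8531) (.leaf 0x831))) (.node 2 (.node 1 (.leaf 0x7543) (.leaf 0x7431)) (.node 1 (.leaf 0x8453) (.leaf 0x843)))) (.node 4 (.node 2 (.node 1 (.leaf 0x87648) (.leaf 0x876485)) (.node 1 (.leaf 0x54863) (.leaf 0x85631))) (.node 2 (.node 1 (.leaf 0x7521) (.leaf 0x721)) (.node 1 (.leaf 0x851) (.leaf 0x81))))) (.node 8 (.node 4 (.node 2 (.node 1 (.leaf 0x7542) (.leaf 0x7421)) (.node 1 (.leaf 0x548) (.leaf 0x481))) (.node 2 (.node 1 (.leaf 0x4853) (.leaf 0x483)) (.node 1 (.leaf 0x74532) (.leaf 0x7432)))) (.node 4 (.node 2 (.node 1 (.leaf 0x684) (.leaf 0x6845)) (.node 1 (.leaf 0x6754) (.leaf 0x6741))) (.node 2 (.node 1 (.leaf 0x853) (.leaf 0x83)) (.node 1 (.leaf 0x7532) (.leaf 0x732))))))) (.node 32 (.node 16 (.node 8 (.node 4 (.node 2 (.node 1 (.leaf 0x6745) (.leaf 0x674)) (.node 1 (.leaf 0x568) (.leaf 0x6854))) (.node 2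 (.node 1 (.leaf 0x84643) (.leaf 0x8563)) (.node 1 (.leaf 0x876481) (.leaf 0x874684)))) (.node 4 (.node 2 (.node 1 (.leaf 0x864871) (.leaf 0x846874)) (.node 1 (.leaf 0x5486) (.leaf 0x8561))) (.node 2 (.node 1 (.leaf 0x8654) (.leaf 0x8641)) (.node 1 (.leaf 0x86874) (.leaf 0x486874))))) (.node 8 (.node 4 (.node 2 (.node 1 (.leaf 0x82687) (.leaf 0x84687)) (.node 1 (.leaf 0x486) (.leaf 0x861))) (.node 2 (.node 1 (.leaf 0x8653) (.leaf 0x863)) (.node 1 (.leaf 0x87268) (.leaf 0x87468)))) (.node 4 (.node 2 (.node 1 (.leaf 0x4671) (.leaf 0x672)) (.node 1 (.leaf 0x68) (.leaf 0x685))) (.node 2 (.node 1 (.leaf 0x846) (.leaf 0x826)) (.node 1 (.leaf 0x86871) (.leaf 0x48687)))))) (.node 16 (.node 8 (.node 4 (.node 2 (.node 1 (.leaf 0x75432) (.leaf 0x6756)) (.node 1 (.leaf 0x5483) (.leaf 0x4831))) (.node 2 (.node 1 (.leaf 0x87682) (.leaf 0x874681)) (.node 1 (.leaf 0x4863) (.leaf 0x8631))))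 (.node 4 (.node 2 (.node 1 (.leaf 0x87684) (.leaf 0x487684)) (.node 1 (.leaf 0x48643) (.leaf 0x8643))) (.node 2 (.node 1 (.leaf 0x86543) (.leaf 0x86431)) (.node 1 (.leaf 0x87568) (.leaf 0x876854))))) (.node 8 (.node 4 (.node 2 (.node 1 (.leaf 0x85687) (.leaf 0x868754)) (.node 1 (.leaf 0x4864) (.leaf 0x864))) (.node 2 (.node 1 (.leaf 0x8687) (.leaf 0x86875)) (.node 1 (.leaf 0x8461) (.leaf 0x862)))) (.node 4 (.node 2 (.node 1 (.leaf 0x8463) (.leaf 0x8263)) (.node 1 (.leaf 0x8768) (.leaf 0x87685))) (.node 2 (.node 1 (.leaf 0x87681) (.leaf 0x48768)) (.node 1 (.leaf 0x84631) (.leaf 0x8632)))))))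

def wordsPTree : Tree :=
  .node 256 (.node 128 (wordsPTree_0) (wordsPTree_1)) (.node 128 (wordsPTree_2) (wordsPTree_3))

def wordsP (i : ℕ) : List ℕ := decode 1000 (wordsPTree.get i)

def mulP_0 : Tree :=
  .node 64 (.node 32 (.node 16 (.node 8 (.node 4 (.node 2 (.node 1 (.leaf 0x1f) (.leaf 0x7)) (.node 1 (.leaf 0x8) (.leaf 0x5))) (.node 2 (.node 1 (.leaf 0x6) (.leaf 0x3)) (.node 1 (.leaf 0x4) (.leaf 0x1)))) (.node 4 (.node 2 (.node 1 (.leaf 0x2) (.leaf 0x1a)) (.node 1 (.leaf 0x1b) (.leaf 0x18))) (.node 2 (.node 1 (.leaf 0x19) (.leaf 0x1e)) (.node 1 (.leaf 0x1c) (.leaf 0x1d))))) (.node 8 (.node 4 (.node 2 (.node 1 (.leaf 0x16) (.leaf 0x17)) (.node 1 (.leaf 0x14) (.leaf 0x15))) (.node 2 (.node 1 (.leaf 0x12) (.leaf 0x13)) (.node 1 (.leaf 0x10) (.leaf 0x11)))) (.node 4 (.node 2 (.node 1 (.leaf 0xb) (.leaf 0xc)) (.node 1 (.leaf 0x9) (.leaf 0xa))) (.node 2 (.node 1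 (.leaf 0xe) (.leaf 0xf)) (.node 1 (.leaf 0xd) (.leaf 0x0)))))) (.node 16 (.node 8 (.node 4 (.node 2 (.node 1 (.leaf 0x36) (.leaf 0x37)) (.node 1 (.leaf 0x34) (.leaf 0x35))) (.node 2 (.node 1 (.leaf 0x2e) (.leaf 0x2f)) (.node 1 (.leaf 0x2c) (.leaf 0x2d)))) (.node 4 (.node 2 (.node 1 (.leaf 0x32) (.leaf 0x33)) (.node 1 (.leaf 0x30) (.leaf 0x31))) (.node 2 (.node 1 (.leaf 0x26) (.leaf 0x27)) (.node 1 (.leaf 0x24) (.leaf 0x25))))) (.node 8 (.node 4 (.node 2 (.node 1 (.leaf 0x2a) (.leaf 0x2b)) (.node 1 (.leaf 0x28) (.leaf 0x29))) (.node 2 (.node 1 (.leaf 0x22) (.leaf 0x23)) (.node 1 (.leaf 0x20) (.leaf 0x21)))) (.node 4 (.node 2 (.node 1 (.leaf 0x42) (.leaf 0x43)) (.node 1 (.leaf 0x40) (.leaf 0x41))) (.node 2 (.node 1 (.leaf 0x46) (.leaf 0x47)) (.node 1 (.leaf 0x44) (.leaf 0x45))))))) (.node 32 (.node 16 (.node 8 (.node 4 (.node 2 (.node 1 (.leaf 0x3a) (.leaf 0x3b)) (.node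 1 (.leaf 0x38) (.leaf 0x39))) (.node 2 (.node 1 (.leaf 0x3e) (.leaf 0x3f)) (.node 1 (.leaf 0x3c) (.leaf 0x3d)))) (.node 4 (.node 2 (.node 1 (.leaf 0x56) (.leaf 0x57)) (.node 1 (.leaf 0x54) (.leaf 0x55))) (.node 2 (.node 1 (.leaf 0x5a) (.leaf 0x5b)) (.node 1 (.leaf 0x58) (.leaf 0x59))))) (.node 8 (.node 4 (.node 2 (.node 1 (.leaf 0x5e) (.leaf 0x5f)) (.node 1 (.leaf 0x5c) (.leaf 0x5d))) (.node 2 (.node 1 (.leaf 0x4a) (.leaf 0x4b)) (.node 1 (.leaf 0x48) (.leaf 0x49)))) (.node 4 (.node 2 (.node 1 (.leaf 0x4e) (.leaf 0x4f)) (.node 1 (.leaf 0x4c) (.leaf 0x4d))) (.node 2 (.node 1 (.leaf 0x52) (.leaf 0x53)) (.node 1 (.leaf 0x50) (.leaf 0x51)))))) (.node 16 (.node 8 (.node 4 (.node 2 (.node 1 (.leaf 0x86) (.leaf 0x87)) (.node 1 (.leaf 0x84) (.leaf 0x85))) (.node 2 (.node 1 (.leaf 0x76) (.leaf 0x77)) (.node 1 (.leaf 0x74) (.leaf 0x75)))) (.node 4 (.node 2 (.node 1 (.leaf 0x72)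 (.leaf 0x73)) (.node 1 (.leaf 0x70) (.leaf 0x71))) (.node 2 (.node 1 (.leaf 0x7a) (.leaf 0x7b)) (.node 1 (.leaf 0x78) (.leaf 0x79))))) (.node 8 (.node 4 (.node 2 (.node 1 (.leaf 0x6a) (.leaf 0x6b)) (.node 1 (.leaf 0x68) (.leaf 0x69))) (.node 2 (.node 1 (.leaf 0x66) (.leaf 0x67)) (.node 1 (.leaf 0x64) (.leaf 0x65)))) (.node 4 (.node 2 (.node 1 (.leaf 0x6e) (.leaf 0x6f)) (.node 1 (.leaf 0x6c) (.leaf 0x6d))) (.node 2 (.node 1 (.leaf 0xa6) (.leaf 0xa7)) (.node 1 (.leaf 0xa4) (.leaf 0xa5)))))))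

def mulP_1 : Tree :=
  .node 64 (.node 32 (.node 16 (.node 8 (.node 4 (.node 2 (.node 1 (.leaf 0xba) (.leaf 0xbb)) (.node 1 (.leaf 0xb8) (.leaf 0xb9))) (.node 2 (.node 1 (.leaf 0x62) (.leaf 0x63)) (.node 1 (.leaf 0x60) (.leaf 0x61)))) (.node 4 (.node 2 (.node 1 (.leaf 0xb6) (.leaf 0xb7)) (.node 1 (.leaf 0xb4) (.leaf 0xb5))) (.node 2 (.node 1 (.leaf 0xc2) (.leaf 0xc3)) (.node 1 (.leaf 0xc0) (.leaf 0xc1))))) (.node 8 (.node 4 (.node 2 (.node 1 (.leaf 0xc6) (.leaf 0xc7)) (.node 1 (.leaf 0xc4) (.leaf 0xc5))) (.node 2 (.node 1 (.leaf 0x9a) (.leaf 0x9b)) (.node 1 (.leaf 0x98) (.leaf 0x99)))) (.node 4 (.node 2 (.node 1 (.leaf 0x96) (.leaf 0x97)) (.node 1 (.leaf 0x94) (.leaf 0x95))) (.node 2 (.node 1 (.leaf 0xaa) (.leaf 0xab)) (.node 1 (.leaf 0xa8) (.leaf 0xa9)))))) (.node 16 (.node 8 (.node 4 (.node 2 (.node 1 (.leaf 0xda) (.leaf 0xdb)) (.node 1 (.leaf 0xd8) (.leaf 0xd9)))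 (.node 2 (.node 1 (.leaf 0x7e) (.leaf 0x7f)) (.node 1 (.leaf 0x7c) (.leaf 0x7d)))) (.node 4 (.node 2 (.node 1 (.leaf 0x9e) (.leaf 0x9f)) (.node 1 (.leaf 0x9c) (.leaf 0x9d))) (.node 2 (.node 1 (.leaf 0xbe) (.leaf 0xbf)) (.node 1 (.leaf 0xbc) (.leaf 0xbd))))) (.node 8 (.node 4 (.node 2 (.node 1 (.leaf 0xe6) (.leaf 0xe7)) (.node 1 (.leaf 0xe4) (.leaf 0xe5))) (.node 2 (.node 1 (.leaf 0x8a) (.leaf 0x8b)) (.node 1 (.leaf 0x88) (.leaf 0x89)))) (.node 4 (.node 2 (.node 1 (.leaf 0x82) (.leaf 0x83)) (.node 1 (.leaf 0x80) (.leaf 0x81))) (.node 2 (.node 1 (.leaf 0xae) (.leaf 0xaf)) (.node 1 (.leaf 0xac) (.leaf 0xad))))))) (.node 32 (.node 16 (.node 8 (.node 4 (.node 2 (.node 1 (.leaf 0x8e) (.leaf 0x8f)) (.node 1 (.leaf 0x8c) (.leaf 0x8d))) (.node 2 (.node 1 (.leaf 0x92) (.leaf 0x93)) (.node 1 (.leaf 0x90) (.leaf 0x91)))) (.node 4 (.node 2 (.node 1 (.leaf 0xee) (.leaf 0xef)) (.node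 1 (.leaf 0xec) (.leaf 0xed))) (.node 2 (.node 1 (.leaf 0xf2) (.leaf 0xf3)) (.node 1 (.leaf 0xf0) (.leaf 0xf1))))) (.node 8 (.node 4 (.node 2 (.node 1 (.leaf 0xf6) (.leaf 0xf7)) (.node 1 (.leaf 0xf4) (.leaf 0xf5))) (.node 2 (.node 1 (.leaf 0xde) (.leaf 0xdf)) (.node 1 (.leaf 0xdc) (.leaf 0xdd)))) (.node 4 (.node 2 (.node 1 (.leaf 0xa2) (.leaf 0xa3)) (.node 1 (.leaf 0xa0) (.leaf 0xa1))) (.node 2 (.node 1 (.leaf 0xd6) (.leaf 0xd7)) (.node 1 (.leaf 0xd4) (.leaf 0xd5)))))) (.node 16 (.node 8 (.node 4 (.node 2 (.node 1 (.leaf 0xea) (.leaf 0xeb)) (.node 1 (.leaf 0xe8) (.leaf 0xe9))) (.node 2 (.node 1 (.leaf 0xb2) (.leaf 0xb3)) (.node 1 (.leaf 0xb0) (.leaf 0xb1)))) (.node 4 (.node 2 (.node 1 (.leaf 0xe2) (.leaf 0xe3)) (.node 1 (.leaf 0xe0) (.leaf 0xe1))) (.node 2 (.node 1 (.leaf 0xca) (.leaf 0xcb)) (.node 1 (.leaf 0xc8) (.leaf 0xc9))))) (.node 8 (.node 4 (.node 2 (.node 1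 (.leaf 0xce) (.leaf 0xcf)) (.node 1 (.leaf 0xcc) (.leaf 0xcd))) (.node 2 (.node 1 (.leaf 0xd2) (.leaf 0xd3)) (.node 1 (.leaf 0xd0) (.leaf 0xd1)))) (.node 4 (.node 2 (.node 1 (.leaf 0x106) (.leaf 0x107)) (.node 1 (.leaf 0x104) (.leaf 0x105))) (.node 2 (.node 1 (.leaf 0x102) (.leaf 0x103)) (.node 1 (.leaf 0x100) (.leaf 0x101)))))))

def mulP_2 : Tree :=
  .node 64 (.node 32 (.node 16 (.node 8 (.node 4 (.node 2 (.node 1 (.leaf 0xfe) (.leaf 0xff)) (.node 1 (.leaf 0xfc) (.leaf 0xfd))) (.node 2 (.node 1 (.leaf 0xfa) (.leaf 0xfb)) (.node 1 (.leaf 0xf8) (.leaf 0xf9)))) (.node 4 (.node 2 (.node 1 (.leaf 0x11e) (.leaf 0x11f)) (.node 1 (.leaf 0x11c) (.leaf 0x11d))) (.node 2 (.node 1 (.leaf 0x122) (.leaf 0x123)) (.node 1 (.leaf 0x120) (.leaf 0x121))))) (.node 8 (.node 4 (.node 2 (.node 1 (.leaf 0x126) (.leaf 0x127)) (.node 1 (.leaf 0x124) (.leaf 0x125))) (.node 2 (.node 1 (.leaf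 0x14a) (.leaf 0x14b)) (.node 1 (.leaf 0x148) (.leaf 0x149)))) (.node 4 (.node 2 (.node 1 (.leaf 0x15a) (.leaf 0x15b)) (.node 1 (.leaf 0x158) (.leaf 0x159))) (.node 2 (.node 1 (.leaf 0x10a) (.leaf 0x10b)) (.node 1 (.leaf 0x108) (.leaf 0x109)))))) (.node 16 (.node 8 (.node 4 (.node 2 (.node 1 (.leaf 0x10e) (.leaf 0x10f)) (.node 1 (.leaf 0x10c) (.leaf 0x10d))) (.node 2 (.node 1 (.leaf 0x112) (.leaf 0x113)) (.node 1 (.leaf 0x110) (.leaf 0x111)))) (.node 4 (.node 2 (.node 1 (.leaf 0x166) (.leaf 0x167)) (.node 1 (.leaf 0x164) (.leaf 0x165))) (.node 2 (.node 1 (.leaf 0x136) (.leaf 0x137)) (.node 1 (.leaf 0x134) (.leaf 0x135))))) (.node 8 (.node 4 (.node 2 (.node 1 (.leaf 0x16a) (.leaf 0x16b)) (.node 1 (.leaf 0x168) (.leaf 0x169))) (.node 2 (.node 1 (.leaf 0x12e) (.leaf 0x12f)) (.node 1 (.leaf 0x12c) (.leaf 0x12d)))) (.node 4 (.node 2 (.node 1 (.leaf 0x156) (.leaf 0x157))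 (.node 1 (.leaf 0x154) (.leaf 0x155))) (.node 2 (.node 1 (.leaf 0x146) (.leaf 0x147)) (.node 1 (.leaf 0x144) (.leaf 0x145))))))) (.node 32 (.node 16 (.node 8 (.node 4 (.node 2 (.node 1 (.leaf 0x192) (.leaf 0x193)) (.node 1 (.leaf 0x190) (.leaf 0x191))) (.node 2 (.node 1 (.leaf 0x13e) (.leaf 0x13f)) (.node 1 (.leaf 0x13c) (.leaf 0x13d)))) (.node 4 (.node 2 (.node 1 (.leaf 0x116) (.leaf 0x117)) (.node 1 (.leaf 0x114) (.leaf 0x115))) (.node 2 (.node 1 (.leaf 0x19e) (.leaf 0x19f)) (.node 1 (.leaf 0x19c) (.leaf 0x19d))))) (.node 8 (.node 4 (.node 2 (.node 1 (.leaf 0x17e) (.leaf 0x17f)) (.node 1 (.leaf 0x17c) (.leaf 0x17d))) (.node 2 (.node 1 (.leaf 0x13a) (.leaf 0x13b)) (.node 1 (.leaf 0x138) (.leaf 0x139)))) (.node 4 (.node 2 (.node 1 (.leaf 0x11a) (.leaf 0x11b)) (.node 1 (.leaf 0x118) (.leaf 0x119))) (.node 2 (.node 1 (.leaf 0x1b2) (.leaf 0x1b3)) (.node 1 (.leaf 0x1b0)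 (.leaf 0x1b1)))))) (.node 16 (.node 8 (.node 4 (.node 2 (.node 1 (.leaf 0x1a6) (.leaf 0x1a7)) (.node 1 (.leaf 0x1a4) (.leaf 0x1a5))) (.node 2 (.node 1 (.leaf 0x12a) (.leaf 0x12b)) (.node 1 (.leaf 0x128) (.leaf 0x129)))) (.node 4 (.node 2 (.node 1 (.leaf 0x132) (.leaf 0x133)) (.node 1 (.leaf 0x130) (.leaf 0x131))) (.node 2 (.node 1 (.leaf 0x176) (.leaf 0x177)) (.node 1 (.leaf 0x174) (.leaf 0x175))))) (.node 8 (.node 4 (.node 2 (.node 1 (.leaf 0x186) (.leaf 0x187)) (.node 1 (.leaf 0x184) (.leaf 0x185))) (.node 2 (.node 1 (.leaf 0x16e) (.leaf 0x16f)) (.node 1 (.leaf 0x16c) (.leaf 0x16d)))) (.node 4 (.node 2 (.node 1 (.leaf 0x1ae) (.leaf 0x1af)) (.node 1 (.leaf 0x1ac) (.leaf 0x1ad))) (.node 2 (.node 1 (.leaf 0x152) (.leaf 0x153)) (.node 1 (.leaf 0x150) (.leaf 0x151)))))))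

def mulP_3 : Tree :=
  .node 64 (.node 32 (.node 16 (.node 8 (.node 4 (.node 2 (.node 1 (.leaf 0x18e) (.leaf 0x18f)) (.node 1 (.leaf 0x18c) (.leaf 0x18d))) (.node 2 (.node 1 (.leaf 0x172) (.leaf 0x173)) (.node 1 (.leaf 0x170) (.leaf 0x171)))) (.node 4 (.node 2 (.node 1 (.leaf 0x1ca) (.leaf 0x1cb)) (.node 1 (.leaf 0x1c8) (.leaf 0x1c9))) (.node 2 (.node 1 (.leaf 0x182) (.leaf 0x183)) (.node 1 (.leaf 0x180) (.leaf 0x181))))) (.node 8 (.node 4 (.node 2 (.node 1 (.leaf 0x142) (.leaf 0x143)) (.node 1 (.leaf 0x140) (.leaf 0x141))) (.node 2 (.node 1 (.leaf 0x1da) (.leaf 0x1db)) (.node 1 (.leaf 0x1d8) (.leaf 0x1d9)))) (.node 4 (.node 2 (.node 1 (.leaf 0x1d2) (.leaf 0x1d3)) (.node 1 (.leaf 0x1d0) (.leaf 0x1d1))) (.node 2 (.node 1 (.leaf 0x14e) (.leaf 0x14f)) (.node 1 (.leaf 0x14c) (.leaf 0x14d)))))) (.node 16 (.node 8 (.node 4 (.node 2 (.node 1 (.leaf 0x1be) (.leaf 0x1bf))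 (.node 1 (.leaf 0x1bc) (.leaf 0x1bd))) (.node 2 (.node 1 (.leaf 0x162) (.leaf 0x163)) (.node 1 (.leaf 0x160) (.leaf 0x161)))) (.node 4 (.node 2 (.node 1 (.leaf 0x1c6) (.leaf 0x1c7)) (.node 1 (.leaf 0x1c4) (.leaf 0x1c5))) (.node 2 (.node 1 (.leaf 0x17a) (.leaf 0x17b)) (.node 1 (.leaf 0x178) (.leaf 0x179))))) (.node 8 (.node 4 (.node 2 (.node 1 (.leaf 0x15e) (.leaf 0x15f)) (.node 1 (.leaf 0x15c) (.leaf 0x15d))) (.node 2 (.node 1 (.leaf 0x1e2) (.leaf 0x1e3)) (.node 1 (.leaf 0x1e0) (.leaf 0x1e1)))) (.node 4 (.node 2 (.node 1 (.leaf 0x1c2) (.leaf 0x1c3)) (.node 1 (.leaf 0x1c0) (.leaf 0x1c1))) (.node 2 (.node 1 (.leaf 0x1a2) (.leaf 0x1a3)) (.node 1 (.leaf 0x1a0) (.leaf 0x1a1))))))) (.node 32 (.node 16 (.node 8 (.node 4 (.node 2 (.node 1 (.leaf 0x1ba) (.leaf 0x1bb)) (.node 1 (.leaf 0x1b8) (.leaf 0x1b9))) (.node 2 (.node 1 (.leaf 0x1aa) (.leaf 0x1ab)) (.node 1 (.leaf 0x1a8)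 (.leaf 0x1a9)))) (.node 4 (.node 2 (.node 1 (.leaf 0x18a) (.leaf 0x18b)) (.node 1 (.leaf 0x188) (.leaf 0x189))) (.node 2 (.node 1 (.leaf 0x1f2) (.leaf 0x1f3)) (.node 1 (.leaf 0x1f0) (.leaf 0x1f1))))) (.node 8 (.node 4 (.node 2 (.node 1 (.leaf 0x19a) (.leaf 0x19b)) (.node 1 (.leaf 0x198) (.leaf 0x199))) (.node 2 (.node 1 (.leaf 0x1e6) (.leaf 0x1e7)) (.node 1 (.leaf 0x1e4) (.leaf 0x1e5)))) (.node 4 (.node 2 (.node 1 (.leaf 0x196) (.leaf 0x197)) (.node 1 (.leaf 0x194) (.leaf 0x195))) (.node 2 (.node 1 (.leaf 0x1f6) (.leaf 0x1f7)) (.node 1 (.leaf 0x1f4) (.leaf 0x1f5)))))) (.node 16 (.node 8 (.node 4 (.node 2 (.node 1 (.leaf 0x1b6) (.leaf 0x1b7)) (.node 1 (.leaf 0x1b4) (.leaf 0x1b5))) (.node 2 (.node 1 (.leaf 0x1d6) (.leaf 0x1d7)) (.node 1 (.leaf 0x1d4) (.leaf 0x1d5)))) (.node 4 (.node 2 (.node 1 (.leaf 0x1ee) (.leaf 0x1ef)) (.node 1 (.leaf 0x1ec) (.leaf 0x1ed))) (.node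 2 (.node 1 (.leaf 0x1ea) (.leaf 0x1eb)) (.node 1 (.leaf 0x1e8) (.leaf 0x1e9))))) (.node 8 (.node 4 (.node 2 (.node 1 (.leaf 0x1ce) (.leaf 0x1cf)) (.node 1 (.leaf 0x1cc) (.leaf 0x1cd))) (.node 2 (.node 1 (.leaf 0x1de) (.leaf 0x1df)) (.node 1 (.leaf 0x1dc) (.leaf 0x1dd)))) (.node 4 (.node 2 (.node 1 (.leaf 0x1fe) (.leaf 0x1ff)) (.node 1 (.leaf 0x1fc) (.leaf 0x1fd))) (.node 2 (.node 1 (.leaf 0x1fa) (.leaf 0x1fb)) (.node 1 (.leaf 0x1f8) (.leaf 0x1f9)))))))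

def mulP_4 : Tree :=
  .node 64 (.node 32 (.node 16 (.node 8 (.node 4 (.node 2 (.node 1 (.leaf 0x21) (.leaf 0x9)) (.node 1 (.leaf 0xa) (.leaf 0xb))) (.node 2 (.node 1 (.leaf 0xc) (.leaf 0x18)) (.node 1 (.leaf 0x19) (.leaf 0x1a)))) (.node 4 (.node 2 (.node 1 (.leaf 0x1b) (.leaf 0x1)) (.node 1 (.leaf 0x2) (.leaf 0x3))) (.node 2 (.node 1 (.leaf 0x4) (.leaf 0x20)) (.node 1 (.leaf 0x22) (.leaf 0x23))))) (.node 8 (.node 4 (.node 2 (.node 1 (.leaf 0x24) (.leaf 0x25)) (.node 1 (.leaf 0x26) (.leaf 0x27))) (.node 2 (.node 1 (.leaf 0x2c) (.leaf 0x2d)) (.node 1 (.leaf 0x2e) (.leaf 0x2f)))) (.node 4 (.node 2 (.node 1 (.leaf 0x5) (.leaf 0x6)) (.node 1 (.leaf 0x7) (.leaf 0x8))) (.node 2 (.node 1 (.leaf 0x34) (.leaf 0x35)) (.node 1 (.leaf 0x36) (.leaf 0x37)))))) (.node 16 (.node 8 (.node 4 (.node 2 (.node 1 (.leaf 0xd) (.leaf 0x0)) (.node 1 (.leaf 0xe) (.leaf 0xf))) (.node 2 (.node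 1 (.leaf 0x10) (.leaf 0x11)) (.node 1 (.leaf 0x12) (.leaf 0x13)))) (.node 4 (.node 2 (.node 1 (.leaf 0x38) (.leaf 0x39)) (.node 1 (.leaf 0x3a) (.leaf 0x3b))) (.node 2 (.node 1 (.leaf 0x14) (.leaf 0x15)) (.node 1 (.leaf 0x16) (.leaf 0x17))))) (.node 8 (.node 4 (.node 2 (.node 1 (.leaf 0x40) (.leaf 0x41)) (.node 1 (.leaf 0x42) (.leaf 0x43))) (.node 2 (.node 1 (.leaf 0x1c) (.leaf 0x1d)) (.node 1 (.leaf 0x1e) (.leaf 0x1f)))) (.node 4 (.node 2 (.node 1 (.leaf 0x28) (.leaf 0x29)) (.node 1 (.leaf 0x2a) (.leaf 0x2b))) (.node 2 (.node 1 (.leaf 0x48) (.leaf 0x49)) (.node 1 (.leaf 0x4a) (.leaf 0x4b))))))) (.node 32 (.node 16 (.node 8 (.node 4 (.node 2 (.node 1 (.leaf 0x30) (.leaf 0x31)) (.node 1 (.leaf 0x32) (.leaf 0x33))) (.node 2 (.node 1 (.leaf 0x54) (.leaf 0x55)) (.node 1 (.leaf 0x56) (.leaf 0x57)))) (.node 4 (.node 2 (.node 1 (.leaf 0x3c) (.leaf 0x3d)) (.node 1 (.leaf 0x3e)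 (.leaf 0x3f))) (.node 2 (.node 1 (.leaf 0x64) (.leaf 0x65)) (.node 1 (.leaf 0x66) (.leaf 0x67))))) (.node 8 (.node 4 (.node 2 (.node 1 (.leaf 0x68) (.leaf 0x69)) (.node 1 (.leaf 0x6a) (.leaf 0x6b))) (.node 2 (.node 1 (.leaf 0x44) (.leaf 0x45)) (.node 1 (.leaf 0x46) (.leaf 0x47)))) (.node 4 (.node 2 (.node 1 (.leaf 0x74) (.leaf 0x75)) (.node 1 (.leaf 0x76) (.leaf 0x77))) (.node 2 (.node 1 (.leaf 0x70) (.leaf 0x71)) (.node 1 (.leaf 0x72) (.leaf 0x73)))))) (.node 16 (.node 8 (.node 4 (.node 2 (.node 1 (.leaf 0x8c) (.leaf 0x8d)) (.node 1 (.leaf 0x8e) (.leaf 0x8f))) (.node 2 (.node 1 (.leaf 0x4c) (.leaf 0x4d)) (.node 1 (.leaf 0x4e) (.leaf 0x4f)))) (.node 4 (.node 2 (.node 1 (.leaf 0x50) (.leaf 0x51)) (.node 1 (.leaf 0x52) (.leaf 0x53))) (.node 2 (.node 1 (.leaf 0x94) (.leaf 0x95)) (.node 1 (.leaf 0x96) (.leaf 0x97))))) (.node 8 (.node 4 (.node 2 (.node 1 (.leaf 0x5c) (.leaf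 0x5d)) (.node 1 (.leaf 0x5e) (.leaf 0x5f))) (.node 2 (.node 1 (.leaf 0x58) (.leaf 0x59)) (.node 1 (.leaf 0x5a) (.leaf 0x5b)))) (.node 4 (.node 2 (.node 1 (.leaf 0x98) (.leaf 0x99)) (.node 1 (.leaf 0x9a) (.leaf 0x9b))) (.node 2 (.node 1 (.leaf 0xa8) (.leaf 0xa9)) (.node 1 (.leaf 0xaa) (.leaf 0xab)))))))

def mulP_5 : Tree :=
  .node 64 (.node 32 (.node 16 (.node 8 (.node 4 (.node 2 (.node 1 (.leaf 0xbc) (.leaf 0xbd)) (.node 1 (.leaf 0xbe) (.leaf 0xbf))) (.node 2 (.node 1 (.leaf 0xc0) (.leaf 0xc1)) (.node 1 (.leaf 0xc2) (.leaf 0xc3)))) (.node 4 (.node 2 (.node 1 (.leaf 0xc8) (.leaf 0xc9)) (.node 1 (.leaf 0xca) (.leaf 0xcb))) (.node 2 (.node 1 (.leaf 0x60) (.leaf 0x61)) (.node 1 (.leaf 0x62) (.leaf 0x63))))) (.node 8 (.node 4 (.node 2 (.node 1 (.leaf 0xd0) (.leaf 0xd1)) (.node 1 (.leaf 0xd2) (.leaf 0xd3))) (.node 2 (.node 1 (.leaf 0x6c) (.leaf 0x6d)) (.node 1 (.leaf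 0x6e) (.leaf 0x6f)))) (.node 4 (.node 2 (.node 1 (.leaf 0x78) (.leaf 0x79)) (.node 1 (.leaf 0x7a) (.leaf 0x7b))) (.node 2 (.node 1 (.leaf 0xa4) (.leaf 0xa5)) (.node 1 (.leaf 0xa6) (.leaf 0xa7)))))) (.node 16 (.node 8 (.node 4 (.node 2 (.node 1 (.leaf 0xdc) (.leaf 0xdd)) (.node 1 (.leaf 0xde) (.leaf 0xdf))) (.node 2 (.node 1 (.leaf 0x9c) (.leaf 0x9d)) (.node 1 (.leaf 0x9e) (.leaf 0x9f)))) (.node 4 (.node 2 (.node 1 (.leaf 0x7c) (.leaf 0x7d)) (.node 1 (.leaf 0x7e) (.leaf 0x7f))) (.node 2 (.node 1 (.leaf 0xb8) (.leaf 0xb9)) (.node 1 (.leaf 0xba) (.leaf 0xbb))))) (.node 8 (.node 4 (.node 2 (.node 1 (.leaf 0xe8) (.leaf 0xe9)) (.node 1 (.leaf 0xea) (.leaf 0xeb))) (.node 2 (.node 1 (.leaf 0xec) (.leaf 0xed)) (.node 1 (.leaf 0xee) (.leaf 0xef)))) (.node 4 (.node 2 (.node 1 (.leaf 0xac) (.leaf 0xad)) (.node 1 (.leaf 0xae) (.leaf 0xaf))) (.node 2 (.node 1 (.leaf 0x80) (.leaf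 0x81)) (.node 1 (.leaf 0x82) (.leaf 0x83))))))) (.node 32 (.node 16 (.node 8 (.node 4 (.node 2 (.node 1 (.leaf 0x84) (.leaf 0x85)) (.node 1 (.leaf 0x86) (.leaf 0x87))) (.node 2 (.node 1 (.leaf 0xf4) (.leaf 0xf5)) (.node 1 (.leaf 0xf6) (.leaf 0xf7)))) (.node 4 (.node 2 (.node 1 (.leaf 0x88) (.leaf 0x89)) (.node 1 (.leaf 0x8a) (.leaf 0x8b))) (.node 2 (.node 1 (.leaf 0xfc) (.leaf 0xfd)) (.node 1 (.leaf 0xfe) (.leaf 0xff))))) (.node 8 (.node 4 (.node 2 (.node 1 (.leaf 0x90) (.leaf 0x91)) (.node 1 (.leaf 0x92) (.leaf 0x93))) (.node 2 (.node 1 (.leaf 0xd8) (.leaf 0xd9)) (.node 1 (.leaf 0xda) (.leaf 0xdb)))) (.node 4 (.node 2 (.node 1 (.leaf 0xd4) (.leaf 0xd5)) (.node 1 (.leaf 0xd6) (.leaf 0xd7))) (.node 2 (.node 1 (.leaf 0xa0) (.leaf 0xa1)) (.node 1 (.leaf 0xa2) (.leaf 0xa3)))))) (.node 16 (.node 8 (.node 4 (.node 2 (.node 1 (.leaf 0xe4) (.leaf 0xe5)) (.node 1 (.leaf 0xe6)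 (.leaf 0xe7))) (.node 2 (.node 1 (.leaf 0xe0) (.leaf 0xe1)) (.node 1 (.leaf 0xe2) (.leaf 0xe3)))) (.node 4 (.node 2 (.node 1 (.leaf 0xb0) (.leaf 0xb1)) (.node 1 (.leaf 0xb2) (.leaf 0xb3))) (.node 2 (.node 1 (.leaf 0xb4) (.leaf 0xb5)) (.node 1 (.leaf 0xb6) (.leaf 0xb7))))) (.node 8 (.node 4 (.node 2 (.node 1 (.leaf 0x100) (.leaf 0x101)) (.node 1 (.leaf 0x102) (.leaf 0x103))) (.node 2 (.node 1 (.leaf 0xc4) (.leaf 0xc5)) (.node 1 (.leaf 0xc6) (.leaf 0xc7)))) (.node 4 (.node 2 (.node 1 (.leaf 0x108) (.leaf 0x109)) (.node 1 (.leaf 0x10a) (.leaf 0x10b))) (.node 2 (.node 1 (.leaf 0xcc) (.leaf 0xcd)) (.node 1 (.leaf 0xce) (.leaf 0xcf)))))))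

def mulP_6 : Tree :=
  .node 64 (.node 32 (.node 16 (.node 8 (.node 4 (.node 2 (.node 1 (.leaf 0xf0) (.leaf 0xf1)) (.node 1 (.leaf 0xf2) (.leaf 0xf3))) (.node 2 (.node 1 (.leaf 0x11c) (.leaf 0x11d)) (.node 1 (.leaf 0x11e) (.leaf 0x11f)))) (.node 4 (.node 2 (.node 1 (.leaf 0xf8) (.leaf 0xf9)) (.node 1 (.leaf 0xfa) (.leaf 0xfb))) (.node 2 (.node 1 (.leaf 0x128) (.leaf 0x129)) (.node 1 (.leaf 0x12a) (.leaf 0x12b))))) (.node 8 (.node 4 (.node 2 (.node 1 (.leaf 0x12c) (.leaf 0x12d)) (.node 1 (.leaf 0x12e) (.leaf 0x12f))) (.node 2 (.node 1 (.leaf 0x14c) (.leaf 0x14d)) (.node 1 (.leaf 0x14e) (.leaf 0x14f)))) (.node 4 (.node 2 (.node 1 (.leaf 0x15c) (.leaf 0x15d)) (.node 1 (.leaf 0x15e) (.leaf 0x15f))) (.node 2 (.node 1 (.leaf 0x104) (.leaf 0x105)) (.node 1 (.leaf 0x106) (.leaf 0x107)))))) (.node 16 (.node 8 (.node 4 (.node 2 (.node 1 (.leaf 0x164) (.leaf 0x165)) (.node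 1 (.leaf 0x166) (.leaf 0x167))) (.node 2 (.node 1 (.leaf 0x134) (.leaf 0x135)) (.node 1 (.leaf 0x136) (.leaf 0x137)))) (.node 4 (.node 2 (.node 1 (.leaf 0x10c) (.leaf 0x10d)) (.node 1 (.leaf 0x10e) (.leaf 0x10f))) (.node 2 (.node 1 (.leaf 0x110) (.leaf 0x111)) (.node 1 (.leaf 0x112) (.leaf 0x113))))) (.node 8 (.node 4 (.node 2 (.node 1 (.leaf 0x16c) (.leaf 0x16d)) (.node 1 (.leaf 0x16e) (.leaf 0x16f))) (.node 2 (.node 1 (.leaf 0x124) (.leaf 0x125)) (.node 1 (.leaf 0x126) (.leaf 0x127)))) (.node 4 (.node 2 (.node 1 (.leaf 0x178) (.leaf 0x179)) (.node 1 (.leaf 0x17a) (.leaf 0x17b))) (.node 2 (.node 1 (.leaf 0x184) (.leaf 0x185)) (.node 1 (.leaf 0x186) (.leaf 0x187))))))) (.node 32 (.node 16 (.node 8 (.node 4 (.node 2 (.node 1 (.leaf 0x194) (.leaf 0x195)) (.node 1 (.leaf 0x196) (.leaf 0x197))) (.node 2 (.node 1 (.leaf 0x170) (.leaf 0x171)) (.node 1 (.leaf 0x172) (.leaf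 0x173)))) (.node 4 (.node 2 (.node 1 (.leaf 0x19c) (.leaf 0x19d)) (.node 1 (.leaf 0x19e) (.leaf 0x19f))) (.node 2 (.node 1 (.leaf 0x114) (.leaf 0x115)) (.node 1 (.leaf 0x116) (.leaf 0x117))))) (.node 8 (.node 4 (.node 2 (.node 1 (.leaf 0x1a0) (.leaf 0x1a1)) (.node 1 (.leaf 0x1a2) (.leaf 0x1a3))) (.node 2 (.node 1 (.leaf 0x1ac) (.leaf 0x1ad)) (.node 1 (.leaf 0x1ae) (.leaf 0x1af)))) (.node 4 (.node 2 (.node 1 (.leaf 0x1b0) (.leaf 0x1b1)) (.node 1 (.leaf 0x1b2) (.leaf 0x1b3))) (.node 2 (.node 1 (.leaf 0x118) (.leaf 0x119)) (.node 1 (.leaf 0x11a) (.leaf 0x11b)))))) (.node 16 (.node 8 (.node 4 (.node 2 (.node 1 (.leaf 0x1b4) (.leaf 0x1b5)) (.node 1 (.leaf 0x1b6) (.leaf 0x1b7))) (.node 2 (.node 1 (.leaf 0x120) (.leaf 0x121)) (.node 1 (.leaf 0x122) (.leaf 0x123)))) (.node 4 (.node 2 (.node 1 (.leaf 0x174) (.leaf 0x175)) (.node 1 (.leaf 0x176) (.leaf 0x177))) (.node 2 (.node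 1 (.leaf 0x130) (.leaf 0x131)) (.node 1 (.leaf 0x132) (.leaf 0x133))))) (.node 8 (.node 4 (.node 2 (.node 1 (.leaf 0x144) (.leaf 0x145)) (.node 1 (.leaf 0x146) (.leaf 0x147))) (.node 2 (.node 1 (.leaf 0x168) (.leaf 0x169)) (.node 1 (.leaf 0x16a) (.leaf 0x16b)))) (.node 4 (.node 2 (.node 1 (.leaf 0x138) (.leaf 0x139)) (.node 1 (.leaf 0x13a) (.leaf 0x13b))) (.node 2 (.node 1 (.leaf 0x1bc) (.leaf 0x1bd)) (.node 1 (.leaf 0x1be) (.leaf 0x1bf)))))))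

def mulP_7 : Tree :=
  .node 64 (.node 32 (.node 16 (.node 8 (.node 4 (.node 2 (.node 1 (.leaf 0x1c0) (.leaf 0x1c1)) (.node 1 (.leaf 0x1c2) (.leaf 0x1c3))) (.node 2 (.node 1 (.leaf 0x13c) (.leaf 0x13d)) (.node 1 (.leaf 0x13e) (.leaf 0x13f)))) (.node 4 (.node 2 (.node 1 (.leaf 0x1cc) (.leaf 0x1cd)) (.node 1 (.leaf 0x1ce) (.leaf 0x1cf))) (.node 2 (.node 1 (.leaf 0x1b8) (.leaf 0x1b9)) (.node 1 (.leaf 0x1ba) (.leaf 0x1bb))))) (.node 8 (.node 4 (.node 2 (.node 1 (.leaf 0x1d8) (.leaf 0x1d9)) (.node 1 (.leaf 0x1da) (.leaf 0x1db))) (.node 2 (.node 1 (.leaf 0x140) (.leaf 0x141)) (.node 1 (.leaf 0x142) (.leaf 0x143)))) (.node 4 (.node 2 (.node 1 (.leaf 0x1dc) (.leaf 0x1dd)) (.node 1 (.leaf 0x1de) (.leaf 0x1df))) (.node 2 (.node 1 (.leaf 0x148) (.leaf 0x149)) (.node 1 (.leaf 0x14a) (.leaf 0x14b)))))) (.node 16 (.node 8 (.node 4 (.node 2 (.node 1 (.leaf 0x150) (.leaf 0x151))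 (.node 1 (.leaf 0x152) (.leaf 0x153))) (.node 2 (.node 1 (.leaf 0x1e0) (.leaf 0x1e1)) (.node 1 (.leaf 0x1e2) (.leaf 0x1e3)))) (.node 4 (.node 2 (.node 1 (.leaf 0x1e8) (.leaf 0x1e9)) (.node 1 (.leaf 0x1ea) (.leaf 0x1eb))) (.node 2 (.node 1 (.leaf 0x154) (.leaf 0x155)) (.node 1 (.leaf 0x156) (.leaf 0x157))))) (.node 8 (.node 4 (.node 2 (.node 1 (.leaf 0x158) (.leaf 0x159)) (.node 1 (.leaf 0x15a) (.leaf 0x15b))) (.node 2 (.node 1 (.leaf 0x160) (.leaf 0x161)) (.node 1 (.leaf 0x162) (.leaf 0x163)))) (.node 4 (.node 2 (.node 1 (.leaf 0x18c) (.leaf 0x18d)) (.node 1 (.leaf 0x18e) (.leaf 0x18f))) (.node 2 (.node 1 (.leaf 0x17c) (.leaf 0x17d)) (.node 1 (.leaf 0x17e) (.leaf 0x17f))))))) (.node 32 (.node 16 (.node 8 (.node 4 (.node 2 (.node 1 (.leaf 0x180) (.leaf 0x181)) (.node 1 (.leaf 0x182) (.leaf 0x183))) (.node 2 (.node 1 (.leaf 0x1ec) (.leaf 0x1ed)) (.node 1 (.leaf 0x1ee)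 (.leaf 0x1ef)))) (.node 4 (.node 2 (.node 1 (.leaf 0x1f0) (.leaf 0x1f1)) (.node 1 (.leaf 0x1f2) (.leaf 0x1f3))) (.node 2 (.node 1 (.leaf 0x188) (.leaf 0x189)) (.node 1 (.leaf 0x18a) (.leaf 0x18b))))) (.node 8 (.node 4 (.node 2 (.node 1 (.leaf 0x1f4) (.leaf 0x1f5)) (.node 1 (.leaf 0x1f6) (.leaf 0x1f7))) (.node 2 (.node 1 (.leaf 0x1f8) (.leaf 0x1f9)) (.node 1 (.leaf 0x1fa) (.leaf 0x1fb)))) (.node 4 (.node 2 (.node 1 (.leaf 0x190) (.leaf 0x191)) (.node 1 (.leaf 0x192) (.leaf 0x193))) (.node 2 (.node 1 (.leaf 0x198) (.leaf 0x199)) (.node 1 (.leaf 0x19a) (.leaf 0x19b)))))) (.node 16 (.node 8 (.node 4 (.node 2 (.node 1 (.leaf 0x1a4) (.leaf 0x1a5)) (.node 1 (.leaf 0x1a6) (.leaf 0x1a7))) (.node 2 (.node 1 (.leaf 0x1fc) (.leaf 0x1fd)) (.node 1 (.leaf 0x1fe) (.leaf 0x1ff)))) (.node 4 (.node 2 (.node 1 (.leaf 0x1a8) (.leaf 0x1a9)) (.node 1 (.leaf 0x1aa) (.leaf 0x1ab))) (.node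 2 (.node 1 (.leaf 0x1c4) (.leaf 0x1c5)) (.node 1 (.leaf 0x1c6) (.leaf 0x1c7))))) (.node 8 (.node 4 (.node 2 (.node 1 (.leaf 0x1c8) (.leaf 0x1c9)) (.node 1 (.leaf 0x1ca) (.leaf 0x1cb))) (.node 2 (.node 1 (.leaf 0x1d0) (.leaf 0x1d1)) (.node 1 (.leaf 0x1d2) (.leaf 0x1d3)))) (.node 4 (.node 2 (.node 1 (.leaf 0x1d4) (.leaf 0x1d5)) (.node 1 (.leaf 0x1d6) (.leaf 0x1d7))) (.node 2 (.node 1 (.leaf 0x1e4) (.leaf 0x1e5)) (.node 1 (.leaf 0x1e6) (.leaf 0x1e7)))))))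

def mulP_8 : Tree :=
  .node 64 (.node 32 (.node 16 (.node 8 (.node 4 (.node 2 (.node 1 (.leaf 0x2) (.leaf 0xd)) (.node 1 (.leaf 0x0) (.leaf 0xe))) (.node 2 (.node 1 (.leaf 0xf) (.leaf 0x1c)) (.node 1 (.leaf 0x1d) (.leaf 0x1e)))) (.node 4 (.node 2 (.node 1 (.leaf 0x1f) (.leaf 0x20)) (.node 1 (.leaf 0x21) (.leaf 0x22))) (.node 2 (.node 1 (.leaf 0x23) (.leaf 0x1)) (.node 1 (.leaf 0x3) (.leaf 0x4))))) (.node 8 (.node 4 (.node 2 (.node 1 (.leaf 0x28) (.leaf 0x29)) (.node 1 (.leaf 0x2a) (.leaf 0x2b))) (.node 2 (.node 1 (.leaf 0x30) (.leaf 0x31)) (.node 1 (.leaf 0x32) (.leaf 0x33)))) (.node 4 (.node 2 (.node 1 (.leaf 0x34) (.leaf 0x35)) (.node 1 (.leaf 0x36) (.leaf 0x37))) (.node 2 (.node 1 (.leaf 0x5) (.leaf 0x6)) (.node 1 (.leaf 0x7) (.leaf 0x8)))))) (.node 16 (.node 8 (.node 4 (.node 2 (.node 1 (.leaf 0x9) (.leaf 0xa)) (.node 1 (.leaf 0xb) (.leaf 0xc))) (.node 2 (.node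 1 (.leaf 0x38) (.leaf 0x39)) (.node 1 (.leaf 0x3a) (.leaf 0x3b)))) (.node 4 (.node 2 (.node 1 (.leaf 0x10) (.leaf 0x11)) (.node 1 (.leaf 0x12) (.leaf 0x13))) (.node 2 (.node 1 (.leaf 0x40) (.leaf 0x41)) (.node 1 (.leaf 0x42) (.leaf 0x43))))) (.node 8 (.node 4 (.node 2 (.node 1 (.leaf 0x14) (.leaf 0x15)) (.node 1 (.leaf 0x16) (.leaf 0x17))) (.node 2 (.node 1 (.leaf 0x18) (.leaf 0x19)) (.node 1 (.leaf 0x1a) (.leaf 0x1b)))) (.node 4 (.node 2 (.node 1 (.leaf 0x24) (.leaf 0x25)) (.node 1 (.leaf 0x26) (.leaf 0x27))) (.node 2 (.node 1 (.leaf 0x4c) (.leaf 0x4d)) (.node 1 (.leaf 0x4e) (.leaf 0x4f))))))) (.node 32 (.node 16 (.node 8 (.node 4 (.node 2 (.node 1 (.leaf 0x2c) (.leaf 0x2d)) (.node 1 (.leaf 0x2e) (.leaf 0x2f))) (.node 2 (.node 1 (.leaf 0x58) (.leaf 0x59)) (.node 1 (.leaf 0x5a) (.leaf 0x5b)))) (.node 4 (.node 2 (.node 1 (.leaf 0x64) (.leaf 0x65)) (.node 1 (.leaf 0x66)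 (.leaf 0x67))) (.node 2 (.node 1 (.leaf 0x3c) (.leaf 0x3d)) (.node 1 (.leaf 0x3e) (.leaf 0x3f))))) (.node 8 (.node 4 (.node 2 (.node 1 (.leaf 0x6c) (.leaf 0x6d)) (.node 1 (.leaf 0x6e) (.leaf 0x6f))) (.node 2 (.node 1 (.leaf 0x74) (.leaf 0x75)) (.node 1 (.leaf 0x76) (.leaf 0x77)))) (.node 4 (.node 2 (.node 1 (.leaf 0x44) (.leaf 0x45)) (.node 1 (.leaf 0x46) (.leaf 0x47))) (.node 2 (.node 1 (.leaf 0x78) (.leaf 0x79)) (.node 1 (.leaf 0x7a) (.leaf 0x7b)))))) (.node 16 (.node 8 (.node 4 (.node 2 (.node 1 (.leaf 0x88) (.leaf 0x89)) (.node 1 (.leaf 0x8a) (.leaf 0x8b))) (.node 2 (.node 1 (.leaf 0x48) (.leaf 0x49)) (.node 1 (.leaf 0x4a) (.leaf 0x4b)))) (.node 4 (.node 2 (.node 1 (.leaf 0x94) (.leaf 0x95)) (.node 1 (.leaf 0x96) (.leaf 0x97))) (.node 2 (.node 1 (.leaf 0x50) (.leaf 0x51)) (.node 1 (.leaf 0x52) (.leaf 0x53))))) (.node 8 (.node 4 (.node 2 (.node 1 (.leaf 0x98) (.leaf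 0x99)) (.node 1 (.leaf 0x9a) (.leaf 0x9b))) (.node 2 (.node 1 (.leaf 0x54) (.leaf 0x55)) (.node 1 (.leaf 0x56) (.leaf 0x57)))) (.node 4 (.node 2 (.node 1 (.leaf 0x5c) (.leaf 0x5d)) (.node 1 (.leaf 0x5e) (.leaf 0x5f))) (.node 2 (.node 1 (.leaf 0xa0) (.leaf 0xa1)) (.node 1 (.leaf 0xa2) (.leaf 0xa3)))))))

def mulP_9 : Tree :=
  .node 64 (.node 32 (.node 16 (.node 8 (.node 4 (.node 2 (.node 1 (.leaf 0xb0) (.leaf 0xb1)) (.node 1 (.leaf 0xb2) (.leaf 0xb3))) (.node 2 (.node 1 (.leaf 0xb4) (.leaf 0xb5)) (.node 1 (.leaf 0xb6) (.leaf 0xb7)))) (.node 4 (.node 2 (.node 1 (.leaf 0x60) (.leaf 0x61)) (.node 1 (.leaf 0x62) (.leaf 0x63))) (.node 2 (.node 1 (.leaf 0xc8) (.leaf 0xc9)) (.node 1 (.leaf 0xca) (.leaf 0xcb))))) (.node 8 (.node 4 (.node 2 (.node 1 (.leaf 0xcc) (.leaf 0xcd)) (.node 1 (.leaf 0xce) (.leaf 0xcf))) (.node 2 (.node 1 (.leaf 0x68) (.leaf 0x69)) (.node 1 (.leaf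 0x6a) (.leaf 0x6b)))) (.node 4 (.node 2 (.node 1 (.leaf 0x70) (.leaf 0x71)) (.node 1 (.leaf 0x72) (.leaf 0x73))) (.node 2 (.node 1 (.leaf 0xd4) (.leaf 0xd5)) (.node 1 (.leaf 0xd6) (.leaf 0xd7)))))) (.node 16 (.node 8 (.node 4 (.node 2 (.node 1 (.leaf 0x7c) (.leaf 0x7d)) (.node 1 (.leaf 0x7e) (.leaf 0x7f))) (.node 2 (.node 1 (.leaf 0xd8) (.leaf 0xd9)) (.node 1 (.leaf 0xda) (.leaf 0xdb)))) (.node 4 (.node 2 (.node 1 (.leaf 0xdc) (.leaf 0xdd)) (.node 1 (.leaf 0xde) (.leaf 0xdf))) (.node 2 (.node 1 (.leaf 0xe0) (.leaf 0xe1)) (.node 1 (.leaf 0xe2) (.leaf 0xe3))))) (.node 8 (.node 4 (.node 2 (.node 1 (.leaf 0x80) (.leaf 0x81)) (.node 1 (.leaf 0x82) (.leaf 0x83))) (.node 2 (.node 1 (.leaf 0x84) (.leaf 0x85)) (.node 1 (.leaf 0x86) (.leaf 0x87)))) (.node 4 (.node 2 (.node 1 (.leaf 0xe4) (.leaf 0xe5)) (.node 1 (.leaf 0xe6) (.leaf 0xe7))) (.node 2 (.node 1 (.leaf 0xe8) (.leaf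 0xe9)) (.node 1 (.leaf 0xea) (.leaf 0xeb))))))) (.node 32 (.node 16 (.node 8 (.node 4 (.node 2 (.node 1 (.leaf 0xec) (.leaf 0xed)) (.node 1 (.leaf 0xee) (.leaf 0xef))) (.node 2 (.node 1 (.leaf 0xf0) (.leaf 0xf1)) (.node 1 (.leaf 0xf2) (.leaf 0xf3)))) (.node 4 (.node 2 (.node 1 (.leaf 0x8c) (.leaf 0x8d)) (.node 1 (.leaf 0x8e) (.leaf 0x8f))) (.node 2 (.node 1 (.leaf 0x90) (.leaf 0x91)) (.node 1 (.leaf 0x92) (.leaf 0x93))))) (.node 8 (.node 4 (.node 2 (.node 1 (.leaf 0xfc) (.leaf 0xfd)) (.node 1 (.leaf 0xfe) (.leaf 0xff))) (.node 2 (.node 1 (.leaf 0x9c) (.leaf 0x9d)) (.node 1 (.leaf 0x9e) (.leaf 0x9f)))) (.node 4 (.node 2 (.node 1 (.leaf 0xa4) (.leaf 0xa5)) (.node 1 (.leaf 0xa6) (.leaf 0xa7))) (.node 2 (.node 1 (.leaf 0xa8) (.leaf 0xa9)) (.node 1 (.leaf 0xaa) (.leaf 0xab)))))) (.node 16 (.node 8 (.node 4 (.node 2 (.node 1 (.leaf 0xac) (.leaf 0xad)) (.node 1 (.leaf 0xae)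 (.leaf 0xaf))) (.node 2 (.node 1 (.leaf 0xb8) (.leaf 0xb9)) (.node 1 (.leaf 0xba) (.leaf 0xbb)))) (.node 4 (.node 2 (.node 1 (.leaf 0xbc) (.leaf 0xbd)) (.node 1 (.leaf 0xbe) (.leaf 0xbf))) (.node 2 (.node 1 (.leaf 0xc0) (.leaf 0xc1)) (.node 1 (.leaf 0xc2) (.leaf 0xc3))))) (.node 8 (.node 4 (.node 2 (.node 1 (.leaf 0xc4) (.leaf 0xc5)) (.node 1 (.leaf 0xc6) (.leaf 0xc7))) (.node 2 (.node 1 (.leaf 0x100) (.leaf 0x101)) (.node 1 (.leaf 0x102) (.leaf 0x103)))) (.node 4 (.node 2 (.node 1 (.leaf 0x10c) (.leaf 0x10d)) (.node 1 (.leaf 0x10e) (.leaf 0x10f))) (.node 2 (.node 1 (.leaf 0xd0) (.leaf 0xd1)) (.node 1 (.leaf 0xd2) (.leaf 0xd3)))))))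

def mulP_10 : Tree :=
  .node 64 (.node 32 (.node 16 (.node 8 (.node 4 (.node 2 (.node 1 (.leaf 0xf4) (.leaf 0xf5)) (.node 1 (.leaf 0xf6) (.leaf 0xf7))) (.node 2 (.node 1 (.leaf 0x120) (.leaf 0x121)) (.node 1 (.leaf 0x122) (.leaf 0x123)))) (.node 4 (.node 2 (.node 1 (.leaf 0x128) (.leaf 0x129)) (.node 1 (.leaf 0x12a) (.leaf 0x12b))) (.node 2 (.node 1 (.leaf 0xf8) (.leaf 0xf9)) (.node 1 (.leaf 0xfa) (.leaf 0xfb))))) (.node 8 (.node 4 (.node 2 (.node 1 (.leaf 0x130) (.leaf 0x131)) (.node 1 (.leaf 0x132) (.leaf 0x133))) (.node 2 (.node 1 (.leaf 0x140) (.leaf 0x141)) (.node 1 (.leaf 0x142) (.leaf 0x143)))) (.node 4 (.node 2 (.node 1 (.leaf 0x160) (.leaf 0x161)) (.node 1 (.leaf 0x162) (.leaf 0x163))) (.node 2 (.node 1 (.leaf 0x164) (.leaf 0x165)) (.node 1 (.leaf 0x166) (.leaf 0x167)))))) (.node 16 (.node 8 (.node 4 (.node 2 (.node 1 (.leaf 0x104) (.leaf 0x105)) (.node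 1 (.leaf 0x106) (.leaf 0x107))) (.node 2 (.node 1 (.leaf 0x168) (.leaf 0x169)) (.node 1 (.leaf 0x16a) (.leaf 0x16b)))) (.node 4 (.node 2 (.node 1 (.leaf 0x108) (.leaf 0x109)) (.node 1 (.leaf 0x10a) (.leaf 0x10b))) (.node 2 (.node 1 (.leaf 0x16c) (.leaf 0x16d)) (.node 1 (.leaf 0x16e) (.leaf 0x16f))))) (.node 8 (.node 4 (.node 2 (.node 1 (.leaf 0x110) (.leaf 0x111)) (.node 1 (.leaf 0x112) (.leaf 0x113))) (.node 2 (.node 1 (.leaf 0x174) (.leaf 0x175)) (.node 1 (.leaf 0x176) (.leaf 0x177)))) (.node 4 (.node 2 (.node 1 (.leaf 0x17c) (.leaf 0x17d)) (.node 1 (.leaf 0x17e) (.leaf 0x17f))) (.node 2 (.node 1 (.leaf 0x180) (.leaf 0x181)) (.node 1 (.leaf 0x182) (.leaf 0x183))))))) (.node 32 (.node 16 (.node 8 (.node 4 (.node 2 (.node 1 (.leaf 0x114) (.leaf 0x115)) (.node 1 (.leaf 0x116) (.leaf 0x117))) (.node 2 (.node 1 (.leaf 0x18c) (.leaf 0x18d)) (.node 1 (.leaf 0x18e) (.leaf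 0x18f)))) (.node 4 (.node 2 (.node 1 (.leaf 0x190) (.leaf 0x191)) (.node 1 (.leaf 0x192) (.leaf 0x193))) (.node 2 (.node 1 (.leaf 0x194) (.leaf 0x195)) (.node 1 (.leaf 0x196) (.leaf 0x197))))) (.node 8 (.node 4 (.node 2 (.node 1 (.leaf 0x154) (.leaf 0x155)) (.node 1 (.leaf 0x156) (.leaf 0x157))) (.node 2 (.node 1 (.leaf 0x150) (.leaf 0x151)) (.node 1 (.leaf 0x152) (.leaf 0x153)))) (.node 4 (.node 2 (.node 1 (.leaf 0x1a4) (.leaf 0x1a5)) (.node 1 (.leaf 0x1a6) (.leaf 0x1a7))) (.node 2 (.node 1 (.leaf 0x1b4) (.leaf 0x1b5)) (.node 1 (.leaf 0x1b6) (.leaf 0x1b7)))))) (.node 16 (.node 8 (.node 4 (.node 2 (.node 1 (.leaf 0x118) (.leaf 0x119)) (.node 1 (.leaf 0x11a) (.leaf 0x11b))) (.node 2 (.node 1 (.leaf 0x11c) (.leaf 0x11d)) (.node 1 (.leaf 0x11e) (.leaf 0x11f)))) (.node 4 (.node 2 (.node 1 (.leaf 0x124) (.leaf 0x125)) (.node 1 (.leaf 0x126) (.leaf 0x127))) (.node 2 (.node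 1 (.leaf 0x12c) (.leaf 0x12d)) (.node 1 (.leaf 0x12e) (.leaf 0x12f))))) (.node 8 (.node 4 (.node 2 (.node 1 (.leaf 0x1b8) (.leaf 0x1b9)) (.node 1 (.leaf 0x1ba) (.leaf 0x1bb))) (.node 2 (.node 1 (.leaf 0x134) (.leaf 0x135)) (.node 1 (.leaf 0x136) (.leaf 0x137)))) (.node 4 (.node 2 (.node 1 (.leaf 0x1bc) (.leaf 0x1bd)) (.node 1 (.leaf 0x1be) (.leaf 0x1bf))) (.node 2 (.node 1 (.leaf 0x138) (.leaf 0x139)) (.node 1 (.leaf 0x13a) (.leaf 0x13b)))))))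

def mulP_11 : Tree :=
  .node 64 (.node 32 (.node 16 (.node 8 (.node 4 (.node 2 (.node 1 (.leaf 0x13c) (.leaf 0x13d)) (.node 1 (.leaf 0x13e) (.leaf 0x13f))) (.node 2 (.node 1 (.leaf 0x1c0) (.leaf 0x1c1)) (.node 1 (.leaf 0x1c2) (.leaf 0x1c3)))) (.node 4 (.node 2 (.node 1 (.leaf 0x1c4) (.leaf 0x1c5)) (.node 1 (.leaf 0x1c6) (.leaf 0x1c7))) (.node 2 (.node 1 (.leaf 0x144) (.leaf 0x145)) (.node 1 (.leaf 0x146) (.leaf 0x147))))) (.node 8 (.node 4 (.node 2 (.node 1 (.leaf 0x148) (.leaf 0x149)) (.node 1 (.leaf 0x14a) (.leaf 0x14b))) (.node 2 (.node 1 (.leaf 0x14c) (.leaf 0x14d)) (.node 1 (.leaf 0x14e) (.leaf 0x14f)))) (.node 4 (.node 2 (.node 1 (.leaf 0x1d4) (.leaf 0x1d5)) (.node 1 (.leaf 0x1d6) (.leaf 0x1d7))) (.node 2 (.node 1 (.leaf 0x1d8) (.leaf 0x1d9)) (.node 1 (.leaf 0x1da) (.leaf 0x1db)))))) (.node 16 (.node 8 (.node 4 (.node 2 (.node 1 (.leaf 0x1ac) (.leaf 0x1ad))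 (.node 1 (.leaf 0x1ae) (.leaf 0x1af))) (.node 2 (.node 1 (.leaf 0x158) (.leaf 0x159)) (.node 1 (.leaf 0x15a) (.leaf 0x15b)))) (.node 4 (.node 2 (.node 1 (.leaf 0x1c8) (.leaf 0x1c9)) (.node 1 (.leaf 0x1ca) (.leaf 0x1cb))) (.node 2 (.node 1 (.leaf 0x1a0) (.leaf 0x1a1)) (.node 1 (.leaf 0x1a2) (.leaf 0x1a3))))) (.node 8 (.node 4 (.node 2 (.node 1 (.leaf 0x1e0) (.leaf 0x1e1)) (.node 1 (.leaf 0x1e2) (.leaf 0x1e3))) (.node 2 (.node 1 (.leaf 0x15c) (.leaf 0x15d)) (.node 1 (.leaf 0x15e) (.leaf 0x15f)))) (.node 4 (.node 2 (.node 1 (.leaf 0x170) (.leaf 0x171)) (.node 1 (.leaf 0x172) (.leaf 0x173))) (.node 2 (.node 1 (.leaf 0x178) (.leaf 0x179)) (.node 1 (.leaf 0x17a) (.leaf 0x17b))))))) (.node 32 (.node 16 (.node 8 (.node 4 (.node 2 (.node 1 (.leaf 0x184) (.leaf 0x185)) (.node 1 (.leaf 0x186) (.leaf 0x187))) (.node 2 (.node 1 (.leaf 0x188) (.leaf 0x189)) (.node 1 (.leaf 0x18a)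 (.leaf 0x18b)))) (.node 4 (.node 2 (.node 1 (.leaf 0x1a8) (.leaf 0x1a9)) (.node 1 (.leaf 0x1aa) (.leaf 0x1ab))) (.node 2 (.node 1 (.leaf 0x1ec) (.leaf 0x1ed)) (.node 1 (.leaf 0x1ee) (.leaf 0x1ef))))) (.node 8 (.node 4 (.node 2 (.node 1 (.leaf 0x1e4) (.leaf 0x1e5)) (.node 1 (.leaf 0x1e6) (.leaf 0x1e7))) (.node 2 (.node 1 (.leaf 0x198) (.leaf 0x199)) (.node 1 (.leaf 0x19a) (.leaf 0x19b)))) (.node 4 (.node 2 (.node 1 (.leaf 0x19c) (.leaf 0x19d)) (.node 1 (.leaf 0x19e) (.leaf 0x19f))) (.node 2 (.node 1 (.leaf 0x1f8) (.leaf 0x1f9)) (.node 1 (.leaf 0x1fa) (.leaf 0x1fb)))))) (.node 16 (.node 8 (.node 4 (.node 2 (.node 1 (.leaf 0x1b0) (.leaf 0x1b1)) (.node 1 (.leaf 0x1b2) (.leaf 0x1b3))) (.node 2 (.node 1 (.leaf 0x1d0) (.leaf 0x1d1)) (.node 1 (.leaf 0x1d2) (.leaf 0x1d3)))) (.node 4 (.node 2 (.node 1 (.leaf 0x1f0) (.leaf 0x1f1)) (.node 1 (.leaf 0x1f2) (.leaf 0x1f3))) (.node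 2 (.node 1 (.leaf 0x1cc) (.leaf 0x1cd)) (.node 1 (.leaf 0x1ce) (.leaf 0x1cf))))) (.node 8 (.node 4 (.node 2 (.node 1 (.leaf 0x1e8) (.leaf 0x1e9)) (.node 1 (.leaf 0x1ea) (.leaf 0x1eb))) (.node 2 (.node 1 (.leaf 0x1fc) (.leaf 0x1fd)) (.node 1 (.leaf 0x1fe) (.leaf 0x1ff)))) (.node 4 (.node 2 (.node 1 (.leaf 0x1dc) (.leaf 0x1dd)) (.node 1 (.leaf 0x1de) (.leaf 0x1df))) (.node 2 (.node 1 (.leaf 0x1f4) (.leaf 0x1f5)) (.node 1 (.leaf 0x1f6) (.leaf 0x1f7)))))))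

def mulP_12 : Tree :=
  .node 64 (.node 32 (.node 16 (.node 8 (.node 4 (.node 2 (.node 1 (.leaf 0x29) (.leaf 0x10)) (.node 1 (.leaf 0x11) (.leaf 0x12))) (.node 2 (.node 1 (.leaf 0x13) (.leaf 0x14)) (.node 1 (.leaf 0x15) (.leaf 0x16)))) (.node 4 (.node 2 (.node 1 (.leaf 0x17) (.leaf 0x24)) (.node 1 (.leaf 0x25) (.leaf 0x26))) (.node 2 (.node 1 (.leaf 0x27) (.leaf 0x28)) (.node 1 (.leaf 0x2a) (.leaf 0x2b))))) (.node 8 (.node 4 (.node 2 (.node 1 (.leaf 0x1) (.leaf 0x2)) (.node 1 (.leaf 0x3) (.leaf 0x4))) (.node 2 (.node 1 (.leaf 0x5) (.leaf 0x6)) (.node 1 (.leaf 0x7) (.leaf 0x8)))) (.node 4 (.node 2 (.node 1 (.leaf 0x2c) (.leaf 0x2d)) (.node 1 (.leaf 0x2e) (.leaf 0x2f))) (.node 2 (.node 1 (.leaf 0x30) (.leaf 0x31)) (.node 1 (.leaf 0x32) (.leaf 0x33)))))) (.node 16 (.node 8 (.node 4 (.node 2 (.node 1 (.leaf 0x38) (.leaf 0x39)) (.node 1 (.leaf 0x3a) (.leaf 0x3b))) (.node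 2 (.node 1 (.leaf 0x9) (.leaf 0xa)) (.node 1 (.leaf 0xb) (.leaf 0xc)))) (.node 4 (.node 2 (.node 1 (.leaf 0xd) (.leaf 0x0)) (.node 1 (.leaf 0xe) (.leaf 0xf))) (.node 2 (.node 1 (.leaf 0x18) (.leaf 0x19)) (.node 1 (.leaf 0x1a) (.leaf 0x1b))))) (.node 8 (.node 4 (.node 2 (.node 1 (.leaf 0x1c) (.leaf 0x1d)) (.node 1 (.leaf 0x1e) (.leaf 0x1f))) (.node 2 (.node 1 (.leaf 0x40) (.leaf 0x41)) (.node 1 (.leaf 0x42) (.leaf 0x43)))) (.node 4 (.node 2 (.node 1 (.leaf 0x20) (.leaf 0x21)) (.node 1 (.leaf 0x22) (.leaf 0x23))) (.node 2 (.node 1 (.leaf 0x50) (.leaf 0x51)) (.node 1 (.leaf 0x52) (.leaf 0x53))))))) (.node 32 (.node 16 (.node 8 (.node 4 (.node 2 (.node 1 (.leaf 0x34) (.leaf 0x35)) (.node 1 (.leaf 0x36) (.leaf 0x37))) (.node 2 (.node 1 (.leaf 0x5c) (.leaf 0x5d)) (.node 1 (.leaf 0x5e) (.leaf 0x5f)))) (.node 4 (.node 2 (.node 1 (.leaf 0x68) (.leaf 0x69)) (.node 1 (.leaf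 0x6a) (.leaf 0x6b))) (.node 2 (.node 1 (.leaf 0x6c) (.leaf 0x6d)) (.node 1 (.leaf 0x6e) (.leaf 0x6f))))) (.node 8 (.node 4 (.node 2 (.node 1 (.leaf 0x3c) (.leaf 0x3d)) (.node 1 (.leaf 0x3e) (.leaf 0x3f))) (.node 2 (.node 1 (.leaf 0x70) (.leaf 0x71)) (.node 1 (.leaf 0x72) (.leaf 0x73)))) (.node 4 (.node 2 (.node 1 (.leaf 0x78) (.leaf 0x79)) (.node 1 (.leaf 0x7a) (.leaf 0x7b))) (.node 2 (.node 1 (.leaf 0x44) (.leaf 0x45)) (.node 1 (.leaf 0x46) (.leaf 0x47)))))) (.node 16 (.node 8 (.node 4 (.node 2 (.node 1 (.leaf 0x61) (.leaf 0x60)) (.node 1 (.leaf 0x63) (.leaf 0x62))) (.node 2 (.node 1 (.leaf 0x94) (.leaf 0x95)) (.node 1 (.leaf 0x96) (.leaf 0x97)))) (.node 4 (.node 2 (.node 1 (.leaf 0x48) (.leaf 0x49)) (.node 1 (.leaf 0x4a) (.leaf 0x4b))) (.node 2 (.node 1 (.leaf 0x4c) (.leaf 0x4d)) (.node 1 (.leaf 0x4e) (.leaf 0x4f))))) (.node 8 (.node 4 (.node 2 (.node 1 (.leaf 0x54)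 (.leaf 0x55)) (.node 1 (.leaf 0x56) (.leaf 0x57))) (.node 2 (.node 1 (.leaf 0x98) (.leaf 0x99)) (.node 1 (.leaf 0x9a) (.leaf 0x9b)))) (.node 4 (.node 2 (.node 1 (.leaf 0x58) (.leaf 0x59)) (.node 1 (.leaf 0x5a) (.leaf 0x5b))) (.node 2 (.node 1 (.leaf 0x9f) (.leaf 0x9e)) (.node 1 (.leaf 0x9d) (.leaf 0x9c)))))))

def mulP_13 : Tree :=
  .node 64 (.node 32 (.node 16 (.node 8 (.node 4 (.node 2 (.node 1 (.leaf 0xbd) (.leaf 0xbc)) (.node 1 (.leaf 0xbf) (.leaf 0xbe))) (.node 2 (.node 1 (.leaf 0x85) (.leaf 0x84)) (.node 1 (.leaf 0x87) (.leaf 0x86)))) (.node 4 (.node 2 (.node 1 (.leaf 0x89) (.leaf 0x88)) (.node 1 (.leaf 0x8b) (.leaf 0x8a))) (.node 2 (.node 1 (.leaf 0x8d) (.leaf 0x8c)) (.node 1 (.leaf 0x8f) (.leaf 0x8e))))) (.node 8 (.node 4 (.node 2 (.node 1 (.leaf 0xc7) (.leaf 0xc6)) (.node 1 (.leaf 0xc5) (.leaf 0xc4))) (.node 2 (.node 1 (.leaf 0x64) (.leaf 0x65)) (.node 1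 (.leaf 0x66) (.leaf 0x67)))) (.node 4 (.node 2 (.node 1 (.leaf 0x74) (.leaf 0x75)) (.node 1 (.leaf 0x76) (.leaf 0x77))) (.node 2 (.node 1 (.leaf 0x7f) (.leaf 0x7e)) (.node 1 (.leaf 0x7d) (.leaf 0x7c)))))) (.node 16 (.node 8 (.node 4 (.node 2 (.node 1 (.leaf 0xd7) (.leaf 0xd6)) (.node 1 (.leaf 0xd5) (.leaf 0xd4))) (.node 2 (.node 1 (.leaf 0xab) (.leaf 0xaa)) (.node 1 (.leaf 0xa9) (.leaf 0xa8)))) (.node 4 (.node 2 (.node 1 (.leaf 0xa7) (.leaf 0xa6)) (.node 1 (.leaf 0xa5) (.leaf 0xa4))) (.node 2 (.node 1 (.leaf 0xb9) (.leaf 0xb8)) (.node 1 (.leaf 0xbb) (.leaf 0xba))))) (.node 8 (.node 4 (.node 2 (.node 1 (.leaf 0xe9) (.leaf 0xe8)) (.node 1 (.leaf 0xeb) (.leaf 0xea))) (.node 2 (.node 1 (.leaf 0xb5) (.leaf 0xb4)) (.node 1 (.leaf 0xb7) (.leaf 0xb6)))) (.node 4 (.node 2 (.node 1 (.leaf 0xad) (.leaf 0xac)) (.node 1 (.leaf 0xaf) (.leaf 0xae))) (.node 2 (.node 1 (.leaf 0x81)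 (.leaf 0x80)) (.node 1 (.leaf 0x83) (.leaf 0x82))))))) (.node 32 (.node 16 (.node 8 (.node 4 (.node 2 (.node 1 (.leaf 0xc1) (.leaf 0xc0)) (.node 1 (.leaf 0xc3) (.leaf 0xc2))) (.node 2 (.node 1 (.leaf 0x93) (.leaf 0x92)) (.node 1 (.leaf 0x91) (.leaf 0x90)))) (.node 4 (.node 2 (.node 1 (.leaf 0xc9) (.leaf 0xc8)) (.node 1 (.leaf 0xcb) (.leaf 0xca))) (.node 2 (.node 1 (.leaf 0xf3) (.leaf 0xf2)) (.node 1 (.leaf 0xf1) (.leaf 0xf0))))) (.node 8 (.node 4 (.node 2 (.node 1 (.leaf 0xf7) (.leaf 0xf6)) (.node 1 (.leaf 0xf5) (.leaf 0xf4))) (.node 2 (.node 1 (.leaf 0xa3) (.leaf 0xa2)) (.node 1 (.leaf 0xa1) (.leaf 0xa0)))) (.node 4 (.node 2 (.node 1 (.leaf 0xdf) (.leaf 0xde)) (.node 1 (.leaf 0xdd) (.leaf 0xdc))) (.node 2 (.node 1 (.leaf 0xdb) (.leaf 0xda)) (.node 1 (.leaf 0xd9) (.leaf 0xd8)))))) (.node 16 (.node 8 (.node 4 (.node 2 (.node 1 (.leaf 0xe5) (.leaf 0xe4)) (.node 1 (.leaf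 0xe7) (.leaf 0xe6))) (.node 2 (.node 1 (.leaf 0xe1) (.leaf 0xe0)) (.node 1 (.leaf 0xe3) (.leaf 0xe2)))) (.node 4 (.node 2 (.node 1 (.leaf 0xb1) (.leaf 0xb0)) (.node 1 (.leaf 0xb3) (.leaf 0xb2))) (.node 2 (.node 1 (.leaf 0xed) (.leaf 0xec)) (.node 1 (.leaf 0xef) (.leaf 0xee))))) (.node 8 (.node 4 (.node 2 (.node 1 (.leaf 0xcf) (.leaf 0xce)) (.node 1 (.leaf 0xcd) (.leaf 0xcc))) (.node 2 (.node 1 (.leaf 0xd3) (.leaf 0xd2)) (.node 1 (.leaf 0xd1) (.leaf 0xd0)))) (.node 4 (.node 2 (.node 1 (.leaf 0x110) (.leaf 0x111)) (.node 1 (.leaf 0x112) (.leaf 0x113))) (.node 2 (.node 1 (.leaf 0x103) (.leaf 0x102)) (.node 1 (.leaf 0x101) (.leaf 0x100)))))))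

def mulP_14 : Tree :=
  .node 64 (.node 32 (.node 16 (.node 8 (.node 4 (.node 2 (.node 1 (.leaf 0xff) (.leaf 0xfe)) (.node 1 (.leaf 0xfd) (.leaf 0xfc))) (.node 2 (.node 1 (.leaf 0x124) (.leaf 0x125)) (.node 1 (.leaf 0x126) (.leaf 0x127)))) (.node 4 (.node 2 (.node 1 (.leaf 0x12c) (.leaf 0x12d)) (.node 1 (.leaf 0x12e) (.leaf 0x12f))) (.node 2 (.node 1 (.leaf 0x130) (.leaf 0x131)) (.node 1 (.leaf 0x132) (.leaf 0x133))))) (.node 8 (.node 4 (.node 2 (.node 1 (.leaf 0xf8) (.leaf 0xf9)) (.node 1 (.leaf 0xfa) (.leaf 0xfb))) (.node 2 (.node 1 (.leaf 0x14d) (.leaf 0x14c)) (.node 1 (.leaf 0x14f) (.leaf 0x14e)))) (.node 4 (.node 2 (.node 1 (.leaf 0x138) (.leaf 0x139)) (.node 1 (.leaf 0x13a) (.leaf 0x13b))) (.node 2 (.node 1 (.leaf 0x134) (.leaf 0x135)) (.node 1 (.leaf 0x136) (.leaf 0x137)))))) (.node 16 (.node 8 (.node 4 (.node 2 (.node 1 (.leaf 0x168) (.leaf 0x169)) (.node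 1 (.leaf 0x16a) (.leaf 0x16b))) (.node 2 (.node 1 (.leaf 0x104) (.leaf 0x105)) (.node 1 (.leaf 0x106) (.leaf 0x107)))) (.node 4 (.node 2 (.node 1 (.leaf 0x16c) (.leaf 0x16d)) (.node 1 (.leaf 0x16e) (.leaf 0x16f))) (.node 2 (.node 1 (.leaf 0x108) (.leaf 0x109)) (.node 1 (.leaf 0x10a) (.leaf 0x10b))))) (.node 8 (.node 4 (.node 2 (.node 1 (.leaf 0x10c) (.leaf 0x10d)) (.node 1 (.leaf 0x10e) (.leaf 0x10f))) (.node 2 (.node 1 (.leaf 0x11c) (.leaf 0x11d)) (.node 1 (.leaf 0x11e) (.leaf 0x11f)))) (.node 4 (.node 2 (.node 1 (.leaf 0x118) (.leaf 0x119)) (.node 1 (.leaf 0x11a) (.leaf 0x11b))) (.node 2 (.node 1 (.leaf 0x173) (.leaf 0x172)) (.node 1 (.leaf 0x171) (.leaf 0x170))))))) (.node 32 (.node 16 (.node 8 (.node 4 (.node 2 (.node 1 (.leaf 0x195) (.leaf 0x194)) (.node 1 (.leaf 0x197) (.leaf 0x196))) (.node 2 (.node 1 (.leaf 0x187) (.leaf 0x186)) (.node 1 (.leaf 0x185) (.leaf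 0x184)))) (.node 4 (.node 2 (.node 1 (.leaf 0x19d) (.leaf 0x19c)) (.node 1 (.leaf 0x19f) (.leaf 0x19e))) (.node 2 (.node 1 (.leaf 0x115) (.leaf 0x114)) (.node 1 (.leaf 0x117) (.leaf 0x116))))) (.node 8 (.node 4 (.node 2 (.node 1 (.leaf 0x1a4) (.leaf 0x1a5)) (.node 1 (.leaf 0x1a6) (.leaf 0x1a7))) (.node 2 (.node 1 (.leaf 0x158) (.leaf 0x159)) (.node 1 (.leaf 0x15a) (.leaf 0x15b)))) (.node 4 (.node 2 (.node 1 (.leaf 0x154) (.leaf 0x155)) (.node 1 (.leaf 0x156) (.leaf 0x157))) (.node 2 (.node 1 (.leaf 0x178) (.leaf 0x179)) (.node 1 (.leaf 0x17a) (.leaf 0x17b)))))) (.node 16 (.node 8 (.node 4 (.node 2 (.node 1 (.leaf 0x17c) (.leaf 0x17d)) (.node 1 (.leaf 0x17e) (.leaf 0x17f))) (.node 2 (.node 1 (.leaf 0x174) (.leaf 0x175)) (.node 1 (.leaf 0x176) (.leaf 0x177)))) (.node 4 (.node 2 (.node 1 (.leaf 0x120) (.leaf 0x121)) (.node 1 (.leaf 0x122) (.leaf 0x123))) (.node 2 (.node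 1 (.leaf 0x128) (.leaf 0x129)) (.node 1 (.leaf 0x12a) (.leaf 0x12b))))) (.node 8 (.node 4 (.node 2 (.node 1 (.leaf 0x13f) (.leaf 0x13e)) (.node 1 (.leaf 0x13d) (.leaf 0x13c))) (.node 2 (.node 1 (.leaf 0x164) (.leaf 0x165)) (.node 1 (.leaf 0x166) (.leaf 0x167)))) (.node 4 (.node 2 (.node 1 (.leaf 0x15c) (.leaf 0x15d)) (.node 1 (.leaf 0x15e) (.leaf 0x15f))) (.node 2 (.node 1 (.leaf 0x160) (.leaf 0x161)) (.node 1 (.leaf 0x162) (.leaf 0x163)))))))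

def mulP_15 : Tree :=
  .node 64 (.node 32 (.node 16 (.node 8 (.node 4 (.node 2 (.node 1 (.leaf 0x1bb) (.leaf 0x1ba)) (.node 1 (.leaf 0x1b9) (.leaf 0x1b8))) (.node 2 (.node 1 (.leaf 0x147) (.leaf 0x146)) (.node 1 (.leaf 0x145) (.leaf 0x144)))) (.node 4 (.node 2 (.node 1 (.leaf 0x189) (.leaf 0x188)) (.node 1 (.leaf 0x18b) (.leaf 0x18a))) (.node 2 (.node 1 (.leaf 0x1c3) (.leaf 0x1c2)) (.node 1 (.leaf 0x1c1) (.leaf 0x1c0))))) (.node 8 (.node 4 (.node 2 (.node 1 (.leaf 0x1d9) (.leaf 0x1d8)) (.node 1 (.leaf 0x1db) (.leaf 0x1da))) (.node 2 (.node 1 (.leaf 0x141) (.leaf 0x140)) (.node 1 (.leaf 0x143) (.leaf 0x142)))) (.node 4 (.node 2 (.node 1 (.leaf 0x1d3) (.leaf 0x1d2)) (.node 1 (.leaf 0x1d1) (.leaf 0x1d0))) (.node 2 (.node 1 (.leaf 0x149) (.leaf 0x148)) (.node 1 (.leaf 0x14b) (.leaf 0x14a)))))) (.node 16 (.node 8 (.node 4 (.node 2 (.node 1 (.leaf 0x1e0) (.leaf 0x1e1))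 (.node 1 (.leaf 0x1e2) (.leaf 0x1e3))) (.node 2 (.node 1 (.leaf 0x150) (.leaf 0x151)) (.node 1 (.leaf 0x152) (.leaf 0x153)))) (.node 4 (.node 2 (.node 1 (.leaf 0x1a9) (.leaf 0x1a8)) (.node 1 (.leaf 0x1ab) (.leaf 0x1aa))) (.node 2 (.node 1 (.leaf 0x1b0) (.leaf 0x1b1)) (.node 1 (.leaf 0x1b2) (.leaf 0x1b3))))) (.node 8 (.node 4 (.node 2 (.node 1 (.leaf 0x1ac) (.leaf 0x1ad)) (.node 1 (.leaf 0x1ae) (.leaf 0x1af))) (.node 2 (.node 1 (.leaf 0x1bc) (.leaf 0x1bd)) (.node 1 (.leaf 0x1be) (.leaf 0x1bf)))) (.node 4 (.node 2 (.node 1 (.leaf 0x183) (.leaf 0x182)) (.node 1 (.leaf 0x181) (.leaf 0x180))) (.node 2 (.node 1 (.leaf 0x1b4) (.leaf 0x1b5)) (.node 1 (.leaf 0x1b6) (.leaf 0x1b7))))))) (.node 32 (.node 16 (.node 8 (.node 4 (.node 2 (.node 1 (.leaf 0x18f) (.leaf 0x18e)) (.node 1 (.leaf 0x18d) (.leaf 0x18c))) (.node 2 (.node 1 (.leaf 0x1c5) (.leaf 0x1c4)) (.node 1 (.leaf 0x1c7)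 (.leaf 0x1c6)))) (.node 4 (.node 2 (.node 1 (.leaf 0x1c9) (.leaf 0x1c8)) (.node 1 (.leaf 0x1cb) (.leaf 0x1ca))) (.node 2 (.node 1 (.leaf 0x1cd) (.leaf 0x1cc)) (.node 1 (.leaf 0x1cf) (.leaf 0x1ce))))) (.node 8 (.node 4 (.node 2 (.node 1 (.leaf 0x19b) (.leaf 0x19a)) (.node 1 (.leaf 0x199) (.leaf 0x198))) (.node 2 (.node 1 (.leaf 0x1e7) (.leaf 0x1e6)) (.node 1 (.leaf 0x1e5) (.leaf 0x1e4)))) (.node 4 (.node 2 (.node 1 (.leaf 0x191) (.leaf 0x190)) (.node 1 (.leaf 0x193) (.leaf 0x192))) (.node 2 (.node 1 (.leaf 0x1f7) (.leaf 0x1f6)) (.node 1 (.leaf 0x1f5) (.leaf 0x1f4)))))) (.node 16 (.node 8 (.node 4 (.node 2 (.node 1 (.leaf 0x1a0) (.leaf 0x1a1)) (.node 1 (.leaf 0x1a2) (.leaf 0x1a3))) (.node 2 (.node 1 (.leaf 0x1d7) (.leaf 0x1d6)) (.node 1 (.leaf 0x1d5) (.leaf 0x1d4)))) (.node 4 (.node 2 (.node 1 (.leaf 0x1e9) (.leaf 0x1e8)) (.node 1 (.leaf 0x1eb) (.leaf 0x1ea))) (.node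 2 (.node 1 (.leaf 0x1ed) (.leaf 0x1ec)) (.node 1 (.leaf 0x1ef) (.leaf 0x1ee))))) (.node 8 (.node 4 (.node 2 (.node 1 (.leaf 0x1f1) (.leaf 0x1f0)) (.node 1 (.leaf 0x1f3) (.leaf 0x1f2))) (.node 2 (.node 1 (.leaf 0x1df) (.leaf 0x1de)) (.node 1 (.leaf 0x1dd) (.leaf 0x1dc)))) (.node 4 (.node 2 (.node 1 (.leaf 0x1ff) (.leaf 0x1fe)) (.node 1 (.leaf 0x1fd) (.leaf 0x1fc))) (.node 2 (.node 1 (.leaf 0x1fb) (.leaf 0x1fa)) (.node 1 (.leaf 0x1f9) (.leaf 0x1f8)))))))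

def mulP_16 : Tree :=
  .node 64 (.node 32 (.node 16 (.node 8 (.node 4 (.node 2 (.node 1 (.leaf 0xd) (.leaf 0x2)) (.node 1 (.leaf 0x1) (.leaf 0x4))) (.node 2 (.node 1 (.leaf 0x3) (.leaf 0x6)) (.node 1 (.leaf 0x5) (.leaf 0x8)))) (.node 4 (.node 2 (.node 1 (.leaf 0x7) (.leaf 0xa)) (.node 1 (.leaf 0x9) (.leaf 0xc))) (.node 2 (.node 1 (.leaf 0xb) (.leaf 0x0)) (.node 1 (.leaf 0xf) (.leaf 0xe))))) (.node 8 (.node 4 (.node 2 (.node 1 (.leaf 0x17) (.leaf 0x16)) (.node 1 (.leaf 0x15) (.leaf 0x14))) (.node 2 (.node 1 (.leaf 0x13) (.leaf 0x12)) (.node 1 (.leaf 0x11) (.leaf 0x10)))) (.node 4 (.node 2 (.node 1 (.leaf 0x19) (.leaf 0x18)) (.node 1 (.leaf 0x1b) (.leaf 0x1a))) (.node 2 (.node 1 (.leaf 0x1d) (.leaf 0x1c)) (.node 1 (.leaf 0x1f) (.leaf 0x1e)))))) (.node 16 (.node 8 (.node 4 (.node 2 (.node 1 (.leaf 0x21) (.leaf 0x20)) (.node 1 (.leaf 0x23) (.leaf 0x22))) (.node 2 (.node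 1 (.leaf 0x2f) (.leaf 0x2e)) (.node 1 (.leaf 0x2d) (.leaf 0x2c)))) (.node 4 (.node 2 (.node 1 (.leaf 0x33) (.leaf 0x32)) (.node 1 (.leaf 0x31) (.leaf 0x30))) (.node 2 (.node 1 (.leaf 0x27) (.leaf 0x26)) (.node 1 (.leaf 0x25) (.leaf 0x24))))) (.node 8 (.node 4 (.node 2 (.node 1 (.leaf 0x2b) (.leaf 0x2a)) (.node 1 (.leaf 0x29) (.leaf 0x28))) (.node 2 (.node 1 (.leaf 0x35) (.leaf 0x34)) (.node 1 (.leaf 0x37) (.leaf 0x36)))) (.node 4 (.node 2 (.node 1 (.leaf 0x43) (.leaf 0x42)) (.node 1 (.leaf 0x41) (.leaf 0x40))) (.node 2 (.node 1 (.leaf 0x49) (.leaf 0x48)) (.node 1 (.leaf 0x4b) (.leaf 0x4a))))))) (.node 32 (.node 16 (.node 8 (.node 4 (.node 2 (.node 1 (.leaf 0x3b) (.leaf 0x3a)) (.node 1 (.leaf 0x39) (.leaf 0x38))) (.node 2 (.node 1 (.leaf 0x55) (.leaf 0x54)) (.node 1 (.leaf 0x57) (.leaf 0x56)))) (.node 4 (.node 2 (.node 1 (.leaf 0x3d) (.leaf 0x3c)) (.node 1 (.leaf 0x3f)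 (.leaf 0x3e))) (.node 2 (.node 1 (.leaf 0x65) (.leaf 0x64)) (.node 1 (.leaf 0x67) (.leaf 0x66))))) (.node 8 (.node 4 (.node 2 (.node 1 (.leaf 0x73) (.leaf 0x72)) (.node 1 (.leaf 0x71) (.leaf 0x70))) (.node 2 (.node 1 (.leaf 0x45) (.leaf 0x44)) (.node 1 (.leaf 0x47) (.leaf 0x46)))) (.node 4 (.node 2 (.node 1 (.leaf 0x75) (.leaf 0x74)) (.node 1 (.leaf 0x77) (.leaf 0x76))) (.node 2 (.node 1 (.leaf 0x6b) (.leaf 0x6a)) (.node 1 (.leaf 0x69) (.leaf 0x68)))))) (.node 16 (.node 8 (.node 4 (.node 2 (.node 1 (.leaf 0x90) (.leaf 0x91)) (.node 1 (.leaf 0x92) (.leaf 0x93))) (.node 2 (.node 1 (.leaf 0x4d) (.leaf 0x4c)) (.node 1 (.leaf 0x4f) (.leaf 0x4e)))) (.node 4 (.node 2 (.node 1 (.leaf 0x5f) (.leaf 0x5e)) (.node 1 (.leaf 0x5d) (.leaf 0x5c))) (.node 2 (.node 1 (.leaf 0x9b) (.leaf 0x9a)) (.node 1 (.leaf 0x99) (.leaf 0x98))))) (.node 8 (.node 4 (.node 2 (.node 1 (.leaf 0x53) (.leaf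 0x52)) (.node 1 (.leaf 0x51) (.leaf 0x50))) (.node 2 (.node 1 (.leaf 0x59) (.leaf 0x58)) (.node 1 (.leaf 0x5b) (.leaf 0x5a)))) (.node 4 (.node 2 (.node 1 (.leaf 0x97) (.leaf 0x96)) (.node 1 (.leaf 0x95) (.leaf 0x94))) (.node 2 (.node 1 (.leaf 0xac) (.leaf 0xad)) (.node 1 (.leaf 0xae) (.leaf 0xaf)))))))

def mulP_17 : Tree :=
  .node 64 (.node 32 (.node 16 (.node 8 (.node 4 (.node 2 (.node 1 (.leaf 0x9c) (.leaf 0x9d)) (.node 1 (.leaf 0x9e) (.leaf 0x9f))) (.node 2 (.node 1 (.leaf 0xc4) (.leaf 0xc5)) (.node 1 (.leaf 0xc6) (.leaf 0xc7)))) (.node 4 (.node 2 (.node 1 (.leaf 0xcc) (.leaf 0xcd)) (.node 1 (.leaf 0xce) (.leaf 0xcf))) (.node 2 (.node 1 (.leaf 0xd0) (.leaf 0xd1)) (.node 1 (.leaf 0xd2) (.leaf 0xd3))))) (.node 8 (.node 4 (.node 2 (.node 1 (.leaf 0x60) (.leaf 0x61)) (.node 1 (.leaf 0x62) (.leaf 0x63))) (.node 2 (.node 1 (.leaf 0x7b) (.leaf 0x7a)) (.node 1 (.leaf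 0x79) (.leaf 0x78)))) (.node 4 (.node 2 (.node 1 (.leaf 0x6f) (.leaf 0x6e)) (.node 1 (.leaf 0x6d) (.leaf 0x6c))) (.node 2 (.node 1 (.leaf 0x80) (.leaf 0x81)) (.node 1 (.leaf 0x82) (.leaf 0x83)))))) (.node 16 (.node 8 (.node 4 (.node 2 (.node 1 (.leaf 0xe0) (.leaf 0xe1)) (.node 1 (.leaf 0xe2) (.leaf 0xe3))) (.node 2 (.node 1 (.leaf 0xbc) (.leaf 0xbd)) (.node 1 (.leaf 0xbe) (.leaf 0xbf)))) (.node 4 (.node 2 (.node 1 (.leaf 0xb8) (.leaf 0xb9)) (.node 1 (.leaf 0xba) (.leaf 0xbb))) (.node 2 (.node 1 (.leaf 0x7c) (.leaf 0x7d)) (.node 1 (.leaf 0x7e) (.leaf 0x7f))))) (.node 8 (.node 4 (.node 2 (.node 1 (.leaf 0xd4) (.leaf 0xd5)) (.node 1 (.leaf 0xd6) (.leaf 0xd7))) (.node 2 (.node 1 (.leaf 0xf0) (.leaf 0xf1)) (.node 1 (.leaf 0xf2) (.leaf 0xf3)))) (.node 4 (.node 2 (.node 1 (.leaf 0xa8) (.leaf 0xa9)) (.node 1 (.leaf 0xaa) (.leaf 0xab))) (.node 2 (.node 1 (.leaf 0xa4) (.leaf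 0xa5)) (.node 1 (.leaf 0xa6) (.leaf 0xa7))))))) (.node 32 (.node 16 (.node 8 (.node 4 (.node 2 (.node 1 (.leaf 0xf4) (.leaf 0xf5)) (.node 1 (.leaf 0xf6) (.leaf 0xf7))) (.node 2 (.node 1 (.leaf 0x84) (.leaf 0x85)) (.node 1 (.leaf 0x86) (.leaf 0x87)))) (.node 4 (.node 2 (.node 1 (.leaf 0xfc) (.leaf 0xfd)) (.node 1 (.leaf 0xfe) (.leaf 0xff))) (.node 2 (.node 1 (.leaf 0x88) (.leaf 0x89)) (.node 1 (.leaf 0x8a) (.leaf 0x8b))))) (.node 8 (.node 4 (.node 2 (.node 1 (.leaf 0x8c) (.leaf 0x8d)) (.node 1 (.leaf 0x8e) (.leaf 0x8f))) (.node 2 (.node 1 (.leaf 0xb0) (.leaf 0xb1)) (.node 1 (.leaf 0xb2) (.leaf 0xb3)))) (.node 4 (.node 2 (.node 1 (.leaf 0xe8) (.leaf 0xe9)) (.node 1 (.leaf 0xea) (.leaf 0xeb))) (.node 2 (.node 1 (.leaf 0xe4) (.leaf 0xe5)) (.node 1 (.leaf 0xe6) (.leaf 0xe7)))))) (.node 16 (.node 8 (.node 4 (.node 2 (.node 1 (.leaf 0xa0) (.leaf 0xa1)) (.node 1 (.leaf 0xa2)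 (.leaf 0xa3))) (.node 2 (.node 1 (.leaf 0xdc) (.leaf 0xdd)) (.node 1 (.leaf 0xde) (.leaf 0xdf)))) (.node 4 (.node 2 (.node 1 (.leaf 0xd8) (.leaf 0xd9)) (.node 1 (.leaf 0xda) (.leaf 0xdb))) (.node 2 (.node 1 (.leaf 0x100) (.leaf 0x101)) (.node 1 (.leaf 0x102) (.leaf 0x103))))) (.node 8 (.node 4 (.node 2 (.node 1 (.leaf 0xb4) (.leaf 0xb5)) (.node 1 (.leaf 0xb6) (.leaf 0xb7))) (.node 2 (.node 1 (.leaf 0xc0) (.leaf 0xc1)) (.node 1 (.leaf 0xc2) (.leaf 0xc3)))) (.node 4 (.node 2 (.node 1 (.leaf 0x109) (.leaf 0x108)) (.node 1 (.leaf 0x10b) (.leaf 0x10a))) (.node 2 (.node 1 (.leaf 0xc8) (.leaf 0xc9)) (.node 1 (.leaf 0xca) (.leaf 0xcb)))))))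

def mulP_18 : Tree :=
  .node 64 (.node 32 (.node 16 (.node 8 (.node 4 (.node 2 (.node 1 (.leaf 0xec) (.leaf 0xed)) (.node 1 (.leaf 0xee) (.leaf 0xef))) (.node 2 (.node 1 (.leaf 0x11d) (.leaf 0x11c)) (.node 1 (.leaf 0x11f) (.leaf 0x11e)))) (.node 4 (.node 2 (.node 1 (.leaf 0xf9) (.leaf 0xf8)) (.node 1 (.leaf 0xfb) (.leaf 0xfa))) (.node 2 (.node 1 (.leaf 0x129) (.leaf 0x128)) (.node 1 (.leaf 0x12b) (.leaf 0x12a))))) (.node 8 (.node 4 (.node 2 (.node 1 (.leaf 0x137) (.leaf 0x136)) (.node 1 (.leaf 0x135) (.leaf 0x134))) (.node 2 (.node 1 (.leaf 0x144) (.leaf 0x145)) (.node 1 (.leaf 0x146) (.leaf 0x147)))) (.node 4 (.node 2 (.node 1 (.leaf 0x15b) (.leaf 0x15a)) (.node 1 (.leaf 0x159) (.leaf 0x158))) (.node 2 (.node 1 (.leaf 0x105) (.leaf 0x104)) (.node 1 (.leaf 0x107) (.leaf 0x106)))))) (.node 16 (.node 8 (.node 4 (.node 2 (.node 1 (.leaf 0x165) (.leaf 0x164)) (.node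 1 (.leaf 0x167) (.leaf 0x166))) (.node 2 (.node 1 (.leaf 0x12f) (.leaf 0x12e)) (.node 1 (.leaf 0x12d) (.leaf 0x12c)))) (.node 4 (.node 2 (.node 1 (.leaf 0x10d) (.leaf 0x10c)) (.node 1 (.leaf 0x10f) (.leaf 0x10e))) (.node 2 (.node 1 (.leaf 0x127) (.leaf 0x126)) (.node 1 (.leaf 0x125) (.leaf 0x124))))) (.node 8 (.node 4 (.node 2 (.node 1 (.leaf 0x177) (.leaf 0x176)) (.node 1 (.leaf 0x175) (.leaf 0x174))) (.node 2 (.node 1 (.leaf 0x113) (.leaf 0x112)) (.node 1 (.leaf 0x111) (.leaf 0x110)))) (.node 4 (.node 2 (.node 1 (.leaf 0x139) (.leaf 0x138)) (.node 1 (.leaf 0x13b) (.leaf 0x13a))) (.node 2 (.node 1 (.leaf 0x148) (.leaf 0x149)) (.node 1 (.leaf 0x14a) (.leaf 0x14b))))))) (.node 32 (.node 16 (.node 8 (.node 4 (.node 2 (.node 1 (.leaf 0x18c) (.leaf 0x18d)) (.node 1 (.leaf 0x18e) (.leaf 0x18f))) (.node 2 (.node 1 (.leaf 0x114) (.leaf 0x115)) (.node 1 (.leaf 0x116) (.leaf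 0x117)))) (.node 4 (.node 2 (.node 1 (.leaf 0x13c) (.leaf 0x13d)) (.node 1 (.leaf 0x13e) (.leaf 0x13f))) (.node 2 (.node 1 (.leaf 0x170) (.leaf 0x171)) (.node 1 (.leaf 0x172) (.leaf 0x173))))) (.node 8 (.node 4 (.node 2 (.node 1 (.leaf 0x151) (.leaf 0x150)) (.node 1 (.leaf 0x153) (.leaf 0x152))) (.node 2 (.node 1 (.leaf 0x155) (.leaf 0x154)) (.node 1 (.leaf 0x157) (.leaf 0x156)))) (.node 4 (.node 2 (.node 1 (.leaf 0x11b) (.leaf 0x11a)) (.node 1 (.leaf 0x119) (.leaf 0x118))) (.node 2 (.node 1 (.leaf 0x1b3) (.leaf 0x1b2)) (.node 1 (.leaf 0x1b1) (.leaf 0x1b0)))))) (.node 16 (.node 8 (.node 4 (.node 2 (.node 1 (.leaf 0x1a7) (.leaf 0x1a6)) (.node 1 (.leaf 0x1a5) (.leaf 0x1a4))) (.node 2 (.node 1 (.leaf 0x121) (.leaf 0x120)) (.node 1 (.leaf 0x123) (.leaf 0x122)))) (.node 4 (.node 2 (.node 1 (.leaf 0x16f) (.leaf 0x16e)) (.node 1 (.leaf 0x16d) (.leaf 0x16c))) (.node 2 (.node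 1 (.leaf 0x16b) (.leaf 0x16a)) (.node 1 (.leaf 0x169) (.leaf 0x168))))) (.node 8 (.node 4 (.node 2 (.node 1 (.leaf 0x14c) (.leaf 0x14d)) (.node 1 (.leaf 0x14e) (.leaf 0x14f))) (.node 2 (.node 1 (.leaf 0x133) (.leaf 0x132)) (.node 1 (.leaf 0x131) (.leaf 0x130)))) (.node 4 (.node 2 (.node 1 (.leaf 0x179) (.leaf 0x178)) (.node 1 (.leaf 0x17b) (.leaf 0x17a))) (.node 2 (.node 1 (.leaf 0x17d) (.leaf 0x17c)) (.node 1 (.leaf 0x17f) (.leaf 0x17e)))))))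

def mulP_19 : Tree :=
  .node 64 (.node 32 (.node 16 (.node 8 (.node 4 (.node 2 (.node 1 (.leaf 0x190) (.leaf 0x191)) (.node 1 (.leaf 0x192) (.leaf 0x193))) (.node 2 (.node 1 (.leaf 0x19c) (.leaf 0x19d)) (.node 1 (.leaf 0x19e) (.leaf 0x19f)))) (.node 4 (.node 2 (.node 1 (.leaf 0x198) (.leaf 0x199)) (.node 1 (.leaf 0x19a) (.leaf 0x19b))) (.node 2 (.node 1 (.leaf 0x140) (.leaf 0x141)) (.node 1 (.leaf 0x142) (.leaf 0x143))))) (.node 8 (.node 4 (.node 2 (.node 1 (.leaf 0x180) (.leaf 0x181)) (.node 1 (.leaf 0x182) (.leaf 0x183))) (.node 2 (.node 1 (.leaf 0x1b8) (.leaf 0x1b9)) (.node 1 (.leaf 0x1ba) (.leaf 0x1bb)))) (.node 4 (.node 2 (.node 1 (.leaf 0x188) (.leaf 0x189)) (.node 1 (.leaf 0x18a) (.leaf 0x18b))) (.node 2 (.node 1 (.leaf 0x184) (.leaf 0x185)) (.node 1 (.leaf 0x186) (.leaf 0x187)))))) (.node 16 (.node 8 (.node 4 (.node 2 (.node 1 (.leaf 0x1a1) (.leaf 0x1a0))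 (.node 1 (.leaf 0x1a3) (.leaf 0x1a2))) (.node 2 (.node 1 (.leaf 0x163) (.leaf 0x162)) (.node 1 (.leaf 0x161) (.leaf 0x160)))) (.node 4 (.node 2 (.node 1 (.leaf 0x1e4) (.leaf 0x1e5)) (.node 1 (.leaf 0x1e6) (.leaf 0x1e7))) (.node 2 (.node 1 (.leaf 0x1ad) (.leaf 0x1ac)) (.node 1 (.leaf 0x1af) (.leaf 0x1ae))))) (.node 8 (.node 4 (.node 2 (.node 1 (.leaf 0x15f) (.leaf 0x15e)) (.node 1 (.leaf 0x15d) (.leaf 0x15c))) (.node 2 (.node 1 (.leaf 0x1e3) (.leaf 0x1e2)) (.node 1 (.leaf 0x1e1) (.leaf 0x1e0)))) (.node 4 (.node 2 (.node 1 (.leaf 0x194) (.leaf 0x195)) (.node 1 (.leaf 0x196) (.leaf 0x197))) (.node 2 (.node 1 (.leaf 0x1bd) (.leaf 0x1bc)) (.node 1 (.leaf 0x1bf) (.leaf 0x1be))))))) (.node 32 (.node 16 (.node 8 (.node 4 (.node 2 (.node 1 (.leaf 0x1d8) (.leaf 0x1d9)) (.node 1 (.leaf 0x1da) (.leaf 0x1db))) (.node 2 (.node 1 (.leaf 0x1d4) (.leaf 0x1d5)) (.node 1 (.leaf 0x1d6)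 (.leaf 0x1d7)))) (.node 4 (.node 2 (.node 1 (.leaf 0x1d0) (.leaf 0x1d1)) (.node 1 (.leaf 0x1d2) (.leaf 0x1d3))) (.node 2 (.node 1 (.leaf 0x1dc) (.leaf 0x1dd)) (.node 1 (.leaf 0x1de) (.leaf 0x1df))))) (.node 8 (.node 4 (.node 2 (.node 1 (.leaf 0x1c8) (.leaf 0x1c9)) (.node 1 (.leaf 0x1ca) (.leaf 0x1cb))) (.node 2 (.node 1 (.leaf 0x1c4) (.leaf 0x1c5)) (.node 1 (.leaf 0x1c6) (.leaf 0x1c7)))) (.node 4 (.node 2 (.node 1 (.leaf 0x1c0) (.leaf 0x1c1)) (.node 1 (.leaf 0x1c2) (.leaf 0x1c3))) (.node 2 (.node 1 (.leaf 0x1cc) (.leaf 0x1cd)) (.node 1 (.leaf 0x1ce) (.leaf 0x1cf)))))) (.node 16 (.node 8 (.node 4 (.node 2 (.node 1 (.leaf 0x1b7) (.leaf 0x1b6)) (.node 1 (.leaf 0x1b5) (.leaf 0x1b4))) (.node 2 (.node 1 (.leaf 0x1a8) (.leaf 0x1a9)) (.node 1 (.leaf 0x1aa) (.leaf 0x1ab)))) (.node 4 (.node 2 (.node 1 (.leaf 0x1fc) (.leaf 0x1fd)) (.node 1 (.leaf 0x1fe) (.leaf 0x1ff))) (.node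 2 (.node 1 (.leaf 0x1f8) (.leaf 0x1f9)) (.node 1 (.leaf 0x1fa) (.leaf 0x1fb))))) (.node 8 (.node 4 (.node 2 (.node 1 (.leaf 0x1f4) (.leaf 0x1f5)) (.node 1 (.leaf 0x1f6) (.leaf 0x1f7))) (.node 2 (.node 1 (.leaf 0x1f0) (.leaf 0x1f1)) (.node 1 (.leaf 0x1f2) (.leaf 0x1f3)))) (.node 4 (.node 2 (.node 1 (.leaf 0x1ec) (.leaf 0x1ed)) (.node 1 (.leaf 0x1ee) (.leaf 0x1ef))) (.node 2 (.node 1 (.leaf 0x1e8) (.leaf 0x1e9)) (.node 1 (.leaf 0x1ea) (.leaf 0x1eb)))))))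

def mulP_20 : Tree :=
  .node 64 (.node 32 (.node 16 (.node 8 (.node 4 (.node 2 (.node 1 (.leaf 0xb3) (.leaf 0x82)) (.node 1 (.leaf 0x83) (.leaf 0x81))) (.node 2 (.node 1 (.leaf 0x80) (.leaf 0xbb)) (.node 1 (.leaf 0xba) (.leaf 0xb8)))) (.node 4 (.node 2 (.node 1 (.leaf 0xb9) (.leaf 0xac)) (.node 1 (.leaf 0xad) (.leaf 0xaf))) (.node 2 (.node 1 (.leaf 0xae) (.leaf 0xb2)) (.node 1 (.leaf 0xb1) (.leaf 0xb0))))) (.node 8 (.node 4 (.node 2 (.node 1 (.leaf 0x7c) (.leaf 0x7d)) (.node 1 (.leaf 0x7f) (.leaf 0x7e))) (.node 2 (.node 1 (.leaf 0xa5) (.leaf 0xa4)) (.node 1 (.leaf 0xa6) (.leaf 0xa7)))) (.node 4 (.node 2 (.node 1 (.leaf 0xbd) (.leaf 0xbc)) (.node 1 (.leaf 0xbe) (.leaf 0xbf))) (.node 2 (.node 1 (.leaf 0xe7) (.leaf 0xe6)) (.node 1 (.leaf 0xe4) (.leaf 0xe5)))))) (.node 16 (.node 8 (.node 4 (.node 2 (.node 1 (.leaf 0xe0) (.leaf 0xe1)) (.node 1 (.leaf 0xe3) (.leaf 0xe2)))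 (.node 2 (.node 1 (.leaf 0x9e) (.leaf 0x9f)) (.node 1 (.leaf 0x9d) (.leaf 0x9c)))) (.node 4 (.node 2 (.node 1 (.leaf 0xa0) (.leaf 0xa1)) (.node 1 (.leaf 0xa3) (.leaf 0xa2))) (.node 2 (.node 1 (.leaf 0xab) (.leaf 0xaa)) (.node 1 (.leaf 0xa8) (.leaf 0xa9))))) (.node 8 (.node 4 (.node 2 (.node 1 (.leaf 0xd9) (.leaf 0xd8)) (.node 1 (.leaf 0xda) (.leaf 0xdb))) (.node 2 (.node 1 (.leaf 0xe9) (.leaf 0xe8)) (.node 1 (.leaf 0xea) (.leaf 0xeb)))) (.node 4 (.node 2 (.node 1 (.leaf 0xd6) (.leaf 0xd7)) (.node 1 (.leaf 0xd5) (.leaf 0xd4))) (.node 2 (.node 1 (.leaf 0xf4) (.leaf 0xf5)) (.node 1 (.leaf 0xf7) (.leaf 0xf6))))))) (.node 32 (.node 16 (.node 8 (.node 4 (.node 2 (.node 1 (.leaf 0xdf) (.leaf 0xde)) (.node 1 (.leaf 0xdc) (.leaf 0xdd))) (.node 2 (.node 1 (.leaf 0xd1) (.leaf 0xd0)) (.node 1 (.leaf 0xd2) (.leaf 0xd3)))) (.node 4 (.node 2 (.node 1 (.leaf 0x92) (.leaf 0x93)) (.node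 1 (.leaf 0x91) (.leaf 0x90))) (.node 2 (.node 1 (.leaf 0x100) (.leaf 0x101)) (.node 1 (.leaf 0x103) (.leaf 0x102))))) (.node 8 (.node 4 (.node 2 (.node 1 (.leaf 0x62) (.leaf 0x63)) (.node 1 (.leaf 0x61) (.leaf 0x60))) (.node 2 (.node 1 (.leaf 0xc7) (.leaf 0xc6)) (.node 1 (.leaf 0xc4) (.leaf 0xc5)))) (.node 4 (.node 2 (.node 1 (.leaf 0xfd) (.leaf 0xfc)) (.node 1 (.leaf 0xfe) (.leaf 0xff))) (.node 2 (.node 1 (.leaf 0x87) (.leaf 0x86)) (.node 1 (.leaf 0x84) (.leaf 0x85)))))) (.node 16 (.node 8 (.node 4 (.node 2 (.node 1 (.leaf 0x53) (.leaf 0x52)) (.node 1 (.leaf 0x50) (.leaf 0x51))) (.node 2 (.node 1 (.leaf 0xce) (.leaf 0xcf)) (.node 1 (.leaf 0xcd) (.leaf 0xcc)))) (.node 4 (.node 2 (.node 1 (.leaf 0xc0) (.leaf 0xc1)) (.node 1 (.leaf 0xc3) (.leaf 0xc2))) (.node 2 (.node 1 (.leaf 0x8a) (.leaf 0x8b)) (.node 1 (.leaf 0x89) (.leaf 0x88))))) (.node 8 (.node 4 (.node 2 (.node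 1 (.leaf 0x8d) (.leaf 0x8c)) (.node 1 (.leaf 0x8e) (.leaf 0x8f))) (.node 2 (.node 1 (.leaf 0xf3) (.leaf 0xf2)) (.node 1 (.leaf 0xf0) (.leaf 0xf1)))) (.node 4 (.node 2 (.node 1 (.leaf 0xb7) (.leaf 0xb6)) (.node 1 (.leaf 0xb4) (.leaf 0xb5))) (.node 2 (.node 1 (.leaf 0x10) (.leaf 0x11)) (.node 1 (.leaf 0x13) (.leaf 0x12)))))))

def mulP_21 : Tree :=
  .node 64 (.node 32 (.node 16 (.node 8 (.node 4 (.node 2 (.node 1 (.leaf 0x4) (.leaf 0x3)) (.node 1 (.leaf 0x1) (.leaf 0x2))) (.node 2 (.node 1 (.leaf 0x5e) (.leaf 0x5f)) (.node 1 (.leaf 0x5d) (.leaf 0x5c)))) (.node 4 (.node 2 (.node 1 (.leaf 0x6f) (.leaf 0x6e)) (.node 1 (.leaf 0x6c) (.leaf 0x6d))) (.node 2 (.node 1 (.leaf 0x71) (.leaf 0x70)) (.node 1 (.leaf 0x72) (.leaf 0x73))))) (.node 8 (.node 4 (.node 2 (.node 1 (.leaf 0x4b) (.leaf 0x4a)) (.node 1 (.leaf 0x48) (.leaf 0x49))) (.node 2 (.node 1 (.leaf 0xec) (.leaf 0xed))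 (.node 1 (.leaf 0xef) (.leaf 0xee)))) (.node 4 (.node 2 (.node 1 (.leaf 0xc9) (.leaf 0xc8)) (.node 1 (.leaf 0xca) (.leaf 0xcb))) (.node 2 (.node 1 (.leaf 0x27) (.leaf 0x26)) (.node 1 (.leaf 0x24) (.leaf 0x25)))))) (.node 16 (.node 8 (.node 4 (.node 2 (.node 1 (.leaf 0x28) (.leaf 0x29)) (.node 1 (.leaf 0x2b) (.leaf 0x2a))) (.node 2 (.node 1 (.leaf 0x15) (.leaf 0x14)) (.node 1 (.leaf 0x16) (.leaf 0x17)))) (.node 4 (.node 2 (.node 1 (.leaf 0x2e) (.leaf 0x2f)) (.node 1 (.leaf 0x2d) (.leaf 0x2c))) (.node 2 (.node 1 (.leaf 0x9) (.leaf 0xa)) (.node 1 (.leaf 0xc) (.leaf 0xb))))) (.node 8 (.node 4 (.node 2 (.node 1 (.leaf 0xf) (.leaf 0xe)) (.node 1 (.leaf 0xd) (.leaf 0x0))) (.node 2 (.node 1 (.leaf 0x7a) (.leaf 0x7b)) (.node 1 (.leaf 0x79) (.leaf 0x78)))) (.node 4 (.node 2 (.node 1 (.leaf 0x7) (.leaf 0x8)) (.node 1 (.leaf 0x6) (.leaf 0x5))) (.node 2 (.node 1 (.leaf 0x19) (.leaf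 0x18)) (.node 1 (.leaf 0x1a) (.leaf 0x1b))))))) (.node 32 (.node 16 (.node 8 (.node 4 (.node 2 (.node 1 (.leaf 0x68) (.leaf 0x69)) (.node 1 (.leaf 0x6b) (.leaf 0x6a))) (.node 2 (.node 1 (.leaf 0x56) (.leaf 0x57)) (.node 1 (.leaf 0x55) (.leaf 0x54)))) (.node 4 (.node 2 (.node 1 (.leaf 0x99) (.leaf 0x98)) (.node 1 (.leaf 0x9a) (.leaf 0x9b))) (.node 2 (.node 1 (.leaf 0x67) (.leaf 0x66)) (.node 1 (.leaf 0x64) (.leaf 0x65))))) (.node 8 (.node 4 (.node 2 (.node 1 (.leaf 0x45) (.leaf 0x44)) (.node 1 (.leaf 0x46) (.leaf 0x47))) (.node 2 (.node 1 (.leaf 0x3b) (.leaf 0x3a)) (.node 1 (.leaf 0x38) (.leaf 0x39)))) (.node 4 (.node 2 (.node 1 (.leaf 0x31) (.leaf 0x30)) (.node 1 (.leaf 0x32) (.leaf 0x33))) (.node 2 (.node 1 (.leaf 0x42) (.leaf 0x43)) (.node 1 (.leaf 0x41) (.leaf 0x40)))))) (.node 16 (.node 8 (.node 4 (.node 2 (.node 1 (.leaf 0x20) (.leaf 0x21)) (.node 1 (.leaf 0x23)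 (.leaf 0x22))) (.node 2 (.node 1 (.leaf 0x1e) (.leaf 0x1f)) (.node 1 (.leaf 0x1d) (.leaf 0x1c)))) (.node 4 (.node 2 (.node 1 (.leaf 0x35) (.leaf 0x34)) (.node 1 (.leaf 0x36) (.leaf 0x37))) (.node 2 (.node 1 (.leaf 0x94) (.leaf 0x95)) (.node 1 (.leaf 0x97) (.leaf 0x96))))) (.node 8 (.node 4 (.node 2 (.node 1 (.leaf 0x76) (.leaf 0x77)) (.node 1 (.leaf 0x75) (.leaf 0x74))) (.node 2 (.node 1 (.leaf 0x3c) (.leaf 0x3d)) (.node 1 (.leaf 0x3f) (.leaf 0x3e)))) (.node 4 (.node 2 (.node 1 (.leaf 0x1fd) (.leaf 0x1fc)) (.node 1 (.leaf 0x1fe) (.leaf 0x1ff))) (.node 2 (.node 1 (.leaf 0x59) (.leaf 0x58)) (.node 1 (.leaf 0x5a) (.leaf 0x5b)))))))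

def mulP_22 : Tree :=
  .node 64 (.node 32 (.node 16 (.node 8 (.node 4 (.node 2 (.node 1 (.leaf 0x4c) (.leaf 0x4d)) (.node 1 (.leaf 0x4f) (.leaf 0x4e))) (.node 2 (.node 1 (.leaf 0x1f8) (.leaf 0x1f9)) (.node 1 (.leaf 0x1fb) (.leaf 0x1fa)))) (.node 4 (.node 2 (.node 1 (.leaf 0x1d7) (.leaf 0x1d6)) (.node 1 (.leaf 0x1d4) (.leaf 0x1d5))) (.node 2 (.node 1 (.leaf 0x1f5) (.leaf 0x1f4)) (.node 1 (.leaf 0x1f6) (.leaf 0x1f7))))) (.node 8 (.node 4 (.node 2 (.node 1 (.leaf 0x1c7) (.leaf 0x1c6)) (.node 1 (.leaf 0x1c4) (.leaf 0x1c5))) (.node 2 (.node 1 (.leaf 0x17d) (.leaf 0x17c)) (.node 1 (.leaf 0x17e) (.leaf 0x17f)))) (.node 4 (.node 2 (.node 1 (.leaf 0x1c3) (.leaf 0x1c2)) (.node 1 (.leaf 0x1c0) (.leaf 0x1c1))) (.node 2 (.node 1 (.leaf 0x1e6) (.leaf 0x1e7)) (.node 1 (.leaf 0x1e5) (.leaf 0x1e4)))))) (.node 16 (.node 8 (.node 4 (.node 2 (.node 1 (.leaf 0x1dc) (.leaf 0x1dd)) (.node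 1 (.leaf 0x1df) (.leaf 0x1de))) (.node 2 (.node 1 (.leaf 0x1aa) (.leaf 0x1ab)) (.node 1 (.leaf 0x1a9) (.leaf 0x1a8)))) (.node 4 (.node 2 (.node 1 (.leaf 0x19b) (.leaf 0x19a)) (.node 1 (.leaf 0x198) (.leaf 0x199))) (.node 2 (.node 1 (.leaf 0x1e9) (.leaf 0x1e8)) (.node 1 (.leaf 0x1ea) (.leaf 0x1eb))))) (.node 8 (.node 4 (.node 2 (.node 1 (.leaf 0x18b) (.leaf 0x18a)) (.node 1 (.leaf 0x188) (.leaf 0x189))) (.node 2 (.node 1 (.leaf 0x1ec) (.leaf 0x1ed)) (.node 1 (.leaf 0x1ef) (.leaf 0x1ee)))) (.node 4 (.node 2 (.node 1 (.leaf 0x141) (.leaf 0x140)) (.node 1 (.leaf 0x142) (.leaf 0x143))) (.node 2 (.node 1 (.leaf 0x1e0) (.leaf 0x1e1)) (.node 1 (.leaf 0x1e3) (.leaf 0x1e2))))))) (.node 32 (.node 16 (.node 8 (.node 4 (.node 2 (.node 1 (.leaf 0x139) (.leaf 0x138)) (.node 1 (.leaf 0x13a) (.leaf 0x13b))) (.node 2 (.node 1 (.leaf 0x1b5) (.leaf 0x1b4)) (.node 1 (.leaf 0x1b6) (.leaf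 0x1b7)))) (.node 4 (.node 2 (.node 1 (.leaf 0x150) (.leaf 0x151)) (.node 1 (.leaf 0x153) (.leaf 0x152))) (.node 2 (.node 1 (.leaf 0x1a3) (.leaf 0x1a2)) (.node 1 (.leaf 0x1a0) (.leaf 0x1a1))))) (.node 8 (.node 4 (.node 2 (.node 1 (.leaf 0x148) (.leaf 0x149)) (.node 1 (.leaf 0x14b) (.leaf 0x14a))) (.node 2 (.node 1 (.leaf 0x190) (.leaf 0x191)) (.node 1 (.leaf 0x193) (.leaf 0x192)))) (.node 4 (.node 2 (.node 1 (.leaf 0x1ba) (.leaf 0x1bb)) (.node 1 (.leaf 0x1b9) (.leaf 0x1b8))) (.node 2 (.node 1 (.leaf 0x18d) (.leaf 0x18c)) (.node 1 (.leaf 0x18e) (.leaf 0x18f)))))) (.node 16 (.node 8 (.node 4 (.node 2 (.node 1 (.leaf 0x187) (.leaf 0x186)) (.node 1 (.leaf 0x184) (.leaf 0x185))) (.node 2 (.node 1 (.leaf 0x1d2) (.leaf 0x1d3)) (.node 1 (.leaf 0x1d1) (.leaf 0x1d0)))) (.node 4 (.node 2 (.node 1 (.leaf 0x1ca) (.leaf 0x1cb)) (.node 1 (.leaf 0x1c9) (.leaf 0x1c8))) (.node 2 (.node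 1 (.leaf 0x1f1) (.leaf 0x1f0)) (.node 1 (.leaf 0x1f2) (.leaf 0x1f3))))) (.node 8 (.node 4 (.node 2 (.node 1 (.leaf 0x1a7) (.leaf 0x1a6)) (.node 1 (.leaf 0x1a4) (.leaf 0x1a5))) (.node 2 (.node 1 (.leaf 0x1cc) (.leaf 0x1cd)) (.node 1 (.leaf 0x1cf) (.leaf 0x1ce)))) (.node 4 (.node 2 (.node 1 (.leaf 0x1db) (.leaf 0x1da)) (.node 1 (.leaf 0x1d8) (.leaf 0x1d9))) (.node 2 (.node 1 (.leaf 0x115) (.leaf 0x114)) (.node 1 (.leaf 0x116) (.leaf 0x117)))))))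

def mulP_23 : Tree :=
  .node 64 (.node 32 (.node 16 (.node 8 (.node 4 (.node 2 (.node 1 (.leaf 0x1b0) (.leaf 0x1b1)) (.node 1 (.leaf 0x1b3) (.leaf 0x1b2))) (.node 2 (.node 1 (.leaf 0x162) (.leaf 0x163)) (.node 1 (.leaf 0x161) (.leaf 0x160)))) (.node 4 (.node 2 (.node 1 (.leaf 0x132) (.leaf 0x133)) (.node 1 (.leaf 0x131) (.leaf 0x130))) (.node 2 (.node 1 (.leaf 0x15d) (.leaf 0x15c)) (.node 1 (.leaf 0x15e) (.leaf 0x15f))))) (.node 8 (.node 4 (.node 2 (.node 1 (.leaf 0x154) (.leaf 0x155)) (.node 1 (.leaf 0x157) (.leaf 0x156))) (.node 2 (.node 1 (.leaf 0x1af) (.leaf 0x1ae)) (.node 1 (.leaf 0x1ac) (.leaf 0x1ad)))) (.node 4 (.node 2 (.node 1 (.leaf 0x12a) (.leaf 0x12b)) (.node 1 (.leaf 0x129) (.leaf 0x128))) (.node 2 (.node 1 (.leaf 0x1be) (.leaf 0x1bf)) (.node 1 (.leaf 0x1bd) (.leaf 0x1bc)))))) (.node 16 (.node 8 (.node 4 (.node 2 (.node 1 (.leaf 0x14e) (.leaf 0x14f))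 (.node 1 (.leaf 0x14d) (.leaf 0x14c))) (.node 2 (.node 1 (.leaf 0x172) (.leaf 0x173)) (.node 1 (.leaf 0x171) (.leaf 0x170)))) (.node 4 (.node 2 (.node 1 (.leaf 0x127) (.leaf 0x126)) (.node 1 (.leaf 0x124) (.leaf 0x125))) (.node 2 (.node 1 (.leaf 0x196) (.leaf 0x197)) (.node 1 (.leaf 0x195) (.leaf 0x194))))) (.node 8 (.node 4 (.node 2 (.node 1 (.leaf 0x180) (.leaf 0x181)) (.node 1 (.leaf 0x183) (.leaf 0x182))) (.node 2 (.node 1 (.leaf 0x145) (.leaf 0x144)) (.node 1 (.leaf 0x146) (.leaf 0x147)))) (.node 4 (.node 2 (.node 1 (.leaf 0x15b) (.leaf 0x15a)) (.node 1 (.leaf 0x158) (.leaf 0x159))) (.node 2 (.node 1 (.leaf 0x19f) (.leaf 0x19e)) (.node 1 (.leaf 0x19c) (.leaf 0x19d))))))) (.node 32 (.node 16 (.node 8 (.node 4 (.node 2 (.node 1 (.leaf 0x11a) (.leaf 0x11b)) (.node 1 (.leaf 0x119) (.leaf 0x118))) (.node 2 (.node 1 (.leaf 0x112) (.leaf 0x113)) (.node 1 (.leaf 0x111)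 (.leaf 0x110)))) (.node 4 (.node 2 (.node 1 (.leaf 0x16b) (.leaf 0x16a)) (.node 1 (.leaf 0x168) (.leaf 0x169))) (.node 2 (.node 1 (.leaf 0x174) (.leaf 0x175)) (.node 1 (.leaf 0x177) (.leaf 0x176))))) (.node 8 (.node 4 (.node 2 (.node 1 (.leaf 0x167) (.leaf 0x166)) (.node 1 (.leaf 0x164) (.leaf 0x165))) (.node 2 (.node 1 (.leaf 0x10a) (.leaf 0x10b)) (.node 1 (.leaf 0x109) (.leaf 0x108)))) (.node 4 (.node 2 (.node 1 (.leaf 0x17a) (.leaf 0x17b)) (.node 1 (.leaf 0x179) (.leaf 0x178))) (.node 2 (.node 1 (.leaf 0x120) (.leaf 0x121)) (.node 1 (.leaf 0x123) (.leaf 0x122)))))) (.node 16 (.node 8 (.node 4 (.node 2 (.node 1 (.leaf 0x13c) (.leaf 0x13d)) (.node 1 (.leaf 0x13f) (.leaf 0x13e))) (.node 2 (.node 1 (.leaf 0x11f) (.leaf 0x11e)) (.node 1 (.leaf 0x11c) (.leaf 0x11d)))) (.node 4 (.node 2 (.node 1 (.leaf 0x12d) (.leaf 0x12c)) (.node 1 (.leaf 0x12e) (.leaf 0x12f))) (.node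 2 (.node 1 (.leaf 0x134) (.leaf 0x135)) (.node 1 (.leaf 0x137) (.leaf 0x136))))) (.node 8 (.node 4 (.node 2 (.node 1 (.leaf 0x16d) (.leaf 0x16c)) (.node 1 (.leaf 0x16e) (.leaf 0x16f))) (.node 2 (.node 1 (.leaf 0x10d) (.leaf 0x10c)) (.node 1 (.leaf 0x10e) (.leaf 0x10f)))) (.node 4 (.node 2 (.node 1 (.leaf 0x104) (.leaf 0x105)) (.node 1 (.leaf 0x107) (.leaf 0x106))) (.node 2 (.node 1 (.leaf 0xf9) (.leaf 0xf8)) (.node 1 (.leaf 0xfa) (.leaf 0xfb)))))))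

def mulP_24 : Tree :=
  .node 64 (.node 32 (.node 16 (.node 8 (.node 4 (.node 2 (.node 1 (.leaf 0x13b) (.leaf 0x17e)) (.node 1 (.leaf 0x17f) (.leaf 0x17c))) (.node 2 (.node 1 (.leaf 0x17d) (.leaf 0x152)) (.node 1 (.leaf 0x153) (.leaf 0x150)))) (.node 4 (.node 2 (.node 1 (.leaf 0x151) (.leaf 0x1be)) (.node 1 (.leaf 0x1bf) (.leaf 0x1bc))) (.node 2 (.node 1 (.leaf 0x1bd) (.leaf 0x13a)) (.node 1 (.leaf 0x138) (.leaf 0x139))))) (.node 8 (.node 4 (.node 2 (.node 1 (.leaf 0x162) (.leaf 0x163)) (.node 1 (.leaf 0x160) (.leaf 0x161))) (.node 2 (.node 1 (.leaf 0x1a6) (.leaf 0x1a7)) (.node 1 (.leaf 0x1a4) (.leaf 0x1a5)))) (.node 4 (.node 2 (.node 1 (.leaf 0x1a2) (.leaf 0x1a3)) (.node 1 (.leaf 0x1a0) (.leaf 0x1a1))) (.node 2 (.node 1 (.leaf 0x156) (.leaf 0x157)) (.node 1 (.leaf 0x154) (.leaf 0x155)))))) (.node 16 (.node 8 (.node 4 (.node 2 (.node 1 (.leaf 0x17a) (.leaf 0x17b))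 (.node 1 (.leaf 0x178) (.leaf 0x179))) (.node 2 (.node 1 (.leaf 0x1b6) (.leaf 0x1b7)) (.node 1 (.leaf 0x1b4) (.leaf 0x1b5)))) (.node 4 (.node 2 (.node 1 (.leaf 0x11a) (.leaf 0x11b)) (.node 1 (.leaf 0x118) (.leaf 0x119))) (.node 2 (.node 1 (.leaf 0x1e2) (.leaf 0x1e3)) (.node 1 (.leaf 0x1e0) (.leaf 0x1e1))))) (.node 8 (.node 4 (.node 2 (.node 1 (.leaf 0x15a) (.leaf 0x15b)) (.node 1 (.leaf 0x158) (.leaf 0x159))) (.node 2 (.node 1 (.leaf 0x1ae) (.leaf 0x1af)) (.node 1 (.leaf 0x1ac) (.leaf 0x1ad)))) (.node 4 (.node 2 (.node 1 (.leaf 0x15e) (.leaf 0x15f)) (.node 1 (.leaf 0x15c) (.leaf 0x15d))) (.node 2 (.node 1 (.leaf 0x12a) (.leaf 0x12b)) (.node 1 (.leaf 0x128) (.leaf 0x129))))))) (.node 32 (.node 16 (.node 8 (.node 4 (.node 2 (.node 1 (.leaf 0x1b2) (.leaf 0x1b3)) (.node 1 (.leaf 0x1b0) (.leaf 0x1b1))) (.node 2 (.node 1 (.leaf 0x166) (.leaf 0x167)) (.node 1 (.leaf 0x164)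 (.leaf 0x165)))) (.node 4 (.node 2 (.node 1 (.leaf 0x10e) (.leaf 0x10f)) (.node 1 (.leaf 0x10c) (.leaf 0x10d))) (.node 2 (.node 1 (.leaf 0x10a) (.leaf 0x10b)) (.node 1 (.leaf 0x108) (.leaf 0x109))))) (.node 8 (.node 4 (.node 2 (.node 1 (.leaf 0x16e) (.leaf 0x16f)) (.node 1 (.leaf 0x16c) (.leaf 0x16d))) (.node 2 (.node 1 (.leaf 0x122) (.leaf 0x123)) (.node 1 (.leaf 0x120) (.leaf 0x121)))) (.node 4 (.node 2 (.node 1 (.leaf 0x11e) (.leaf 0x11f)) (.node 1 (.leaf 0x11c) (.leaf 0x11d))) (.node 2 (.node 1 (.leaf 0x176) (.leaf 0x177)) (.node 1 (.leaf 0x174) (.leaf 0x175)))))) (.node 16 (.node 8 (.node 4 (.node 2 (.node 1 (.leaf 0x1ee) (.leaf 0x1ef)) (.node 1 (.leaf 0x1ec) (.leaf 0x1ed))) (.node 2 (.node 1 (.leaf 0xfa) (.leaf 0xfb)) (.node 1 (.leaf 0xf8) (.leaf 0xf9)))) (.node 4 (.node 2 (.node 1 (.leaf 0x132) (.leaf 0x133)) (.node 1 (.leaf 0x130) (.leaf 0x131))) (.node 2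 (.node 1 (.leaf 0x12e) (.leaf 0x12f)) (.node 1 (.leaf 0x12c) (.leaf 0x12d))))) (.node 8 (.node 4 (.node 2 (.node 1 (.leaf 0x16a) (.leaf 0x16b)) (.node 1 (.leaf 0x168) (.leaf 0x169))) (.node 2 (.node 1 (.leaf 0x106) (.leaf 0x107)) (.node 1 (.leaf 0x104) (.leaf 0x105)))) (.node 4 (.node 2 (.node 1 (.leaf 0x136) (.leaf 0x137)) (.node 1 (.leaf 0x134) (.leaf 0x135))) (.node 2 (.node 1 (.leaf 0x1ba) (.leaf 0x1bb)) (.node 1 (.leaf 0x1b8) (.leaf 0x1b9)))))))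

def mulP_25 : Tree :=
  .node 64 (.node 32 (.node 16 (.node 8 (.node 4 (.node 2 (.node 1 (.leaf 0x192) (.leaf 0x193)) (.node 1 (.leaf 0x190) (.leaf 0x191))) (.node 2 (.node 1 (.leaf 0x1ea) (.leaf 0x1eb)) (.node 1 (.leaf 0x1e8) (.leaf 0x1e9)))) (.node 4 (.node 2 (.node 1 (.leaf 0x1ce) (.leaf 0x1cf)) (.node 1 (.leaf 0x1cc) (.leaf 0x1cd))) (.node 2 (.node 1 (.leaf 0x1c6) (.leaf 0x1c7)) (.node 1 (.leaf 0x1c4) (.leaf 0x1c5))))) (.node 8 (.node 4 (.node 2 (.node 1 (.leaf 0x1fa) (.leaf 0x1fb)) (.node 1 (.leaf 0x1f8) (.leaf 0x1f9))) (.node 2 (.node 1 (.leaf 0x112) (.leaf 0x113)) (.node 1 (.leaf 0x110) (.leaf 0x111)))) (.node 4 (.node 2 (.node 1 (.leaf 0x126) (.leaf 0x127)) (.node 1 (.leaf 0x124) (.leaf 0x125))) (.node 2 (.node 1 (.leaf 0x182) (.leaf 0x183)) (.node 1 (.leaf 0x180) (.leaf 0x181)))))) (.node 16 (.node 8 (.node 4 (.node 2 (.node 1 (.leaf 0x172) (.leaf 0x173))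 (.node 1 (.leaf 0x170) (.leaf 0x171))) (.node 2 (.node 1 (.leaf 0x1c2) (.leaf 0x1c3)) (.node 1 (.leaf 0x1c0) (.leaf 0x1c1)))) (.node 4 (.node 2 (.node 1 (.leaf 0x18e) (.leaf 0x18f)) (.node 1 (.leaf 0x18c) (.leaf 0x18d))) (.node 2 (.node 1 (.leaf 0x196) (.leaf 0x197)) (.node 1 (.leaf 0x194) (.leaf 0x195))))) (.node 8 (.node 4 (.node 2 (.node 1 (.leaf 0x14a) (.leaf 0x14b)) (.node 1 (.leaf 0x148) (.leaf 0x149))) (.node 2 (.node 1 (.leaf 0x1f2) (.leaf 0x1f3)) (.node 1 (.leaf 0x1f0) (.leaf 0x1f1)))) (.node 4 (.node 2 (.node 1 (.leaf 0x142) (.leaf 0x143)) (.node 1 (.leaf 0x140) (.leaf 0x141))) (.node 2 (.node 1 (.leaf 0x1da) (.leaf 0x1db)) (.node 1 (.leaf 0x1d8) (.leaf 0x1d9))))))) (.node 32 (.node 16 (.node 8 (.node 4 (.node 2 (.node 1 (.leaf 0x1aa) (.leaf 0x1ab)) (.node 1 (.leaf 0x1a8) (.leaf 0x1a9))) (.node 2 (.node 1 (.leaf 0x1fe) (.leaf 0x1ff)) (.node 1 (.leaf 0x1fc)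 (.leaf 0x1fd)))) (.node 4 (.node 2 (.node 1 (.leaf 0x18a) (.leaf 0x18b)) (.node 1 (.leaf 0x188) (.leaf 0x189))) (.node 2 (.node 1 (.leaf 0x1de) (.leaf 0x1df)) (.node 1 (.leaf 0x1dc) (.leaf 0x1dd))))) (.node 8 (.node 4 (.node 2 (.node 1 (.leaf 0x1d6) (.leaf 0x1d7)) (.node 1 (.leaf 0x1d4) (.leaf 0x1d5))) (.node 2 (.node 1 (.leaf 0x13e) (.leaf 0x13f)) (.node 1 (.leaf 0x13c) (.leaf 0x13d)))) (.node 4 (.node 2 (.node 1 (.leaf 0x186) (.leaf 0x187)) (.node 1 (.leaf 0x184) (.leaf 0x185))) (.node 2 (.node 1 (.leaf 0x146) (.leaf 0x147)) (.node 1 (.leaf 0x144) (.leaf 0x145)))))) (.node 16 (.node 8 (.node 4 (.node 2 (.node 1 (.leaf 0x14e) (.leaf 0x14f)) (.node 1 (.leaf 0x14c) (.leaf 0x14d))) (.node 2 (.node 1 (.leaf 0x116) (.leaf 0x117)) (.node 1 (.leaf 0x114) (.leaf 0x115)))) (.node 4 (.node 2 (.node 1 (.leaf 0x19e) (.leaf 0x19f)) (.node 1 (.leaf 0x19c) (.leaf 0x19d))) (.node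 2 (.node 1 (.leaf 0x1ca) (.leaf 0x1cb)) (.node 1 (.leaf 0x1c8) (.leaf 0x1c9))))) (.node 8 (.node 4 (.node 2 (.node 1 (.leaf 0x1f6) (.leaf 0x1f7)) (.node 1 (.leaf 0x1f4) (.leaf 0x1f5))) (.node 2 (.node 1 (.leaf 0x1e6) (.leaf 0x1e7)) (.node 1 (.leaf 0x1e4) (.leaf 0x1e5)))) (.node 4 (.node 2 (.node 1 (.leaf 0x66) (.leaf 0x67)) (.node 1 (.leaf 0x64) (.leaf 0x65))) (.node 2 (.node 1 (.leaf 0x19a) (.leaf 0x19b)) (.node 1 (.leaf 0x198) (.leaf 0x199)))))))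

def mulP_26 : Tree :=
  .node 64 (.node 32 (.node 16 (.node 8 (.node 4 (.node 2 (.node 1 (.leaf 0x1d2) (.leaf 0x1d3)) (.node 1 (.leaf 0x1d0) (.leaf 0x1d1))) (.node 2 (.node 1 (.leaf 0x76) (.leaf 0x77)) (.node 1 (.leaf 0x74) (.leaf 0x75)))) (.node 4 (.node 2 (.node 1 (.leaf 0x4e) (.leaf 0x4f)) (.node 1 (.leaf 0x4c) (.leaf 0x4d))) (.node 2 (.node 1 (.leaf 0x4a) (.leaf 0x4b)) (.node 1 (.leaf 0x48) (.leaf 0x49))))) (.node 8 (.node 4 (.node 2 (.node 1 (.leaf 0x96) (.leaf 0x97)) (.node 1 (.leaf 0x94) (.leaf 0x95))) (.node 2 (.node 1 (.leaf 0xe6) (.leaf 0xe7)) (.node 1 (.leaf 0xe4) (.leaf 0xe5)))) (.node 4 (.node 2 (.node 1 (.leaf 0x2a) (.leaf 0x2b)) (.node 1 (.leaf 0x28) (.leaf 0x29))) (.node 2 (.node 1 (.leaf 0x5a) (.leaf 0x5b)) (.node 1 (.leaf 0x58) (.leaf 0x59)))))) (.node 16 (.node 8 (.node 4 (.node 2 (.node 1 (.leaf 0x56) (.leaf 0x57)) (.node 1 (.leaf 0x54) (.leaf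 0x55))) (.node 2 (.node 1 (.leaf 0x9a) (.leaf 0x9b)) (.node 1 (.leaf 0x98) (.leaf 0x99)))) (.node 4 (.node 2 (.node 1 (.leaf 0x3e) (.leaf 0x3f)) (.node 1 (.leaf 0x3c) (.leaf 0x3d))) (.node 2 (.node 1 (.leaf 0x6e) (.leaf 0x6f)) (.node 1 (.leaf 0x6c) (.leaf 0x6d))))) (.node 8 (.node 4 (.node 2 (.node 1 (.leaf 0x6a) (.leaf 0x6b)) (.node 1 (.leaf 0x68) (.leaf 0x69))) (.node 2 (.node 1 (.leaf 0x7a) (.leaf 0x7b)) (.node 1 (.leaf 0x78) (.leaf 0x79)))) (.node 4 (.node 2 (.node 1 (.leaf 0xe) (.leaf 0xf)) (.node 1 (.leaf 0xd) (.leaf 0x0))) (.node 2 (.node 1 (.leaf 0xd6) (.leaf 0xd7)) (.node 1 (.leaf 0xd4) (.leaf 0xd5))))))) (.node 32 (.node 16 (.node 8 (.node 4 (.node 2 (.node 1 (.leaf 0xba) (.leaf 0xbb)) (.node 1 (.leaf 0xb8) (.leaf 0xb9))) (.node 2 (.node 1 (.leaf 0xde) (.leaf 0xdf)) (.node 1 (.leaf 0xdc) (.leaf 0xdd)))) (.node 4 (.node 2 (.node 1 (.leaf 0xb2) (.leaf 0xb3))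 (.node 1 (.leaf 0xb0) (.leaf 0xb1))) (.node 2 (.node 1 (.leaf 0xe2) (.leaf 0xe3)) (.node 1 (.leaf 0xe0) (.leaf 0xe1))))) (.node 8 (.node 4 (.node 2 (.node 1 (.leaf 0x7) (.leaf 0x8)) (.node 1 (.leaf 0x5) (.leaf 0x6))) (.node 2 (.node 1 (.leaf 0x1e) (.leaf 0x1f)) (.node 1 (.leaf 0x1c) (.leaf 0x1d)))) (.node 4 (.node 2 (.node 1 (.leaf 0x32) (.leaf 0x33)) (.node 1 (.leaf 0x30) (.leaf 0x31))) (.node 2 (.node 1 (.leaf 0x3a) (.leaf 0x3b)) (.node 1 (.leaf 0x38) (.leaf 0x39)))))) (.node 16 (.node 8 (.node 4 (.node 2 (.node 1 (.leaf 0x12) (.leaf 0x13)) (.node 1 (.leaf 0x10) (.leaf 0x11))) (.node 2 (.node 1 (.leaf 0x46) (.leaf 0x47)) (.node 1 (.leaf 0x44) (.leaf 0x45)))) (.node 4 (.node 2 (.node 1 (.leaf 0x72) (.leaf 0x73)) (.node 1 (.leaf 0x70) (.leaf 0x71))) (.node 2 (.node 1 (.leaf 0x52) (.leaf 0x53)) (.node 1 (.leaf 0x50) (.leaf 0x51))))) (.node 8 (.node 4 (.node 2 (.node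 1 (.leaf 0xa2) (.leaf 0xa3)) (.node 1 (.leaf 0xa0) (.leaf 0xa1))) (.node 2 (.node 1 (.leaf 0x5e) (.leaf 0x5f)) (.node 1 (.leaf 0x5c) (.leaf 0x5d)))) (.node 4 (.node 2 (.node 1 (.leaf 0x22) (.leaf 0x23)) (.node 1 (.leaf 0x20) (.leaf 0x21))) (.node 2 (.node 1 (.leaf 0x3) (.leaf 0x4)) (.node 1 (.leaf 0x1) (.leaf 0x2)))))))

def mulP_27 : Tree :=
  .node 64 (.node 32 (.node 16 (.node 8 (.node 4 (.node 2 (.node 1 (.leaf 0x9e) (.leaf 0x9f)) (.node 1 (.leaf 0x9c) (.leaf 0x9d))) (.node 2 (.node 1 (.leaf 0xda) (.leaf 0xdb)) (.node 1 (.leaf 0xd8) (.leaf 0xd9)))) (.node 4 (.node 2 (.node 1 (.leaf 0xca) (.leaf 0xcb)) (.node 1 (.leaf 0xc8) (.leaf 0xc9))) (.node 2 (.node 1 (.leaf 0xaa) (.leaf 0xab)) (.node 1 (.leaf 0xa8) (.leaf 0xa9))))) (.node 8 (.node 4 (.node 2 (.node 1 (.leaf 0x82) (.leaf 0x83)) (.node 1 (.leaf 0x80) (.leaf 0x81))) (.node 2 (.node 1 (.leaf 0xae) (.leaf 0xaf))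 (.node 1 (.leaf 0xac) (.leaf 0xad)))) (.node 4 (.node 2 (.node 1 (.leaf 0xfe) (.leaf 0xff)) (.node 1 (.leaf 0xfc) (.leaf 0xfd))) (.node 2 (.node 1 (.leaf 0xea) (.leaf 0xeb)) (.node 1 (.leaf 0xe8) (.leaf 0xe9)))))) (.node 16 (.node 8 (.node 4 (.node 2 (.node 1 (.leaf 0x1a) (.leaf 0x1b)) (.node 1 (.leaf 0x18) (.leaf 0x19))) (.node 2 (.node 1 (.leaf 0x16) (.leaf 0x17)) (.node 1 (.leaf 0x14) (.leaf 0x15)))) (.node 4 (.node 2 (.node 1 (.leaf 0xc2) (.leaf 0xc3)) (.node 1 (.leaf 0xc0) (.leaf 0xc1))) (.node 2 (.node 1 (.leaf 0x36) (.leaf 0x37)) (.node 1 (.leaf 0x34) (.leaf 0x35))))) (.node 8 (.node 4 (.node 2 (.node 1 (.leaf 0x42) (.leaf 0x43)) (.node 1 (.leaf 0x40) (.leaf 0x41))) (.node 2 (.node 1 (.leaf 0x26) (.leaf 0x27)) (.node 1 (.leaf 0x24) (.leaf 0x25)))) (.node 4 (.node 2 (.node 1 (.leaf 0x7e) (.leaf 0x7f)) (.node 1 (.leaf 0x7c) (.leaf 0x7d))) (.node 2 (.node 1 (.leaf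 0xb) (.leaf 0xc)) (.node 1 (.leaf 0x9) (.leaf 0xa))))))) (.node 32 (.node 16 (.node 8 (.node 4 (.node 2 (.node 1 (.leaf 0xa6) (.leaf 0xa7)) (.node 1 (.leaf 0xa4) (.leaf 0xa5))) (.node 2 (.node 1 (.leaf 0x8e) (.leaf 0x8f)) (.node 1 (.leaf 0x8c) (.leaf 0x8d)))) (.node 4 (.node 2 (.node 1 (.leaf 0xee) (.leaf 0xef)) (.node 1 (.leaf 0xec) (.leaf 0xed))) (.node 2 (.node 1 (.leaf 0x8a) (.leaf 0x8b)) (.node 1 (.leaf 0x88) (.leaf 0x89))))) (.node 8 (.node 4 (.node 2 (.node 1 (.leaf 0x102) (.leaf 0x103)) (.node 1 (.leaf 0x100) (.leaf 0x101))) (.node 2 (.node 1 (.leaf 0xd2) (.leaf 0xd3)) (.node 1 (.leaf 0xd0) (.leaf 0xd1)))) (.node 4 (.node 2 (.node 1 (.leaf 0xbe) (.leaf 0xbf)) (.node 1 (.leaf 0xbc) (.leaf 0xbd))) (.node 2 (.node 1 (.leaf 0xce) (.leaf 0xcf)) (.node 1 (.leaf 0xcc) (.leaf 0xcd)))))) (.node 16 (.node 8 (.node 4 (.node 2 (.node 1 (.leaf 0x2e) (.leaf 0x2f)) (.node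 1 (.leaf 0x2c) (.leaf 0x2d))) (.node 2 (.node 1 (.leaf 0xf6) (.leaf 0xf7)) (.node 1 (.leaf 0xf4) (.leaf 0xf5)))) (.node 4 (.node 2 (.node 1 (.leaf 0x86) (.leaf 0x87)) (.node 1 (.leaf 0x84) (.leaf 0x85))) (.node 2 (.node 1 (.leaf 0x62) (.leaf 0x63)) (.node 1 (.leaf 0x60) (.leaf 0x61))))) (.node 8 (.node 4 (.node 2 (.node 1 (.leaf 0xb6) (.leaf 0xb7)) (.node 1 (.leaf 0xb4) (.leaf 0xb5))) (.node 2 (.node 1 (.leaf 0xf2) (.leaf 0xf3)) (.node 1 (.leaf 0xf0) (.leaf 0xf1)))) (.node 4 (.node 2 (.node 1 (.leaf 0x92) (.leaf 0x93)) (.node 1 (.leaf 0x90) (.leaf 0x91))) (.node 2 (.node 1 (.leaf 0xc6) (.leaf 0xc7)) (.node 1 (.leaf 0xc4) (.leaf 0xc5)))))))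

def mulP_28 : Tree :=
  .node 64 (.node 32 (.node 16 (.node 8 (.node 4 (.node 2 (.node 1 (.leaf 0x179) (.leaf 0x1bc)) (.node 1 (.leaf 0x1bd) (.leaf 0x1be))) (.node 2 (.node 1 (.leaf 0x1bf) (.leaf 0x1a0)) (.node 1 (.leaf 0x1a1) (.leaf 0x1a2)))) (.node 4 (.node 2 (.node 1 (.leaf 0x1a3) (.leaf 0x17c)) (.node 1 (.leaf 0x17d) (.leaf 0x17e))) (.node 2 (.node 1 (.leaf 0x17f) (.leaf 0x178)) (.node 1 (.leaf 0x17a) (.leaf 0x17b))))) (.node 8 (.node 4 (.node 2 (.node 1 (.leaf 0x1a6) (.leaf 0x1a7)) (.node 1 (.leaf 0x1a4) (.leaf 0x1a5))) (.node 2 (.node 1 (.leaf 0x162) (.leaf 0x163)) (.node 1 (.leaf 0x160) (.leaf 0x161)))) (.node 4 (.node 2 (.node 1 (.leaf 0x150) (.leaf 0x151)) (.node 1 (.leaf 0x152) (.leaf 0x153))) (.node 2 (.node 1 (.leaf 0x1ac) (.leaf 0x1ad)) (.node 1 (.leaf 0x1ae) (.leaf 0x1af)))))) (.node 16 (.node 8 (.node 4 (.node 2 (.node 1 (.leaf 0x138) (.leaf 0x139))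 (.node 1 (.leaf 0x13a) (.leaf 0x13b))) (.node 2 (.node 1 (.leaf 0x1e2) (.leaf 0x1e3)) (.node 1 (.leaf 0x1e0) (.leaf 0x1e1)))) (.node 4 (.node 2 (.node 1 (.leaf 0x15a) (.leaf 0x15b)) (.node 1 (.leaf 0x158) (.leaf 0x159))) (.node 2 (.node 1 (.leaf 0x1b6) (.leaf 0x1b7)) (.node 1 (.leaf 0x1b4) (.leaf 0x1b5))))) (.node 8 (.node 4 (.node 2 (.node 1 (.leaf 0x11a) (.leaf 0x11b)) (.node 1 (.leaf 0x118) (.leaf 0x119))) (.node 2 (.node 1 (.leaf 0x154) (.leaf 0x155)) (.node 1 (.leaf 0x156) (.leaf 0x157)))) (.node 4 (.node 2 (.node 1 (.leaf 0x1b2) (.leaf 0x1b3)) (.node 1 (.leaf 0x1b0) (.leaf 0x1b1))) (.node 2 (.node 1 (.leaf 0x122) (.leaf 0x123)) (.node 1 (.leaf 0x120) (.leaf 0x121))))))) (.node 32 (.node 16 (.node 8 (.node 4 (.node 2 (.node 1 (.leaf 0x15e) (.leaf 0x15f)) (.node 1 (.leaf 0x15c) (.leaf 0x15d))) (.node 2 (.node 1 (.leaf 0x10e) (.leaf 0x10f)) (.node 1 (.leaf 0x10c)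 (.leaf 0x10d)))) (.node 4 (.node 2 (.node 1 (.leaf 0x166) (.leaf 0x167)) (.node 1 (.leaf 0x164) (.leaf 0x165))) (.node 2 (.node 1 (.leaf 0x106) (.leaf 0x107)) (.node 1 (.leaf 0x104) (.leaf 0x105))))) (.node 8 (.node 4 (.node 2 (.node 1 (.leaf 0x16c) (.leaf 0x16d)) (.node 1 (.leaf 0x16e) (.leaf 0x16f))) (.node 2 (.node 1 (.leaf 0x12a) (.leaf 0x12b)) (.node 1 (.leaf 0x128) (.leaf 0x129)))) (.node 4 (.node 2 (.node 1 (.leaf 0xfa) (.leaf 0xfb)) (.node 1 (.leaf 0xf8) (.leaf 0xf9))) (.node 2 (.node 1 (.leaf 0x174) (.leaf 0x175)) (.node 1 (.leaf 0x176) (.leaf 0x177)))))) (.node 16 (.node 8 (.node 4 (.node 2 (.node 1 (.leaf 0x1c2) (.leaf 0x1c3)) (.node 1 (.leaf 0x1c0) (.leaf 0x1c1))) (.node 2 (.node 1 (.leaf 0x11e) (.leaf 0x11f)) (.node 1 (.leaf 0x11c) (.leaf 0x11d)))) (.node 4 (.node 2 (.node 1 (.leaf 0x130) (.leaf 0x131)) (.node 1 (.leaf 0x132) (.leaf 0x133))) (.node 2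 (.node 1 (.leaf 0x12c) (.leaf 0x12d)) (.node 1 (.leaf 0x12e) (.leaf 0x12f))))) (.node 8 (.node 4 (.node 2 (.node 1 (.leaf 0x168) (.leaf 0x169)) (.node 1 (.leaf 0x16a) (.leaf 0x16b))) (.node 2 (.node 1 (.leaf 0x10a) (.leaf 0x10b)) (.node 1 (.leaf 0x108) (.leaf 0x109)))) (.node 4 (.node 2 (.node 1 (.leaf 0x134) (.leaf 0x135)) (.node 1 (.leaf 0x136) (.leaf 0x137))) (.node 2 (.node 1 (.leaf 0x1ea) (.leaf 0x1eb)) (.node 1 (.leaf 0x1e8) (.leaf 0x1e9)))))))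

def mulP_29 : Tree :=
  .node 64 (.node 32 (.node 16 (.node 8 (.node 4 (.node 2 (.node 1 (.leaf 0x1d6) (.leaf 0x1d7)) (.node 1 (.leaf 0x1d4) (.leaf 0x1d5))) (.node 2 (.node 1 (.leaf 0x1ba) (.leaf 0x1bb)) (.node 1 (.leaf 0x1b8) (.leaf 0x1b9)))) (.node 4 (.node 2 (.node 1 (.leaf 0x186) (.leaf 0x187)) (.node 1 (.leaf 0x184) (.leaf 0x185))) (.node 2 (.node 1 (.leaf 0x182) (.leaf 0x183)) (.node 1 (.leaf 0x180) (.leaf 0x181))))) (.node 8 (.node 4 (.node 2 (.node 1 (.leaf 0x1da) (.leaf 0x1db)) (.node 1 (.leaf 0x1d8) (.leaf 0x1d9))) (.node 2 (.node 1 (.leaf 0x110) (.leaf 0x111)) (.node 1 (.leaf 0x112) (.leaf 0x113)))) (.node 4 (.node 2 (.node 1 (.leaf 0x124) (.leaf 0x125)) (.node 1 (.leaf 0x126) (.leaf 0x127))) (.node 2 (.node 1 (.leaf 0x1c6) (.leaf 0x1c7)) (.node 1 (.leaf 0x1c4) (.leaf 0x1c5)))))) (.node 16 (.node 8 (.node 4 (.node 2 (.node 1 (.leaf 0x1f2) (.leaf 0x1f3))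 (.node 1 (.leaf 0x1f0) (.leaf 0x1f1))) (.node 2 (.node 1 (.leaf 0x1ee) (.leaf 0x1ef)) (.node 1 (.leaf 0x1ec) (.leaf 0x1ed)))) (.node 4 (.node 2 (.node 1 (.leaf 0x1aa) (.leaf 0x1ab)) (.node 1 (.leaf 0x1a8) (.leaf 0x1a9))) (.node 2 (.node 1 (.leaf 0x1fe) (.leaf 0x1ff)) (.node 1 (.leaf 0x1fc) (.leaf 0x1fd))))) (.node 8 (.node 4 (.node 2 (.node 1 (.leaf 0x19a) (.leaf 0x19b)) (.node 1 (.leaf 0x198) (.leaf 0x199))) (.node 2 (.node 1 (.leaf 0x172) (.leaf 0x173)) (.node 1 (.leaf 0x170) (.leaf 0x171)))) (.node 4 (.node 2 (.node 1 (.leaf 0x1e6) (.leaf 0x1e7)) (.node 1 (.leaf 0x1e4) (.leaf 0x1e5))) (.node 2 (.node 1 (.leaf 0x1fa) (.leaf 0x1fb)) (.node 1 (.leaf 0x1f8) (.leaf 0x1f9))))))) (.node 32 (.node 16 (.node 8 (.node 4 (.node 2 (.node 1 (.leaf 0x18e) (.leaf 0x18f)) (.node 1 (.leaf 0x18c) (.leaf 0x18d))) (.node 2 (.node 1 (.leaf 0x196) (.leaf 0x197)) (.node 1 (.leaf 0x194)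 (.leaf 0x195)))) (.node 4 (.node 2 (.node 1 (.leaf 0x13e) (.leaf 0x13f)) (.node 1 (.leaf 0x13c) (.leaf 0x13d))) (.node 2 (.node 1 (.leaf 0x19e) (.leaf 0x19f)) (.node 1 (.leaf 0x19c) (.leaf 0x19d))))) (.node 8 (.node 4 (.node 2 (.node 1 (.leaf 0x192) (.leaf 0x193)) (.node 1 (.leaf 0x190) (.leaf 0x191))) (.node 2 (.node 1 (.leaf 0x18a) (.leaf 0x18b)) (.node 1 (.leaf 0x188) (.leaf 0x189)))) (.node 4 (.node 2 (.node 1 (.leaf 0x1ce) (.leaf 0x1cf)) (.node 1 (.leaf 0x1cc) (.leaf 0x1cd))) (.node 2 (.node 1 (.leaf 0x1ca) (.leaf 0x1cb)) (.node 1 (.leaf 0x1c8) (.leaf 0x1c9)))))) (.node 16 (.node 8 (.node 4 (.node 2 (.node 1 (.leaf 0x1f6) (.leaf 0x1f7)) (.node 1 (.leaf 0x1f4) (.leaf 0x1f5))) (.node 2 (.node 1 (.leaf 0x1d2) (.leaf 0x1d3)) (.node 1 (.leaf 0x1d0) (.leaf 0x1d1)))) (.node 4 (.node 2 (.node 1 (.leaf 0x1de) (.leaf 0x1df)) (.node 1 (.leaf 0x1dc) (.leaf 0x1dd))) (.node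 2 (.node 1 (.leaf 0x146) (.leaf 0x147)) (.node 1 (.leaf 0x144) (.leaf 0x145))))) (.node 8 (.node 4 (.node 2 (.node 1 (.leaf 0x14e) (.leaf 0x14f)) (.node 1 (.leaf 0x14c) (.leaf 0x14d))) (.node 2 (.node 1 (.leaf 0x142) (.leaf 0x143)) (.node 1 (.leaf 0x140) (.leaf 0x141)))) (.node 4 (.node 2 (.node 1 (.leaf 0x5a) (.leaf 0x5b)) (.node 1 (.leaf 0x58) (.leaf 0x59))) (.node 2 (.node 1 (.leaf 0x14a) (.leaf 0x14b)) (.node 1 (.leaf 0x148) (.leaf 0x149)))))))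

def mulP_30 : Tree :=
  .node 64 (.node 32 (.node 16 (.node 8 (.node 4 (.node 2 (.node 1 (.leaf 0x116) (.leaf 0x117)) (.node 1 (.leaf 0x114) (.leaf 0x115))) (.node 2 (.node 1 (.leaf 0x4e) (.leaf 0x4f)) (.node 1 (.leaf 0x4c) (.leaf 0x4d)))) (.node 4 (.node 2 (.node 1 (.leaf 0x76) (.leaf 0x77)) (.node 1 (.leaf 0x74) (.leaf 0x75))) (.node 2 (.node 1 (.leaf 0x46) (.leaf 0x47)) (.node 1 (.leaf 0x44) (.leaf 0x45))))) (.node 8 (.node 4 (.node 2 (.node 1 (.leaf 0x94) (.leaf 0x95)) (.node 1 (.leaf 0x96) (.leaf 0x97))) (.node 2 (.node 1 (.leaf 0x102) (.leaf 0x103)) (.node 1 (.leaf 0x100) (.leaf 0x101)))) (.node 4 (.node 2 (.node 1 (.leaf 0x32) (.leaf 0x33)) (.node 1 (.leaf 0x30) (.leaf 0x31))) (.node 2 (.node 1 (.leaf 0x66) (.leaf 0x67)) (.node 1 (.leaf 0x64) (.leaf 0x65)))))) (.node 16 (.node 8 (.node 4 (.node 2 (.node 1 (.leaf 0x3e) (.leaf 0x3f)) (.node 1 (.leaf 0x3c) (.leaf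 0x3d))) (.node 2 (.node 1 (.leaf 0x98) (.leaf 0x99)) (.node 1 (.leaf 0x9a) (.leaf 0x9b)))) (.node 4 (.node 2 (.node 1 (.leaf 0x56) (.leaf 0x57)) (.node 1 (.leaf 0x54) (.leaf 0x55))) (.node 2 (.node 1 (.leaf 0x6c) (.leaf 0x6d)) (.node 1 (.leaf 0x6e) (.leaf 0x6f))))) (.node 8 (.node 4 (.node 2 (.node 1 (.leaf 0x68) (.leaf 0x69)) (.node 1 (.leaf 0x6a) (.leaf 0x6b))) (.node 2 (.node 1 (.leaf 0x78) (.leaf 0x79)) (.node 1 (.leaf 0x7a) (.leaf 0x7b)))) (.node 4 (.node 2 (.node 1 (.leaf 0x20) (.leaf 0x21)) (.node 1 (.leaf 0x22) (.leaf 0x23))) (.node 2 (.node 1 (.leaf 0xca) (.leaf 0xcb)) (.node 1 (.leaf 0xc8) (.leaf 0xc9))))))) (.node 32 (.node 16 (.node 8 (.node 4 (.node 2 (.node 1 (.leaf 0xf6) (.leaf 0xf7)) (.node 1 (.leaf 0xf4) (.leaf 0xf5))) (.node 2 (.node 1 (.leaf 0xee) (.leaf 0xef)) (.node 1 (.leaf 0xec) (.leaf 0xed)))) (.node 4 (.node 2 (.node 1 (.leaf 0xfe) (.leaf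 0xff)) (.node 1 (.leaf 0xfc) (.leaf 0xfd))) (.node 2 (.node 1 (.leaf 0xf2) (.leaf 0xf3)) (.node 1 (.leaf 0xf0) (.leaf 0xf1))))) (.node 8 (.node 4 (.node 2 (.node 1 (.leaf 0x18) (.leaf 0x19)) (.node 1 (.leaf 0x1a) (.leaf 0x1b))) (.node 2 (.node 1 (.leaf 0x34) (.leaf 0x35)) (.node 1 (.leaf 0x36) (.leaf 0x37)))) (.node 4 (.node 2 (.node 1 (.leaf 0x2a) (.leaf 0x2b)) (.node 1 (.leaf 0x28) (.leaf 0x29))) (.node 2 (.node 1 (.leaf 0x42) (.leaf 0x43)) (.node 1 (.leaf 0x40) (.leaf 0x41)))))) (.node 16 (.node 8 (.node 4 (.node 2 (.node 1 (.leaf 0x16) (.leaf 0x17)) (.node 1 (.leaf 0x14) (.leaf 0x15))) (.node 2 (.node 1 (.leaf 0x4a) (.leaf 0x4b)) (.node 1 (.leaf 0x48) (.leaf 0x49)))) (.node 4 (.node 2 (.node 1 (.leaf 0x70) (.leaf 0x71)) (.node 1 (.leaf 0x72) (.leaf 0x73))) (.node 2 (.node 1 (.leaf 0x50) (.leaf 0x51)) (.node 1 (.leaf 0x52) (.leaf 0x53))))) (.node 8 (.node 4 (.node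 2 (.node 1 (.leaf 0xb6) (.leaf 0xb7)) (.node 1 (.leaf 0xb4) (.leaf 0xb5))) (.node 2 (.node 1 (.leaf 0x5c) (.leaf 0x5d)) (.node 1 (.leaf 0x5e) (.leaf 0x5f)))) (.node 4 (.node 2 (.node 1 (.leaf 0xd) (.leaf 0x0)) (.node 1 (.leaf 0xe) (.leaf 0xf))) (.node 2 (.node 1 (.leaf 0x9) (.leaf 0xa)) (.node 1 (.leaf 0xb) (.leaf 0xc)))))))

def mulP_31 : Tree :=
  .node 64 (.node 32 (.node 16 (.node 8 (.node 4 (.node 2 (.node 1 (.leaf 0x8e) (.leaf 0x8f)) (.node 1 (.leaf 0x8c) (.leaf 0x8d))) (.node 2 (.node 1 (.leaf 0x8a) (.leaf 0x8b)) (.node 1 (.leaf 0x88) (.leaf 0x89)))) (.node 4 (.node 2 (.node 1 (.leaf 0xd6) (.leaf 0xd7)) (.node 1 (.leaf 0xd4) (.leaf 0xd5))) (.node 2 (.node 1 (.leaf 0xc2) (.leaf 0xc3)) (.node 1 (.leaf 0xc0) (.leaf 0xc1))))) (.node 8 (.node 4 (.node 2 (.node 1 (.leaf 0xd2) (.leaf 0xd3)) (.node 1 (.leaf 0xd0) (.leaf 0xd1))) (.node 2 (.node 1 (.leaf 0xc6) (.leaf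 0xc7)) (.node 1 (.leaf 0xc4) (.leaf 0xc5)))) (.node 4 (.node 2 (.node 1 (.leaf 0xb2) (.leaf 0xb3)) (.node 1 (.leaf 0xb0) (.leaf 0xb1))) (.node 2 (.node 1 (.leaf 0xce) (.leaf 0xcf)) (.node 1 (.leaf 0xcc) (.leaf 0xcd)))))) (.node 16 (.node 8 (.node 4 (.node 2 (.node 1 (.leaf 0x5) (.leaf 0x6)) (.node 1 (.leaf 0x7) (.leaf 0x8))) (.node 2 (.node 1 (.leaf 0x12) (.leaf 0x13)) (.node 1 (.leaf 0x10) (.leaf 0x11)))) (.node 4 (.node 2 (.node 1 (.leaf 0xaa) (.leaf 0xab)) (.node 1 (.leaf 0xa8) (.leaf 0xa9))) (.node 2 (.node 1 (.leaf 0x1c) (.leaf 0x1d)) (.node 1 (.leaf 0x1e) (.leaf 0x1f))))) (.node 8 (.node 4 (.node 2 (.node 1 (.leaf 0x3a) (.leaf 0x3b)) (.node 1 (.leaf 0x38) (.leaf 0x39))) (.node 2 (.node 1 (.leaf 0x2e) (.leaf 0x2f)) (.node 1 (.leaf 0x2c) (.leaf 0x2d)))) (.node 4 (.node 2 (.node 1 (.leaf 0x86) (.leaf 0x87)) (.node 1 (.leaf 0x84) (.leaf 0x85))) (.node 2 (.node 1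 (.leaf 0x1) (.leaf 0x2)) (.node 1 (.leaf 0x3) (.leaf 0x4))))))) (.node 32 (.node 16 (.node 8 (.node 4 (.node 2 (.node 1 (.leaf 0x62) (.leaf 0x63)) (.node 1 (.leaf 0x60) (.leaf 0x61))) (.node 2 (.node 1 (.leaf 0x9e) (.leaf 0x9f)) (.node 1 (.leaf 0x9c) (.leaf 0x9d)))) (.node 4 (.node 2 (.node 1 (.leaf 0xde) (.leaf 0xdf)) (.node 1 (.leaf 0xdc) (.leaf 0xdd))) (.node 2 (.node 1 (.leaf 0xda) (.leaf 0xdb)) (.node 1 (.leaf 0xd8) (.leaf 0xd9))))) (.node 8 (.node 4 (.node 2 (.node 1 (.leaf 0xe6) (.leaf 0xe7)) (.node 1 (.leaf 0xe4) (.leaf 0xe5))) (.node 2 (.node 1 (.leaf 0x82) (.leaf 0x83)) (.node 1 (.leaf 0x80) (.leaf 0x81)))) (.node 4 (.node 2 (.node 1 (.leaf 0x92) (.leaf 0x93)) (.node 1 (.leaf 0x90) (.leaf 0x91))) (.node 2 (.node 1 (.leaf 0xea) (.leaf 0xeb)) (.node 1 (.leaf 0xe8) (.leaf 0xe9)))))) (.node 16 (.node 8 (.node 4 (.node 2 (.node 1 (.leaf 0x26) (.leaf 0x27)) (.node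 1 (.leaf 0x24) (.leaf 0x25))) (.node 2 (.node 1 (.leaf 0xba) (.leaf 0xbb)) (.node 1 (.leaf 0xb8) (.leaf 0xb9)))) (.node 4 (.node 2 (.node 1 (.leaf 0x7e) (.leaf 0x7f)) (.node 1 (.leaf 0x7c) (.leaf 0x7d))) (.node 2 (.node 1 (.leaf 0xa6) (.leaf 0xa7)) (.node 1 (.leaf 0xa4) (.leaf 0xa5))))) (.node 8 (.node 4 (.node 2 (.node 1 (.leaf 0xa2) (.leaf 0xa3)) (.node 1 (.leaf 0xa0) (.leaf 0xa1))) (.node 2 (.node 1 (.leaf 0xe2) (.leaf 0xe3)) (.node 1 (.leaf 0xe0) (.leaf 0xe1)))) (.node 4 (.node 2 (.node 1 (.leaf 0xbe) (.leaf 0xbf)) (.node 1 (.leaf 0xbc) (.leaf 0xbd))) (.node 2 (.node 1 (.leaf 0xae) (.leaf 0xaf)) (.node 1 (.leaf 0xac) (.leaf 0xad)))))))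

def mulP : Tree :=
  .node 2048 (.node 1024 (.node 512 (.node 256 (.node 128 (mulP_0) (mulP_1)) (.node 128 (mulP_2) (mulP_3))) (.node 256 (.node 128 (mulP_4) (mulP_5)) (.node 128 (mulP_6) (mulP_7)))) (.node 512 (.node 256 (.node 128 (mulP_8) (mulP_9)) (.node 128 (mulP_10) (mulP_11))) (.node 256 (.node 128 (mulP_12) (mulP_13)) (.node 128 (mulP_14) (mulP_15))))) (.node 1024 (.node 512 (.node 256 (.node 128 (mulP_16) (mulP_17)) (.node 128 (mulP_18) (mulP_19))) (.node 256 (.node 128 (mulP_20) (mulP_21)) (.node 128 (mulP_22) (mulP_23)))) (.node 512 (.node 256 (.node 128 (mulP_24) (mulP_25)) (.node 128 (mulP_26) (mulP_27))) (.node 256 (.node 128 (mulP_28) (mulP_29)) (.node 128 (mulP_30) (mulP_31)))))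

def listATree_0 : Tree :=
  .node 64 (.node 32 (.node 16 (.node 8 (.node 4 (.node 2 (.node 1 (.leaf 0x0) (.leaf 0x2)) (.node 1 (.leaf 0x72312673212) (.leaf 0x31212))) (.node 2 (.node 1 (.leaf 0x12) (.leaf 0x32)) (.node 1 (.leaf 0x62) (.leaf 0x72)))) (.node 4 (.node 2 (.node 1 (.leaf 0x672312672) (.leaf 0x212712)) (.node 1 (.leaf 0x21274326432) (.leaf 0x72673263212))) (.node 2 (.node 1 (.leaf 0x2312673212) (.leaf 0x6212)) (.node 1 (.leaf 0x2732672) (.leaf 0x3212))))) (.node 8 (.node 4 (.node 2 (.node 1 (.leaf 0x231212) (.leaf 0x1212)) (.node 1 (.leaf 0x631212) (.leaf 0x731212))) (.node 2 (.node 1 (.leaf 0x1264327432) (.leaf 0x21273212)) (.node 1 (.leaf 0x212) (.leaf 0x312)))) (.node 4 (.node 2 (.node 1 (.leaf 0x612) (.leaf 0x712)) (.node 1 (.leaf 0x212732612) (.leaf 0x312712))) (.node 2 (.node 1 (.leaf 0x632) (.leaf 0x732)) (.node 1 (.leaf 0x3126732) (.leaf 0x327312))))))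 (.node 16 (.node 8 (.node 4 (.node 2 (.node 1 (.leaf 0x762) (.leaf 0x6327212)) (.node 1 (.leaf 0x672) (.leaf 0x312127632))) (.node 2 (.node 1 (.leaf 0x627632712) (.leaf 0x2672312672)) (.node 1 (.leaf 0x612312672) (.leaf 0x72312672)))) (.node 4 (.node 2 (.node 1 (.leaf 0x127212) (.leaf 0x62312763212)) (.node 1 (.leaf 0x12712) (.leaf 0x271212))) (.node 2 (.node 1 (.leaf 0x31263212) (.leaf 0x1274326432)) (.node 1 (.leaf 0x2712312762) (.leaf 0x3212632762))))) (.node 8 (.node 4 (.node 2 (.node 1 (.leaf 0x262312) (.leaf 0x72612)) (.node 1 (.leaf 0x72312623212) (.leaf 0x2673263212))) (.node 2 (.node 1 (.leaf 0x612762) (.leaf 0x312673212)) (.node 1 (.leaf 0x212632762) (.leaf 0x74326432)))) (.node 4 (.node 2 (.node 1 (.leaf 0x61212) (.leaf 0x26212)) (.node 1 (.leaf 0x63212) (.leaf 0x76212))) (.node 2 (.node 1 (.leaf 0x32762) (.leaf 0x7312672)) (.node 1 (.leaf 0x12732672) (.leaf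 0x732672))))))) (.node 32 (.node 16 (.node 8 (.node 4 (.node 2 (.node 1 (.leaf 0x2732612) (.leaf 0x62732672)) (.node 1 (.leaf 0x26327312) (.leaf 0x1273263212))) (.node 2 (.node 1 (.leaf 0x23212) (.leaf 0x73212)) (.node 1 (.leaf 0x72632762) (.leaf 0x31273212)))) (.node 4 (.node 2 (.node 1 (.leaf 0x72312762) (.leaf 0x12312)) (.node 1 (.leaf 0x71212) (.leaf 0x63273212))) (.node 2 (.node 1 (.leaf 0x327212) (.leaf 0x673212)) (.node 1 (.leaf 0x672312) (.leaf 0x632723212))))) (.node 8 (.node 4 (.node 2 (.node 1 (.leaf 0x763212) (.leaf 0x3127263212)) (.node 1 (.leaf 0x2312) (.leaf 0x264327432))) (.node 2 (.node 1 (.leaf 0x21264327432) (.leaf 0x1263127312)) (.node 1 (.leaf 0x12723212) (.leaf 0x62312672)))) (.node 4 (.node 2 (.node 1 (.leaf 0x1273212) (.leaf 0x27123212)) (.node 1 (.leaf 0x312612) (.leaf 0x7212))) (.node 2 (.node 1 (.leaf 0x267212) (.leaf 0x6312)) (.node 1 (.leaf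 0x7312) (.leaf 0x26723212)))))) (.node 16 (.node 8 (.node 4 (.node 2 (.node 1 (.leaf 0x2612) (.leaf 0x7326212)) (.node 1 (.leaf 0x2712) (.leaf 0x273126312))) (.node 2 (.node 1 (.leaf 0x6273263212) (.leaf 0x12732612)) (.node 1 (.leaf 0x7263273212) (.leaf 0x627326212)))) (.node 4 (.node 2 (.node 1 (.leaf 0x726312) (.leaf 0x32712)) (.node 1 (.leaf 0x3276212) (.leaf 0x3127212))) (.node 2 (.node 1 (.leaf 0x2632712) (.leaf 0x273212)) (.node 1 (.leaf 0x2632) (.leaf 0x7632))))) (.node 8 (.node 4 (.node 2 (.node 1 (.leaf 0x312126732) (.leaf 0x2732)) (.node 1 (.leaf 0x6732) (.leaf 0x62312723212))) (.node 2 (.node 1 (.leaf 0x212312) (.leaf 0x326732)) (.node 1 (.leaf 0x23126732) (.leaf 0x126732)))) (.node 4 (.node 2 (.node 1 (.leaf 0x3272312) (.leaf 0x63127312)) (.node 1 (.leaf 0x2672312) (.leaf 0x27263212))) (.node 2 (.node 1 (.leaf 0x3127312) (.leaf 0x27312)) (.node 1 (.leaf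 0x6327312) (.leaf 0x762712)))))))

def listATree_1 : Tree :=
  .node 64 (.node 32 (.node 16 (.node 8 (.node 4 (.node 2 (.node 1 (.leaf 0x2762) (.leaf 0x212612)) (.node 1 (.leaf 0x7632712) (.leaf 0x26327212))) (.node 2 (.node 1 (.leaf 0x627212) (.leaf 0x327623212)) (.node 1 (.leaf 0x2672) (.leaf 0x32763212)))) (.node 4 (.node 2 (.node 1 (.leaf 0x32127632) (.leaf 0x126327212)) (.node 1 (.leaf 0x12127632) (.leaf 0x312762312))) (.node 2 (.node 1 (.leaf 0x6127326212) (.leaf 0x623127212)) (.node 1 (.leaf 0x27632712) (.leaf 0x3264327432))))) (.node 8 (.node 4 (.node 2 (.node 1 (.leaf 0x7263127312) (.leaf 0x2612312672)) (.node 1 (.leaf 0x12312672) (.leaf 0x272312672))) (.node 2 (.node 1 (.leaf 0x2312672) (.leaf 0x12632712)) (.node 1 (.leaf 0x232126732) (.leaf 0x27212)))) (.node 4 (.node 2 (.node 1 (.leaf 0x27312672) (.leaf 0x62763273212)) (.node 1 (.leaf 0x2312763212) (.leaf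 0x276212))) (.node 2 (.node 1 (.leaf 0x3263212) (.leaf 0x1263212)) (.node 1 (.leaf 0x312623212) (.leaf 0x326723212)))))) (.node 16 (.node 8 (.node 4 (.node 2 (.node 1 (.leaf 0x6232127632) (.leaf 0x274326432)) (.node 1 (.leaf 0x2762312762) (.leaf 0x1273126312))) (.node 2 (.node 1 (.leaf 0x32623212) (.leaf 0x126327312)) (.node 1 (.leaf 0x712312762) (.leaf 0x326312)))) (.node 4 (.node 2 (.node 1 (.leaf 0x3274326432) (.leaf 0x272632)) (.node 1 (.leaf 0x62312) (.leaf 0x3262312))) (.node 2 (.node 1 (.leaf 0x26312) (.leaf 0x127632)) (.node 1 (.leaf 0x72672) (.leaf 0x732612))))) (.node 8 (.node 4 (.node 2 (.node 1 (.leaf 0x672612) (.leaf 0x12312762)) (.node 1 (.leaf 0x32612) (.leaf 0x2312623212))) (.node 2 (.node 1 (.leaf 0x673263212) (.leaf 0x21263212)) (.node 1 (.leaf 0x762312762) (.leaf 0x62762)))) (.node 4 (.node 2 (.node 1 (.leaf 0x712672) (.leaf 0x6312762)) (.node 1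 (.leaf 0x12762) (.leaf 0x3127632))) (.node 2 (.node 1 (.leaf 0x3267212) (.leaf 0x32673212)) (.node 1 (.leaf 0x12673212) (.leaf 0x3126273212))))))) (.node 32 (.node 16 (.node 8 (.node 4 (.node 2 (.node 1 (.leaf 0x26732) (.leaf 0x12632762)) (.node 1 (.leaf 0x4326432) (.leaf 0x12612))) (.node 2 (.node 1 (.leaf 0x261212) (.leaf 0x67212)) (.node 1 (.leaf 0x126212) (.leaf 0x326212)))) (.node 4 (.node 2 (.node 1 (.leaf 0x726212) (.leaf 0x263212)) (.node 1 (.leaf 0x623126732) (.leaf 0x732623212))) (.node 2 (.node 1 (.leaf 0x312762) (.leaf 0x327632)) (.node 1 (.leaf 0x632762) (.leaf 0x72632712))))) (.node 8 (.node 4 (.node 2 (.node 1 (.leaf 0x312672) (.leaf 0x262312762)) (.node 1 (.leaf 0x212732672) (.leaf 0x262732))) (.node 2 (.node 1 (.leaf 0x32672) (.leaf 0x62732612)) (.node 1 (.leaf 0x27326312) (.leaf 0x1263273212)))) (.node 4 (.node 2 (.node 1 (.leaf 0x123126732) (.leaf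 0x12763212)) (.node 1 (.leaf 0x62712) (.leaf 0x62723212))) (.node 2 (.node 1 (.leaf 0x273263212) (.leaf 0x6123127632)) (.node 1 (.leaf 0x7126327212) (.leaf 0x127326212)))))) (.node 16 (.node 8 (.node 4 (.node 2 (.node 1 (.leaf 0x123212) (.leaf 0x623212)) (.node 1 (.leaf 0x723212) (.leaf 0x27632))) (.node 2 (.node 1 (.leaf 0x72312) (.leaf 0x123127632)) (.node 1 (.leaf 0x2632762) (.leaf 0x7263212)))) (.node 4 (.node 2 (.node 1 (.leaf 0x72623212) (.leaf 0x3273212)) (.node 1 (.leaf 0x312723212) (.leaf 0x272312))) (.node 2 (.node 1 (.leaf 0x726732612) (.leaf 0x2312762)) (.node 1 (.leaf 0x232127632) (.leaf 0x612312))))) (.node 8 (.node 4 (.node 2 (.node 1 (.leaf 0x712312) (.leaf 0x62732)) (.node 1 (.leaf 0x263273212) (.leaf 0x6273212))) (.node 2 (.node 1 (.leaf 0x763273212) (.leaf 0x6127312)) (.node 1 (.leaf 0x127312) (.leaf 0x2673212)))) (.node 4 (.node 2 (.node 1 (.leaf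 0x762312) (.leaf 0x6723212)) (.node 1 (.leaf 0x72632) (.leaf 0x32723212))) (.node 2 (.node 1 (.leaf 0x2763212) (.leaf 0x327263212)) (.node 1 (.leaf 0x127263212) (.leaf 0x312763212)))))))

def listATree_2 : Tree :=
  .node 29 (.node 14 (.node 7 (.node 3 (.node 1 (.leaf 0x2623212) (.node 1 (.leaf 0x3262732) (.leaf 0x64327432))) (.node 2 (.node 1 (.leaf 0x263127312) (.leaf 0x3212732672)) (.node 1 (.leaf 0x2312762312) (.leaf 0x2723212)))) (.node 3 (.node 1 (.leaf 0x76273212) (.node 1 (.leaf 0x27623212) (.leaf 0x7123212))) (.node 2 (.node 1 (.leaf 0x3126212) (.leaf 0x212632712)) (.node 1 (.leaf 0x12672) (.leaf 0x632712))))) (.node 7 (.node 3 (.node 1 (.leaf 0x6732612) (.node 1 (.leaf 0x27326212) (.leaf 0x62312762))) (.node 2 (.node 1 (.leaf 0x73126312) (.leaf 0x2312672312)) (.node 1 (.leaf 0x6273126312) (.leaf 0x127326312)))) (.node 4 (.node 2 (.node 1 (.leaf 0x126273212)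 (.leaf 0x326273212)) (.node 1 (.leaf 0x7126312) (.leaf 0x627312))) (.node 2 (.node 1 (.leaf 0x7326312) (.leaf 0x23127632)) (.node 1 (.leaf 0x23127212) (.leaf 0x4327432)))))) (.node 15 (.node 7 (.node 3 (.node 1 (.leaf 0x723126732) (.node 1 (.leaf 0x6123212) (.leaf 0x32126732))) (.node 2 (.node 1 (.leaf 0x12126732) (.leaf 0x312672312)) (.node 1 (.leaf 0x2312723212) (.leaf 0x2126732)))) (.node 4 (.node 2 (.node 1 (.leaf 0x32672312) (.leaf 0x12672312)) (.node 1 (.leaf 0x726327212) (.leaf 0x32762312))) (.node 2 (.node 1 (.leaf 0x2127632) (.leaf 0x623127632)) (.node 1 (.leaf 0x12762312) (.leaf 0x67263212))))) (.node 7 (.node 3 (.node 1 (.leaf 0x723127632) (.node 1 (.leaf 0x26312762) (.leaf 0x2763273212))) (.node 2 (.node 1 (.leaf 0x73263212) (.leaf 0x26273212)) (.node 1 (.leaf 0x12623212) (.leaf 0x23126212)))) (.node 4 (.node 2 (.node 1 (.leaf 0x3126312) (.leaf 0x3272632))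 (.node 1 (.leaf 0x126312) (.leaf 0x7623212))) (.node 2 (.node 1 (.leaf 0x2762312) (.leaf 0x26732612)) (.node 1 (.leaf 0x26123212) (.leaf 0x723126212))))))

def listATree : Tree :=
  .node 128 (listATree_0) (.node 128 (listATree_1) (listATree_2))

def listA (i : ℕ) : List ℕ := decode 1000 (listATree.get i)

def candA (i : ℕ) : List ℕ := conjW (listA i) [0]

def candsA : List (List ℕ) := (List.range 315).map candA

def conjA_0 : Tree :=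
  .node 64 (.node 32 (.node 16 (.node 8 (.node 4 (.node 2 (.node 1 (.leaf 0x0) (.leaf 0x4)) (.node 1 (.leaf 0xa) (.leaf 0xf))) (.node 2 (.node 1 (.leaf 0x1) (.leaf 0x17)) (.node 1 (.leaf 0x18) (.leaf 0x19)))) (.node 4 (.node 2 (.node 1 (.leaf 0x24) (.leaf 0x9)) (.node 1 (.leaf 0x2) (.leaf 0x2e))) (.node 2 (.node 1 (.leaf 0x2f) (.leaf 0x38)) (.node 1 (.leaf 0x3e) (.leaf 0x3))))) (.node 8 (.node 4 (.node 2 (.node 1 (.leaf 0x10) (.leaf 0x16)) (.node 1 (.leaf 0x3a) (.leaf 0x45))) (.node 2 (.node 1 (.leaf 0x53) (.leaf 0x15)) (.node 1 (.leaf 0x11) (.leaf 0x5)))) (.node 4 (.node 2 (.node 1 (.leaf 0x6) (.leaf 0x7)) (.node 1 (.leaf 0x64) (.leaf 0x69))) (.node 2 (.node 1 (.leaf 0x5d) (.leaf 0x5e)) (.node 1 (.leaf 0x75) (.leaf 0x7c)))))) (.node 16 (.node 8 (.node 4 (.node 2 (.node 1 (.leaf 0x22) (.leaf 0x82)) (.node 1 (.leaf 0x20) (.leaf 0x88))) (.node 2 (.node 1 (.leaf 0x8)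 (.leaf 0x8f)) (.node 1 (.leaf 0x57) (.leaf 0x8e)))) (.node 4 (.node 2 (.node 1 (.leaf 0x97) (.leaf 0x54)) (.node 1 (.leaf 0x62) (.leaf 0x2b))) (.node 2 (.node 1 (.leaf 0x9c) (.leaf 0xa1)) (.node 1 (.leaf 0xb) (.leaf 0xc))))) (.node 8 (.node 4 (.node 2 (.node 1 (.leaf 0xa9) (.leaf 0x5c)) (.node 1 (.leaf 0x32) (.leaf 0x36))) (.node 2 (.node 1 (.leaf 0xb7) (.leaf 0xbd)) (.node 1 (.leaf 0x33) (.leaf 0x37)))) (.node 4 (.node 2 (.node 1 (.leaf 0xd) (.leaf 0xc6)) (.node 1 (.leaf 0x12) (.leaf 0xc5))) (.node 2 (.node 1 (.leaf 0xcc) (.leaf 0x3f)) (.node 1 (.leaf 0xe) (.leaf 0x3d))))))) (.node 32 (.node 16 (.node 8 (.node 4 (.node 2 (.node 1 (.leaf 0x65) (.leaf 0xcf)) (.node 1 (.leaf 0xa5) (.leaf 0xdc))) (.node 2 (.node 1 (.leaf 0xe0) (.leaf 0x13)) (.node 1 (.leaf 0xd5) (.leaf 0xe9)))) (.node 4 (.node 2 (.node 1 (.leaf 0xa6) (.leaf 0x52)) (.node 1 (.leaf 0x5b) (.leaf 0x85)))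 (.node 2 (.node 1 (.leaf 0x6b) (.leaf 0x50)) (.node 1 (.leaf 0xf8) (.leaf 0xf4))))) (.node 8 (.node 4 (.node 2 (.node 1 (.leaf 0x4d) (.leaf 0xfd)) (.node 1 (.leaf 0x49) (.leaf 0x14))) (.node 2 (.node 1 (.leaf 0x29) (.leaf 0x103)) (.node 1 (.leaf 0x106) (.leaf 0x26)))) (.node 4 (.node 2 (.node 1 (.leaf 0x6d) (.leaf 0x59)) (.node 1 (.leaf 0xb2) (.leaf 0x4a))) (.node 2 (.node 1 (.leaf 0x31) (.leaf 0x1c)) (.node 1 (.leaf 0x1d) (.leaf 0xe7)))))) (.node 16 (.node 8 (.node 4 (.node 2 (.node 1 (.leaf 0xc3) (.leaf 0x10e)) (.node 1 (.leaf 0x2a) (.leaf 0xa3))) (.node 2 (.node 1 (.leaf 0x1a) (.leaf 0x40)) (.node 1 (.leaf 0x10b) (.leaf 0x8c)))) (.node 4 (.node 2 (.node 1 (.leaf 0x117) (.leaf 0x1b)) (.node 1 (.leaf 0x10d) (.leaf 0x4c))) (.node 2 (.node 1 (.leaf 0x95) (.leaf 0x58)) (.node 1 (.leaf 0x6e) (.leaf 0x72))))) (.node 8 (.node 4 (.node 2 (.node 1 (.leaf 0x11f) (.leaf 0x71))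 (.node 1 (.leaf 0x6f) (.leaf 0x73))) (.node 2 (.node 1 (.leaf 0x74) (.leaf 0x1e)) (.node 1 (.leaf 0xd8) (.leaf 0xc0)))) (.node 4 (.node 2 (.node 1 (.leaf 0x101) (.leaf 0x7e)) (.node 1 (.leaf 0x125) (.leaf 0xfe))) (.node 2 (.node 1 (.leaf 0x1f) (.leaf 0xf6)) (.node 1 (.leaf 0x79) (.leaf 0x84)))))))

def conjA_1 : Tree :=
  .node 64 (.node 32 (.node 16 (.node 8 (.node 4 (.node 2 (.node 1 (.leaf 0xba) (.leaf 0x81)) (.node 1 (.leaf 0x21) (.leaf 0x89))) (.node 2 (.node 1 (.leaf 0x7f) (.leaf 0x4b)) (.node 1 (.leaf 0x10c) (.leaf 0xff)))) (.node 4 (.node 2 (.node 1 (.leaf 0x23) (.leaf 0x83)) (.node 1 (.leaf 0x128) (.leaf 0x127))) (.node 2 (.node 1 (.leaf 0x67) (.leaf 0x8d)) (.node 1 (.leaf 0x27) (.leaf 0x25))))) (.node 8 (.node 4 (.node 2 (.node 1 (.leaf 0x105) (.leaf 0x99)) (.node 1 (.leaf 0x94) (.leaf 0xee))) (.node 2 (.node 1 (.leaf 0x92) (.leaf 0x6c)) (.node 1 (.leaf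 0xd1) (.leaf 0x28)))) (.node 4 (.node 2 (.node 1 (.leaf 0xca) (.leaf 0x91)) (.node 1 (.leaf 0x104) (.leaf 0xda))) (.node 2 (.node 1 (.leaf 0x2c) (.leaf 0xc9)) (.node 1 (.leaf 0xa4) (.leaf 0x12f)))))) (.node 16 (.node 8 (.node 4 (.node 2 (.node 1 (.leaf 0x11d) (.leaf 0x2d)) (.node 1 (.leaf 0xa8) (.leaf 0x63))) (.node 2 (.node 1 (.leaf 0x9e) (.leaf 0x42)) (.node 1 (.leaf 0x48) (.leaf 0x133)))) (.node 4 (.node 2 (.node 1 (.leaf 0xa2) (.leaf 0x30)) (.node 1 (.leaf 0xef) (.leaf 0x134))) (.node 2 (.node 1 (.leaf 0x135) (.leaf 0xe3)) (.node 1 (.leaf 0xb8) (.leaf 0xbc))))) (.node 8 (.node 4 (.node 2 (.node 1 (.leaf 0xc8) (.leaf 0xed)) (.node 1 (.leaf 0x5a) (.leaf 0xb3))) (.node 2 (.node 1 (.leaf 0xcb) (.leaf 0xb5)) (.node 1 (.leaf 0xec) (.leaf 0x34)))) (.node 4 (.node 2 (.node 1 (.leaf 0xae) (.leaf 0xce)) (.node 1 (.leaf 0x80) (.leaf 0xcd))) (.node 2 (.node 1 (.leaf 0xaf)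 (.leaf 0x35)) (.node 1 (.leaf 0xf7) (.leaf 0x116))))))) (.node 32 (.node 16 (.node 8 (.node 4 (.node 2 (.node 1 (.leaf 0x77) (.leaf 0xe6)) (.node 1 (.leaf 0xc2) (.leaf 0x60))) (.node 2 (.node 1 (.leaf 0xc4) (.leaf 0x3b)) (.node 1 (.leaf 0x39) (.leaf 0x10a)))) (.node 4 (.node 2 (.node 1 (.leaf 0xb0) (.leaf 0x9d)) (.node 1 (.leaf 0x98) (.leaf 0xb4))) (.node 2 (.node 1 (.leaf 0x3c) (.leaf 0xbb)) (.node 1 (.leaf 0xb9) (.leaf 0x41))))) (.node 8 (.node 4 (.node 2 (.node 1 (.leaf 0xd4) (.leaf 0x96)) (.node 1 (.leaf 0x12e) (.leaf 0xeb))) (.node 2 (.node 1 (.leaf 0xd0) (.leaf 0x46)) (.node 1 (.leaf 0x114) (.leaf 0xf2)))) (.node 4 (.node 2 (.node 1 (.leaf 0x76) (.leaf 0xfc)) (.node 1 (.leaf 0x9b) (.leaf 0x107))) (.node 2 (.node 1 (.leaf 0x43) (.leaf 0x129)) (.node 1 (.leaf 0x126) (.leaf 0x10f)))))) (.node 16 (.node 8 (.node 4 (.node 2 (.node 1 (.leaf 0x44) (.leaf 0x11e)) (.node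 1 (.leaf 0x109) (.leaf 0xad))) (.node 2 (.node 1 (.leaf 0xf0) (.leaf 0x11a)) (.node 1 (.leaf 0xc1) (.leaf 0x5f)))) (.node 4 (.node 2 (.node 1 (.leaf 0x12b) (.leaf 0x47)) (.node 1 (.leaf 0xfb) (.leaf 0xd3))) (.node 2 (.node 1 (.leaf 0xb6) (.leaf 0xb1)) (.node 1 (.leaf 0x93) (.leaf 0xaa))))) (.node 8 (.node 4 (.node 2 (.node 1 (.leaf 0xe4) (.leaf 0xf1)) (.node 1 (.leaf 0xd7) (.leaf 0x108))) (.node 2 (.node 1 (.leaf 0x4f) (.leaf 0x118)) (.node 1 (.leaf 0x7d) (.leaf 0xbe)))) (.node 4 (.node 2 (.node 1 (.leaf 0x4e) (.leaf 0x136)) (.node 1 (.leaf 0xfa) (.leaf 0xea))) (.node 2 (.node 1 (.leaf 0xd9) (.leaf 0x51)) (.node 1 (.leaf 0x7b) (.leaf 0x87)))))))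

def conjA_2 : Tree :=
  .node 64 (.node 32 (.node 16 (.node 8 (.node 4 (.node 2 (.node 1 (.leaf 0x131) (.leaf 0x78)) (.node 1 (.leaf 0x102) (.leaf 0x55))) (.node 2 (.node 1 (.leaf 0x9a) (.leaf 0x90)) (.node 1 (.leaf 0x56) (.leaf 0xdb)))) (.node 4 (.node 2 (.node 1 (.leaf 0xf3) (.leaf 0xe2)) (.node 1 (.leaf 0xc7) (.leaf 0x66))) (.node 2 (.node 1 (.leaf 0x86) (.leaf 0x6a)) (.node 1 (.leaf 0x61) (.leaf 0xdf))))) (.node 8 (.node 4 (.node 2 (.node 1 (.leaf 0x138) (.leaf 0x119)) (.node 1 (.leaf 0x113) (.leaf 0x112))) (.node 2 (.node 1 (.leaf 0xd6) (.leaf 0x130)) (.node 1 (.leaf 0xbf) (.leaf 0x68)))) (.node 4 (.node 2 (.node 1 (.leaf 0xf5) (.leaf 0x111)) (.node 1 (.leaf 0xe5) (.leaf 0x11b))) (.node 2 (.node 1 (.leaf 0x11c) (.leaf 0xa0)) (.node 1 (.leaf 0xe1) (.leaf 0x70)))))) (.node 16 (.node 8 (.node 4 (.node 2 (.node 1 (.leaf 0x123) (.leaf 0x124)) (.node 1 (.leaf 0x122)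 (.leaf 0x120))) (.node 2 (.node 1 (.leaf 0x121) (.leaf 0x7a)) (.node 1 (.leaf 0xde) (.leaf 0x8b)))) (.node 4 (.node 2 (.node 1 (.leaf 0x8a) (.leaf 0xdd)) (.node 1 (.leaf 0x137) (.leaf 0xe8))) (.node 2 (.node 1 (.leaf 0x12d) (.leaf 0x12c)) (.node 1 (.leaf 0xd2) (.leaf 0x9f))))) (.node 8 (.node 4 (.node 2 (.node 1 (.leaf 0x115) (.leaf 0x100)) (.node 1 (.leaf 0x132) (.leaf 0xa7))) (.node 2 (.node 1 (.leaf 0xab) (.leaf 0xac)) (.node 1 (.leaf 0xf9) (.leaf 0x12a)))) (.node 4 (.node 2 (.node 1 (.leaf 0x110) (.leaf 0x139)) (.node 1 (.leaf 0x13a) (.leaf 0x1))) (.node 2 (.node 1 (.leaf 0x0) (.leaf 0x2)) (.node 1 (.leaf 0x10) (.leaf 0x16))))))) (.node 32 (.node 16 (.node 8 (.node 4 (.node 2 (.node 1 (.leaf 0x5) (.leaf 0x6)) (.node 1 (.leaf 0x7) (.leaf 0x25))) (.node 2 (.node 1 (.leaf 0x2a) (.leaf 0x2d)) (.node 1 (.leaf 0x32) (.leaf 0x35)))) (.node 4 (.node 2 (.node 1 (.leaf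 0x39) (.leaf 0x3f)) (.node 1 (.leaf 0x44) (.leaf 0x3))) (.node 2 (.node 1 (.leaf 0x11) (.leaf 0x12)) (.node 1 (.leaf 0x13) (.leaf 0x54))))) (.node 8 (.node 4 (.node 2 (.node 1 (.leaf 0x58) (.leaf 0x4)) (.node 1 (.leaf 0x52) (.leaf 0x60))) (.node 2 (.node 1 (.leaf 0x62) (.leaf 0x65)) (.node 1 (.leaf 0x1b) (.leaf 0x6e)))) (.node 4 (.node 2 (.node 1 (.leaf 0x71) (.leaf 0x76)) (.node 1 (.leaf 0x69) (.leaf 0x80))) (.node 2 (.node 1 (.leaf 0x83) (.leaf 0x86)) (.node 1 (.leaf 0x89) (.leaf 0x8d)))))) (.node 16 (.node 8 (.node 4 (.node 2 (.node 1 (.leaf 0x8) (.leaf 0x91)) (.node 1 (.leaf 0x93) (.leaf 0x28))) (.node 2 (.node 1 (.leaf 0x29) (.leaf 0x9)) (.node 1 (.leaf 0x4a) (.leaf 0x2c)))) (.node 4 (.node 2 (.node 1 (.leaf 0xa) (.leaf 0xa6)) (.node 1 (.leaf 0x64) (.leaf 0xaa))) (.node 2 (.node 1 (.leaf 0xae) (.leaf 0xb)) (.node 1 (.leaf 0xb4) (.leaf 0xb8))))) (.node 8 (.node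 4 (.node 2 (.node 1 (.leaf 0xc) (.leaf 0xc1)) (.node 1 (.leaf 0xa1) (.leaf 0xc4))) (.node 2 (.node 1 (.leaf 0xd) (.leaf 0xc9)) (.node 1 (.leaf 0x9b) (.leaf 0xcd)))) (.node 4 (.node 2 (.node 1 (.leaf 0x98) (.leaf 0xd2)) (.node 1 (.leaf 0xe) (.leaf 0xaf))) (.node 2 (.node 1 (.leaf 0xd8) (.leaf 0x7e)) (.node 1 (.leaf 0xdd) (.leaf 0xf)))))))

def conjA_3 : Tree :=
  .node 64 (.node 32 (.node 16 (.node 8 (.node 4 (.node 2 (.node 1 (.leaf 0x6d) (.leaf 0xe5)) (.node 1 (.leaf 0x47) (.leaf 0x48))) (.node 2 (.node 1 (.leaf 0x74) (.leaf 0x2b)) (.node 1 (.leaf 0xf2) (.leaf 0xe9)))) (.node 4 (.node 2 (.node 1 (.leaf 0xf7) (.leaf 0x7a)) (.node 1 (.leaf 0xca) (.leaf 0xfc))) (.node 2 (.node 1 (.leaf 0xa5) (.leaf 0x17)) (.node 1 (.leaf 0x102) (.leaf 0x14))))) (.node 8 (.node 4 (.node 2 (.node 1 (.leaf 0xde) (.leaf 0x56)) (.node 1 (.leaf 0x57) (.leaf 0x15))) (.node 2 (.node 1 (.leaf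 0x109) (.leaf 0x5a)) (.node 1 (.leaf 0x97) (.leaf 0xc5)))) (.node 4 (.node 2 (.node 1 (.leaf 0xac) (.leaf 0x7d)) (.node 1 (.leaf 0xf9) (.leaf 0x18))) (.node 2 (.node 1 (.leaf 0x10f) (.leaf 0x19)) (.node 1 (.leaf 0x111) (.leaf 0x2f)))))) (.node 16 (.node 8 (.node 4 (.node 2 (.node 1 (.leaf 0x1a) (.leaf 0x104)) (.node 1 (.leaf 0x116) (.leaf 0x118))) (.node 2 (.node 1 (.leaf 0x1f) (.leaf 0x87)) (.node 1 (.leaf 0x11b) (.leaf 0x10d)))) (.node 4 (.node 2 (.node 1 (.leaf 0x45) (.leaf 0x1c)) (.node 1 (.leaf 0xe3) (.leaf 0xdf))) (.node 2 (.node 1 (.leaf 0x1d) (.leaf 0xc0)) (.node 1 (.leaf 0x99) (.leaf 0x49))))) (.node 8 (.node 4 (.node 2 (.node 1 (.leaf 0xd4) (.leaf 0x1e)) (.node 1 (.leaf 0x123) (.leaf 0xfb))) (.node 2 (.node 1 (.leaf 0x103) (.leaf 0x4e)) (.node 1 (.leaf 0xe7) (.leaf 0x11c)))) (.node 4 (.node 2 (.node 1 (.leaf 0x5e) (.leaf 0x42)) (.node 1 (.leaf 0x10c) (.leaf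 0x20))) (.node 2 (.node 1 (.leaf 0xc3) (.leaf 0x8e)) (.node 1 (.leaf 0x21) (.leaf 0xc8))))))) (.node 32 (.node 16 (.node 8 (.node 4 (.node 2 (.node 1 (.leaf 0x127) (.leaf 0x22)) (.node 1 (.leaf 0x6a) (.leaf 0xee))) (.node 2 (.node 1 (.leaf 0x23) (.leaf 0x120)) (.node 1 (.leaf 0x105) (.leaf 0xa3)))) (.node 4 (.node 2 (.node 1 (.leaf 0x24) (.leaf 0x82)) (.node 1 (.leaf 0x8f) (.leaf 0x11d))) (.node 2 (.node 1 (.leaf 0x26) (.leaf 0xcf)) (.node 1 (.leaf 0x27) (.leaf 0xd0))))) (.node 8 (.node 4 (.node 2 (.node 1 (.leaf 0x10b) (.leaf 0x11f)) (.node 1 (.leaf 0x5b) (.leaf 0x3d))) (.node 2 (.node 1 (.leaf 0x73) (.leaf 0xff)) (.node 1 (.leaf 0x3b) (.leaf 0xc7)))) (.node 4 (.node 2 (.node 1 (.leaf 0xb5) (.leaf 0xb3)) (.node 1 (.leaf 0x124) (.leaf 0xd7))) (.node 2 (.node 1 (.leaf 0x37) (.leaf 0xb6)) (.node 1 (.leaf 0x8c) (.leaf 0xab)))))) (.node 16 (.node 8 (.node 4 (.node 2 (.node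 1 (.leaf 0x51) (.leaf 0x2e)) (.node 1 (.leaf 0xb2) (.leaf 0xa8))) (.node 2 (.node 1 (.leaf 0xfa) (.leaf 0x30)) (.node 1 (.leaf 0xa4) (.leaf 0x5d)))) (.node 4 (.node 2 (.node 1 (.leaf 0x128) (.leaf 0x31)) (.node 1 (.leaf 0x40) (.leaf 0xba))) (.node 2 (.node 1 (.leaf 0xd5) (.leaf 0xa7)) (.node 1 (.leaf 0x9e) (.leaf 0x33))))) (.node 8 (.node 4 (.node 2 (.node 1 (.leaf 0x9d) (.leaf 0xa2)) (.node 1 (.leaf 0xda) (.leaf 0x34))) (.node 2 (.node 1 (.leaf 0x12d) (.leaf 0xb0)) (.node 1 (.leaf 0x11a) (.leaf 0xbd)))) (.node 4 (.node 2 (.node 1 (.leaf 0xbc) (.leaf 0x12b)) (.node 1 (.leaf 0x114) (.leaf 0x72))) (.node 2 (.node 1 (.leaf 0x36) (.leaf 0x133)) (.node 1 (.leaf 0x81) (.leaf 0x38)))))))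

def conjA_4 : Tree :=
  .node 64 (.node 32 (.node 16 (.node 8 (.node 4 (.node 2 (.node 1 (.leaf 0x5c) (.leaf 0xc6)) (.node 1 (.leaf 0x9c) (.leaf 0x84))) (.node 2 (.node 1 (.leaf 0x3a) (.leaf 0x4f)) (.node 1 (.leaf 0x12c) (.leaf 0xed)))) (.node 4 (.node 2 (.node 1 (.leaf 0x3c) (.leaf 0xe6)) (.node 1 (.leaf 0x92) (.leaf 0x94))) (.node 2 (.node 1 (.leaf 0x110) (.leaf 0x3e)) (.node 1 (.leaf 0xf1) (.leaf 0x75))))) (.node 8 (.node 4 (.node 2 (.node 1 (.leaf 0xb1) (.leaf 0x119)) (.node 1 (.leaf 0xa0) (.leaf 0x41))) (.node 2 (.node 1 (.leaf 0x107) (.leaf 0xb7)) (.node 1 (.leaf 0xe8) (.leaf 0x12f)))) (.node 4 (.node 2 (.node 1 (.leaf 0x43) (.leaf 0x55)) (.node 1 (.leaf 0x70) (.leaf 0xe0))) (.node 2 (.node 1 (.leaf 0x100) (.leaf 0x106)) (.node 1 (.leaf 0x6f) (.leaf 0xeb)))))) (.node 16 (.node 8 (.node 4 (.node 2 (.node 1 (.leaf 0x46) (.leaf 0xce)) (.node 1 (.leaf 0x7b) (.leaf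 0xdb))) (.node 2 (.node 1 (.leaf 0x4c) (.leaf 0x122)) (.node 1 (.leaf 0xe4) (.leaf 0x13a)))) (.node 4 (.node 2 (.node 1 (.leaf 0xcc) (.leaf 0x88)) (.node 1 (.leaf 0xef) (.leaf 0xf0))) (.node 2 (.node 1 (.leaf 0xd3) (.leaf 0x4b)) (.node 1 (.leaf 0x130) (.leaf 0x12e))))) (.node 8 (.node 4 (.node 2 (.node 1 (.leaf 0x12a) (.leaf 0xf6)) (.node 1 (.leaf 0x4d) (.leaf 0x137))) (.node 2 (.node 1 (.leaf 0x5f) (.leaf 0xa9)) (.node 1 (.leaf 0x78) (.leaf 0x50)))) (.node 4 (.node 2 (.node 1 (.leaf 0x126) (.leaf 0x115)) (.node 1 (.leaf 0x9a) (.leaf 0xe1))) (.node 2 (.node 1 (.leaf 0x101) (.leaf 0x53)) (.node 1 (.leaf 0x79) (.leaf 0x66))))))) (.node 32 (.node 16 (.node 8 (.node 4 (.node 2 (.node 1 (.leaf 0x8b) (.leaf 0xe2)) (.node 1 (.leaf 0xd9) (.leaf 0x136))) (.node 2 (.node 1 (.leaf 0x59) (.leaf 0x132)) (.node 1 (.leaf 0x95) (.leaf 0x7f)))) (.node 4 (.node 2 (.node 1 (.leaf 0x6c)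 (.leaf 0x138)) (.node 1 (.leaf 0x61) (.leaf 0xd1))) (.node 2 (.node 1 (.leaf 0x63) (.leaf 0x121)) (.node 1 (.leaf 0x129) (.leaf 0xbf))))) (.node 8 (.node 4 (.node 2 (.node 1 (.leaf 0xfe) (.leaf 0x67)) (.node 1 (.leaf 0x125) (.leaf 0x68))) (.node 2 (.node 1 (.leaf 0xd6) (.leaf 0xbb)) (.node 1 (.leaf 0x6b) (.leaf 0x7c)))) (.node 4 (.node 2 (.node 1 (.leaf 0x90) (.leaf 0x139)) (.node 1 (.leaf 0x96) (.leaf 0x8a))) (.node 2 (.node 1 (.leaf 0x112) (.leaf 0xea)) (.node 1 (.leaf 0x77) (.leaf 0x9f)))))) (.node 16 (.node 8 (.node 4 (.node 2 (.node 1 (.leaf 0x117) (.leaf 0xfd)) (.node 1 (.leaf 0x85) (.leaf 0xad))) (.node 2 (.node 1 (.leaf 0x113) (.leaf 0xf5)) (.node 1 (.leaf 0xbe) (.leaf 0xcb)))) (.node 4 (.node 2 (.node 1 (.leaf 0xb9) (.leaf 0xf4)) (.node 1 (.leaf 0xdc) (.leaf 0xf3))) (.node 2 (.node 1 (.leaf 0x131) (.leaf 0x10a)) (.node 1 (.leaf 0xc2) (.leaf 0x134))))) (.node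 8 (.node 4 (.node 2 (.node 1 (.leaf 0x135) (.leaf 0x108)) (.node 1 (.leaf 0xf8) (.leaf 0x10e))) (.node 2 (.node 1 (.leaf 0x11e) (.leaf 0xec)) (.node 1 (.leaf 0x0) (.leaf 0x5)))) (.node 4 (.node 2 (.node 1 (.leaf 0xb) (.leaf 0x11)) (.node 1 (.leaf 0x17) (.leaf 0x1))) (.node 2 (.node 1 (.leaf 0x1c) (.leaf 0x1d)) (.node 1 (.leaf 0x26) (.leaf 0x9)))))))

def conjA_5 : Tree :=
  .node 64 (.node 32 (.node 16 (.node 8 (.node 4 (.node 2 (.node 1 (.leaf 0x2e) (.leaf 0x2)) (.node 1 (.leaf 0x33) (.leaf 0x3a))) (.node 2 (.node 1 (.leaf 0x40) (.leaf 0x16)) (.node 1 (.leaf 0x10) (.leaf 0x3)))) (.node 4 (.node 2 (.node 1 (.leaf 0x38) (.leaf 0x4a)) (.node 1 (.leaf 0x25) (.leaf 0x15))) (.node 2 (.node 1 (.leaf 0xf) (.leaf 0x4)) (.node 1 (.leaf 0x5d) (.leaf 0x5e))))) (.node 8 (.node 4 (.node 2 (.node 1 (.leaf 0x66) (.leaf 0x2a)) (.node 1 (.leaf 0x6) (.leaf 0x7))) (.node 2 (.node 1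 (.leaf 0x77) (.leaf 0x7d)) (.node 1 (.leaf 0x6f) (.leaf 0x84)))) (.node 4 (.node 2 (.node 1 (.leaf 0x72) (.leaf 0x8a)) (.node 1 (.leaf 0x57) (.leaf 0x14))) (.node 2 (.node 1 (.leaf 0x8) (.leaf 0x92)) (.node 1 (.leaf 0x6b) (.leaf 0x99)))))) (.node 16 (.node 8 (.node 4 (.node 2 (.node 1 (.leaf 0x1b) (.leaf 0x2b)) (.node 1 (.leaf 0x9d) (.leaf 0xa2))) (.node 2 (.node 1 (.leaf 0xa) (.leaf 0x36)) (.node 1 (.leaf 0xab) (.leaf 0xaf)))) (.node 4 (.node 2 (.node 1 (.leaf 0x32) (.leaf 0xc)) (.node 1 (.leaf 0xb9) (.leaf 0xbe))) (.node 2 (.node 1 (.leaf 0x2f) (.leaf 0x37)) (.node 1 (.leaf 0x12) (.leaf 0xc7))))) (.node 8 (.node 4 (.node 2 (.node 1 (.leaf 0xd) (.leaf 0x50)) (.node 1 (.leaf 0x80) (.leaf 0xb8))) (.node 2 (.node 1 (.leaf 0x65) (.leaf 0xae)) (.node 1 (.leaf 0xe) (.leaf 0xd5)))) (.node 4 (.node 2 (.node 1 (.leaf 0xd6) (.leaf 0xde)) (.node 1 (.leaf 0x52) (.leaf 0x5b)))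 (.node 2 (.node 1 (.leaf 0xcf) (.leaf 0x58)) (.node 1 (.leaf 0xec) (.leaf 0xe0))))))) (.node 32 (.node 16 (.node 8 (.node 4 (.node 2 (.node 1 (.leaf 0x13) (.leaf 0xf3)) (.node 1 (.leaf 0x97) (.leaf 0xc5))) (.node 2 (.node 1 (.leaf 0xf9) (.leaf 0xdb)) (.node 1 (.leaf 0x3b) (.leaf 0xfe)))) (.node 4 (.node 2 (.node 1 (.leaf 0x44) (.leaf 0x8f)) (.node 1 (.leaf 0x91) (.leaf 0x90))) (.node 2 (.node 1 (.leaf 0xea) (.leaf 0x24)) (.node 1 (.leaf 0x47) (.leaf 0x59))))) (.node 8 (.node 4 (.node 2 (.node 1 (.leaf 0xc3) (.leaf 0x45)) (.node 1 (.leaf 0xbc) (.leaf 0x18))) (.node 2 (.node 1 (.leaf 0x19) (.leaf 0x9f)) (.node 1 (.leaf 0xb2) (.leaf 0xc8)))) (.node 4 (.node 2 (.node 1 (.leaf 0x69) (.leaf 0x112)) (.node 1 (.leaf 0x10b) (.leaf 0x3e))) (.node 2 (.node 1 (.leaf 0x1a) (.leaf 0xf2)) (.node 1 (.leaf 0x119) (.leaf 0x62)))))) (.node 16 (.node 8 (.node 4 (.node 2 (.node 1 (.leaf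 0x9b) (.leaf 0x28)) (.node 1 (.leaf 0xe6) (.leaf 0xe9))) (.node 2 (.node 1 (.leaf 0x6e) (.leaf 0x20)) (.node 1 (.leaf 0x120) (.leaf 0x71)))) (.node 4 (.node 2 (.node 1 (.leaf 0x22) (.leaf 0x73)) (.node 1 (.leaf 0x74) (.leaf 0xc0))) (.node 2 (.node 1 (.leaf 0x96) (.leaf 0x1e)) (.node 1 (.leaf 0xeb) (.leaf 0xf5))))) (.node 8 (.node 4 (.node 2 (.node 1 (.leaf 0x124) (.leaf 0xfd)) (.node 1 (.leaf 0xf6) (.leaf 0x1f))) (.node 2 (.node 1 (.leaf 0x118) (.leaf 0x82)) (.node 1 (.leaf 0x3c) (.leaf 0x81)))) (.node 4 (.node 2 (.node 1 (.leaf 0x7f) (.leaf 0x10f)) (.node 1 (.leaf 0x21) (.leaf 0x108))) (.node 2 (.node 1 (.leaf 0xd4) (.leaf 0xfc)) (.node 1 (.leaf 0x128) (.leaf 0xdf)))))))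

def conjA_6 : Tree :=
  .node 64 (.node 32 (.node 16 (.node 8 (.node 4 (.node 2 (.node 1 (.leaf 0x23) (.leaf 0x12a)) (.node 1 (.leaf 0xd7) (.leaf 0x8d))) (.node 2 (.node 1 (.leaf 0x94) (.leaf 0x53)) (.node 1 (.leaf 0x55) (.leaf 0x54)))) (.node 4 (.node 2 (.node 1 (.leaf 0x27) (.leaf 0xe5)) (.node 1 (.leaf 0x8e) (.leaf 0xc1))) (.node 2 (.node 1 (.leaf 0x76) (.leaf 0x4c)) (.node 1 (.leaf 0x12d) (.leaf 0x29))))) (.node 8 (.node 4 (.node 2 (.node 1 (.leaf 0x12e) (.leaf 0x6a)) (.node 1 (.leaf 0xc9) (.leaf 0x2c))) (.node 2 (.node 1 (.leaf 0x131) (.leaf 0x5f)) (.node 1 (.leaf 0x129) (.leaf 0xa8)))) (.node 4 (.node 2 (.node 1 (.leaf 0x2d) (.leaf 0x113)) (.node 1 (.leaf 0x100) (.leaf 0x114))) (.node 2 (.node 1 (.leaf 0xb6) (.leaf 0xac)) (.node 1 (.leaf 0xa1) (.leaf 0x134)))))) (.node 16 (.node 8 (.node 4 (.node 2 (.node 1 (.leaf 0xe1) (.leaf 0x30)) (.node 1 (.leaf 0xa7) (.leaf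 0xbb))) (.node 2 (.node 1 (.leaf 0x3f) (.leaf 0x31)) (.node 1 (.leaf 0x10e) (.leaf 0x110)))) (.node 4 (.node 2 (.node 1 (.leaf 0x60) (.leaf 0xb3)) (.node 1 (.leaf 0x12b) (.leaf 0xb5))) (.node 2 (.node 1 (.leaf 0xa6) (.leaf 0xce)) (.node 1 (.leaf 0x3d) (.leaf 0x34))))) (.node 8 (.node 4 (.node 2 (.node 1 (.leaf 0xcc) (.leaf 0xad)) (.node 1 (.leaf 0x5c) (.leaf 0xf7))) (.node 2 (.node 1 (.leaf 0x35) (.leaf 0x115)) (.node 1 (.leaf 0x75) (.leaf 0x95)))) (.node 4 (.node 2 (.node 1 (.leaf 0xc2) (.leaf 0x5a)) (.node 1 (.leaf 0xc4) (.leaf 0x4d))) (.node 2 (.node 1 (.leaf 0x10a) (.leaf 0x39)) (.node 1 (.leaf 0x61) (.leaf 0x9c))))))) (.node 32 (.node 16 (.node 8 (.node 4 (.node 2 (.node 1 (.leaf 0x12c) (.leaf 0xe8)) (.node 1 (.leaf 0xba) (.leaf 0xe3))) (.node 2 (.node 1 (.leaf 0xb7) (.leaf 0x46)) (.node 1 (.leaf 0x10c) (.leaf 0xd8)))) (.node 4 (.node 2 (.node 1 (.leaf 0x104)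 (.leaf 0x101)) (.node 1 (.leaf 0x86) (.leaf 0x41))) (.node 2 (.node 1 (.leaf 0x42) (.leaf 0x8c)) (.node 1 (.leaf 0xd1) (.leaf 0xff))))) (.node 8 (.node 4 (.node 2 (.node 1 (.leaf 0x10d) (.leaf 0x4f)) (.node 1 (.leaf 0x126) (.leaf 0x11d))) (.node 2 (.node 1 (.leaf 0x43) (.leaf 0x89)) (.node 1 (.leaf 0x49) (.leaf 0xaa)))) (.node 4 (.node 2 (.node 1 (.leaf 0xe4) (.leaf 0xcd)) (.node 1 (.leaf 0xe2) (.leaf 0x93))) (.node 2 (.node 1 (.leaf 0x6c) (.leaf 0x12f)) (.node 1 (.leaf 0xcb) (.leaf 0x6d)))))) (.node 16 (.node 8 (.node 4 (.node 2 (.node 1 (.leaf 0x56) (.leaf 0x78)) (.node 1 (.leaf 0x48) (.leaf 0x138))) (.node 2 (.node 1 (.leaf 0x11a) (.leaf 0x11e)) (.node 1 (.leaf 0x109) (.leaf 0xf1)))) (.node 4 (.node 2 (.node 1 (.leaf 0x67) (.leaf 0x4b)) (.node 1 (.leaf 0x107) (.leaf 0x79))) (.node 2 (.node 1 (.leaf 0x7c) (.leaf 0xbd)) (.node 1 (.leaf 0x136) (.leaf 0x4e))))) (.node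 8 (.node 4 (.node 2 (.node 1 (.leaf 0xfa) (.leaf 0x106)) (.node 1 (.leaf 0x87) (.leaf 0x7b))) (.node 2 (.node 1 (.leaf 0x51) (.leaf 0xd9)) (.node 1 (.leaf 0xa4) (.leaf 0xd3)))) (.node 4 (.node 2 (.node 1 (.leaf 0x102) (.leaf 0x105)) (.node 1 (.leaf 0xd2) (.leaf 0x103))) (.node 2 (.node 1 (.leaf 0xfb) (.leaf 0xf4)) (.node 1 (.leaf 0x85) (.leaf 0xf0)))))))

def conjA_7 : Tree :=
  .node 64 (.node 32 (.node 16 (.node 8 (.node 4 (.node 2 (.node 1 (.leaf 0xc6) (.leaf 0x64)) (.node 1 (.leaf 0xd0) (.leaf 0xda))) (.node 2 (.node 1 (.leaf 0xb0) (.leaf 0x83)) (.node 1 (.leaf 0xb1) (.leaf 0x117)))) (.node 4 (.node 2 (.node 1 (.leaf 0x63) (.leaf 0xa3)) (.node 1 (.leaf 0xa5) (.leaf 0xbf))) (.node 2 (.node 1 (.leaf 0x130) (.leaf 0x111)) (.node 1 (.leaf 0x7e) (.leaf 0x68))))) (.node 8 (.node 4 (.node 2 (.node 1 (.leaf 0xee) (.leaf 0x11b)) (.node 1 (.leaf 0x11c) (.leaf 0xdd))) (.node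 2 (.node 1 (.leaf 0xef) (.leaf 0x123)) (.node 1 (.leaf 0x70) (.leaf 0x125)))) (.node 4 (.node 2 (.node 1 (.leaf 0x122) (.leaf 0x11f)) (.node 1 (.leaf 0x7a) (.leaf 0x121))) (.node 2 (.node 1 (.leaf 0xdc) (.leaf 0x137)) (.node 1 (.leaf 0x88) (.leaf 0xa0)))))) (.node 16 (.node 8 (.node 4 (.node 2 (.node 1 (.leaf 0x8b) (.leaf 0xb4)) (.node 1 (.leaf 0xca) (.leaf 0x98))) (.node 2 (.node 1 (.leaf 0x9a) (.leaf 0xe7)) (.node 1 (.leaf 0x116) (.leaf 0x9e)))) (.node 4 (.node 2 (.node 1 (.leaf 0x132) (.leaf 0x135)) (.node 1 (.leaf 0xa9) (.leaf 0x133))) (.node 2 (.node 1 (.leaf 0xf8) (.leaf 0x127)) (.node 1 (.leaf 0xed) (.leaf 0x139))))) (.node 8 (.node 4 (.node 2 (.node 1 (.leaf 0x13a) (.leaf 0x0)) (.node 1 (.leaf 0x1) (.leaf 0x2))) (.node 2 (.node 1 (.leaf 0x3) (.leaf 0x4)) (.node 1 (.leaf 0x5) (.leaf 0x6)))) (.node 4 (.node 2 (.node 1 (.leaf 0x7) (.leaf 0x8)) (.node 1 (.leaf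 0x9) (.leaf 0xa))) (.node 2 (.node 1 (.leaf 0xb) (.leaf 0xc)) (.node 1 (.leaf 0xd) (.leaf 0xe))))))) (.node 32 (.node 16 (.node 8 (.node 4 (.node 2 (.node 1 (.leaf 0xf) (.leaf 0x10)) (.node 1 (.leaf 0x11) (.leaf 0x12))) (.node 2 (.node 1 (.leaf 0x13) (.leaf 0x14)) (.node 1 (.leaf 0x15) (.leaf 0x16)))) (.node 4 (.node 2 (.node 1 (.leaf 0x17) (.leaf 0x18)) (.node 1 (.leaf 0x19) (.leaf 0x1a))) (.node 2 (.node 1 (.leaf 0x1b) (.leaf 0x1c)) (.node 1 (.leaf 0x1d) (.leaf 0x1e))))) (.node 8 (.node 4 (.node 2 (.node 1 (.leaf 0x1f) (.leaf 0x20)) (.node 1 (.leaf 0x21) (.leaf 0x22))) (.node 2 (.node 1 (.leaf 0x23) (.leaf 0x24)) (.node 1 (.leaf 0x25) (.leaf 0x26)))) (.node 4 (.node 2 (.node 1 (.leaf 0x27) (.leaf 0x28)) (.node 1 (.leaf 0x29) (.leaf 0x2a))) (.node 2 (.node 1 (.leaf 0x2b) (.leaf 0x2c)) (.node 1 (.leaf 0x2d) (.leaf 0x2e)))))) (.node 16 (.node 8 (.node 4 (.node 2 (.node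 1 (.leaf 0x2f) (.leaf 0x30)) (.node 1 (.leaf 0x31) (.leaf 0x32))) (.node 2 (.node 1 (.leaf 0x33) (.leaf 0x34)) (.node 1 (.leaf 0x35) (.leaf 0x36)))) (.node 4 (.node 2 (.node 1 (.leaf 0x37) (.leaf 0x38)) (.node 1 (.leaf 0x39) (.leaf 0x3a))) (.node 2 (.node 1 (.leaf 0x3b) (.leaf 0x3c)) (.node 1 (.leaf 0x3d) (.leaf 0x3e))))) (.node 8 (.node 4 (.node 2 (.node 1 (.leaf 0x3f) (.leaf 0x40)) (.node 1 (.leaf 0x41) (.leaf 0x42))) (.node 2 (.node 1 (.leaf 0x43) (.leaf 0x44)) (.node 1 (.leaf 0x45) (.leaf 0x46)))) (.node 4 (.node 2 (.node 1 (.leaf 0x47) (.leaf 0x48)) (.node 1 (.leaf 0x49) (.leaf 0x4a))) (.node 2 (.node 1 (.leaf 0x4b) (.leaf 0x4c)) (.node 1 (.leaf 0x4d) (.leaf 0x4e)))))))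

def conjA_8 : Tree :=
  .node 64 (.node 32 (.node 16 (.node 8 (.node 4 (.node 2 (.node 1 (.leaf 0x4f) (.leaf 0x50)) (.node 1 (.leaf 0x51) (.leaf 0x52))) (.node 2 (.node 1 (.leaf 0x53) (.leaf 0x54)) (.node 1 (.leaf 0x55) (.leaf 0x56)))) (.node 4 (.node 2 (.node 1 (.leaf 0x57) (.leaf 0x58)) (.node 1 (.leaf 0x59) (.leaf 0x5a))) (.node 2 (.node 1 (.leaf 0x5b) (.leaf 0x5c)) (.node 1 (.leaf 0x5d) (.leaf 0x5e))))) (.node 8 (.node 4 (.node 2 (.node 1 (.leaf 0x5f) (.leaf 0x60)) (.node 1 (.leaf 0x61) (.leaf 0x62))) (.node 2 (.node 1 (.leaf 0x63) (.leaf 0x64)) (.node 1 (.leaf 0x65) (.leaf 0x66)))) (.node 4 (.node 2 (.node 1 (.leaf 0x67) (.leaf 0x68)) (.node 1 (.leaf 0x69) (.leaf 0x6a))) (.node 2 (.node 1 (.leaf 0x6b) (.leaf 0x6c)) (.node 1 (.leaf 0x6d) (.leaf 0x6e)))))) (.node 16 (.node 8 (.node 4 (.node 2 (.node 1 (.leaf 0x6f) (.leaf 0x70)) (.node 1 (.leaf 0x71) (.leaf 0x72)))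 (.node 2 (.node 1 (.leaf 0x73) (.leaf 0x74)) (.node 1 (.leaf 0x75) (.leaf 0x76)))) (.node 4 (.node 2 (.node 1 (.leaf 0x77) (.leaf 0x78)) (.node 1 (.leaf 0x79) (.leaf 0x7a))) (.node 2 (.node 1 (.leaf 0x7b) (.leaf 0x7c)) (.node 1 (.leaf 0x7d) (.leaf 0x7e))))) (.node 8 (.node 4 (.node 2 (.node 1 (.leaf 0x7f) (.leaf 0x80)) (.node 1 (.leaf 0x81) (.leaf 0x82))) (.node 2 (.node 1 (.leaf 0x83) (.leaf 0x84)) (.node 1 (.leaf 0x85) (.leaf 0x86)))) (.node 4 (.node 2 (.node 1 (.leaf 0x87) (.leaf 0x88)) (.node 1 (.leaf 0x89) (.leaf 0x8a))) (.node 2 (.node 1 (.leaf 0x8b) (.leaf 0x8c)) (.node 1 (.leaf 0x8d) (.leaf 0x8e))))))) (.node 32 (.node 16 (.node 8 (.node 4 (.node 2 (.node 1 (.leaf 0x8f) (.leaf 0x90)) (.node 1 (.leaf 0x91) (.leaf 0x92))) (.node 2 (.node 1 (.leaf 0x93) (.leaf 0x94)) (.node 1 (.leaf 0x95) (.leaf 0x96)))) (.node 4 (.node 2 (.node 1 (.leaf 0x97) (.leaf 0x98)) (.node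 1 (.leaf 0x99) (.leaf 0x9a))) (.node 2 (.node 1 (.leaf 0x9b) (.leaf 0x9c)) (.node 1 (.leaf 0x9d) (.leaf 0x9e))))) (.node 8 (.node 4 (.node 2 (.node 1 (.leaf 0x9f) (.leaf 0xa0)) (.node 1 (.leaf 0xa1) (.leaf 0xa2))) (.node 2 (.node 1 (.leaf 0xa3) (.leaf 0xa4)) (.node 1 (.leaf 0xa5) (.leaf 0xa6)))) (.node 4 (.node 2 (.node 1 (.leaf 0xa7) (.leaf 0xa8)) (.node 1 (.leaf 0xa9) (.leaf 0xaa))) (.node 2 (.node 1 (.leaf 0xab) (.leaf 0xac)) (.node 1 (.leaf 0xad) (.leaf 0xae)))))) (.node 16 (.node 8 (.node 4 (.node 2 (.node 1 (.leaf 0xaf) (.leaf 0xb0)) (.node 1 (.leaf 0xb1) (.leaf 0xb2))) (.node 2 (.node 1 (.leaf 0xb3) (.leaf 0xb4)) (.node 1 (.leaf 0xb5) (.leaf 0xb6)))) (.node 4 (.node 2 (.node 1 (.leaf 0xb7) (.leaf 0xb8)) (.node 1 (.leaf 0xb9) (.leaf 0xba))) (.node 2 (.node 1 (.leaf 0xbb) (.leaf 0xbc)) (.node 1 (.leaf 0xbd) (.leaf 0xbe))))) (.node 8 (.node 4 (.node 2 (.node 1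 (.leaf 0xbf) (.leaf 0xc0)) (.node 1 (.leaf 0xc1) (.leaf 0xc2))) (.node 2 (.node 1 (.leaf 0xc3) (.leaf 0xc4)) (.node 1 (.leaf 0xc5) (.leaf 0xc6)))) (.node 4 (.node 2 (.node 1 (.leaf 0xc7) (.leaf 0xc8)) (.node 1 (.leaf 0xc9) (.leaf 0xca))) (.node 2 (.node 1 (.leaf 0xcb) (.leaf 0xcc)) (.node 1 (.leaf 0xcd) (.leaf 0xce)))))))

def conjA_9 : Tree :=
  .node 64 (.node 32 (.node 16 (.node 8 (.node 4 (.node 2 (.node 1 (.leaf 0xcf) (.leaf 0xd0)) (.node 1 (.leaf 0xd1) (.leaf 0xd2))) (.node 2 (.node 1 (.leaf 0xd3) (.leaf 0xd4)) (.node 1 (.leaf 0xd5) (.leaf 0xd6)))) (.node 4 (.node 2 (.node 1 (.leaf 0xd7) (.leaf 0xd8)) (.node 1 (.leaf 0xd9) (.leaf 0xda))) (.node 2 (.node 1 (.leaf 0xdb) (.leaf 0xdc)) (.node 1 (.leaf 0xdd) (.leaf 0xde))))) (.node 8 (.node 4 (.node 2 (.node 1 (.leaf 0xdf) (.leaf 0xe0)) (.node 1 (.leaf 0xe1) (.leaf 0xe2))) (.node 2 (.node 1 (.leaf 0xe3) (.leaf 0xe4))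 (.node 1 (.leaf 0xe5) (.leaf 0xe6)))) (.node 4 (.node 2 (.node 1 (.leaf 0xe7) (.leaf 0xe8)) (.node 1 (.leaf 0xe9) (.leaf 0xea))) (.node 2 (.node 1 (.leaf 0xeb) (.leaf 0xec)) (.node 1 (.leaf 0xed) (.leaf 0xee)))))) (.node 16 (.node 8 (.node 4 (.node 2 (.node 1 (.leaf 0xef) (.leaf 0xf0)) (.node 1 (.leaf 0xf1) (.leaf 0xf2))) (.node 2 (.node 1 (.leaf 0xf3) (.leaf 0xf4)) (.node 1 (.leaf 0xf5) (.leaf 0xf6)))) (.node 4 (.node 2 (.node 1 (.leaf 0xf7) (.leaf 0xf8)) (.node 1 (.leaf 0xf9) (.leaf 0xfa))) (.node 2 (.node 1 (.leaf 0xfb) (.leaf 0xfc)) (.node 1 (.leaf 0xfd) (.leaf 0xfe))))) (.node 8 (.node 4 (.node 2 (.node 1 (.leaf 0xff) (.leaf 0x100)) (.node 1 (.leaf 0x101) (.leaf 0x102))) (.node 2 (.node 1 (.leaf 0x103) (.leaf 0x104)) (.node 1 (.leaf 0x105) (.leaf 0x106)))) (.node 4 (.node 2 (.node 1 (.leaf 0x107) (.leaf 0x108)) (.node 1 (.leaf 0x109) (.leaf 0x10a))) (.node 2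 (.node 1 (.leaf 0x10b) (.leaf 0x10c)) (.node 1 (.leaf 0x10d) (.leaf 0x10e))))))) (.node 32 (.node 16 (.node 8 (.node 4 (.node 2 (.node 1 (.leaf 0x10f) (.leaf 0x110)) (.node 1 (.leaf 0x111) (.leaf 0x112))) (.node 2 (.node 1 (.leaf 0x113) (.leaf 0x114)) (.node 1 (.leaf 0x115) (.leaf 0x116)))) (.node 4 (.node 2 (.node 1 (.leaf 0x117) (.leaf 0x118)) (.node 1 (.leaf 0x119) (.leaf 0x11a))) (.node 2 (.node 1 (.leaf 0x11b) (.leaf 0x11c)) (.node 1 (.leaf 0x11d) (.leaf 0x11e))))) (.node 8 (.node 4 (.node 2 (.node 1 (.leaf 0x11f) (.leaf 0x120)) (.node 1 (.leaf 0x121) (.leaf 0x122))) (.node 2 (.node 1 (.leaf 0x123) (.leaf 0x124)) (.node 1 (.leaf 0x125) (.leaf 0x126)))) (.node 4 (.node 2 (.node 1 (.leaf 0x127) (.leaf 0x128)) (.node 1 (.leaf 0x129) (.leaf 0x12a))) (.node 2 (.node 1 (.leaf 0x12b) (.leaf 0x12c)) (.node 1 (.leaf 0x12d) (.leaf 0x12e)))))) (.node 16 (.node 8 (.node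 4 (.node 2 (.node 1 (.leaf 0x12f) (.leaf 0x130)) (.node 1 (.leaf 0x131) (.leaf 0x132))) (.node 2 (.node 1 (.leaf 0x133) (.leaf 0x134)) (.node 1 (.leaf 0x135) (.leaf 0x136)))) (.node 4 (.node 2 (.node 1 (.leaf 0x137) (.leaf 0x138)) (.node 1 (.leaf 0x139) (.leaf 0x13a))) (.node 2 (.node 1 (.leaf 0x0) (.leaf 0x6)) (.node 1 (.leaf 0xb) (.leaf 0x12))))) (.node 8 (.node 4 (.node 2 (.node 1 (.leaf 0x18) (.leaf 0x1c)) (.node 1 (.leaf 0x1) (.leaf 0x22))) (.node 2 (.node 1 (.leaf 0x27) (.leaf 0x2b)) (.node 1 (.leaf 0x2e) (.leaf 0x2)))) (.node 4 (.node 2 (.node 1 (.leaf 0x36) (.leaf 0x16)) (.node 1 (.leaf 0x41) (.leaf 0x3a))) (.node 2 (.node 1 (.leaf 0x10) (.leaf 0x38)) (.node 1 (.leaf 0x3) (.leaf 0x50)))))))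

def conjA_10 : Tree :=
  .node 64 (.node 32 (.node 16 (.node 8 (.node 4 (.node 2 (.node 1 (.leaf 0x55) (.leaf 0x59)) (.node 1 (.leaf 0xd) (.leaf 0x5d))) (.node 2 (.node 1 (.leaf 0x4) (.leaf 0x20)) (.node 1 (.leaf 0x43) (.leaf 0x6a)))) (.node 4 (.node 2 (.node 1 (.leaf 0x5) (.leaf 0x72)) (.node 1 (.leaf 0x78) (.leaf 0x7e))) (.node 2 (.node 1 (.leaf 0x19) (.leaf 0x4c)) (.node 1 (.leaf 0x7) (.leaf 0x88))))) (.node 8 (.node 4 (.node 2 (.node 1 (.leaf 0x8e) (.leaf 0x90)) (.node 1 (.leaf 0x92) (.leaf 0x8))) (.node 2 (.node 1 (.leaf 0x7f) (.leaf 0x9a)) (.node 1 (.leaf 0x9b) (.leaf 0x9)))) (.node 4 (.node 2 (.node 1 (.leaf 0x9e) (.leaf 0xa2)) (.node 1 (.leaf 0xa) (.leaf 0x33))) (.node 2 (.node 1 (.leaf 0xac) (.leaf 0xb0)) (.node 1 (.leaf 0x32) (.leaf 0x2f)))))) (.node 16 (.node 8 (.node 4 (.node 2 (.node 1 (.leaf 0xba) (.leaf 0xbf)) (.node 1 (.leaf 0xc) (.leaf 0x37))) (.node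 2 (.node 1 (.leaf 0x11) (.leaf 0x60)) (.node 1 (.leaf 0xf) (.leaf 0x4a)))) (.node 4 (.node 2 (.node 1 (.leaf 0xce) (.leaf 0x3f)) (.node 1 (.leaf 0xcf) (.leaf 0x3d))) (.node 2 (.node 1 (.leaf 0xd5) (.leaf 0xe)) (.node 1 (.leaf 0x6c) (.leaf 0x1a))))) (.node 8 (.node 4 (.node 2 (.node 1 (.leaf 0xe1) (.leaf 0x4d)) (.node 1 (.leaf 0x65) (.leaf 0x85))) (.node 2 (.node 1 (.leaf 0xec) (.leaf 0xef)) (.node 1 (.leaf 0x3b) (.leaf 0xe9)))) (.node 4 (.node 2 (.node 1 (.leaf 0x21) (.leaf 0x45)) (.node 1 (.leaf 0xe4) (.leaf 0xfb))) (.node 2 (.node 1 (.leaf 0x13) (.leaf 0xfd)) (.node 1 (.leaf 0xaa) (.leaf 0x103))))))) (.node 32 (.node 16 (.node 8 (.node 4 (.node 2 (.node 1 (.leaf 0x104) (.leaf 0x14)) (.node 1 (.leaf 0x107) (.leaf 0x94))) (.node 2 (.node 1 (.leaf 0x108) (.leaf 0x15)) (.node 1 (.leaf 0x10a) (.leaf 0xc5)))) (.node 4 (.node 2 (.node 1 (.leaf 0xc8) (.leaf 0x17)) (.node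 1 (.leaf 0x6f) (.leaf 0xe8))) (.node 2 (.node 1 (.leaf 0x39) (.leaf 0xbc)) (.node 1 (.leaf 0xda) (.leaf 0x113))))) (.node 8 (.node 4 (.node 2 (.node 1 (.leaf 0xdc) (.leaf 0x46)) (.node 1 (.leaf 0xde) (.leaf 0x10f))) (.node 2 (.node 1 (.leaf 0xe3) (.leaf 0x10d)) (.node 1 (.leaf 0x1b) (.leaf 0x82)))) (.node 4 (.node 2 (.node 1 (.leaf 0x42) (.leaf 0xf3)) (.node 1 (.leaf 0x6e) (.leaf 0x5e))) (.node 2 (.node 1 (.leaf 0x121) (.leaf 0xf1)) (.node 1 (.leaf 0x1d) (.leaf 0x122)))))) (.node 16 (.node 8 (.node 4 (.node 2 (.node 1 (.leaf 0x74) (.leaf 0x101)) (.node 1 (.leaf 0xca) (.leaf 0xeb))) (.node 2 (.node 1 (.leaf 0x1e) (.leaf 0x7c)) (.node 1 (.leaf 0x123) (.leaf 0xfe)))) (.node 4 (.node 2 (.node 1 (.leaf 0x79) (.leaf 0x118)) (.node 1 (.leaf 0x1f) (.leaf 0x28))) (.node 2 (.node 1 (.leaf 0xb7) (.leaf 0x81)) (.node 1 (.leaf 0x6b) (.leaf 0xf2))))) (.node 8 (.node 4 (.node 2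 (.node 1 (.leaf 0x97) (.leaf 0x47)) (.node 1 (.leaf 0x86) (.leaf 0x87))) (.node 2 (.node 1 (.leaf 0x23) (.leaf 0xd7)) (.node 1 (.leaf 0x128) (.leaf 0x8b)))) (.node 4 (.node 2 (.node 1 (.leaf 0xdf) (.leaf 0x11b)) (.node 1 (.leaf 0x24) (.leaf 0x105))) (.node 2 (.node 1 (.leaf 0x25) (.leaf 0xd2)) (.node 1 (.leaf 0x26) (.leaf 0x11d)))))))

def conjA_11 : Tree :=
  .node 64 (.node 32 (.node 16 (.node 8 (.node 4 (.node 2 (.node 1 (.leaf 0x57) (.leaf 0xa5)) (.node 1 (.leaf 0x12c) (.leaf 0x84))) (.node 2 (.node 1 (.leaf 0xd8) (.leaf 0x12e)) (.node 1 (.leaf 0x29) (.leaf 0x2a)))) (.node 4 (.node 2 (.node 1 (.leaf 0xa4) (.leaf 0x131)) (.node 1 (.leaf 0x2c) (.leaf 0xcb))) (.node 2 (.node 1 (.leaf 0xee) (.leaf 0xa8)) (.node 1 (.leaf 0x2d) (.leaf 0x112))))) (.node 8 (.node 4 (.node 2 (.node 1 (.leaf 0x9c) (.leaf 0x95)) (.node 1 (.leaf 0xb6) (.leaf 0xab))) (.node 2 (.node 1 (.leaf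 0xa1) (.leaf 0x135)) (.node 1 (.leaf 0x52) (.leaf 0xa7)))) (.node 4 (.node 2 (.node 1 (.leaf 0x30) (.leaf 0x117)) (.node 1 (.leaf 0xb8) (.leaf 0x10e))) (.node 2 (.node 1 (.leaf 0x31) (.leaf 0x138)) (.node 1 (.leaf 0xc7) (.leaf 0xb3)))))) (.node 16 (.node 8 (.node 4 (.node 2 (.node 1 (.leaf 0x12f) (.leaf 0xb5)) (.node 1 (.leaf 0xa6) (.leaf 0x80))) (.node 2 (.node 1 (.leaf 0xae) (.leaf 0xcc)) (.node 1 (.leaf 0x34) (.leaf 0x111)))) (.node 4 (.node 2 (.node 1 (.leaf 0x61) (.leaf 0x116)) (.node 1 (.leaf 0x115) (.leaf 0x35))) (.node 2 (.node 1 (.leaf 0xd3) (.leaf 0x114)) (.node 1 (.leaf 0xc2) (.leaf 0xc6))))) (.node 8 (.node 4 (.node 2 (.node 1 (.leaf 0xc4) (.leaf 0x5b)) (.node 1 (.leaf 0xc3) (.leaf 0xb2))) (.node 2 (.node 1 (.leaf 0x5c) (.leaf 0x100)) (.node 1 (.leaf 0x76) (.leaf 0x9f)))) (.node 4 (.node 2 (.node 1 (.leaf 0xb9) (.leaf 0x119)) (.node 1 (.leaf 0x3c) (.leaf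 0x3e))) (.node 2 (.node 1 (.leaf 0xd0) (.leaf 0x12d)) (.node 1 (.leaf 0x91) (.leaf 0xc0))))))) (.node 32 (.node 16 (.node 8 (.node 4 (.node 2 (.node 1 (.leaf 0xd4) (.leaf 0x40)) (.node 1 (.leaf 0xe6) (.leaf 0x89))) (.node 2 (.node 1 (.leaf 0x98) (.leaf 0xd9)) (.node 1 (.leaf 0x62) (.leaf 0x106)))) (.node 4 (.node 2 (.node 1 (.leaf 0x64) (.leaf 0xe5)) (.node 1 (.leaf 0x66) (.leaf 0x8c))) (.node 2 (.node 1 (.leaf 0x11e) (.leaf 0x44)) (.node 1 (.leaf 0xf9) (.leaf 0x68))))) (.node 8 (.node 4 (.node 2 (.node 1 (.leaf 0x4e) (.leaf 0xdd)) (.node 1 (.leaf 0xd6) (.leaf 0x12b))) (.node 2 (.node 1 (.leaf 0x5f) (.leaf 0x4b)) (.node 1 (.leaf 0xf4) (.leaf 0x77)))) (.node 4 (.node 2 (.node 1 (.leaf 0x48) (.leaf 0x110)) (.node 1 (.leaf 0xa0) (.leaf 0x49))) (.node 2 (.node 1 (.leaf 0xf8) (.leaf 0x71)) (.node 1 (.leaf 0x83) (.leaf 0x6d)))))) (.node 16 (.node 8 (.node 4 (.node 2 (.node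 1 (.leaf 0xea) (.leaf 0xf6)) (.node 1 (.leaf 0xf5) (.leaf 0x130))) (.node 2 (.node 1 (.leaf 0xf0) (.leaf 0xe2)) (.node 1 (.leaf 0xfa) (.leaf 0x4f)))) (.node 4 (.node 2 (.node 1 (.leaf 0xfc) (.leaf 0x51)) (.node 1 (.leaf 0x7b) (.leaf 0xff))) (.node 2 (.node 1 (.leaf 0xc9) (.leaf 0x75)) (.node 1 (.leaf 0x11c) (.leaf 0x53))))) (.node 8 (.node 4 (.node 2 (.node 1 (.leaf 0x54) (.leaf 0x8f)) (.node 1 (.leaf 0xdb) (.leaf 0x56))) (.node 2 (.node 1 (.leaf 0x58) (.leaf 0x136)) (.node 1 (.leaf 0x5a) (.leaf 0x126)))) (.node 4 (.node 2 (.node 1 (.leaf 0x10c) (.leaf 0x69)) (.node 1 (.leaf 0xaf) (.leaf 0x67))) (.node 2 (.node 1 (.leaf 0xed) (.leaf 0xbb)) (.node 1 (.leaf 0xa3) (.leaf 0x63)))))))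

def conjA_12 : Tree :=
  .node 64 (.node 32 (.node 16 (.node 8 (.node 4 (.node 2 (.node 1 (.leaf 0xc1) (.leaf 0xbe)) (.node 1 (.leaf 0xbd) (.leaf 0xad))) (.node 2 (.node 1 (.leaf 0x7d) (.leaf 0xcd)) (.node 1 (.leaf 0x129) (.leaf 0x8d)))) (.node 4 (.node 2 (.node 1 (.leaf 0x102) (.leaf 0x93)) (.node 1 (.leaf 0xe0) (.leaf 0x124))) (.node 2 (.node 1 (.leaf 0x125) (.leaf 0x70)) (.node 1 (.leaf 0x73) (.leaf 0x7a))))) (.node 8 (.node 4 (.node 2 (.node 1 (.leaf 0x11f) (.leaf 0x120)) (.node 1 (.leaf 0x10b) (.leaf 0x127))) (.node 2 (.node 1 (.leaf 0x8a) (.leaf 0x11a)) (.node 1 (.leaf 0x12a) (.leaf 0xe7)))) (.node 4 (.node 2 (.node 1 (.leaf 0x96) (.leaf 0xd1)) (.node 1 (.leaf 0x99) (.leaf 0xb4))) (.node 2 (.node 1 (.leaf 0xf7) (.leaf 0x9d)) (.node 1 (.leaf 0x132) (.leaf 0x134)))))) (.node 16 (.node 8 (.node 4 (.node 2 (.node 1 (.leaf 0x133) (.leaf 0xa9)) (.node 1 (.leaf 0x109)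 (.leaf 0x137))) (.node 2 (.node 1 (.leaf 0xb1) (.leaf 0x139)) (.node 1 (.leaf 0x13a) (.leaf 0x0)))) (.node 4 (.node 2 (.node 1 (.leaf 0x7) (.leaf 0xc)) (.node 1 (.leaf 0x13) (.leaf 0x19))) (.node 2 (.node 1 (.leaf 0x1d) (.leaf 0x20)) (.node 1 (.leaf 0x1) (.leaf 0x26))))) (.node 8 (.node 4 (.node 2 (.node 1 (.leaf 0x9) (.leaf 0x2f)) (.node 1 (.leaf 0x33) (.leaf 0x2))) (.node 2 (.node 1 (.leaf 0x3b) (.leaf 0x42)) (.node 1 (.leaf 0x45) (.leaf 0x10)))) (.node 4 (.node 2 (.node 1 (.leaf 0x4a) (.leaf 0x4d)) (.node 1 (.leaf 0x3) (.leaf 0x25))) (.node 2 (.node 1 (.leaf 0x15) (.leaf 0x5b)) (.node 1 (.leaf 0x5e) (.leaf 0x22))))))) (.node 32 (.node 16 (.node 8 (.node 4 (.node 2 (.node 1 (.leaf 0x4) (.leaf 0x67)) (.node 1 (.leaf 0x6b) (.leaf 0x6f))) (.node 2 (.node 1 (.leaf 0x5) (.leaf 0x79)) (.node 1 (.leaf 0x78) (.leaf 0x6)))) (.node 4 (.node 2 (.node 1 (.leaf 0x6a) (.leaf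 0x18)) (.node 1 (.leaf 0x8b) (.leaf 0x57))) (.node 2 (.node 1 (.leaf 0x14) (.leaf 0x8)) (.node 1 (.leaf 0x94) (.leaf 0x2a))))) (.node 8 (.node 4 (.node 2 (.node 1 (.leaf 0x99) (.leaf 0x28)) (.node 1 (.leaf 0x2b) (.leaf 0x9f))) (.node 2 (.node 1 (.leaf 0xa3) (.leaf 0x36)) (.node 1 (.leaf 0xa) (.leaf 0xad)))) (.node 4 (.node 2 (.node 1 (.leaf 0x60) (.leaf 0xb3)) (.node 1 (.leaf 0xb) (.leaf 0xb7))) (.node 2 (.node 1 (.leaf 0x35) (.leaf 0x2e)) (.node 1 (.leaf 0xc2) (.leaf 0xc5)))))) (.node 16 (.node 8 (.node 4 (.node 2 (.node 1 (.leaf 0xc8) (.leaf 0x50)) (.node 1 (.leaf 0xd) (.leaf 0x3c))) (.node 2 (.node 1 (.leaf 0xd0) (.leaf 0xa5)) (.node 1 (.leaf 0xd4) (.leaf 0xd6)))) (.node 4 (.node 2 (.node 1 (.leaf 0x95) (.leaf 0xe)) (.node 1 (.leaf 0xdf) (.leaf 0xe2))) (.node 2 (.node 1 (.leaf 0xf) (.leaf 0xe6)) (.node 1 (.leaf 0xea) (.leaf 0xed))))) (.node 8 (.node 4 (.node 2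 (.node 1 (.leaf 0xf0) (.leaf 0x11)) (.node 1 (.leaf 0xf4) (.leaf 0x69))) (.node 2 (.node 1 (.leaf 0x12) (.leaf 0xef)) (.node 1 (.leaf 0x85) (.leaf 0x3a)))) (.node 4 (.node 2 (.node 1 (.leaf 0xff) (.leaf 0xe4)) (.node 1 (.leaf 0x8f) (.leaf 0x91))) (.node 2 (.node 1 (.leaf 0x105) (.leaf 0x58)) (.node 1 (.leaf 0x24) (.leaf 0x56)))))))

def conjA_13 : Tree :=
  .node 64 (.node 32 (.node 16 (.node 8 (.node 4 (.node 2 (.node 1 (.leaf 0x59) (.leaf 0xbc)) (.node 1 (.leaf 0x16) (.leaf 0xc3))) (.node 2 (.node 1 (.leaf 0x72) (.leaf 0x17)) (.node 1 (.leaf 0x9d) (.leaf 0x31)))) (.node 4 (.node 2 (.node 1 (.leaf 0xc7) (.leaf 0x97)) (.node 1 (.leaf 0xa1) (.leaf 0x8c))) (.node 2 (.node 1 (.leaf 0x114) (.leaf 0xf2)) (.node 1 (.leaf 0x1a) (.leaf 0xac))))) (.node 8 (.node 4 (.node 2 (.node 1 (.leaf 0x4c) (.leaf 0x21)) (.node 1 (.leaf 0x1b) (.leaf 0xcf))) (.node 2 (.node 1 (.leaf 0x106)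 (.leaf 0xfa)) (.node 1 (.leaf 0x1c) (.leaf 0x11f)))) (.node 4 (.node 2 (.node 1 (.leaf 0x71) (.leaf 0x5d)) (.node 1 (.leaf 0x73) (.leaf 0x74))) (.node 2 (.node 1 (.leaf 0x7e) (.leaf 0x11d)) (.node 1 (.leaf 0xf5) (.leaf 0x1f)))))) (.node 16 (.node 8 (.node 4 (.node 2 (.node 1 (.leaf 0x1e) (.leaf 0x7a)) (.node 1 (.leaf 0xfc) (.leaf 0x101))) (.node 2 (.node 1 (.leaf 0xeb) (.leaf 0x75)) (.node 1 (.leaf 0xda) (.leaf 0x80)))) (.node 4 (.node 2 (.node 1 (.leaf 0xc4) (.leaf 0x10d)) (.node 1 (.leaf 0x126) (.leaf 0x9b))) (.node 2 (.node 1 (.leaf 0x4f) (.leaf 0xae)) (.node 1 (.leaf 0xfd) (.leaf 0x127))))) (.node 8 (.node 4 (.node 2 (.node 1 (.leaf 0xde) (.leaf 0x12a)) (.node 1 (.leaf 0x23) (.leaf 0x64))) (.node 2 (.node 1 (.leaf 0x8d) (.leaf 0x92)) (.node 1 (.leaf 0x53) (.leaf 0x103)))) (.node 4 (.node 2 (.node 1 (.leaf 0x54) (.leaf 0x8e)) (.node 1 (.leaf 0x98) (.leaf 0x27)))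 (.node 2 (.node 1 (.leaf 0x41) (.leaf 0xdd)) (.node 1 (.leaf 0x62) (.leaf 0x93))))))) (.node 32 (.node 16 (.node 8 (.node 4 (.node 2 (.node 1 (.leaf 0x29) (.leaf 0xd2)) (.node 1 (.leaf 0x84) (.leaf 0x12f))) (.node 2 (.node 1 (.leaf 0x5f) (.leaf 0xb4)) (.node 1 (.leaf 0x2c) (.leaf 0xd8)))) (.node 4 (.node 2 (.node 1 (.leaf 0x63) (.leaf 0x113)) (.node 1 (.leaf 0x2d) (.leaf 0xcb))) (.node 2 (.node 1 (.leaf 0x3e) (.leaf 0xb1)) (.node 1 (.leaf 0x119) (.leaf 0x112))))) (.node 8 (.node 4 (.node 2 (.node 1 (.leaf 0xe3) (.leaf 0xf8)) (.node 1 (.leaf 0xbb) (.leaf 0x68))) (.node 2 (.node 1 (.leaf 0x30) (.leaf 0x86)) (.node 1 (.leaf 0xb2) (.leaf 0xc6)))) (.node 4 (.node 2 (.node 1 (.leaf 0xa6) (.leaf 0xaf)) (.node 1 (.leaf 0x32) (.leaf 0x9e))) (.node 2 (.node 1 (.leaf 0x139) (.leaf 0x110)) (.node 1 (.leaf 0x34) (.leaf 0x10c)))))) (.node 16 (.node 8 (.node 4 (.node 2 (.node 1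 (.leaf 0xce) (.leaf 0xba)) (.node 1 (.leaf 0xab) (.leaf 0x5a))) (.node 2 (.node 1 (.leaf 0xbd) (.leaf 0xbe)) (.node 1 (.leaf 0x116) (.leaf 0x118)))) (.node 4 (.node 2 (.node 1 (.leaf 0xd5) (.leaf 0x37)) (.node 1 (.leaf 0x5c) (.leaf 0x81))) (.node 2 (.node 1 (.leaf 0x38) (.leaf 0xb0)) (.node 1 (.leaf 0x61) (.leaf 0x39))))) (.node 8 (.node 4 (.node 2 (.node 1 (.leaf 0xe7) (.leaf 0xee)) (.node 1 (.leaf 0xa4) (.leaf 0xcc))) (.node 2 (.node 1 (.leaf 0x134) (.leaf 0xb9)) (.node 1 (.leaf 0x6c) (.leaf 0x3d)))) (.node 4 (.node 2 (.node 1 (.leaf 0x129) (.leaf 0x9a)) (.node 1 (.leaf 0xf6) (.leaf 0x3f))) (.node 2 (.node 1 (.leaf 0xc1) (.leaf 0x40)) (.node 1 (.leaf 0x10b) (.leaf 0xa0)))))))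

def conjA_14 : Tree :=
  .node 64 (.node 32 (.node 16 (.node 8 (.node 4 (.node 2 (.node 1 (.leaf 0xfe) (.leaf 0x7f)) (.node 1 (.leaf 0x108) (.leaf 0x10f))) (.node 2 (.node 1 (.leaf 0x96) (.leaf 0x89)) (.node 1 (.leaf 0x43) (.leaf 0x109)))) (.node 4 (.node 2 (.node 1 (.leaf 0x136) (.leaf 0x44)) (.node 1 (.leaf 0xa9) (.leaf 0x52))) (.node 2 (.node 1 (.leaf 0x12d) (.leaf 0x46)) (.node 1 (.leaf 0xc9) (.leaf 0x100))))) (.node 8 (.node 4 (.node 2 (.node 1 (.leaf 0xfb) (.leaf 0x47)) (.node 1 (.leaf 0x7d) (.leaf 0x138))) (.node 2 (.node 1 (.leaf 0x48) (.leaf 0xca)) (.node 1 (.leaf 0x4e) (.leaf 0x49)))) (.node 4 (.node 2 (.node 1 (.leaf 0xf1) (.leaf 0x66)) (.node 1 (.leaf 0x107) (.leaf 0x4b))) (.node 2 (.node 1 (.leaf 0x77) (.leaf 0xd3)) (.node 1 (.leaf 0xf7) (.leaf 0xaa)))))) (.node 16 (.node 8 (.node 4 (.node 2 (.node 1 (.leaf 0x11e) (.leaf 0x6e)) (.node 1 (.leaf 0xe9)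 (.leaf 0x7b))) (.node 2 (.node 1 (.leaf 0x87) (.leaf 0xd9)) (.node 1 (.leaf 0x51) (.leaf 0xe8)))) (.node 4 (.node 2 (.node 1 (.leaf 0x7c) (.leaf 0x102)) (.node 1 (.leaf 0x90) (.leaf 0x12e))) (.node 2 (.node 1 (.leaf 0x55) (.leaf 0x6d)) (.node 1 (.leaf 0xf3) (.leaf 0xdb))))) (.node 8 (.node 4 (.node 2 (.node 1 (.leaf 0xe0) (.leaf 0x10e)) (.node 1 (.leaf 0xd7) (.leaf 0xb8))) (.node 2 (.node 1 (.leaf 0x82) (.leaf 0x10a)) (.node 1 (.leaf 0xdc) (.leaf 0xb6)))) (.node 4 (.node 2 (.node 1 (.leaf 0x133) (.leaf 0xa8)) (.node 1 (.leaf 0xa2) (.leaf 0x65))) (.node 2 (.node 1 (.leaf 0x130) (.leaf 0xbf)) (.node 1 (.leaf 0x135) (.leaf 0xc0))))))) (.node 32 (.node 16 (.node 8 (.node 4 (.node 2 (.node 1 (.leaf 0xa7) (.leaf 0x12c)) (.node 1 (.leaf 0x11b) (.leaf 0x11c))) (.node 2 (.node 1 (.leaf 0x76) (.leaf 0xf9)) (.node 1 (.leaf 0x70) (.leaf 0x123)))) (.node 4 (.node 2 (.node 1 (.leaf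 0x121) (.leaf 0x122)) (.node 1 (.leaf 0x120) (.leaf 0x124))) (.node 2 (.node 1 (.leaf 0x125) (.leaf 0x83)) (.node 1 (.leaf 0x88) (.leaf 0x137))))) (.node 8 (.node 4 (.node 2 (.node 1 (.leaf 0xd1) (.leaf 0x8a)) (.node 1 (.leaf 0x131) (.leaf 0x11a))) (.node 2 (.node 1 (.leaf 0xe5) (.leaf 0x104)) (.node 1 (.leaf 0x9c) (.leaf 0x115)))) (.node 4 (.node 2 (.node 1 (.leaf 0x12b) (.leaf 0x13a)) (.node 1 (.leaf 0x111) (.leaf 0xcd))) (.node 2 (.node 1 (.leaf 0x117) (.leaf 0xe1)) (.node 1 (.leaf 0x128) (.leaf 0xec)))))) (.node 16 (.node 8 (.node 4 (.node 2 (.node 1 (.leaf 0xb5) (.leaf 0x132)) (.node 1 (.leaf 0x2) (.leaf 0x8))) (.node 2 (.node 1 (.leaf 0xd) (.leaf 0x14)) (.node 1 (.leaf 0x1a) (.leaf 0x1e)))) (.node 4 (.node 2 (.node 1 (.leaf 0x20) (.leaf 0x23)) (.node 1 (.leaf 0x28) (.leaf 0x2c))) (.node 2 (.node 1 (.leaf 0x30) (.leaf 0xf)) (.node 1 (.leaf 0x0) (.leaf 0x3c)))))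 (.node 8 (.node 4 (.node 2 (.node 1 (.leaf 0x22) (.leaf 0x46)) (.node 1 (.leaf 0x48) (.leaf 0x4b))) (.node 2 (.node 1 (.leaf 0x4e) (.leaf 0x51)) (.node 1 (.leaf 0x56) (.leaf 0x5a)))) (.node 4 (.node 2 (.node 1 (.leaf 0x5c) (.leaf 0x5f)) (.node 1 (.leaf 0x42) (.leaf 0x63))) (.node 2 (.node 1 (.leaf 0x31) (.leaf 0x6c)) (.node 1 (.leaf 0x4c) (.leaf 0x73)))))))

def conjA_15 : Tree :=
  .node 64 (.node 32 (.node 16 (.node 8 (.node 4 (.node 2 (.node 1 (.leaf 0x7a) (.leaf 0x7f)) (.node 1 (.leaf 0x2b) (.leaf 0x85))) (.node 2 (.node 1 (.leaf 0x87) (.leaf 0x39)) (.node 1 (.leaf 0x57) (.leaf 0x13)))) (.node 4 (.node 2 (.node 1 (.leaf 0x7) (.leaf 0x95)) (.node 1 (.leaf 0x98) (.leaf 0x47))) (.node 2 (.node 1 (.leaf 0x26) (.leaf 0x6)) (.node 1 (.leaf 0x84) (.leaf 0xa4))))) (.node 8 (.node 4 (.node 2 (.node 1 (.leaf 0xa7) (.leaf 0x6e)) (.node 1 (.leaf 0x96) (.leaf 0xb1))) (.node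 2 (.node 1 (.leaf 0x2e) (.leaf 0xb5)) (.node 1 (.leaf 0xbb) (.leaf 0xc0)))) (.node 4 (.node 2 (.node 1 (.leaf 0xb3) (.leaf 0xb6)) (.node 1 (.leaf 0x1f) (.leaf 0x93))) (.node 2 (.node 1 (.leaf 0xca) (.leaf 0xc)) (.node 1 (.leaf 0x3b) (.leaf 0xac)))))) (.node 16 (.node 8 (.node 4 (.node 2 (.node 1 (.leaf 0xd3) (.leaf 0x3a)) (.node 1 (.leaf 0x64) (.leaf 0x94))) (.node 2 (.node 1 (.leaf 0xda) (.leaf 0x34)) (.node 1 (.leaf 0xe3) (.leaf 0x33)))) (.node 4 (.node 2 (.node 1 (.leaf 0xe7) (.leaf 0x76)) (.node 1 (.leaf 0xe1) (.leaf 0x91))) (.node 2 (.node 1 (.leaf 0x8d) (.leaf 0x80)) (.node 1 (.leaf 0xf5) (.leaf 0x71))))) (.node 8 (.node 4 (.node 2 (.node 1 (.leaf 0x59) (.leaf 0x6a)) (.node 1 (.leaf 0xd4) (.leaf 0x100))) (.node 2 (.node 1 (.leaf 0xdd) (.leaf 0x29)) (.node 1 (.leaf 0xf0) (.leaf 0xd7)))) (.node 4 (.node 2 (.node 1 (.leaf 0x89) (.leaf 0x101)) (.node 1 (.leaf 0x25)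 (.leaf 0xef))) (.node 2 (.node 1 (.leaf 0xdb) (.leaf 0x10c)) (.node 1 (.leaf 0xb8) (.leaf 0xbd))))))) (.node 32 (.node 16 (.node 8 (.node 4 (.node 2 (.node 1 (.leaf 0xd9) (.leaf 0x8a)) (.node 1 (.leaf 0x67) (.leaf 0x110))) (.node 2 (.node 1 (.leaf 0x43) (.leaf 0x81)) (.node 1 (.leaf 0xd1) (.leaf 0x115)))) (.node 4 (.node 2 (.node 1 (.leaf 0x7c) (.leaf 0x19)) (.node 1 (.leaf 0xd0) (.leaf 0x6f))) (.node 2 (.node 1 (.leaf 0x21) (.leaf 0x53)) (.node 1 (.leaf 0x11d) (.leaf 0x65))))) (.node 8 (.node 4 (.node 2 (.node 1 (.leaf 0xec) (.leaf 0x88)) (.node 1 (.leaf 0x40) (.leaf 0x12))) (.node 2 (.node 1 (.leaf 0x112) (.leaf 0x5)) (.node 1 (.leaf 0xa8) (.leaf 0x4f)))) (.node 4 (.node 2 (.node 1 (.leaf 0xcf) (.leaf 0x69)) (.node 1 (.leaf 0xc5) (.leaf 0x1d))) (.node 2 (.node 1 (.leaf 0x79) (.leaf 0x9c)) (.node 1 (.leaf 0x24) (.leaf 0xb4)))))) (.node 16 (.node 8 (.node 4 (.node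 2 (.node 1 (.leaf 0x75) (.leaf 0xe)) (.node 1 (.leaf 0xf4) (.leaf 0xa6))) (.node 2 (.node 1 (.leaf 0x109) (.leaf 0x77)) (.node 1 (.leaf 0xcc) (.leaf 0x7e)))) (.node 4 (.node 2 (.node 1 (.leaf 0x10a) (.leaf 0x38)) (.node 1 (.leaf 0xaa) (.leaf 0xe8))) (.node 2 (.node 1 (.leaf 0x44) (.leaf 0x1)) (.node 1 (.leaf 0xd6) (.leaf 0x11))))) (.node 8 (.node 4 (.node 2 (.node 1 (.leaf 0x12b) (.leaf 0x1b)) (.node 1 (.leaf 0x125) (.leaf 0xf6))) (.node 2 (.node 1 (.leaf 0xbe) (.leaf 0x2a)) (.node 1 (.leaf 0x10b) (.leaf 0xd2)))) (.node 4 (.node 2 (.node 1 (.leaf 0xe4) (.leaf 0x10e)) (.node 1 (.leaf 0xc8) (.leaf 0x8f))) (.node 2 (.node 1 (.leaf 0x41) (.leaf 0x9f)) (.node 1 (.leaf 0x130) (.leaf 0x5e)))))))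

def conjA_16 : Tree :=
  .node 64 (.node 32 (.node 16 (.node 8 (.node 4 (.node 2 (.node 1 (.leaf 0xeb) (.leaf 0x9)) (.node 1 (.leaf 0x9a) (.leaf 0x4))) (.node 2 (.node 1 (.leaf 0xc9) (.leaf 0x132)) (.node 1 (.leaf 0xcb) (.leaf 0x68)))) (.node 4 (.node 2 (.node 1 (.leaf 0x60) (.leaf 0x61)) (.node 1 (.leaf 0x5d) (.leaf 0xe2))) (.node 2 (.node 1 (.leaf 0x83) (.leaf 0xb7)) (.node 1 (.leaf 0x3e) (.leaf 0x2f))))) (.node 8 (.node 4 (.node 2 (.node 1 (.leaf 0xab) (.leaf 0x137)) (.node 1 (.leaf 0x11c) (.leaf 0xc4))) (.node 2 (.node 1 (.leaf 0x123) (.leaf 0x37)) (.node 1 (.leaf 0x128) (.leaf 0xa2)))) (.node 4 (.node 2 (.node 1 (.leaf 0xc7) (.leaf 0xdf)) (.node 1 (.leaf 0x16) (.leaf 0x11a))) (.node 2 (.node 1 (.leaf 0x12e) (.leaf 0x86)) (.node 1 (.leaf 0x15) (.leaf 0x72)))))) (.node 16 (.node 8 (.node 4 (.node 2 (.node 1 (.leaf 0x8e) (.leaf 0xdc)) (.node 1 (.leaf 0xcd) (.leaf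 0x10f))) (.node 2 (.node 1 (.leaf 0x32) (.leaf 0x5b)) (.node 1 (.leaf 0xa1) (.leaf 0xfd)))) (.node 4 (.node 2 (.node 1 (.leaf 0x104) (.leaf 0x119)) (.node 1 (.leaf 0x8b) (.leaf 0xe6))) (.node 2 (.node 1 (.leaf 0xf3) (.leaf 0xa3)) (.node 1 (.leaf 0x9b) (.leaf 0xf1))))) (.node 8 (.node 4 (.node 2 (.node 1 (.leaf 0x70) (.leaf 0x6b)) (.node 1 (.leaf 0x49) (.leaf 0x12c))) (.node 2 (.node 1 (.leaf 0xd8) (.leaf 0x54)) (.node 1 (.leaf 0x11e) (.leaf 0xc1)))) (.node 4 (.node 2 (.node 1 (.leaf 0x11f) (.leaf 0x27)) (.node 1 (.leaf 0x55) (.leaf 0xa9))) (.node 2 (.node 1 (.leaf 0x78) (.leaf 0x121)) (.node 1 (.leaf 0xd5) (.leaf 0xad))))))) (.node 32 (.node 16 (.node 8 (.node 4 (.node 2 (.node 1 (.leaf 0x58) (.leaf 0x97)) (.node 1 (.leaf 0x10d) (.leaf 0x124))) (.node 2 (.node 1 (.leaf 0x12a) (.leaf 0xfe)) (.node 1 (.leaf 0x138) (.leaf 0x120)))) (.node 4 (.node 2 (.node 1 (.leaf 0x45)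 (.leaf 0x113)) (.node 1 (.leaf 0xff) (.leaf 0xf9))) (.node 2 (.node 1 (.leaf 0x99) (.leaf 0xe5)) (.node 1 (.leaf 0x52) (.leaf 0x10))))) (.node 8 (.node 4 (.node 2 (.node 1 (.leaf 0x50) (.leaf 0x4d)) (.node 1 (.leaf 0x3d) (.leaf 0x134))) (.node 2 (.node 1 (.leaf 0x66) (.leaf 0xe9)) (.node 1 (.leaf 0x4a) (.leaf 0x126)))) (.node 4 (.node 2 (.node 1 (.leaf 0xa5) (.leaf 0x82)) (.node 1 (.leaf 0x127) (.leaf 0x3f))) (.node 2 (.node 1 (.leaf 0xa) (.leaf 0x107)) (.node 1 (.leaf 0x133) (.leaf 0x18)))))) (.node 16 (.node 8 (.node 4 (.node 2 (.node 1 (.leaf 0x17) (.leaf 0x3)) (.node 1 (.leaf 0xde) (.leaf 0xf2))) (.node 2 (.node 1 (.leaf 0xe0) (.leaf 0x117)) (.node 1 (.leaf 0xba) (.leaf 0xa0)))) (.node 4 (.node 2 (.node 1 (.leaf 0x111) (.leaf 0xee)) (.node 1 (.leaf 0xbc) (.leaf 0x102))) (.node 2 (.node 1 (.leaf 0x62) (.leaf 0x105)) (.node 1 (.leaf 0xc3) (.leaf 0xf7))))) (.node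 8 (.node 4 (.node 2 (.node 1 (.leaf 0xae) (.leaf 0x116)) (.node 1 (.leaf 0xc2) (.leaf 0x7b))) (.node 2 (.node 1 (.leaf 0x74) (.leaf 0x139)) (.node 1 (.leaf 0x106) (.leaf 0x12f)))) (.node 4 (.node 2 (.node 1 (.leaf 0xbf) (.leaf 0x11b)) (.node 1 (.leaf 0x35) (.leaf 0x36))) (.node 2 (.node 1 (.leaf 0x129) (.leaf 0x135)) (.node 1 (.leaf 0xc6) (.leaf 0xea)))))))

def conjA_17 : Tree :=
  .node 64 (.node 32 (.node 16 (.node 8 (.node 4 (.node 2 (.node 1 (.leaf 0xfb) (.leaf 0xb9)) (.node 1 (.leaf 0xaf) (.leaf 0x108))) (.node 2 (.node 1 (.leaf 0x131) (.leaf 0x12d)) (.node 1 (.leaf 0x136) (.leaf 0x103)))) (.node 4 (.node 2 (.node 1 (.leaf 0xf8) (.leaf 0x1c)) (.node 1 (.leaf 0xb2) (.leaf 0x8c))) (.node 2 (.node 1 (.leaf 0x9d) (.leaf 0x122)) (.node 1 (.leaf 0xce) (.leaf 0x7d))))) (.node 8 (.node 4 (.node 2 (.node 1 (.leaf 0xb0) (.leaf 0xfc)) (.node 1 (.leaf 0x114) (.leaf 0x92)))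 (.node 2 (.node 1 (.leaf 0x13a) (.leaf 0x6d)) (.node 1 (.leaf 0x118) (.leaf 0x90)))) (.node 4 (.node 2 (.node 1 (.leaf 0xed) (.leaf 0x9e)) (.node 1 (.leaf 0xfa) (.leaf 0xb))) (.node 2 (.node 1 (.leaf 0x2d) (.leaf 0x3)) (.node 1 (.leaf 0x9) (.leaf 0xe)))))) (.node 16 (.node 8 (.node 4 (.node 2 (.node 1 (.leaf 0x15) (.leaf 0x1b)) (.node 1 (.leaf 0x1f) (.leaf 0x21))) (.node 2 (.node 1 (.leaf 0xf) (.leaf 0x29)) (.node 1 (.leaf 0x1d) (.leaf 0x31)))) (.node 4 (.node 2 (.node 1 (.leaf 0x34) (.leaf 0x37)) (.node 1 (.leaf 0x3d) (.leaf 0x43))) (.node 2 (.node 1 (.leaf 0x47) (.leaf 0x49)) (.node 1 (.leaf 0x4c) (.leaf 0x4f))))) (.node 8 (.node 4 (.node 2 (.node 1 (.leaf 0x52) (.leaf 0x57)) (.node 1 (.leaf 0x4a) (.leaf 0x45))) (.node 2 (.node 1 (.leaf 0x19) (.leaf 0x61)) (.node 1 (.leaf 0x17) (.leaf 0x68)))) (.node 4 (.node 2 (.node 1 (.leaf 0x6d) (.leaf 0x70)) (.node 1 (.leaf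 0x74) (.leaf 0x7b))) (.node 2 (.node 1 (.leaf 0x56) (.leaf 0x81)) (.node 1 (.leaf 0x1a) (.leaf 0x5a))))))) (.node 32 (.node 16 (.node 8 (.node 4 (.node 2 (.node 1 (.leaf 0x8c) (.leaf 0x73)) (.node 1 (.leaf 0x25) (.leaf 0x26))) (.node 2 (.node 1 (.leaf 0x96) (.leaf 0x5e)) (.node 1 (.leaf 0x8) (.leaf 0x2b)))) (.node 4 (.node 2 (.node 1 (.leaf 0x6b) (.leaf 0xa0)) (.node 1 (.leaf 0xa5) (.leaf 0x98))) (.node 2 (.node 1 (.leaf 0xa8) (.leaf 0x1e)) (.node 1 (.leaf 0xb2) (.leaf 0xa9))))) (.node 8 (.node 4 (.node 2 (.node 1 (.leaf 0xb6) (.leaf 0xbc)) (.node 1 (.leaf 0x3e) (.leaf 0xa))) (.node 2 (.node 1 (.leaf 0xc3) (.leaf 0xb9)) (.node 1 (.leaf 0x72) (.leaf 0xcb)))) (.node 4 (.node 2 (.node 1 (.leaf 0x3a) (.leaf 0xcf)) (.node 1 (.leaf 0xd1) (.leaf 0x90))) (.node 2 (.node 1 (.leaf 0xd5) (.leaf 0xd7)) (.node 1 (.leaf 0xd9) (.leaf 0xdb)))))) (.node 16 (.node 8 (.node 4 (.node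 2 (.node 1 (.leaf 0xb1) (.leaf 0xe4)) (.node 1 (.leaf 0x16) (.leaf 0xe8))) (.node 2 (.node 1 (.leaf 0xeb) (.leaf 0xee)) (.node 1 (.leaf 0xf1) (.leaf 0x0)))) (.node 4 (.node 2 (.node 1 (.leaf 0xae) (.leaf 0xf6)) (.node 1 (.leaf 0xb5) (.leaf 0xfa))) (.node 2 (.node 1 (.leaf 0xdd) (.leaf 0x2c)) (.node 1 (.leaf 0xc1) (.leaf 0x101))))) (.node 8 (.node 4 (.node 2 (.node 1 (.leaf 0x8d) (.leaf 0x54)) (.node 1 (.leaf 0x67) (.leaf 0x5b))) (.node 2 (.node 1 (.leaf 0x14) (.leaf 0x59)) (.node 1 (.leaf 0xea) (.leaf 0x10b)))) (.node 4 (.node 2 (.node 1 (.leaf 0x5) (.leaf 0x5d)) (.node 1 (.leaf 0x23) (.leaf 0xe0))) (.node 2 (.node 1 (.leaf 0xd) (.leaf 0x10d)) (.node 1 (.leaf 0x39) (.leaf 0x13)))))))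

def conjA_18 : Tree :=
  .node 64 (.node 32 (.node 16 (.node 8 (.node 4 (.node 2 (.node 1 (.leaf 0x2e) (.leaf 0x42)) (.node 1 (.leaf 0x113) (.leaf 0x103))) (.node 2 (.node 1 (.leaf 0xf7) (.leaf 0x6)) (.node 1 (.leaf 0x97) (.leaf 0x11a)))) (.node 4 (.node 2 (.node 1 (.leaf 0x11c) (.leaf 0xc0)) (.node 1 (.leaf 0xf0) (.leaf 0x11e))) (.node 2 (.node 1 (.leaf 0xa7) (.leaf 0xb0)) (.node 1 (.leaf 0x7c) (.leaf 0x18))))) (.node 8 (.node 4 (.node 2 (.node 1 (.leaf 0x24) (.leaf 0x1)) (.node 1 (.leaf 0xdc) (.leaf 0x108))) (.node 2 (.node 1 (.leaf 0x124) (.leaf 0x7d)) (.node 1 (.leaf 0x27) (.leaf 0x79)))) (.node 4 (.node 2 (.node 1 (.leaf 0xb4) (.leaf 0x122)) (.node 1 (.leaf 0x78) (.leaf 0x46))) (.node 2 (.node 1 (.leaf 0xaf) (.leaf 0x82)) (.node 1 (.leaf 0x10a) (.leaf 0xd2)))))) (.node 16 (.node 8 (.node 4 (.node 2 (.node 1 (.leaf 0x118) (.leaf 0x3f)) (.node 1 (.leaf 0x40) (.leaf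 0x6a))) (.node 2 (.node 1 (.leaf 0xf5) (.leaf 0x129)) (.node 1 (.leaf 0xd6) (.leaf 0x121)))) (.node 4 (.node 2 (.node 1 (.leaf 0x94) (.leaf 0x5c)) (.node 1 (.leaf 0x53) (.leaf 0x77))) (.node 2 (.node 1 (.leaf 0x91) (.leaf 0xfe)) (.node 1 (.leaf 0x8f) (.leaf 0x8a))))) (.node 8 (.node 4 (.node 2 (.node 1 (.leaf 0x104) (.leaf 0xdf)) (.node 1 (.leaf 0x86) (.leaf 0x7a))) (.node 2 (.node 1 (.leaf 0x69) (.leaf 0x10f)) (.node 1 (.leaf 0x102) (.leaf 0x12d)))) (.node 4 (.node 2 (.node 1 (.leaf 0x6f) (.leaf 0xa3)) (.node 1 (.leaf 0x116) (.leaf 0xb7))) (.node 2 (.node 1 (.leaf 0x132) (.leaf 0x10c)) (.node 1 (.leaf 0x115) (.leaf 0xe7))))))) (.node 32 (.node 16 (.node 8 (.node 4 (.node 2 (.node 1 (.leaf 0xa2) (.leaf 0x6c)) (.node 1 (.leaf 0x12c) (.leaf 0xad))) (.node 2 (.node 1 (.leaf 0xf2) (.leaf 0x126)) (.node 1 (.leaf 0x11f) (.leaf 0x119)))) (.node 4 (.node 2 (.node 1 (.leaf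 0x110) (.leaf 0x136)) (.node 1 (.leaf 0xab) (.leaf 0x10e))) (.node 2 (.node 1 (.leaf 0x135) (.leaf 0xc4)) (.node 1 (.leaf 0x2) (.leaf 0x36))))) (.node 8 (.node 4 (.node 2 (.node 1 (.leaf 0xec) (.leaf 0x30)) (.node 1 (.leaf 0x9e) (.leaf 0x89))) (.node 2 (.node 1 (.leaf 0x4d) (.leaf 0xcc)) (.node 1 (.leaf 0x12b) (.leaf 0xd0)))) (.node 4 (.node 2 (.node 1 (.leaf 0x131) (.leaf 0xc2)) (.node 1 (.leaf 0x66) (.leaf 0xff))) (.node 2 (.node 1 (.leaf 0x117) (.leaf 0xf9)) (.node 1 (.leaf 0xe3) (.leaf 0xb)))))) (.node 16 (.node 8 (.node 4 (.node 2 (.node 1 (.leaf 0xce) (.leaf 0x1c)) (.node 1 (.leaf 0xc7) (.leaf 0xd4))) (.node 2 (.node 1 (.leaf 0x76) (.leaf 0x12)) (.node 1 (.leaf 0x4b) (.leaf 0x84)))) (.node 4 (.node 2 (.node 1 (.leaf 0x100) (.leaf 0x93)) (.node 1 (.leaf 0xb3) (.leaf 0xc))) (.node 2 (.node 1 (.leaf 0x12e) (.leaf 0x9a)) (.node 1 (.leaf 0x5f) (.leaf 0xe6))))) (.node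 8 (.node 4 (.node 2 (.node 1 (.leaf 0x71) (.leaf 0x107)) (.node 1 (.leaf 0xca) (.leaf 0x33))) (.node 2 (.node 1 (.leaf 0xfc) (.leaf 0x137)) (.node 1 (.leaf 0xf8) (.leaf 0x3c)))) (.node 4 (.node 2 (.node 1 (.leaf 0xfd) (.leaf 0xd8)) (.node 1 (.leaf 0xc8) (.leaf 0x92))) (.node 2 (.node 1 (.leaf 0x125) (.leaf 0xfb)) (.node 1 (.leaf 0x51) (.leaf 0x11)))))))

def conjA_19 : Tree :=
  .node 44 (.node 22 (.node 11 (.node 5 (.node 2 (.node 1 (.leaf 0xe1) (.leaf 0x44)) (.node 1 (.leaf 0x2f) (.node 1 (.leaf 0x80) (.leaf 0x9c)))) (.node 3 (.node 1 (.leaf 0xef) (.node 1 (.leaf 0x106) (.leaf 0x11b))) (.node 1 (.leaf 0x7) (.node 1 (.leaf 0x120) (.leaf 0x32))))) (.node 5 (.node 2 (.node 1 (.leaf 0x65) (.leaf 0x7e)) (.node 1 (.leaf 0x4) (.node 1 (.leaf 0x109) (.leaf 0x9b)))) (.node 3 (.node 1 (.leaf 0xbd) (.node 1 (.leaf 0x55) (.leaf 0xbb))) (.node 1 (.leaf 0xe2) (.node 1 (.leaf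 0xf4) (.leaf 0x134)))))) (.node 11 (.node 5 (.node 2 (.node 1 (.leaf 0xa4) (.leaf 0x133)) (.node 1 (.leaf 0x28) (.node 1 (.leaf 0x85) (.leaf 0x64)))) (.node 3 (.node 1 (.leaf 0x35) (.node 1 (.leaf 0x105) (.leaf 0x3b))) (.node 1 (.leaf 0x62) (.node 1 (.leaf 0x99) (.leaf 0xf3))))) (.node 5 (.node 2 (.node 1 (.leaf 0xb8) (.leaf 0x114)) (.node 1 (.leaf 0xe9) (.node 1 (.leaf 0x12f) (.leaf 0xc5)))) (.node 3 (.node 1 (.leaf 0x10) (.node 1 (.leaf 0x123) (.leaf 0x12a))) (.node 1 (.leaf 0x50) (.node 1 (.leaf 0x128) (.leaf 0xc9))))))) (.node 22 (.node 11 (.node 5 (.node 2 (.node 1 (.leaf 0x63) (.leaf 0xa6)) (.node 1 (.leaf 0x60) (.node 1 (.leaf 0x13a) (.leaf 0x48)))) (.node 3 (.node 1 (.leaf 0xbe) (.node 1 (.leaf 0x9f) (.leaf 0x112))) (.node 1 (.leaf 0x6e) (.node 1 (.leaf 0x88) (.leaf 0xac))))) (.node 5 (.node 2 (.node 1 (.leaf 0x95) (.leaf 0x58)) (.node 1 (.leaf 0x2a) (.node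 1 (.leaf 0x8e) (.leaf 0xbf)))) (.node 3 (.node 1 (.leaf 0xed) (.node 1 (.leaf 0xcd) (.leaf 0xde))) (.node 1 (.leaf 0xd3) (.node 1 (.leaf 0x20) (.leaf 0x11d)))))) (.node 11 (.node 5 (.node 2 (.node 1 (.leaf 0x8b) (.leaf 0xe5)) (.node 1 (.leaf 0x7f) (.node 1 (.leaf 0x111) (.leaf 0x83)))) (.node 3 (.node 1 (.leaf 0x22) (.node 1 (.leaf 0x139) (.leaf 0x138))) (.node 1 (.leaf 0xba) (.node 1 (.leaf 0xda) (.leaf 0xc6))))) (.node 5 (.node 2 (.node 1 (.leaf 0x4e) (.leaf 0x87)) (.node 1 (.leaf 0xa1) (.node 1 (.leaf 0x130) (.leaf 0x41)))) (.node 3 (.node 1 (.leaf 0x127) (.node 1 (.leaf 0xaa) (.leaf 0x75))) (.node 1 (.leaf 0x2d) (.node 1 (.leaf 0x38) (.leaf 0x9d)))))))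

def conjA : Tree :=
  .node 1280 (.node 640 (.node 256 (.node 128 (conjA_0) (conjA_1)) (.node 128 (conjA_2) (.node 128 (conjA_3) (conjA_4)))) (.node 256 (.node 128 (conjA_5) (conjA_6)) (.node 128 (conjA_7) (.node 128 (conjA_8) (conjA_9))))) (.node 640 (.node 256 (.node 128 (conjA_10) (conjA_11)) (.node 128 (conjA_12) (.node 128 (conjA_13) (conjA_14)))) (.node 256 (.node 128 (conjA_15) (conjA_16)) (.node 128 (conjA_17) (.node 128 (conjA_18) (conjA_19)))))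

def witP_0 : Tree :=
  .node 64 (.node 32 (.node 16 (.node 8 (.node 4 (.node 2 (.node 1 (.leaf 0x0) (.leaf 0x86c42684624e6868a8ce4686c42684624e68624ece42868ae84a48ea868a2868ae84b)) (.node 1 (.leaf 0x1) (.leaf 0xc86c42684624e6868a8ce4686c42684624e68624ece424ec86c42684624e6868a8ce4686c42684624e68624ece42424868ae84a48ea868a2868ae84b))) (.node 2 (.node 1 (.leaf 0x428624ce24c68624c64e246424ec84868ae84a48ea868a2868ae84b) (.leaf 0x86c42684624e6868a8ce4686c42684624e68624ece424c86c42684624e6868a8ce4686c42684624e68624ece424868ae84a48ea868a2868ae84b)) (.node 1 (.leaf 0x4e64868ae84a48ea868a2868ae84b) (.leaf 0xc86c42684624e6868a8ce4686c42684624e68624ece42868ae84a48ea868a2868ae84b)))) (.node 4 (.node 2 (.node 1 (.leaf 0x868ae84a48ea868a2868ae84b) (.leaf 0x8624ce24c68624c64e246424ec8e64868ae84a48ea868a2868ae84b)) (.node 1 (.leaf 0x4c86c42684624e6868a8ce4686c42684624e68624ece424868ae84a48ea868a2868ae84b)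 (.leaf 0x428624ce24c68624c64e246424ec8c86c42684624e6868a8ce4686c42684624e68624ece424868ae84a48ea868a2868ae84b))) (.node 2 (.node 1 (.leaf 0xc86c42684624e6868a8ce4686c42684624e68624ece424c86c42684624e6868a8ce4686c42684624e68624ece42c86c42684624e6868a8ce4686c42684624e68624ece424868ae84a48ea868a2868ae84b) (.leaf 0x58)) (.node 1 (.leaf 0x23a) (.leaf 0x11c))))) (.node 8 (.node 4 (.node 2 (.node 1 (.leaf 0x0) (.leaf 0x428624ce24c68624c64e246424ec624ce24c68624c64e246424ec68ae84a48ea868a2868ae84b)) (.node 1 (.leaf 0x0) (.leaf 0x0))) (.node 2 (.node 1 (.leaf 0x0) (.leaf 0x0)) (.node 1 (.leaf 0x0) (.leaf 0xc86c42684624e6868a8ce4686c42684624e68624ece424ec4868ae84a48ea868a2868ae84b)))) (.node 4 (.node 2 (.node 1 (.leaf 0xc86c42684624e6868a8ce4686c42684624e68624ece424c86c42684624e6868a8ce4686c42684624e68624ece424868ae84a48ea868a2868ae84b) (.leaf 0x4ec86c42684624e6868a8ce4686c42684624e68624ece42424868ae84a48ea868a2868ae84b))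 (.node 1 (.leaf 0xc8624ce24c68624c64e246424ec8e64868ae84a48ea868a2868ae84b) (.leaf 0xc86c42684624e6868a8ce4686c42684624e68624ece424e64868ae84a48ea868a2868ae84b))) (.node 2 (.node 1 (.leaf 0xb4) (.leaf 0xe4)) (.node 1 (.leaf 0x14) (.leaf 0x2)))))) (.node 16 (.node 8 (.node 4 (.node 2 (.node 1 (.leaf 0xe8) (.leaf 0x22)) (.node 1 (.leaf 0x206) (.leaf 0x1e4))) (.node 2 (.node 1 (.leaf 0x0) (.leaf 0x468624ce24c68624c64e246424ec68ae84a48ea868a2868ae84b)) (.node 1 (.leaf 0x0) (.leaf 0x0)))) (.node 4 (.node 2 (.node 1 (.leaf 0x0) (.leaf 0x18a)) (.node 1 (.leaf 0x0) (.leaf 0x0))) (.node 2 (.node 1 (.leaf 0x0) (.leaf 0x0)) (.node 1 (.leaf 0x0) (.leaf 0xe468624ce24c68624c64e246424ec68ae84a48ea868a2868ae84b))))) (.node 8 (.node 4 (.node 2 (.node 1 (.leaf 0x0) (.leaf 0x0)) (.node 1 (.leaf 0x0) (.leaf 0x104))) (.node 2 (.node 1 (.leaf 0x2c) (.leaf 0x238)) (.node 1 (.leaf 0x246)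 (.leaf 0xea)))) (.node 4 (.node 2 (.node 1 (.leaf 0x0) (.leaf 0x66)) (.node 1 (.leaf 0x0) (.leaf 0x0))) (.node 2 (.node 1 (.leaf 0x0) (.leaf 0xe8624ce24c68624c64e246424ec8e68624ce24c68624c64e246424ec68ae84a48ea868a2868ae84b)) (.node 1 (.leaf 0x0) (.leaf 0x0))))))) (.node 32 (.node 16 (.node 8 (.node 4 (.node 2 (.node 1 (.leaf 0x0) (.leaf 0x0)) (.node 1 (.leaf 0x0) (.leaf 0x168))) (.node 2 (.node 1 (.leaf 0x0) (.leaf 0x0)) (.node 1 (.leaf 0x0) (.leaf 0xec86c42684624e6868a8ce4686c42684624e68624ece424e8624ce24c68624c64e246424ec68ae84a48ea868a2868ae84b)))) (.node 4 (.node 2 (.node 1 (.leaf 0x0) (.leaf 0x8624ce24c68624c64e246424ec8e68624ce24c68624c64e246424ec68ae84a48ea868a2868ae84b)) (.node 1 (.leaf 0x0) (.leaf 0x0))) (.node 2 (.node 1 (.leaf 0x0) (.leaf 0x274)) (.node 1 (.leaf 0x0) (.leaf 0x0))))) (.node 8 (.node 4 (.node 2 (.node 1 (.leaf 0x0) (.leaf 0x4c64868ae84a48ea868a2868ae84b))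 (.node 1 (.leaf 0x0) (.leaf 0x0))) (.node 2 (.node 1 (.leaf 0x0) (.leaf 0x0)) (.node 1 (.leaf 0x0) (.leaf 0xc86c42684624e6868a8ce4686c42684624e68624ece424e8624ce24c68624c64e246424ec68ae84a48ea868a2868ae84b)))) (.node 4 (.node 2 (.node 1 (.leaf 0x0) (.leaf 0x0)) (.node 1 (.leaf 0x0) (.leaf 0x186))) (.node 2 (.node 1 (.leaf 0x0) (.leaf 0x0)) (.node 1 (.leaf 0x0) (.leaf 0x468624ce24c68624c64e246424ec84c86c42684624e6868a8ce4686c42684624e68624ece424868ae84a48ea868a2868ae84b)))))) (.node 16 (.node 8 (.node 4 (.node 2 (.node 1 (.leaf 0x0) (.leaf 0xe8624ce24c68624c64e246424ec6c42684624e6868a8ce4686c42684624e68624ece424c268a8624ce8624ce24c68624c64e246424ec8c4268b)) (.node 1 (.leaf 0x0) (.leaf 0x0))) (.node 2 (.node 1 (.leaf 0x0) (.leaf 0x16c)) (.node 1 (.leaf 0x0) (.leaf 0x0)))) (.node 4 (.node 2 (.node 1 (.leaf 0x0) (.leaf 0xc86c42684624e6868a8ce4686c42684624e68624ece424e8624ce24c68624c64e246424ec8c86c42684624e6868a8ce4686c42684624e68624ece42868ae84a48ea868a2868ae84b))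 (.node 1 (.leaf 0x0) (.leaf 0x0))) (.node 2 (.node 1 (.leaf 0x0) (.leaf 0xde)) (.node 1 (.leaf 0x0) (.leaf 0x0))))) (.node 8 (.node 4 (.node 2 (.node 1 (.leaf 0x0) (.leaf 0x0)) (.node 1 (.leaf 0x0) (.leaf 0xc86c42684624e6868a8ce4686c42684624e68624ece4248624ce24c68624c64e246424ec6c42684624e6868a8ce4686c42684624e68624ece424868ae84a48ea868a2868ae84b))) (.node 2 (.node 1 (.leaf 0x0) (.leaf 0x0)) (.node 1 (.leaf 0x0) (.leaf 0x70)))) (.node 4 (.node 2 (.node 1 (.leaf 0x0) (.leaf 0x0)) (.node 1 (.leaf 0x0) (.leaf 0x276))) (.node 2 (.node 1 (.leaf 0x0) (.leaf 0x0)) (.node 1 (.leaf 0x0) (.leaf 0x0)))))))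

def witP_1 : Tree :=
  .node 64 (.node 32 (.node 16 (.node 8 (.node 4 (.node 2 (.node 1 (.leaf 0x0) (.leaf 0x0)) (.node 1 (.leaf 0x0) (.leaf 0x428624ce24c68624c64e246424ec8c86c42684624e6868a8ce4686c42684624e68624ece468a8624ce8624ce24c68624c64e246424ec8c4268b))) (.node 2 (.node 1 (.leaf 0x0) (.leaf 0x0)) (.node 1 (.leaf 0x0) (.leaf 0xc8624ce24c68624c64e246424ec6c42684624e6868a8ce4686c42684624e68624ece424c268a8624ce8624ce24c68624c64e246424ec8c4268b)))) (.node 4 (.node 2 (.node 1 (.leaf 0x0) (.leaf 0x8624ce24c68624c64e246424ec8e48624ce24c68624c64e246424ec8268a8624ce8624ce24c68624c64e246424ec8c4268b)) (.node 1 (.leaf 0x0) (.leaf 0x0))) (.node 2 (.node 1 (.leaf 0x0) (.leaf 0x0)) (.node 1 (.leaf 0x0) (.leaf 0x0))))) (.node 8 (.node 4 (.node 2 (.node 1 (.leaf 0x8624ce24c68624c64e246424ec6c42684624e6868a8ce4686c42684624e68624ece424c268a8624ce8624ce24c68624c64e246424ec8c4268b)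 (.leaf 0x0)) (.node 1 (.leaf 0x0) (.leaf 0x0))) (.node 2 (.node 1 (.leaf 0x0) (.leaf 0x266)) (.node 1 (.leaf 0x0) (.leaf 0x0)))) (.node 4 (.node 2 (.node 1 (.leaf 0x0) (.leaf 0x0)) (.node 1 (.leaf 0x0) (.leaf 0x1f6))) (.node 2 (.node 1 (.leaf 0x0) (.leaf 0x0)) (.node 1 (.leaf 0xc86c42684624e6868a8ce4686c42684624e68624ece424c246268a8624ce8624ce24c68624c64e246424ec8c4268b) (.leaf 0x0)))))) (.node 16 (.node 8 (.node 4 (.node 2 (.node 1 (.leaf 0x0) (.leaf 0x0)) (.node 1 (.leaf 0x0) (.leaf 0x0))) (.node 2 (.node 1 (.leaf 0x0) (.leaf 0x0)) (.node 1 (.leaf 0x0) (.leaf 0x0)))) (.node 4 (.node 2 (.node 1 (.leaf 0x8624ce24c68624c64e246424ec8ec86c42684624e6868a8ce4686c42684624e68624ece4248624ce24c68624c64e246424ec86268a8624ce8624ce24c68624c64e246424ec8c4268b) (.leaf 0x0)) (.node 1 (.leaf 0x0) (.leaf 0x0))) (.node 2 (.node 1 (.leaf 0x0) (.leaf 0x0)) (.node 1 (.leaf 0x0) (.leaf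 0x0))))) (.node 8 (.node 4 (.node 2 (.node 1 (.leaf 0x0) (.leaf 0x0)) (.node 1 (.leaf 0x0) (.leaf 0x268a8624ce8624ce24c68624c64e246424ec8c4268b))) (.node 2 (.node 1 (.leaf 0x0) (.leaf 0x0)) (.node 1 (.leaf 0x0) (.leaf 0xec86c42684624e6868a8ce4686c42684624e68624ece424c86c42684624e6868a8ce4686c42684624e68624ece4248624ce24c68624c64e246424ec8268a8624ce8624ce24c68624c64e246424ec8c4268b)))) (.node 4 (.node 2 (.node 1 (.leaf 0x0) (.leaf 0x8624ce24c68624c64e246424ec86c86c42684624e6868a8ce4686c42684624e68624ece424e4268a8624ce8624ce24c68624c64e246424ec8c4268b)) (.node 1 (.leaf 0x0) (.leaf 0x0))) (.node 2 (.node 1 (.leaf 0x0) (.leaf 0x0)) (.node 1 (.leaf 0x0) (.leaf 0x0))))))) (.node 32 (.node 16 (.node 8 (.node 4 (.node 2 (.node 1 (.leaf 0x0) (.leaf 0x0)) (.node 1 (.leaf 0x0) (.leaf 0x0))) (.node 2 (.node 1 (.leaf 0x0) (.leaf 0x0)) (.node 1 (.leaf 0x68624ce24c68624c64e246424ec6c42684624e6868a8ce4686c42684624e68624ece424c268a8624ce8624ce24c68624c64e246424ec8c4268b)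 (.leaf 0x0)))) (.node 4 (.node 2 (.node 1 (.leaf 0x0) (.leaf 0x0)) (.node 1 (.leaf 0x0) (.leaf 0x0))) (.node 2 (.node 1 (.leaf 0x6c86c42684624e6868a8ce4686c42684624e68624ece424c86c42684624e6868a8ce4686c42684624e68624ece4248624ce24c68624c64e246424ec8268a8624ce8624ce24c68624c64e246424ec8c4268b) (.leaf 0x0)) (.node 1 (.leaf 0x0) (.leaf 0x0))))) (.node 8 (.node 4 (.node 2 (.node 1 (.leaf 0x0) (.leaf 0x0)) (.node 1 (.leaf 0x0) (.leaf 0x0))) (.node 2 (.node 1 (.leaf 0x0) (.leaf 0x0)) (.node 1 (.leaf 0xc268a8624ce8624ce24c68624c64e246424ec8c4268b) (.leaf 0x0)))) (.node 4 (.node 2 (.node 1 (.leaf 0x0) (.leaf 0x0)) (.node 1 (.leaf 0x0) (.leaf 0x0))) (.node 2 (.node 1 (.leaf 0xc6268a8624ce8624ce24c68624c64e246424ec8c4268b) (.leaf 0x0)) (.node 1 (.leaf 0x0) (.leaf 0x0)))))) (.node 16 (.node 8 (.node 4 (.node 2 (.node 1 (.leaf 0x0) (.leaf 0x0)) (.node 1 (.leaf 0x0) (.leaf 0x0)))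 (.node 2 (.node 1 (.leaf 0x0) (.leaf 0x6268a8624ce8624ce24c68624c64e246424ec8c4268b)) (.node 1 (.leaf 0x0) (.leaf 0x0)))) (.node 4 (.node 2 (.node 1 (.leaf 0x0) (.leaf 0x0)) (.node 1 (.leaf 0x0) (.leaf 0x0))) (.node 2 (.node 1 (.leaf 0x0) (.leaf 0x0)) (.node 1 (.leaf 0x0) (.leaf 0x0))))) (.node 8 (.node 4 (.node 2 (.node 1 (.leaf 0x0) (.leaf 0x0)) (.node 1 (.leaf 0xc86c42684624e6868a8ce4686c42684624e68624ece424c86c42684624e6868a8ce4686c42684624e68624ece4248624ce24c68624c64e246424ec8268a8624ce8624ce24c68624c64e246424ec8c4268b) (.leaf 0x0))) (.node 2 (.node 1 (.leaf 0x0) (.leaf 0x0)) (.node 1 (.leaf 0x0) (.leaf 0x0)))) (.node 4 (.node 2 (.node 1 (.leaf 0x0) (.leaf 0x0)) (.node 1 (.leaf 0x0) (.leaf 0x8624ce24c68624c64e246424ec8e428624ce24c68624c64e246424ec8c8a6c42684624e6868a8ce4686c42684624e68624ece424e2424c8a6c42684624e6868a8ce4686c42684624e68624ece424e2424c8b))) (.node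 2 (.node 1 (.leaf 0x0) (.leaf 0x0)) (.node 1 (.leaf 0x0) (.leaf 0x0)))))))

def witP_2 : Tree :=
  .node 64 (.node 32 (.node 16 (.node 8 (.node 4 (.node 2 (.node 1 (.leaf 0x0) (.leaf 0x0)) (.node 1 (.leaf 0x0) (.leaf 0x0))) (.node 2 (.node 1 (.leaf 0x0) (.leaf 0x4c64c8a6c42684624e6868a8ce4686c42684624e68624ece424e2424c8a6c42684624e6868a8ce4686c42684624e68624ece424e2424c8b)) (.node 1 (.leaf 0x0) (.leaf 0x0)))) (.node 4 (.node 2 (.node 1 (.leaf 0x0) (.leaf 0x0)) (.node 1 (.leaf 0x0) (.leaf 0x8624ce24c68624c64e246424ec8c86c42684624e6868a8ce4686c42684624e68624ece424e8624ce24c68624c64e246424ec8c86c42684624e6868a8ce4686c42684624e68624ece42c8a6c42684624e6868a8ce4686c42684624e68624ece424e2424c8a6c42684624e6868a8ce4686c42684624e68624ece424e2424c8b))) (.node 2 (.node 1 (.leaf 0x0) (.leaf 0x0)) (.node 1 (.leaf 0x0) (.leaf 0xe468624ce24c68624c64e246424ec8c8a6c42684624e6868a8ce4686c42684624e68624ece424e2424c8a6c42684624e6868a8ce4686c42684624e68624ece424e2424c8b)))))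 (.node 8 (.node 4 (.node 2 (.node 1 (.leaf 0x0) (.leaf 0x0)) (.node 1 (.leaf 0x0) (.leaf 0xe8624ce24c68624c64e246424ec8ce8624ce24c68624c64e246424ec8c8a6c42684624e6868a8ce4686c42684624e68624ece424e2424c8a6c42684624e6868a8ce4686c42684624e68624ece424e2424c8b))) (.node 2 (.node 1 (.leaf 0x0) (.leaf 0x0)) (.node 1 (.leaf 0x0) (.leaf 0x0)))) (.node 4 (.node 2 (.node 1 (.leaf 0x0) (.leaf 0x0)) (.node 1 (.leaf 0x0) (.leaf 0xc86c42684624e6868a8ce4686c42684624e68624ece42486c42684624e6868a8ce4686c42684624e68624ece424c24c8a6c42684624e6868a8ce4686c42684624e68624ece424e2424c8a6c42684624e6868a8ce4686c42684624e68624ece424e2424c8b))) (.node 2 (.node 1 (.leaf 0x0) (.leaf 0xe4c64c8a6c42684624e6868a8ce4686c42684624e68624ece424e2424c8a6c42684624e6868a8ce4686c42684624e68624ece424e2424c8b)) (.node 1 (.leaf 0x0) (.leaf 0x0)))))) (.node 16 (.node 8 (.node 4 (.node 2 (.node 1 (.leaf 0x0) (.leaf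 0xec86c42684624e6868a8ce4686c42684624e68624ece4248624ce24c68624c64e246424ec8c4c8a6c42684624e6868a8ce4686c42684624e68624ece424e2424c8a6c42684624e6868a8ce4686c42684624e68624ece424e2424c8b)) (.node 1 (.leaf 0x0) (.leaf 0x0))) (.node 2 (.node 1 (.leaf 0x0) (.leaf 0x428624ce24c68624c64e246424ec624ce24c68624c64e246424ec8c8a6c42684624e6868a8ce4686c42684624e68624ece424e2424c8a6c42684624e6868a8ce4686c42684624e68624ece424e2424c8b)) (.node 1 (.leaf 0x0) (.leaf 0x0)))) (.node 4 (.node 2 (.node 1 (.leaf 0x0) (.leaf 0x0)) (.node 1 (.leaf 0x0) (.leaf 0x468624ce24c68624c64e246424ec8c8a6c42684624e6868a8ce4686c42684624e68624ece424e2424c8a6c42684624e6868a8ce4686c42684624e68624ece424e2424c8b))) (.node 2 (.node 1 (.leaf 0x0) (.leaf 0x0)) (.node 1 (.leaf 0x0) (.leaf 0xc86c42684624e6868a8ce4686c42684624e68624ece424ec4c8a6c42684624e6868a8ce4686c42684624e68624ece424e2424c8a6c42684624e6868a8ce4686c42684624e68624ece424e2424c8b)))))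 (.node 8 (.node 4 (.node 2 (.node 1 (.leaf 0x0) (.leaf 0x0)) (.node 1 (.leaf 0x0) (.leaf 0xc86c42684624e6868a8ce4686c42684624e68624ece424e8624ce24c68624c64e246424ec8c8a6c42684624e6868a8ce4686c42684624e68624ece424e2424c8a6c42684624e6868a8ce4686c42684624e68624ece424e2424c8b))) (.node 2 (.node 1 (.leaf 0x0) (.leaf 0x8624ce24c68624c64e246424ec8ce8624ce24c68624c64e246424ec8c8a6c42684624e6868a8ce4686c42684624e68624ece424e2424c8a6c42684624e6868a8ce4686c42684624e68624ece424e2424c8b)) (.node 1 (.leaf 0x0) (.leaf 0x0)))) (.node 4 (.node 2 (.node 1 (.leaf 0xc86c42684624e6868a8ce4686c42684624e68624ece424c86c42684624e6868a8ce4686c42684624e68624ece42c86c42684624e6868a8ce4686c42684624e68624ece424c8a6c42684624e6868a8ce4686c42684624e68624ece424e2424c8a6c42684624e6868a8ce4686c42684624e68624ece424e2424c8b) (.leaf 0xc86c42684624e6868a8ce4686c42684624e68624ece4242c86c42684624e6868a8ce4686c42684624e68624ece42464c8a6c42684624e6868a8ce4686c42684624e68624ece424e2424c8a6c42684624e6868a8ce4686c42684624e68624ece424e2424c8b))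 (.node 1 (.leaf 0xc86c42684624e6868a8ce4686c42684624e68624ece424ec86c42684624e6868a8ce4686c42684624e68624ece42424c8a6c42684624e6868a8ce4686c42684624e68624ece424e2424c8a6c42684624e6868a8ce4686c42684624e68624ece424e2424c8b) (.leaf 0xc8a6c42684624e6868a8ce4686c42684624e68624ece424e2424c8a6c42684624e6868a8ce4686c42684624e68624ece424e2424c8b))) (.node 2 (.node 1 (.leaf 0x0) (.leaf 0x0)) (.node 1 (.leaf 0x0) (.leaf 0x0))))))) (.node 32 (.node 16 (.node 8 (.node 4 (.node 2 (.node 1 (.leaf 0x0) (.leaf 0x0)) (.node 1 (.leaf 0x0) (.leaf 0x0))) (.node 2 (.node 1 (.leaf 0x0) (.leaf 0x0)) (.node 1 (.leaf 0x0) (.leaf 0x0)))) (.node 4 (.node 2 (.node 1 (.leaf 0x0) (.leaf 0x0)) (.node 1 (.leaf 0x0) (.leaf 0x0))) (.node 2 (.node 1 (.leaf 0x0) (.leaf 0x0)) (.node 1 (.leaf 0x0) (.leaf 0x0))))) (.node 8 (.node 4 (.node 2 (.node 1 (.leaf 0x428624ce24c68624c64e246424ec84c8a6c42684624e6868a8ce4686c42684624e68624ece424e2424c8a6c42684624e6868a8ce4686c42684624e68624ece424e2424c8b)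 (.leaf 0xc86c42684624e6868a8ce4686c42684624e68624ece428624ce24c68624c64e246424ec8ec4c8a6c42684624e6868a8ce4686c42684624e68624ece424e2424c8a6c42684624e6868a8ce4686c42684624e68624ece424e2424c8b)) (.node 1 (.leaf 0x8624ce24c68624c64e246424ec8e64c8a6c42684624e6868a8ce4686c42684624e68624ece424e2424c8a6c42684624e6868a8ce4686c42684624e68624ece424e2424c8b) (.leaf 0x8624ce24c68624c64e246424ec6c42684624e6868a8ce4686c42684624e68624ece424c24c8a6c42684624e6868a8ce4686c42684624e68624ece424e2424c8a6c42684624e6868a8ce4686c42684624e68624ece424e2424c8b))) (.node 2 (.node 1 (.leaf 0x86c42684624e6868a8ce4686c42684624e68624ece424ec86c42684624e6868a8ce4686c42684624e68624ece42424c8a6c42684624e6868a8ce4686c42684624e68624ece424e2424c8a6c42684624e6868a8ce4686c42684624e68624ece424e2424c8b) (.leaf 0xc86c42684624e6868a8ce4686c42684624e68624ece424e64c8a6c42684624e6868a8ce4686c42684624e68624ece424e2424c8a6c42684624e6868a8ce4686c42684624e68624ece424e2424c8b))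 (.node 1 (.leaf 0xc4ec86c42684624e6868a8ce4686c42684624e68624ece42424c8a6c42684624e6868a8ce4686c42684624e68624ece424e2424c8a6c42684624e6868a8ce4686c42684624e68624ece424e2424c8b) (.leaf 0xc86c42684624e6868a8ce4686c42684624e68624ece42c8a6c42684624e6868a8ce4686c42684624e68624ece424e2424c8a6c42684624e6868a8ce4686c42684624e68624ece424e2424c8b)))) (.node 4 (.node 2 (.node 1 (.leaf 0x0) (.leaf 0x8624ce24c68624c64e246424ec8e468624ce24c68624c64e246424ec8c8a6c42684624e6868a8ce4686c42684624e68624ece424e2424c8a6c42684624e6868a8ce4686c42684624e68624ece424e2424c8b)) (.node 1 (.leaf 0x0) (.leaf 0x0))) (.node 2 (.node 1 (.leaf 0x0) (.leaf 0x0)) (.node 1 (.leaf 0x0) (.leaf 0x8624ce24c68624c64e246424ec8e68624ce24c68624c64e246424ec8c8a6c42684624e6868a8ce4686c42684624e68624ece424e2424c8a6c42684624e6868a8ce4686c42684624e68624ece424e2424c8b)))))) (.node 16 (.node 8 (.node 4 (.node 2 (.node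 1 (.leaf 0x0) (.leaf 0x0)) (.node 1 (.leaf 0x0) (.leaf 0xc86c42684624e6868a8ce4686c42684624e68624ece424e8624ce24c68624c64e246424ec8c86c42684624e6868a8ce4686c42684624e68624ece42c8a6c42684624e6868a8ce4686c42684624e68624ece424e2424c8a6c42684624e6868a8ce4686c42684624e68624ece424e2424c8b))) (.node 2 (.node 1 (.leaf 0x0) (.leaf 0xc86c42684624e6868a8ce4686c42684624e68624ece4248624ce24c68624c64e246424ec8c4c8a6c42684624e6868a8ce4686c42684624e68624ece424e2424c8a6c42684624e6868a8ce4686c42684624e68624ece424e2424c8b)) (.node 1 (.leaf 0x0) (.leaf 0x0)))) (.node 4 (.node 2 (.node 1 (.leaf 0x0) (.leaf 0xe468624ce24c68624c64e246424ec8c86c42684624e6868a8ce4686c42684624e68624ece42c8a6c42684624e6868a8ce4686c42684624e68624ece424e2424c8a6c42684624e6868a8ce4686c42684624e68624ece424e2424c8b)) (.node 1 (.leaf 0x0) (.leaf 0x0))) (.node 2 (.node 1 (.leaf 0x0) (.leaf 0x0)) (.node 1 (.leaf 0x0)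 (.leaf 0x468624ce24c68624c64e246424ec8c86c42684624e6868a8ce4686c42684624e68624ece42c8a6c42684624e6868a8ce4686c42684624e68624ece424e2424c8a6c42684624e6868a8ce4686c42684624e68624ece424e2424c8b))))) (.node 8 (.node 4 (.node 2 (.node 1 (.leaf 0x0) (.leaf 0x0)) (.node 1 (.leaf 0x0) (.leaf 0x0))) (.node 2 (.node 1 (.leaf 0x0) (.leaf 0xec86c42684624e6868a8ce4686c42684624e68624ece424e8624ce24c68624c64e246424ec8c8a6c42684624e6868a8ce4686c42684624e68624ece424e2424c8a6c42684624e6868a8ce4686c42684624e68624ece424e2424c8b)) (.node 1 (.leaf 0x0) (.leaf 0x0)))) (.node 4 (.node 2 (.node 1 (.leaf 0x4e64c8a6c42684624e6868a8ce4686c42684624e68624ece424e2424c8a6c42684624e6868a8ce4686c42684624e68624ece424e2424c8b) (.leaf 0x86c42684624e6868a8ce4686c42684624e68624ece42c8a6c42684624e6868a8ce4686c42684624e68624ece424e2424c8a6c42684624e6868a8ce4686c42684624e68624ece424e2424c8b)) (.node 1 (.leaf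 0xc86c42684624e6868a8ce4686c42684624e68624ece424c86c42684624e6868a8ce4686c42684624e68624ece424c8a6c42684624e6868a8ce4686c42684624e68624ece424e2424c8a6c42684624e6868a8ce4686c42684624e68624ece424e2424c8b) (.leaf 0x4c86c42684624e6868a8ce4686c42684624e68624ece424c8a6c42684624e6868a8ce4686c42684624e68624ece424e2424c8a6c42684624e6868a8ce4686c42684624e68624ece424e2424c8b))) (.node 2 (.node 1 (.leaf 0xc8624ce24c68624c64e246424ec8ec4c8a6c42684624e6868a8ce4686c42684624e68624ece424e2424c8a6c42684624e6868a8ce4686c42684624e68624ece424e2424c8b) (.leaf 0xc428624ce24c68624c64e246424ec8c86c42684624e6868a8ce4686c42684624e68624ece424c8a6c42684624e6868a8ce4686c42684624e68624ece424e2424c8a6c42684624e6868a8ce4686c42684624e68624ece424e2424c8b)) (.node 1 (.leaf 0xc428624ce24c68624c64e246424ec84c8a6c42684624e6868a8ce4686c42684624e68624ece424e2424c8a6c42684624e6868a8ce4686c42684624e68624ece424e2424c8b)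 (.leaf 0xc86c42684624e6868a8ce4686c42684624e68624ece4248624ce24c68624c64e246424ec82c86c42684624e6868a8ce4686c42684624e68624ece424c4c8a6c42684624e6868a8ce4686c42684624e68624ece424e2424c8a6c42684624e6868a8ce4686c42684624e68624ece424e2424c8b)))))))

def witP_3 : Tree :=
  .node 64 (.node 32 (.node 16 (.node 8 (.node 4 (.node 2 (.node 1 (.leaf 0x0) (.leaf 0x0)) (.node 1 (.leaf 0x0) (.leaf 0x0))) (.node 2 (.node 1 (.leaf 0x0) (.leaf 0x0)) (.node 1 (.leaf 0x0) (.leaf 0x0)))) (.node 4 (.node 2 (.node 1 (.leaf 0x0) (.leaf 0x0)) (.node 1 (.leaf 0x0) (.leaf 0x0))) (.node 2 (.node 1 (.leaf 0x0) (.leaf 0x0)) (.node 1 (.leaf 0x0) (.leaf 0x0))))) (.node 8 (.node 4 (.node 2 (.node 1 (.leaf 0x0) (.leaf 0x0)) (.node 1 (.leaf 0x0) (.leaf 0x0))) (.node 2 (.node 1 (.leaf 0x0) (.leaf 0x0)) (.node 1 (.leaf 0x0) (.leaf 0x0)))) (.node 4 (.node 2 (.node 1 (.leaf 0x0) (.leaf 0x0)) (.node 1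 (.leaf 0x0) (.leaf 0x0))) (.node 2 (.node 1 (.leaf 0x0) (.leaf 0x0)) (.node 1 (.leaf 0x0) (.leaf 0x0)))))) (.node 16 (.node 8 (.node 4 (.node 2 (.node 1 (.leaf 0x8624ce24c68624c64e246424ec8e86c42684624e6868a8ce4686c42684624e68624ece424c8a6c42684624e6868a8ce4686c42684624e68624ece424e2424c8a6c42684624e6868a8ce4686c42684624e68624ece424e2424c8b) (.leaf 0x8624ce24c68624c64e246424ec8c8a6c42684624e6868a8ce4686c42684624e68624ece424e242462c8a6c42684624e6868a8ce4686c42684624e68624ece424e242462c8b)) (.node 1 (.leaf 0xc8624ce24c68624c64e246424ec8e64c8a6c42684624e6868a8ce4686c42684624e68624ece424e2424c8a6c42684624e6868a8ce4686c42684624e68624ece424e2424c8b) (.leaf 0x428624ce24c68624c64e246424ec8c86c42684624e6868a8ce4686c42684624e68624ece424c8a6c42684624e6868a8ce4686c42684624e68624ece424e2424c8a6c42684624e6868a8ce4686c42684624e68624ece424e2424c8b))) (.node 2 (.node 1 (.leaf 0x0)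 (.leaf 0x468624ce24c68624c64e246424ec84c86c42684624e6868a8ce4686c42684624e68624ece424c8a6c42684624e6868a8ce4686c42684624e68624ece424e2424c8a6c42684624e6868a8ce4686c42684624e68624ece424e2424c8b)) (.node 1 (.leaf 0x0) (.leaf 0x0)))) (.node 4 (.node 2 (.node 1 (.leaf 0x0) (.leaf 0x0)) (.node 1 (.leaf 0x0) (.leaf 0x0))) (.node 2 (.node 1 (.leaf 0x86c42684624e6868a8ce4686c42684624e68624ece424c86c42684624e6868a8ce4686c42684624e68624ece424c8a6c42684624e6868a8ce4686c42684624e68624ece424e2424c8a6c42684624e6868a8ce4686c42684624e68624ece424e2424c8b) (.leaf 0xc8a6c42684624e6868a8ce4686c42684624e68624ece424e242462c8a6c42684624e6868a8ce4686c42684624e68624ece424e242462c8b)) (.node 1 (.leaf 0x4ec86c42684624e6868a8ce4686c42684624e68624ece42424c8a6c42684624e6868a8ce4686c42684624e68624ece424e2424c8a6c42684624e6868a8ce4686c42684624e68624ece424e2424c8b) (.leaf 0x86c42684624e6868a8ce4686c42684624e68624ece4242c86c42684624e6868a8ce4686c42684624e68624ece42464c8a6c42684624e6868a8ce4686c42684624e68624ece424e2424c8a6c42684624e6868a8ce4686c42684624e68624ece424e2424c8b)))))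 (.node 8 (.node 4 (.node 2 (.node 1 (.leaf 0x0) (.leaf 0xe8624ce24c68624c64e246424ec8e68624ce24c68624c64e246424ec8c8a6c42684624e6868a8ce4686c42684624e68624ece424e2424c8a6c42684624e6868a8ce4686c42684624e68624ece424e2424c8b)) (.node 1 (.leaf 0x0) (.leaf 0x0))) (.node 2 (.node 1 (.leaf 0x0) (.leaf 0x0)) (.node 1 (.leaf 0x0) (.leaf 0xc86c42684624e6868a8ce4686c42684624e68624ece4248624ce24c68624c64e246424ec6c42684624e6868a8ce4686c42684624e68624ece424c8a6c42684624e6868a8ce4686c42684624e68624ece424e2424c8a6c42684624e6868a8ce4686c42684624e68624ece424e2424c8b)))) (.node 4 (.node 2 (.node 1 (.leaf 0x0) (.leaf 0x0)) (.node 1 (.leaf 0x0) (.leaf 0x0))) (.node 2 (.node 1 (.leaf 0x8624ce24c68624c64e246424ec8ec4c8a6c42684624e6868a8ce4686c42684624e68624ece424e2424c8a6c42684624e6868a8ce4686c42684624e68624ece424e2424c8b) (.leaf 0x8624ce24c68624c64e246424ec848624ce24c68624c64e246424ec624ce24c68624c64e246424ec864c8a6c42684624e6868a8ce4686c42684624e68624ece424e2424c8a6c42684624e6868a8ce4686c42684624e68624ece424e2424c8b))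 (.node 1 (.leaf 0xc8624ce24c68624c64e246424ec8e86c42684624e6868a8ce4686c42684624e68624ece424c8a6c42684624e6868a8ce4686c42684624e68624ece424e2424c8a6c42684624e6868a8ce4686c42684624e68624ece424e2424c8b) (.leaf 0x48624ce24c68624c64e246424ec8ec86c42684624e6868a8ce4686c42684624e68624ece4248624ce24c68624c64e246424ec624ce24c68624c64e246424ec8c8a6c42684624e6868a8ce4686c42684624e68624ece424e2424c8a6c42684624e6868a8ce4686c42684624e68624ece424e2424c8b))))))) (.node 32 (.node 16 (.node 8 (.node 4 (.node 2 (.node 1 (.leaf 0x0) (.leaf 0x0)) (.node 1 (.leaf 0x0) (.leaf 0x0))) (.node 2 (.node 1 (.leaf 0x0) (.leaf 0x0)) (.node 1 (.leaf 0x0) (.leaf 0x0)))) (.node 4 (.node 2 (.node 1 (.leaf 0x0) (.leaf 0x0)) (.node 1 (.leaf 0x0) (.leaf 0x0))) (.node 2 (.node 1 (.leaf 0x0) (.leaf 0x0)) (.node 1 (.leaf 0x0) (.leaf 0x0))))) (.node 8 (.node 4 (.node 2 (.node 1 (.leaf 0x0) (.leaf 0x0)) (.node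 1 (.leaf 0x0) (.leaf 0x0))) (.node 2 (.node 1 (.leaf 0x0) (.leaf 0x0)) (.node 1 (.leaf 0x0) (.leaf 0x0)))) (.node 4 (.node 2 (.node 1 (.leaf 0x0) (.leaf 0x0)) (.node 1 (.leaf 0x0) (.leaf 0x0))) (.node 2 (.node 1 (.leaf 0x0) (.leaf 0x0)) (.node 1 (.leaf 0x0) (.leaf 0x0)))))) (.node 16 (.node 8 (.node 4 (.node 2 (.node 1 (.leaf 0x0) (.leaf 0xec86c42684624e6868a8ce4686c42684624e68624ece4248624ce24c68624c64e246424ec6c42684624e6868a8ce4686c42684624e68624ece424c8a6c42684624e6868a8ce4686c42684624e68624ece424e2424c8a6c42684624e6868a8ce4686c42684624e68624ece424e2424c8b)) (.node 1 (.leaf 0x0) (.leaf 0x0))) (.node 2 (.node 1 (.leaf 0x0) (.leaf 0x0)) (.node 1 (.leaf 0x0) (.leaf 0x0)))) (.node 4 (.node 2 (.node 1 (.leaf 0x0) (.leaf 0x0)) (.node 1 (.leaf 0x0) (.leaf 0x0))) (.node 2 (.node 1 (.leaf 0x0) (.leaf 0x0)) (.node 1 (.leaf 0x0) (.leaf 0x0))))) (.node 8 (.node 4 (.node 2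 (.node 1 (.leaf 0x0) (.leaf 0x0)) (.node 1 (.leaf 0x0) (.leaf 0x0))) (.node 2 (.node 1 (.leaf 0x0) (.leaf 0x0)) (.node 1 (.leaf 0x0) (.leaf 0x0)))) (.node 4 (.node 2 (.node 1 (.leaf 0x0) (.leaf 0x0)) (.node 1 (.leaf 0x0) (.leaf 0x0))) (.node 2 (.node 1 (.leaf 0x0) (.leaf 0x0)) (.node 1 (.leaf 0x0) (.leaf 0x0)))))))

def witP : Tree :=
  .node 256 (.node 128 (witP_0) (witP_1)) (.node 128 (witP_2) (witP_3))

def sevenWord : List ℕ := [1, 2, 5, 6]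

def witSeven_0 : List (List ℕ) :=
  [[], [0x434231212143423, 0x12121], [0x343212673127231, 0x763743121212324, 0x21234]]

def witSeven : List (List ℕ) := unchunk (witSeven_0)

def candsD_0 : List (List ℕ) :=
  [[0x5], [0x213243126343276, 0x342312734353437, 0x672343621], [0x454], [0x213243126343276, 0x231273434543437, 0x67234362134], [0x54545], [0x213243126343276, 0x127343545453437, 0x6723436213423], [0x132431263432764, 0x452127672134372, 0x734312767212545, 0x672343621342312, 0x4], [0x132431263432764, 0x252127672134372, 0x231273431276721, 0x467234362134], [0x213243126343276, 0x312634327643437, 0x276721343721324, 0x734312767212521, 0x672343621342312, 0x362134231273434, 0x67234], [0x132431263432765, 0x252127672134372, 0x231273431276721, 0x567234362134], [0x213243126343276, 0x312634327653437, 0x276721343721324, 0x734312767212521, 0x672343621342312, 0x362134231273435,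 0x67234], [0x132431263432764, 0x652127672134372, 0x721324312634327, 0x212521276721343, 0x342312734312767, 0x672125672343621, 0x213423127343127, 0x46723436], [0x132431263432765, 0x452127672134372, 0x213243126343276, 0x125212767213437, 0x423127343127672, 0x212546723436213, 0x342312734312767, 0x5672343621], [0x213243126343276, 0x312634327653437, 0x276721343721324, 0x431263432764521, 0x127672134372132, 0x273431276721252, 0x467234362134231, 0x127343127672125, 0x356723436213423, 0x343621342312734, 0x672], [0x132431263432764, 0x652127672134372, 0x721324312634327, 0x764521276721343, 0x372132431263432, 0x721252127672134, 0x134231273431276, 0x672125467234362, 0x213423127343127, 0x276721256723436, 0x362134231273431, 0x467234], [0x132127263162127, 0x432761723621263, 0x534372132431263, 0x436213423127343, 0x136212632716723, 0x72126136272123], [0x132127263162127, 0x714541723621263,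 0x272123136212632, 0x72126136], [0x132127263162127, 0x545451723621263, 0x212313621263271, 0x7212613627], [0x132127263162127, 0x432761723621263, 0x534372132431263, 0x134231273435454, 0x126327167234362, 0x261362721231362, 0x721], [0x132127263162127, 0x327641723621263, 0x343721324312634, 0x125454521276721, 0x423127343127672, 0x327146723436213, 0x362721231362126, 0x721261], [0x132127263162127, 0x432761723621263, 0x434372132431263, 0x213243126343276, 0x125212767213437, 0x423127343127672, 0x734346723436213, 0x672343621342312, 0x212313621263271, 0x7212613627], [0x132127263162127, 0x327651723621263, 0x343721324312634, 0x767212521276721, 0x621342312734312, 0x212632715672343, 0x126136272123136, 0x72], [0x132127263162127, 0x432761723621263, 0x534372132431263, 0x213243126343276, 0x125212767213437, 0x423127343127672, 0x734356723436213, 0x672343621342312, 0x212313621263271, 0x7212613627],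 [0x132127263162127, 0x327641723621263, 0x343721324312634, 0x343276521276721, 0x213437213243126, 0x127672125212767, 0x436213423127343, 0x431276721256723, 0x234362134231273, 0x313621263271467, 0x7212613627212], [0x132127263162127, 0x327651723621263, 0x343721324312634, 0x432764521276721, 0x134372132431263, 0x276721252127672, 0x362134231273431, 0x127672125467234, 0x436213423127343, 0x362126327156723, 0x721261362721231], [0x132127263162127, 0x432761723621263, 0x534372132431263, 0x213243126343276, 0x645212767213437, 0x721324312634327, 0x212521276721343, 0x342312734312767, 0x721254672343621, 0x134231273431276, 0x127343567234362, 0x716723436213423, 0x272123136212632, 0x72126136], [0x132127263162127, 0x327641723621263, 0x343721324312634, 0x343276521276721, 0x213437213243126, 0x634327645212767, 0x721343721324312, 0x312767212521276, 0x343621342312734, 0x431276721254672, 0x234362134231273,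 0x734312767212567, 0x672343621342312, 0x123136212632714, 0x72126136272], [0x637213212726327, 0x721324312634327, 0x134231273435343, 0x123127367234362, 0x7236272], [0x437213212726327, 0x236272123127345, 0x7], [0x537213212726327, 0x627212312735454, 0x723], [0x637213212726327, 0x721324312634327, 0x312734354545343, 0x273672343621342, 0x72362721231], [0x437213212726327, 0x213243126343276, 0x545212767213437, 0x273431276721254, 0x467234362134231, 0x72362721231273], [0x637213212726327, 0x721324312634327, 0x431263432764343, 0x127672134372132, 0x273431276721252, 0x467234362134231, 0x436213423127343, 0x627212312736723, 0x723], [0x537213212726327, 0x213243126343276, 0x125212767213437, 0x423127343127672, 0x127356723436213, 0x7236272123], [0x637213212726327, 0x721324312634327, 0x431263432765343, 0x127672134372132, 0x273431276721252, 0x567234362134231, 0x436213423127343, 0x627212312736723,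 0x723], [0x437213212726327, 0x213243126343276, 0x765212767213437, 0x372132431263432, 0x721252127672134, 0x134231273431276, 0x767212567234362, 0x621342312734312, 0x212312734672343, 0x723627], [0x537213212726327, 0x213243126343276, 0x645212767213437, 0x721324312634327, 0x212521276721343, 0x342312734312767, 0x721254672343621, 0x134231273431276, 0x231273567234362, 0x72362721], [0x637213212726327, 0x721324312634327, 0x431263432765343, 0x127672134372132, 0x243126343276452, 0x212767213437213, 0x127343127672125, 0x546723436213423, 0x312734312767212, 0x435672343621342, 0x234362134231273, 0x236272123127367, 0x7], [0x437213212726327, 0x213243126343276, 0x765212767213437, 0x372132431263432, 0x276452127672134, 0x437213243126343, 0x672125212767213, 0x213423127343127, 0x767212546723436, 0x621342312734312, 0x127672125672343, 0x436213423127343, 0x272123127346723, 0x7236]]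

def candsD : List (List ℕ) := unchunk (candsD_0)

def dIdx_0 : Tree :=
  .node 64 (.node 32 (.node 16 (.node 8 (.node 4 (.node 2 (.node 1 (.leaf 0x0) (.leaf 0x3)) (.node 1 (.leaf 0x7) (.leaf 0x0))) (.node 2 (.node 1 (.leaf 0x3) (.leaf 0x7)) (.node 1 (.leaf 0x7) (.leaf 0x0)))) (.node 4 (.node 2 (.node 1 (.leaf 0x3) (.leaf 0x7)) (.node 1 (.leaf 0x0) (.leaf 0x3))) (.node 2 (.node 1 (.leaf 0x2) (.leaf 0x8)) (.node 1 (.leaf 0x1) (.leaf 0x2))))) (.node 8 (.node 4 (.node 2 (.node 1 (.leaf 0x8) (.leaf 0x1)) (.node 1 (.leaf 0x1) (.leaf 0x2))) (.node 2 (.node 1 (.leaf 0x8) (.leaf 0x1)) (.node 1 (.leaf 0x2) (.leaf 0x8)))) (.node 4 (.node 2 (.node 1 (.leaf 0x4) (.leaf 0xc)) (.node 1 (.leaf 0x9) (.leaf 0x4))) (.node 2 (.node 1 (.leaf 0xc) (.leaf 0x9)) (.node 1 (.leaf 0x9) (.leaf 0x4)))))) (.node 16 (.node 8 (.node 4 (.node 2 (.node 1 (.leaf 0xc) (.leaf 0x9)) (.node 1 (.leaf 0x4)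 (.leaf 0xc))) (.node 2 (.node 1 (.leaf 0x5) (.leaf 0xd)) (.node 1 (.leaf 0xa) (.leaf 0x5)))) (.node 4 (.node 2 (.node 1 (.leaf 0xd) (.leaf 0xa)) (.node 1 (.leaf 0xa) (.leaf 0x5))) (.node 2 (.node 1 (.leaf 0xd) (.leaf 0xa)) (.node 1 (.leaf 0x5) (.leaf 0xd))))) (.node 8 (.node 4 (.node 2 (.node 1 (.leaf 0x6) (.leaf 0xe)) (.node 1 (.leaf 0xb) (.leaf 0x6))) (.node 2 (.node 1 (.leaf 0xe) (.leaf 0xb)) (.node 1 (.leaf 0xb) (.leaf 0x6)))) (.node 4 (.node 2 (.node 1 (.leaf 0xe) (.leaf 0xb)) (.node 1 (.leaf 0x6) (.leaf 0xe))) (.node 2 (.node 1 (.leaf 0x0) (.leaf 0x3)) (.node 1 (.leaf 0x7) (.leaf 0x0))))))) (.node 32 (.node 16 (.node 8 (.node 4 (.node 2 (.node 1 (.leaf 0x3) (.leaf 0x7)) (.node 1 (.leaf 0x7) (.leaf 0x0))) (.node 2 (.node 1 (.leaf 0x3) (.leaf 0x7)) (.node 1 (.leaf 0x0) (.leaf 0x3)))) (.node 4 (.node 2 (.node 1 (.leaf 0x2) (.leaf 0x8)) (.node 1 (.leaf 0x1) (.leaf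 0x2))) (.node 2 (.node 1 (.leaf 0x8) (.leaf 0x1)) (.node 1 (.leaf 0x1) (.leaf 0x2))))) (.node 8 (.node 4 (.node 2 (.node 1 (.leaf 0x8) (.leaf 0x1)) (.node 1 (.leaf 0x2) (.leaf 0x8))) (.node 2 (.node 1 (.leaf 0x4) (.leaf 0xc)) (.node 1 (.leaf 0x9) (.leaf 0x4)))) (.node 4 (.node 2 (.node 1 (.leaf 0xc) (.leaf 0x9)) (.node 1 (.leaf 0x9) (.leaf 0x4))) (.node 2 (.node 1 (.leaf 0xc) (.leaf 0x9)) (.node 1 (.leaf 0x4) (.leaf 0xc)))))) (.node 16 (.node 8 (.node 4 (.node 2 (.node 1 (.leaf 0x5) (.leaf 0xd)) (.node 1 (.leaf 0xa) (.leaf 0x5))) (.node 2 (.node 1 (.leaf 0xd) (.leaf 0xa)) (.node 1 (.leaf 0xa) (.leaf 0x5)))) (.node 4 (.node 2 (.node 1 (.leaf 0xd) (.leaf 0xa)) (.node 1 (.leaf 0x5) (.leaf 0xd))) (.node 2 (.node 1 (.leaf 0x6) (.leaf 0xe)) (.node 1 (.leaf 0xb) (.leaf 0x6))))) (.node 8 (.node 4 (.node 2 (.node 1 (.leaf 0xe) (.leaf 0xb)) (.node 1 (.leaf 0xb) (.leaf 0x6)))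 (.node 2 (.node 1 (.leaf 0xe) (.leaf 0xb)) (.node 1 (.leaf 0x6) (.leaf 0xe)))) (.node 4 (.node 2 (.node 1 (.leaf 0x1) (.leaf 0x2)) (.node 1 (.leaf 0x8) (.leaf 0x1))) (.node 2 (.node 1 (.leaf 0x2) (.leaf 0x8)) (.node 1 (.leaf 0x8) (.leaf 0x1)))))))

def dIdx_1 : Tree :=
  .node 64 (.node 32 (.node 16 (.node 8 (.node 4 (.node 2 (.node 1 (.leaf 0x2) (.leaf 0x8)) (.node 1 (.leaf 0x1) (.leaf 0x2))) (.node 2 (.node 1 (.leaf 0x3) (.leaf 0x7)) (.node 1 (.leaf 0x0) (.leaf 0x3)))) (.node 4 (.node 2 (.node 1 (.leaf 0x7) (.leaf 0x0)) (.node 1 (.leaf 0x0) (.leaf 0x3))) (.node 2 (.node 1 (.leaf 0x7) (.leaf 0x0)) (.node 1 (.leaf 0x3) (.leaf 0x7))))) (.node 8 (.node 4 (.node 2 (.node 1 (.leaf 0x5) (.leaf 0xd)) (.node 1 (.leaf 0xa) (.leaf 0x5))) (.node 2 (.node 1 (.leaf 0xd) (.leaf 0xa)) (.node 1 (.leaf 0xa) (.leaf 0x5)))) (.node 4 (.node 2 (.node 1 (.leaf 0xd) (.leaf 0xa)) (.node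 1 (.leaf 0x5) (.leaf 0xd))) (.node 2 (.node 1 (.leaf 0x4) (.leaf 0xc)) (.node 1 (.leaf 0x9) (.leaf 0x4)))))) (.node 16 (.node 8 (.node 4 (.node 2 (.node 1 (.leaf 0xc) (.leaf 0x9)) (.node 1 (.leaf 0x9) (.leaf 0x4))) (.node 2 (.node 1 (.leaf 0xc) (.leaf 0x9)) (.node 1 (.leaf 0x4) (.leaf 0xc)))) (.node 4 (.node 2 (.node 1 (.leaf 0x6) (.leaf 0xe)) (.node 1 (.leaf 0xb) (.leaf 0x6))) (.node 2 (.node 1 (.leaf 0xe) (.leaf 0xb)) (.node 1 (.leaf 0xb) (.leaf 0x6))))) (.node 8 (.node 4 (.node 2 (.node 1 (.leaf 0xe) (.leaf 0xb)) (.node 1 (.leaf 0x6) (.leaf 0xe))) (.node 2 (.node 1 (.leaf 0x0) (.leaf 0x3)) (.node 1 (.leaf 0x7) (.leaf 0x0)))) (.node 4 (.node 2 (.node 1 (.leaf 0x3) (.leaf 0x7)) (.node 1 (.leaf 0x7) (.leaf 0x0))) (.node 2 (.node 1 (.leaf 0x3) (.leaf 0x7)) (.node 1 (.leaf 0x0) (.leaf 0x3))))))) (.node 32 (.node 16 (.node 8 (.node 4 (.node 2 (.node 1 (.leaf 0x10) (.leaf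 0x14)) (.node 1 (.leaf 0xf) (.leaf 0x10))) (.node 2 (.node 1 (.leaf 0x14) (.leaf 0xf)) (.node 1 (.leaf 0xf) (.leaf 0x10)))) (.node 4 (.node 2 (.node 1 (.leaf 0x14) (.leaf 0xf)) (.node 1 (.leaf 0x10) (.leaf 0x14))) (.node 2 (.node 1 (.leaf 0x11) (.leaf 0x18)) (.node 1 (.leaf 0x15) (.leaf 0x11))))) (.node 8 (.node 4 (.node 2 (.node 1 (.leaf 0x18) (.leaf 0x15)) (.node 1 (.leaf 0x15) (.leaf 0x11))) (.node 2 (.node 1 (.leaf 0x18) (.leaf 0x15)) (.node 1 (.leaf 0x11) (.leaf 0x18)))) (.node 4 (.node 2 (.node 1 (.leaf 0x12) (.leaf 0x19)) (.node 1 (.leaf 0x16) (.leaf 0x12))) (.node 2 (.node 1 (.leaf 0x19) (.leaf 0x16)) (.node 1 (.leaf 0x16) (.leaf 0x12)))))) (.node 16 (.node 8 (.node 4 (.node 2 (.node 1 (.leaf 0x19) (.leaf 0x16)) (.node 1 (.leaf 0x12) (.leaf 0x19))) (.node 2 (.node 1 (.leaf 0x13) (.leaf 0x1a)) (.node 1 (.leaf 0x17) (.leaf 0x13)))) (.node 4 (.node 2 (.node 1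 (.leaf 0x1a) (.leaf 0x17)) (.node 1 (.leaf 0x17) (.leaf 0x13))) (.node 2 (.node 1 (.leaf 0x1a) (.leaf 0x17)) (.node 1 (.leaf 0x13) (.leaf 0x1a))))) (.node 8 (.node 4 (.node 2 (.node 1 (.leaf 0x0) (.leaf 0x3)) (.node 1 (.leaf 0x7) (.leaf 0x0))) (.node 2 (.node 1 (.leaf 0x3) (.leaf 0x7)) (.node 1 (.leaf 0x7) (.leaf 0x0)))) (.node 4 (.node 2 (.node 1 (.leaf 0x3) (.leaf 0x7)) (.node 1 (.leaf 0x0) (.leaf 0x3))) (.node 2 (.node 1 (.leaf 0x10) (.leaf 0x14)) (.node 1 (.leaf 0xf) (.leaf 0x10)))))))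

def dIdx_2 : Tree :=
  .node 64 (.node 32 (.node 16 (.node 8 (.node 4 (.node 2 (.node 1 (.leaf 0x14) (.leaf 0xf)) (.node 1 (.leaf 0xf) (.leaf 0x10))) (.node 2 (.node 1 (.leaf 0x14) (.leaf 0xf)) (.node 1 (.leaf 0x10) (.leaf 0x14)))) (.node 4 (.node 2 (.node 1 (.leaf 0x11) (.leaf 0x18)) (.node 1 (.leaf 0x15) (.leaf 0x11))) (.node 2 (.node 1 (.leaf 0x18) (.leaf 0x15)) (.node 1 (.leaf 0x15) (.leaf 0x11))))) (.node 8 (.node 4 (.node 2 (.node 1 (.leaf 0x18) (.leaf 0x15)) (.node 1 (.leaf 0x11) (.leaf 0x18))) (.node 2 (.node 1 (.leaf 0x12) (.leaf 0x19)) (.node 1 (.leaf 0x16) (.leaf 0x12)))) (.node 4 (.node 2 (.node 1 (.leaf 0x19) (.leaf 0x16)) (.node 1 (.leaf 0x16) (.leaf 0x12))) (.node 2 (.node 1 (.leaf 0x19) (.leaf 0x16)) (.node 1 (.leaf 0x12) (.leaf 0x19)))))) (.node 16 (.node 8 (.node 4 (.node 2 (.node 1 (.leaf 0x13) (.leaf 0x1a)) (.node 1 (.leaf 0x17) (.leaf 0x13)))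 (.node 2 (.node 1 (.leaf 0x1a) (.leaf 0x17)) (.node 1 (.leaf 0x17) (.leaf 0x13)))) (.node 4 (.node 2 (.node 1 (.leaf 0x1a) (.leaf 0x17)) (.node 1 (.leaf 0x13) (.leaf 0x1a))) (.node 2 (.node 1 (.leaf 0xf) (.leaf 0x10)) (.node 1 (.leaf 0x14) (.leaf 0xf))))) (.node 8 (.node 4 (.node 2 (.node 1 (.leaf 0x10) (.leaf 0x14)) (.node 1 (.leaf 0x14) (.leaf 0xf))) (.node 2 (.node 1 (.leaf 0x10) (.leaf 0x14)) (.node 1 (.leaf 0xf) (.leaf 0x10)))) (.node 4 (.node 2 (.node 1 (.leaf 0x3) (.leaf 0x7)) (.node 1 (.leaf 0x0) (.leaf 0x3))) (.node 2 (.node 1 (.leaf 0x7) (.leaf 0x0)) (.node 1 (.leaf 0x0) (.leaf 0x3))))))) (.node 32 (.node 16 (.node 8 (.node 4 (.node 2 (.node 1 (.leaf 0x7) (.leaf 0x0)) (.node 1 (.leaf 0x3) (.leaf 0x7))) (.node 2 (.node 1 (.leaf 0x12) (.leaf 0x19)) (.node 1 (.leaf 0x16) (.leaf 0x12)))) (.node 4 (.node 2 (.node 1 (.leaf 0x19) (.leaf 0x16)) (.node 1 (.leaf 0x16)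 (.leaf 0x12))) (.node 2 (.node 1 (.leaf 0x19) (.leaf 0x16)) (.node 1 (.leaf 0x12) (.leaf 0x19))))) (.node 8 (.node 4 (.node 2 (.node 1 (.leaf 0x11) (.leaf 0x18)) (.node 1 (.leaf 0x15) (.leaf 0x11))) (.node 2 (.node 1 (.leaf 0x18) (.leaf 0x15)) (.node 1 (.leaf 0x15) (.leaf 0x11)))) (.node 4 (.node 2 (.node 1 (.leaf 0x18) (.leaf 0x15)) (.node 1 (.leaf 0x11) (.leaf 0x18))) (.node 2 (.node 1 (.leaf 0x13) (.leaf 0x1a)) (.node 1 (.leaf 0x17) (.leaf 0x13)))))) (.node 16 (.node 8 (.node 4 (.node 2 (.node 1 (.leaf 0x1a) (.leaf 0x17)) (.node 1 (.leaf 0x17) (.leaf 0x13))) (.node 2 (.node 1 (.leaf 0x1a) (.leaf 0x17)) (.node 1 (.leaf 0x13) (.leaf 0x1a)))) (.node 4 (.node 2 (.node 1 (.leaf 0x0) (.leaf 0x3)) (.node 1 (.leaf 0x7) (.leaf 0x0))) (.node 2 (.node 1 (.leaf 0x3) (.leaf 0x7)) (.node 1 (.leaf 0x7) (.leaf 0x0))))) (.node 8 (.node 4 (.node 2 (.node 1 (.leaf 0x3) (.leaf 0x7))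 (.node 1 (.leaf 0x0) (.leaf 0x3))) (.node 2 (.node 1 (.leaf 0x1c) (.leaf 0x20)) (.node 1 (.leaf 0x1b) (.leaf 0x1c)))) (.node 4 (.node 2 (.node 1 (.leaf 0x20) (.leaf 0x1b)) (.node 1 (.leaf 0x1b) (.leaf 0x1c))) (.node 2 (.node 1 (.leaf 0x20) (.leaf 0x1b)) (.node 1 (.leaf 0x1c) (.leaf 0x20)))))))

def dIdx_3 : Tree :=
  .node 64 (.node 32 (.node 16 (.node 8 (.node 4 (.node 2 (.node 1 (.leaf 0x1d) (.leaf 0x24)) (.node 1 (.leaf 0x21) (.leaf 0x1d))) (.node 2 (.node 1 (.leaf 0x24) (.leaf 0x21)) (.node 1 (.leaf 0x21) (.leaf 0x1d)))) (.node 4 (.node 2 (.node 1 (.leaf 0x24) (.leaf 0x21)) (.node 1 (.leaf 0x1d) (.leaf 0x24))) (.node 2 (.node 1 (.leaf 0x1e) (.leaf 0x25)) (.node 1 (.leaf 0x22) (.leaf 0x1e))))) (.node 8 (.node 4 (.node 2 (.node 1 (.leaf 0x25) (.leaf 0x22)) (.node 1 (.leaf 0x22) (.leaf 0x1e))) (.node 2 (.node 1 (.leaf 0x25) (.leaf 0x22)) (.node 1 (.leaf 0x1e) (.leaf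 0x25)))) (.node 4 (.node 2 (.node 1 (.leaf 0x1f) (.leaf 0x26)) (.node 1 (.leaf 0x23) (.leaf 0x1f))) (.node 2 (.node 1 (.leaf 0x26) (.leaf 0x23)) (.node 1 (.leaf 0x23) (.leaf 0x1f)))))) (.node 16 (.node 8 (.node 4 (.node 2 (.node 1 (.leaf 0x26) (.leaf 0x23)) (.node 1 (.leaf 0x1f) (.leaf 0x26))) (.node 2 (.node 1 (.leaf 0x0) (.leaf 0x3)) (.node 1 (.leaf 0x7) (.leaf 0x0)))) (.node 4 (.node 2 (.node 1 (.leaf 0x3) (.leaf 0x7)) (.node 1 (.leaf 0x7) (.leaf 0x0))) (.node 2 (.node 1 (.leaf 0x3) (.leaf 0x7)) (.node 1 (.leaf 0x0) (.leaf 0x3))))) (.node 8 (.node 4 (.node 2 (.node 1 (.leaf 0x1c) (.leaf 0x20)) (.node 1 (.leaf 0x1b) (.leaf 0x1c))) (.node 2 (.node 1 (.leaf 0x20) (.leaf 0x1b)) (.node 1 (.leaf 0x1b) (.leaf 0x1c)))) (.node 4 (.node 2 (.node 1 (.leaf 0x20) (.leaf 0x1b)) (.node 1 (.leaf 0x1c) (.leaf 0x20))) (.node 2 (.node 1 (.leaf 0x1d) (.leaf 0x24)) (.node 1 (.leaf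 0x21) (.leaf 0x1d))))))) (.node 32 (.node 16 (.node 8 (.node 4 (.node 2 (.node 1 (.leaf 0x24) (.leaf 0x21)) (.node 1 (.leaf 0x21) (.leaf 0x1d))) (.node 2 (.node 1 (.leaf 0x24) (.leaf 0x21)) (.node 1 (.leaf 0x1d) (.leaf 0x24)))) (.node 4 (.node 2 (.node 1 (.leaf 0x1e) (.leaf 0x25)) (.node 1 (.leaf 0x22) (.leaf 0x1e))) (.node 2 (.node 1 (.leaf 0x25) (.leaf 0x22)) (.node 1 (.leaf 0x22) (.leaf 0x1e))))) (.node 8 (.node 4 (.node 2 (.node 1 (.leaf 0x25) (.leaf 0x22)) (.node 1 (.leaf 0x1e) (.leaf 0x25))) (.node 2 (.node 1 (.leaf 0x1f) (.leaf 0x26)) (.node 1 (.leaf 0x23) (.leaf 0x1f)))) (.node 4 (.node 2 (.node 1 (.leaf 0x26) (.leaf 0x23)) (.node 1 (.leaf 0x23) (.leaf 0x1f))) (.node 2 (.node 1 (.leaf 0x26) (.leaf 0x23)) (.node 1 (.leaf 0x1f) (.leaf 0x26)))))) (.node 16 (.node 8 (.node 4 (.node 2 (.node 1 (.leaf 0x1b) (.leaf 0x1c)) (.node 1 (.leaf 0x20) (.leaf 0x1b))) (.node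 2 (.node 1 (.leaf 0x1c) (.leaf 0x20)) (.node 1 (.leaf 0x20) (.leaf 0x1b)))) (.node 4 (.node 2 (.node 1 (.leaf 0x1c) (.leaf 0x20)) (.node 1 (.leaf 0x1b) (.leaf 0x1c))) (.node 2 (.node 1 (.leaf 0x3) (.leaf 0x7)) (.node 1 (.leaf 0x0) (.leaf 0x3))))) (.node 8 (.node 4 (.node 2 (.node 1 (.leaf 0x7) (.leaf 0x0)) (.node 1 (.leaf 0x0) (.leaf 0x3))) (.node 2 (.node 1 (.leaf 0x7) (.leaf 0x0)) (.node 1 (.leaf 0x3) (.leaf 0x7)))) (.node 4 (.node 2 (.node 1 (.leaf 0x1e) (.leaf 0x25)) (.node 1 (.leaf 0x22) (.leaf 0x1e))) (.node 2 (.node 1 (.leaf 0x25) (.leaf 0x22)) (.node 1 (.leaf 0x22) (.leaf 0x1e)))))))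

def dIdx_4 : Tree :=
  .node 14 (.node 7 (.node 3 (.node 1 (.leaf 0x25) (.node 1 (.leaf 0x22) (.leaf 0x1e))) (.node 2 (.node 1 (.leaf 0x25) (.leaf 0x1d)) (.node 1 (.leaf 0x24) (.leaf 0x21)))) (.node 3 (.node 1 (.leaf 0x1d) (.node 1 (.leaf 0x24) (.leaf 0x21))) (.node 2 (.node 1 (.leaf 0x21) (.leaf 0x1d)) (.node 1 (.leaf 0x24) (.leaf 0x21))))) (.node 7 (.node 3 (.node 1 (.leaf 0x1d) (.node 1 (.leaf 0x24) (.leaf 0x1f))) (.node 2 (.node 1 (.leaf 0x26) (.leaf 0x23)) (.node 1 (.leaf 0x1f) (.leaf 0x26)))) (.node 3 (.node 1 (.leaf 0x23) (.node 1 (.leaf 0x23) (.leaf 0x1f))) (.node 2 (.node 1 (.leaf 0x26) (.leaf 0x23)) (.node 1 (.leaf 0x1f) (.leaf 0x26)))))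

def dIdx : Tree :=
  .node 256 (.node 128 (dIdx_0) (dIdx_1)) (.node 128 (dIdx_2) (.node 128 (dIdx_3) (dIdx_4)))

def dData : List (List (List ℕ) × List ℕ × List ℕ × ℕ) := [([[1], [2], [4]], [5], [5, 2], 0), ([[1], [2], [5]], [4], [4, 2], 1), ([[1], [2], [4]], [5], [5, 2], 2), ([[1], [2], [5]], [4], [4, 2], 0), ([[1], [2], [4]], [5], [5, 2], 1), ([[1], [2], [5]], [4], [4, 2], 2)]

def dTrans : List (List ℕ) := [[], [0, 6, 1, 2, 5, 1, 0, 1, 5, 2, 0, 2, 1, 0, 1, 6, 1, 5, 2, 0, 5, 1, 0, 1, 6], [2, 6, 1, 0, 2, 1, 0, 1, 6, 1, 5, 2, 1, 6]]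

def moves1_0 : Tree :=
  .node 64 (.node 32 (.node 16 (.node 8 (.node 4 (.node 2 (.node 1 (.leaf 0x0) (.leaf 0x80)) (.node 1 (.leaf 0x10c499c498d0c498c9c48c849d900) (.leaf 0x190d884d08c49cd0d1519c8d0d884d08c49cd0c49d9c8480))) (.node 2 (.node 1 (.leaf 0x480) (.leaf 0xc80)) (.node 1 (.leaf 0x1880) (.leaf 0x1c80)))) (.node 4 (.node 2 (.node 1 (.leaf 0x10c499c498d0c498c9c48c849d9080) (.leaf 0x190d884d08c49cd0d1519c8d0d884d08c49cd0c49d9c840)) (.node 1 (.leaf 0x50c499c498d0c498c9c48c849d900) (.leaf 0xd0c499c498d0c498c9c48c849d900))) (.node 2 (.node 1 (.leaf 0x1d0c499c498d0c498c9c48c849d900) (.leaf 0x10c499c498d0c498c9c48c849d8c499c498d0c498c9c48c849d900)) (.node 1 (.leaf 0x190d884d08c49cd0d1519c8d0d884d08c49cd0c49d9c8490c499c498d0c498c9c48c849d900) (.leaf 0x590d884d08c49cd0d1519c8d0d884d08c49cd0c49d9c8480))))) (.node 8 (.node 4 (.node 2 (.node 1 (.leaf 0x990d884d08c49cd0d1519c8d0d884d08c49cd0c49d9c8480)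 (.leaf 0xd90d884d08c49cd0d1519c8d0d884d08c49cd0c49d9c8480)) (.node 1 (.leaf 0x10d884d08c49cd0d1519c8d0d884d08c49cd0c49d9c8480) (.leaf 0x1d90d884d08c49cd0d1519c8d0d884d08c49cd0c49d9c8480))) (.node 2 (.node 1 (.leaf 0x10c499c498d0c498c9c48c849d9190d884d08c49cd0d1519c8d0d884d08c49cd0c49d9c8480) (.leaf 0x190d884d08c49cd0d1519c8d0d884d08c49cd0c49d9c84990d884d08c49cd0d1519c8d0d884d08c49cd0c49d9c8480)) (.node 1 (.leaf 0x8480) (.leaf 0xc480)))) (.node 4 (.node 2 (.node 1 (.leaf 0x18480) (.leaf 0x1c480)) (.node 1 (.leaf 0x10c499c498d0c498c9c48c849d90480) (.leaf 0x190d884d08c49cd0d1519c8d0d884d08c49cd0c49d9c848480))) (.node 2 (.node 1 (.leaf 0x18c80) (.leaf 0x1cc80)) (.node 1 (.leaf 0x10c499c498d0c498c9c48c849d90c80) (.leaf 0x190d884d08c49cd0d1519c8d0d884d08c49cd0c49d9c848c80)))))) (.node 16 (.node 8 (.node 4 (.node 2 (.node 1 (.leaf 0x1d880) (.leaf 0x190d884d08c49cd0d1519c8d0d884d08c49cd0c49d9c849880))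 (.node 1 (.leaf 0x19c80) (.leaf 0x10c499c498d0c498c9c48c849d91c80))) (.node 2 (.node 1 (.leaf 0x50c499c498d0c498c9c48c849d9080) (.leaf 0x90c499c498d0c498c9c48c849d9080)) (.node 1 (.leaf 0xd0c499c498d0c498c9c48c849d9080) (.leaf 0x190c499c498d0c498c9c48c849d9080)))) (.node 4 (.node 2 (.node 1 (.leaf 0x10c499c498d0c498c9c48c849d8c499c498d0c498c9c48c849d9080) (.leaf 0x190d884d08c49cd0d1519c8d0d884d08c49cd0c49d9c8490c499c498d0c498c9c48c849d9080)) (.node 1 (.leaf 0x990d884d08c49cd0d1519c8d0d884d08c49cd0c49d9c840) (.leaf 0x10d884d08c49cd0d1519c8d0d884d08c49cd0c49d9c840))) (.node 2 (.node 1 (.leaf 0x10c499c498d0c498c9c48c849d9190d884d08c49cd0d1519c8d0d884d08c49cd0c49d9c840) (.leaf 0x850c499c498d0c498c9c48c849d900)) (.node 1 (.leaf 0xc50c499c498d0c498c9c48c849d900) (.leaf 0x1c50c499c498d0c498c9c48c849d900))))) (.node 8 (.node 4 (.node 2 (.node 1 (.leaf 0x10c499c498d0c498c9c48c849d9050c499c498d0c498c9c48c849d900)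 (.leaf 0x190d884d08c49cd0d1519c8d0d884d08c49cd0c49d9c84850c499c498d0c498c9c48c849d900)) (.node 1 (.leaf 0x8d0c499c498d0c498c9c48c849d900) (.leaf 0x1cd0c499c498d0c498c9c48c849d900))) (.node 2 (.node 1 (.leaf 0x190d884d08c49cd0d1519c8d0d884d08c49cd0c49d9c848d0c499c498d0c498c9c48c849d900) (.leaf 0x9d0c499c498d0c498c9c48c849d900)) (.node 1 (.leaf 0x19d0c499c498d0c498c9c48c849d900) (.leaf 0x190d884d08c49cd0d1519c8d0d884d08c49cd0c49d9c849d0c499c498d0c498c9c48c849d900)))) (.node 4 (.node 2 (.node 1 (.leaf 0x50c499c498d0c498c9c48c849d8c499c498d0c498c9c48c849d900) (.leaf 0x90c499c498d0c498c9c48c849d8c499c498d0c498c9c48c849d900)) (.node 1 (.leaf 0xd0c499c498d0c498c9c48c849d8c499c498d0c498c9c48c849d900) (.leaf 0x1d0c499c498d0c498c9c48c849d8c499c498d0c498c9c48c849d900))) (.node 2 (.node 1 (.leaf 0x10c499c498d0c498c9c48c849d8c499c498d0c498c9c48c849d8c499c498d0c498c9c48c849d900)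 (.leaf 0x190d884d08c49cd0d1519c8d0d884d08c49cd0c49d9c8490c499c498d0c498c9c48c849d8c499c498d0c498c9c48c849d900)) (.node 1 (.leaf 0x590d884d08c49cd0d1519c8d0d884d08c49cd0c49d9c8490c499c498d0c498c9c48c849d900) (.leaf 0x990d884d08c49cd0d1519c8d0d884d08c49cd0c49d9c8490c499c498d0c498c9c48c849d900))))))) (.node 32 (.node 16 (.node 8 (.node 4 (.node 2 (.node 1 (.leaf 0xd90d884d08c49cd0d1519c8d0d884d08c49cd0c49d9c8490c499c498d0c498c9c48c849d900) (.leaf 0x10d884d08c49cd0d1519c8d0d884d08c49cd0c49d9c8490c499c498d0c498c9c48c849d900)) (.node 1 (.leaf 0x1d90d884d08c49cd0d1519c8d0d884d08c49cd0c49d9c8490c499c498d0c498c9c48c849d900) (.leaf 0x190d884d08c49cd0d1519c8d0d884d08c49cd0c49d9c84990d884d08c49cd0d1519c8d0d884d08c49cd0c49d9c8490c499c498d0c498c9c48c849d900))) (.node 2 (.node 1 (.leaf 0x8590d884d08c49cd0d1519c8d0d884d08c49cd0c49d9c8480) (.leaf 0x1c590d884d08c49cd0d1519c8d0d884d08c49cd0c49d9c8480))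 (.node 1 (.leaf 0x10c499c498d0c498c9c48c849d90590d884d08c49cd0d1519c8d0d884d08c49cd0c49d9c8480) (.leaf 0x190d884d08c49cd0d1519c8d0d884d08c49cd0c49d9c848590d884d08c49cd0d1519c8d0d884d08c49cd0c49d9c8480)))) (.node 4 (.node 2 (.node 1 (.leaf 0x10c499c498d0c498c9c48c849d90990d884d08c49cd0d1519c8d0d884d08c49cd0c49d9c8480) (.leaf 0x190d884d08c49cd0d1519c8d0d884d08c49cd0c49d9c8590d884d08c49cd0d1519c8d0d884d08c49cd0c49d9c8480)) (.node 1 (.leaf 0x1cd90d884d08c49cd0d1519c8d0d884d08c49cd0c49d9c8480) (.leaf 0x10c499c498d0c498c9c48c849d90d90d884d08c49cd0d1519c8d0d884d08c49cd0c49d9c8480))) (.node 2 (.node 1 (.leaf 0x190d884d08c49cd0d1519c8d0d884d08c49cd0c49d9c848d90d884d08c49cd0d1519c8d0d884d08c49cd0c49d9c8480) (.leaf 0x1d0d884d08c49cd0d1519c8d0d884d08c49cd0c49d9c8480)) (.node 1 (.leaf 0x10c499c498d0c498c9c48c849d8d884d08c49cd0d1519c8d0d884d08c49cd0c49d9c8480) (.leaf 0x190d884d08c49cd0d1519c8d0d884d08c49cd0c49d9c8490d884d08c49cd0d1519c8d0d884d08c49cd0c49d9c8480)))))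 (.node 8 (.node 4 (.node 2 (.node 1 (.leaf 0x19d90d884d08c49cd0d1519c8d0d884d08c49cd0c49d9c8480) (.leaf 0x10c499c498d0c498c9c48c849d91d90d884d08c49cd0d1519c8d0d884d08c49cd0c49d9c8480)) (.node 1 (.leaf 0x190d884d08c49cd0d1519c8d0d884d08c49cd0c49d9c849d90d884d08c49cd0d1519c8d0d884d08c49cd0c49d9c8480) (.leaf 0x50c499c498d0c498c9c48c849d9190d884d08c49cd0d1519c8d0d884d08c49cd0c49d9c8480))) (.node 2 (.node 1 (.leaf 0x90c499c498d0c498c9c48c849d9190d884d08c49cd0d1519c8d0d884d08c49cd0c49d9c8480) (.leaf 0x190c499c498d0c498c9c48c849d9190d884d08c49cd0d1519c8d0d884d08c49cd0c49d9c8480)) (.node 1 (.leaf 0x10c499c498d0c498c9c48c849d8c499c498d0c498c9c48c849d9190d884d08c49cd0d1519c8d0d884d08c49cd0c49d9c8480) (.leaf 0x190d884d08c49cd0d1519c8d0d884d08c49cd0c49d9c8490c499c498d0c498c9c48c849d9190d884d08c49cd0d1519c8d0d884d08c49cd0c49d9c8480)))) (.node 4 (.node 2 (.node 1 (.leaf 0x990d884d08c49cd0d1519c8d0d884d08c49cd0c49d9c84990d884d08c49cd0d1519c8d0d884d08c49cd0c49d9c8480)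 (.leaf 0x10d884d08c49cd0d1519c8d0d884d08c49cd0c49d9c84990d884d08c49cd0d1519c8d0d884d08c49cd0c49d9c8480)) (.node 1 (.leaf 0x10c499c498d0c498c9c48c849d9190d884d08c49cd0d1519c8d0d884d08c49cd0c49d9c84990d884d08c49cd0d1519c8d0d884d08c49cd0c49d9c8480) (.leaf 0x1c8480))) (.node 2 (.node 1 (.leaf 0x10c499c498d0c498c9c48c849d908480) (.leaf 0x18c480)) (.node 1 (.leaf 0x1cc480) (.leaf 0x10c499c498d0c498c9c48c849d90c480)))))) (.node 16 (.node 8 (.node 4 (.node 2 (.node 1 (.leaf 0x98480) (.leaf 0x190d884d08c49cd0d1519c8d0d884d08c49cd0c49d9c8498480)) (.node 1 (.leaf 0x9c480) (.leaf 0x10c499c498d0c498c9c48c849d91c480))) (.node 2 (.node 1 (.leaf 0x50c499c498d0c498c9c48c849d90480) (.leaf 0x90c499c498d0c498c9c48c849d90480)) (.node 1 (.leaf 0xd0c499c498d0c498c9c48c849d90480) (.leaf 0x1d0c499c498d0c498c9c48c849d90480)))) (.node 4 (.node 2 (.node 1 (.leaf 0x190d884d08c49cd0d1519c8d0d884d08c49cd0c49d9c8490c499c498d0c498c9c48c849d90480)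 (.leaf 0x590d884d08c49cd0d1519c8d0d884d08c49cd0c49d9c848480)) (.node 1 (.leaf 0x10d884d08c49cd0d1519c8d0d884d08c49cd0c49d9c848480) (.leaf 0x1d90d884d08c49cd0d1519c8d0d884d08c49cd0c49d9c848480))) (.node 2 (.node 1 (.leaf 0x10c499c498d0c498c9c48c849d9190d884d08c49cd0d1519c8d0d884d08c49cd0c49d9c848480) (.leaf 0x190d884d08c49cd0d1519c8d0d884d08c49cd0c49d9c84990d884d08c49cd0d1519c8d0d884d08c49cd0c49d9c848480)) (.node 1 (.leaf 0x98c80) (.leaf 0x1d8c80))))) (.node 8 (.node 4 (.node 2 (.node 1 (.leaf 0x190d884d08c49cd0d1519c8d0d884d08c49cd0c49d9c8498c80) (.leaf 0x9cc80)) (.node 1 (.leaf 0x19cc80) (.leaf 0x10c499c498d0c498c9c48c849d91cc80))) (.node 2 (.node 1 (.leaf 0x190d884d08c49cd0d1519c8d0d884d08c49cd0c49d9c849cc80) (.leaf 0x50c499c498d0c498c9c48c849d90c80)) (.node 1 (.leaf 0x90c499c498d0c498c9c48c849d90c80) (.leaf 0xd0c499c498d0c498c9c48c849d90c80)))) (.node 4 (.node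 2 (.node 1 (.leaf 0x190c499c498d0c498c9c48c849d90c80) (.leaf 0x1d0c499c498d0c498c9c48c849d90c80)) (.node 1 (.leaf 0x10c499c498d0c498c9c48c849d8c499c498d0c498c9c48c849d90c80) (.leaf 0x190d884d08c49cd0d1519c8d0d884d08c49cd0c49d9c8490c499c498d0c498c9c48c849d90c80))) (.node 2 (.node 1 (.leaf 0x590d884d08c49cd0d1519c8d0d884d08c49cd0c49d9c848c80) (.leaf 0xd90d884d08c49cd0d1519c8d0d884d08c49cd0c49d9c848c80)) (.node 1 (.leaf 0x10d884d08c49cd0d1519c8d0d884d08c49cd0c49d9c848c80) (.leaf 0x10c499c498d0c498c9c48c849d9190d884d08c49cd0d1519c8d0d884d08c49cd0c49d9c848c80)))))))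

def moves1_1 : Tree :=
  .node 64 (.node 32 (.node 16 (.node 8 (.node 4 (.node 2 (.node 1 (.leaf 0x9d880) (.leaf 0x190d884d08c49cd0d1519c8d0d884d08c49cd0c49d9c849d880)) (.node 1 (.leaf 0x590d884d08c49cd0d1519c8d0d884d08c49cd0c49d9c849880) (.leaf 0x990d884d08c49cd0d1519c8d0d884d08c49cd0c49d9c849880))) (.node 2 (.node 1 (.leaf 0xd90d884d08c49cd0d1519c8d0d884d08c49cd0c49d9c849880) (.leaf 0x10c499c498d0c498c9c48c849d9190d884d08c49cd0d1519c8d0d884d08c49cd0c49d9c849880)) (.node 1 (.leaf 0x99c80) (.leaf 0x10c499c498d0c498c9c48c849d919c80)))) (.node 4 (.node 2 (.node 1 (.leaf 0x50c499c498d0c498c9c48c849d91c80) (.leaf 0x90c499c498d0c498c9c48c849d91c80)) (.node 1 (.leaf 0xd0c499c498d0c498c9c48c849d91c80) (.leaf 0x1d0c499c498d0c498c9c48c849d91c80))) (.node 2 (.node 1 (.leaf 0x190d884d08c49cd0d1519c8d0d884d08c49cd0c49d9c8490c499c498d0c498c9c48c849d91c80) (.leaf 0x850c499c498d0c498c9c48c849d9080))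 (.node 1 (.leaf 0x1850c499c498d0c498c9c48c849d9080) (.leaf 0x490c499c498d0c498c9c48c849d9080))))) (.node 8 (.node 4 (.node 2 (.node 1 (.leaf 0x1890c499c498d0c498c9c48c849d9080) (.leaf 0x8d0c499c498d0c498c9c48c849d9080)) (.node 1 (.leaf 0x18d0c499c498d0c498c9c48c849d9080) (.leaf 0x990c499c498d0c498c9c48c849d9080))) (.node 2 (.node 1 (.leaf 0x1d90c499c498d0c498c9c48c849d9080) (.leaf 0x10c499c498d0c498c9c48c849d9190c499c498d0c498c9c48c849d9080)) (.node 1 (.leaf 0x190d884d08c49cd0d1519c8d0d884d08c49cd0c49d9c84990c499c498d0c498c9c48c849d9080) (.leaf 0x50c499c498d0c498c9c48c849d8c499c498d0c498c9c48c849d9080)))) (.node 4 (.node 2 (.node 1 (.leaf 0x10c499c498d0c498c9c48c849d8c499c498d0c498c9c48c849d8c499c498d0c498c9c48c849d9080) (.leaf 0xd90d884d08c49cd0d1519c8d0d884d08c49cd0c49d9c8490c499c498d0c498c9c48c849d9080)) (.node 1 (.leaf 0x10d884d08c49cd0d1519c8d0d884d08c49cd0c49d9c8490c499c498d0c498c9c48c849d9080)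 (.leaf 0x18990d884d08c49cd0d1519c8d0d884d08c49cd0c49d9c840))) (.node 2 (.node 1 (.leaf 0x50c499c498d0c498c9c48c849d9190d884d08c49cd0d1519c8d0d884d08c49cd0c49d9c840) (.leaf 0xd0c499c498d0c498c9c48c849d9190d884d08c49cd0d1519c8d0d884d08c49cd0c49d9c840)) (.node 1 (.leaf 0x190c499c498d0c498c9c48c849d9190d884d08c49cd0d1519c8d0d884d08c49cd0c49d9c840) (.leaf 0x1d0c499c498d0c498c9c48c849d9190d884d08c49cd0d1519c8d0d884d08c49cd0c49d9c840)))))) (.node 16 (.node 8 (.node 4 (.node 2 (.node 1 (.leaf 0x190d884d08c49cd0d1519c8d0d884d08c49cd0c49d9c8490c499c498d0c498c9c48c849d9190d884d08c49cd0d1519c8d0d884d08c49cd0c49d9c840) (.leaf 0x4850c499c498d0c498c9c48c849d900)) (.node 1 (.leaf 0xc850c499c498d0c498c9c48c849d900) (.leaf 0x1c850c499c498d0c498c9c48c849d900))) (.node 2 (.node 1 (.leaf 0x10c499c498d0c498c9c48c849d90850c499c498d0c498c9c48c849d900) (.leaf 0x190d884d08c49cd0d1519c8d0d884d08c49cd0c49d9c90c499c498d0c498c9c48c849d900))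 (.node 1 (.leaf 0x8c50c499c498d0c498c9c48c849d900) (.leaf 0x10c499c498d0c498c9c48c849d90c50c499c498d0c498c9c48c849d900)))) (.node 4 (.node 2 (.node 1 (.leaf 0x190d884d08c49cd0d1519c8d0d884d08c49cd0c49d9c849c50c499c498d0c498c9c48c849d900) (.leaf 0x50c499c498d0c498c9c48c849d9050c499c498d0c498c9c48c849d900)) (.node 1 (.leaf 0x90c499c498d0c498c9c48c849d9050c499c498d0c498c9c48c849d900) (.leaf 0xd0c499c498d0c498c9c48c849d9050c499c498d0c498c9c48c849d900))) (.node 2 (.node 1 (.leaf 0x190c499c498d0c498c9c48c849d9050c499c498d0c498c9c48c849d900) (.leaf 0x1d0c499c498d0c498c9c48c849d9050c499c498d0c498c9c48c849d900)) (.node 1 (.leaf 0x990d884d08c49cd0d1519c8d0d884d08c49cd0c49d9c84850c499c498d0c498c9c48c849d900) (.leaf 0xd90d884d08c49cd0d1519c8d0d884d08c49cd0c49d9c84850c499c498d0c498c9c48c849d900))))) (.node 8 (.node 4 (.node 2 (.node 1 (.leaf 0x10d884d08c49cd0d1519c8d0d884d08c49cd0c49d9c84850c499c498d0c498c9c48c849d900)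 (.leaf 0x10c499c498d0c498c9c48c849d9190d884d08c49cd0d1519c8d0d884d08c49cd0c49d9c84850c499c498d0c498c9c48c849d900)) (.node 1 (.leaf 0x190d884d08c49cd0d1519c8d0d884d08c49cd0c49d9c84990d884d08c49cd0d1519c8d0d884d08c49cd0c49d9c84850c499c498d0c498c9c48c849d900) (.leaf 0x1c8d0c499c498d0c498c9c48c849d900))) (.node 2 (.node 1 (.leaf 0x9cd0c499c498d0c498c9c48c849d900) (.leaf 0x10c499c498d0c498c9c48c849d91cd0c499c498d0c498c9c48c849d900)) (.node 1 (.leaf 0x190d884d08c49cd0d1519c8d0d884d08c49cd0c49d9c849cd0c499c498d0c498c9c48c849d900) (.leaf 0x590d884d08c49cd0d1519c8d0d884d08c49cd0c49d9c848d0c499c498d0c498c9c48c849d900)))) (.node 4 (.node 2 (.node 1 (.leaf 0x990d884d08c49cd0d1519c8d0d884d08c49cd0c49d9c848d0c499c498d0c498c9c48c849d900) (.leaf 0xd90d884d08c49cd0d1519c8d0d884d08c49cd0c49d9c848d0c499c498d0c498c9c48c849d900)) (.node 1 (.leaf 0x10d884d08c49cd0d1519c8d0d884d08c49cd0c49d9c848d0c499c498d0c498c9c48c849d900)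 (.leaf 0x10c499c498d0c498c9c48c849d9190d884d08c49cd0d1519c8d0d884d08c49cd0c49d9c848d0c499c498d0c498c9c48c849d900))) (.node 2 (.node 1 (.leaf 0x190d884d08c49cd0d1519c8d0d884d08c49cd0c49d9c84990d884d08c49cd0d1519c8d0d884d08c49cd0c49d9c848d0c499c498d0c498c9c48c849d900) (.leaf 0x49d0c499c498d0c498c9c48c849d900)) (.node 1 (.leaf 0xc9d0c499c498d0c498c9c48c849d900) (.leaf 0x189d0c499c498d0c498c9c48c849d900))))))) (.node 32 (.node 16 (.node 8 (.node 4 (.node 2 (.node 1 (.leaf 0x10c499c498d0c498c9c48c849d909d0c499c498d0c498c9c48c849d900) (.leaf 0x99d0c499c498d0c498c9c48c849d900)) (.node 1 (.leaf 0x1d90d884d08c49cd0d1519c8d0d884d08c49cd0c49d9c849d0c499c498d0c498c9c48c849d900) (.leaf 0x190d884d08c49cd0d1519c8d0d884d08c49cd0c49d9c84990d884d08c49cd0d1519c8d0d884d08c49cd0c49d9c849d0c499c498d0c498c9c48c849d900))) (.node 2 (.node 1 (.leaf 0x850c499c498d0c498c9c48c849d8c499c498d0c498c9c48c849d900)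 (.leaf 0x1c50c499c498d0c498c9c48c849d8c499c498d0c498c9c48c849d900)) (.node 1 (.leaf 0x490c499c498d0c498c9c48c849d8c499c498d0c498c9c48c849d900) (.leaf 0xc90c499c498d0c498c9c48c849d8c499c498d0c498c9c48c849d900)))) (.node 4 (.node 2 (.node 1 (.leaf 0x1c90c499c498d0c498c9c48c849d8c499c498d0c498c9c48c849d900) (.leaf 0x8d0c499c498d0c498c9c48c849d8c499c498d0c498c9c48c849d900)) (.node 1 (.leaf 0x10c499c498d0c498c9c48c849d90d0c499c498d0c498c9c48c849d8c499c498d0c498c9c48c849d900) (.leaf 0x190d884d08c49cd0d1519c8d0d884d08c49cd0c49d9c848d0c499c498d0c498c9c48c849d8c499c498d0c498c9c48c849d900))) (.node 2 (.node 1 (.leaf 0x50c499c498d0c498c9c48c849d8c499c498d0c498c9c48c849d8c499c498d0c498c9c48c849d900) (.leaf 0x90c499c498d0c498c9c48c849d8c499c498d0c498c9c48c849d8c499c498d0c498c9c48c849d900)) (.node 1 (.leaf 0x190c499c498d0c498c9c48c849d8c499c498d0c498c9c48c849d8c499c498d0c498c9c48c849d900)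 (.leaf 0x190d884d08c49cd0d1519c8d0d884d08c49cd0c49d9c8490c499c498d0c498c9c48c849d8c499c498d0c498c9c48c849d8c499c498d0c498c9c48c849d900))))) (.node 8 (.node 4 (.node 2 (.node 1 (.leaf 0x1d90d884d08c49cd0d1519c8d0d884d08c49cd0c49d9c8490c499c498d0c498c9c48c849d8c499c498d0c498c9c48c849d900) (.leaf 0x190d884d08c49cd0d1519c8d0d884d08c49cd0c49d9c84990d884d08c49cd0d1519c8d0d884d08c49cd0c49d9c8490c499c498d0c498c9c48c849d8c499c498d0c498c9c48c849d900)) (.node 1 (.leaf 0x8590d884d08c49cd0d1519c8d0d884d08c49cd0c49d9c8490c499c498d0c498c9c48c849d900) (.leaf 0x10c499c498d0c498c9c48c849d90590d884d08c49cd0d1519c8d0d884d08c49cd0c49d9c8490c499c498d0c498c9c48c849d900))) (.node 2 (.node 1 (.leaf 0x1c990d884d08c49cd0d1519c8d0d884d08c49cd0c49d9c8490c499c498d0c498c9c48c849d900) (.leaf 0x190d884d08c49cd0d1519c8d0d884d08c49cd0c49d9c8590d884d08c49cd0d1519c8d0d884d08c49cd0c49d9c8490c499c498d0c498c9c48c849d900))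 (.node 1 (.leaf 0x1cd90d884d08c49cd0d1519c8d0d884d08c49cd0c49d9c8490c499c498d0c498c9c48c849d900) (.leaf 0x190d884d08c49cd0d1519c8d0d884d08c49cd0c49d9c848d90d884d08c49cd0d1519c8d0d884d08c49cd0c49d9c8490c499c498d0c498c9c48c849d900)))) (.node 4 (.node 2 (.node 1 (.leaf 0x90d884d08c49cd0d1519c8d0d884d08c49cd0c49d9c8490c499c498d0c498c9c48c849d900) (.leaf 0x190d884d08c49cd0d1519c8d0d884d08c49cd0c49d9c8490d884d08c49cd0d1519c8d0d884d08c49cd0c49d9c8490c499c498d0c498c9c48c849d900)) (.node 1 (.leaf 0x10c499c498d0c498c9c48c849d91d90d884d08c49cd0d1519c8d0d884d08c49cd0c49d9c8490c499c498d0c498c9c48c849d900) (.leaf 0x190d884d08c49cd0d1519c8d0d884d08c49cd0c49d9c849d90d884d08c49cd0d1519c8d0d884d08c49cd0c49d9c8490c499c498d0c498c9c48c849d900))) (.node 2 (.node 1 (.leaf 0x590d884d08c49cd0d1519c8d0d884d08c49cd0c49d9c84990d884d08c49cd0d1519c8d0d884d08c49cd0c49d9c8490c499c498d0c498c9c48c849d900)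 (.leaf 0x990d884d08c49cd0d1519c8d0d884d08c49cd0c49d9c84990d884d08c49cd0d1519c8d0d884d08c49cd0c49d9c8490c499c498d0c498c9c48c849d900)) (.node 1 (.leaf 0xd90d884d08c49cd0d1519c8d0d884d08c49cd0c49d9c84990d884d08c49cd0d1519c8d0d884d08c49cd0c49d9c8490c499c498d0c498c9c48c849d900) (.leaf 0x1d90d884d08c49cd0d1519c8d0d884d08c49cd0c49d9c84990d884d08c49cd0d1519c8d0d884d08c49cd0c49d9c8490c499c498d0c498c9c48c849d900)))))) (.node 16 (.node 8 (.node 4 (.node 2 (.node 1 (.leaf 0x48590d884d08c49cd0d1519c8d0d884d08c49cd0c49d9c8480) (.leaf 0x188590d884d08c49cd0d1519c8d0d884d08c49cd0c49d9c8480)) (.node 1 (.leaf 0x1c8590d884d08c49cd0d1519c8d0d884d08c49cd0c49d9c8480) (.leaf 0x10c499c498d0c498c9c48c849d908590d884d08c49cd0d1519c8d0d884d08c49cd0c49d9c8480))) (.node 2 (.node 1 (.leaf 0x190d884d08c49cd0d1519c8d0d884d08c49cd0c49d9c990d884d08c49cd0d1519c8d0d884d08c49cd0c49d9c8480) (.leaf 0x90c499c498d0c498c9c48c849d90590d884d08c49cd0d1519c8d0d884d08c49cd0c49d9c8480))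 (.node 1 (.leaf 0x1d0c499c498d0c498c9c48c849d90590d884d08c49cd0d1519c8d0d884d08c49cd0c49d9c8480) (.leaf 0x10c499c498d0c498c9c48c849d8c499c498d0c498c9c48c849d90590d884d08c49cd0d1519c8d0d884d08c49cd0c49d9c8480)))) (.node 4 (.node 2 (.node 1 (.leaf 0x190d884d08c49cd0d1519c8d0d884d08c49cd0c49d9c8490c499c498d0c498c9c48c849d90590d884d08c49cd0d1519c8d0d884d08c49cd0c49d9c8480) (.leaf 0x590d884d08c49cd0d1519c8d0d884d08c49cd0c49d9c848590d884d08c49cd0d1519c8d0d884d08c49cd0c49d9c8480)) (.node 1 (.leaf 0x1d90d884d08c49cd0d1519c8d0d884d08c49cd0c49d9c848590d884d08c49cd0d1519c8d0d884d08c49cd0c49d9c8480) (.leaf 0x190d884d08c49cd0d1519c8d0d884d08c49cd0c49d9c84990d884d08c49cd0d1519c8d0d884d08c49cd0c49d9c848590d884d08c49cd0d1519c8d0d884d08c49cd0c49d9c8480))) (.node 2 (.node 1 (.leaf 0xd0c499c498d0c498c9c48c849d90990d884d08c49cd0d1519c8d0d884d08c49cd0c49d9c8480) (.leaf 0x1d0c499c498d0c498c9c48c849d90990d884d08c49cd0d1519c8d0d884d08c49cd0c49d9c8480))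 (.node 1 (.leaf 0x190d884d08c49cd0d1519c8d0d884d08c49cd0c49d9c8490c499c498d0c498c9c48c849d90990d884d08c49cd0d1519c8d0d884d08c49cd0c49d9c8480) (.leaf 0x10d884d08c49cd0d1519c8d0d884d08c49cd0c49d9c8590d884d08c49cd0d1519c8d0d884d08c49cd0c49d9c8480))))) (.node 8 (.node 4 (.node 2 (.node 1 (.leaf 0x1d90d884d08c49cd0d1519c8d0d884d08c49cd0c49d9c8590d884d08c49cd0d1519c8d0d884d08c49cd0c49d9c8480) (.leaf 0x190d884d08c49cd0d1519c8d0d884d08c49cd0c49d9c84990d884d08c49cd0d1519c8d0d884d08c49cd0c49d9c8590d884d08c49cd0d1519c8d0d884d08c49cd0c49d9c8480)) (.node 1 (.leaf 0x90c499c498d0c498c9c48c849d90d90d884d08c49cd0d1519c8d0d884d08c49cd0c49d9c8480) (.leaf 0xd0c499c498d0c498c9c48c849d90d90d884d08c49cd0d1519c8d0d884d08c49cd0c49d9c8480))) (.node 2 (.node 1 (.leaf 0x1d0c499c498d0c498c9c48c849d90d90d884d08c49cd0d1519c8d0d884d08c49cd0c49d9c8480) (.leaf 0x10c499c498d0c498c9c48c849d9190d884d08c49cd0d1519c8d0d884d08c49cd0c49d9c848d90d884d08c49cd0d1519c8d0d884d08c49cd0c49d9c8480))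 (.node 1 (.leaf 0x190d884d08c49cd0d1519c8d0d884d08c49cd0c49d9c84990d884d08c49cd0d1519c8d0d884d08c49cd0c49d9c848d90d884d08c49cd0d1519c8d0d884d08c49cd0c49d9c8480) (.leaf 0x9d0d884d08c49cd0d1519c8d0d884d08c49cd0c49d9c8480)))) (.node 4 (.node 2 (.node 1 (.leaf 0x50c499c498d0c498c9c48c849d8d884d08c49cd0d1519c8d0d884d08c49cd0c49d9c8480) (.leaf 0xd0c499c498d0c498c9c48c849d8d884d08c49cd0d1519c8d0d884d08c49cd0c49d9c8480)) (.node 1 (.leaf 0x190d884d08c49cd0d1519c8d0d884d08c49cd0c49d9c8490c499c498d0c498c9c48c849d8d884d08c49cd0d1519c8d0d884d08c49cd0c49d9c8480) (.leaf 0x10d884d08c49cd0d1519c8d0d884d08c49cd0c49d9c8490d884d08c49cd0d1519c8d0d884d08c49cd0c49d9c8480))) (.node 2 (.node 1 (.leaf 0x99d90d884d08c49cd0d1519c8d0d884d08c49cd0c49d9c8480) (.leaf 0x50c499c498d0c498c9c48c849d91d90d884d08c49cd0d1519c8d0d884d08c49cd0c49d9c8480)) (.node 1 (.leaf 0xd0c499c498d0c498c9c48c849d91d90d884d08c49cd0d1519c8d0d884d08c49cd0c49d9c8480)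 (.leaf 0x1d0c499c498d0c498c9c48c849d91d90d884d08c49cd0d1519c8d0d884d08c49cd0c49d9c8480)))))))

def moves1_2 : Tree :=
  .node 29 (.node 14 (.node 7 (.node 3 (.node 1 (.leaf 0x10c499c498d0c498c9c48c849d8c499c498d0c498c9c48c849d91d90d884d08c49cd0d1519c8d0d884d08c49cd0c49d9c8480) (.node 1 (.leaf 0x190d884d08c49cd0d1519c8d0d884d08c49cd0c49d9c84990d884d08c49cd0d1519c8d0d884d08c49cd0c49d9c849d90d884d08c49cd0d1519c8d0d884d08c49cd0c49d9c8480) (.leaf 0x850c499c498d0c498c9c48c849d9190d884d08c49cd0d1519c8d0d884d08c49cd0c49d9c8480))) (.node 2 (.node 1 (.leaf 0x1850c499c498d0c498c9c48c849d9190d884d08c49cd0d1519c8d0d884d08c49cd0c49d9c8480) (.leaf 0x1890c499c498d0c498c9c48c849d9190d884d08c49cd0d1519c8d0d884d08c49cd0c49d9c8480)) (.node 1 (.leaf 0x1d90c499c498d0c498c9c48c849d9190d884d08c49cd0d1519c8d0d884d08c49cd0c49d9c8480) (.leaf 0x50c499c498d0c498c9c48c849d8c499c498d0c498c9c48c849d9190d884d08c49cd0d1519c8d0d884d08c49cd0c49d9c8480))))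 (.node 3 (.node 1 (.leaf 0x190c499c498d0c498c9c48c849d8c499c498d0c498c9c48c849d9190d884d08c49cd0d1519c8d0d884d08c49cd0c49d9c8480) (.node 1 (.leaf 0x18990d884d08c49cd0d1519c8d0d884d08c49cd0c49d9c84990d884d08c49cd0d1519c8d0d884d08c49cd0c49d9c8480) (.leaf 0x90d884d08c49cd0d1519c8d0d884d08c49cd0c49d9c84990d884d08c49cd0d1519c8d0d884d08c49cd0c49d9c8480))) (.node 2 (.node 1 (.leaf 0x190c499c498d0c498c9c48c849d9190d884d08c49cd0d1519c8d0d884d08c49cd0c49d9c84990d884d08c49cd0d1519c8d0d884d08c49cd0c49d9c8480) (.leaf 0x190d884d08c49cd0d1519c8d0d884d08c49cd0c49d9c8490c499c498d0c498c9c48c849d9190d884d08c49cd0d1519c8d0d884d08c49cd0c49d9c84990d884d08c49cd0d1519c8d0d884d08c49cd0c49d9c8480)) (.node 1 (.leaf 0x10c499c498d0c498c9c48c849d91c8480) (.leaf 0x190d884d08c49cd0d1519c8d0d884d08c49cd0c49d9c858480))))) (.node 7 (.node 3 (.node 1 (.leaf 0x590d884d08c49cd0d1519c8d0d884d08c49cd0c49d9c8498480)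 (.node 1 (.leaf 0x990d884d08c49cd0d1519c8d0d884d08c49cd0c49d9c8498480) (.leaf 0x10c499c498d0c498c9c48c849d9190d884d08c49cd0d1519c8d0d884d08c49cd0c49d9c8498480))) (.node 2 (.node 1 (.leaf 0x90c499c498d0c498c9c48c849d91c480) (.leaf 0xd0c499c498d0c498c9c48c849d91c480)) (.node 1 (.leaf 0x190c499c498d0c498c9c48c849d91c480) (.leaf 0x1c90c499c498d0c498c9c48c849d90480)))) (.node 4 (.node 2 (.node 1 (.leaf 0x10c499c498d0c498c9c48c849d9090c499c498d0c498c9c48c849d90480) (.leaf 0x9d0c499c498d0c498c9c48c849d90480)) (.node 1 (.leaf 0x590d884d08c49cd0d1519c8d0d884d08c49cd0c49d9c8490c499c498d0c498c9c48c849d90480) (.leaf 0x990d884d08c49cd0d1519c8d0d884d08c49cd0c49d9c8490c499c498d0c498c9c48c849d90480))) (.node 2 (.node 1 (.leaf 0xd90d884d08c49cd0d1519c8d0d884d08c49cd0c49d9c8490c499c498d0c498c9c48c849d90480) (.leaf 0x190d884d08c49cd0d1519c8d0d884d08c49cd0c49d9c8490d884d08c49cd0d1519c8d0d884d08c49cd0c49d9c848480))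 (.node 1 (.leaf 0x9d90d884d08c49cd0d1519c8d0d884d08c49cd0c49d9c848480) (.leaf 0x190d884d08c49cd0d1519c8d0d884d08c49cd0c49d9c849d90d884d08c49cd0d1519c8d0d884d08c49cd0c49d9c848480)))))) (.node 15 (.node 7 (.node 3 (.node 1 (.leaf 0x10c499c498d0c498c9c48c849d8c499c498d0c498c9c48c849d9190d884d08c49cd0d1519c8d0d884d08c49cd0c49d9c848480) (.node 1 (.leaf 0x190d884d08c49cd0d1519c8d0d884d08c49cd0c49d9c858c80) (.leaf 0x590d884d08c49cd0d1519c8d0d884d08c49cd0c49d9c8498c80))) (.node 2 (.node 1 (.leaf 0xd90d884d08c49cd0d1519c8d0d884d08c49cd0c49d9c8498c80) (.leaf 0x10d884d08c49cd0d1519c8d0d884d08c49cd0c49d9c8498c80)) (.node 1 (.leaf 0x190c499c498d0c498c9c48c849d91cc80) (.leaf 0x8d0c499c498d0c498c9c48c849d90c80)))) (.node 4 (.node 2 (.node 1 (.leaf 0x190d884d08c49cd0d1519c8d0d884d08c49cd0c49d9c848d0c499c498d0c498c9c48c849d90c80) (.leaf 0x50c499c498d0c498c9c48c849d8c499c498d0c498c9c48c849d90c80))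 (.node 1 (.leaf 0x1c990d884d08c49cd0d1519c8d0d884d08c49cd0c49d9c849880) (.leaf 0x90c499c498d0c498c9c48c849d9190d884d08c49cd0d1519c8d0d884d08c49cd0c49d9c849880))) (.node 2 (.node 1 (.leaf 0xc50c499c498d0c498c9c48c849d91c80) (.leaf 0x190d884d08c49cd0d1519c8d0d884d08c49cd0c49d9c84850c499c498d0c498c9c48c849d91c80)) (.node 1 (.leaf 0x1cd0c499c498d0c498c9c48c849d91c80) (.leaf 0x10c499c498d0c498c9c48c849d91850c499c498d0c498c9c48c849d9080))))) (.node 7 (.node 3 (.node 1 (.leaf 0x10d884d08c49cd0d1519c8d0d884d08c49cd0c49d9c84990c499c498d0c498c9c48c849d9080) (.node 1 (.leaf 0xd0c499c498d0c498c9c48c849d8c499c498d0c498c9c48c849d8c499c498d0c498c9c48c849d9080) (.leaf 0x18d90d884d08c49cd0d1519c8d0d884d08c49cd0c49d9c8490c499c498d0c498c9c48c849d9080))) (.node 2 (.node 1 (.leaf 0x1c50c499c498d0c498c9c48c849d9190d884d08c49cd0d1519c8d0d884d08c49cd0c49d9c840) (.leaf 0x10c499c498d0c498c9c48c849d9050c499c498d0c498c9c48c849d9190d884d08c49cd0d1519c8d0d884d08c49cd0c49d9c840))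 (.node 1 (.leaf 0x18d0c499c498d0c498c9c48c849d9190d884d08c49cd0d1519c8d0d884d08c49cd0c49d9c840) (.leaf 0x190d884d08c49cd0d1519c8d0d884d08c49cd0c49d9c849d0c499c498d0c498c9c48c849d9190d884d08c49cd0d1519c8d0d884d08c49cd0c49d9c840)))) (.node 4 (.node 2 (.node 1 (.leaf 0x50c499c498d0c498c9c48c849d90c50c499c498d0c498c9c48c849d900) (.leaf 0xc50c499c498d0c498c9c48c849d9050c499c498d0c498c9c48c849d900)) (.node 1 (.leaf 0x1850c499c498d0c498c9c48c849d9050c499c498d0c498c9c48c849d900) (.leaf 0x190d884d08c49cd0d1519c8d0d884d08c49cd0c49d9c84990c499c498d0c498c9c48c849d9050c499c498d0c498c9c48c849d900))) (.node 2 (.node 1 (.leaf 0x10c499c498d0c498c9c48c849d90d90d884d08c49cd0d1519c8d0d884d08c49cd0c49d9c84850c499c498d0c498c9c48c849d900) (.leaf 0x190c499c498d0c498c9c48c849d9190d884d08c49cd0d1519c8d0d884d08c49cd0c49d9c84850c499c498d0c498c9c48c849d900)) (.node 1 (.leaf 0x1d0c499c498d0c498c9c48c849d91cd0c499c498d0c498c9c48c849d900)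 (.leaf 0x8d0c499c498d0c498c9c48c849d90990d884d08c49cd0d1519c8d0d884d08c49cd0c49d9c8480))))))

def moves1 : Tree :=
  .node 128 (moves1_0) (.node 128 (moves1_1) (moves1_2))

def reps1 : List (List (List ℕ)) := [[[4], [0]]]

def level1 : AutCert.Level := ⟨candsA, [], [], reps1, moves1⟩

def moves2_0 : Tree :=
  .node 64 (.node 32 (.node 16 (.node 8 (.node 4 (.node 2 (.node 1 (.leaf 0x0) (.leaf 0x1c99d0c499c498d0c498c9c48c849d918dc849d88498c80)) (.node 1 (.leaf 0x0) (.leaf 0xc0))) (.node 2 (.node 1 (.leaf 0x8dc849cd9d0c499c498d0c498c9c48c849d918dc849cc8c0) (.leaf 0x8dc849cd9d0c499c498d0c498c9c48c849d918dc849cc80)) (.node 1 (.leaf 0x8d88499c849cd9d0c499c498d0c498c9c48c849d91880) (.leaf 0x99d0c499c498d0c498c9c48c849d918dc849d88498c80)))) (.node 4 (.node 2 (.node 1 (.leaf 0x0) (.leaf 0x0)) (.node 1 (.leaf 0x0) (.leaf 0x0))) (.node 2 (.node 1 (.leaf 0x0) (.leaf 0x1840))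 (.node 1 (.leaf 0x8d88499c849cc9c0) (.leaf 0xc40))))) (.node 8 (.node 4 (.node 2 (.node 1 (.leaf 0x0) (.leaf 0x0)) (.node 1 (.leaf 0x18c0) (.leaf 0x1cc0))) (.node 2 (.node 1 (.leaf 0x0) (.leaf 0x0)) (.node 1 (.leaf 0x40) (.leaf 0x8dc849cd9d0c499c498d0c498c9c48c849d918dc849cc840)))) (.node 4 (.node 2 (.node 1 (.leaf 0x8d88499c849cd9d0c499c498d0c498c9c48c849d918840) (.leaf 0x99d0c499c498d0c498c9c48c849d918dc849d88498c840)) (.node 1 (.leaf 0x0) (.leaf 0x0))) (.node 2 (.node 1 (.leaf 0x8dc849d88498d9d0c499c498d0c498c9c48c849d91880) (.leaf 0x99d0c499c498d0c498c9c48c849d918d88499c849cc840)) (.node 1 (.leaf 0x188dc849cc80) (.leaf 0x8dc849cc9c0)))))) (.node 16 (.node 8 (.node 4 (.node 2 (.node 1 (.leaf 0x8d88499c849cd9d0c499c498d0c498c9c48c849d918980) (.leaf 0x0)) (.node 1 (.leaf 0x8d88498d9d0c499c498d0c498c9c48c849d918d88498c8c0) (.leaf 0x0))) (.node 2 (.node 1 (.leaf 0x0)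 (.leaf 0x0)) (.node 1 (.leaf 0x0) (.leaf 0x0)))) (.node 4 (.node 2 (.node 1 (.leaf 0x0) (.leaf 0x0)) (.node 1 (.leaf 0x0) (.leaf 0x0))) (.node 2 (.node 1 (.leaf 0x8dc849cc9899d0c499c498d0c498c9c48c849d91880) (.leaf 0x0)) (.node 1 (.leaf 0x0) (.leaf 0x0))))) (.node 8 (.node 4 (.node 2 (.node 1 (.leaf 0x8d88498c8c0) (.leaf 0x0)) (.node 1 (.leaf 0x0) (.leaf 0x0))) (.node 2 (.node 1 (.leaf 0x0) (.leaf 0x0)) (.node 1 (.leaf 0x0) (.leaf 0x0)))) (.node 4 (.node 2 (.node 1 (.leaf 0x180) (.leaf 0x0)) (.node 1 (.leaf 0x18c40) (.leaf 0x848c590d884d08c49cd0d1519c8d0d884d08c49cd0c49d9c84980))) (.node 2 (.node 1 (.leaf 0x0) (.leaf 0x0)) (.node 1 (.leaf 0x8dc849cc9c8d88498c80) (.leaf 0x0))))))) (.node 32 (.node 16 (.node 8 (.node 4 (.node 2 (.node 1 (.leaf 0x8dc849d88498c9c0) (.leaf 0x8dc849d88498c9d80)) (.node 1 (.leaf 0x8dc849d88498c840) (.leaf 0x0))) (.node 2 (.node 1 (.leaf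 0x0) (.leaf 0x848c590d884d08c49cd0d1519c8d0d884d08c49cd0c49d9c848c0)) (.node 1 (.leaf 0x8dc849cc9c8d88498c980) (.leaf 0x99d0c499c498d0c498c9c48c849d918dc849cc840)))) (.node 4 (.node 2 (.node 1 (.leaf 0x0) (.leaf 0x0)) (.node 1 (.leaf 0x1c0) (.leaf 0x8d88498d9d0c499c498d0c498c9c48c849d9188c0))) (.node 2 (.node 1 (.leaf 0x0) (.leaf 0x1d8c0)) (.node 1 (.leaf 0x0) (.leaf 0x8d88498c48c590d884d08c49cd0d1519c8d0d884d08c49cd0c49d9c859d0c499c498d0c498c9c48c849d91880))))) (.node 8 (.node 4 (.node 2 (.node 1 (.leaf 0x848c590d884d08c49cd0d1519c8d0d884d08c49cd0c49d9c8498c0) (.leaf 0x0)) (.node 1 (.leaf 0x0) (.leaf 0x0))) (.node 2 (.node 1 (.leaf 0x0) (.leaf 0x0)) (.node 1 (.leaf 0x99d0c499c498d0c498c9c48c849d918988dc849cc80) (.leaf 0x0)))) (.node 4 (.node 2 (.node 1 (.leaf 0x99d0c499c498d0c498c9c48c849d918dc849cc8c0) (.leaf 0x0)) (.node 1 (.leaf 0x0) (.leaf 0x848c590d884d08c49cd0d1519c8d0d884d08c49cd0c49d9c8480)))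 (.node 2 (.node 1 (.leaf 0x0) (.leaf 0x8dc849d88498d9d0c499c498d0c498c9c48c849d918840)) (.node 1 (.leaf 0x99d0c499c498d0c498c9c48c849d918d88499c849cc80) (.leaf 0x99d0c499c498d0c498c9c48c849d918d88498c48c590d884d08c49cd0d1519c8d0d884d08c49cd0c49d9c8480)))))) (.node 16 (.node 8 (.node 4 (.node 2 (.node 1 (.leaf 0x0) (.leaf 0x0)) (.node 1 (.leaf 0x0) (.leaf 0x0))) (.node 2 (.node 1 (.leaf 0x0) (.leaf 0x1c8d88499c849cc80)) (.node 1 (.leaf 0x0) (.leaf 0x0)))) (.node 4 (.node 2 (.node 1 (.leaf 0x8d88498c48c590d884d08c49cd0d1519c8d0d884d08c49cd0c49d9c84980) (.leaf 0x0)) (.node 1 (.leaf 0x0) (.leaf 0x0))) (.node 2 (.node 1 (.leaf 0x8d88499c849cc980) (.leaf 0xc99d0c499c498d0c498c9c48c849d918dc849cc80)) (.node 1 (.leaf 0x0) (.leaf 0x8d88498d9d0c499c498d0c498c9c48c849d918d88498c80))))) (.node 8 (.node 4 (.node 2 (.node 1 (.leaf 0x0) (.leaf 0x0)) (.node 1 (.leaf 0x8d88498d9d0c499c498d0c498c9c48c849d918d88498c840)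 (.leaf 0x0))) (.node 2 (.node 1 (.leaf 0x0) (.leaf 0x188dc849cc840)) (.node 1 (.leaf 0x99d0c499c498d0c498c9c48c849d91880) (.leaf 0x8dc849cc9840)))) (.node 4 (.node 2 (.node 1 (.leaf 0x8dc849cc80) (.leaf 0x1d88dc849cc80)) (.node 1 (.leaf 0x0) (.leaf 0x0))) (.node 2 (.node 1 (.leaf 0x848c590d884d08c49cd0d1519c8d0d884d08c49cd0c49d9c84dc849cc80) (.leaf 0x8dc849cc9cc0)) (.node 1 (.leaf 0x188dc849cc9c0) (.leaf 0x0)))))))

def moves2_1 : Tree :=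
  .node 64 (.node 32 (.node 16 (.node 8 (.node 4 (.node 2 (.node 1 (.leaf 0x0) (.leaf 0x0)) (.node 1 (.leaf 0x0) (.leaf 0x0))) (.node 2 (.node 1 (.leaf 0x0) (.leaf 0x8d88498c8c99d0c499c498d0c498c9c48c849d91880)) (.node 1 (.leaf 0x0) (.leaf 0x0)))) (.node 4 (.node 2 (.node 1 (.leaf 0x0) (.leaf 0x0)) (.node 1 (.leaf 0x0) (.leaf 0x0))) (.node 2 (.node 1 (.leaf 0x0) (.leaf 0x0)) (.node 1 (.leaf 0x0) (.leaf 0x0))))) (.node 8 (.node 4 (.node 2 (.node 1 (.leaf 0x0) (.leaf 0x0)) (.node 1 (.leaf 0x0) (.leaf 0x99d0c499c498d0c498c9c48c849d91848c590d884d08c49cd0d1519c8d0d884d08c49cd0c49d9c84980))) (.node 2 (.node 1 (.leaf 0x0) (.leaf 0x188dc849d88498c80)) (.node 1 (.leaf 0xc99d0c499c498d0c498c9c48c849d91880) (.leaf 0x0)))) (.node 4 (.node 2 (.node 1 (.leaf 0x1899d0c499c498d0c498c9c48c849d918840) (.leaf 0x0)) (.node 1 (.leaf 0x0) (.leaf 0x0))) (.node 2 (.node 1 (.leaf 0x8dc849cc9899d0c499c498d0c498c9c48c849d918840)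 (.leaf 0x8dc849cd9d0c499c498d0c498c9c48c849d9189c0)) (.node 1 (.leaf 0x8dc849cd9d0c499c498d0c498c9c48c849d9188c0) (.leaf 0x99d0c499c498d0c498c9c48c849d91848c590d884d08c49cd0d1519c8d0d884d08c49cd0c49d9c84d88498c80)))))) (.node 16 (.node 8 (.node 4 (.node 2 (.node 1 (.leaf 0x848c590d884d08c49cd0d1519c8d0d884d08c49cd0c49d9c859d0c499c498d0c498c9c48c849d91880) (.leaf 0x0)) (.node 1 (.leaf 0x0) (.leaf 0x0))) (.node 2 (.node 1 (.leaf 0x99d0c499c498d0c498c9c48c849d918d88498c980) (.leaf 0x8dc849d88498c80)) (.node 1 (.leaf 0x0) (.leaf 0x8d88498c980)))) (.node 4 (.node 2 (.node 1 (.leaf 0x0) (.leaf 0x8d88498c8c40)) (.node 1 (.leaf 0x0) (.leaf 0x8d88498c80))) (.node 2 (.node 1 (.leaf 0x8d88498c98c0) (.leaf 0x8d88498c48c590d884d08c49cd0d1519c8d0d884d08c49cd0c49d9c8480)) (.node 1 (.leaf 0x0) (.leaf 0x0))))) (.node 8 (.node 4 (.node 2 (.node 1 (.leaf 0x0) (.leaf 0x0)) (.node 1 (.leaf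 0x0) (.leaf 0x0))) (.node 2 (.node 1 (.leaf 0x8dc849cd9d0c499c498d0c498c9c48c849d918980) (.leaf 0x0)) (.node 1 (.leaf 0x0) (.leaf 0x0)))) (.node 4 (.node 2 (.node 1 (.leaf 0x0) (.leaf 0x0)) (.node 1 (.leaf 0x0) (.leaf 0x1c8d88498c80))) (.node 2 (.node 1 (.leaf 0x0) (.leaf 0x0)) (.node 1 (.leaf 0x0) (.leaf 0x0))))))) (.node 32 (.node 16 (.node 8 (.node 4 (.node 2 (.node 1 (.leaf 0x8dc849cc980) (.leaf 0x8d88498c988dc849cc80)) (.node 1 (.leaf 0x0) (.leaf 0x0))) (.node 2 (.node 1 (.leaf 0x0) (.leaf 0x1d80)) (.node 1 (.leaf 0x0) (.leaf 0x0)))) (.node 4 (.node 2 (.node 1 (.leaf 0x0) (.leaf 0x188dc849cd9d0c499c498d0c498c9c48c849d91880)) (.node 1 (.leaf 0x1899d0c499c498d0c498c9c48c849d91880) (.leaf 0x99d0c499c498d0c498c9c48c849d918d88498c8c0))) (.node 2 (.node 1 (.leaf 0x0) (.leaf 0x848c590d884d08c49cd0d1519c8d0d884d08c49cd0c49d9c84d88498c80)) (.node 1 (.leaf 0x0) (.leaf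 0x1c8d88499c849cc980))))) (.node 8 (.node 4 (.node 2 (.node 1 (.leaf 0x0) (.leaf 0x99d0c499c498d0c498c9c48c849d9188c0)) (.node 1 (.leaf 0x0) (.leaf 0x8dc849cc8c40))) (.node 2 (.node 1 (.leaf 0x0) (.leaf 0x8d88499c849cc9d80)) (.node 1 (.leaf 0x8d88499c849cc840) (.leaf 0x0)))) (.node 4 (.node 2 (.node 1 (.leaf 0x99d0c499c498d0c498c9c48c849d918840) (.leaf 0x0)) (.node 1 (.leaf 0x0) (.leaf 0x8d88498d9d0c499c498d0c498c9c48c849d918980))) (.node 2 (.node 1 (.leaf 0x0) (.leaf 0x99d0c499c498d0c498c9c48c849d9189840)) (.node 1 (.leaf 0x0) (.leaf 0x0)))))) (.node 16 (.node 8 (.node 4 (.node 2 (.node 1 (.leaf 0x0) (.leaf 0x0)) (.node 1 (.leaf 0x0) (.leaf 0x8d88498c9c0))) (.node 2 (.node 1 (.leaf 0x0) (.leaf 0x848c590d884d08c49cd0d1519c8d0d884d08c49cd0c49d9c859d0c499c498d0c498c9c48c849d9189c0)) (.node 1 (.leaf 0x8dc849d88498c980) (.leaf 0x99d0c499c498d0c498c9c48c849d918d88498c9c0))))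 (.node 4 (.node 2 (.node 1 (.leaf 0x99d0c499c498d0c498c9c48c849d918d88498c840) (.leaf 0x99d0c499c498d0c498c9c48c849d918dc849cc80)) (.node 1 (.leaf 0x99d0c499c498d0c498c9c48c849d918dc849cc980) (.leaf 0x8dc849cc8c0))) (.node 2 (.node 1 (.leaf 0x0) (.leaf 0x0)) (.node 1 (.leaf 0x99d0c499c498d0c498c9c48c849d9189d80) (.leaf 0x0))))) (.node 8 (.node 4 (.node 2 (.node 1 (.leaf 0x0) (.leaf 0x0)) (.node 1 (.leaf 0x0) (.leaf 0x8d88498d9d0c499c498d0c498c9c48c849d918840))) (.node 2 (.node 1 (.leaf 0x8d88498c9c99d0c499c498d0c498c9c48c849d91880) (.leaf 0x848c590d884d08c49cd0d1519c8d0d884d08c49cd0c49d9c84dc849cc980)) (.node 1 (.leaf 0x848c590d884d08c49cd0d1519c8d0d884d08c49cd0c49d9c84dc849cc8c0) (.leaf 0x0)))) (.node 4 (.node 2 (.node 1 (.leaf 0x0) (.leaf 0x0)) (.node 1 (.leaf 0x0) (.leaf 0x1c99d0c499c498d0c498c9c48c849d918dc849cc80))) (.node 2 (.node 1 (.leaf 0x0) (.leaf 0x0))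 (.node 1 (.leaf 0x0) (.leaf 0x0)))))))

def moves2_2 : Tree :=
  .node 29 (.node 14 (.node 7 (.node 3 (.node 1 (.leaf 0x8dc849cd9d0c499c498d0c498c9c48c849d91880) (.node 1 (.leaf 0x8dc849cc840) (.leaf 0x0))) (.node 2 (.node 1 (.leaf 0x0) (.leaf 0x0)) (.node 1 (.leaf 0x0) (.leaf 0x99d0c499c498d0c498c9c48c849d918988dc849cc840)))) (.node 3 (.node 1 (.leaf 0x848c590d884d08c49cd0d1519c8d0d884d08c49cd0c49d9c84d88498d9d0c499c498d0c498c9c48c849d91880) (.node 1 (.leaf 0x8d88498d9d0c499c498d0c498c9c48c849d91880) (.leaf 0x0))) (.node 2 (.node 1 (.leaf 0x0) (.leaf 0x0)) (.node 1 (.leaf 0x0) (.leaf 0x0))))) (.node 7 (.node 3 (.node 1 (.leaf 0x0) (.node 1 (.leaf 0x0) (.leaf 0x0))) (.node 2 (.node 1 (.leaf 0x848c590d884d08c49cd0d1519c8d0d884d08c49cd0c49d9c84d88498c980) (.leaf 0x0)) (.node 1 (.leaf 0x0) (.leaf 0x8d88499c849cc80)))) (.node 4 (.node 2 (.node 1 (.leaf 0x0) (.leaf 0x0))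 (.node 1 (.leaf 0x8d88498c9d80) (.leaf 0x8dc849cc9d80))) (.node 2 (.node 1 (.leaf 0x1c8d88498c980) (.leaf 0x1899d0c499c498d0c498c9c48c849d918980)) (.node 1 (.leaf 0x0) (.leaf 0x0)))))) (.node 15 (.node 7 (.node 3 (.node 1 (.leaf 0x1c99d0c499c498d0c498c9c48c849d91880) (.node 1 (.leaf 0x0) (.leaf 0x0))) (.node 2 (.node 1 (.leaf 0x0) (.leaf 0x0)) (.node 1 (.leaf 0x0) (.leaf 0x0)))) (.node 4 (.node 2 (.node 1 (.leaf 0x0) (.leaf 0x0)) (.node 1 (.leaf 0x0) (.leaf 0x0))) (.node 2 (.node 1 (.leaf 0x0) (.leaf 0x99d0c499c498d0c498c9c48c849d918980)) (.node 1 (.leaf 0x0) (.leaf 0x99d0c499c498d0c498c9c48c849d918d88498c80))))) (.node 7 (.node 3 (.node 1 (.leaf 0x99d0c499c498d0c498c9c48c849d9189c0) (.node 1 (.leaf 0x99d0c499c498d0c498c9c48c849d91848c590d884d08c49cd0d1519c8d0d884d08c49cd0c49d9c8480) (.leaf 0x0))) (.node 2 (.node 1 (.leaf 0x99d0c499c498d0c498c9c48c849d9189c8d88498c80)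 (.leaf 0x0)) (.node 1 (.leaf 0x8dc849cd9d0c499c498d0c498c9c48c849d918840) (.leaf 0x0)))) (.node 4 (.node 2 (.node 1 (.leaf 0x8d88498c9840) (.leaf 0x8d88498c840)) (.node 1 (.leaf 0x99d0c499c498d0c498c9c48c849d918dc849cd9d0c499c498d0c498c9c48c849d91880) (.leaf 0x0))) (.node 2 (.node 1 (.leaf 0x0) (.leaf 0x0)) (.node 1 (.leaf 0x0) (.leaf 0x0))))))

def moves2 : Tree :=
  .node 128 (moves2_0) (.node 128 (moves2_1) (moves2_2))

def reps2 : List (List (List ℕ)) := [[[4], [0], [1]]]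

def level2 : AutCert.Level := ⟨candsA, [[2, 1, 2, 1, 2, 1, 2, 1, 2, 1]], [[2, 1]], reps2, moves2⟩

def moves3_0 : Tree :=
  .node 64 (.node 32 (.node 16 (.node 8 (.node 4 (.node 2 (.node 1 (.leaf 0x0) (.leaf 0x0)) (.node 1 (.leaf 0x0) (.leaf 0x0))) (.node 2 (.node 1 (.leaf 0x0) (.leaf 0x0)) (.node 1 (.leaf 0x0) (.leaf 0x0)))) (.node 4 (.node 2 (.node 1 (.leaf 0x0) (.leaf 0x0)) (.node 1 (.leaf 0x0) (.leaf 0x0))) (.node 2 (.node 1 (.leaf 0x0) (.leaf 0x0)) (.node 1 (.leaf 0x0) (.leaf 0x0))))) (.node 8 (.node 4 (.node 2 (.node 1 (.leaf 0x0) (.leaf 0x0)) (.node 1 (.leaf 0x0) (.leaf 0x0))) (.node 2 (.node 1 (.leaf 0x0) (.leaf 0x0)) (.node 1 (.leaf 0x0) (.leaf 0x0)))) (.node 4 (.node 2 (.node 1 (.leaf 0x0) (.leaf 0x0)) (.node 1 (.leaf 0x0) (.leaf 0x0))) (.node 2 (.node 1 (.leaf 0x0) (.leaf 0x0)) (.node 1 (.leaf 0x0) (.leaf 0x0)))))) (.node 16 (.node 8 (.node 4 (.node 2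 (.node 1 (.leaf 0x0) (.leaf 0x0)) (.node 1 (.leaf 0x0) (.leaf 0x0))) (.node 2 (.node 1 (.leaf 0x0) (.leaf 0x0)) (.node 1 (.leaf 0x0) (.leaf 0x0)))) (.node 4 (.node 2 (.node 1 (.leaf 0x0) (.leaf 0x0)) (.node 1 (.leaf 0x0) (.leaf 0x4))) (.node 2 (.node 1 (.leaf 0x0) (.leaf 0x0)) (.node 1 (.leaf 0x0) (.leaf 0x0))))) (.node 8 (.node 4 (.node 2 (.node 1 (.leaf 0x0) (.leaf 0x0)) (.node 1 (.leaf 0x0) (.leaf 0x0))) (.node 2 (.node 1 (.leaf 0x0) (.leaf 0x0)) (.node 1 (.leaf 0x0) (.leaf 0x0)))) (.node 4 (.node 2 (.node 1 (.leaf 0x0) (.leaf 0x0)) (.node 1 (.leaf 0x0) (.leaf 0x0))) (.node 2 (.node 1 (.leaf 0x0) (.leaf 0x0)) (.node 1 (.leaf 0x0) (.leaf 0x0))))))) (.node 32 (.node 16 (.node 8 (.node 4 (.node 2 (.node 1 (.leaf 0x0) (.leaf 0x0)) (.node 1 (.leaf 0x0) (.leaf 0x0))) (.node 2 (.node 1 (.leaf 0x0) (.leaf 0x0)) (.node 1 (.leaf 0x0) (.leaf 0x0)))) (.node 4 (.node 2 (.node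 1 (.leaf 0x0) (.leaf 0x0)) (.node 1 (.leaf 0x0) (.leaf 0x0))) (.node 2 (.node 1 (.leaf 0x0) (.leaf 0x0)) (.node 1 (.leaf 0x0) (.leaf 0x0))))) (.node 8 (.node 4 (.node 2 (.node 1 (.leaf 0x0) (.leaf 0x0)) (.node 1 (.leaf 0x0) (.leaf 0x0))) (.node 2 (.node 1 (.leaf 0x0) (.leaf 0x0)) (.node 1 (.leaf 0x0) (.leaf 0x0)))) (.node 4 (.node 2 (.node 1 (.leaf 0x0) (.leaf 0x0)) (.node 1 (.leaf 0x0) (.leaf 0x0))) (.node 2 (.node 1 (.leaf 0x0) (.leaf 0x0)) (.node 1 (.leaf 0x0) (.leaf 0x0)))))) (.node 16 (.node 8 (.node 4 (.node 2 (.node 1 (.leaf 0x0) (.leaf 0x0)) (.node 1 (.leaf 0x0) (.leaf 0x0))) (.node 2 (.node 1 (.leaf 0x0) (.leaf 0x0)) (.node 1 (.leaf 0x0) (.leaf 0x0)))) (.node 4 (.node 2 (.node 1 (.leaf 0x0) (.leaf 0x0)) (.node 1 (.leaf 0x0) (.leaf 0x0))) (.node 2 (.node 1 (.leaf 0x0) (.leaf 0x0)) (.node 1 (.leaf 0x0) (.leaf 0x0))))) (.node 8 (.node 4 (.node 2 (.node 1 (.leaf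 0x0) (.leaf 0x0)) (.node 1 (.leaf 0x0) (.leaf 0x0))) (.node 2 (.node 1 (.leaf 0x0) (.leaf 0x0)) (.node 1 (.leaf 0x0) (.leaf 0x0)))) (.node 4 (.node 2 (.node 1 (.leaf 0x0) (.leaf 0x0)) (.node 1 (.leaf 0x0) (.leaf 0x0))) (.node 2 (.node 1 (.leaf 0x0) (.leaf 0x0)) (.node 1 (.leaf 0x0) (.leaf 0x0)))))))

def moves3_1 : Tree :=
  .node 64 (.node 32 (.node 16 (.node 8 (.node 4 (.node 2 (.node 1 (.leaf 0x0) (.leaf 0x0)) (.node 1 (.leaf 0x0) (.leaf 0x0))) (.node 2 (.node 1 (.leaf 0x0) (.leaf 0x0)) (.node 1 (.leaf 0x0) (.leaf 0x0)))) (.node 4 (.node 2 (.node 1 (.leaf 0x0) (.leaf 0x0)) (.node 1 (.leaf 0x0) (.leaf 0x0))) (.node 2 (.node 1 (.leaf 0x0) (.leaf 0x0)) (.node 1 (.leaf 0x0) (.leaf 0x0))))) (.node 8 (.node 4 (.node 2 (.node 1 (.leaf 0x0) (.leaf 0x0)) (.node 1 (.leaf 0x0) (.leaf 0x0))) (.node 2 (.node 1 (.leaf 0x0) (.leaf 0x0)) (.node 1 (.leaf 0x0) (.leaf 0x0)))) (.node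 4 (.node 2 (.node 1 (.leaf 0x0) (.leaf 0x0)) (.node 1 (.leaf 0x0) (.leaf 0x0))) (.node 2 (.node 1 (.leaf 0x0) (.leaf 0x0)) (.node 1 (.leaf 0x0) (.leaf 0x0)))))) (.node 16 (.node 8 (.node 4 (.node 2 (.node 1 (.leaf 0x0) (.leaf 0x0)) (.node 1 (.leaf 0x0) (.leaf 0x0))) (.node 2 (.node 1 (.leaf 0x0) (.leaf 0x0)) (.node 1 (.leaf 0x0) (.leaf 0x0)))) (.node 4 (.node 2 (.node 1 (.leaf 0x0) (.leaf 0x0)) (.node 1 (.leaf 0x0) (.leaf 0x0))) (.node 2 (.node 1 (.leaf 0x0) (.leaf 0x0)) (.node 1 (.leaf 0x0) (.leaf 0x0))))) (.node 8 (.node 4 (.node 2 (.node 1 (.leaf 0x0) (.leaf 0x0)) (.node 1 (.leaf 0x0) (.leaf 0x0))) (.node 2 (.node 1 (.leaf 0x0) (.leaf 0x0)) (.node 1 (.leaf 0x0) (.leaf 0x0)))) (.node 4 (.node 2 (.node 1 (.leaf 0x0) (.leaf 0x0)) (.node 1 (.leaf 0x0) (.leaf 0x0))) (.node 2 (.node 1 (.leaf 0x0) (.leaf 0x0)) (.node 1 (.leaf 0x0) (.leaf 0x0))))))) (.node 32 (.node 16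 (.node 8 (.node 4 (.node 2 (.node 1 (.leaf 0x0) (.leaf 0x0)) (.node 1 (.leaf 0x5) (.leaf 0x0))) (.node 2 (.node 1 (.leaf 0x3) (.leaf 0x0)) (.node 1 (.leaf 0x0) (.leaf 0x0)))) (.node 4 (.node 2 (.node 1 (.leaf 0x0) (.leaf 0x0)) (.node 1 (.leaf 0x0) (.leaf 0x0))) (.node 2 (.node 1 (.leaf 0x0) (.leaf 0x0)) (.node 1 (.leaf 0x0) (.leaf 0x0))))) (.node 8 (.node 4 (.node 2 (.node 1 (.leaf 0x0) (.leaf 0x0)) (.node 1 (.leaf 0x0) (.leaf 0x0))) (.node 2 (.node 1 (.leaf 0x0) (.leaf 0x0)) (.node 1 (.leaf 0x0) (.leaf 0x0)))) (.node 4 (.node 2 (.node 1 (.leaf 0x0) (.leaf 0x0)) (.node 1 (.leaf 0x0) (.leaf 0x0))) (.node 2 (.node 1 (.leaf 0x0) (.leaf 0x0)) (.node 1 (.leaf 0x0) (.leaf 0x0)))))) (.node 16 (.node 8 (.node 4 (.node 2 (.node 1 (.leaf 0x0) (.leaf 0x0)) (.node 1 (.leaf 0x0) (.leaf 0x0))) (.node 2 (.node 1 (.leaf 0x0) (.leaf 0x0)) (.node 1 (.leaf 0x0) (.leaf 0x0)))) (.node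 4 (.node 2 (.node 1 (.leaf 0x0) (.leaf 0x0)) (.node 1 (.leaf 0x0) (.leaf 0x0))) (.node 2 (.node 1 (.leaf 0x0) (.leaf 0x0)) (.node 1 (.leaf 0x0) (.leaf 0x0))))) (.node 8 (.node 4 (.node 2 (.node 1 (.leaf 0x0) (.leaf 0x1)) (.node 1 (.leaf 0x0) (.leaf 0x0))) (.node 2 (.node 1 (.leaf 0x0) (.leaf 0x0)) (.node 1 (.leaf 0x0) (.leaf 0x0)))) (.node 4 (.node 2 (.node 1 (.leaf 0x0) (.leaf 0x0)) (.node 1 (.leaf 0x2) (.leaf 0x0))) (.node 2 (.node 1 (.leaf 0x0) (.leaf 0x0)) (.node 1 (.leaf 0x0) (.leaf 0x0)))))))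

def moves3_2 : Tree :=
  .node 29 (.node 14 (.node 7 (.node 3 (.node 1 (.leaf 0x0) (.node 1 (.leaf 0x0) (.leaf 0x0))) (.node 2 (.node 1 (.leaf 0x0) (.leaf 0x0)) (.node 1 (.leaf 0x0) (.leaf 0x0)))) (.node 3 (.node 1 (.leaf 0x0) (.node 1 (.leaf 0x0) (.leaf 0x0))) (.node 2 (.node 1 (.leaf 0x0) (.leaf 0x0)) (.node 1 (.leaf 0x0) (.leaf 0x0))))) (.node 7 (.node 3 (.node 1 (.leaf 0x0) (.node 1 (.leaf 0x0) (.leaf 0x0))) (.node 2 (.node 1 (.leaf 0x0) (.leaf 0x0)) (.node 1 (.leaf 0x0) (.leaf 0x0)))) (.node 4 (.node 2 (.node 1 (.leaf 0x0) (.leaf 0x0)) (.node 1 (.leaf 0x0) (.leaf 0x0))) (.node 2 (.node 1 (.leaf 0x0) (.leaf 0x0)) (.node 1 (.leaf 0x0) (.leaf 0x6)))))) (.node 15 (.node 7 (.node 3 (.node 1 (.leaf 0x0) (.node 1 (.leaf 0x0) (.leaf 0x0))) (.node 2 (.node 1 (.leaf 0x0) (.leaf 0x0)) (.node 1 (.leaf 0x0) (.leaf 0x0)))) (.node 4 (.node 2 (.node 1 (.leaf 0x0) (.leaf 0x0))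 (.node 1 (.leaf 0x0) (.leaf 0x0))) (.node 2 (.node 1 (.leaf 0x0) (.leaf 0x0)) (.node 1 (.leaf 0x0) (.leaf 0x0))))) (.node 7 (.node 3 (.node 1 (.leaf 0x0) (.node 1 (.leaf 0x0) (.leaf 0x0))) (.node 2 (.node 1 (.leaf 0x0) (.leaf 0x0)) (.node 1 (.leaf 0x0) (.leaf 0x0)))) (.node 4 (.node 2 (.node 1 (.leaf 0x0) (.leaf 0x0)) (.node 1 (.leaf 0x0) (.leaf 0x0))) (.node 2 (.node 1 (.leaf 0x0) (.leaf 0x0)) (.node 1 (.leaf 0x0) (.leaf 0x0))))))

def moves3 : Tree :=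
  .node 128 (moves3_0) (.node 128 (moves3_1) (moves3_2))

def reps3 : List (List (List ℕ)) := [[[4], [0], [1], [2]], [[4], [0], [1], [5, 1, 6, 2, 1, 0, 1, 2, 6, 1, 5]], [[4], [0], [1], [6, 1, 5, 2, 1, 0, 1, 2, 5, 1, 6]], [[4], [0], [1], [1, 5, 0, 1, 0, 1, 0, 1, 0, 1, 0, 5, 1]], [[4], [0], [1], [1, 6, 0, 1, 0, 1, 0, 1, 0, 1, 0, 6, 1]], [[4], [0], [1], [3, 2, 1, 5, 3, 2, 1, 0, 1, 2, 3, 5, 1, 2, 3]], [[4], [0], [1], [3, 2, 1, 6, 3, 2, 1, 0, 1, 2, 3, 6, 1, 2, 3]]]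

def level3 : AutCert.Level := ⟨candsA, [[3, 1, 3, 1], [3, 2, 3, 2, 3, 2]], [[3, 1], [3, 2]], reps3, moves3⟩

def moves4_0 : Tree :=
  .node 64 (.node 32 (.node 16 (.node 8 (.node 4 (.node 2 (.node 1 (.leaf 0x0) (.leaf 0x0)) (.node 1 (.leaf 0x0) (.leaf 0x0))) (.node 2 (.node 1 (.leaf 0x0) (.leaf 0x0)) (.node 1 (.leaf 0x0) (.leaf 0x0)))) (.node 4 (.node 2 (.node 1 (.leaf 0x0) (.leaf 0x0)) (.node 1 (.leaf 0x0) (.leaf 0x0))) (.node 2 (.node 1 (.leaf 0x0) (.leaf 0x0)) (.node 1 (.leaf 0x0) (.leaf 0x0))))) (.node 8 (.node 4 (.node 2 (.node 1 (.leaf 0x0) (.leaf 0x0)) (.node 1 (.leaf 0x0) (.leaf 0x0))) (.node 2 (.node 1 (.leaf 0x0) (.leaf 0x0)) (.node 1 (.leaf 0x0) (.leaf 0x0)))) (.node 4 (.node 2 (.node 1 (.leaf 0x0) (.leaf 0x0)) (.node 1 (.leaf 0x0) (.leaf 0x0))) (.node 2 (.node 1 (.leaf 0x0) (.leaf 0x0)) (.node 1 (.leaf 0x0) (.leaf 0x0)))))) (.node 16 (.node 8 (.node 4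 (.node 2 (.node 1 (.leaf 0x0) (.leaf 0x0)) (.node 1 (.leaf 0x0) (.leaf 0x0))) (.node 2 (.node 1 (.leaf 0x0) (.leaf 0x0)) (.node 1 (.leaf 0x0) (.leaf 0x0)))) (.node 4 (.node 2 (.node 1 (.leaf 0x0) (.leaf 0x0)) (.node 1 (.leaf 0x0) (.leaf 0x3))) (.node 2 (.node 1 (.leaf 0x0) (.leaf 0x0)) (.node 1 (.leaf 0x0) (.leaf 0x0))))) (.node 8 (.node 4 (.node 2 (.node 1 (.leaf 0x0) (.leaf 0x0)) (.node 1 (.leaf 0x0) (.leaf 0x0))) (.node 2 (.node 1 (.leaf 0x0) (.leaf 0x0)) (.node 1 (.leaf 0x0) (.leaf 0x0)))) (.node 4 (.node 2 (.node 1 (.leaf 0x0) (.leaf 0x0)) (.node 1 (.leaf 0x0) (.leaf 0x0))) (.node 2 (.node 1 (.leaf 0x0) (.leaf 0x0)) (.node 1 (.leaf 0x0) (.leaf 0x0))))))) (.node 32 (.node 16 (.node 8 (.node 4 (.node 2 (.node 1 (.leaf 0x0) (.leaf 0x0)) (.node 1 (.leaf 0x0) (.leaf 0x0))) (.node 2 (.node 1 (.leaf 0x0) (.leaf 0x0)) (.node 1 (.leaf 0x0) (.leaf 0x0)))) (.node 4 (.node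 2 (.node 1 (.leaf 0x0) (.leaf 0x0)) (.node 1 (.leaf 0x0) (.leaf 0x0))) (.node 2 (.node 1 (.leaf 0x0) (.leaf 0x0)) (.node 1 (.leaf 0x0) (.leaf 0x0))))) (.node 8 (.node 4 (.node 2 (.node 1 (.leaf 0x0) (.leaf 0x0)) (.node 1 (.leaf 0x0) (.leaf 0x0))) (.node 2 (.node 1 (.leaf 0x0) (.leaf 0x0)) (.node 1 (.leaf 0x0) (.leaf 0x0)))) (.node 4 (.node 2 (.node 1 (.leaf 0x0) (.leaf 0x0)) (.node 1 (.leaf 0x0) (.leaf 0x0))) (.node 2 (.node 1 (.leaf 0x0) (.leaf 0x0)) (.node 1 (.leaf 0x0) (.leaf 0x0)))))) (.node 16 (.node 8 (.node 4 (.node 2 (.node 1 (.leaf 0x0) (.leaf 0x0)) (.node 1 (.leaf 0x0) (.leaf 0x0))) (.node 2 (.node 1 (.leaf 0x0) (.leaf 0x0)) (.node 1 (.leaf 0x0) (.leaf 0x0)))) (.node 4 (.node 2 (.node 1 (.leaf 0x0) (.leaf 0x0)) (.node 1 (.leaf 0x0) (.leaf 0x0))) (.node 2 (.node 1 (.leaf 0x0) (.leaf 0x0)) (.node 1 (.leaf 0x0) (.leaf 0x0))))) (.node 8 (.node 4 (.node 2 (.node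 1 (.leaf 0x0) (.leaf 0x0)) (.node 1 (.leaf 0x0) (.leaf 0x0))) (.node 2 (.node 1 (.leaf 0x0) (.leaf 0x0)) (.node 1 (.leaf 0x0) (.leaf 0x0)))) (.node 4 (.node 2 (.node 1 (.leaf 0x0) (.leaf 0x0)) (.node 1 (.leaf 0x0) (.leaf 0x0))) (.node 2 (.node 1 (.leaf 0x0) (.leaf 0x0)) (.node 1 (.leaf 0x0) (.leaf 0x0)))))))

def moves4_1 : Tree :=
  .node 64 (.node 32 (.node 16 (.node 8 (.node 4 (.node 2 (.node 1 (.leaf 0x0) (.leaf 0x0)) (.node 1 (.leaf 0x0) (.leaf 0x0))) (.node 2 (.node 1 (.leaf 0x0) (.leaf 0x0)) (.node 1 (.leaf 0x0) (.leaf 0x0)))) (.node 4 (.node 2 (.node 1 (.leaf 0x0) (.leaf 0x0)) (.node 1 (.leaf 0x0) (.leaf 0x0))) (.node 2 (.node 1 (.leaf 0x0) (.leaf 0x0)) (.node 1 (.leaf 0x0) (.leaf 0x0))))) (.node 8 (.node 4 (.node 2 (.node 1 (.leaf 0x0) (.leaf 0x0)) (.node 1 (.leaf 0x0) (.leaf 0x0))) (.node 2 (.node 1 (.leaf 0x0) (.leaf 0x0)) (.node 1 (.leaf 0x0) (.leaf 0x0))))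 (.node 4 (.node 2 (.node 1 (.leaf 0x0) (.leaf 0x0)) (.node 1 (.leaf 0x0) (.leaf 0x0))) (.node 2 (.node 1 (.leaf 0x0) (.leaf 0x0)) (.node 1 (.leaf 0x0) (.leaf 0x0)))))) (.node 16 (.node 8 (.node 4 (.node 2 (.node 1 (.leaf 0x0) (.leaf 0x0)) (.node 1 (.leaf 0x0) (.leaf 0x0))) (.node 2 (.node 1 (.leaf 0x0) (.leaf 0x0)) (.node 1 (.leaf 0x0) (.leaf 0x0)))) (.node 4 (.node 2 (.node 1 (.leaf 0x0) (.leaf 0x0)) (.node 1 (.leaf 0x0) (.leaf 0x0))) (.node 2 (.node 1 (.leaf 0x0) (.leaf 0x0)) (.node 1 (.leaf 0x0) (.leaf 0x0))))) (.node 8 (.node 4 (.node 2 (.node 1 (.leaf 0x0) (.leaf 0x0)) (.node 1 (.leaf 0x0) (.leaf 0x0))) (.node 2 (.node 1 (.leaf 0x0) (.leaf 0x0)) (.node 1 (.leaf 0x0) (.leaf 0x0)))) (.node 4 (.node 2 (.node 1 (.leaf 0x0) (.leaf 0x0)) (.node 1 (.leaf 0x0) (.leaf 0x0))) (.node 2 (.node 1 (.leaf 0x0) (.leaf 0x0)) (.node 1 (.leaf 0x0) (.leaf 0x0))))))) (.node 32 (.node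 16 (.node 8 (.node 4 (.node 2 (.node 1 (.leaf 0x0) (.leaf 0x0)) (.node 1 (.leaf 0x4) (.leaf 0x0))) (.node 2 (.node 1 (.leaf 0x0) (.leaf 0x0)) (.node 1 (.leaf 0x0) (.leaf 0x0)))) (.node 4 (.node 2 (.node 1 (.leaf 0x0) (.leaf 0x0)) (.node 1 (.leaf 0x0) (.leaf 0x0))) (.node 2 (.node 1 (.leaf 0x0) (.leaf 0x0)) (.node 1 (.leaf 0x0) (.leaf 0x0))))) (.node 8 (.node 4 (.node 2 (.node 1 (.leaf 0x0) (.leaf 0x0)) (.node 1 (.leaf 0x0) (.leaf 0x0))) (.node 2 (.node 1 (.leaf 0x0) (.leaf 0x0)) (.node 1 (.leaf 0x0) (.leaf 0x0)))) (.node 4 (.node 2 (.node 1 (.leaf 0x0) (.leaf 0x0)) (.node 1 (.leaf 0x0) (.leaf 0x0))) (.node 2 (.node 1 (.leaf 0x0) (.leaf 0x0)) (.node 1 (.leaf 0x0) (.leaf 0x0)))))) (.node 16 (.node 8 (.node 4 (.node 2 (.node 1 (.leaf 0x0) (.leaf 0x0)) (.node 1 (.leaf 0x0) (.leaf 0x0))) (.node 2 (.node 1 (.leaf 0x0) (.leaf 0x0)) (.node 1 (.leaf 0x0) (.leaf 0x0)))) (.node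 4 (.node 2 (.node 1 (.leaf 0x0) (.leaf 0x0)) (.node 1 (.leaf 0x0) (.leaf 0x0))) (.node 2 (.node 1 (.leaf 0x0) (.leaf 0x0)) (.node 1 (.leaf 0x0) (.leaf 0x0))))) (.node 8 (.node 4 (.node 2 (.node 1 (.leaf 0x0) (.leaf 0x1)) (.node 1 (.leaf 0x0) (.leaf 0x0))) (.node 2 (.node 1 (.leaf 0x0) (.leaf 0x0)) (.node 1 (.leaf 0x0) (.leaf 0x0)))) (.node 4 (.node 2 (.node 1 (.leaf 0x0) (.leaf 0x0)) (.node 1 (.leaf 0x2) (.leaf 0x0))) (.node 2 (.node 1 (.leaf 0x0) (.leaf 0x0)) (.node 1 (.leaf 0x0) (.leaf 0x0)))))))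

def moves4_2 : Tree :=
  .node 64 (.node 32 (.node 16 (.node 8 (.node 4 (.node 2 (.node 1 (.leaf 0x0) (.leaf 0x0)) (.node 1 (.leaf 0x0) (.leaf 0x0))) (.node 2 (.node 1 (.leaf 0x0) (.leaf 0x0)) (.node 1 (.leaf 0x0) (.leaf 0x0)))) (.node 4 (.node 2 (.node 1 (.leaf 0x0) (.leaf 0x0)) (.node 1 (.leaf 0x0) (.leaf 0x0))) (.node 2 (.node 1 (.leaf 0x0) (.leaf 0x0)) (.node 1 (.leaf 0x0) (.leaf 0x0))))) (.node 8 (.node 4 (.node 2 (.node 1 (.leaf 0x0) (.leaf 0x0)) (.node 1 (.leaf 0x0) (.leaf 0x0))) (.node 2 (.node 1 (.leaf 0x0) (.leaf 0x0)) (.node 1 (.leaf 0x0) (.leaf 0x0)))) (.node 4 (.node 2 (.node 1 (.leaf 0x0) (.leaf 0x0)) (.node 1 (.leaf 0x0) (.leaf 0x0))) (.node 2 (.node 1 (.leaf 0x5) (.leaf 0x0)) (.node 1 (.leaf 0x0) (.leaf 0x0)))))) (.node 16 (.node 8 (.node 4 (.node 2 (.node 1 (.leaf 0x0) (.leaf 0x0)) (.node 1 (.leaf 0x0) (.leaf 0x0))) (.node 2 (.node 1 (.leaf 0x0)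 (.leaf 0x0)) (.node 1 (.leaf 0x0) (.leaf 0x0)))) (.node 4 (.node 2 (.node 1 (.leaf 0x0) (.leaf 0x0)) (.node 1 (.leaf 0x0) (.leaf 0x0))) (.node 2 (.node 1 (.leaf 0x0) (.leaf 0x0)) (.node 1 (.leaf 0x0) (.leaf 0x0))))) (.node 8 (.node 4 (.node 2 (.node 1 (.leaf 0x0) (.leaf 0x0)) (.node 1 (.leaf 0x0) (.leaf 0x0))) (.node 2 (.node 1 (.leaf 0x0) (.leaf 0x0)) (.node 1 (.leaf 0x0) (.leaf 0x0)))) (.node 4 (.node 2 (.node 1 (.leaf 0x0) (.leaf 0x0)) (.node 1 (.leaf 0x0) (.leaf 0x0))) (.node 2 (.node 1 (.leaf 0x0) (.leaf 0x0)) (.node 1 (.leaf 0x0) (.leaf 0x0))))))) (.node 32 (.node 16 (.node 8 (.node 4 (.node 2 (.node 1 (.leaf 0x0) (.leaf 0x0)) (.node 1 (.leaf 0x0) (.leaf 0x0))) (.node 2 (.node 1 (.leaf 0x0) (.leaf 0x0)) (.node 1 (.leaf 0x0) (.leaf 0x0)))) (.node 4 (.node 2 (.node 1 (.leaf 0x0) (.leaf 0x0)) (.node 1 (.leaf 0x0) (.leaf 0x6))) (.node 2 (.node 1 (.leaf 0x0) (.leaf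 0x0)) (.node 1 (.leaf 0x0) (.leaf 0x0))))) (.node 8 (.node 4 (.node 2 (.node 1 (.leaf 0x0) (.leaf 0x0)) (.node 1 (.leaf 0x0) (.leaf 0x0))) (.node 2 (.node 1 (.leaf 0x0) (.leaf 0x0)) (.node 1 (.leaf 0x0) (.leaf 0x0)))) (.node 4 (.node 2 (.node 1 (.leaf 0x0) (.leaf 0x0)) (.node 1 (.leaf 0x0) (.leaf 0x0))) (.node 2 (.node 1 (.leaf 0x0) (.leaf 0x0)) (.node 1 (.leaf 0x0) (.leaf 0x0)))))) (.node 16 (.node 8 (.node 4 (.node 2 (.node 1 (.leaf 0x0) (.leaf 0x0)) (.node 1 (.leaf 0x0) (.leaf 0x0))) (.node 2 (.node 1 (.leaf 0x0) (.leaf 0x0)) (.node 1 (.leaf 0x7) (.leaf 0x0)))) (.node 4 (.node 2 (.node 1 (.leaf 0x0) (.leaf 0x0)) (.node 1 (.leaf 0x0) (.leaf 0x0))) (.node 2 (.node 1 (.leaf 0x0) (.leaf 0x0)) (.node 1 (.leaf 0x0) (.leaf 0x0))))) (.node 8 (.node 4 (.node 2 (.node 1 (.leaf 0x0) (.leaf 0x0)) (.node 1 (.leaf 0x0) (.leaf 0x0))) (.node 2 (.node 1 (.leaf 0x0) (.leaf 0x0))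 (.node 1 (.leaf 0x0) (.leaf 0x0)))) (.node 4 (.node 2 (.node 1 (.leaf 0x0) (.leaf 0x0)) (.node 1 (.leaf 0x0) (.leaf 0x0))) (.node 2 (.node 1 (.leaf 0x0) (.leaf 0x0)) (.node 1 (.leaf 0x0) (.leaf 0x0)))))))

def moves4_3 : Tree :=
  .node 64 (.node 32 (.node 16 (.node 8 (.node 4 (.node 2 (.node 1 (.leaf 0x0) (.leaf 0x0)) (.node 1 (.leaf 0x0) (.leaf 0x0))) (.node 2 (.node 1 (.leaf 0x0) (.leaf 0x0)) (.node 1 (.leaf 0x0) (.leaf 0x0)))) (.node 4 (.node 2 (.node 1 (.leaf 0x0) (.leaf 0x0)) (.node 1 (.leaf 0x0) (.leaf 0x0))) (.node 2 (.node 1 (.leaf 0x0) (.leaf 0x0)) (.node 1 (.leaf 0x0) (.leaf 0x0))))) (.node 8 (.node 4 (.node 2 (.node 1 (.leaf 0x0) (.leaf 0x0)) (.node 1 (.leaf 0x0) (.leaf 0x0))) (.node 2 (.node 1 (.leaf 0x0) (.leaf 0x0)) (.node 1 (.leaf 0x0) (.leaf 0x0)))) (.node 4 (.node 2 (.node 1 (.leaf 0x0) (.leaf 0x0)) (.node 1 (.leaf 0x0) (.leaf 0x0))) (.node 2 (.node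 1 (.leaf 0x0) (.leaf 0x0)) (.node 1 (.leaf 0x0) (.leaf 0x0)))))) (.node 16 (.node 8 (.node 4 (.node 2 (.node 1 (.leaf 0x0) (.leaf 0x0)) (.node 1 (.leaf 0x0) (.leaf 0x0))) (.node 2 (.node 1 (.leaf 0x0) (.leaf 0x0)) (.node 1 (.leaf 0x0) (.leaf 0x0)))) (.node 4 (.node 2 (.node 1 (.leaf 0x0) (.leaf 0x0)) (.node 1 (.leaf 0x0) (.leaf 0x0))) (.node 2 (.node 1 (.leaf 0x0) (.leaf 0x0)) (.node 1 (.leaf 0x0) (.leaf 0x0))))) (.node 8 (.node 4 (.node 2 (.node 1 (.leaf 0x0) (.leaf 0x0)) (.node 1 (.leaf 0x0) (.leaf 0x0))) (.node 2 (.node 1 (.leaf 0x0) (.leaf 0x0)) (.node 1 (.leaf 0x0) (.leaf 0x0)))) (.node 4 (.node 2 (.node 1 (.leaf 0x0) (.leaf 0x0)) (.node 1 (.leaf 0x0) (.leaf 0x0))) (.node 2 (.node 1 (.leaf 0x0) (.leaf 0x0)) (.node 1 (.leaf 0x0) (.leaf 0x0))))))) (.node 32 (.node 16 (.node 8 (.node 4 (.node 2 (.node 1 (.leaf 0x0) (.leaf 0x0)) (.node 1 (.leaf 0x0) (.leaf 0x0)))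 (.node 2 (.node 1 (.leaf 0x0) (.leaf 0x0)) (.node 1 (.leaf 0x0) (.leaf 0x0)))) (.node 4 (.node 2 (.node 1 (.leaf 0x0) (.leaf 0x0)) (.node 1 (.leaf 0x0) (.leaf 0x0))) (.node 2 (.node 1 (.leaf 0x0) (.leaf 0x0)) (.node 1 (.leaf 0x0) (.leaf 0x0))))) (.node 8 (.node 4 (.node 2 (.node 1 (.leaf 0x0) (.leaf 0x0)) (.node 1 (.leaf 0x0) (.leaf 0x0))) (.node 2 (.node 1 (.leaf 0x0) (.leaf 0x0)) (.node 1 (.leaf 0x0) (.leaf 0x0)))) (.node 4 (.node 2 (.node 1 (.leaf 0x0) (.leaf 0x0)) (.node 1 (.leaf 0x0) (.leaf 0x0))) (.node 2 (.node 1 (.leaf 0x0) (.leaf 0x0)) (.node 1 (.leaf 0x0) (.leaf 0x0)))))) (.node 16 (.node 8 (.node 4 (.node 2 (.node 1 (.leaf 0x0) (.leaf 0x0)) (.node 1 (.leaf 0x0) (.leaf 0x0))) (.node 2 (.node 1 (.leaf 0x0) (.leaf 0x0)) (.node 1 (.leaf 0x0) (.leaf 0x0)))) (.node 4 (.node 2 (.node 1 (.leaf 0x0) (.leaf 0x0)) (.node 1 (.leaf 0x0) (.leaf 0x0))) (.node 2 (.node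 1 (.leaf 0x0) (.leaf 0x0)) (.node 1 (.leaf 0x0) (.leaf 0x0))))) (.node 8 (.node 4 (.node 2 (.node 1 (.leaf 0x0) (.leaf 0x0)) (.node 1 (.leaf 0x0) (.leaf 0x0))) (.node 2 (.node 1 (.leaf 0x0) (.leaf 0x0)) (.node 1 (.leaf 0x0) (.leaf 0x0)))) (.node 4 (.node 2 (.node 1 (.leaf 0x0) (.leaf 0x0)) (.node 1 (.leaf 0x0) (.leaf 0x0))) (.node 2 (.node 1 (.leaf 0x0) (.leaf 0x0)) (.node 1 (.leaf 0x0) (.leaf 0x0)))))))

def moves4_4 : Tree :=
  .node 64 (.node 32 (.node 16 (.node 8 (.node 4 (.node 2 (.node 1 (.leaf 0x0) (.leaf 0x0)) (.node 1 (.leaf 0x0) (.leaf 0x0))) (.node 2 (.node 1 (.leaf 0x0) (.leaf 0x0)) (.node 1 (.leaf 0x0) (.leaf 0x0)))) (.node 4 (.node 2 (.node 1 (.leaf 0x0) (.leaf 0x0)) (.node 1 (.leaf 0x0) (.leaf 0x0))) (.node 2 (.node 1 (.leaf 0x0) (.leaf 0x0)) (.node 1 (.leaf 0x0) (.leaf 0x0))))) (.node 8 (.node 4 (.node 2 (.node 1 (.leaf 0x0) (.leaf 0x0)) (.node 1 (.leaf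 0x0) (.leaf 0x0))) (.node 2 (.node 1 (.leaf 0x0) (.leaf 0x0)) (.node 1 (.leaf 0x0) (.leaf 0x0)))) (.node 4 (.node 2 (.node 1 (.leaf 0x0) (.leaf 0x0)) (.node 1 (.leaf 0x0) (.leaf 0x0))) (.node 2 (.node 1 (.leaf 0x0) (.leaf 0x0)) (.node 1 (.leaf 0x0) (.leaf 0x0)))))) (.node 16 (.node 8 (.node 4 (.node 2 (.node 1 (.leaf 0x0) (.leaf 0x0)) (.node 1 (.leaf 0x0) (.leaf 0x0))) (.node 2 (.node 1 (.leaf 0x0) (.leaf 0x0)) (.node 1 (.leaf 0x0) (.leaf 0x0)))) (.node 4 (.node 2 (.node 1 (.leaf 0x0) (.leaf 0x0)) (.node 1 (.leaf 0x0) (.leaf 0x0))) (.node 2 (.node 1 (.leaf 0x0) (.leaf 0x0)) (.node 1 (.leaf 0x0) (.leaf 0x0))))) (.node 8 (.node 4 (.node 2 (.node 1 (.leaf 0x0) (.leaf 0x0)) (.node 1 (.leaf 0x0) (.leaf 0x0))) (.node 2 (.node 1 (.leaf 0x0) (.leaf 0x0)) (.node 1 (.leaf 0x0) (.leaf 0x0)))) (.node 4 (.node 2 (.node 1 (.leaf 0x0) (.leaf 0x0)) (.node 1 (.leaf 0x0) (.leaf 0x0)))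 (.node 2 (.node 1 (.leaf 0x0) (.leaf 0x0)) (.node 1 (.leaf 0x0) (.leaf 0x0))))))) (.node 32 (.node 16 (.node 8 (.node 4 (.node 2 (.node 1 (.leaf 0x0) (.leaf 0x0)) (.node 1 (.leaf 0x0) (.leaf 0x0))) (.node 2 (.node 1 (.leaf 0x0) (.leaf 0x0)) (.node 1 (.leaf 0x0) (.leaf 0x0)))) (.node 4 (.node 2 (.node 1 (.leaf 0x0) (.leaf 0x0)) (.node 1 (.leaf 0x0) (.leaf 0x0))) (.node 2 (.node 1 (.leaf 0x0) (.leaf 0x0)) (.node 1 (.leaf 0x0) (.leaf 0x0))))) (.node 8 (.node 4 (.node 2 (.node 1 (.leaf 0x0) (.leaf 0x0)) (.node 1 (.leaf 0x0) (.leaf 0x0))) (.node 2 (.node 1 (.leaf 0x0) (.leaf 0x0)) (.node 1 (.leaf 0x0) (.leaf 0x8)))) (.node 4 (.node 2 (.node 1 (.leaf 0x0) (.leaf 0x0)) (.node 1 (.leaf 0x0) (.leaf 0x0))) (.node 2 (.node 1 (.leaf 0x0) (.leaf 0x0)) (.node 1 (.leaf 0x0) (.leaf 0x0)))))) (.node 16 (.node 8 (.node 4 (.node 2 (.node 1 (.leaf 0x0) (.leaf 0x0)) (.node 1 (.leaf 0x0)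 (.leaf 0x0))) (.node 2 (.node 1 (.leaf 0x0) (.leaf 0x0)) (.node 1 (.leaf 0x0) (.leaf 0x0)))) (.node 4 (.node 2 (.node 1 (.leaf 0x0) (.leaf 0x0)) (.node 1 (.leaf 0x0) (.leaf 0x0))) (.node 2 (.node 1 (.leaf 0x0) (.leaf 0x0)) (.node 1 (.leaf 0x0) (.leaf 0x0))))) (.node 8 (.node 4 (.node 2 (.node 1 (.leaf 0x0) (.leaf 0x0)) (.node 1 (.leaf 0x0) (.leaf 0x0))) (.node 2 (.node 1 (.leaf 0x0) (.leaf 0x0)) (.node 1 (.leaf 0x0) (.leaf 0x0)))) (.node 4 (.node 2 (.node 1 (.leaf 0x0) (.leaf 0x0)) (.node 1 (.leaf 0x0) (.leaf 0x0))) (.node 2 (.node 1 (.leaf 0x0) (.leaf 0x0)) (.node 1 (.leaf 0x0) (.leaf 0x0)))))))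

def moves4_5 : Tree :=
  .node 64 (.node 32 (.node 16 (.node 8 (.node 4 (.node 2 (.node 1 (.leaf 0x0) (.leaf 0x0)) (.node 1 (.leaf 0x0) (.leaf 0x0))) (.node 2 (.node 1 (.leaf 0x0) (.leaf 0x0)) (.node 1 (.leaf 0xa) (.leaf 0x0)))) (.node 4 (.node 2 (.node 1 (.leaf 0x0) (.leaf 0x0)) (.node 1 (.leaf 0x0) (.leaf 0x0))) (.node 2 (.node 1 (.leaf 0x0) (.leaf 0x0)) (.node 1 (.leaf 0x0) (.leaf 0x0))))) (.node 8 (.node 4 (.node 2 (.node 1 (.leaf 0x0) (.leaf 0x0)) (.node 1 (.leaf 0x0) (.leaf 0x0))) (.node 2 (.node 1 (.leaf 0x0) (.leaf 0x0)) (.node 1 (.leaf 0x0) (.leaf 0x0)))) (.node 4 (.node 2 (.node 1 (.leaf 0x0) (.leaf 0x0)) (.node 1 (.leaf 0x0) (.leaf 0x0))) (.node 2 (.node 1 (.leaf 0x0) (.leaf 0x0)) (.node 1 (.leaf 0x0) (.leaf 0x0)))))) (.node 16 (.node 8 (.node 4 (.node 2 (.node 1 (.leaf 0x0) (.leaf 0x0)) (.node 1 (.leaf 0x0) (.leaf 0x0))) (.node 2 (.node 1 (.leaf 0x0)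 (.leaf 0x0)) (.node 1 (.leaf 0x0) (.leaf 0x0)))) (.node 4 (.node 2 (.node 1 (.leaf 0x0) (.leaf 0x0)) (.node 1 (.leaf 0x0) (.leaf 0x0))) (.node 2 (.node 1 (.leaf 0x0) (.leaf 0x0)) (.node 1 (.leaf 0x0) (.leaf 0x0))))) (.node 8 (.node 4 (.node 2 (.node 1 (.leaf 0x0) (.leaf 0x0)) (.node 1 (.leaf 0x0) (.leaf 0x0))) (.node 2 (.node 1 (.leaf 0x0) (.leaf 0x0)) (.node 1 (.leaf 0x0) (.leaf 0x0)))) (.node 4 (.node 2 (.node 1 (.leaf 0x0) (.leaf 0x0)) (.node 1 (.leaf 0x0) (.leaf 0x0))) (.node 2 (.node 1 (.leaf 0x0) (.leaf 0x0)) (.node 1 (.leaf 0x0) (.leaf 0x0))))))) (.node 32 (.node 16 (.node 8 (.node 4 (.node 2 (.node 1 (.leaf 0x0) (.leaf 0x0)) (.node 1 (.leaf 0x0) (.leaf 0x0))) (.node 2 (.node 1 (.leaf 0x0) (.leaf 0x0)) (.node 1 (.leaf 0x0) (.leaf 0x0)))) (.node 4 (.node 2 (.node 1 (.leaf 0x0) (.leaf 0x0)) (.node 1 (.leaf 0x0) (.leaf 0x0))) (.node 2 (.node 1 (.leaf 0x0) (.leaf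 0x0)) (.node 1 (.leaf 0x0) (.leaf 0x0))))) (.node 8 (.node 4 (.node 2 (.node 1 (.leaf 0x0) (.leaf 0x0)) (.node 1 (.leaf 0x0) (.leaf 0x0))) (.node 2 (.node 1 (.leaf 0x0) (.leaf 0x0)) (.node 1 (.leaf 0x0) (.leaf 0x0)))) (.node 4 (.node 2 (.node 1 (.leaf 0x0) (.leaf 0x0)) (.node 1 (.leaf 0x0) (.leaf 0x0))) (.node 2 (.node 1 (.leaf 0x0) (.leaf 0x0)) (.node 1 (.leaf 0x0) (.leaf 0x0)))))) (.node 16 (.node 8 (.node 4 (.node 2 (.node 1 (.leaf 0x0) (.leaf 0x0)) (.node 1 (.leaf 0x0) (.leaf 0x0))) (.node 2 (.node 1 (.leaf 0x0) (.leaf 0x0)) (.node 1 (.leaf 0x0) (.leaf 0x0)))) (.node 4 (.node 2 (.node 1 (.leaf 0x0) (.leaf 0x0)) (.node 1 (.leaf 0x0) (.leaf 0x0))) (.node 2 (.node 1 (.leaf 0x0) (.leaf 0x0)) (.node 1 (.leaf 0x0) (.leaf 0x0))))) (.node 8 (.node 4 (.node 2 (.node 1 (.leaf 0x0) (.leaf 0x0)) (.node 1 (.leaf 0x0) (.leaf 0x0))) (.node 2 (.node 1 (.leaf 0x0) (.leaf 0x0))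 (.node 1 (.leaf 0x0) (.leaf 0x0)))) (.node 4 (.node 2 (.node 1 (.leaf 0x0) (.leaf 0x0)) (.node 1 (.leaf 0x0) (.leaf 0x0))) (.node 2 (.node 1 (.leaf 0x0) (.leaf 0x0)) (.node 1 (.leaf 0x0) (.leaf 0x0)))))))

def moves4_6 : Tree :=
  .node 64 (.node 32 (.node 16 (.node 8 (.node 4 (.node 2 (.node 1 (.leaf 0x0) (.leaf 0x0)) (.node 1 (.leaf 0x0) (.leaf 0x0))) (.node 2 (.node 1 (.leaf 0x0) (.leaf 0x0)) (.node 1 (.leaf 0x0) (.leaf 0x0)))) (.node 4 (.node 2 (.node 1 (.leaf 0x0) (.leaf 0x0)) (.node 1 (.leaf 0x0) (.leaf 0x0))) (.node 2 (.node 1 (.leaf 0x0) (.leaf 0x0)) (.node 1 (.leaf 0x0) (.leaf 0x0))))) (.node 8 (.node 4 (.node 2 (.node 1 (.leaf 0x0) (.leaf 0x0)) (.node 1 (.leaf 0x0) (.leaf 0x0))) (.node 2 (.node 1 (.leaf 0x0) (.leaf 0x0)) (.node 1 (.leaf 0x0) (.leaf 0x0)))) (.node 4 (.node 2 (.node 1 (.leaf 0x0) (.leaf 0x0)) (.node 1 (.leaf 0x0) (.leaf 0x0))) (.node 2 (.node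 1 (.leaf 0x0) (.leaf 0x0)) (.node 1 (.leaf 0x0) (.leaf 0x0)))))) (.node 16 (.node 8 (.node 4 (.node 2 (.node 1 (.leaf 0x0) (.leaf 0x0)) (.node 1 (.leaf 0x0) (.leaf 0x0))) (.node 2 (.node 1 (.leaf 0x0) (.leaf 0x0)) (.node 1 (.leaf 0x0) (.leaf 0x0)))) (.node 4 (.node 2 (.node 1 (.leaf 0x0) (.leaf 0x0)) (.node 1 (.leaf 0x0) (.leaf 0x0))) (.node 2 (.node 1 (.leaf 0x0) (.leaf 0x0)) (.node 1 (.leaf 0x0) (.leaf 0x0))))) (.node 8 (.node 4 (.node 2 (.node 1 (.leaf 0x0) (.leaf 0x0)) (.node 1 (.leaf 0x0) (.leaf 0x0))) (.node 2 (.node 1 (.leaf 0x0) (.leaf 0x0)) (.node 1 (.leaf 0x0) (.leaf 0x0)))) (.node 4 (.node 2 (.node 1 (.leaf 0xb) (.leaf 0x0)) (.node 1 (.leaf 0x9) (.leaf 0x0))) (.node 2 (.node 1 (.leaf 0x0) (.leaf 0x0)) (.node 1 (.leaf 0x0) (.leaf 0x0))))))) (.node 32 (.node 16 (.node 8 (.node 4 (.node 2 (.node 1 (.leaf 0x0) (.leaf 0x0)) (.node 1 (.leaf 0x0) (.leaf 0x0)))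 (.node 2 (.node 1 (.leaf 0x0) (.leaf 0x0)) (.node 1 (.leaf 0x0) (.leaf 0x0)))) (.node 4 (.node 2 (.node 1 (.leaf 0x0) (.leaf 0x0)) (.node 1 (.leaf 0x0) (.leaf 0x0))) (.node 2 (.node 1 (.leaf 0x0) (.leaf 0x0)) (.node 1 (.leaf 0x0) (.leaf 0x0))))) (.node 8 (.node 4 (.node 2 (.node 1 (.leaf 0x0) (.leaf 0x0)) (.node 1 (.leaf 0x0) (.leaf 0x0))) (.node 2 (.node 1 (.leaf 0x0) (.leaf 0x0)) (.node 1 (.leaf 0x0) (.leaf 0x0)))) (.node 4 (.node 2 (.node 1 (.leaf 0x0) (.leaf 0x0)) (.node 1 (.leaf 0x0) (.leaf 0x0))) (.node 2 (.node 1 (.leaf 0x0) (.leaf 0x0)) (.node 1 (.leaf 0x0) (.leaf 0x0)))))) (.node 16 (.node 8 (.node 4 (.node 2 (.node 1 (.leaf 0x0) (.leaf 0x0)) (.node 1 (.leaf 0x0) (.leaf 0x0))) (.node 2 (.node 1 (.leaf 0x0) (.leaf 0x0)) (.node 1 (.leaf 0x0) (.leaf 0x0)))) (.node 4 (.node 2 (.node 1 (.leaf 0x0) (.leaf 0x0)) (.node 1 (.leaf 0x0) (.leaf 0x0))) (.node 2 (.node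 1 (.leaf 0x0) (.leaf 0x0)) (.node 1 (.leaf 0x0) (.leaf 0x0))))) (.node 8 (.node 4 (.node 2 (.node 1 (.leaf 0x0) (.leaf 0x0)) (.node 1 (.leaf 0x0) (.leaf 0x0))) (.node 2 (.node 1 (.leaf 0x0) (.leaf 0x0)) (.node 1 (.leaf 0x0) (.leaf 0x0)))) (.node 4 (.node 2 (.node 1 (.leaf 0x0) (.leaf 0x0)) (.node 1 (.leaf 0x0) (.leaf 0x0))) (.node 2 (.node 1 (.leaf 0x0) (.leaf 0x0)) (.node 1 (.leaf 0x0) (.leaf 0x0)))))))

def moves4_7 : Tree :=
  .node 64 (.node 32 (.node 16 (.node 8 (.node 4 (.node 2 (.node 1 (.leaf 0x0) (.leaf 0x0)) (.node 1 (.leaf 0x0) (.leaf 0x0))) (.node 2 (.node 1 (.leaf 0x0) (.leaf 0x0)) (.node 1 (.leaf 0x0) (.leaf 0x0)))) (.node 4 (.node 2 (.node 1 (.leaf 0x0) (.leaf 0x0)) (.node 1 (.leaf 0x0) (.leaf 0x0))) (.node 2 (.node 1 (.leaf 0x0) (.leaf 0x0)) (.node 1 (.leaf 0x0) (.leaf 0x0))))) (.node 8 (.node 4 (.node 2 (.node 1 (.leaf 0x0) (.leaf 0x0)) (.node 1 (.leaf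 0x0) (.leaf 0x0))) (.node 2 (.node 1 (.leaf 0x0) (.leaf 0x0)) (.node 1 (.leaf 0x0) (.leaf 0x0)))) (.node 4 (.node 2 (.node 1 (.leaf 0x0) (.leaf 0x0)) (.node 1 (.leaf 0x0) (.leaf 0x0))) (.node 2 (.node 1 (.leaf 0x0) (.leaf 0x0)) (.node 1 (.leaf 0x0) (.leaf 0x0)))))) (.node 16 (.node 8 (.node 4 (.node 2 (.node 1 (.leaf 0x0) (.leaf 0x0)) (.node 1 (.leaf 0x0) (.leaf 0x0))) (.node 2 (.node 1 (.leaf 0x0) (.leaf 0x0)) (.node 1 (.leaf 0x0) (.leaf 0x0)))) (.node 4 (.node 2 (.node 1 (.leaf 0x0) (.leaf 0x0)) (.node 1 (.leaf 0x0) (.leaf 0x0))) (.node 2 (.node 1 (.leaf 0x0) (.leaf 0x0)) (.node 1 (.leaf 0x0) (.leaf 0x0))))) (.node 8 (.node 4 (.node 2 (.node 1 (.leaf 0x0) (.leaf 0x0)) (.node 1 (.leaf 0x0) (.leaf 0x0))) (.node 2 (.node 1 (.leaf 0x0) (.leaf 0x0)) (.node 1 (.leaf 0x0) (.leaf 0x0)))) (.node 4 (.node 2 (.node 1 (.leaf 0x0) (.leaf 0x0)) (.node 1 (.leaf 0x0) (.leaf 0x0)))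 (.node 2 (.node 1 (.leaf 0x0) (.leaf 0x0)) (.node 1 (.leaf 0x0) (.leaf 0x0))))))) (.node 32 (.node 16 (.node 8 (.node 4 (.node 2 (.node 1 (.leaf 0x0) (.leaf 0xd)) (.node 1 (.leaf 0x0) (.leaf 0x0))) (.node 2 (.node 1 (.leaf 0x0) (.leaf 0x0)) (.node 1 (.leaf 0x0) (.leaf 0x0)))) (.node 4 (.node 2 (.node 1 (.leaf 0x0) (.leaf 0x0)) (.node 1 (.leaf 0x0) (.leaf 0x0))) (.node 2 (.node 1 (.leaf 0x0) (.leaf 0x0)) (.node 1 (.leaf 0x0) (.leaf 0x0))))) (.node 8 (.node 4 (.node 2 (.node 1 (.leaf 0x0) (.leaf 0x0)) (.node 1 (.leaf 0x0) (.leaf 0x0))) (.node 2 (.node 1 (.leaf 0x0) (.leaf 0x0)) (.node 1 (.leaf 0x0) (.leaf 0x0)))) (.node 4 (.node 2 (.node 1 (.leaf 0x0) (.leaf 0x0)) (.node 1 (.leaf 0x0) (.leaf 0x0))) (.node 2 (.node 1 (.leaf 0x0) (.leaf 0x0)) (.node 1 (.leaf 0x0) (.leaf 0x0)))))) (.node 16 (.node 8 (.node 4 (.node 2 (.node 1 (.leaf 0x0) (.leaf 0x0)) (.node 1 (.leaf 0x0)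 (.leaf 0x0))) (.node 2 (.node 1 (.leaf 0x0) (.leaf 0x0)) (.node 1 (.leaf 0x0) (.leaf 0x0)))) (.node 4 (.node 2 (.node 1 (.leaf 0x0) (.leaf 0x0)) (.node 1 (.leaf 0x0) (.leaf 0x0))) (.node 2 (.node 1 (.leaf 0x0) (.leaf 0x0)) (.node 1 (.leaf 0x0) (.leaf 0x0))))) (.node 8 (.node 4 (.node 2 (.node 1 (.leaf 0x0) (.leaf 0x0)) (.node 1 (.leaf 0x0) (.leaf 0x0))) (.node 2 (.node 1 (.leaf 0x0) (.leaf 0x0)) (.node 1 (.leaf 0x0) (.leaf 0x0)))) (.node 4 (.node 2 (.node 1 (.leaf 0x0) (.leaf 0x0)) (.node 1 (.leaf 0x0) (.leaf 0x0))) (.node 2 (.node 1 (.leaf 0x0) (.leaf 0x0)) (.node 1 (.leaf 0x0) (.leaf 0x0)))))))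

def moves4_8 : Tree :=
  .node 64 (.node 32 (.node 16 (.node 8 (.node 4 (.node 2 (.node 1 (.leaf 0x0) (.leaf 0x0)) (.node 1 (.leaf 0x0) (.leaf 0x0))) (.node 2 (.node 1 (.leaf 0x0) (.leaf 0x0)) (.node 1 (.leaf 0x0) (.leaf 0x0)))) (.node 4 (.node 2 (.node 1 (.leaf 0x0) (.leaf 0x0)) (.node 1 (.leaf 0x0) (.leaf 0x0))) (.node 2 (.node 1 (.leaf 0x0) (.leaf 0x0)) (.node 1 (.leaf 0x0) (.leaf 0x0))))) (.node 8 (.node 4 (.node 2 (.node 1 (.leaf 0x0) (.leaf 0x0)) (.node 1 (.leaf 0x0) (.leaf 0x0))) (.node 2 (.node 1 (.leaf 0x0) (.leaf 0x0)) (.node 1 (.leaf 0x0) (.leaf 0x0)))) (.node 4 (.node 2 (.node 1 (.leaf 0x0) (.leaf 0x0)) (.node 1 (.leaf 0x0) (.leaf 0x0))) (.node 2 (.node 1 (.leaf 0x0) (.leaf 0x0)) (.node 1 (.leaf 0x0) (.leaf 0x0)))))) (.node 16 (.node 8 (.node 4 (.node 2 (.node 1 (.leaf 0x0) (.leaf 0x0)) (.node 1 (.leaf 0x0) (.leaf 0x0))) (.node 2 (.node 1 (.leaf 0x0)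 (.leaf 0x0)) (.node 1 (.leaf 0x0) (.leaf 0x0)))) (.node 4 (.node 2 (.node 1 (.leaf 0x0) (.leaf 0x0)) (.node 1 (.leaf 0x0) (.leaf 0x0))) (.node 2 (.node 1 (.leaf 0x0) (.leaf 0x0)) (.node 1 (.leaf 0x0) (.leaf 0x0))))) (.node 8 (.node 4 (.node 2 (.node 1 (.leaf 0x0) (.leaf 0x0)) (.node 1 (.leaf 0x0) (.leaf 0x0))) (.node 2 (.node 1 (.leaf 0x0) (.leaf 0x0)) (.node 1 (.leaf 0x0) (.leaf 0x0)))) (.node 4 (.node 2 (.node 1 (.leaf 0x0) (.leaf 0x0)) (.node 1 (.leaf 0x0) (.leaf 0x0))) (.node 2 (.node 1 (.leaf 0x0) (.leaf 0x0)) (.node 1 (.leaf 0x0) (.leaf 0x0))))))) (.node 32 (.node 16 (.node 8 (.node 4 (.node 2 (.node 1 (.leaf 0x0) (.leaf 0x0)) (.node 1 (.leaf 0x0) (.leaf 0x0))) (.node 2 (.node 1 (.leaf 0x0) (.leaf 0x0)) (.node 1 (.leaf 0x0) (.leaf 0x0)))) (.node 4 (.node 2 (.node 1 (.leaf 0x0) (.leaf 0x0)) (.node 1 (.leaf 0x0) (.leaf 0x0))) (.node 2 (.node 1 (.leaf 0x0) (.leaf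 0x0)) (.node 1 (.leaf 0x0) (.leaf 0x0))))) (.node 8 (.node 4 (.node 2 (.node 1 (.leaf 0x0) (.leaf 0x0)) (.node 1 (.leaf 0x0) (.leaf 0x0))) (.node 2 (.node 1 (.leaf 0x0) (.leaf 0x0)) (.node 1 (.leaf 0x0) (.leaf 0x0)))) (.node 4 (.node 2 (.node 1 (.leaf 0x0) (.leaf 0x0)) (.node 1 (.leaf 0x0) (.leaf 0x0))) (.node 2 (.node 1 (.leaf 0x0) (.leaf 0x0)) (.node 1 (.leaf 0x0) (.leaf 0x0)))))) (.node 16 (.node 8 (.node 4 (.node 2 (.node 1 (.leaf 0x0) (.leaf 0x0)) (.node 1 (.leaf 0x0) (.leaf 0x0))) (.node 2 (.node 1 (.leaf 0x0) (.leaf 0x0)) (.node 1 (.leaf 0x0) (.leaf 0x0)))) (.node 4 (.node 2 (.node 1 (.leaf 0x0) (.leaf 0x0)) (.node 1 (.leaf 0x0) (.leaf 0x0))) (.node 2 (.node 1 (.leaf 0x0) (.leaf 0x0)) (.node 1 (.leaf 0x0) (.leaf 0x0))))) (.node 8 (.node 4 (.node 2 (.node 1 (.leaf 0x0) (.leaf 0x0)) (.node 1 (.leaf 0x0) (.leaf 0xe))) (.node 2 (.node 1 (.leaf 0x0) (.leaf 0x0))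 (.node 1 (.leaf 0x0) (.leaf 0x0)))) (.node 4 (.node 2 (.node 1 (.leaf 0x0) (.leaf 0x0)) (.node 1 (.leaf 0x0) (.leaf 0x0))) (.node 2 (.node 1 (.leaf 0x0) (.leaf 0x0)) (.node 1 (.leaf 0x0) (.leaf 0x0)))))))

def moves4_9 : Tree :=
  .node 64 (.node 32 (.node 16 (.node 8 (.node 4 (.node 2 (.node 1 (.leaf 0x0) (.leaf 0x0)) (.node 1 (.leaf 0x0) (.leaf 0x0))) (.node 2 (.node 1 (.leaf 0x0) (.leaf 0x0)) (.node 1 (.leaf 0x0) (.leaf 0x0)))) (.node 4 (.node 2 (.node 1 (.leaf 0x0) (.leaf 0x0)) (.node 1 (.leaf 0x0) (.leaf 0x0))) (.node 2 (.node 1 (.leaf 0x0) (.leaf 0x0)) (.node 1 (.leaf 0x0) (.leaf 0x0))))) (.node 8 (.node 4 (.node 2 (.node 1 (.leaf 0x0) (.leaf 0x0)) (.node 1 (.leaf 0x0) (.leaf 0x0))) (.node 2 (.node 1 (.leaf 0x0) (.leaf 0x0)) (.node 1 (.leaf 0x0) (.leaf 0x0)))) (.node 4 (.node 2 (.node 1 (.leaf 0x0) (.leaf 0x0)) (.node 1 (.leaf 0x0) (.leaf 0x0))) (.node 2 (.node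 1 (.leaf 0x0) (.leaf 0x0)) (.node 1 (.leaf 0x0) (.leaf 0x0)))))) (.node 16 (.node 8 (.node 4 (.node 2 (.node 1 (.leaf 0x0) (.leaf 0x0)) (.node 1 (.leaf 0x0) (.leaf 0x0))) (.node 2 (.node 1 (.leaf 0x0) (.leaf 0x0)) (.node 1 (.leaf 0x0) (.leaf 0x0)))) (.node 4 (.node 2 (.node 1 (.leaf 0x0) (.leaf 0x0)) (.node 1 (.leaf 0x0) (.leaf 0xc))) (.node 2 (.node 1 (.leaf 0x0) (.leaf 0x0)) (.node 1 (.leaf 0x0) (.leaf 0x0))))) (.node 8 (.node 4 (.node 2 (.node 1 (.leaf 0x0) (.leaf 0x0)) (.node 1 (.leaf 0x0) (.leaf 0x0))) (.node 2 (.node 1 (.leaf 0x0) (.leaf 0x0)) (.node 1 (.leaf 0x0) (.leaf 0x0)))) (.node 4 (.node 2 (.node 1 (.leaf 0x0) (.leaf 0x0)) (.node 1 (.leaf 0x0) (.leaf 0x0))) (.node 2 (.node 1 (.leaf 0x0) (.leaf 0x0)) (.node 1 (.leaf 0x0) (.leaf 0x0))))))) (.node 32 (.node 16 (.node 8 (.node 4 (.node 2 (.node 1 (.leaf 0x0) (.leaf 0x0)) (.node 1 (.leaf 0x0) (.leaf 0x0)))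 (.node 2 (.node 1 (.leaf 0x0) (.leaf 0x0)) (.node 1 (.leaf 0x0) (.leaf 0x0)))) (.node 4 (.node 2 (.node 1 (.leaf 0x0) (.leaf 0x0)) (.node 1 (.leaf 0x0) (.leaf 0x0))) (.node 2 (.node 1 (.leaf 0x0) (.leaf 0x0)) (.node 1 (.leaf 0x0) (.leaf 0x0))))) (.node 8 (.node 4 (.node 2 (.node 1 (.leaf 0x0) (.leaf 0x0)) (.node 1 (.leaf 0x0) (.leaf 0x0))) (.node 2 (.node 1 (.leaf 0x0) (.leaf 0x0)) (.node 1 (.leaf 0x0) (.leaf 0x0)))) (.node 4 (.node 2 (.node 1 (.leaf 0x0) (.leaf 0x0)) (.node 1 (.leaf 0x0) (.leaf 0x0))) (.node 2 (.node 1 (.leaf 0x0) (.leaf 0x0)) (.node 1 (.leaf 0x0) (.leaf 0x0)))))) (.node 16 (.node 8 (.node 4 (.node 2 (.node 1 (.leaf 0x0) (.leaf 0x0)) (.node 1 (.leaf 0x0) (.leaf 0x0))) (.node 2 (.node 1 (.leaf 0x0) (.leaf 0x0)) (.node 1 (.leaf 0x0) (.leaf 0x0)))) (.node 4 (.node 2 (.node 1 (.leaf 0x0) (.leaf 0x0)) (.node 1 (.leaf 0x0) (.leaf 0x0))) (.node 2 (.node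 1 (.leaf 0x0) (.leaf 0x0)) (.node 1 (.leaf 0x0) (.leaf 0x0))))) (.node 8 (.node 4 (.node 2 (.node 1 (.leaf 0x0) (.leaf 0x0)) (.node 1 (.leaf 0x0) (.leaf 0x0))) (.node 2 (.node 1 (.leaf 0x0) (.leaf 0x0)) (.node 1 (.leaf 0x0) (.leaf 0x0)))) (.node 4 (.node 2 (.node 1 (.leaf 0x0) (.leaf 0x0)) (.node 1 (.leaf 0x0) (.leaf 0x0))) (.node 2 (.node 1 (.leaf 0x10) (.leaf 0x0)) (.node 1 (.leaf 0x0) (.leaf 0x0)))))))

def moves4_10 : Tree :=
  .node 64 (.node 32 (.node 16 (.node 8 (.node 4 (.node 2 (.node 1 (.leaf 0x0) (.leaf 0x0)) (.node 1 (.leaf 0x0) (.leaf 0x0))) (.node 2 (.node 1 (.leaf 0x0) (.leaf 0x0)) (.node 1 (.leaf 0x0) (.leaf 0x0)))) (.node 4 (.node 2 (.node 1 (.leaf 0x0) (.leaf 0x0)) (.node 1 (.leaf 0x0) (.leaf 0x0))) (.node 2 (.node 1 (.leaf 0x0) (.leaf 0x0)) (.node 1 (.leaf 0x0) (.leaf 0x0))))) (.node 8 (.node 4 (.node 2 (.node 1 (.leaf 0x0) (.leaf 0x0)) (.node 1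 (.leaf 0x0) (.leaf 0x0))) (.node 2 (.node 1 (.leaf 0x0) (.leaf 0x0)) (.node 1 (.leaf 0x0) (.leaf 0x0)))) (.node 4 (.node 2 (.node 1 (.leaf 0x0) (.leaf 0x0)) (.node 1 (.leaf 0x0) (.leaf 0x0))) (.node 2 (.node 1 (.leaf 0x0) (.leaf 0x0)) (.node 1 (.leaf 0x0) (.leaf 0x0)))))) (.node 16 (.node 8 (.node 4 (.node 2 (.node 1 (.leaf 0x0) (.leaf 0x0)) (.node 1 (.leaf 0x0) (.leaf 0x0))) (.node 2 (.node 1 (.leaf 0x0) (.leaf 0x0)) (.node 1 (.leaf 0x0) (.leaf 0x0)))) (.node 4 (.node 2 (.node 1 (.leaf 0x0) (.leaf 0x0)) (.node 1 (.leaf 0x0) (.leaf 0x0))) (.node 2 (.node 1 (.leaf 0x0) (.leaf 0x0)) (.node 1 (.leaf 0x0) (.leaf 0x0))))) (.node 8 (.node 4 (.node 2 (.node 1 (.leaf 0x0) (.leaf 0x0)) (.node 1 (.leaf 0x0) (.leaf 0x0))) (.node 2 (.node 1 (.leaf 0x0) (.leaf 0x0)) (.node 1 (.leaf 0x0) (.leaf 0x0)))) (.node 4 (.node 2 (.node 1 (.leaf 0x0) (.leaf 0x0)) (.node 1 (.leaf 0x0) (.leaf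 0x0))) (.node 2 (.node 1 (.leaf 0x0) (.leaf 0x0)) (.node 1 (.leaf 0x0) (.leaf 0x0))))))) (.node 32 (.node 16 (.node 8 (.node 4 (.node 2 (.node 1 (.leaf 0x0) (.leaf 0x0)) (.node 1 (.leaf 0x0) (.leaf 0x0))) (.node 2 (.node 1 (.leaf 0x0) (.leaf 0x0)) (.node 1 (.leaf 0x0) (.leaf 0x0)))) (.node 4 (.node 2 (.node 1 (.leaf 0x0) (.leaf 0x0)) (.node 1 (.leaf 0x0) (.leaf 0x0))) (.node 2 (.node 1 (.leaf 0x0) (.leaf 0x0)) (.node 1 (.leaf 0x0) (.leaf 0x0))))) (.node 8 (.node 4 (.node 2 (.node 1 (.leaf 0x0) (.leaf 0x0)) (.node 1 (.leaf 0x0) (.leaf 0x0))) (.node 2 (.node 1 (.leaf 0x0) (.leaf 0x0)) (.node 1 (.leaf 0x0) (.leaf 0x0)))) (.node 4 (.node 2 (.node 1 (.leaf 0x0) (.leaf 0x0)) (.node 1 (.leaf 0x0) (.leaf 0x0))) (.node 2 (.node 1 (.leaf 0x0) (.leaf 0x0)) (.node 1 (.leaf 0x0) (.leaf 0x0)))))) (.node 16 (.node 8 (.node 4 (.node 2 (.node 1 (.leaf 0x0) (.leaf 0x0)) (.node 1 (.leaf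 0x0) (.leaf 0x0))) (.node 2 (.node 1 (.leaf 0x0) (.leaf 0x0)) (.node 1 (.leaf 0x0) (.leaf 0x0)))) (.node 4 (.node 2 (.node 1 (.leaf 0x0) (.leaf 0x0)) (.node 1 (.leaf 0x0) (.leaf 0x0))) (.node 2 (.node 1 (.leaf 0x0) (.leaf 0x0)) (.node 1 (.leaf 0x0) (.leaf 0x0))))) (.node 8 (.node 4 (.node 2 (.node 1 (.leaf 0x0) (.leaf 0x0)) (.node 1 (.leaf 0x0) (.leaf 0x0))) (.node 2 (.node 1 (.leaf 0x0) (.leaf 0x0)) (.node 1 (.leaf 0x0) (.leaf 0x0)))) (.node 4 (.node 2 (.node 1 (.leaf 0x0) (.leaf 0x0)) (.node 1 (.leaf 0x0) (.leaf 0x0))) (.node 2 (.node 1 (.leaf 0x0) (.leaf 0x0)) (.node 1 (.leaf 0x0) (.leaf 0x0)))))))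

def moves4_11 : Tree :=
  .node 64 (.node 32 (.node 16 (.node 8 (.node 4 (.node 2 (.node 1 (.leaf 0x0) (.leaf 0x0)) (.node 1 (.leaf 0x0) (.leaf 0x0))) (.node 2 (.node 1 (.leaf 0x0) (.leaf 0x0)) (.node 1 (.leaf 0x0) (.leaf 0x0)))) (.node 4 (.node 2 (.node 1 (.leaf 0x0) (.leaf 0x0)) (.node 1 (.leaf 0x0) (.leaf 0x0))) (.node 2 (.node 1 (.leaf 0x0) (.leaf 0x0)) (.node 1 (.leaf 0x0) (.leaf 0x0))))) (.node 8 (.node 4 (.node 2 (.node 1 (.leaf 0x0) (.leaf 0x0)) (.node 1 (.leaf 0x0) (.leaf 0x0))) (.node 2 (.node 1 (.leaf 0x0) (.leaf 0x0)) (.node 1 (.leaf 0x0) (.leaf 0x0)))) (.node 4 (.node 2 (.node 1 (.leaf 0x0) (.leaf 0x0)) (.node 1 (.leaf 0x0) (.leaf 0x0))) (.node 2 (.node 1 (.leaf 0x0) (.leaf 0x0)) (.node 1 (.leaf 0x0) (.leaf 0x0)))))) (.node 16 (.node 8 (.node 4 (.node 2 (.node 1 (.leaf 0x0) (.leaf 0x0)) (.node 1 (.leaf 0x0) (.leaf 0x0))) (.node 2 (.node 1 (.leaf 0x0)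 (.leaf 0x0)) (.node 1 (.leaf 0x0) (.leaf 0x0)))) (.node 4 (.node 2 (.node 1 (.leaf 0x0) (.leaf 0x0)) (.node 1 (.leaf 0x0) (.leaf 0x0))) (.node 2 (.node 1 (.leaf 0x0) (.leaf 0x0)) (.node 1 (.leaf 0x0) (.leaf 0x0))))) (.node 8 (.node 4 (.node 2 (.node 1 (.leaf 0x0) (.leaf 0x0)) (.node 1 (.leaf 0x0) (.leaf 0x0))) (.node 2 (.node 1 (.leaf 0x0) (.leaf 0x0)) (.node 1 (.leaf 0x0) (.leaf 0x0)))) (.node 4 (.node 2 (.node 1 (.leaf 0x0) (.leaf 0x0)) (.node 1 (.leaf 0x0) (.leaf 0x0))) (.node 2 (.node 1 (.leaf 0x0) (.leaf 0x0)) (.node 1 (.leaf 0x0) (.leaf 0x0))))))) (.node 32 (.node 16 (.node 8 (.node 4 (.node 2 (.node 1 (.leaf 0x0) (.leaf 0x0)) (.node 1 (.leaf 0x0) (.leaf 0x0))) (.node 2 (.node 1 (.leaf 0x0) (.leaf 0x0)) (.node 1 (.leaf 0x0) (.leaf 0x0)))) (.node 4 (.node 2 (.node 1 (.leaf 0x0) (.leaf 0x0)) (.node 1 (.leaf 0x0) (.leaf 0x0))) (.node 2 (.node 1 (.leaf 0x0) (.leaf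 0x0)) (.node 1 (.leaf 0x0) (.leaf 0x0))))) (.node 8 (.node 4 (.node 2 (.node 1 (.leaf 0x0) (.leaf 0x0)) (.node 1 (.leaf 0x0) (.leaf 0x0))) (.node 2 (.node 1 (.leaf 0x0) (.leaf 0x0)) (.node 1 (.leaf 0x0) (.leaf 0x0)))) (.node 4 (.node 2 (.node 1 (.leaf 0x0) (.leaf 0x0)) (.node 1 (.leaf 0x0) (.leaf 0x0))) (.node 2 (.node 1 (.leaf 0x0) (.leaf 0xf)) (.node 1 (.leaf 0x0) (.leaf 0x0)))))) (.node 16 (.node 8 (.node 4 (.node 2 (.node 1 (.leaf 0x0) (.leaf 0x0)) (.node 1 (.leaf 0x0) (.leaf 0x0))) (.node 2 (.node 1 (.leaf 0x0) (.leaf 0x0)) (.node 1 (.leaf 0x0) (.leaf 0x0)))) (.node 4 (.node 2 (.node 1 (.leaf 0x0) (.leaf 0x0)) (.node 1 (.leaf 0x0) (.leaf 0x0))) (.node 2 (.node 1 (.leaf 0x0) (.leaf 0x0)) (.node 1 (.leaf 0x0) (.leaf 0x0))))) (.node 8 (.node 4 (.node 2 (.node 1 (.leaf 0x0) (.leaf 0x0)) (.node 1 (.leaf 0x0) (.leaf 0x0))) (.node 2 (.node 1 (.leaf 0x0) (.leaf 0x0))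 (.node 1 (.leaf 0x0) (.leaf 0x0)))) (.node 4 (.node 2 (.node 1 (.leaf 0x0) (.leaf 0x0)) (.node 1 (.leaf 0x0) (.leaf 0x0))) (.node 2 (.node 1 (.leaf 0x0) (.leaf 0x0)) (.node 1 (.leaf 0x0) (.leaf 0x0)))))))

def moves4_12 : Tree :=
  .node 64 (.node 32 (.node 16 (.node 8 (.node 4 (.node 2 (.node 1 (.leaf 0x0) (.leaf 0x0)) (.node 1 (.leaf 0x0) (.leaf 0x0))) (.node 2 (.node 1 (.leaf 0x0) (.leaf 0x0)) (.node 1 (.leaf 0x0) (.leaf 0x0)))) (.node 4 (.node 2 (.node 1 (.leaf 0x11) (.leaf 0x0)) (.node 1 (.leaf 0x0) (.leaf 0x0))) (.node 2 (.node 1 (.leaf 0x0) (.leaf 0x0)) (.node 1 (.leaf 0x0) (.leaf 0x0))))) (.node 8 (.node 4 (.node 2 (.node 1 (.leaf 0x0) (.leaf 0x0)) (.node 1 (.leaf 0x0) (.leaf 0x0))) (.node 2 (.node 1 (.leaf 0x0) (.leaf 0x0)) (.node 1 (.leaf 0x0) (.leaf 0x0)))) (.node 4 (.node 2 (.node 1 (.leaf 0x0) (.leaf 0x0)) (.node 1 (.leaf 0x0) (.leaf 0x0))) (.node 2 (.node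 1 (.leaf 0x0) (.leaf 0x0)) (.node 1 (.leaf 0x0) (.leaf 0x0)))))) (.node 16 (.node 8 (.node 4 (.node 2 (.node 1 (.leaf 0x0) (.leaf 0x0)) (.node 1 (.leaf 0x0) (.leaf 0x0))) (.node 2 (.node 1 (.leaf 0x0) (.leaf 0x0)) (.node 1 (.leaf 0x0) (.leaf 0x0)))) (.node 4 (.node 2 (.node 1 (.leaf 0x0) (.leaf 0x0)) (.node 1 (.leaf 0x0) (.leaf 0x0))) (.node 2 (.node 1 (.leaf 0x0) (.leaf 0x0)) (.node 1 (.leaf 0x0) (.leaf 0x0))))) (.node 8 (.node 4 (.node 2 (.node 1 (.leaf 0x0) (.leaf 0x0)) (.node 1 (.leaf 0x0) (.leaf 0x0))) (.node 2 (.node 1 (.leaf 0x0) (.leaf 0x0)) (.node 1 (.leaf 0x0) (.leaf 0x14)))) (.node 4 (.node 2 (.node 1 (.leaf 0x0) (.leaf 0x0)) (.node 1 (.leaf 0x0) (.leaf 0x0))) (.node 2 (.node 1 (.leaf 0x0) (.leaf 0x0)) (.node 1 (.leaf 0x0) (.leaf 0x0))))))) (.node 32 (.node 16 (.node 8 (.node 4 (.node 2 (.node 1 (.leaf 0x0) (.leaf 0x0)) (.node 1 (.leaf 0x0) (.leaf 0x0)))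 (.node 2 (.node 1 (.leaf 0x0) (.leaf 0x0)) (.node 1 (.leaf 0x0) (.leaf 0x0)))) (.node 4 (.node 2 (.node 1 (.leaf 0x0) (.leaf 0x0)) (.node 1 (.leaf 0x0) (.leaf 0x0))) (.node 2 (.node 1 (.leaf 0x0) (.leaf 0x0)) (.node 1 (.leaf 0x0) (.leaf 0x0))))) (.node 8 (.node 4 (.node 2 (.node 1 (.leaf 0x0) (.leaf 0x0)) (.node 1 (.leaf 0x0) (.leaf 0x0))) (.node 2 (.node 1 (.leaf 0x0) (.leaf 0x0)) (.node 1 (.leaf 0x0) (.leaf 0x0)))) (.node 4 (.node 2 (.node 1 (.leaf 0x0) (.leaf 0x0)) (.node 1 (.leaf 0x0) (.leaf 0x0))) (.node 2 (.node 1 (.leaf 0x0) (.leaf 0x0)) (.node 1 (.leaf 0x0) (.leaf 0x0)))))) (.node 16 (.node 8 (.node 4 (.node 2 (.node 1 (.leaf 0x0) (.leaf 0x0)) (.node 1 (.leaf 0x0) (.leaf 0x0))) (.node 2 (.node 1 (.leaf 0x0) (.leaf 0x0)) (.node 1 (.leaf 0x0) (.leaf 0x0)))) (.node 4 (.node 2 (.node 1 (.leaf 0x0) (.leaf 0x0)) (.node 1 (.leaf 0x0) (.leaf 0x0))) (.node 2 (.node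 1 (.leaf 0x0) (.leaf 0x0)) (.node 1 (.leaf 0x0) (.leaf 0x0))))) (.node 8 (.node 4 (.node 2 (.node 1 (.leaf 0x0) (.leaf 0x0)) (.node 1 (.leaf 0x0) (.leaf 0x0))) (.node 2 (.node 1 (.leaf 0x0) (.leaf 0x0)) (.node 1 (.leaf 0x0) (.leaf 0x0)))) (.node 4 (.node 2 (.node 1 (.leaf 0x0) (.leaf 0x0)) (.node 1 (.leaf 0x0) (.leaf 0x0))) (.node 2 (.node 1 (.leaf 0x0) (.leaf 0x0)) (.node 1 (.leaf 0x0) (.leaf 0x0)))))))

def moves4_13 : Tree :=
  .node 64 (.node 32 (.node 16 (.node 8 (.node 4 (.node 2 (.node 1 (.leaf 0x0) (.leaf 0x0)) (.node 1 (.leaf 0x0) (.leaf 0x0))) (.node 2 (.node 1 (.leaf 0x0) (.leaf 0x0)) (.node 1 (.leaf 0x0) (.leaf 0x0)))) (.node 4 (.node 2 (.node 1 (.leaf 0x0) (.leaf 0x0)) (.node 1 (.leaf 0x0) (.leaf 0x0))) (.node 2 (.node 1 (.leaf 0x0) (.leaf 0x0)) (.node 1 (.leaf 0x0) (.leaf 0x0))))) (.node 8 (.node 4 (.node 2 (.node 1 (.leaf 0x0) (.leaf 0x0)) (.node 1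 (.leaf 0x0) (.leaf 0x0))) (.node 2 (.node 1 (.leaf 0x0) (.leaf 0x0)) (.node 1 (.leaf 0x0) (.leaf 0x0)))) (.node 4 (.node 2 (.node 1 (.leaf 0x0) (.leaf 0x0)) (.node 1 (.leaf 0x0) (.leaf 0x0))) (.node 2 (.node 1 (.leaf 0x0) (.leaf 0x0)) (.node 1 (.leaf 0x0) (.leaf 0x0)))))) (.node 16 (.node 8 (.node 4 (.node 2 (.node 1 (.leaf 0x0) (.leaf 0x0)) (.node 1 (.leaf 0x0) (.leaf 0x0))) (.node 2 (.node 1 (.leaf 0x0) (.leaf 0x0)) (.node 1 (.leaf 0x0) (.leaf 0x0)))) (.node 4 (.node 2 (.node 1 (.leaf 0x0) (.leaf 0x0)) (.node 1 (.leaf 0x0) (.leaf 0x0))) (.node 2 (.node 1 (.leaf 0x0) (.leaf 0x0)) (.node 1 (.leaf 0x0) (.leaf 0x0))))) (.node 8 (.node 4 (.node 2 (.node 1 (.leaf 0x0) (.leaf 0x0)) (.node 1 (.leaf 0x0) (.leaf 0x0))) (.node 2 (.node 1 (.leaf 0x0) (.leaf 0x0)) (.node 1 (.leaf 0x0) (.leaf 0x0)))) (.node 4 (.node 2 (.node 1 (.leaf 0x0) (.leaf 0x0)) (.node 1 (.leaf 0x0) (.leaf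 0x0))) (.node 2 (.node 1 (.leaf 0x0) (.leaf 0x0)) (.node 1 (.leaf 0x0) (.leaf 0x0))))))) (.node 32 (.node 16 (.node 8 (.node 4 (.node 2 (.node 1 (.leaf 0x0) (.leaf 0x0)) (.node 1 (.leaf 0x0) (.leaf 0x0))) (.node 2 (.node 1 (.leaf 0x0) (.leaf 0x0)) (.node 1 (.leaf 0x0) (.leaf 0x0)))) (.node 4 (.node 2 (.node 1 (.leaf 0x0) (.leaf 0x0)) (.node 1 (.leaf 0x0) (.leaf 0x0))) (.node 2 (.node 1 (.leaf 0x0) (.leaf 0x0)) (.node 1 (.leaf 0x0) (.leaf 0x0))))) (.node 8 (.node 4 (.node 2 (.node 1 (.leaf 0x0) (.leaf 0x0)) (.node 1 (.leaf 0x0) (.leaf 0x0))) (.node 2 (.node 1 (.leaf 0x0) (.leaf 0x0)) (.node 1 (.leaf 0x0) (.leaf 0x0)))) (.node 4 (.node 2 (.node 1 (.leaf 0x0) (.leaf 0x0)) (.node 1 (.leaf 0x0) (.leaf 0x0))) (.node 2 (.node 1 (.leaf 0x0) (.leaf 0x0)) (.node 1 (.leaf 0x0) (.leaf 0x0)))))) (.node 16 (.node 8 (.node 4 (.node 2 (.node 1 (.leaf 0x0) (.leaf 0x0)) (.node 1 (.leaf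 0x0) (.leaf 0x0))) (.node 2 (.node 1 (.leaf 0x0) (.leaf 0x0)) (.node 1 (.leaf 0x0) (.leaf 0x0)))) (.node 4 (.node 2 (.node 1 (.leaf 0x0) (.leaf 0x0)) (.node 1 (.leaf 0x0) (.leaf 0x12))) (.node 2 (.node 1 (.leaf 0x0) (.leaf 0x0)) (.node 1 (.leaf 0x0) (.leaf 0x0))))) (.node 8 (.node 4 (.node 2 (.node 1 (.leaf 0x0) (.leaf 0x0)) (.node 1 (.leaf 0x0) (.leaf 0x0))) (.node 2 (.node 1 (.leaf 0x0) (.leaf 0x0)) (.node 1 (.leaf 0x0) (.leaf 0x0)))) (.node 4 (.node 2 (.node 1 (.leaf 0x0) (.leaf 0x0)) (.node 1 (.leaf 0x0) (.leaf 0x0))) (.node 2 (.node 1 (.leaf 0x0) (.leaf 0x0)) (.node 1 (.leaf 0x0) (.leaf 0x0)))))))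

def moves4_14 : Tree :=
  .node 64 (.node 32 (.node 16 (.node 8 (.node 4 (.node 2 (.node 1 (.leaf 0x0) (.leaf 0x0)) (.node 1 (.leaf 0x0) (.leaf 0x0))) (.node 2 (.node 1 (.leaf 0x0) (.leaf 0x0)) (.node 1 (.leaf 0x0) (.leaf 0x0)))) (.node 4 (.node 2 (.node 1 (.leaf 0x0) (.leaf 0x0)) (.node 1 (.leaf 0x0) (.leaf 0x0))) (.node 2 (.node 1 (.leaf 0x0) (.leaf 0x0)) (.node 1 (.leaf 0x0) (.leaf 0x0))))) (.node 8 (.node 4 (.node 2 (.node 1 (.leaf 0x0) (.leaf 0x0)) (.node 1 (.leaf 0x0) (.leaf 0x0))) (.node 2 (.node 1 (.leaf 0x0) (.leaf 0x0)) (.node 1 (.leaf 0x0) (.leaf 0x0)))) (.node 4 (.node 2 (.node 1 (.leaf 0x0) (.leaf 0x0)) (.node 1 (.leaf 0x0) (.leaf 0x0))) (.node 2 (.node 1 (.leaf 0x0) (.leaf 0x0)) (.node 1 (.leaf 0x0) (.leaf 0x0)))))) (.node 16 (.node 8 (.node 4 (.node 2 (.node 1 (.leaf 0x0) (.leaf 0x13)) (.node 1 (.leaf 0x0) (.leaf 0x0))) (.node 2 (.node 1 (.leaf 0x0)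 (.leaf 0x0)) (.node 1 (.leaf 0x0) (.leaf 0x0)))) (.node 4 (.node 2 (.node 1 (.leaf 0x0) (.leaf 0x0)) (.node 1 (.leaf 0x0) (.leaf 0x0))) (.node 2 (.node 1 (.leaf 0x0) (.leaf 0x0)) (.node 1 (.leaf 0x0) (.leaf 0x0))))) (.node 8 (.node 4 (.node 2 (.node 1 (.leaf 0x0) (.leaf 0x0)) (.node 1 (.leaf 0x0) (.leaf 0x0))) (.node 2 (.node 1 (.leaf 0x0) (.leaf 0x0)) (.node 1 (.leaf 0x0) (.leaf 0x0)))) (.node 4 (.node 2 (.node 1 (.leaf 0x0) (.leaf 0x0)) (.node 1 (.leaf 0x0) (.leaf 0x0))) (.node 2 (.node 1 (.leaf 0x0) (.leaf 0x0)) (.node 1 (.leaf 0x0) (.leaf 0x0))))))) (.node 32 (.node 16 (.node 8 (.node 4 (.node 2 (.node 1 (.leaf 0x0) (.leaf 0x0)) (.node 1 (.leaf 0x0) (.leaf 0x0))) (.node 2 (.node 1 (.leaf 0x0) (.leaf 0x0)) (.node 1 (.leaf 0x0) (.leaf 0x0)))) (.node 4 (.node 2 (.node 1 (.leaf 0x0) (.leaf 0x0)) (.node 1 (.leaf 0x0) (.leaf 0x0))) (.node 2 (.node 1 (.leaf 0x0) (.leaf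 0x0)) (.node 1 (.leaf 0x0) (.leaf 0x0))))) (.node 8 (.node 4 (.node 2 (.node 1 (.leaf 0x0) (.leaf 0x0)) (.node 1 (.leaf 0x0) (.leaf 0x0))) (.node 2 (.node 1 (.leaf 0x0) (.leaf 0x0)) (.node 1 (.leaf 0x0) (.leaf 0x0)))) (.node 4 (.node 2 (.node 1 (.leaf 0x0) (.leaf 0x0)) (.node 1 (.leaf 0x0) (.leaf 0x0))) (.node 2 (.node 1 (.leaf 0x0) (.leaf 0x0)) (.node 1 (.leaf 0x0) (.leaf 0x0)))))) (.node 16 (.node 8 (.node 4 (.node 2 (.node 1 (.leaf 0x0) (.leaf 0x0)) (.node 1 (.leaf 0x0) (.leaf 0x0))) (.node 2 (.node 1 (.leaf 0x0) (.leaf 0x0)) (.node 1 (.leaf 0x0) (.leaf 0x0)))) (.node 4 (.node 2 (.node 1 (.leaf 0x0) (.leaf 0x0)) (.node 1 (.leaf 0x0) (.leaf 0x0))) (.node 2 (.node 1 (.leaf 0x0) (.leaf 0x0)) (.node 1 (.leaf 0x0) (.leaf 0x0))))) (.node 8 (.node 4 (.node 2 (.node 1 (.leaf 0x0) (.leaf 0x0)) (.node 1 (.leaf 0x16) (.leaf 0x0))) (.node 2 (.node 1 (.leaf 0x0) (.leaf 0x0))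 (.node 1 (.leaf 0x0) (.leaf 0x0)))) (.node 4 (.node 2 (.node 1 (.leaf 0x0) (.leaf 0x0)) (.node 1 (.leaf 0x0) (.leaf 0x0))) (.node 2 (.node 1 (.leaf 0x0) (.leaf 0x0)) (.node 1 (.leaf 0x0) (.leaf 0x0)))))))

def moves4_15 : Tree :=
  .node 64 (.node 32 (.node 16 (.node 8 (.node 4 (.node 2 (.node 1 (.leaf 0x0) (.leaf 0x0)) (.node 1 (.leaf 0x0) (.leaf 0x0))) (.node 2 (.node 1 (.leaf 0x0) (.leaf 0x0)) (.node 1 (.leaf 0x0) (.leaf 0x0)))) (.node 4 (.node 2 (.node 1 (.leaf 0x0) (.leaf 0x0)) (.node 1 (.leaf 0x0) (.leaf 0x0))) (.node 2 (.node 1 (.leaf 0x0) (.leaf 0x17)) (.node 1 (.leaf 0x0) (.leaf 0x0))))) (.node 8 (.node 4 (.node 2 (.node 1 (.leaf 0x0) (.leaf 0x0)) (.node 1 (.leaf 0x0) (.leaf 0x0))) (.node 2 (.node 1 (.leaf 0x0) (.leaf 0x0)) (.node 1 (.leaf 0x0) (.leaf 0x0)))) (.node 4 (.node 2 (.node 1 (.leaf 0x0) (.leaf 0x0)) (.node 1 (.leaf 0x0) (.leaf 0x0))) (.node 2 (.node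 1 (.leaf 0x0) (.leaf 0x0)) (.node 1 (.leaf 0x0) (.leaf 0x0)))))) (.node 16 (.node 8 (.node 4 (.node 2 (.node 1 (.leaf 0x0) (.leaf 0x0)) (.node 1 (.leaf 0x0) (.leaf 0x0))) (.node 2 (.node 1 (.leaf 0x0) (.leaf 0x0)) (.node 1 (.leaf 0x0) (.leaf 0x0)))) (.node 4 (.node 2 (.node 1 (.leaf 0x0) (.leaf 0x0)) (.node 1 (.leaf 0x0) (.leaf 0x0))) (.node 2 (.node 1 (.leaf 0x0) (.leaf 0x0)) (.node 1 (.leaf 0x0) (.leaf 0x0))))) (.node 8 (.node 4 (.node 2 (.node 1 (.leaf 0x0) (.leaf 0x0)) (.node 1 (.leaf 0x0) (.leaf 0x0))) (.node 2 (.node 1 (.leaf 0x0) (.leaf 0x0)) (.node 1 (.leaf 0x0) (.leaf 0x0)))) (.node 4 (.node 2 (.node 1 (.leaf 0x0) (.leaf 0x0)) (.node 1 (.leaf 0x0) (.leaf 0x0))) (.node 2 (.node 1 (.leaf 0x0) (.leaf 0x0)) (.node 1 (.leaf 0x0) (.leaf 0x0))))))) (.node 32 (.node 16 (.node 8 (.node 4 (.node 2 (.node 1 (.leaf 0x0) (.leaf 0x0)) (.node 1 (.leaf 0x0) (.leaf 0x0)))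 (.node 2 (.node 1 (.leaf 0x0) (.leaf 0x0)) (.node 1 (.leaf 0x0) (.leaf 0x0)))) (.node 4 (.node 2 (.node 1 (.leaf 0x0) (.leaf 0x0)) (.node 1 (.leaf 0x0) (.leaf 0x0))) (.node 2 (.node 1 (.leaf 0x0) (.leaf 0x0)) (.node 1 (.leaf 0x0) (.leaf 0x0))))) (.node 8 (.node 4 (.node 2 (.node 1 (.leaf 0x0) (.leaf 0x0)) (.node 1 (.leaf 0x0) (.leaf 0x0))) (.node 2 (.node 1 (.leaf 0x0) (.leaf 0x0)) (.node 1 (.leaf 0x0) (.leaf 0x0)))) (.node 4 (.node 2 (.node 1 (.leaf 0x0) (.leaf 0x0)) (.node 1 (.leaf 0x0) (.leaf 0x0))) (.node 2 (.node 1 (.leaf 0x0) (.leaf 0x0)) (.node 1 (.leaf 0x0) (.leaf 0x0)))))) (.node 16 (.node 8 (.node 4 (.node 2 (.node 1 (.leaf 0x0) (.leaf 0x0)) (.node 1 (.leaf 0x0) (.leaf 0x0))) (.node 2 (.node 1 (.leaf 0x0) (.leaf 0x0)) (.node 1 (.leaf 0x0) (.leaf 0x0)))) (.node 4 (.node 2 (.node 1 (.leaf 0x0) (.leaf 0x0)) (.node 1 (.leaf 0x0) (.leaf 0x0))) (.node 2 (.node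 1 (.leaf 0x0) (.leaf 0x0)) (.node 1 (.leaf 0x0) (.leaf 0x0))))) (.node 8 (.node 4 (.node 2 (.node 1 (.leaf 0x0) (.leaf 0x0)) (.node 1 (.leaf 0x0) (.leaf 0x0))) (.node 2 (.node 1 (.leaf 0x0) (.leaf 0x0)) (.node 1 (.leaf 0x0) (.leaf 0x0)))) (.node 4 (.node 2 (.node 1 (.leaf 0x0) (.leaf 0x0)) (.node 1 (.leaf 0x0) (.leaf 0x0))) (.node 2 (.node 1 (.leaf 0x0) (.leaf 0x0)) (.node 1 (.leaf 0x0) (.leaf 0x0)))))))

def moves4_16 : Tree :=
  .node 64 (.node 32 (.node 16 (.node 8 (.node 4 (.node 2 (.node 1 (.leaf 0x0) (.leaf 0x0)) (.node 1 (.leaf 0x0) (.leaf 0x0))) (.node 2 (.node 1 (.leaf 0x0) (.leaf 0x0)) (.node 1 (.leaf 0x0) (.leaf 0x0)))) (.node 4 (.node 2 (.node 1 (.leaf 0x0) (.leaf 0x0)) (.node 1 (.leaf 0x0) (.leaf 0x0))) (.node 2 (.node 1 (.leaf 0x0) (.leaf 0x0)) (.node 1 (.leaf 0x0) (.leaf 0x0))))) (.node 8 (.node 4 (.node 2 (.node 1 (.leaf 0x0) (.leaf 0x0)) (.node 1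 (.leaf 0x0) (.leaf 0x0))) (.node 2 (.node 1 (.leaf 0x0) (.leaf 0x0)) (.node 1 (.leaf 0x0) (.leaf 0x0)))) (.node 4 (.node 2 (.node 1 (.leaf 0x0) (.leaf 0x0)) (.node 1 (.leaf 0x0) (.leaf 0x0))) (.node 2 (.node 1 (.leaf 0x0) (.leaf 0x0)) (.node 1 (.leaf 0x0) (.leaf 0x0)))))) (.node 16 (.node 8 (.node 4 (.node 2 (.node 1 (.leaf 0x0) (.leaf 0x0)) (.node 1 (.leaf 0x0) (.leaf 0x0))) (.node 2 (.node 1 (.leaf 0x0) (.leaf 0x0)) (.node 1 (.leaf 0x0) (.leaf 0x0)))) (.node 4 (.node 2 (.node 1 (.leaf 0x0) (.leaf 0x0)) (.node 1 (.leaf 0x0) (.leaf 0x0))) (.node 2 (.node 1 (.leaf 0x0) (.leaf 0x0)) (.node 1 (.leaf 0x0) (.leaf 0x0))))) (.node 8 (.node 4 (.node 2 (.node 1 (.leaf 0x0) (.leaf 0x0)) (.node 1 (.leaf 0x0) (.leaf 0x0))) (.node 2 (.node 1 (.leaf 0x0) (.leaf 0x0)) (.node 1 (.leaf 0x0) (.leaf 0x0)))) (.node 4 (.node 2 (.node 1 (.leaf 0x0) (.leaf 0x0)) (.node 1 (.leaf 0x0) (.leaf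 0x0))) (.node 2 (.node 1 (.leaf 0x0) (.leaf 0x0)) (.node 1 (.leaf 0x0) (.leaf 0x0))))))) (.node 32 (.node 16 (.node 8 (.node 4 (.node 2 (.node 1 (.leaf 0x0) (.leaf 0x0)) (.node 1 (.leaf 0x0) (.leaf 0x0))) (.node 2 (.node 1 (.leaf 0x0) (.leaf 0x0)) (.node 1 (.leaf 0x0) (.leaf 0x0)))) (.node 4 (.node 2 (.node 1 (.leaf 0x0) (.leaf 0x0)) (.node 1 (.leaf 0x0) (.leaf 0x0))) (.node 2 (.node 1 (.leaf 0x0) (.leaf 0x0)) (.node 1 (.leaf 0x0) (.leaf 0x0))))) (.node 8 (.node 4 (.node 2 (.node 1 (.leaf 0x0) (.leaf 0x0)) (.node 1 (.leaf 0x0) (.leaf 0x15))) (.node 2 (.node 1 (.leaf 0x0) (.leaf 0x0)) (.node 1 (.leaf 0x0) (.leaf 0x0)))) (.node 4 (.node 2 (.node 1 (.leaf 0x0) (.leaf 0x0)) (.node 1 (.leaf 0x0) (.leaf 0x0))) (.node 2 (.node 1 (.leaf 0x0) (.leaf 0x0)) (.node 1 (.leaf 0x0) (.leaf 0x0)))))) (.node 16 (.node 8 (.node 4 (.node 2 (.node 1 (.leaf 0x0) (.leaf 0x0)) (.node 1 (.leaf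 0x0) (.leaf 0x0))) (.node 2 (.node 1 (.leaf 0x0) (.leaf 0x0)) (.node 1 (.leaf 0x0) (.leaf 0x0)))) (.node 4 (.node 2 (.node 1 (.leaf 0x0) (.leaf 0x0)) (.node 1 (.leaf 0x0) (.leaf 0x0))) (.node 2 (.node 1 (.leaf 0x0) (.leaf 0x0)) (.node 1 (.leaf 0x0) (.leaf 0x0))))) (.node 8 (.node 4 (.node 2 (.node 1 (.leaf 0x0) (.leaf 0x0)) (.node 1 (.leaf 0x0) (.leaf 0x0))) (.node 2 (.node 1 (.leaf 0x0) (.leaf 0x0)) (.node 1 (.leaf 0x0) (.leaf 0x0)))) (.node 4 (.node 2 (.node 1 (.leaf 0x0) (.leaf 0x0)) (.node 1 (.leaf 0x0) (.leaf 0x0))) (.node 2 (.node 1 (.leaf 0x0) (.leaf 0x0)) (.node 1 (.leaf 0x0) (.leaf 0x0)))))))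

def moves4_17 : Tree :=
  .node 14 (.node 7 (.node 3 (.node 1 (.leaf 0x0) (.node 1 (.leaf 0x0) (.leaf 0x0))) (.node 2 (.node 1 (.leaf 0x0) (.leaf 0x0)) (.node 1 (.leaf 0x0) (.leaf 0x0)))) (.node 3 (.node 1 (.leaf 0x0) (.node 1 (.leaf 0x0) (.leaf 0x0))) (.node 2 (.node 1 (.leaf 0x0) (.leaf 0x0)) (.node 1 (.leaf 0x0) (.leaf 0x0))))) (.node 7 (.node 3 (.node 1 (.leaf 0x0) (.node 1 (.leaf 0x0) (.leaf 0x0))) (.node 2 (.node 1 (.leaf 0x0) (.leaf 0x0)) (.node 1 (.leaf 0x0) (.leaf 0x0)))) (.node 4 (.node 2 (.node 1 (.leaf 0x0) (.leaf 0x0)) (.node 1 (.leaf 0x0) (.leaf 0x0))) (.node 2 (.node 1 (.leaf 0x0) (.leaf 0x0)) (.node 1 (.leaf 0x0) (.leaf 0x0)))))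

def moves4 : Tree :=
  .node 1152 (.node 512 (.node 256 (.node 128 (moves4_0) (moves4_1)) (.node 128 (moves4_2) (moves4_3))) (.node 256 (.node 128 (moves4_4) (moves4_5)) (.node 128 (moves4_6) (.node 128 (moves4_7) (moves4_8))))) (.node 512 (.node 256 (.node 128 (moves4_9) (moves4_10)) (.node 128 (moves4_11) (moves4_12))) (.node 256 (.node 128 (moves4_13) (moves4_14)) (.node 128 (moves4_15) (.node 128 (moves4_16) (moves4_17)))))

def reps4 : List (List (List ℕ)) := [[[4], [0], [1], [2], [5]], [[4], [0], [1], [2], [5, 1, 6, 2, 1, 0, 1, 2, 6, 1, 5]], [[4], [0], [1], [2], [6, 1, 5, 2, 1, 0, 1, 2, 5, 1, 6]], [[4], [0], [1], [2], [1, 6, 0, 1, 0, 1, 0, 1, 0, 1, 0, 6, 1]], [[4], [0], [1], [2], [3, 2, 1, 5, 3, 2, 1, 0, 1, 2, 3, 5, 1, 2, 3]], [[4], [0], [1], [2], [3, 2, 1, 6, 3, 2, 1, 0, 1, 2, 3, 6, 1, 2, 3]], [[4], [0], [1], [5, 1, 6, 2, 1, 0, 1, 2, 6, 1, 5], [1, 2, 0, 1,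 0, 1, 0, 1, 0, 1, 0, 2, 1]], [[4], [0], [1], [5, 1, 6, 2, 1, 0, 1, 2, 6, 1, 5], [1, 6, 0, 1, 0, 1, 0, 1, 0, 1, 0, 6, 1]], [[4], [0], [1], [5, 1, 6, 2, 1, 0, 1, 2, 6, 1, 5], [3, 2, 1, 6, 3, 2, 1, 0, 1, 2, 3, 6, 1, 2, 3]], [[4], [0], [1], [6, 1, 5, 2, 1, 0, 1, 2, 5, 1, 6], [5]], [[4], [0], [1], [6, 1, 5, 2, 1, 0, 1, 2, 5, 1, 6], [1, 2, 0, 1, 0, 1, 0, 1, 0, 1, 0, 2, 1]], [[4], [0], [1], [6, 1, 5, 2, 1, 0, 1, 2, 5, 1, 6], [3, 2, 1, 5, 3, 2, 1, 0, 1, 2, 3, 5, 1, 2, 3]], [[4], [0], [1], [1, 5, 0, 1, 0, 1, 0, 1, 0, 1, 0, 5, 1], [6, 1, 5, 2, 1, 0, 1, 2, 5, 1, 6]], [[4], [0], [1], [1, 5, 0, 1, 0, 1, 0, 1, 0, 1, 0, 5, 1], [1, 2, 0, 1, 0, 1, 0, 1, 0, 1, 0, 2, 1]], [[4], [0], [1], [1, 5, 0, 1, 0, 1, 0, 1, 0, 1, 0, 5, 1], [3, 2, 1, 5, 3, 2, 1, 0, 1, 2, 3, 5, 1, 2, 3]], [[4], [0], [1], [1, 6, 0, 1, 0, 1, 0, 1, 0, 1, 0, 6, 1], [5, 1, 6, 2, 1, 0, 1, 2, 6, 1, 5]], [[4], [0], [1],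 [1, 6, 0, 1, 0, 1, 0, 1, 0, 1, 0, 6, 1], [1, 2, 0, 1, 0, 1, 0, 1, 0, 1, 0, 2, 1]], [[4], [0], [1], [1, 6, 0, 1, 0, 1, 0, 1, 0, 1, 0, 6, 1], [3, 2, 1, 6, 3, 2, 1, 0, 1, 2, 3, 6, 1, 2, 3]], [[4], [0], [1], [3, 2, 1, 5, 3, 2, 1, 0, 1, 2, 3, 5, 1, 2, 3], [5]], [[4], [0], [1], [3, 2, 1, 5, 3, 2, 1, 0, 1, 2, 3, 5, 1, 2, 3], [6, 1, 5, 2, 1, 0, 1, 2, 5, 1, 6]], [[4], [0], [1], [3, 2, 1, 5, 3, 2, 1, 0, 1, 2, 3, 5, 1, 2, 3], [1, 2, 0, 1, 0, 1, 0, 1, 0, 1, 0, 2, 1]], [[4], [0], [1], [3, 2, 1, 6, 3, 2, 1, 0, 1, 2, 3, 6, 1, 2, 3], [5, 1, 6, 2, 1, 0, 1, 2, 6, 1, 5]], [[4], [0], [1], [3, 2, 1, 6, 3, 2, 1, 0, 1, 2, 3, 6, 1, 2, 3], [1, 2, 0, 1, 0, 1, 0, 1, 0, 1, 0, 2, 1]], [[4], [0], [1], [3, 2, 1, 6, 3, 2, 1, 0, 1, 2, 3, 6, 1, 2, 3], [1, 6, 0, 1, 0, 1, 0, 1, 0, 1, 0, 6, 1]]]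

def level4 : AutCert.Level := ⟨candsA, [[4, 1, 4, 1], [4, 2, 4, 2, 4, 2], [4, 3, 4, 3], [4, 3, 2, 1, 4, 3, 2, 1, 4, 3, 2, 1, 4, 3, 2, 1, 4, 3, 2, 1]], [[4, 1], [4, 2], [4, 3]], reps4, moves4⟩

def moves5_0 : Tree :=
  .node 64 (.node 32 (.node 16 (.node 8 (.node 4 (.node 2 (.node 1 (.leaf 0x0) (.leaf 0x0)) (.node 1 (.leaf 0x0) (.leaf 0x0))) (.node 2 (.node 1 (.leaf 0x0) (.leaf 0x0)) (.node 1 (.leaf 0x0) (.leaf 0x0)))) (.node 4 (.node 2 (.node 1 (.leaf 0x0) (.leaf 0x0)) (.node 1 (.leaf 0x0) (.leaf 0x0))) (.node 2 (.node 1 (.leaf 0x0) (.leaf 0x0)) (.node 1 (.leaf 0x0) (.leaf 0x0))))) (.node 8 (.node 4 (.node 2 (.node 1 (.leaf 0x0) (.leaf 0x0)) (.node 1 (.leaf 0x0) (.leaf 0x0))) (.node 2 (.node 1 (.leaf 0x0) (.leaf 0x0)) (.node 1 (.leaf 0x0) (.leaf 0x0)))) (.node 4 (.node 2 (.node 1 (.leaf 0x0) (.leaf 0x0)) (.node 1 (.leaf 0x0) (.leaf 0x0))) (.node 2 (.node 1 (.leaf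 0x0) (.leaf 0x0)) (.node 1 (.leaf 0x0) (.leaf 0x0)))))) (.node 16 (.node 8 (.node 4 (.node 2 (.node 1 (.leaf 0x0) (.leaf 0x0)) (.node 1 (.leaf 0x0) (.leaf 0x0))) (.node 2 (.node 1 (.leaf 0x0) (.leaf 0x0)) (.node 1 (.leaf 0x0) (.leaf 0x0)))) (.node 4 (.node 2 (.node 1 (.leaf 0x0) (.leaf 0x0)) (.node 1 (.leaf 0x0) (.leaf 0x0))) (.node 2 (.node 1 (.leaf 0x0) (.leaf 0x0)) (.node 1 (.leaf 0x0) (.leaf 0x0))))) (.node 8 (.node 4 (.node 2 (.node 1 (.leaf 0x0) (.leaf 0x0)) (.node 1 (.leaf 0x0) (.leaf 0x0))) (.node 2 (.node 1 (.leaf 0x0) (.leaf 0x0)) (.node 1 (.leaf 0x0) (.leaf 0x0)))) (.node 4 (.node 2 (.node 1 (.leaf 0x0) (.leaf 0x0)) (.node 1 (.leaf 0x0) (.leaf 0x0))) (.node 2 (.node 1 (.leaf 0x0) (.leaf 0x0)) (.node 1 (.leaf 0x0) (.leaf 0x0))))))) (.node 32 (.node 16 (.node 8 (.node 4 (.node 2 (.node 1 (.leaf 0x0) (.leaf 0x0)) (.node 1 (.leaf 0x0) (.leaf 0x0))) (.node 2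 (.node 1 (.leaf 0x0) (.leaf 0x0)) (.node 1 (.leaf 0x0) (.leaf 0x0)))) (.node 4 (.node 2 (.node 1 (.leaf 0x0) (.leaf 0x0)) (.node 1 (.leaf 0x0) (.leaf 0x0))) (.node 2 (.node 1 (.leaf 0x0) (.leaf 0x0)) (.node 1 (.leaf 0x0) (.leaf 0x0))))) (.node 8 (.node 4 (.node 2 (.node 1 (.leaf 0x0) (.leaf 0x0)) (.node 1 (.leaf 0x0) (.leaf 0x0))) (.node 2 (.node 1 (.leaf 0x0) (.leaf 0x0)) (.node 1 (.leaf 0x0) (.leaf 0x0)))) (.node 4 (.node 2 (.node 1 (.leaf 0x0) (.leaf 0x0)) (.node 1 (.leaf 0x0) (.leaf 0x0))) (.node 2 (.node 1 (.leaf 0x0) (.leaf 0x0)) (.node 1 (.leaf 0x0) (.leaf 0x0)))))) (.node 16 (.node 8 (.node 4 (.node 2 (.node 1 (.leaf 0x0) (.leaf 0x0)) (.node 1 (.leaf 0x0) (.leaf 0x0))) (.node 2 (.node 1 (.leaf 0x0) (.leaf 0x0)) (.node 1 (.leaf 0x0) (.leaf 0x0)))) (.node 4 (.node 2 (.node 1 (.leaf 0x0) (.leaf 0x0)) (.node 1 (.leaf 0x0) (.leaf 0x0))) (.node 2 (.node 1 (.leaf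 0x0) (.leaf 0x0)) (.node 1 (.leaf 0x0) (.leaf 0x0))))) (.node 8 (.node 4 (.node 2 (.node 1 (.leaf 0x0) (.leaf 0x0)) (.node 1 (.leaf 0x0) (.leaf 0x0))) (.node 2 (.node 1 (.leaf 0x0) (.leaf 0x0)) (.node 1 (.leaf 0x0) (.leaf 0x0)))) (.node 4 (.node 2 (.node 1 (.leaf 0x0) (.leaf 0x0)) (.node 1 (.leaf 0x0) (.leaf 0x0))) (.node 2 (.node 1 (.leaf 0x0) (.leaf 0x0)) (.node 1 (.leaf 0x0) (.leaf 0x0)))))))

def moves5_1 : Tree :=
  .node 64 (.node 32 (.node 16 (.node 8 (.node 4 (.node 2 (.node 1 (.leaf 0x0) (.leaf 0x0)) (.node 1 (.leaf 0x0) (.leaf 0x0))) (.node 2 (.node 1 (.leaf 0x0) (.leaf 0x0)) (.node 1 (.leaf 0x0) (.leaf 0x0)))) (.node 4 (.node 2 (.node 1 (.leaf 0x0) (.leaf 0x0)) (.node 1 (.leaf 0x0) (.leaf 0x0))) (.node 2 (.node 1 (.leaf 0x0) (.leaf 0x0)) (.node 1 (.leaf 0x0) (.leaf 0x0))))) (.node 8 (.node 4 (.node 2 (.node 1 (.leaf 0x0) (.leaf 0x0)) (.node 1 (.leaf 0x0)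 (.leaf 0x0))) (.node 2 (.node 1 (.leaf 0x0) (.leaf 0x0)) (.node 1 (.leaf 0x0) (.leaf 0x0)))) (.node 4 (.node 2 (.node 1 (.leaf 0x0) (.leaf 0x0)) (.node 1 (.leaf 0x0) (.leaf 0x0))) (.node 2 (.node 1 (.leaf 0x0) (.leaf 0x0)) (.node 1 (.leaf 0x0) (.leaf 0x0)))))) (.node 16 (.node 8 (.node 4 (.node 2 (.node 1 (.leaf 0x0) (.leaf 0x0)) (.node 1 (.leaf 0x0) (.leaf 0x0))) (.node 2 (.node 1 (.leaf 0x0) (.leaf 0x0)) (.node 1 (.leaf 0x0) (.leaf 0x0)))) (.node 4 (.node 2 (.node 1 (.leaf 0x0) (.leaf 0x0)) (.node 1 (.leaf 0x0) (.leaf 0x0))) (.node 2 (.node 1 (.leaf 0x0) (.leaf 0x0)) (.node 1 (.leaf 0x0) (.leaf 0x0))))) (.node 8 (.node 4 (.node 2 (.node 1 (.leaf 0x0) (.leaf 0x0)) (.node 1 (.leaf 0x0) (.leaf 0x0))) (.node 2 (.node 1 (.leaf 0x0) (.leaf 0x0)) (.node 1 (.leaf 0x0) (.leaf 0x0)))) (.node 4 (.node 2 (.node 1 (.leaf 0x0) (.leaf 0x0)) (.node 1 (.leaf 0x0) (.leaf 0x0))) (.node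 2 (.node 1 (.leaf 0x0) (.leaf 0x0)) (.node 1 (.leaf 0x0) (.leaf 0x0))))))) (.node 32 (.node 16 (.node 8 (.node 4 (.node 2 (.node 1 (.leaf 0x0) (.leaf 0x0)) (.node 1 (.leaf 0x0) (.leaf 0x0))) (.node 2 (.node 1 (.leaf 0x0) (.leaf 0x0)) (.node 1 (.leaf 0x0) (.leaf 0x0)))) (.node 4 (.node 2 (.node 1 (.leaf 0x0) (.leaf 0x0)) (.node 1 (.leaf 0x0) (.leaf 0x0))) (.node 2 (.node 1 (.leaf 0x0) (.leaf 0x0)) (.node 1 (.leaf 0x0) (.leaf 0x0))))) (.node 8 (.node 4 (.node 2 (.node 1 (.leaf 0x0) (.leaf 0x0)) (.node 1 (.leaf 0x0) (.leaf 0x0))) (.node 2 (.node 1 (.leaf 0x0) (.leaf 0x0)) (.node 1 (.leaf 0x0) (.leaf 0x0)))) (.node 4 (.node 2 (.node 1 (.leaf 0x0) (.leaf 0x0)) (.node 1 (.leaf 0x0) (.leaf 0x0))) (.node 2 (.node 1 (.leaf 0x0) (.leaf 0x0)) (.node 1 (.leaf 0x0) (.leaf 0x0)))))) (.node 16 (.node 8 (.node 4 (.node 2 (.node 1 (.leaf 0x0) (.leaf 0x0)) (.node 1 (.leaf 0x0) (.leaf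 0x0))) (.node 2 (.node 1 (.leaf 0x0) (.leaf 0x0)) (.node 1 (.leaf 0x0) (.leaf 0x0)))) (.node 4 (.node 2 (.node 1 (.leaf 0x0) (.leaf 0x0)) (.node 1 (.leaf 0x0) (.leaf 0x0))) (.node 2 (.node 1 (.leaf 0x0) (.leaf 0x0)) (.node 1 (.leaf 0x0) (.leaf 0x0))))) (.node 8 (.node 4 (.node 2 (.node 1 (.leaf 0x0) (.leaf 0x0)) (.node 1 (.leaf 0x0) (.leaf 0x0))) (.node 2 (.node 1 (.leaf 0x0) (.leaf 0x0)) (.node 1 (.leaf 0x0) (.leaf 0x0)))) (.node 4 (.node 2 (.node 1 (.leaf 0x0) (.leaf 0x0)) (.node 1 (.leaf 0x0) (.leaf 0x0))) (.node 2 (.node 1 (.leaf 0x0) (.leaf 0x0)) (.node 1 (.leaf 0x0) (.leaf 0x0)))))))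

def moves5_2 : Tree :=
  .node 64 (.node 32 (.node 16 (.node 8 (.node 4 (.node 2 (.node 1 (.leaf 0x0) (.leaf 0x0)) (.node 1 (.leaf 0x0) (.leaf 0x0))) (.node 2 (.node 1 (.leaf 0x0) (.leaf 0x0)) (.node 1 (.leaf 0x0) (.leaf 0x0)))) (.node 4 (.node 2 (.node 1 (.leaf 0x0) (.leaf 0x0)) (.node 1 (.leaf 0x0) (.leaf 0x0))) (.node 2 (.node 1 (.leaf 0x0) (.leaf 0x0)) (.node 1 (.leaf 0x0) (.leaf 0x0))))) (.node 8 (.node 4 (.node 2 (.node 1 (.leaf 0x0) (.leaf 0x0)) (.node 1 (.leaf 0x0) (.leaf 0x0))) (.node 2 (.node 1 (.leaf 0x0) (.leaf 0x0)) (.node 1 (.leaf 0x0) (.leaf 0x0)))) (.node 4 (.node 2 (.node 1 (.leaf 0x0) (.leaf 0x0)) (.node 1 (.leaf 0x0) (.leaf 0x0))) (.node 2 (.node 1 (.leaf 0x0) (.leaf 0x0)) (.node 1 (.leaf 0x0) (.leaf 0x0)))))) (.node 16 (.node 8 (.node 4 (.node 2 (.node 1 (.leaf 0x0) (.leaf 0x0)) (.node 1 (.leaf 0x0) (.leaf 0x0))) (.node 2 (.node 1 (.leaf 0x0)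 (.leaf 0x0)) (.node 1 (.leaf 0x0) (.leaf 0x0)))) (.node 4 (.node 2 (.node 1 (.leaf 0x0) (.leaf 0x0)) (.node 1 (.leaf 0x0) (.leaf 0x0))) (.node 2 (.node 1 (.leaf 0x0) (.leaf 0x0)) (.node 1 (.leaf 0x0) (.leaf 0x0))))) (.node 8 (.node 4 (.node 2 (.node 1 (.leaf 0x0) (.leaf 0x0)) (.node 1 (.leaf 0x0) (.leaf 0x0))) (.node 2 (.node 1 (.leaf 0x0) (.leaf 0x0)) (.node 1 (.leaf 0x0) (.leaf 0x0)))) (.node 4 (.node 2 (.node 1 (.leaf 0x0) (.leaf 0x0)) (.node 1 (.leaf 0x0) (.leaf 0x0))) (.node 2 (.node 1 (.leaf 0x0) (.leaf 0x0)) (.node 1 (.leaf 0x0) (.leaf 0x0))))))) (.node 32 (.node 16 (.node 8 (.node 4 (.node 2 (.node 1 (.leaf 0x0) (.leaf 0x0)) (.node 1 (.leaf 0x0) (.leaf 0x0))) (.node 2 (.node 1 (.leaf 0x0) (.leaf 0x0)) (.node 1 (.leaf 0x0) (.leaf 0x0)))) (.node 4 (.node 2 (.node 1 (.leaf 0x0) (.leaf 0x0)) (.node 1 (.leaf 0x0) (.leaf 0x0))) (.node 2 (.node 1 (.leaf 0x0) (.leaf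 0x0)) (.node 1 (.leaf 0x0) (.leaf 0x0))))) (.node 8 (.node 4 (.node 2 (.node 1 (.leaf 0x0) (.leaf 0x0)) (.node 1 (.leaf 0x0) (.leaf 0x0))) (.node 2 (.node 1 (.leaf 0x0) (.leaf 0x0)) (.node 1 (.leaf 0x0) (.leaf 0x0)))) (.node 4 (.node 2 (.node 1 (.leaf 0x0) (.leaf 0x0)) (.node 1 (.leaf 0x0) (.leaf 0x0))) (.node 2 (.node 1 (.leaf 0x0) (.leaf 0x0)) (.node 1 (.leaf 0x0) (.leaf 0x0)))))) (.node 16 (.node 8 (.node 4 (.node 2 (.node 1 (.leaf 0x0) (.leaf 0x0)) (.node 1 (.leaf 0x0) (.leaf 0x0))) (.node 2 (.node 1 (.leaf 0x0) (.leaf 0x0)) (.node 1 (.leaf 0x0) (.leaf 0x0)))) (.node 4 (.node 2 (.node 1 (.leaf 0x0) (.leaf 0x0)) (.node 1 (.leaf 0x0) (.leaf 0x0))) (.node 2 (.node 1 (.leaf 0x0) (.leaf 0x0)) (.node 1 (.leaf 0x0) (.leaf 0x0))))) (.node 8 (.node 4 (.node 2 (.node 1 (.leaf 0x0) (.leaf 0x0)) (.node 1 (.leaf 0x0) (.leaf 0x0))) (.node 2 (.node 1 (.leaf 0x0) (.leaf 0x0))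 (.node 1 (.leaf 0x0) (.leaf 0x0)))) (.node 4 (.node 2 (.node 1 (.leaf 0x0) (.leaf 0x0)) (.node 1 (.leaf 0x0) (.leaf 0x0))) (.node 2 (.node 1 (.leaf 0x0) (.leaf 0x0)) (.node 1 (.leaf 0x0) (.leaf 0x0)))))))

def moves5_3 : Tree :=
  .node 64 (.node 32 (.node 16 (.node 8 (.node 4 (.node 2 (.node 1 (.leaf 0x0) (.leaf 0x0)) (.node 1 (.leaf 0x0) (.leaf 0x0))) (.node 2 (.node 1 (.leaf 0x0) (.leaf 0x0)) (.node 1 (.leaf 0x0) (.leaf 0x0)))) (.node 4 (.node 2 (.node 1 (.leaf 0x0) (.leaf 0x0)) (.node 1 (.leaf 0x0) (.leaf 0x0))) (.node 2 (.node 1 (.leaf 0x0) (.leaf 0x0)) (.node 1 (.leaf 0x0) (.leaf 0x0))))) (.node 8 (.node 4 (.node 2 (.node 1 (.leaf 0x0) (.leaf 0x0)) (.node 1 (.leaf 0x0) (.leaf 0x0))) (.node 2 (.node 1 (.leaf 0x0) (.leaf 0x0)) (.node 1 (.leaf 0x0) (.leaf 0x0)))) (.node 4 (.node 2 (.node 1 (.leaf 0x0) (.leaf 0x0)) (.node 1 (.leaf 0x0) (.leaf 0x0))) (.node 2 (.node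 1 (.leaf 0x0) (.leaf 0x0)) (.node 1 (.leaf 0x0) (.leaf 0x0)))))) (.node 16 (.node 8 (.node 4 (.node 2 (.node 1 (.leaf 0x0) (.leaf 0x0)) (.node 1 (.leaf 0x0) (.leaf 0x0))) (.node 2 (.node 1 (.leaf 0x0) (.leaf 0x0)) (.node 1 (.leaf 0x0) (.leaf 0x0)))) (.node 4 (.node 2 (.node 1 (.leaf 0x0) (.leaf 0x0)) (.node 1 (.leaf 0x0) (.leaf 0x0))) (.node 2 (.node 1 (.leaf 0x0) (.leaf 0x0)) (.node 1 (.leaf 0x0) (.leaf 0x0))))) (.node 8 (.node 4 (.node 2 (.node 1 (.leaf 0x0) (.leaf 0x0)) (.node 1 (.leaf 0x0) (.leaf 0x0))) (.node 2 (.node 1 (.leaf 0x0) (.leaf 0x0)) (.node 1 (.leaf 0x0) (.leaf 0x0)))) (.node 4 (.node 2 (.node 1 (.leaf 0x0) (.leaf 0x0)) (.node 1 (.leaf 0x0) (.leaf 0x0))) (.node 2 (.node 1 (.leaf 0x0) (.leaf 0x0)) (.node 1 (.leaf 0x0) (.leaf 0x0))))))) (.node 32 (.node 16 (.node 8 (.node 4 (.node 2 (.node 1 (.leaf 0x0) (.leaf 0x0)) (.node 1 (.leaf 0x0) (.leaf 0x0)))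 (.node 2 (.node 1 (.leaf 0x0) (.leaf 0x0)) (.node 1 (.leaf 0x0) (.leaf 0x0)))) (.node 4 (.node 2 (.node 1 (.leaf 0x0) (.leaf 0x0)) (.node 1 (.leaf 0x0) (.leaf 0x0))) (.node 2 (.node 1 (.leaf 0x0) (.leaf 0x0)) (.node 1 (.leaf 0x0) (.leaf 0x0))))) (.node 8 (.node 4 (.node 2 (.node 1 (.leaf 0x0) (.leaf 0x0)) (.node 1 (.leaf 0x0) (.leaf 0x0))) (.node 2 (.node 1 (.leaf 0x0) (.leaf 0x0)) (.node 1 (.leaf 0x0) (.leaf 0x0)))) (.node 4 (.node 2 (.node 1 (.leaf 0x0) (.leaf 0x0)) (.node 1 (.leaf 0x0) (.leaf 0x0))) (.node 2 (.node 1 (.leaf 0x0) (.leaf 0x0)) (.node 1 (.leaf 0x0) (.leaf 0x0)))))) (.node 16 (.node 8 (.node 4 (.node 2 (.node 1 (.leaf 0x0) (.leaf 0x0)) (.node 1 (.leaf 0x0) (.leaf 0x0))) (.node 2 (.node 1 (.leaf 0x0) (.leaf 0x0)) (.node 1 (.leaf 0x0) (.leaf 0x0)))) (.node 4 (.node 2 (.node 1 (.leaf 0x0) (.leaf 0x0)) (.node 1 (.leaf 0x0) (.leaf 0x0))) (.node 2 (.node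 1 (.leaf 0x0) (.leaf 0x0)) (.node 1 (.leaf 0x0) (.leaf 0x0))))) (.node 8 (.node 4 (.node 2 (.node 1 (.leaf 0x0) (.leaf 0x0)) (.node 1 (.leaf 0x0) (.leaf 0x0))) (.node 2 (.node 1 (.leaf 0x0) (.leaf 0x0)) (.node 1 (.leaf 0x0) (.leaf 0x0)))) (.node 4 (.node 2 (.node 1 (.leaf 0x0) (.leaf 0x0)) (.node 1 (.leaf 0x0) (.leaf 0x0))) (.node 2 (.node 1 (.leaf 0x0) (.leaf 0x1)) (.node 1 (.leaf 0x0) (.leaf 0x0)))))))

def moves5_4 : Tree :=
  .node 64 (.node 32 (.node 16 (.node 8 (.node 4 (.node 2 (.node 1 (.leaf 0x0) (.leaf 0x0)) (.node 1 (.leaf 0x0) (.leaf 0x0))) (.node 2 (.node 1 (.leaf 0x0) (.leaf 0x0)) (.node 1 (.leaf 0x0) (.leaf 0x0)))) (.node 4 (.node 2 (.node 1 (.leaf 0x0) (.leaf 0x0)) (.node 1 (.leaf 0x0) (.leaf 0x0))) (.node 2 (.node 1 (.leaf 0x0) (.leaf 0x0)) (.node 1 (.leaf 0x0) (.leaf 0x0))))) (.node 8 (.node 4 (.node 2 (.node 1 (.leaf 0x0) (.leaf 0x0)) (.node 1 (.leaf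 0x0) (.leaf 0x0))) (.node 2 (.node 1 (.leaf 0x0) (.leaf 0x0)) (.node 1 (.leaf 0x0) (.leaf 0x0)))) (.node 4 (.node 2 (.node 1 (.leaf 0x0) (.leaf 0x0)) (.node 1 (.leaf 0x0) (.leaf 0x0))) (.node 2 (.node 1 (.leaf 0x0) (.leaf 0x0)) (.node 1 (.leaf 0x0) (.leaf 0x0)))))) (.node 16 (.node 8 (.node 4 (.node 2 (.node 1 (.leaf 0x0) (.leaf 0x0)) (.node 1 (.leaf 0x0) (.leaf 0x0))) (.node 2 (.node 1 (.leaf 0x0) (.leaf 0x0)) (.node 1 (.leaf 0x0) (.leaf 0x0)))) (.node 4 (.node 2 (.node 1 (.leaf 0x0) (.leaf 0x0)) (.node 1 (.leaf 0x0) (.leaf 0x0))) (.node 2 (.node 1 (.leaf 0x0) (.leaf 0x0)) (.node 1 (.leaf 0x0) (.leaf 0x0))))) (.node 8 (.node 4 (.node 2 (.node 1 (.leaf 0x0) (.leaf 0x0)) (.node 1 (.leaf 0x0) (.leaf 0x0))) (.node 2 (.node 1 (.leaf 0x0) (.leaf 0x0)) (.node 1 (.leaf 0x0) (.leaf 0x0)))) (.node 4 (.node 2 (.node 1 (.leaf 0x0) (.leaf 0x0)) (.node 1 (.leaf 0x0) (.leaf 0x0)))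 (.node 2 (.node 1 (.leaf 0x0) (.leaf 0x0)) (.node 1 (.leaf 0x0) (.leaf 0x0))))))) (.node 32 (.node 16 (.node 8 (.node 4 (.node 2 (.node 1 (.leaf 0x0) (.leaf 0x0)) (.node 1 (.leaf 0x0) (.leaf 0x0))) (.node 2 (.node 1 (.leaf 0x0) (.leaf 0x0)) (.node 1 (.leaf 0x0) (.leaf 0x0)))) (.node 4 (.node 2 (.node 1 (.leaf 0x0) (.leaf 0x0)) (.node 1 (.leaf 0x0) (.leaf 0x0))) (.node 2 (.node 1 (.leaf 0x0) (.leaf 0x0)) (.node 1 (.leaf 0x0) (.leaf 0x0))))) (.node 8 (.node 4 (.node 2 (.node 1 (.leaf 0x0) (.leaf 0x0)) (.node 1 (.leaf 0x0) (.leaf 0x0))) (.node 2 (.node 1 (.leaf 0x0) (.leaf 0x0)) (.node 1 (.leaf 0x0) (.leaf 0x0)))) (.node 4 (.node 2 (.node 1 (.leaf 0x0) (.leaf 0x0)) (.node 1 (.leaf 0x0) (.leaf 0x0))) (.node 2 (.node 1 (.leaf 0x0) (.leaf 0x0)) (.node 1 (.leaf 0x0) (.leaf 0x0)))))) (.node 16 (.node 8 (.node 4 (.node 2 (.node 1 (.leaf 0x0) (.leaf 0x0)) (.node 1 (.leaf 0x0)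 (.leaf 0x0))) (.node 2 (.node 1 (.leaf 0x0) (.leaf 0x0)) (.node 1 (.leaf 0x0) (.leaf 0x0)))) (.node 4 (.node 2 (.node 1 (.leaf 0x0) (.leaf 0x0)) (.node 1 (.leaf 0x0) (.leaf 0x0))) (.node 2 (.node 1 (.leaf 0x0) (.leaf 0x0)) (.node 1 (.leaf 0x0) (.leaf 0x0))))) (.node 8 (.node 4 (.node 2 (.node 1 (.leaf 0x0) (.leaf 0x0)) (.node 1 (.leaf 0x0) (.leaf 0x0))) (.node 2 (.node 1 (.leaf 0x0) (.leaf 0x0)) (.node 1 (.leaf 0x0) (.leaf 0x0)))) (.node 4 (.node 2 (.node 1 (.leaf 0x0) (.leaf 0x0)) (.node 1 (.leaf 0x0) (.leaf 0x0))) (.node 2 (.node 1 (.leaf 0x0) (.leaf 0x0)) (.node 1 (.leaf 0x0) (.leaf 0x0)))))))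

def moves5_5 : Tree :=
  .node 64 (.node 32 (.node 16 (.node 8 (.node 4 (.node 2 (.node 1 (.leaf 0x0) (.leaf 0x0)) (.node 1 (.leaf 0x0) (.leaf 0x0))) (.node 2 (.node 1 (.leaf 0x0) (.leaf 0x0)) (.node 1 (.leaf 0x0) (.leaf 0x0)))) (.node 4 (.node 2 (.node 1 (.leaf 0x0) (.leaf 0x0)) (.node 1 (.leaf 0x0) (.leaf 0x0))) (.node 2 (.node 1 (.leaf 0x0) (.leaf 0x0)) (.node 1 (.leaf 0x0) (.leaf 0x0))))) (.node 8 (.node 4 (.node 2 (.node 1 (.leaf 0x0) (.leaf 0x0)) (.node 1 (.leaf 0x0) (.leaf 0x0))) (.node 2 (.node 1 (.leaf 0x0) (.leaf 0x0)) (.node 1 (.leaf 0x0) (.leaf 0x0)))) (.node 4 (.node 2 (.node 1 (.leaf 0x0) (.leaf 0x0)) (.node 1 (.leaf 0x0) (.leaf 0x0))) (.node 2 (.node 1 (.leaf 0x0) (.leaf 0x0)) (.node 1 (.leaf 0x0) (.leaf 0x0)))))) (.node 16 (.node 8 (.node 4 (.node 2 (.node 1 (.leaf 0x0) (.leaf 0x0)) (.node 1 (.leaf 0x0) (.leaf 0x0))) (.node 2 (.node 1 (.leaf 0x0)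 (.leaf 0x0)) (.node 1 (.leaf 0x0) (.leaf 0x0)))) (.node 4 (.node 2 (.node 1 (.leaf 0x0) (.leaf 0x0)) (.node 1 (.leaf 0x0) (.leaf 0x0))) (.node 2 (.node 1 (.leaf 0x0) (.leaf 0x0)) (.node 1 (.leaf 0x0) (.leaf 0x0))))) (.node 8 (.node 4 (.node 2 (.node 1 (.leaf 0x0) (.leaf 0x0)) (.node 1 (.leaf 0x0) (.leaf 0x0))) (.node 2 (.node 1 (.leaf 0x0) (.leaf 0x0)) (.node 1 (.leaf 0x0) (.leaf 0x0)))) (.node 4 (.node 2 (.node 1 (.leaf 0x0) (.leaf 0x0)) (.node 1 (.leaf 0x0) (.leaf 0x0))) (.node 2 (.node 1 (.leaf 0x0) (.leaf 0x0)) (.node 1 (.leaf 0x0) (.leaf 0x0))))))) (.node 32 (.node 16 (.node 8 (.node 4 (.node 2 (.node 1 (.leaf 0x0) (.leaf 0x0)) (.node 1 (.leaf 0x0) (.leaf 0x0))) (.node 2 (.node 1 (.leaf 0x0) (.leaf 0x0)) (.node 1 (.leaf 0x0) (.leaf 0x0)))) (.node 4 (.node 2 (.node 1 (.leaf 0x0) (.leaf 0x0)) (.node 1 (.leaf 0x0) (.leaf 0x0))) (.node 2 (.node 1 (.leaf 0x0) (.leaf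 0x0)) (.node 1 (.leaf 0x0) (.leaf 0x0))))) (.node 8 (.node 4 (.node 2 (.node 1 (.leaf 0x0) (.leaf 0x0)) (.node 1 (.leaf 0x0) (.leaf 0x0))) (.node 2 (.node 1 (.leaf 0x0) (.leaf 0x0)) (.node 1 (.leaf 0x0) (.leaf 0x0)))) (.node 4 (.node 2 (.node 1 (.leaf 0x0) (.leaf 0x0)) (.node 1 (.leaf 0x0) (.leaf 0x0))) (.node 2 (.node 1 (.leaf 0x0) (.leaf 0x0)) (.node 1 (.leaf 0x0) (.leaf 0x0)))))) (.node 16 (.node 8 (.node 4 (.node 2 (.node 1 (.leaf 0x0) (.leaf 0x0)) (.node 1 (.leaf 0x0) (.leaf 0x0))) (.node 2 (.node 1 (.leaf 0x0) (.leaf 0x0)) (.node 1 (.leaf 0x0) (.leaf 0x0)))) (.node 4 (.node 2 (.node 1 (.leaf 0x0) (.leaf 0x0)) (.node 1 (.leaf 0x0) (.leaf 0x0))) (.node 2 (.node 1 (.leaf 0x0) (.leaf 0x0)) (.node 1 (.leaf 0x0) (.leaf 0x0))))) (.node 8 (.node 4 (.node 2 (.node 1 (.leaf 0x0) (.leaf 0x0)) (.node 1 (.leaf 0x0) (.leaf 0x0))) (.node 2 (.node 1 (.leaf 0x0) (.leaf 0x0))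 (.node 1 (.leaf 0x0) (.leaf 0x0)))) (.node 4 (.node 2 (.node 1 (.leaf 0x0) (.leaf 0x0)) (.node 1 (.leaf 0x0) (.leaf 0x0))) (.node 2 (.node 1 (.leaf 0x0) (.leaf 0x0)) (.node 1 (.leaf 0x0) (.leaf 0x0)))))))

def moves5_6 : Tree :=
  .node 64 (.node 32 (.node 16 (.node 8 (.node 4 (.node 2 (.node 1 (.leaf 0x0) (.leaf 0x0)) (.node 1 (.leaf 0x0) (.leaf 0x0))) (.node 2 (.node 1 (.leaf 0x0) (.leaf 0x0)) (.node 1 (.leaf 0x0) (.leaf 0x0)))) (.node 4 (.node 2 (.node 1 (.leaf 0x0) (.leaf 0x0)) (.node 1 (.leaf 0x0) (.leaf 0x0))) (.node 2 (.node 1 (.leaf 0x0) (.leaf 0x0)) (.node 1 (.leaf 0x0) (.leaf 0x0))))) (.node 8 (.node 4 (.node 2 (.node 1 (.leaf 0x0) (.leaf 0x0)) (.node 1 (.leaf 0x0) (.leaf 0x0))) (.node 2 (.node 1 (.leaf 0x0) (.leaf 0x0)) (.node 1 (.leaf 0x0) (.leaf 0x0)))) (.node 4 (.node 2 (.node 1 (.leaf 0x0) (.leaf 0x0)) (.node 1 (.leaf 0x0) (.leaf 0x0))) (.node 2 (.node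 1 (.leaf 0x0) (.leaf 0x0)) (.node 1 (.leaf 0x0) (.leaf 0x0)))))) (.node 16 (.node 8 (.node 4 (.node 2 (.node 1 (.leaf 0x0) (.leaf 0x0)) (.node 1 (.leaf 0x0) (.leaf 0x0))) (.node 2 (.node 1 (.leaf 0x0) (.leaf 0x0)) (.node 1 (.leaf 0x0) (.leaf 0x0)))) (.node 4 (.node 2 (.node 1 (.leaf 0x0) (.leaf 0x0)) (.node 1 (.leaf 0x0) (.leaf 0x0))) (.node 2 (.node 1 (.leaf 0x0) (.leaf 0x0)) (.node 1 (.leaf 0x0) (.leaf 0x0))))) (.node 8 (.node 4 (.node 2 (.node 1 (.leaf 0x0) (.leaf 0x0)) (.node 1 (.leaf 0x0) (.leaf 0x0))) (.node 2 (.node 1 (.leaf 0x0) (.leaf 0x0)) (.node 1 (.leaf 0x0) (.leaf 0x0)))) (.node 4 (.node 2 (.node 1 (.leaf 0x0) (.leaf 0x0)) (.node 1 (.leaf 0x0) (.leaf 0x0))) (.node 2 (.node 1 (.leaf 0x0) (.leaf 0x0)) (.node 1 (.leaf 0x0) (.leaf 0x0))))))) (.node 32 (.node 16 (.node 8 (.node 4 (.node 2 (.node 1 (.leaf 0x0) (.leaf 0x0)) (.node 1 (.leaf 0x0) (.leaf 0x0)))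 (.node 2 (.node 1 (.leaf 0x0) (.leaf 0x0)) (.node 1 (.leaf 0x0) (.leaf 0x0)))) (.node 4 (.node 2 (.node 1 (.leaf 0x0) (.leaf 0x0)) (.node 1 (.leaf 0x0) (.leaf 0x0))) (.node 2 (.node 1 (.leaf 0x0) (.leaf 0x0)) (.node 1 (.leaf 0x0) (.leaf 0x0))))) (.node 8 (.node 4 (.node 2 (.node 1 (.leaf 0x0) (.leaf 0x0)) (.node 1 (.leaf 0x0) (.leaf 0x0))) (.node 2 (.node 1 (.leaf 0x0) (.leaf 0x0)) (.node 1 (.leaf 0x0) (.leaf 0x0)))) (.node 4 (.node 2 (.node 1 (.leaf 0x0) (.leaf 0x0)) (.node 1 (.leaf 0x0) (.leaf 0x0))) (.node 2 (.node 1 (.leaf 0x0) (.leaf 0x0)) (.node 1 (.leaf 0x0) (.leaf 0x0)))))) (.node 16 (.node 8 (.node 4 (.node 2 (.node 1 (.leaf 0x0) (.leaf 0x0)) (.node 1 (.leaf 0x0) (.leaf 0x0))) (.node 2 (.node 1 (.leaf 0x0) (.leaf 0x0)) (.node 1 (.leaf 0x0) (.leaf 0x0)))) (.node 4 (.node 2 (.node 1 (.leaf 0x0) (.leaf 0x0)) (.node 1 (.leaf 0x0) (.leaf 0x0))) (.node 2 (.node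 1 (.leaf 0x0) (.leaf 0x0)) (.node 1 (.leaf 0x0) (.leaf 0x0))))) (.node 8 (.node 4 (.node 2 (.node 1 (.leaf 0x0) (.leaf 0x0)) (.node 1 (.leaf 0x0) (.leaf 0x0))) (.node 2 (.node 1 (.leaf 0x0) (.leaf 0x0)) (.node 1 (.leaf 0x0) (.leaf 0x0)))) (.node 4 (.node 2 (.node 1 (.leaf 0x0) (.leaf 0x0)) (.node 1 (.leaf 0x0) (.leaf 0x0))) (.node 2 (.node 1 (.leaf 0x0) (.leaf 0x0)) (.node 1 (.leaf 0x0) (.leaf 0x0)))))))

def moves5_7 : Tree :=
  .node 64 (.node 32 (.node 16 (.node 8 (.node 4 (.node 2 (.node 1 (.leaf 0x0) (.leaf 0x0)) (.node 1 (.leaf 0x0) (.leaf 0x0))) (.node 2 (.node 1 (.leaf 0x0) (.leaf 0x0)) (.node 1 (.leaf 0x0) (.leaf 0x0)))) (.node 4 (.node 2 (.node 1 (.leaf 0x0) (.leaf 0x0)) (.node 1 (.leaf 0x0) (.leaf 0x0))) (.node 2 (.node 1 (.leaf 0x0) (.leaf 0x0)) (.node 1 (.leaf 0x0) (.leaf 0x0))))) (.node 8 (.node 4 (.node 2 (.node 1 (.leaf 0x0) (.leaf 0x0)) (.node 1 (.leaf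 0x2) (.leaf 0x0))) (.node 2 (.node 1 (.leaf 0x0) (.leaf 0x0)) (.node 1 (.leaf 0x0) (.leaf 0x0)))) (.node 4 (.node 2 (.node 1 (.leaf 0x0) (.leaf 0x0)) (.node 1 (.leaf 0x0) (.leaf 0x0))) (.node 2 (.node 1 (.leaf 0x0) (.leaf 0x0)) (.node 1 (.leaf 0x0) (.leaf 0x0)))))) (.node 16 (.node 8 (.node 4 (.node 2 (.node 1 (.leaf 0x0) (.leaf 0x0)) (.node 1 (.leaf 0x0) (.leaf 0x0))) (.node 2 (.node 1 (.leaf 0x0) (.leaf 0x0)) (.node 1 (.leaf 0x0) (.leaf 0x0)))) (.node 4 (.node 2 (.node 1 (.leaf 0x0) (.leaf 0x0)) (.node 1 (.leaf 0x0) (.leaf 0x0))) (.node 2 (.node 1 (.leaf 0x0) (.leaf 0x0)) (.node 1 (.leaf 0x0) (.leaf 0x0))))) (.node 8 (.node 4 (.node 2 (.node 1 (.leaf 0x0) (.leaf 0x0)) (.node 1 (.leaf 0x0) (.leaf 0x0))) (.node 2 (.node 1 (.leaf 0x0) (.leaf 0x0)) (.node 1 (.leaf 0x0) (.leaf 0x0)))) (.node 4 (.node 2 (.node 1 (.leaf 0x0) (.leaf 0x0)) (.node 1 (.leaf 0x0) (.leaf 0x0)))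 (.node 2 (.node 1 (.leaf 0x0) (.leaf 0x0)) (.node 1 (.leaf 0x0) (.leaf 0x0))))))) (.node 32 (.node 16 (.node 8 (.node 4 (.node 2 (.node 1 (.leaf 0x0) (.leaf 0x0)) (.node 1 (.leaf 0x0) (.leaf 0x0))) (.node 2 (.node 1 (.leaf 0x0) (.leaf 0x0)) (.node 1 (.leaf 0x0) (.leaf 0x0)))) (.node 4 (.node 2 (.node 1 (.leaf 0x0) (.leaf 0x0)) (.node 1 (.leaf 0x0) (.leaf 0x0))) (.node 2 (.node 1 (.leaf 0x0) (.leaf 0x0)) (.node 1 (.leaf 0x0) (.leaf 0x0))))) (.node 8 (.node 4 (.node 2 (.node 1 (.leaf 0x0) (.leaf 0x0)) (.node 1 (.leaf 0x0) (.leaf 0x0))) (.node 2 (.node 1 (.leaf 0x0) (.leaf 0x0)) (.node 1 (.leaf 0x0) (.leaf 0x0)))) (.node 4 (.node 2 (.node 1 (.leaf 0x0) (.leaf 0x0)) (.node 1 (.leaf 0x0) (.leaf 0x0))) (.node 2 (.node 1 (.leaf 0x0) (.leaf 0x0)) (.node 1 (.leaf 0x0) (.leaf 0x0)))))) (.node 16 (.node 8 (.node 4 (.node 2 (.node 1 (.leaf 0x0) (.leaf 0x0)) (.node 1 (.leaf 0x0)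 (.leaf 0x0))) (.node 2 (.node 1 (.leaf 0x0) (.leaf 0x0)) (.node 1 (.leaf 0x0) (.leaf 0x0)))) (.node 4 (.node 2 (.node 1 (.leaf 0x0) (.leaf 0x0)) (.node 1 (.leaf 0x0) (.leaf 0x0))) (.node 2 (.node 1 (.leaf 0x0) (.leaf 0x0)) (.node 1 (.leaf 0x0) (.leaf 0x0))))) (.node 8 (.node 4 (.node 2 (.node 1 (.leaf 0x0) (.leaf 0x0)) (.node 1 (.leaf 0x0) (.leaf 0x0))) (.node 2 (.node 1 (.leaf 0x0) (.leaf 0x0)) (.node 1 (.leaf 0x0) (.leaf 0x0)))) (.node 4 (.node 2 (.node 1 (.leaf 0x0) (.leaf 0x0)) (.node 1 (.leaf 0x0) (.leaf 0x0))) (.node 2 (.node 1 (.leaf 0x0) (.leaf 0x0)) (.node 1 (.leaf 0x0) (.leaf 0x0)))))))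

def moves5_8 : Tree :=
  .node 64 (.node 32 (.node 16 (.node 8 (.node 4 (.node 2 (.node 1 (.leaf 0x0) (.leaf 0x0)) (.node 1 (.leaf 0x0) (.leaf 0x0))) (.node 2 (.node 1 (.leaf 0x0) (.leaf 0x0)) (.node 1 (.leaf 0x0) (.leaf 0x0)))) (.node 4 (.node 2 (.node 1 (.leaf 0x0) (.leaf 0x0)) (.node 1 (.leaf 0x0) (.leaf 0x0))) (.node 2 (.node 1 (.leaf 0x0) (.leaf 0x0)) (.node 1 (.leaf 0x0) (.leaf 0x0))))) (.node 8 (.node 4 (.node 2 (.node 1 (.leaf 0x0) (.leaf 0x0)) (.node 1 (.leaf 0x0) (.leaf 0x0))) (.node 2 (.node 1 (.leaf 0x0) (.leaf 0x0)) (.node 1 (.leaf 0x0) (.leaf 0x0)))) (.node 4 (.node 2 (.node 1 (.leaf 0x0) (.leaf 0x0)) (.node 1 (.leaf 0x0) (.leaf 0x0))) (.node 2 (.node 1 (.leaf 0x0) (.leaf 0x0)) (.node 1 (.leaf 0x0) (.leaf 0x0)))))) (.node 16 (.node 8 (.node 4 (.node 2 (.node 1 (.leaf 0x0) (.leaf 0x0)) (.node 1 (.leaf 0x0) (.leaf 0x0))) (.node 2 (.node 1 (.leaf 0x0)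 (.leaf 0x0)) (.node 1 (.leaf 0x0) (.leaf 0x0)))) (.node 4 (.node 2 (.node 1 (.leaf 0x0) (.leaf 0x0)) (.node 1 (.leaf 0x0) (.leaf 0x0))) (.node 2 (.node 1 (.leaf 0x0) (.leaf 0x0)) (.node 1 (.leaf 0x0) (.leaf 0x0))))) (.node 8 (.node 4 (.node 2 (.node 1 (.leaf 0x0) (.leaf 0x0)) (.node 1 (.leaf 0x0) (.leaf 0x0))) (.node 2 (.node 1 (.leaf 0x0) (.leaf 0x0)) (.node 1 (.leaf 0x0) (.leaf 0x0)))) (.node 4 (.node 2 (.node 1 (.leaf 0x0) (.leaf 0x0)) (.node 1 (.leaf 0x0) (.leaf 0x0))) (.node 2 (.node 1 (.leaf 0x0) (.leaf 0x0)) (.node 1 (.leaf 0x0) (.leaf 0x0))))))) (.node 32 (.node 16 (.node 8 (.node 4 (.node 2 (.node 1 (.leaf 0x0) (.leaf 0x0)) (.node 1 (.leaf 0x0) (.leaf 0x0))) (.node 2 (.node 1 (.leaf 0x0) (.leaf 0x0)) (.node 1 (.leaf 0x0) (.leaf 0x0)))) (.node 4 (.node 2 (.node 1 (.leaf 0x0) (.leaf 0x0)) (.node 1 (.leaf 0x0) (.leaf 0x0))) (.node 2 (.node 1 (.leaf 0x0) (.leaf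 0x0)) (.node 1 (.leaf 0x0) (.leaf 0x0))))) (.node 8 (.node 4 (.node 2 (.node 1 (.leaf 0x0) (.leaf 0x0)) (.node 1 (.leaf 0x0) (.leaf 0x0))) (.node 2 (.node 1 (.leaf 0x0) (.leaf 0x0)) (.node 1 (.leaf 0x0) (.leaf 0x0)))) (.node 4 (.node 2 (.node 1 (.leaf 0x0) (.leaf 0x0)) (.node 1 (.leaf 0x0) (.leaf 0x0))) (.node 2 (.node 1 (.leaf 0x0) (.leaf 0x0)) (.node 1 (.leaf 0x0) (.leaf 0x0)))))) (.node 16 (.node 8 (.node 4 (.node 2 (.node 1 (.leaf 0x0) (.leaf 0x0)) (.node 1 (.leaf 0x0) (.leaf 0x0))) (.node 2 (.node 1 (.leaf 0x0) (.leaf 0x0)) (.node 1 (.leaf 0x0) (.leaf 0x0)))) (.node 4 (.node 2 (.node 1 (.leaf 0x0) (.leaf 0x0)) (.node 1 (.leaf 0x0) (.leaf 0x0))) (.node 2 (.node 1 (.leaf 0x0) (.leaf 0x0)) (.node 1 (.leaf 0x0) (.leaf 0x0))))) (.node 8 (.node 4 (.node 2 (.node 1 (.leaf 0x0) (.leaf 0x0)) (.node 1 (.leaf 0x0) (.leaf 0x0))) (.node 2 (.node 1 (.leaf 0x0) (.leaf 0x3))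 (.node 1 (.leaf 0x0) (.leaf 0x0)))) (.node 4 (.node 2 (.node 1 (.leaf 0x0) (.leaf 0x0)) (.node 1 (.leaf 0x0) (.leaf 0x0))) (.node 2 (.node 1 (.leaf 0x0) (.leaf 0x0)) (.node 1 (.leaf 0x0) (.leaf 0x0)))))))

def moves5_9 : Tree :=
  .node 64 (.node 32 (.node 16 (.node 8 (.node 4 (.node 2 (.node 1 (.leaf 0x0) (.leaf 0x0)) (.node 1 (.leaf 0x0) (.leaf 0x0))) (.node 2 (.node 1 (.leaf 0x0) (.leaf 0x0)) (.node 1 (.leaf 0x0) (.leaf 0x0)))) (.node 4 (.node 2 (.node 1 (.leaf 0x0) (.leaf 0x0)) (.node 1 (.leaf 0x0) (.leaf 0x0))) (.node 2 (.node 1 (.leaf 0x0) (.leaf 0x0)) (.node 1 (.leaf 0x0) (.leaf 0x0))))) (.node 8 (.node 4 (.node 2 (.node 1 (.leaf 0x0) (.leaf 0x0)) (.node 1 (.leaf 0x0) (.leaf 0x0))) (.node 2 (.node 1 (.leaf 0x0) (.leaf 0x0)) (.node 1 (.leaf 0x0) (.leaf 0x0)))) (.node 4 (.node 2 (.node 1 (.leaf 0x0) (.leaf 0x0)) (.node 1 (.leaf 0x0) (.leaf 0x0))) (.node 2 (.node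 1 (.leaf 0x0) (.leaf 0x0)) (.node 1 (.leaf 0x0) (.leaf 0x0)))))) (.node 16 (.node 8 (.node 4 (.node 2 (.node 1 (.leaf 0x0) (.leaf 0x0)) (.node 1 (.leaf 0x0) (.leaf 0x0))) (.node 2 (.node 1 (.leaf 0x0) (.leaf 0x0)) (.node 1 (.leaf 0x0) (.leaf 0x0)))) (.node 4 (.node 2 (.node 1 (.leaf 0x0) (.leaf 0x0)) (.node 1 (.leaf 0x0) (.leaf 0x0))) (.node 2 (.node 1 (.leaf 0x0) (.leaf 0x0)) (.node 1 (.leaf 0x0) (.leaf 0x0))))) (.node 8 (.node 4 (.node 2 (.node 1 (.leaf 0x0) (.leaf 0x0)) (.node 1 (.leaf 0x0) (.leaf 0x0))) (.node 2 (.node 1 (.leaf 0x0) (.leaf 0x0)) (.node 1 (.leaf 0x0) (.leaf 0x0)))) (.node 4 (.node 2 (.node 1 (.leaf 0x0) (.leaf 0x0)) (.node 1 (.leaf 0x0) (.leaf 0x0))) (.node 2 (.node 1 (.leaf 0x0) (.leaf 0x0)) (.node 1 (.leaf 0x0) (.leaf 0x0))))))) (.node 32 (.node 16 (.node 8 (.node 4 (.node 2 (.node 1 (.leaf 0x0) (.leaf 0x0)) (.node 1 (.leaf 0x0) (.leaf 0x0)))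 (.node 2 (.node 1 (.leaf 0x0) (.leaf 0x0)) (.node 1 (.leaf 0x0) (.leaf 0x0)))) (.node 4 (.node 2 (.node 1 (.leaf 0x0) (.leaf 0x0)) (.node 1 (.leaf 0x0) (.leaf 0x0))) (.node 2 (.node 1 (.leaf 0x0) (.leaf 0x0)) (.node 1 (.leaf 0x0) (.leaf 0x0))))) (.node 8 (.node 4 (.node 2 (.node 1 (.leaf 0x0) (.leaf 0x0)) (.node 1 (.leaf 0x0) (.leaf 0x0))) (.node 2 (.node 1 (.leaf 0x0) (.leaf 0x0)) (.node 1 (.leaf 0x0) (.leaf 0x0)))) (.node 4 (.node 2 (.node 1 (.leaf 0x0) (.leaf 0x0)) (.node 1 (.leaf 0x0) (.leaf 0x0))) (.node 2 (.node 1 (.leaf 0x0) (.leaf 0x0)) (.node 1 (.leaf 0x0) (.leaf 0x0)))))) (.node 16 (.node 8 (.node 4 (.node 2 (.node 1 (.leaf 0x0) (.leaf 0x0)) (.node 1 (.leaf 0x0) (.leaf 0x0))) (.node 2 (.node 1 (.leaf 0x0) (.leaf 0x0)) (.node 1 (.leaf 0x0) (.leaf 0x0)))) (.node 4 (.node 2 (.node 1 (.leaf 0x0) (.leaf 0x0)) (.node 1 (.leaf 0x0) (.leaf 0x0))) (.node 2 (.node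 1 (.leaf 0x0) (.leaf 0x0)) (.node 1 (.leaf 0x0) (.leaf 0x0))))) (.node 8 (.node 4 (.node 2 (.node 1 (.leaf 0x0) (.leaf 0x0)) (.node 1 (.leaf 0x0) (.leaf 0x0))) (.node 2 (.node 1 (.leaf 0x0) (.leaf 0x0)) (.node 1 (.leaf 0x0) (.leaf 0x0)))) (.node 4 (.node 2 (.node 1 (.leaf 0x0) (.leaf 0x0)) (.node 1 (.leaf 0x0) (.leaf 0x0))) (.node 2 (.node 1 (.leaf 0x0) (.leaf 0x0)) (.node 1 (.leaf 0x0) (.leaf 0x0)))))))

def moves5_10 : Tree :=
  .node 64 (.node 32 (.node 16 (.node 8 (.node 4 (.node 2 (.node 1 (.leaf 0x0) (.leaf 0x0)) (.node 1 (.leaf 0x0) (.leaf 0x0))) (.node 2 (.node 1 (.leaf 0x0) (.leaf 0x0)) (.node 1 (.leaf 0x0) (.leaf 0x0)))) (.node 4 (.node 2 (.node 1 (.leaf 0x0) (.leaf 0x0)) (.node 1 (.leaf 0x0) (.leaf 0x0))) (.node 2 (.node 1 (.leaf 0x0) (.leaf 0x0)) (.node 1 (.leaf 0x0) (.leaf 0x0))))) (.node 8 (.node 4 (.node 2 (.node 1 (.leaf 0x0) (.leaf 0x0)) (.node 1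 (.leaf 0x0) (.leaf 0x0))) (.node 2 (.node 1 (.leaf 0x0) (.leaf 0x0)) (.node 1 (.leaf 0x0) (.leaf 0x0)))) (.node 4 (.node 2 (.node 1 (.leaf 0x0) (.leaf 0x0)) (.node 1 (.leaf 0x0) (.leaf 0x0))) (.node 2 (.node 1 (.leaf 0x0) (.leaf 0x0)) (.node 1 (.leaf 0x0) (.leaf 0x0)))))) (.node 16 (.node 8 (.node 4 (.node 2 (.node 1 (.leaf 0x0) (.leaf 0x0)) (.node 1 (.leaf 0x0) (.leaf 0x0))) (.node 2 (.node 1 (.leaf 0x0) (.leaf 0x0)) (.node 1 (.leaf 0x0) (.leaf 0x0)))) (.node 4 (.node 2 (.node 1 (.leaf 0x0) (.leaf 0x0)) (.node 1 (.leaf 0x0) (.leaf 0x0))) (.node 2 (.node 1 (.leaf 0x0) (.leaf 0x0)) (.node 1 (.leaf 0x0) (.leaf 0x0))))) (.node 8 (.node 4 (.node 2 (.node 1 (.leaf 0x0) (.leaf 0x0)) (.node 1 (.leaf 0x0) (.leaf 0x0))) (.node 2 (.node 1 (.leaf 0x0) (.leaf 0x0)) (.node 1 (.leaf 0x0) (.leaf 0x0)))) (.node 4 (.node 2 (.node 1 (.leaf 0x0) (.leaf 0x0)) (.node 1 (.leaf 0x0) (.leaf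 0x0))) (.node 2 (.node 1 (.leaf 0x0) (.leaf 0x0)) (.node 1 (.leaf 0x0) (.leaf 0x0))))))) (.node 32 (.node 16 (.node 8 (.node 4 (.node 2 (.node 1 (.leaf 0x0) (.leaf 0x0)) (.node 1 (.leaf 0x0) (.leaf 0x0))) (.node 2 (.node 1 (.leaf 0x0) (.leaf 0x0)) (.node 1 (.leaf 0x0) (.leaf 0x0)))) (.node 4 (.node 2 (.node 1 (.leaf 0x0) (.leaf 0x0)) (.node 1 (.leaf 0x0) (.leaf 0x0))) (.node 2 (.node 1 (.leaf 0x0) (.leaf 0x0)) (.node 1 (.leaf 0x0) (.leaf 0x0))))) (.node 8 (.node 4 (.node 2 (.node 1 (.leaf 0x0) (.leaf 0x0)) (.node 1 (.leaf 0x0) (.leaf 0x0))) (.node 2 (.node 1 (.leaf 0x0) (.leaf 0x0)) (.node 1 (.leaf 0x0) (.leaf 0x0)))) (.node 4 (.node 2 (.node 1 (.leaf 0x0) (.leaf 0x0)) (.node 1 (.leaf 0x0) (.leaf 0x0))) (.node 2 (.node 1 (.leaf 0x0) (.leaf 0x0)) (.node 1 (.leaf 0x0) (.leaf 0x0)))))) (.node 16 (.node 8 (.node 4 (.node 2 (.node 1 (.leaf 0x0) (.leaf 0x0)) (.node 1 (.leaf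 0x0) (.leaf 0x0))) (.node 2 (.node 1 (.leaf 0x0) (.leaf 0x0)) (.node 1 (.leaf 0x0) (.leaf 0x0)))) (.node 4 (.node 2 (.node 1 (.leaf 0x0) (.leaf 0x0)) (.node 1 (.leaf 0x0) (.leaf 0x0))) (.node 2 (.node 1 (.leaf 0x0) (.leaf 0x0)) (.node 1 (.leaf 0x0) (.leaf 0x0))))) (.node 8 (.node 4 (.node 2 (.node 1 (.leaf 0x0) (.leaf 0x0)) (.node 1 (.leaf 0x0) (.leaf 0x0))) (.node 2 (.node 1 (.leaf 0x0) (.leaf 0x0)) (.node 1 (.leaf 0x0) (.leaf 0x0)))) (.node 4 (.node 2 (.node 1 (.leaf 0x0) (.leaf 0x0)) (.node 1 (.leaf 0x0) (.leaf 0x0))) (.node 2 (.node 1 (.leaf 0x0) (.leaf 0x0)) (.node 1 (.leaf 0x0) (.leaf 0x0)))))))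

def moves5_11 : Tree :=
  .node 64 (.node 32 (.node 16 (.node 8 (.node 4 (.node 2 (.node 1 (.leaf 0x0) (.leaf 0x0)) (.node 1 (.leaf 0x0) (.leaf 0x0))) (.node 2 (.node 1 (.leaf 0x0) (.leaf 0x0)) (.node 1 (.leaf 0x0) (.leaf 0x0)))) (.node 4 (.node 2 (.node 1 (.leaf 0x0) (.leaf 0x0)) (.node 1 (.leaf 0x0) (.leaf 0x0))) (.node 2 (.node 1 (.leaf 0x0) (.leaf 0x0)) (.node 1 (.leaf 0x0) (.leaf 0x0))))) (.node 8 (.node 4 (.node 2 (.node 1 (.leaf 0x0) (.leaf 0x0)) (.node 1 (.leaf 0x0) (.leaf 0x0))) (.node 2 (.node 1 (.leaf 0x0) (.leaf 0x0)) (.node 1 (.leaf 0x0) (.leaf 0x0)))) (.node 4 (.node 2 (.node 1 (.leaf 0x0) (.leaf 0x0)) (.node 1 (.leaf 0x0) (.leaf 0x0))) (.node 2 (.node 1 (.leaf 0x0) (.leaf 0x0)) (.node 1 (.leaf 0x0) (.leaf 0x0)))))) (.node 16 (.node 8 (.node 4 (.node 2 (.node 1 (.leaf 0x0) (.leaf 0x0)) (.node 1 (.leaf 0x0) (.leaf 0x0))) (.node 2 (.node 1 (.leaf 0x0)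 (.leaf 0x0)) (.node 1 (.leaf 0x0) (.leaf 0x0)))) (.node 4 (.node 2 (.node 1 (.leaf 0x0) (.leaf 0x0)) (.node 1 (.leaf 0x0) (.leaf 0x0))) (.node 2 (.node 1 (.leaf 0x0) (.leaf 0x0)) (.node 1 (.leaf 0x0) (.leaf 0x0))))) (.node 8 (.node 4 (.node 2 (.node 1 (.leaf 0x0) (.leaf 0x0)) (.node 1 (.leaf 0x0) (.leaf 0x0))) (.node 2 (.node 1 (.leaf 0x0) (.leaf 0x0)) (.node 1 (.leaf 0x0) (.leaf 0x0)))) (.node 4 (.node 2 (.node 1 (.leaf 0x0) (.leaf 0x0)) (.node 1 (.leaf 0x0) (.leaf 0x0))) (.node 2 (.node 1 (.leaf 0x0) (.leaf 0x0)) (.node 1 (.leaf 0x0) (.leaf 0x0))))))) (.node 32 (.node 16 (.node 8 (.node 4 (.node 2 (.node 1 (.leaf 0x0) (.leaf 0x0)) (.node 1 (.leaf 0x0) (.leaf 0x0))) (.node 2 (.node 1 (.leaf 0x0) (.leaf 0x0)) (.node 1 (.leaf 0x0) (.leaf 0x0)))) (.node 4 (.node 2 (.node 1 (.leaf 0x0) (.leaf 0x0)) (.node 1 (.leaf 0x0) (.leaf 0x0))) (.node 2 (.node 1 (.leaf 0x0) (.leaf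 0x0)) (.node 1 (.leaf 0x0) (.leaf 0x0))))) (.node 8 (.node 4 (.node 2 (.node 1 (.leaf 0x0) (.leaf 0x0)) (.node 1 (.leaf 0x0) (.leaf 0x0))) (.node 2 (.node 1 (.leaf 0x0) (.leaf 0x0)) (.node 1 (.leaf 0x0) (.leaf 0x0)))) (.node 4 (.node 2 (.node 1 (.leaf 0x0) (.leaf 0x0)) (.node 1 (.leaf 0x0) (.leaf 0x0))) (.node 2 (.node 1 (.leaf 0x0) (.leaf 0x4)) (.node 1 (.leaf 0x0) (.leaf 0x0)))))) (.node 16 (.node 8 (.node 4 (.node 2 (.node 1 (.leaf 0x0) (.leaf 0x0)) (.node 1 (.leaf 0x0) (.leaf 0x0))) (.node 2 (.node 1 (.leaf 0x0) (.leaf 0x0)) (.node 1 (.leaf 0x0) (.leaf 0x0)))) (.node 4 (.node 2 (.node 1 (.leaf 0x0) (.leaf 0x0)) (.node 1 (.leaf 0x0) (.leaf 0x0))) (.node 2 (.node 1 (.leaf 0x0) (.leaf 0x0)) (.node 1 (.leaf 0x0) (.leaf 0x0))))) (.node 8 (.node 4 (.node 2 (.node 1 (.leaf 0x0) (.leaf 0x0)) (.node 1 (.leaf 0x0) (.leaf 0x0))) (.node 2 (.node 1 (.leaf 0x0) (.leaf 0x0))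 (.node 1 (.leaf 0x0) (.leaf 0x0)))) (.node 4 (.node 2 (.node 1 (.leaf 0x0) (.leaf 0x0)) (.node 1 (.leaf 0x0) (.leaf 0x0))) (.node 2 (.node 1 (.leaf 0x0) (.leaf 0x0)) (.node 1 (.leaf 0x0) (.leaf 0x0)))))))

def moves5_12 : Tree :=
  .node 64 (.node 32 (.node 16 (.node 8 (.node 4 (.node 2 (.node 1 (.leaf 0x0) (.leaf 0x0)) (.node 1 (.leaf 0x0) (.leaf 0x0))) (.node 2 (.node 1 (.leaf 0x0) (.leaf 0x0)) (.node 1 (.leaf 0x0) (.leaf 0x0)))) (.node 4 (.node 2 (.node 1 (.leaf 0x0) (.leaf 0x0)) (.node 1 (.leaf 0x0) (.leaf 0x0))) (.node 2 (.node 1 (.leaf 0x0) (.leaf 0x0)) (.node 1 (.leaf 0x0) (.leaf 0x0))))) (.node 8 (.node 4 (.node 2 (.node 1 (.leaf 0x0) (.leaf 0x0)) (.node 1 (.leaf 0x0) (.leaf 0x0))) (.node 2 (.node 1 (.leaf 0x0) (.leaf 0x0)) (.node 1 (.leaf 0x0) (.leaf 0x0)))) (.node 4 (.node 2 (.node 1 (.leaf 0x0) (.leaf 0x0)) (.node 1 (.leaf 0x0) (.leaf 0x0))) (.node 2 (.node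 1 (.leaf 0x0) (.leaf 0x0)) (.node 1 (.leaf 0x0) (.leaf 0x0)))))) (.node 16 (.node 8 (.node 4 (.node 2 (.node 1 (.leaf 0x0) (.leaf 0x0)) (.node 1 (.leaf 0x0) (.leaf 0x0))) (.node 2 (.node 1 (.leaf 0x0) (.leaf 0x0)) (.node 1 (.leaf 0x0) (.leaf 0x0)))) (.node 4 (.node 2 (.node 1 (.leaf 0x0) (.leaf 0x0)) (.node 1 (.leaf 0x0) (.leaf 0x0))) (.node 2 (.node 1 (.leaf 0x0) (.leaf 0x0)) (.node 1 (.leaf 0x0) (.leaf 0x0))))) (.node 8 (.node 4 (.node 2 (.node 1 (.leaf 0x0) (.leaf 0x0)) (.node 1 (.leaf 0x0) (.leaf 0x0))) (.node 2 (.node 1 (.leaf 0x0) (.leaf 0x0)) (.node 1 (.leaf 0x0) (.leaf 0x0)))) (.node 4 (.node 2 (.node 1 (.leaf 0x0) (.leaf 0x0)) (.node 1 (.leaf 0x0) (.leaf 0x0))) (.node 2 (.node 1 (.leaf 0x0) (.leaf 0x0)) (.node 1 (.leaf 0x0) (.leaf 0x0))))))) (.node 32 (.node 16 (.node 8 (.node 4 (.node 2 (.node 1 (.leaf 0x0) (.leaf 0x0)) (.node 1 (.leaf 0x0) (.leaf 0x0)))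 (.node 2 (.node 1 (.leaf 0x0) (.leaf 0x0)) (.node 1 (.leaf 0x0) (.leaf 0x0)))) (.node 4 (.node 2 (.node 1 (.leaf 0x0) (.leaf 0x0)) (.node 1 (.leaf 0x0) (.leaf 0x0))) (.node 2 (.node 1 (.leaf 0x0) (.leaf 0x0)) (.node 1 (.leaf 0x0) (.leaf 0x0))))) (.node 8 (.node 4 (.node 2 (.node 1 (.leaf 0x0) (.leaf 0x0)) (.node 1 (.leaf 0x0) (.leaf 0x0))) (.node 2 (.node 1 (.leaf 0x0) (.leaf 0x0)) (.node 1 (.leaf 0x0) (.leaf 0x0)))) (.node 4 (.node 2 (.node 1 (.leaf 0x0) (.leaf 0x0)) (.node 1 (.leaf 0x0) (.leaf 0x0))) (.node 2 (.node 1 (.leaf 0x0) (.leaf 0x0)) (.node 1 (.leaf 0x0) (.leaf 0x0)))))) (.node 16 (.node 8 (.node 4 (.node 2 (.node 1 (.leaf 0x0) (.leaf 0x0)) (.node 1 (.leaf 0x0) (.leaf 0x0))) (.node 2 (.node 1 (.leaf 0x0) (.leaf 0x0)) (.node 1 (.leaf 0x0) (.leaf 0x0)))) (.node 4 (.node 2 (.node 1 (.leaf 0x0) (.leaf 0x0)) (.node 1 (.leaf 0x0) (.leaf 0x0))) (.node 2 (.node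 1 (.leaf 0x0) (.leaf 0x0)) (.node 1 (.leaf 0x0) (.leaf 0x0))))) (.node 8 (.node 4 (.node 2 (.node 1 (.leaf 0x0) (.leaf 0x0)) (.node 1 (.leaf 0x0) (.leaf 0x0))) (.node 2 (.node 1 (.leaf 0x0) (.leaf 0x0)) (.node 1 (.leaf 0x0) (.leaf 0x0)))) (.node 4 (.node 2 (.node 1 (.leaf 0x0) (.leaf 0x0)) (.node 1 (.leaf 0x0) (.leaf 0x0))) (.node 2 (.node 1 (.leaf 0x0) (.leaf 0x0)) (.node 1 (.leaf 0x0) (.leaf 0x0)))))))

def moves5_13 : Tree :=
  .node 64 (.node 32 (.node 16 (.node 8 (.node 4 (.node 2 (.node 1 (.leaf 0x0) (.leaf 0x0)) (.node 1 (.leaf 0x0) (.leaf 0x0))) (.node 2 (.node 1 (.leaf 0x0) (.leaf 0x0)) (.node 1 (.leaf 0x0) (.leaf 0x0)))) (.node 4 (.node 2 (.node 1 (.leaf 0x0) (.leaf 0x0)) (.node 1 (.leaf 0x0) (.leaf 0x0))) (.node 2 (.node 1 (.leaf 0x0) (.leaf 0x0)) (.node 1 (.leaf 0x0) (.leaf 0x0))))) (.node 8 (.node 4 (.node 2 (.node 1 (.leaf 0x0) (.leaf 0x0)) (.node 1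 (.leaf 0x0) (.leaf 0x0))) (.node 2 (.node 1 (.leaf 0x0) (.leaf 0x0)) (.node 1 (.leaf 0x0) (.leaf 0x0)))) (.node 4 (.node 2 (.node 1 (.leaf 0x0) (.leaf 0x0)) (.node 1 (.leaf 0x0) (.leaf 0x0))) (.node 2 (.node 1 (.leaf 0x0) (.leaf 0x0)) (.node 1 (.leaf 0x0) (.leaf 0x0)))))) (.node 16 (.node 8 (.node 4 (.node 2 (.node 1 (.leaf 0x0) (.leaf 0x0)) (.node 1 (.leaf 0x0) (.leaf 0x0))) (.node 2 (.node 1 (.leaf 0x0) (.leaf 0x0)) (.node 1 (.leaf 0x0) (.leaf 0x0)))) (.node 4 (.node 2 (.node 1 (.leaf 0x0) (.leaf 0x0)) (.node 1 (.leaf 0x0) (.leaf 0x0))) (.node 2 (.node 1 (.leaf 0x0) (.leaf 0x0)) (.node 1 (.leaf 0x0) (.leaf 0x0))))) (.node 8 (.node 4 (.node 2 (.node 1 (.leaf 0x0) (.leaf 0x0)) (.node 1 (.leaf 0x0) (.leaf 0x0))) (.node 2 (.node 1 (.leaf 0x0) (.leaf 0x0)) (.node 1 (.leaf 0x0) (.leaf 0x0)))) (.node 4 (.node 2 (.node 1 (.leaf 0x0) (.leaf 0x0)) (.node 1 (.leaf 0x0) (.leaf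 0x0))) (.node 2 (.node 1 (.leaf 0x0) (.leaf 0x0)) (.node 1 (.leaf 0x0) (.leaf 0x0))))))) (.node 32 (.node 16 (.node 8 (.node 4 (.node 2 (.node 1 (.leaf 0x0) (.leaf 0x0)) (.node 1 (.leaf 0x0) (.leaf 0x0))) (.node 2 (.node 1 (.leaf 0x0) (.leaf 0x0)) (.node 1 (.leaf 0x0) (.leaf 0x0)))) (.node 4 (.node 2 (.node 1 (.leaf 0x0) (.leaf 0x0)) (.node 1 (.leaf 0x0) (.leaf 0x0))) (.node 2 (.node 1 (.leaf 0x0) (.leaf 0x0)) (.node 1 (.leaf 0x0) (.leaf 0x0))))) (.node 8 (.node 4 (.node 2 (.node 1 (.leaf 0x0) (.leaf 0x0)) (.node 1 (.leaf 0x0) (.leaf 0x0))) (.node 2 (.node 1 (.leaf 0x0) (.leaf 0x0)) (.node 1 (.leaf 0x0) (.leaf 0x0)))) (.node 4 (.node 2 (.node 1 (.leaf 0x0) (.leaf 0x0)) (.node 1 (.leaf 0x0) (.leaf 0x0))) (.node 2 (.node 1 (.leaf 0x0) (.leaf 0x0)) (.node 1 (.leaf 0x0) (.leaf 0x0)))))) (.node 16 (.node 8 (.node 4 (.node 2 (.node 1 (.leaf 0x0) (.leaf 0x0)) (.node 1 (.leaf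 0x0) (.leaf 0x0))) (.node 2 (.node 1 (.leaf 0x0) (.leaf 0x0)) (.node 1 (.leaf 0x0) (.leaf 0x0)))) (.node 4 (.node 2 (.node 1 (.leaf 0x0) (.leaf 0x0)) (.node 1 (.leaf 0x0) (.leaf 0x0))) (.node 2 (.node 1 (.leaf 0x0) (.leaf 0x0)) (.node 1 (.leaf 0x0) (.leaf 0x0))))) (.node 8 (.node 4 (.node 2 (.node 1 (.leaf 0x0) (.leaf 0x0)) (.node 1 (.leaf 0x0) (.leaf 0x0))) (.node 2 (.node 1 (.leaf 0x0) (.leaf 0x0)) (.node 1 (.leaf 0x0) (.leaf 0x0)))) (.node 4 (.node 2 (.node 1 (.leaf 0x0) (.leaf 0x0)) (.node 1 (.leaf 0x0) (.leaf 0x0))) (.node 2 (.node 1 (.leaf 0x0) (.leaf 0x0)) (.node 1 (.leaf 0x0) (.leaf 0x0)))))))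

def moves5_14 : Tree :=
  .node 64 (.node 32 (.node 16 (.node 8 (.node 4 (.node 2 (.node 1 (.leaf 0x0) (.leaf 0x0)) (.node 1 (.leaf 0x0) (.leaf 0x0))) (.node 2 (.node 1 (.leaf 0x0) (.leaf 0x0)) (.node 1 (.leaf 0x0) (.leaf 0x0)))) (.node 4 (.node 2 (.node 1 (.leaf 0x0) (.leaf 0x0)) (.node 1 (.leaf 0x0) (.leaf 0x0))) (.node 2 (.node 1 (.leaf 0x0) (.leaf 0x0)) (.node 1 (.leaf 0x0) (.leaf 0x0))))) (.node 8 (.node 4 (.node 2 (.node 1 (.leaf 0x0) (.leaf 0x0)) (.node 1 (.leaf 0x0) (.leaf 0x0))) (.node 2 (.node 1 (.leaf 0x0) (.leaf 0x0)) (.node 1 (.leaf 0x0) (.leaf 0x0)))) (.node 4 (.node 2 (.node 1 (.leaf 0x0) (.leaf 0x0)) (.node 1 (.leaf 0x0) (.leaf 0x0))) (.node 2 (.node 1 (.leaf 0x0) (.leaf 0x0)) (.node 1 (.leaf 0x0) (.leaf 0x0)))))) (.node 16 (.node 8 (.node 4 (.node 2 (.node 1 (.leaf 0x0) (.leaf 0x5)) (.node 1 (.leaf 0x0) (.leaf 0x0))) (.node 2 (.node 1 (.leaf 0x0)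 (.leaf 0x0)) (.node 1 (.leaf 0x0) (.leaf 0x0)))) (.node 4 (.node 2 (.node 1 (.leaf 0x0) (.leaf 0x0)) (.node 1 (.leaf 0x0) (.leaf 0x0))) (.node 2 (.node 1 (.leaf 0x0) (.leaf 0x0)) (.node 1 (.leaf 0x0) (.leaf 0x0))))) (.node 8 (.node 4 (.node 2 (.node 1 (.leaf 0x0) (.leaf 0x0)) (.node 1 (.leaf 0x0) (.leaf 0x0))) (.node 2 (.node 1 (.leaf 0x0) (.leaf 0x0)) (.node 1 (.leaf 0x0) (.leaf 0x0)))) (.node 4 (.node 2 (.node 1 (.leaf 0x0) (.leaf 0x0)) (.node 1 (.leaf 0x0) (.leaf 0x0))) (.node 2 (.node 1 (.leaf 0x0) (.leaf 0x0)) (.node 1 (.leaf 0x0) (.leaf 0x0))))))) (.node 32 (.node 16 (.node 8 (.node 4 (.node 2 (.node 1 (.leaf 0x0) (.leaf 0x0)) (.node 1 (.leaf 0x0) (.leaf 0x0))) (.node 2 (.node 1 (.leaf 0x0) (.leaf 0x0)) (.node 1 (.leaf 0x0) (.leaf 0x0)))) (.node 4 (.node 2 (.node 1 (.leaf 0x0) (.leaf 0x0)) (.node 1 (.leaf 0x0) (.leaf 0x0))) (.node 2 (.node 1 (.leaf 0x0) (.leaf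 0x0)) (.node 1 (.leaf 0x0) (.leaf 0x0))))) (.node 8 (.node 4 (.node 2 (.node 1 (.leaf 0x0) (.leaf 0x0)) (.node 1 (.leaf 0x0) (.leaf 0x0))) (.node 2 (.node 1 (.leaf 0x0) (.leaf 0x0)) (.node 1 (.leaf 0x0) (.leaf 0x0)))) (.node 4 (.node 2 (.node 1 (.leaf 0x0) (.leaf 0x0)) (.node 1 (.leaf 0x0) (.leaf 0x0))) (.node 2 (.node 1 (.leaf 0x0) (.leaf 0x0)) (.node 1 (.leaf 0x0) (.leaf 0x0)))))) (.node 16 (.node 8 (.node 4 (.node 2 (.node 1 (.leaf 0x0) (.leaf 0x0)) (.node 1 (.leaf 0x0) (.leaf 0x0))) (.node 2 (.node 1 (.leaf 0x0) (.leaf 0x0)) (.node 1 (.leaf 0x0) (.leaf 0x0)))) (.node 4 (.node 2 (.node 1 (.leaf 0x0) (.leaf 0x0)) (.node 1 (.leaf 0x0) (.leaf 0x0))) (.node 2 (.node 1 (.leaf 0x0) (.leaf 0x0)) (.node 1 (.leaf 0x0) (.leaf 0x0))))) (.node 8 (.node 4 (.node 2 (.node 1 (.leaf 0x0) (.leaf 0x0)) (.node 1 (.leaf 0x0) (.leaf 0x0))) (.node 2 (.node 1 (.leaf 0x0) (.leaf 0x0))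 (.node 1 (.leaf 0x0) (.leaf 0x0)))) (.node 4 (.node 2 (.node 1 (.leaf 0x0) (.leaf 0x0)) (.node 1 (.leaf 0x0) (.leaf 0x0))) (.node 2 (.node 1 (.leaf 0x0) (.leaf 0x0)) (.node 1 (.leaf 0x0) (.leaf 0x0)))))))

def moves5_15 : Tree :=
  .node 64 (.node 32 (.node 16 (.node 8 (.node 4 (.node 2 (.node 1 (.leaf 0x0) (.leaf 0x0)) (.node 1 (.leaf 0x0) (.leaf 0x0))) (.node 2 (.node 1 (.leaf 0x0) (.leaf 0x0)) (.node 1 (.leaf 0x0) (.leaf 0x0)))) (.node 4 (.node 2 (.node 1 (.leaf 0x0) (.leaf 0x0)) (.node 1 (.leaf 0x0) (.leaf 0x0))) (.node 2 (.node 1 (.leaf 0x0) (.leaf 0x0)) (.node 1 (.leaf 0x0) (.leaf 0x0))))) (.node 8 (.node 4 (.node 2 (.node 1 (.leaf 0x0) (.leaf 0x0)) (.node 1 (.leaf 0x0) (.leaf 0x0))) (.node 2 (.node 1 (.leaf 0x0) (.leaf 0x0)) (.node 1 (.leaf 0x0) (.leaf 0x0)))) (.node 4 (.node 2 (.node 1 (.leaf 0x0) (.leaf 0x0)) (.node 1 (.leaf 0x0) (.leaf 0x0))) (.node 2 (.node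 1 (.leaf 0x0) (.leaf 0x0)) (.node 1 (.leaf 0x0) (.leaf 0x0)))))) (.node 16 (.node 8 (.node 4 (.node 2 (.node 1 (.leaf 0x0) (.leaf 0x0)) (.node 1 (.leaf 0x0) (.leaf 0x0))) (.node 2 (.node 1 (.leaf 0x0) (.leaf 0x0)) (.node 1 (.leaf 0x0) (.leaf 0x0)))) (.node 4 (.node 2 (.node 1 (.leaf 0x0) (.leaf 0x0)) (.node 1 (.leaf 0x0) (.leaf 0x0))) (.node 2 (.node 1 (.leaf 0x0) (.leaf 0x0)) (.node 1 (.leaf 0x0) (.leaf 0x0))))) (.node 8 (.node 4 (.node 2 (.node 1 (.leaf 0x0) (.leaf 0x0)) (.node 1 (.leaf 0x0) (.leaf 0x0))) (.node 2 (.node 1 (.leaf 0x0) (.leaf 0x0)) (.node 1 (.leaf 0x0) (.leaf 0x0)))) (.node 4 (.node 2 (.node 1 (.leaf 0x0) (.leaf 0x0)) (.node 1 (.leaf 0x0) (.leaf 0x0))) (.node 2 (.node 1 (.leaf 0x0) (.leaf 0x0)) (.node 1 (.leaf 0x0) (.leaf 0x0))))))) (.node 32 (.node 16 (.node 8 (.node 4 (.node 2 (.node 1 (.leaf 0x0) (.leaf 0x0)) (.node 1 (.leaf 0x0) (.leaf 0x0)))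 (.node 2 (.node 1 (.leaf 0x0) (.leaf 0x0)) (.node 1 (.leaf 0x0) (.leaf 0x0)))) (.node 4 (.node 2 (.node 1 (.leaf 0x0) (.leaf 0x0)) (.node 1 (.leaf 0x0) (.leaf 0x0))) (.node 2 (.node 1 (.leaf 0x0) (.leaf 0x0)) (.node 1 (.leaf 0x0) (.leaf 0x0))))) (.node 8 (.node 4 (.node 2 (.node 1 (.leaf 0x0) (.leaf 0x0)) (.node 1 (.leaf 0x0) (.leaf 0x0))) (.node 2 (.node 1 (.leaf 0x0) (.leaf 0x0)) (.node 1 (.leaf 0x0) (.leaf 0x0)))) (.node 4 (.node 2 (.node 1 (.leaf 0x0) (.leaf 0x0)) (.node 1 (.leaf 0x0) (.leaf 0x0))) (.node 2 (.node 1 (.leaf 0x0) (.leaf 0x0)) (.node 1 (.leaf 0x0) (.leaf 0x0)))))) (.node 16 (.node 8 (.node 4 (.node 2 (.node 1 (.leaf 0x0) (.leaf 0x0)) (.node 1 (.leaf 0x0) (.leaf 0x0))) (.node 2 (.node 1 (.leaf 0x0) (.leaf 0x0)) (.node 1 (.leaf 0x0) (.leaf 0x0)))) (.node 4 (.node 2 (.node 1 (.leaf 0x0) (.leaf 0x0)) (.node 1 (.leaf 0x0) (.leaf 0x0))) (.node 2 (.node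 1 (.leaf 0x0) (.leaf 0x0)) (.node 1 (.leaf 0x0) (.leaf 0x0))))) (.node 8 (.node 4 (.node 2 (.node 1 (.leaf 0x0) (.leaf 0x0)) (.node 1 (.leaf 0x0) (.leaf 0x0))) (.node 2 (.node 1 (.leaf 0x0) (.leaf 0x0)) (.node 1 (.leaf 0x0) (.leaf 0x0)))) (.node 4 (.node 2 (.node 1 (.leaf 0x0) (.leaf 0x0)) (.node 1 (.leaf 0x0) (.leaf 0x0))) (.node 2 (.node 1 (.leaf 0x0) (.leaf 0x0)) (.node 1 (.leaf 0x0) (.leaf 0x0)))))))

def moves5_16 : Tree :=
  .node 64 (.node 32 (.node 16 (.node 8 (.node 4 (.node 2 (.node 1 (.leaf 0x0) (.leaf 0x0)) (.node 1 (.leaf 0x0) (.leaf 0x0))) (.node 2 (.node 1 (.leaf 0x0) (.leaf 0x0)) (.node 1 (.leaf 0x0) (.leaf 0x0)))) (.node 4 (.node 2 (.node 1 (.leaf 0x0) (.leaf 0x0)) (.node 1 (.leaf 0x0) (.leaf 0x0))) (.node 2 (.node 1 (.leaf 0x0) (.leaf 0x0)) (.node 1 (.leaf 0x0) (.leaf 0x0))))) (.node 8 (.node 4 (.node 2 (.node 1 (.leaf 0x0) (.leaf 0x0)) (.node 1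 (.leaf 0x0) (.leaf 0x0))) (.node 2 (.node 1 (.leaf 0x0) (.leaf 0x0)) (.node 1 (.leaf 0x0) (.leaf 0x0)))) (.node 4 (.node 2 (.node 1 (.leaf 0x0) (.leaf 0x0)) (.node 1 (.leaf 0x0) (.leaf 0x0))) (.node 2 (.node 1 (.leaf 0x0) (.leaf 0x0)) (.node 1 (.leaf 0x0) (.leaf 0x0)))))) (.node 16 (.node 8 (.node 4 (.node 2 (.node 1 (.leaf 0x0) (.leaf 0x0)) (.node 1 (.leaf 0x0) (.leaf 0x0))) (.node 2 (.node 1 (.leaf 0x0) (.leaf 0x0)) (.node 1 (.leaf 0x0) (.leaf 0x0)))) (.node 4 (.node 2 (.node 1 (.leaf 0x0) (.leaf 0x0)) (.node 1 (.leaf 0x0) (.leaf 0x0))) (.node 2 (.node 1 (.leaf 0x0) (.leaf 0x0)) (.node 1 (.leaf 0x0) (.leaf 0x0))))) (.node 8 (.node 4 (.node 2 (.node 1 (.leaf 0x0) (.leaf 0x0)) (.node 1 (.leaf 0x0) (.leaf 0x0))) (.node 2 (.node 1 (.leaf 0x0) (.leaf 0x0)) (.node 1 (.leaf 0x0) (.leaf 0x0)))) (.node 4 (.node 2 (.node 1 (.leaf 0x0) (.leaf 0x0)) (.node 1 (.leaf 0x0) (.leaf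 0x0))) (.node 2 (.node 1 (.leaf 0x0) (.leaf 0x0)) (.node 1 (.leaf 0x0) (.leaf 0x0))))))) (.node 32 (.node 16 (.node 8 (.node 4 (.node 2 (.node 1 (.leaf 0x0) (.leaf 0x0)) (.node 1 (.leaf 0x0) (.leaf 0x0))) (.node 2 (.node 1 (.leaf 0x0) (.leaf 0x0)) (.node 1 (.leaf 0x0) (.leaf 0x0)))) (.node 4 (.node 2 (.node 1 (.leaf 0x0) (.leaf 0x0)) (.node 1 (.leaf 0x0) (.leaf 0x0))) (.node 2 (.node 1 (.leaf 0x0) (.leaf 0x0)) (.node 1 (.leaf 0x0) (.leaf 0x0))))) (.node 8 (.node 4 (.node 2 (.node 1 (.leaf 0x0) (.leaf 0x0)) (.node 1 (.leaf 0x0) (.leaf 0x0))) (.node 2 (.node 1 (.leaf 0x0) (.leaf 0x0)) (.node 1 (.leaf 0x0) (.leaf 0x0)))) (.node 4 (.node 2 (.node 1 (.leaf 0x0) (.leaf 0x0)) (.node 1 (.leaf 0x0) (.leaf 0x0))) (.node 2 (.node 1 (.leaf 0x0) (.leaf 0x0)) (.node 1 (.leaf 0x0) (.leaf 0x0)))))) (.node 16 (.node 8 (.node 4 (.node 2 (.node 1 (.leaf 0x0) (.leaf 0x0)) (.node 1 (.leaf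 0x0) (.leaf 0x0))) (.node 2 (.node 1 (.leaf 0x0) (.leaf 0x0)) (.node 1 (.leaf 0x0) (.leaf 0x0)))) (.node 4 (.node 2 (.node 1 (.leaf 0x0) (.leaf 0x0)) (.node 1 (.leaf 0x0) (.leaf 0x0))) (.node 2 (.node 1 (.leaf 0x0) (.leaf 0x0)) (.node 1 (.leaf 0x0) (.leaf 0x0))))) (.node 8 (.node 4 (.node 2 (.node 1 (.leaf 0x0) (.leaf 0x0)) (.node 1 (.leaf 0x0) (.leaf 0x0))) (.node 2 (.node 1 (.leaf 0x0) (.leaf 0x0)) (.node 1 (.leaf 0x0) (.leaf 0x0)))) (.node 4 (.node 2 (.node 1 (.leaf 0x0) (.leaf 0x0)) (.node 1 (.leaf 0x0) (.leaf 0x0))) (.node 2 (.node 1 (.leaf 0x0) (.leaf 0x0)) (.node 1 (.leaf 0x0) (.leaf 0x0)))))))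

def moves5_17 : Tree :=
  .node 64 (.node 32 (.node 16 (.node 8 (.node 4 (.node 2 (.node 1 (.leaf 0x0) (.leaf 0x0)) (.node 1 (.leaf 0x0) (.leaf 0x0))) (.node 2 (.node 1 (.leaf 0x0) (.leaf 0x0)) (.node 1 (.leaf 0x0) (.leaf 0x0)))) (.node 4 (.node 2 (.node 1 (.leaf 0x0) (.leaf 0x0)) (.node 1 (.leaf 0x0) (.leaf 0x0))) (.node 2 (.node 1 (.leaf 0x0) (.leaf 0x0)) (.node 1 (.leaf 0x0) (.leaf 0x0))))) (.node 8 (.node 4 (.node 2 (.node 1 (.leaf 0x0) (.leaf 0x0)) (.node 1 (.leaf 0x0) (.leaf 0x0))) (.node 2 (.node 1 (.leaf 0x0) (.leaf 0x0)) (.node 1 (.leaf 0x0) (.leaf 0x0)))) (.node 4 (.node 2 (.node 1 (.leaf 0x0) (.leaf 0x0)) (.node 1 (.leaf 0x0) (.leaf 0x0))) (.node 2 (.node 1 (.leaf 0x0) (.leaf 0x0)) (.node 1 (.leaf 0x0) (.leaf 0x0)))))) (.node 16 (.node 8 (.node 4 (.node 2 (.node 1 (.leaf 0x0) (.leaf 0x0)) (.node 1 (.leaf 0x0) (.leaf 0x0))) (.node 2 (.node 1 (.leaf 0x0)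 (.leaf 0x0)) (.node 1 (.leaf 0x0) (.leaf 0x0)))) (.node 4 (.node 2 (.node 1 (.leaf 0x0) (.leaf 0x0)) (.node 1 (.leaf 0x0) (.leaf 0x0))) (.node 2 (.node 1 (.leaf 0x0) (.leaf 0x0)) (.node 1 (.leaf 0x0) (.leaf 0x0))))) (.node 8 (.node 4 (.node 2 (.node 1 (.leaf 0x0) (.leaf 0x0)) (.node 1 (.leaf 0x0) (.leaf 0x0))) (.node 2 (.node 1 (.leaf 0x0) (.leaf 0x0)) (.node 1 (.leaf 0x0) (.leaf 0x0)))) (.node 4 (.node 2 (.node 1 (.leaf 0x0) (.leaf 0x0)) (.node 1 (.leaf 0x0) (.leaf 0x0))) (.node 2 (.node 1 (.leaf 0x0) (.leaf 0x0)) (.node 1 (.leaf 0x0) (.leaf 0x0))))))) (.node 32 (.node 16 (.node 8 (.node 4 (.node 2 (.node 1 (.leaf 0x0) (.leaf 0x0)) (.node 1 (.leaf 0x0) (.leaf 0x0))) (.node 2 (.node 1 (.leaf 0x0) (.leaf 0x0)) (.node 1 (.leaf 0x0) (.leaf 0x0)))) (.node 4 (.node 2 (.node 1 (.leaf 0x0) (.leaf 0x0)) (.node 1 (.leaf 0x0) (.leaf 0x0))) (.node 2 (.node 1 (.leaf 0x0) (.leaf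 0x0)) (.node 1 (.leaf 0x0) (.leaf 0x0))))) (.node 8 (.node 4 (.node 2 (.node 1 (.leaf 0x0) (.leaf 0x0)) (.node 1 (.leaf 0x0) (.leaf 0x0))) (.node 2 (.node 1 (.leaf 0x0) (.leaf 0x0)) (.node 1 (.leaf 0x0) (.leaf 0x0)))) (.node 4 (.node 2 (.node 1 (.leaf 0x0) (.leaf 0x0)) (.node 1 (.leaf 0x0) (.leaf 0x0))) (.node 2 (.node 1 (.leaf 0x0) (.leaf 0x0)) (.node 1 (.leaf 0x0) (.leaf 0x0)))))) (.node 16 (.node 8 (.node 4 (.node 2 (.node 1 (.leaf 0x0) (.leaf 0x0)) (.node 1 (.leaf 0x0) (.leaf 0x0))) (.node 2 (.node 1 (.leaf 0x0) (.leaf 0x0)) (.node 1 (.leaf 0x0) (.leaf 0x0)))) (.node 4 (.node 2 (.node 1 (.leaf 0x0) (.leaf 0x0)) (.node 1 (.leaf 0x0) (.leaf 0x0))) (.node 2 (.node 1 (.leaf 0x0) (.leaf 0x0)) (.node 1 (.leaf 0x0) (.leaf 0x0))))) (.node 8 (.node 4 (.node 2 (.node 1 (.leaf 0x0) (.leaf 0x0)) (.node 1 (.leaf 0x0) (.leaf 0x0))) (.node 2 (.node 1 (.leaf 0x0) (.leaf 0x0))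 (.node 1 (.leaf 0x0) (.leaf 0x0)))) (.node 4 (.node 2 (.node 1 (.leaf 0x0) (.leaf 0x0)) (.node 1 (.leaf 0x0) (.leaf 0x0))) (.node 2 (.node 1 (.leaf 0x0) (.leaf 0x0)) (.node 1 (.leaf 0x0) (.leaf 0x0)))))))

def moves5_18 : Tree :=
  .node 64 (.node 32 (.node 16 (.node 8 (.node 4 (.node 2 (.node 1 (.leaf 0x0) (.leaf 0x0)) (.node 1 (.leaf 0x0) (.leaf 0x0))) (.node 2 (.node 1 (.leaf 0x0) (.leaf 0x0)) (.node 1 (.leaf 0x0) (.leaf 0x0)))) (.node 4 (.node 2 (.node 1 (.leaf 0x0) (.leaf 0x0)) (.node 1 (.leaf 0x0) (.leaf 0x0))) (.node 2 (.node 1 (.leaf 0x0) (.leaf 0x0)) (.node 1 (.leaf 0x0) (.leaf 0x0))))) (.node 8 (.node 4 (.node 2 (.node 1 (.leaf 0x0) (.leaf 0x0)) (.node 1 (.leaf 0x0) (.leaf 0x0))) (.node 2 (.node 1 (.leaf 0x0) (.leaf 0x0)) (.node 1 (.leaf 0x0) (.leaf 0x0)))) (.node 4 (.node 2 (.node 1 (.leaf 0x0) (.leaf 0x0)) (.node 1 (.leaf 0x0) (.leaf 0x0))) (.node 2 (.node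 1 (.leaf 0x0) (.leaf 0x0)) (.node 1 (.leaf 0x0) (.leaf 0x0)))))) (.node 16 (.node 8 (.node 4 (.node 2 (.node 1 (.leaf 0x0) (.leaf 0x0)) (.node 1 (.leaf 0x0) (.leaf 0x0))) (.node 2 (.node 1 (.leaf 0x0) (.leaf 0x0)) (.node 1 (.leaf 0x0) (.leaf 0x0)))) (.node 4 (.node 2 (.node 1 (.leaf 0x0) (.leaf 0x0)) (.node 1 (.leaf 0x0) (.leaf 0x0))) (.node 2 (.node 1 (.leaf 0x0) (.leaf 0x0)) (.node 1 (.leaf 0x0) (.leaf 0x0))))) (.node 8 (.node 4 (.node 2 (.node 1 (.leaf 0x0) (.leaf 0x0)) (.node 1 (.leaf 0x0) (.leaf 0x0))) (.node 2 (.node 1 (.leaf 0x0) (.leaf 0x0)) (.node 1 (.leaf 0x0) (.leaf 0x0)))) (.node 4 (.node 2 (.node 1 (.leaf 0x0) (.leaf 0x0)) (.node 1 (.leaf 0x0) (.leaf 0x0))) (.node 2 (.node 1 (.leaf 0x0) (.leaf 0x0)) (.node 1 (.leaf 0x0) (.leaf 0x0))))))) (.node 32 (.node 16 (.node 8 (.node 4 (.node 2 (.node 1 (.leaf 0x0) (.leaf 0x0)) (.node 1 (.leaf 0x0) (.leaf 0x0)))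 (.node 2 (.node 1 (.leaf 0x0) (.leaf 0x0)) (.node 1 (.leaf 0x0) (.leaf 0x0)))) (.node 4 (.node 2 (.node 1 (.leaf 0x0) (.leaf 0x0)) (.node 1 (.leaf 0x0) (.leaf 0x0))) (.node 2 (.node 1 (.leaf 0x0) (.leaf 0x0)) (.node 1 (.leaf 0x0) (.leaf 0x0))))) (.node 8 (.node 4 (.node 2 (.node 1 (.leaf 0x0) (.leaf 0x0)) (.node 1 (.leaf 0x0) (.leaf 0x0))) (.node 2 (.node 1 (.leaf 0x0) (.leaf 0x0)) (.node 1 (.leaf 0x0) (.leaf 0x0)))) (.node 4 (.node 2 (.node 1 (.leaf 0x0) (.leaf 0x0)) (.node 1 (.leaf 0x0) (.leaf 0x0))) (.node 2 (.node 1 (.leaf 0x0) (.leaf 0x0)) (.node 1 (.leaf 0x0) (.leaf 0x0)))))) (.node 16 (.node 8 (.node 4 (.node 2 (.node 1 (.leaf 0x0) (.leaf 0x0)) (.node 1 (.leaf 0x0) (.leaf 0x0))) (.node 2 (.node 1 (.leaf 0x0) (.leaf 0x0)) (.node 1 (.leaf 0x0) (.leaf 0x0)))) (.node 4 (.node 2 (.node 1 (.leaf 0x0) (.leaf 0x0)) (.node 1 (.leaf 0x0) (.leaf 0x0))) (.node 2 (.node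 1 (.leaf 0x0) (.leaf 0x0)) (.node 1 (.leaf 0x0) (.leaf 0x0))))) (.node 8 (.node 4 (.node 2 (.node 1 (.leaf 0x0) (.leaf 0x0)) (.node 1 (.leaf 0x0) (.leaf 0x0))) (.node 2 (.node 1 (.leaf 0x0) (.leaf 0x0)) (.node 1 (.leaf 0x0) (.leaf 0x0)))) (.node 4 (.node 2 (.node 1 (.leaf 0x0) (.leaf 0x0)) (.node 1 (.leaf 0x0) (.leaf 0x0))) (.node 2 (.node 1 (.leaf 0x0) (.leaf 0x0)) (.node 1 (.leaf 0x0) (.leaf 0x0)))))))

def moves5_19 : Tree :=
  .node 64 (.node 32 (.node 16 (.node 8 (.node 4 (.node 2 (.node 1 (.leaf 0x0) (.leaf 0x0)) (.node 1 (.leaf 0x0) (.leaf 0x0))) (.node 2 (.node 1 (.leaf 0x0) (.leaf 0x0)) (.node 1 (.leaf 0x0) (.leaf 0x0)))) (.node 4 (.node 2 (.node 1 (.leaf 0x0) (.leaf 0x0)) (.node 1 (.leaf 0x0) (.leaf 0x0))) (.node 2 (.node 1 (.leaf 0x0) (.leaf 0x0)) (.node 1 (.leaf 0x0) (.leaf 0x0))))) (.node 8 (.node 4 (.node 2 (.node 1 (.leaf 0x0) (.leaf 0x0)) (.node 1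 (.leaf 0x0) (.leaf 0x0))) (.node 2 (.node 1 (.leaf 0x0) (.leaf 0x0)) (.node 1 (.leaf 0x0) (.leaf 0x0)))) (.node 4 (.node 2 (.node 1 (.leaf 0x0) (.leaf 0x0)) (.node 1 (.leaf 0x0) (.leaf 0x0))) (.node 2 (.node 1 (.leaf 0x0) (.leaf 0x0)) (.node 1 (.leaf 0x0) (.leaf 0x0)))))) (.node 16 (.node 8 (.node 4 (.node 2 (.node 1 (.leaf 0x0) (.leaf 0x0)) (.node 1 (.leaf 0x0) (.leaf 0x0))) (.node 2 (.node 1 (.leaf 0x0) (.leaf 0x0)) (.node 1 (.leaf 0x0) (.leaf 0x0)))) (.node 4 (.node 2 (.node 1 (.leaf 0x0) (.leaf 0x0)) (.node 1 (.leaf 0x0) (.leaf 0x0))) (.node 2 (.node 1 (.leaf 0x0) (.leaf 0x0)) (.node 1 (.leaf 0x0) (.leaf 0x0))))) (.node 8 (.node 4 (.node 2 (.node 1 (.leaf 0x0) (.leaf 0x0)) (.node 1 (.leaf 0x0) (.leaf 0x0))) (.node 2 (.node 1 (.leaf 0x0) (.leaf 0x0)) (.node 1 (.leaf 0x0) (.leaf 0x0)))) (.node 4 (.node 2 (.node 1 (.leaf 0x0) (.leaf 0x0)) (.node 1 (.leaf 0x0) (.leaf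 0x0))) (.node 2 (.node 1 (.leaf 0x0) (.leaf 0x0)) (.node 1 (.leaf 0x0) (.leaf 0x0))))))) (.node 32 (.node 16 (.node 8 (.node 4 (.node 2 (.node 1 (.leaf 0x0) (.leaf 0x0)) (.node 1 (.leaf 0x0) (.leaf 0x0))) (.node 2 (.node 1 (.leaf 0x0) (.leaf 0x0)) (.node 1 (.leaf 0x0) (.leaf 0x0)))) (.node 4 (.node 2 (.node 1 (.leaf 0x0) (.leaf 0x0)) (.node 1 (.leaf 0x0) (.leaf 0x0))) (.node 2 (.node 1 (.leaf 0x0) (.leaf 0x0)) (.node 1 (.leaf 0x0) (.leaf 0x0))))) (.node 8 (.node 4 (.node 2 (.node 1 (.leaf 0x0) (.leaf 0x0)) (.node 1 (.leaf 0x0) (.leaf 0x0))) (.node 2 (.node 1 (.leaf 0x0) (.leaf 0x0)) (.node 1 (.leaf 0x0) (.leaf 0x0)))) (.node 4 (.node 2 (.node 1 (.leaf 0x0) (.leaf 0x0)) (.node 1 (.leaf 0x0) (.leaf 0x0))) (.node 2 (.node 1 (.leaf 0x0) (.leaf 0x0)) (.node 1 (.leaf 0x0) (.leaf 0x0)))))) (.node 16 (.node 8 (.node 4 (.node 2 (.node 1 (.leaf 0x0) (.leaf 0x0)) (.node 1 (.leaf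 0x0) (.leaf 0x0))) (.node 2 (.node 1 (.leaf 0x0) (.leaf 0x0)) (.node 1 (.leaf 0x0) (.leaf 0x0)))) (.node 4 (.node 2 (.node 1 (.leaf 0x0) (.leaf 0x0)) (.node 1 (.leaf 0x0) (.leaf 0x0))) (.node 2 (.node 1 (.leaf 0x0) (.leaf 0x0)) (.node 1 (.leaf 0x0) (.leaf 0x0))))) (.node 8 (.node 4 (.node 2 (.node 1 (.leaf 0x0) (.leaf 0x0)) (.node 1 (.leaf 0x0) (.leaf 0x0))) (.node 2 (.node 1 (.leaf 0x0) (.leaf 0x0)) (.node 1 (.leaf 0x0) (.leaf 0x0)))) (.node 4 (.node 2 (.node 1 (.leaf 0x0) (.leaf 0x0)) (.node 1 (.leaf 0x0) (.leaf 0x0))) (.node 2 (.node 1 (.leaf 0x0) (.leaf 0x0)) (.node 1 (.leaf 0x0) (.leaf 0x0)))))))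

def moves5_20 : Tree :=
  .node 64 (.node 32 (.node 16 (.node 8 (.node 4 (.node 2 (.node 1 (.leaf 0x0) (.leaf 0x0)) (.node 1 (.leaf 0x0) (.leaf 0x0))) (.node 2 (.node 1 (.leaf 0x0) (.leaf 0x0)) (.node 1 (.leaf 0x0) (.leaf 0x0)))) (.node 4 (.node 2 (.node 1 (.leaf 0x0) (.leaf 0x0)) (.node 1 (.leaf 0x0) (.leaf 0x0))) (.node 2 (.node 1 (.leaf 0x0) (.leaf 0x0)) (.node 1 (.leaf 0x0) (.leaf 0x0))))) (.node 8 (.node 4 (.node 2 (.node 1 (.leaf 0x0) (.leaf 0x0)) (.node 1 (.leaf 0x0) (.leaf 0x0))) (.node 2 (.node 1 (.leaf 0x0) (.leaf 0x0)) (.node 1 (.leaf 0x0) (.leaf 0x0)))) (.node 4 (.node 2 (.node 1 (.leaf 0x0) (.leaf 0x0)) (.node 1 (.leaf 0x0) (.leaf 0x0))) (.node 2 (.node 1 (.leaf 0x0) (.leaf 0x0)) (.node 1 (.leaf 0x0) (.leaf 0x0)))))) (.node 16 (.node 8 (.node 4 (.node 2 (.node 1 (.leaf 0x0) (.leaf 0x0)) (.node 1 (.leaf 0x0) (.leaf 0x0))) (.node 2 (.node 1 (.leaf 0x0)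 (.leaf 0x0)) (.node 1 (.leaf 0x0) (.leaf 0x0)))) (.node 4 (.node 2 (.node 1 (.leaf 0x0) (.leaf 0x0)) (.node 1 (.leaf 0x0) (.leaf 0x0))) (.node 2 (.node 1 (.leaf 0x0) (.leaf 0x0)) (.node 1 (.leaf 0x0) (.leaf 0x0))))) (.node 8 (.node 4 (.node 2 (.node 1 (.leaf 0x0) (.leaf 0x0)) (.node 1 (.leaf 0x0) (.leaf 0x0))) (.node 2 (.node 1 (.leaf 0x0) (.leaf 0x0)) (.node 1 (.leaf 0x0) (.leaf 0x0)))) (.node 4 (.node 2 (.node 1 (.leaf 0x0) (.leaf 0x0)) (.node 1 (.leaf 0x0) (.leaf 0x0))) (.node 2 (.node 1 (.leaf 0x0) (.leaf 0x0)) (.node 1 (.leaf 0x0) (.leaf 0x0))))))) (.node 32 (.node 16 (.node 8 (.node 4 (.node 2 (.node 1 (.leaf 0x0) (.leaf 0x0)) (.node 1 (.leaf 0x0) (.leaf 0x0))) (.node 2 (.node 1 (.leaf 0x0) (.leaf 0x0)) (.node 1 (.leaf 0x0) (.leaf 0x0)))) (.node 4 (.node 2 (.node 1 (.leaf 0x0) (.leaf 0x0)) (.node 1 (.leaf 0x0) (.leaf 0x0))) (.node 2 (.node 1 (.leaf 0x0) (.leaf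 0x0)) (.node 1 (.leaf 0x0) (.leaf 0x0))))) (.node 8 (.node 4 (.node 2 (.node 1 (.leaf 0x0) (.leaf 0x0)) (.node 1 (.leaf 0x0) (.leaf 0x0))) (.node 2 (.node 1 (.leaf 0x0) (.leaf 0x0)) (.node 1 (.leaf 0x0) (.leaf 0x0)))) (.node 4 (.node 2 (.node 1 (.leaf 0x0) (.leaf 0x0)) (.node 1 (.leaf 0x0) (.leaf 0x0))) (.node 2 (.node 1 (.leaf 0x0) (.leaf 0x0)) (.node 1 (.leaf 0x0) (.leaf 0x0)))))) (.node 16 (.node 8 (.node 4 (.node 2 (.node 1 (.leaf 0x0) (.leaf 0x0)) (.node 1 (.leaf 0x0) (.leaf 0x0))) (.node 2 (.node 1 (.leaf 0x0) (.leaf 0x0)) (.node 1 (.leaf 0x0) (.leaf 0x0)))) (.node 4 (.node 2 (.node 1 (.leaf 0x0) (.leaf 0x0)) (.node 1 (.leaf 0x0) (.leaf 0x0))) (.node 2 (.node 1 (.leaf 0x0) (.leaf 0x0)) (.node 1 (.leaf 0x0) (.leaf 0x0))))) (.node 8 (.node 4 (.node 2 (.node 1 (.leaf 0x0) (.leaf 0x0)) (.node 1 (.leaf 0x0) (.leaf 0x0))) (.node 2 (.node 1 (.leaf 0x0) (.leaf 0x0))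 (.node 1 (.leaf 0x0) (.leaf 0x0)))) (.node 4 (.node 2 (.node 1 (.leaf 0x0) (.leaf 0x0)) (.node 1 (.leaf 0x0) (.leaf 0x0))) (.node 2 (.node 1 (.leaf 0x0) (.leaf 0x0)) (.node 1 (.leaf 0x0) (.leaf 0x0)))))))

def moves5_21 : Tree :=
  .node 64 (.node 32 (.node 16 (.node 8 (.node 4 (.node 2 (.node 1 (.leaf 0x0) (.leaf 0x0)) (.node 1 (.leaf 0x0) (.leaf 0x0))) (.node 2 (.node 1 (.leaf 0x0) (.leaf 0x0)) (.node 1 (.leaf 0x0) (.leaf 0x0)))) (.node 4 (.node 2 (.node 1 (.leaf 0x0) (.leaf 0x0)) (.node 1 (.leaf 0x0) (.leaf 0x0))) (.node 2 (.node 1 (.leaf 0x0) (.leaf 0x0)) (.node 1 (.leaf 0x0) (.leaf 0x0))))) (.node 8 (.node 4 (.node 2 (.node 1 (.leaf 0x0) (.leaf 0x0)) (.node 1 (.leaf 0x0) (.leaf 0x0))) (.node 2 (.node 1 (.leaf 0x0) (.leaf 0x0)) (.node 1 (.leaf 0x0) (.leaf 0x0)))) (.node 4 (.node 2 (.node 1 (.leaf 0x0) (.leaf 0x0)) (.node 1 (.leaf 0x0) (.leaf 0x0))) (.node 2 (.node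 1 (.leaf 0x0) (.leaf 0x0)) (.node 1 (.leaf 0x0) (.leaf 0x0)))))) (.node 16 (.node 8 (.node 4 (.node 2 (.node 1 (.leaf 0x0) (.leaf 0x0)) (.node 1 (.leaf 0x0) (.leaf 0x0))) (.node 2 (.node 1 (.leaf 0x0) (.leaf 0x0)) (.node 1 (.leaf 0x0) (.leaf 0x0)))) (.node 4 (.node 2 (.node 1 (.leaf 0x0) (.leaf 0x0)) (.node 1 (.leaf 0x0) (.leaf 0x0))) (.node 2 (.node 1 (.leaf 0x0) (.leaf 0x0)) (.node 1 (.leaf 0x0) (.leaf 0x0))))) (.node 8 (.node 4 (.node 2 (.node 1 (.leaf 0x0) (.leaf 0x0)) (.node 1 (.leaf 0x0) (.leaf 0x0))) (.node 2 (.node 1 (.leaf 0x0) (.leaf 0x0)) (.node 1 (.leaf 0x0) (.leaf 0x0)))) (.node 4 (.node 2 (.node 1 (.leaf 0x0) (.leaf 0x0)) (.node 1 (.leaf 0x0) (.leaf 0x0))) (.node 2 (.node 1 (.leaf 0x0) (.leaf 0x0)) (.node 1 (.leaf 0x0) (.leaf 0x0))))))) (.node 32 (.node 16 (.node 8 (.node 4 (.node 2 (.node 1 (.leaf 0x0) (.leaf 0x0)) (.node 1 (.leaf 0x0) (.leaf 0x0)))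 (.node 2 (.node 1 (.leaf 0x0) (.leaf 0x0)) (.node 1 (.leaf 0x0) (.leaf 0x0)))) (.node 4 (.node 2 (.node 1 (.leaf 0x0) (.leaf 0x0)) (.node 1 (.leaf 0x0) (.leaf 0x0))) (.node 2 (.node 1 (.leaf 0x0) (.leaf 0x0)) (.node 1 (.leaf 0x0) (.leaf 0x0))))) (.node 8 (.node 4 (.node 2 (.node 1 (.leaf 0x0) (.leaf 0x0)) (.node 1 (.leaf 0x0) (.leaf 0x0))) (.node 2 (.node 1 (.leaf 0x0) (.leaf 0x0)) (.node 1 (.leaf 0x0) (.leaf 0x0)))) (.node 4 (.node 2 (.node 1 (.leaf 0x0) (.leaf 0x0)) (.node 1 (.leaf 0x0) (.leaf 0x0))) (.node 2 (.node 1 (.leaf 0x0) (.leaf 0x0)) (.node 1 (.leaf 0x0) (.leaf 0x0)))))) (.node 16 (.node 8 (.node 4 (.node 2 (.node 1 (.leaf 0x0) (.leaf 0x0)) (.node 1 (.leaf 0x0) (.leaf 0x0))) (.node 2 (.node 1 (.leaf 0x0) (.leaf 0x0)) (.node 1 (.leaf 0x0) (.leaf 0x0)))) (.node 4 (.node 2 (.node 1 (.leaf 0x0) (.leaf 0x0)) (.node 1 (.leaf 0x0) (.leaf 0x0))) (.node 2 (.node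 1 (.leaf 0x0) (.leaf 0x0)) (.node 1 (.leaf 0x0) (.leaf 0x0))))) (.node 8 (.node 4 (.node 2 (.node 1 (.leaf 0x0) (.leaf 0x0)) (.node 1 (.leaf 0x0) (.leaf 0x0))) (.node 2 (.node 1 (.leaf 0x0) (.leaf 0x0)) (.node 1 (.leaf 0x0) (.leaf 0x0)))) (.node 4 (.node 2 (.node 1 (.leaf 0x0) (.leaf 0x0)) (.node 1 (.leaf 0x0) (.leaf 0x0))) (.node 2 (.node 1 (.leaf 0x0) (.leaf 0x0)) (.node 1 (.leaf 0x0) (.leaf 0x0)))))))

def moves5_22 : Tree :=
  .node 64 (.node 32 (.node 16 (.node 8 (.node 4 (.node 2 (.node 1 (.leaf 0x0) (.leaf 0x0)) (.node 1 (.leaf 0x0) (.leaf 0x0))) (.node 2 (.node 1 (.leaf 0x0) (.leaf 0x0)) (.node 1 (.leaf 0x0) (.leaf 0x0)))) (.node 4 (.node 2 (.node 1 (.leaf 0x0) (.leaf 0x0)) (.node 1 (.leaf 0x0) (.leaf 0x0))) (.node 2 (.node 1 (.leaf 0x0) (.leaf 0x0)) (.node 1 (.leaf 0x0) (.leaf 0x0))))) (.node 8 (.node 4 (.node 2 (.node 1 (.leaf 0x0) (.leaf 0x0)) (.node 1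 (.leaf 0x0) (.leaf 0x0))) (.node 2 (.node 1 (.leaf 0x0) (.leaf 0x0)) (.node 1 (.leaf 0x0) (.leaf 0x0)))) (.node 4 (.node 2 (.node 1 (.leaf 0x0) (.leaf 0x0)) (.node 1 (.leaf 0x0) (.leaf 0x0))) (.node 2 (.node 1 (.leaf 0x0) (.leaf 0x0)) (.node 1 (.leaf 0x0) (.leaf 0x0)))))) (.node 16 (.node 8 (.node 4 (.node 2 (.node 1 (.leaf 0x0) (.leaf 0x0)) (.node 1 (.leaf 0x0) (.leaf 0x0))) (.node 2 (.node 1 (.leaf 0x0) (.leaf 0x0)) (.node 1 (.leaf 0x0) (.leaf 0x0)))) (.node 4 (.node 2 (.node 1 (.leaf 0x0) (.leaf 0x0)) (.node 1 (.leaf 0x0) (.leaf 0x0))) (.node 2 (.node 1 (.leaf 0x0) (.leaf 0x0)) (.node 1 (.leaf 0x0) (.leaf 0x0))))) (.node 8 (.node 4 (.node 2 (.node 1 (.leaf 0x0) (.leaf 0x0)) (.node 1 (.leaf 0x0) (.leaf 0x0))) (.node 2 (.node 1 (.leaf 0x0) (.leaf 0x0)) (.node 1 (.leaf 0x0) (.leaf 0x0)))) (.node 4 (.node 2 (.node 1 (.leaf 0x0) (.leaf 0x0)) (.node 1 (.leaf 0x0) (.leaf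 0x0))) (.node 2 (.node 1 (.leaf 0x0) (.leaf 0x0)) (.node 1 (.leaf 0x0) (.leaf 0x0))))))) (.node 32 (.node 16 (.node 8 (.node 4 (.node 2 (.node 1 (.leaf 0x0) (.leaf 0x0)) (.node 1 (.leaf 0x0) (.leaf 0x0))) (.node 2 (.node 1 (.leaf 0x0) (.leaf 0x0)) (.node 1 (.leaf 0x0) (.leaf 0x0)))) (.node 4 (.node 2 (.node 1 (.leaf 0x0) (.leaf 0x0)) (.node 1 (.leaf 0x0) (.leaf 0x0))) (.node 2 (.node 1 (.leaf 0x0) (.leaf 0x0)) (.node 1 (.leaf 0x0) (.leaf 0x0))))) (.node 8 (.node 4 (.node 2 (.node 1 (.leaf 0x0) (.leaf 0x0)) (.node 1 (.leaf 0x0) (.leaf 0x0))) (.node 2 (.node 1 (.leaf 0x0) (.leaf 0x0)) (.node 1 (.leaf 0x0) (.leaf 0x0)))) (.node 4 (.node 2 (.node 1 (.leaf 0x0) (.leaf 0x0)) (.node 1 (.leaf 0x0) (.leaf 0x0))) (.node 2 (.node 1 (.leaf 0x0) (.leaf 0x0)) (.node 1 (.leaf 0x0) (.leaf 0x0)))))) (.node 16 (.node 8 (.node 4 (.node 2 (.node 1 (.leaf 0x0) (.leaf 0x0)) (.node 1 (.leaf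 0x0) (.leaf 0x0))) (.node 2 (.node 1 (.leaf 0x0) (.leaf 0x0)) (.node 1 (.leaf 0x0) (.leaf 0x0)))) (.node 4 (.node 2 (.node 1 (.leaf 0x0) (.leaf 0x0)) (.node 1 (.leaf 0x0) (.leaf 0x0))) (.node 2 (.node 1 (.leaf 0x0) (.leaf 0x0)) (.node 1 (.leaf 0x0) (.leaf 0x0))))) (.node 8 (.node 4 (.node 2 (.node 1 (.leaf 0x0) (.leaf 0x0)) (.node 1 (.leaf 0x0) (.leaf 0x0))) (.node 2 (.node 1 (.leaf 0x0) (.leaf 0x0)) (.node 1 (.leaf 0x0) (.leaf 0x0)))) (.node 4 (.node 2 (.node 1 (.leaf 0x0) (.leaf 0x0)) (.node 1 (.leaf 0x0) (.leaf 0x0))) (.node 2 (.node 1 (.leaf 0x0) (.leaf 0x0)) (.node 1 (.leaf 0x0) (.leaf 0x0)))))))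

def moves5_23 : Tree :=
  .node 64 (.node 32 (.node 16 (.node 8 (.node 4 (.node 2 (.node 1 (.leaf 0x0) (.leaf 0x0)) (.node 1 (.leaf 0x0) (.leaf 0x0))) (.node 2 (.node 1 (.leaf 0x0) (.leaf 0x0)) (.node 1 (.leaf 0x0) (.leaf 0x0)))) (.node 4 (.node 2 (.node 1 (.leaf 0x0) (.leaf 0x0)) (.node 1 (.leaf 0x0) (.leaf 0x0))) (.node 2 (.node 1 (.leaf 0x0) (.leaf 0x0)) (.node 1 (.leaf 0x0) (.leaf 0x0))))) (.node 8 (.node 4 (.node 2 (.node 1 (.leaf 0x0) (.leaf 0x0)) (.node 1 (.leaf 0x0) (.leaf 0x0))) (.node 2 (.node 1 (.leaf 0x0) (.leaf 0x0)) (.node 1 (.leaf 0x0) (.leaf 0x0)))) (.node 4 (.node 2 (.node 1 (.leaf 0x0) (.leaf 0x0)) (.node 1 (.leaf 0x0) (.leaf 0x0))) (.node 2 (.node 1 (.leaf 0x0) (.leaf 0x0)) (.node 1 (.leaf 0x0) (.leaf 0x0)))))) (.node 16 (.node 8 (.node 4 (.node 2 (.node 1 (.leaf 0x0) (.leaf 0x0)) (.node 1 (.leaf 0x0) (.leaf 0x0))) (.node 2 (.node 1 (.leaf 0x0)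 (.leaf 0x0)) (.node 1 (.leaf 0x0) (.leaf 0x0)))) (.node 4 (.node 2 (.node 1 (.leaf 0x0) (.leaf 0x0)) (.node 1 (.leaf 0x0) (.leaf 0x0))) (.node 2 (.node 1 (.leaf 0x0) (.leaf 0x0)) (.node 1 (.leaf 0x0) (.leaf 0x0))))) (.node 8 (.node 4 (.node 2 (.node 1 (.leaf 0x0) (.leaf 0x0)) (.node 1 (.leaf 0x0) (.leaf 0x0))) (.node 2 (.node 1 (.leaf 0x0) (.leaf 0x0)) (.node 1 (.leaf 0x0) (.leaf 0x0)))) (.node 4 (.node 2 (.node 1 (.leaf 0x0) (.leaf 0x0)) (.node 1 (.leaf 0x0) (.leaf 0x0))) (.node 2 (.node 1 (.leaf 0x0) (.leaf 0x0)) (.node 1 (.leaf 0x0) (.leaf 0x0))))))) (.node 32 (.node 16 (.node 8 (.node 4 (.node 2 (.node 1 (.leaf 0x0) (.leaf 0x0)) (.node 1 (.leaf 0x0) (.leaf 0x0))) (.node 2 (.node 1 (.leaf 0x0) (.leaf 0x0)) (.node 1 (.leaf 0x0) (.leaf 0x0)))) (.node 4 (.node 2 (.node 1 (.leaf 0x0) (.leaf 0x0)) (.node 1 (.leaf 0x0) (.leaf 0x0))) (.node 2 (.node 1 (.leaf 0x0) (.leaf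 0x0)) (.node 1 (.leaf 0x0) (.leaf 0x0))))) (.node 8 (.node 4 (.node 2 (.node 1 (.leaf 0x0) (.leaf 0x0)) (.node 1 (.leaf 0x0) (.leaf 0x0))) (.node 2 (.node 1 (.leaf 0x0) (.leaf 0x0)) (.node 1 (.leaf 0x0) (.leaf 0x0)))) (.node 4 (.node 2 (.node 1 (.leaf 0x0) (.leaf 0x0)) (.node 1 (.leaf 0x0) (.leaf 0x0))) (.node 2 (.node 1 (.leaf 0x0) (.leaf 0x0)) (.node 1 (.leaf 0x0) (.leaf 0x0)))))) (.node 16 (.node 8 (.node 4 (.node 2 (.node 1 (.leaf 0x0) (.leaf 0x0)) (.node 1 (.leaf 0x0) (.leaf 0x0))) (.node 2 (.node 1 (.leaf 0x0) (.leaf 0x0)) (.node 1 (.leaf 0x0) (.leaf 0x0)))) (.node 4 (.node 2 (.node 1 (.leaf 0x0) (.leaf 0x0)) (.node 1 (.leaf 0x0) (.leaf 0x0))) (.node 2 (.node 1 (.leaf 0x0) (.leaf 0x0)) (.node 1 (.leaf 0x0) (.leaf 0x0))))) (.node 8 (.node 4 (.node 2 (.node 1 (.leaf 0x0) (.leaf 0x0)) (.node 1 (.leaf 0x0) (.leaf 0x0))) (.node 2 (.node 1 (.leaf 0x0) (.leaf 0x0))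 (.node 1 (.leaf 0x0) (.leaf 0x0)))) (.node 4 (.node 2 (.node 1 (.leaf 0x0) (.leaf 0x0)) (.node 1 (.leaf 0x0) (.leaf 0x0))) (.node 2 (.node 1 (.leaf 0x0) (.leaf 0x0)) (.node 1 (.leaf 0x0) (.leaf 0x0)))))))

def moves5_24 : Tree :=
  .node 64 (.node 32 (.node 16 (.node 8 (.node 4 (.node 2 (.node 1 (.leaf 0x0) (.leaf 0x0)) (.node 1 (.leaf 0x0) (.leaf 0x0))) (.node 2 (.node 1 (.leaf 0x0) (.leaf 0x0)) (.node 1 (.leaf 0x0) (.leaf 0x0)))) (.node 4 (.node 2 (.node 1 (.leaf 0x0) (.leaf 0x0)) (.node 1 (.leaf 0x0) (.leaf 0x0))) (.node 2 (.node 1 (.leaf 0x0) (.leaf 0x0)) (.node 1 (.leaf 0x0) (.leaf 0x0))))) (.node 8 (.node 4 (.node 2 (.node 1 (.leaf 0x0) (.leaf 0x0)) (.node 1 (.leaf 0x0) (.leaf 0x0))) (.node 2 (.node 1 (.leaf 0x0) (.leaf 0x0)) (.node 1 (.leaf 0x0) (.leaf 0x0)))) (.node 4 (.node 2 (.node 1 (.leaf 0x0) (.leaf 0x0)) (.node 1 (.leaf 0x0) (.leaf 0x0))) (.node 2 (.node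 1 (.leaf 0x0) (.leaf 0x0)) (.node 1 (.leaf 0x0) (.leaf 0x0)))))) (.node 16 (.node 8 (.node 4 (.node 2 (.node 1 (.leaf 0x0) (.leaf 0x0)) (.node 1 (.leaf 0x0) (.leaf 0x0))) (.node 2 (.node 1 (.leaf 0x0) (.leaf 0x0)) (.node 1 (.leaf 0x0) (.leaf 0x0)))) (.node 4 (.node 2 (.node 1 (.leaf 0x0) (.leaf 0x0)) (.node 1 (.leaf 0x0) (.leaf 0x0))) (.node 2 (.node 1 (.leaf 0x0) (.leaf 0x0)) (.node 1 (.leaf 0x0) (.leaf 0x0))))) (.node 8 (.node 4 (.node 2 (.node 1 (.leaf 0x0) (.leaf 0x0)) (.node 1 (.leaf 0x0) (.leaf 0x0))) (.node 2 (.node 1 (.leaf 0x0) (.leaf 0x0)) (.node 1 (.leaf 0x0) (.leaf 0x0)))) (.node 4 (.node 2 (.node 1 (.leaf 0x0) (.leaf 0x0)) (.node 1 (.leaf 0x0) (.leaf 0x0))) (.node 2 (.node 1 (.leaf 0x0) (.leaf 0x0)) (.node 1 (.leaf 0x0) (.leaf 0x0))))))) (.node 32 (.node 16 (.node 8 (.node 4 (.node 2 (.node 1 (.leaf 0x0) (.leaf 0x0)) (.node 1 (.leaf 0x0) (.leaf 0x0)))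 (.node 2 (.node 1 (.leaf 0x0) (.leaf 0x0)) (.node 1 (.leaf 0x0) (.leaf 0x0)))) (.node 4 (.node 2 (.node 1 (.leaf 0x0) (.leaf 0x0)) (.node 1 (.leaf 0x0) (.leaf 0x0))) (.node 2 (.node 1 (.leaf 0x0) (.leaf 0x0)) (.node 1 (.leaf 0x0) (.leaf 0x0))))) (.node 8 (.node 4 (.node 2 (.node 1 (.leaf 0x0) (.leaf 0x0)) (.node 1 (.leaf 0x0) (.leaf 0x0))) (.node 2 (.node 1 (.leaf 0x0) (.leaf 0x0)) (.node 1 (.leaf 0x0) (.leaf 0x0)))) (.node 4 (.node 2 (.node 1 (.leaf 0x0) (.leaf 0x0)) (.node 1 (.leaf 0x0) (.leaf 0x0))) (.node 2 (.node 1 (.leaf 0x0) (.leaf 0x0)) (.node 1 (.leaf 0x0) (.leaf 0x0)))))) (.node 16 (.node 8 (.node 4 (.node 2 (.node 1 (.leaf 0x0) (.leaf 0x0)) (.node 1 (.leaf 0x0) (.leaf 0x0))) (.node 2 (.node 1 (.leaf 0x0) (.leaf 0x0)) (.node 1 (.leaf 0x0) (.leaf 0x0)))) (.node 4 (.node 2 (.node 1 (.leaf 0x0) (.leaf 0x0)) (.node 1 (.leaf 0x0) (.leaf 0x0))) (.node 2 (.node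 1 (.leaf 0x0) (.leaf 0x0)) (.node 1 (.leaf 0x0) (.leaf 0x0))))) (.node 8 (.node 4 (.node 2 (.node 1 (.leaf 0x0) (.leaf 0x0)) (.node 1 (.leaf 0x0) (.leaf 0x0))) (.node 2 (.node 1 (.leaf 0x0) (.leaf 0x0)) (.node 1 (.leaf 0x0) (.leaf 0x0)))) (.node 4 (.node 2 (.node 1 (.leaf 0x0) (.leaf 0x0)) (.node 1 (.leaf 0x0) (.leaf 0x0))) (.node 2 (.node 1 (.leaf 0x0) (.leaf 0x0)) (.node 1 (.leaf 0x0) (.leaf 0x0)))))))

def moves5_25 : Tree :=
  .node 64 (.node 32 (.node 16 (.node 8 (.node 4 (.node 2 (.node 1 (.leaf 0x0) (.leaf 0x0)) (.node 1 (.leaf 0x0) (.leaf 0x0))) (.node 2 (.node 1 (.leaf 0x0) (.leaf 0x0)) (.node 1 (.leaf 0x0) (.leaf 0x0)))) (.node 4 (.node 2 (.node 1 (.leaf 0x0) (.leaf 0x0)) (.node 1 (.leaf 0x0) (.leaf 0x0))) (.node 2 (.node 1 (.leaf 0x0) (.leaf 0x0)) (.node 1 (.leaf 0x0) (.leaf 0x0))))) (.node 8 (.node 4 (.node 2 (.node 1 (.leaf 0x0) (.leaf 0x0)) (.node 1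 (.leaf 0x0) (.leaf 0x0))) (.node 2 (.node 1 (.leaf 0x0) (.leaf 0x0)) (.node 1 (.leaf 0x0) (.leaf 0x0)))) (.node 4 (.node 2 (.node 1 (.leaf 0x0) (.leaf 0x0)) (.node 1 (.leaf 0x0) (.leaf 0x0))) (.node 2 (.node 1 (.leaf 0x0) (.leaf 0x0)) (.node 1 (.leaf 0x0) (.leaf 0x0)))))) (.node 16 (.node 8 (.node 4 (.node 2 (.node 1 (.leaf 0x0) (.leaf 0x0)) (.node 1 (.leaf 0x0) (.leaf 0x0))) (.node 2 (.node 1 (.leaf 0x0) (.leaf 0x0)) (.node 1 (.leaf 0x0) (.leaf 0x0)))) (.node 4 (.node 2 (.node 1 (.leaf 0x0) (.leaf 0x0)) (.node 1 (.leaf 0x0) (.leaf 0x0))) (.node 2 (.node 1 (.leaf 0x0) (.leaf 0x0)) (.node 1 (.leaf 0x0) (.leaf 0x0))))) (.node 8 (.node 4 (.node 2 (.node 1 (.leaf 0x0) (.leaf 0x0)) (.node 1 (.leaf 0x0) (.leaf 0x0))) (.node 2 (.node 1 (.leaf 0x0) (.leaf 0x0)) (.node 1 (.leaf 0x0) (.leaf 0x0)))) (.node 4 (.node 2 (.node 1 (.leaf 0x0) (.leaf 0x0)) (.node 1 (.leaf 0x0) (.leaf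 0x0))) (.node 2 (.node 1 (.leaf 0x0) (.leaf 0x0)) (.node 1 (.leaf 0x0) (.leaf 0x0))))))) (.node 32 (.node 16 (.node 8 (.node 4 (.node 2 (.node 1 (.leaf 0x0) (.leaf 0x0)) (.node 1 (.leaf 0x0) (.leaf 0x0))) (.node 2 (.node 1 (.leaf 0x0) (.leaf 0x0)) (.node 1 (.leaf 0x0) (.leaf 0x0)))) (.node 4 (.node 2 (.node 1 (.leaf 0x0) (.leaf 0x0)) (.node 1 (.leaf 0x0) (.leaf 0x0))) (.node 2 (.node 1 (.leaf 0x0) (.leaf 0x0)) (.node 1 (.leaf 0x0) (.leaf 0x0))))) (.node 8 (.node 4 (.node 2 (.node 1 (.leaf 0x0) (.leaf 0x0)) (.node 1 (.leaf 0x0) (.leaf 0x0))) (.node 2 (.node 1 (.leaf 0x0) (.leaf 0x0)) (.node 1 (.leaf 0x0) (.leaf 0x0)))) (.node 4 (.node 2 (.node 1 (.leaf 0x0) (.leaf 0x0)) (.node 1 (.leaf 0x0) (.leaf 0x0))) (.node 2 (.node 1 (.leaf 0x0) (.leaf 0x0)) (.node 1 (.leaf 0x0) (.leaf 0x0)))))) (.node 16 (.node 8 (.node 4 (.node 2 (.node 1 (.leaf 0x0) (.leaf 0x0)) (.node 1 (.leaf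 0x0) (.leaf 0x0))) (.node 2 (.node 1 (.leaf 0x0) (.leaf 0x0)) (.node 1 (.leaf 0x0) (.leaf 0x0)))) (.node 4 (.node 2 (.node 1 (.leaf 0x0) (.leaf 0x0)) (.node 1 (.leaf 0x0) (.leaf 0x0))) (.node 2 (.node 1 (.leaf 0x0) (.leaf 0x0)) (.node 1 (.leaf 0x0) (.leaf 0x0))))) (.node 8 (.node 4 (.node 2 (.node 1 (.leaf 0x0) (.leaf 0x0)) (.node 1 (.leaf 0x0) (.leaf 0x0))) (.node 2 (.node 1 (.leaf 0x0) (.leaf 0x0)) (.node 1 (.leaf 0x0) (.leaf 0x0)))) (.node 4 (.node 2 (.node 1 (.leaf 0x0) (.leaf 0x0)) (.node 1 (.leaf 0x0) (.leaf 0x0))) (.node 2 (.node 1 (.leaf 0x0) (.leaf 0x0)) (.node 1 (.leaf 0x0) (.leaf 0x0)))))))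

def moves5_26 : Tree :=
  .node 64 (.node 32 (.node 16 (.node 8 (.node 4 (.node 2 (.node 1 (.leaf 0x0) (.leaf 0x0)) (.node 1 (.leaf 0x0) (.leaf 0x0))) (.node 2 (.node 1 (.leaf 0x0) (.leaf 0x0)) (.node 1 (.leaf 0x0) (.leaf 0x0)))) (.node 4 (.node 2 (.node 1 (.leaf 0x0) (.leaf 0x0)) (.node 1 (.leaf 0x0) (.leaf 0x0))) (.node 2 (.node 1 (.leaf 0x0) (.leaf 0x0)) (.node 1 (.leaf 0x0) (.leaf 0x0))))) (.node 8 (.node 4 (.node 2 (.node 1 (.leaf 0x0) (.leaf 0x0)) (.node 1 (.leaf 0x0) (.leaf 0x0))) (.node 2 (.node 1 (.leaf 0x0) (.leaf 0x0)) (.node 1 (.leaf 0x0) (.leaf 0x0)))) (.node 4 (.node 2 (.node 1 (.leaf 0x0) (.leaf 0x0)) (.node 1 (.leaf 0x0) (.leaf 0x0))) (.node 2 (.node 1 (.leaf 0x0) (.leaf 0x0)) (.node 1 (.leaf 0x0) (.leaf 0x0)))))) (.node 16 (.node 8 (.node 4 (.node 2 (.node 1 (.leaf 0x0) (.leaf 0x0)) (.node 1 (.leaf 0x0) (.leaf 0x0))) (.node 2 (.node 1 (.leaf 0x0)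 (.leaf 0x0)) (.node 1 (.leaf 0x0) (.leaf 0x0)))) (.node 4 (.node 2 (.node 1 (.leaf 0x0) (.leaf 0x0)) (.node 1 (.leaf 0x0) (.leaf 0x0))) (.node 2 (.node 1 (.leaf 0x0) (.leaf 0x0)) (.node 1 (.leaf 0x0) (.leaf 0x0))))) (.node 8 (.node 4 (.node 2 (.node 1 (.leaf 0x0) (.leaf 0x0)) (.node 1 (.leaf 0x0) (.leaf 0x0))) (.node 2 (.node 1 (.leaf 0x0) (.leaf 0x0)) (.node 1 (.leaf 0x0) (.leaf 0x0)))) (.node 4 (.node 2 (.node 1 (.leaf 0x0) (.leaf 0x0)) (.node 1 (.leaf 0x0) (.leaf 0x0))) (.node 2 (.node 1 (.leaf 0x0) (.leaf 0x0)) (.node 1 (.leaf 0x0) (.leaf 0x0))))))) (.node 32 (.node 16 (.node 8 (.node 4 (.node 2 (.node 1 (.leaf 0x0) (.leaf 0x0)) (.node 1 (.leaf 0x0) (.leaf 0x0))) (.node 2 (.node 1 (.leaf 0x0) (.leaf 0x0)) (.node 1 (.leaf 0x0) (.leaf 0x0)))) (.node 4 (.node 2 (.node 1 (.leaf 0x0) (.leaf 0x0)) (.node 1 (.leaf 0x0) (.leaf 0x0))) (.node 2 (.node 1 (.leaf 0x0) (.leaf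 0x0)) (.node 1 (.leaf 0x0) (.leaf 0x0))))) (.node 8 (.node 4 (.node 2 (.node 1 (.leaf 0x0) (.leaf 0x0)) (.node 1 (.leaf 0x0) (.leaf 0x0))) (.node 2 (.node 1 (.leaf 0x0) (.leaf 0x0)) (.node 1 (.leaf 0x0) (.leaf 0x0)))) (.node 4 (.node 2 (.node 1 (.leaf 0x0) (.leaf 0x0)) (.node 1 (.leaf 0x0) (.leaf 0x0))) (.node 2 (.node 1 (.leaf 0x0) (.leaf 0x0)) (.node 1 (.leaf 0x0) (.leaf 0x0)))))) (.node 16 (.node 8 (.node 4 (.node 2 (.node 1 (.leaf 0x0) (.leaf 0x0)) (.node 1 (.leaf 0x0) (.leaf 0x0))) (.node 2 (.node 1 (.leaf 0x0) (.leaf 0x0)) (.node 1 (.leaf 0x0) (.leaf 0x0)))) (.node 4 (.node 2 (.node 1 (.leaf 0x0) (.leaf 0x0)) (.node 1 (.leaf 0x0) (.leaf 0x0))) (.node 2 (.node 1 (.leaf 0x0) (.leaf 0x0)) (.node 1 (.leaf 0x0) (.leaf 0x0))))) (.node 8 (.node 4 (.node 2 (.node 1 (.leaf 0x0) (.leaf 0x0)) (.node 1 (.leaf 0x0) (.leaf 0x0))) (.node 2 (.node 1 (.leaf 0x0) (.leaf 0x0))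 (.node 1 (.leaf 0x0) (.leaf 0x0)))) (.node 4 (.node 2 (.node 1 (.leaf 0x0) (.leaf 0x0)) (.node 1 (.leaf 0x0) (.leaf 0x0))) (.node 2 (.node 1 (.leaf 0x0) (.leaf 0x0)) (.node 1 (.leaf 0x0) (.leaf 0x0)))))))

def moves5_27 : Tree :=
  .node 64 (.node 32 (.node 16 (.node 8 (.node 4 (.node 2 (.node 1 (.leaf 0x0) (.leaf 0x0)) (.node 1 (.leaf 0x0) (.leaf 0x0))) (.node 2 (.node 1 (.leaf 0x0) (.leaf 0x0)) (.node 1 (.leaf 0x0) (.leaf 0x0)))) (.node 4 (.node 2 (.node 1 (.leaf 0x0) (.leaf 0x0)) (.node 1 (.leaf 0x0) (.leaf 0x0))) (.node 2 (.node 1 (.leaf 0x0) (.leaf 0x0)) (.node 1 (.leaf 0x0) (.leaf 0x0))))) (.node 8 (.node 4 (.node 2 (.node 1 (.leaf 0x0) (.leaf 0x0)) (.node 1 (.leaf 0x0) (.leaf 0x0))) (.node 2 (.node 1 (.leaf 0x0) (.leaf 0x0)) (.node 1 (.leaf 0x0) (.leaf 0x0)))) (.node 4 (.node 2 (.node 1 (.leaf 0x0) (.leaf 0x0)) (.node 1 (.leaf 0x0) (.leaf 0x0))) (.node 2 (.node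 1 (.leaf 0x0) (.leaf 0x0)) (.node 1 (.leaf 0x0) (.leaf 0x0)))))) (.node 16 (.node 8 (.node 4 (.node 2 (.node 1 (.leaf 0x0) (.leaf 0x0)) (.node 1 (.leaf 0x0) (.leaf 0x0))) (.node 2 (.node 1 (.leaf 0x0) (.leaf 0x0)) (.node 1 (.leaf 0x0) (.leaf 0x0)))) (.node 4 (.node 2 (.node 1 (.leaf 0x0) (.leaf 0x0)) (.node 1 (.leaf 0x0) (.leaf 0x0))) (.node 2 (.node 1 (.leaf 0x0) (.leaf 0x0)) (.node 1 (.leaf 0x0) (.leaf 0x0))))) (.node 8 (.node 4 (.node 2 (.node 1 (.leaf 0x0) (.leaf 0x0)) (.node 1 (.leaf 0x0) (.leaf 0x0))) (.node 2 (.node 1 (.leaf 0x0) (.leaf 0x0)) (.node 1 (.leaf 0x0) (.leaf 0x0)))) (.node 4 (.node 2 (.node 1 (.leaf 0x0) (.leaf 0x0)) (.node 1 (.leaf 0x0) (.leaf 0x0))) (.node 2 (.node 1 (.leaf 0x0) (.leaf 0x0)) (.node 1 (.leaf 0x0) (.leaf 0x0))))))) (.node 32 (.node 16 (.node 8 (.node 4 (.node 2 (.node 1 (.leaf 0x0) (.leaf 0x0)) (.node 1 (.leaf 0x0) (.leaf 0x0)))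 (.node 2 (.node 1 (.leaf 0x0) (.leaf 0x0)) (.node 1 (.leaf 0x0) (.leaf 0x0)))) (.node 4 (.node 2 (.node 1 (.leaf 0x0) (.leaf 0x0)) (.node 1 (.leaf 0x0) (.leaf 0x0))) (.node 2 (.node 1 (.leaf 0x0) (.leaf 0x0)) (.node 1 (.leaf 0x0) (.leaf 0x0))))) (.node 8 (.node 4 (.node 2 (.node 1 (.leaf 0x0) (.leaf 0x0)) (.node 1 (.leaf 0x0) (.leaf 0x0))) (.node 2 (.node 1 (.leaf 0x0) (.leaf 0x0)) (.node 1 (.leaf 0x0) (.leaf 0x0)))) (.node 4 (.node 2 (.node 1 (.leaf 0x0) (.leaf 0x0)) (.node 1 (.leaf 0x0) (.leaf 0x0))) (.node 2 (.node 1 (.leaf 0x0) (.leaf 0x0)) (.node 1 (.leaf 0x0) (.leaf 0x0)))))) (.node 16 (.node 8 (.node 4 (.node 2 (.node 1 (.leaf 0x0) (.leaf 0x0)) (.node 1 (.leaf 0x0) (.leaf 0x0))) (.node 2 (.node 1 (.leaf 0x0) (.leaf 0x0)) (.node 1 (.leaf 0x0) (.leaf 0x0)))) (.node 4 (.node 2 (.node 1 (.leaf 0x0) (.leaf 0x0)) (.node 1 (.leaf 0x0) (.leaf 0x0))) (.node 2 (.node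 1 (.leaf 0x0) (.leaf 0x0)) (.node 1 (.leaf 0x0) (.leaf 0x0))))) (.node 8 (.node 4 (.node 2 (.node 1 (.leaf 0x0) (.leaf 0x0)) (.node 1 (.leaf 0x0) (.leaf 0x0))) (.node 2 (.node 1 (.leaf 0x0) (.leaf 0x0)) (.node 1 (.leaf 0x0) (.leaf 0x0)))) (.node 4 (.node 2 (.node 1 (.leaf 0x0) (.leaf 0x0)) (.node 1 (.leaf 0x0) (.leaf 0x0))) (.node 2 (.node 1 (.leaf 0x0) (.leaf 0x0)) (.node 1 (.leaf 0x0) (.leaf 0x0)))))))

def moves5_28 : Tree :=
  .node 64 (.node 32 (.node 16 (.node 8 (.node 4 (.node 2 (.node 1 (.leaf 0x0) (.leaf 0x0)) (.node 1 (.leaf 0x0) (.leaf 0x0))) (.node 2 (.node 1 (.leaf 0x0) (.leaf 0x0)) (.node 1 (.leaf 0x0) (.leaf 0x0)))) (.node 4 (.node 2 (.node 1 (.leaf 0x0) (.leaf 0x0)) (.node 1 (.leaf 0x0) (.leaf 0x0))) (.node 2 (.node 1 (.leaf 0x0) (.leaf 0x0)) (.node 1 (.leaf 0x0) (.leaf 0x0))))) (.node 8 (.node 4 (.node 2 (.node 1 (.leaf 0x0) (.leaf 0x0)) (.node 1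 (.leaf 0x0) (.leaf 0x0))) (.node 2 (.node 1 (.leaf 0x0) (.leaf 0x0)) (.node 1 (.leaf 0x0) (.leaf 0x0)))) (.node 4 (.node 2 (.node 1 (.leaf 0x0) (.leaf 0x0)) (.node 1 (.leaf 0x0) (.leaf 0x0))) (.node 2 (.node 1 (.leaf 0x0) (.leaf 0x0)) (.node 1 (.leaf 0x0) (.leaf 0x0)))))) (.node 16 (.node 8 (.node 4 (.node 2 (.node 1 (.leaf 0x0) (.leaf 0x0)) (.node 1 (.leaf 0x0) (.leaf 0x0))) (.node 2 (.node 1 (.leaf 0x0) (.leaf 0x0)) (.node 1 (.leaf 0x0) (.leaf 0x0)))) (.node 4 (.node 2 (.node 1 (.leaf 0x0) (.leaf 0x0)) (.node 1 (.leaf 0x0) (.leaf 0x0))) (.node 2 (.node 1 (.leaf 0x0) (.leaf 0x0)) (.node 1 (.leaf 0x0) (.leaf 0x0))))) (.node 8 (.node 4 (.node 2 (.node 1 (.leaf 0x0) (.leaf 0x0)) (.node 1 (.leaf 0x0) (.leaf 0x0))) (.node 2 (.node 1 (.leaf 0x0) (.leaf 0x0)) (.node 1 (.leaf 0x0) (.leaf 0x0)))) (.node 4 (.node 2 (.node 1 (.leaf 0x0) (.leaf 0x0)) (.node 1 (.leaf 0x0) (.leaf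 0x0))) (.node 2 (.node 1 (.leaf 0x0) (.leaf 0x0)) (.node 1 (.leaf 0x0) (.leaf 0x0))))))) (.node 32 (.node 16 (.node 8 (.node 4 (.node 2 (.node 1 (.leaf 0x0) (.leaf 0x0)) (.node 1 (.leaf 0x0) (.leaf 0x0))) (.node 2 (.node 1 (.leaf 0x0) (.leaf 0x0)) (.node 1 (.leaf 0x0) (.leaf 0x0)))) (.node 4 (.node 2 (.node 1 (.leaf 0x0) (.leaf 0x0)) (.node 1 (.leaf 0x0) (.leaf 0x0))) (.node 2 (.node 1 (.leaf 0x0) (.leaf 0x0)) (.node 1 (.leaf 0x0) (.leaf 0x0))))) (.node 8 (.node 4 (.node 2 (.node 1 (.leaf 0x0) (.leaf 0x0)) (.node 1 (.leaf 0x0) (.leaf 0x0))) (.node 2 (.node 1 (.leaf 0x0) (.leaf 0x0)) (.node 1 (.leaf 0x0) (.leaf 0x0)))) (.node 4 (.node 2 (.node 1 (.leaf 0x0) (.leaf 0x0)) (.node 1 (.leaf 0x0) (.leaf 0x0))) (.node 2 (.node 1 (.leaf 0x0) (.leaf 0x0)) (.node 1 (.leaf 0x0) (.leaf 0x0)))))) (.node 16 (.node 8 (.node 4 (.node 2 (.node 1 (.leaf 0x0) (.leaf 0x0)) (.node 1 (.leaf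 0x0) (.leaf 0x0))) (.node 2 (.node 1 (.leaf 0x0) (.leaf 0x0)) (.node 1 (.leaf 0x0) (.leaf 0x0)))) (.node 4 (.node 2 (.node 1 (.leaf 0x0) (.leaf 0x0)) (.node 1 (.leaf 0x0) (.leaf 0x0))) (.node 2 (.node 1 (.leaf 0x0) (.leaf 0x0)) (.node 1 (.leaf 0x0) (.leaf 0x0))))) (.node 8 (.node 4 (.node 2 (.node 1 (.leaf 0x0) (.leaf 0x0)) (.node 1 (.leaf 0x0) (.leaf 0x0))) (.node 2 (.node 1 (.leaf 0x0) (.leaf 0x0)) (.node 1 (.leaf 0x0) (.leaf 0x0)))) (.node 4 (.node 2 (.node 1 (.leaf 0x0) (.leaf 0x0)) (.node 1 (.leaf 0x0) (.leaf 0x0))) (.node 2 (.node 1 (.leaf 0x0) (.leaf 0x0)) (.node 1 (.leaf 0x0) (.leaf 0x0)))))))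

def moves5_29 : Tree :=
  .node 64 (.node 32 (.node 16 (.node 8 (.node 4 (.node 2 (.node 1 (.leaf 0x0) (.leaf 0x0)) (.node 1 (.leaf 0x0) (.leaf 0x0))) (.node 2 (.node 1 (.leaf 0x0) (.leaf 0x0)) (.node 1 (.leaf 0x0) (.leaf 0x0)))) (.node 4 (.node 2 (.node 1 (.leaf 0x0) (.leaf 0x0)) (.node 1 (.leaf 0x0) (.leaf 0x0))) (.node 2 (.node 1 (.leaf 0x0) (.leaf 0x0)) (.node 1 (.leaf 0x0) (.leaf 0x0))))) (.node 8 (.node 4 (.node 2 (.node 1 (.leaf 0x0) (.leaf 0x0)) (.node 1 (.leaf 0x0) (.leaf 0x0))) (.node 2 (.node 1 (.leaf 0x0) (.leaf 0x0)) (.node 1 (.leaf 0x0) (.leaf 0x0)))) (.node 4 (.node 2 (.node 1 (.leaf 0x0) (.leaf 0x0)) (.node 1 (.leaf 0x0) (.leaf 0x0))) (.node 2 (.node 1 (.leaf 0x0) (.leaf 0x0)) (.node 1 (.leaf 0x0) (.leaf 0x0)))))) (.node 16 (.node 8 (.node 4 (.node 2 (.node 1 (.leaf 0x0) (.leaf 0x0)) (.node 1 (.leaf 0x0) (.leaf 0x0))) (.node 2 (.node 1 (.leaf 0x0)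 (.leaf 0x0)) (.node 1 (.leaf 0x0) (.leaf 0x0)))) (.node 4 (.node 2 (.node 1 (.leaf 0x0) (.leaf 0x0)) (.node 1 (.leaf 0x0) (.leaf 0x0))) (.node 2 (.node 1 (.leaf 0x0) (.leaf 0x0)) (.node 1 (.leaf 0x0) (.leaf 0x0))))) (.node 8 (.node 4 (.node 2 (.node 1 (.leaf 0x0) (.leaf 0x0)) (.node 1 (.leaf 0x0) (.leaf 0x0))) (.node 2 (.node 1 (.leaf 0x0) (.leaf 0x0)) (.node 1 (.leaf 0x0) (.leaf 0x0)))) (.node 4 (.node 2 (.node 1 (.leaf 0x0) (.leaf 0x0)) (.node 1 (.leaf 0x0) (.leaf 0x0))) (.node 2 (.node 1 (.leaf 0x0) (.leaf 0x0)) (.node 1 (.leaf 0x0) (.leaf 0x0))))))) (.node 32 (.node 16 (.node 8 (.node 4 (.node 2 (.node 1 (.leaf 0x0) (.leaf 0x0)) (.node 1 (.leaf 0x0) (.leaf 0x0))) (.node 2 (.node 1 (.leaf 0x0) (.leaf 0x0)) (.node 1 (.leaf 0x0) (.leaf 0x0)))) (.node 4 (.node 2 (.node 1 (.leaf 0x0) (.leaf 0x0)) (.node 1 (.leaf 0x0) (.leaf 0x0))) (.node 2 (.node 1 (.leaf 0x0) (.leaf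 0x0)) (.node 1 (.leaf 0x0) (.leaf 0x0))))) (.node 8 (.node 4 (.node 2 (.node 1 (.leaf 0x0) (.leaf 0x0)) (.node 1 (.leaf 0x0) (.leaf 0x0))) (.node 2 (.node 1 (.leaf 0x0) (.leaf 0x0)) (.node 1 (.leaf 0x0) (.leaf 0x0)))) (.node 4 (.node 2 (.node 1 (.leaf 0x0) (.leaf 0x0)) (.node 1 (.leaf 0x0) (.leaf 0x0))) (.node 2 (.node 1 (.leaf 0x0) (.leaf 0x0)) (.node 1 (.leaf 0x0) (.leaf 0x0)))))) (.node 16 (.node 8 (.node 4 (.node 2 (.node 1 (.leaf 0x0) (.leaf 0x0)) (.node 1 (.leaf 0x0) (.leaf 0x0))) (.node 2 (.node 1 (.leaf 0x0) (.leaf 0x0)) (.node 1 (.leaf 0x0) (.leaf 0x0)))) (.node 4 (.node 2 (.node 1 (.leaf 0x0) (.leaf 0x0)) (.node 1 (.leaf 0x0) (.leaf 0x0))) (.node 2 (.node 1 (.leaf 0x0) (.leaf 0x0)) (.node 1 (.leaf 0x0) (.leaf 0x0))))) (.node 8 (.node 4 (.node 2 (.node 1 (.leaf 0x0) (.leaf 0x0)) (.node 1 (.leaf 0x0) (.leaf 0x0))) (.node 2 (.node 1 (.leaf 0x0) (.leaf 0x0))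 (.node 1 (.leaf 0x0) (.leaf 0x0)))) (.node 4 (.node 2 (.node 1 (.leaf 0x0) (.leaf 0x0)) (.node 1 (.leaf 0x0) (.leaf 0x0))) (.node 2 (.node 1 (.leaf 0x0) (.leaf 0x0)) (.node 1 (.leaf 0x0) (.leaf 0x0)))))))

def moves5_30 : Tree :=
  .node 64 (.node 32 (.node 16 (.node 8 (.node 4 (.node 2 (.node 1 (.leaf 0x0) (.leaf 0x0)) (.node 1 (.leaf 0x0) (.leaf 0x0))) (.node 2 (.node 1 (.leaf 0x0) (.leaf 0x0)) (.node 1 (.leaf 0x0) (.leaf 0x0)))) (.node 4 (.node 2 (.node 1 (.leaf 0x0) (.leaf 0x0)) (.node 1 (.leaf 0x0) (.leaf 0x0))) (.node 2 (.node 1 (.leaf 0x0) (.leaf 0x0)) (.node 1 (.leaf 0x0) (.leaf 0x0))))) (.node 8 (.node 4 (.node 2 (.node 1 (.leaf 0x0) (.leaf 0x0)) (.node 1 (.leaf 0x0) (.leaf 0x0))) (.node 2 (.node 1 (.leaf 0x0) (.leaf 0x0)) (.node 1 (.leaf 0x0) (.leaf 0x0)))) (.node 4 (.node 2 (.node 1 (.leaf 0x0) (.leaf 0x0)) (.node 1 (.leaf 0x0) (.leaf 0x0))) (.node 2 (.node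 1 (.leaf 0x0) (.leaf 0x0)) (.node 1 (.leaf 0x0) (.leaf 0x0)))))) (.node 16 (.node 8 (.node 4 (.node 2 (.node 1 (.leaf 0x0) (.leaf 0x0)) (.node 1 (.leaf 0x0) (.leaf 0x0))) (.node 2 (.node 1 (.leaf 0x0) (.leaf 0x0)) (.node 1 (.leaf 0x0) (.leaf 0x0)))) (.node 4 (.node 2 (.node 1 (.leaf 0x0) (.leaf 0x0)) (.node 1 (.leaf 0x0) (.leaf 0x0))) (.node 2 (.node 1 (.leaf 0x0) (.leaf 0x0)) (.node 1 (.leaf 0x0) (.leaf 0x0))))) (.node 8 (.node 4 (.node 2 (.node 1 (.leaf 0x0) (.leaf 0x0)) (.node 1 (.leaf 0x0) (.leaf 0x0))) (.node 2 (.node 1 (.leaf 0x0) (.leaf 0x0)) (.node 1 (.leaf 0x0) (.leaf 0x0)))) (.node 4 (.node 2 (.node 1 (.leaf 0x0) (.leaf 0x0)) (.node 1 (.leaf 0x0) (.leaf 0x0))) (.node 2 (.node 1 (.leaf 0x0) (.leaf 0x0)) (.node 1 (.leaf 0x0) (.leaf 0x0))))))) (.node 32 (.node 16 (.node 8 (.node 4 (.node 2 (.node 1 (.leaf 0x0) (.leaf 0x0)) (.node 1 (.leaf 0x0) (.leaf 0x0)))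 (.node 2 (.node 1 (.leaf 0x0) (.leaf 0x0)) (.node 1 (.leaf 0x0) (.leaf 0x0)))) (.node 4 (.node 2 (.node 1 (.leaf 0x0) (.leaf 0x0)) (.node 1 (.leaf 0x0) (.leaf 0x0))) (.node 2 (.node 1 (.leaf 0x0) (.leaf 0x0)) (.node 1 (.leaf 0x0) (.leaf 0x0))))) (.node 8 (.node 4 (.node 2 (.node 1 (.leaf 0x0) (.leaf 0x0)) (.node 1 (.leaf 0x0) (.leaf 0x0))) (.node 2 (.node 1 (.leaf 0x0) (.leaf 0x0)) (.node 1 (.leaf 0x0) (.leaf 0x0)))) (.node 4 (.node 2 (.node 1 (.leaf 0x0) (.leaf 0x0)) (.node 1 (.leaf 0x0) (.leaf 0x0))) (.node 2 (.node 1 (.leaf 0x0) (.leaf 0x0)) (.node 1 (.leaf 0x0) (.leaf 0x0)))))) (.node 16 (.node 8 (.node 4 (.node 2 (.node 1 (.leaf 0x0) (.leaf 0x0)) (.node 1 (.leaf 0x0) (.leaf 0x0))) (.node 2 (.node 1 (.leaf 0x0) (.leaf 0x0)) (.node 1 (.leaf 0x0) (.leaf 0x0)))) (.node 4 (.node 2 (.node 1 (.leaf 0x0) (.leaf 0x0)) (.node 1 (.leaf 0x0) (.leaf 0x0))) (.node 2 (.node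 1 (.leaf 0x0) (.leaf 0x0)) (.node 1 (.leaf 0x0) (.leaf 0x0))))) (.node 8 (.node 4 (.node 2 (.node 1 (.leaf 0x0) (.leaf 0x0)) (.node 1 (.leaf 0x0) (.leaf 0x0))) (.node 2 (.node 1 (.leaf 0x0) (.leaf 0x0)) (.node 1 (.leaf 0x0) (.leaf 0x0)))) (.node 4 (.node 2 (.node 1 (.leaf 0x0) (.leaf 0x0)) (.node 1 (.leaf 0x0) (.leaf 0x0))) (.node 2 (.node 1 (.leaf 0x0) (.leaf 0x0)) (.node 1 (.leaf 0x0) (.leaf 0x0)))))))

def moves5_31 : Tree :=
  .node 64 (.node 32 (.node 16 (.node 8 (.node 4 (.node 2 (.node 1 (.leaf 0x0) (.leaf 0x0)) (.node 1 (.leaf 0x0) (.leaf 0x0))) (.node 2 (.node 1 (.leaf 0x0) (.leaf 0x0)) (.node 1 (.leaf 0x0) (.leaf 0x0)))) (.node 4 (.node 2 (.node 1 (.leaf 0x0) (.leaf 0x0)) (.node 1 (.leaf 0x0) (.leaf 0x0))) (.node 2 (.node 1 (.leaf 0x0) (.leaf 0x0)) (.node 1 (.leaf 0x0) (.leaf 0x0))))) (.node 8 (.node 4 (.node 2 (.node 1 (.leaf 0x0) (.leaf 0x0)) (.node 1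 (.leaf 0x0) (.leaf 0x0))) (.node 2 (.node 1 (.leaf 0x0) (.leaf 0x0)) (.node 1 (.leaf 0x0) (.leaf 0x0)))) (.node 4 (.node 2 (.node 1 (.leaf 0x0) (.leaf 0x0)) (.node 1 (.leaf 0x0) (.leaf 0x0))) (.node 2 (.node 1 (.leaf 0x0) (.leaf 0x0)) (.node 1 (.leaf 0x0) (.leaf 0x0)))))) (.node 16 (.node 8 (.node 4 (.node 2 (.node 1 (.leaf 0x0) (.leaf 0x0)) (.node 1 (.leaf 0x0) (.leaf 0x0))) (.node 2 (.node 1 (.leaf 0x0) (.leaf 0x0)) (.node 1 (.leaf 0x0) (.leaf 0x0)))) (.node 4 (.node 2 (.node 1 (.leaf 0x0) (.leaf 0x0)) (.node 1 (.leaf 0x0) (.leaf 0x0))) (.node 2 (.node 1 (.leaf 0x0) (.leaf 0x0)) (.node 1 (.leaf 0x0) (.leaf 0x0))))) (.node 8 (.node 4 (.node 2 (.node 1 (.leaf 0x0) (.leaf 0x0)) (.node 1 (.leaf 0x0) (.leaf 0x0))) (.node 2 (.node 1 (.leaf 0x0) (.leaf 0x0)) (.node 1 (.leaf 0x0) (.leaf 0x0)))) (.node 4 (.node 2 (.node 1 (.leaf 0x0) (.leaf 0x0)) (.node 1 (.leaf 0x0) (.leaf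 0x0))) (.node 2 (.node 1 (.leaf 0x0) (.leaf 0x0)) (.node 1 (.leaf 0x0) (.leaf 0x0))))))) (.node 32 (.node 16 (.node 8 (.node 4 (.node 2 (.node 1 (.leaf 0x0) (.leaf 0x0)) (.node 1 (.leaf 0x0) (.leaf 0x0))) (.node 2 (.node 1 (.leaf 0x0) (.leaf 0x0)) (.node 1 (.leaf 0x0) (.leaf 0x0)))) (.node 4 (.node 2 (.node 1 (.leaf 0x0) (.leaf 0x0)) (.node 1 (.leaf 0x0) (.leaf 0x0))) (.node 2 (.node 1 (.leaf 0x0) (.leaf 0x0)) (.node 1 (.leaf 0x0) (.leaf 0x0))))) (.node 8 (.node 4 (.node 2 (.node 1 (.leaf 0x0) (.leaf 0x0)) (.node 1 (.leaf 0x0) (.leaf 0x0))) (.node 2 (.node 1 (.leaf 0x0) (.leaf 0x0)) (.node 1 (.leaf 0x0) (.leaf 0x0)))) (.node 4 (.node 2 (.node 1 (.leaf 0x0) (.leaf 0x0)) (.node 1 (.leaf 0x0) (.leaf 0x0))) (.node 2 (.node 1 (.leaf 0x0) (.leaf 0x0)) (.node 1 (.leaf 0x0) (.leaf 0x0)))))) (.node 16 (.node 8 (.node 4 (.node 2 (.node 1 (.leaf 0x0) (.leaf 0x0)) (.node 1 (.leaf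 0x0) (.leaf 0x0))) (.node 2 (.node 1 (.leaf 0x0) (.leaf 0x0)) (.node 1 (.leaf 0x0) (.leaf 0x0)))) (.node 4 (.node 2 (.node 1 (.leaf 0x0) (.leaf 0x0)) (.node 1 (.leaf 0x0) (.leaf 0x0))) (.node 2 (.node 1 (.leaf 0x0) (.leaf 0x0)) (.node 1 (.leaf 0x0) (.leaf 0x0))))) (.node 8 (.node 4 (.node 2 (.node 1 (.leaf 0x0) (.leaf 0x0)) (.node 1 (.leaf 0x0) (.leaf 0x0))) (.node 2 (.node 1 (.leaf 0x0) (.leaf 0x0)) (.node 1 (.leaf 0x0) (.leaf 0x0)))) (.node 4 (.node 2 (.node 1 (.leaf 0x0) (.leaf 0x0)) (.node 1 (.leaf 0x0) (.leaf 0x0))) (.node 2 (.node 1 (.leaf 0x0) (.leaf 0x0)) (.node 1 (.leaf 0x0) (.leaf 0x0)))))))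

def moves5_32 : Tree :=
  .node 64 (.node 32 (.node 16 (.node 8 (.node 4 (.node 2 (.node 1 (.leaf 0x0) (.leaf 0x0)) (.node 1 (.leaf 0x0) (.leaf 0x0))) (.node 2 (.node 1 (.leaf 0x0) (.leaf 0x0)) (.node 1 (.leaf 0x0) (.leaf 0x0)))) (.node 4 (.node 2 (.node 1 (.leaf 0x0) (.leaf 0x0)) (.node 1 (.leaf 0x0) (.leaf 0x0))) (.node 2 (.node 1 (.leaf 0x0) (.leaf 0x0)) (.node 1 (.leaf 0x0) (.leaf 0x0))))) (.node 8 (.node 4 (.node 2 (.node 1 (.leaf 0x0) (.leaf 0x0)) (.node 1 (.leaf 0x0) (.leaf 0x0))) (.node 2 (.node 1 (.leaf 0x0) (.leaf 0x0)) (.node 1 (.leaf 0x0) (.leaf 0x0)))) (.node 4 (.node 2 (.node 1 (.leaf 0x0) (.leaf 0x0)) (.node 1 (.leaf 0x0) (.leaf 0x0))) (.node 2 (.node 1 (.leaf 0x0) (.leaf 0x0)) (.node 1 (.leaf 0x0) (.leaf 0x0)))))) (.node 16 (.node 8 (.node 4 (.node 2 (.node 1 (.leaf 0x0) (.leaf 0x0)) (.node 1 (.leaf 0x0) (.leaf 0x0))) (.node 2 (.node 1 (.leaf 0x0)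 (.leaf 0x0)) (.node 1 (.leaf 0x0) (.leaf 0x0)))) (.node 4 (.node 2 (.node 1 (.leaf 0x0) (.leaf 0x0)) (.node 1 (.leaf 0x0) (.leaf 0x0))) (.node 2 (.node 1 (.leaf 0x0) (.leaf 0x0)) (.node 1 (.leaf 0x0) (.leaf 0x0))))) (.node 8 (.node 4 (.node 2 (.node 1 (.leaf 0x0) (.leaf 0x0)) (.node 1 (.leaf 0x0) (.leaf 0x0))) (.node 2 (.node 1 (.leaf 0x0) (.leaf 0x0)) (.node 1 (.leaf 0x0) (.leaf 0x0)))) (.node 4 (.node 2 (.node 1 (.leaf 0x0) (.leaf 0x0)) (.node 1 (.leaf 0x0) (.leaf 0x0))) (.node 2 (.node 1 (.leaf 0x0) (.leaf 0x0)) (.node 1 (.leaf 0x0) (.leaf 0x0))))))) (.node 32 (.node 16 (.node 8 (.node 4 (.node 2 (.node 1 (.leaf 0x0) (.leaf 0x0)) (.node 1 (.leaf 0x0) (.leaf 0x0))) (.node 2 (.node 1 (.leaf 0x0) (.leaf 0x0)) (.node 1 (.leaf 0x0) (.leaf 0x0)))) (.node 4 (.node 2 (.node 1 (.leaf 0x0) (.leaf 0x0)) (.node 1 (.leaf 0x0) (.leaf 0x0))) (.node 2 (.node 1 (.leaf 0x0) (.leaf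 0x0)) (.node 1 (.leaf 0x0) (.leaf 0x0))))) (.node 8 (.node 4 (.node 2 (.node 1 (.leaf 0x0) (.leaf 0x0)) (.node 1 (.leaf 0x0) (.leaf 0x0))) (.node 2 (.node 1 (.leaf 0x0) (.leaf 0x0)) (.node 1 (.leaf 0x0) (.leaf 0x0)))) (.node 4 (.node 2 (.node 1 (.leaf 0x0) (.leaf 0x0)) (.node 1 (.leaf 0x0) (.leaf 0x0))) (.node 2 (.node 1 (.leaf 0x0) (.leaf 0x0)) (.node 1 (.leaf 0x0) (.leaf 0x0)))))) (.node 16 (.node 8 (.node 4 (.node 2 (.node 1 (.leaf 0x0) (.leaf 0x0)) (.node 1 (.leaf 0x0) (.leaf 0x0))) (.node 2 (.node 1 (.leaf 0x0) (.leaf 0x0)) (.node 1 (.leaf 0x0) (.leaf 0x0)))) (.node 4 (.node 2 (.node 1 (.leaf 0x0) (.leaf 0x0)) (.node 1 (.leaf 0x0) (.leaf 0x0))) (.node 2 (.node 1 (.leaf 0x0) (.leaf 0x0)) (.node 1 (.leaf 0x0) (.leaf 0x0))))) (.node 8 (.node 4 (.node 2 (.node 1 (.leaf 0x0) (.leaf 0x0)) (.node 1 (.leaf 0x0) (.leaf 0x0))) (.node 2 (.node 1 (.leaf 0x0) (.leaf 0x0))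 (.node 1 (.leaf 0x0) (.leaf 0x0)))) (.node 4 (.node 2 (.node 1 (.leaf 0x0) (.leaf 0x0)) (.node 1 (.leaf 0x0) (.leaf 0x0))) (.node 2 (.node 1 (.leaf 0x0) (.leaf 0x0)) (.node 1 (.leaf 0x0) (.leaf 0x0)))))))

def moves5_33 : Tree :=
  .node 64 (.node 32 (.node 16 (.node 8 (.node 4 (.node 2 (.node 1 (.leaf 0x0) (.leaf 0x0)) (.node 1 (.leaf 0x0) (.leaf 0x0))) (.node 2 (.node 1 (.leaf 0x0) (.leaf 0x0)) (.node 1 (.leaf 0x0) (.leaf 0x0)))) (.node 4 (.node 2 (.node 1 (.leaf 0x0) (.leaf 0x0)) (.node 1 (.leaf 0x0) (.leaf 0x0))) (.node 2 (.node 1 (.leaf 0x0) (.leaf 0x0)) (.node 1 (.leaf 0x0) (.leaf 0x0))))) (.node 8 (.node 4 (.node 2 (.node 1 (.leaf 0x0) (.leaf 0x0)) (.node 1 (.leaf 0x0) (.leaf 0x0))) (.node 2 (.node 1 (.leaf 0x0) (.leaf 0x0)) (.node 1 (.leaf 0x0) (.leaf 0x0)))) (.node 4 (.node 2 (.node 1 (.leaf 0x0) (.leaf 0x0)) (.node 1 (.leaf 0x0) (.leaf 0x0))) (.node 2 (.node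 1 (.leaf 0x0) (.leaf 0x0)) (.node 1 (.leaf 0x0) (.leaf 0x0)))))) (.node 16 (.node 8 (.node 4 (.node 2 (.node 1 (.leaf 0x0) (.leaf 0x0)) (.node 1 (.leaf 0x0) (.leaf 0x0))) (.node 2 (.node 1 (.leaf 0x0) (.leaf 0x0)) (.node 1 (.leaf 0x0) (.leaf 0x0)))) (.node 4 (.node 2 (.node 1 (.leaf 0x0) (.leaf 0x0)) (.node 1 (.leaf 0x0) (.leaf 0x0))) (.node 2 (.node 1 (.leaf 0x0) (.leaf 0x0)) (.node 1 (.leaf 0x0) (.leaf 0x0))))) (.node 8 (.node 4 (.node 2 (.node 1 (.leaf 0x0) (.leaf 0x0)) (.node 1 (.leaf 0x0) (.leaf 0x0))) (.node 2 (.node 1 (.leaf 0x0) (.leaf 0x0)) (.node 1 (.leaf 0x0) (.leaf 0x0)))) (.node 4 (.node 2 (.node 1 (.leaf 0x0) (.leaf 0x0)) (.node 1 (.leaf 0x0) (.leaf 0x0))) (.node 2 (.node 1 (.leaf 0x0) (.leaf 0x0)) (.node 1 (.leaf 0x0) (.leaf 0x0))))))) (.node 32 (.node 16 (.node 8 (.node 4 (.node 2 (.node 1 (.leaf 0x0) (.leaf 0x0)) (.node 1 (.leaf 0x0) (.leaf 0x0)))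 (.node 2 (.node 1 (.leaf 0x0) (.leaf 0x0)) (.node 1 (.leaf 0x0) (.leaf 0x0)))) (.node 4 (.node 2 (.node 1 (.leaf 0x0) (.leaf 0x0)) (.node 1 (.leaf 0x0) (.leaf 0x0))) (.node 2 (.node 1 (.leaf 0x0) (.leaf 0x0)) (.node 1 (.leaf 0x0) (.leaf 0x0))))) (.node 8 (.node 4 (.node 2 (.node 1 (.leaf 0x0) (.leaf 0x0)) (.node 1 (.leaf 0x0) (.leaf 0x0))) (.node 2 (.node 1 (.leaf 0x0) (.leaf 0x0)) (.node 1 (.leaf 0x0) (.leaf 0x0)))) (.node 4 (.node 2 (.node 1 (.leaf 0x0) (.leaf 0x0)) (.node 1 (.leaf 0x0) (.leaf 0x0))) (.node 2 (.node 1 (.leaf 0x0) (.leaf 0x0)) (.node 1 (.leaf 0x0) (.leaf 0x0)))))) (.node 16 (.node 8 (.node 4 (.node 2 (.node 1 (.leaf 0x0) (.leaf 0x0)) (.node 1 (.leaf 0x0) (.leaf 0x0))) (.node 2 (.node 1 (.leaf 0x0) (.leaf 0x0)) (.node 1 (.leaf 0x0) (.leaf 0x0)))) (.node 4 (.node 2 (.node 1 (.leaf 0x0) (.leaf 0x0)) (.node 1 (.leaf 0x0) (.leaf 0x0))) (.node 2 (.node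 1 (.leaf 0x0) (.leaf 0x0)) (.node 1 (.leaf 0x0) (.leaf 0x0))))) (.node 8 (.node 4 (.node 2 (.node 1 (.leaf 0x0) (.leaf 0x0)) (.node 1 (.leaf 0x0) (.leaf 0x0))) (.node 2 (.node 1 (.leaf 0x0) (.leaf 0x0)) (.node 1 (.leaf 0x0) (.leaf 0x0)))) (.node 4 (.node 2 (.node 1 (.leaf 0x0) (.leaf 0x0)) (.node 1 (.leaf 0x0) (.leaf 0x0))) (.node 2 (.node 1 (.leaf 0x0) (.leaf 0x0)) (.node 1 (.leaf 0x0) (.leaf 0x0)))))))

def moves5_34 : Tree :=
  .node 64 (.node 32 (.node 16 (.node 8 (.node 4 (.node 2 (.node 1 (.leaf 0x0) (.leaf 0x0)) (.node 1 (.leaf 0x0) (.leaf 0x0))) (.node 2 (.node 1 (.leaf 0x0) (.leaf 0x0)) (.node 1 (.leaf 0x0) (.leaf 0x0)))) (.node 4 (.node 2 (.node 1 (.leaf 0x0) (.leaf 0x0)) (.node 1 (.leaf 0x0) (.leaf 0x0))) (.node 2 (.node 1 (.leaf 0x0) (.leaf 0x0)) (.node 1 (.leaf 0x0) (.leaf 0x0))))) (.node 8 (.node 4 (.node 2 (.node 1 (.leaf 0x0) (.leaf 0x0)) (.node 1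 (.leaf 0x0) (.leaf 0x0))) (.node 2 (.node 1 (.leaf 0x0) (.leaf 0x0)) (.node 1 (.leaf 0x0) (.leaf 0x0)))) (.node 4 (.node 2 (.node 1 (.leaf 0x0) (.leaf 0x0)) (.node 1 (.leaf 0x0) (.leaf 0x0))) (.node 2 (.node 1 (.leaf 0x0) (.leaf 0x0)) (.node 1 (.leaf 0x0) (.leaf 0x0)))))) (.node 16 (.node 8 (.node 4 (.node 2 (.node 1 (.leaf 0x0) (.leaf 0x0)) (.node 1 (.leaf 0x0) (.leaf 0x0))) (.node 2 (.node 1 (.leaf 0x0) (.leaf 0x0)) (.node 1 (.leaf 0x0) (.leaf 0x0)))) (.node 4 (.node 2 (.node 1 (.leaf 0x0) (.leaf 0x0)) (.node 1 (.leaf 0x0) (.leaf 0x0))) (.node 2 (.node 1 (.leaf 0x0) (.leaf 0x0)) (.node 1 (.leaf 0x0) (.leaf 0x0))))) (.node 8 (.node 4 (.node 2 (.node 1 (.leaf 0x0) (.leaf 0x0)) (.node 1 (.leaf 0x0) (.leaf 0x0))) (.node 2 (.node 1 (.leaf 0x0) (.leaf 0x0)) (.node 1 (.leaf 0x0) (.leaf 0x0)))) (.node 4 (.node 2 (.node 1 (.leaf 0x0) (.leaf 0x0)) (.node 1 (.leaf 0x0) (.leaf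 0x0))) (.node 2 (.node 1 (.leaf 0x0) (.leaf 0x0)) (.node 1 (.leaf 0x0) (.leaf 0x0))))))) (.node 32 (.node 16 (.node 8 (.node 4 (.node 2 (.node 1 (.leaf 0x0) (.leaf 0x0)) (.node 1 (.leaf 0x0) (.leaf 0x0))) (.node 2 (.node 1 (.leaf 0x0) (.leaf 0x0)) (.node 1 (.leaf 0x0) (.leaf 0x0)))) (.node 4 (.node 2 (.node 1 (.leaf 0x0) (.leaf 0x0)) (.node 1 (.leaf 0x0) (.leaf 0x0))) (.node 2 (.node 1 (.leaf 0x0) (.leaf 0x0)) (.node 1 (.leaf 0x0) (.leaf 0x0))))) (.node 8 (.node 4 (.node 2 (.node 1 (.leaf 0x0) (.leaf 0x0)) (.node 1 (.leaf 0x0) (.leaf 0x0))) (.node 2 (.node 1 (.leaf 0x0) (.leaf 0x0)) (.node 1 (.leaf 0x0) (.leaf 0x0)))) (.node 4 (.node 2 (.node 1 (.leaf 0x0) (.leaf 0x0)) (.node 1 (.leaf 0x0) (.leaf 0x0))) (.node 2 (.node 1 (.leaf 0x0) (.leaf 0x0)) (.node 1 (.leaf 0x0) (.leaf 0x0)))))) (.node 16 (.node 8 (.node 4 (.node 2 (.node 1 (.leaf 0x0) (.leaf 0x0)) (.node 1 (.leaf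 0x0) (.leaf 0x0))) (.node 2 (.node 1 (.leaf 0x0) (.leaf 0x0)) (.node 1 (.leaf 0x0) (.leaf 0x0)))) (.node 4 (.node 2 (.node 1 (.leaf 0x0) (.leaf 0x0)) (.node 1 (.leaf 0x0) (.leaf 0x0))) (.node 2 (.node 1 (.leaf 0x0) (.leaf 0x0)) (.node 1 (.leaf 0x0) (.leaf 0x0))))) (.node 8 (.node 4 (.node 2 (.node 1 (.leaf 0x0) (.leaf 0x0)) (.node 1 (.leaf 0x0) (.leaf 0x0))) (.node 2 (.node 1 (.leaf 0x0) (.leaf 0x0)) (.node 1 (.leaf 0x0) (.leaf 0x0)))) (.node 4 (.node 2 (.node 1 (.leaf 0x0) (.leaf 0x0)) (.node 1 (.leaf 0x0) (.leaf 0x0))) (.node 2 (.node 1 (.leaf 0x0) (.leaf 0x0)) (.node 1 (.leaf 0x0) (.leaf 0x0)))))))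

def moves5_35 : Tree :=
  .node 64 (.node 32 (.node 16 (.node 8 (.node 4 (.node 2 (.node 1 (.leaf 0x0) (.leaf 0x0)) (.node 1 (.leaf 0x0) (.leaf 0x0))) (.node 2 (.node 1 (.leaf 0x0) (.leaf 0x0)) (.node 1 (.leaf 0x0) (.leaf 0x0)))) (.node 4 (.node 2 (.node 1 (.leaf 0x0) (.leaf 0x0)) (.node 1 (.leaf 0x0) (.leaf 0x0))) (.node 2 (.node 1 (.leaf 0x0) (.leaf 0x0)) (.node 1 (.leaf 0x0) (.leaf 0x0))))) (.node 8 (.node 4 (.node 2 (.node 1 (.leaf 0x0) (.leaf 0x0)) (.node 1 (.leaf 0x0) (.leaf 0x0))) (.node 2 (.node 1 (.leaf 0x0) (.leaf 0x0)) (.node 1 (.leaf 0x0) (.leaf 0x0)))) (.node 4 (.node 2 (.node 1 (.leaf 0x0) (.leaf 0x0)) (.node 1 (.leaf 0x0) (.leaf 0x0))) (.node 2 (.node 1 (.leaf 0x0) (.leaf 0x0)) (.node 1 (.leaf 0x0) (.leaf 0x0)))))) (.node 16 (.node 8 (.node 4 (.node 2 (.node 1 (.leaf 0x0) (.leaf 0x0)) (.node 1 (.leaf 0x0) (.leaf 0x0))) (.node 2 (.node 1 (.leaf 0x0)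 (.leaf 0x0)) (.node 1 (.leaf 0x0) (.leaf 0x0)))) (.node 4 (.node 2 (.node 1 (.leaf 0x0) (.leaf 0x0)) (.node 1 (.leaf 0x0) (.leaf 0x0))) (.node 2 (.node 1 (.leaf 0x0) (.leaf 0x0)) (.node 1 (.leaf 0x0) (.leaf 0x0))))) (.node 8 (.node 4 (.node 2 (.node 1 (.leaf 0x0) (.leaf 0x0)) (.node 1 (.leaf 0x0) (.leaf 0x0))) (.node 2 (.node 1 (.leaf 0x0) (.leaf 0x0)) (.node 1 (.leaf 0x0) (.leaf 0x0)))) (.node 4 (.node 2 (.node 1 (.leaf 0x0) (.leaf 0x0)) (.node 1 (.leaf 0x0) (.leaf 0x0))) (.node 2 (.node 1 (.leaf 0x0) (.leaf 0x0)) (.node 1 (.leaf 0x0) (.leaf 0x0))))))) (.node 32 (.node 16 (.node 8 (.node 4 (.node 2 (.node 1 (.leaf 0x0) (.leaf 0x0)) (.node 1 (.leaf 0x0) (.leaf 0x0))) (.node 2 (.node 1 (.leaf 0x0) (.leaf 0x0)) (.node 1 (.leaf 0x0) (.leaf 0x0)))) (.node 4 (.node 2 (.node 1 (.leaf 0x0) (.leaf 0x0)) (.node 1 (.leaf 0x0) (.leaf 0x0))) (.node 2 (.node 1 (.leaf 0x0) (.leaf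 0x0)) (.node 1 (.leaf 0x0) (.leaf 0x0))))) (.node 8 (.node 4 (.node 2 (.node 1 (.leaf 0x0) (.leaf 0x0)) (.node 1 (.leaf 0x0) (.leaf 0x0))) (.node 2 (.node 1 (.leaf 0x0) (.leaf 0x0)) (.node 1 (.leaf 0x0) (.leaf 0x0)))) (.node 4 (.node 2 (.node 1 (.leaf 0x0) (.leaf 0x0)) (.node 1 (.leaf 0x0) (.leaf 0x0))) (.node 2 (.node 1 (.leaf 0x0) (.leaf 0x0)) (.node 1 (.leaf 0x0) (.leaf 0x0)))))) (.node 16 (.node 8 (.node 4 (.node 2 (.node 1 (.leaf 0x0) (.leaf 0x0)) (.node 1 (.leaf 0x0) (.leaf 0x0))) (.node 2 (.node 1 (.leaf 0x0) (.leaf 0x0)) (.node 1 (.leaf 0x0) (.leaf 0x0)))) (.node 4 (.node 2 (.node 1 (.leaf 0x0) (.leaf 0x0)) (.node 1 (.leaf 0x0) (.leaf 0x0))) (.node 2 (.node 1 (.leaf 0x0) (.leaf 0x0)) (.node 1 (.leaf 0x0) (.leaf 0x0))))) (.node 8 (.node 4 (.node 2 (.node 1 (.leaf 0x0) (.leaf 0x0)) (.node 1 (.leaf 0x0) (.leaf 0x0))) (.node 2 (.node 1 (.leaf 0x0) (.leaf 0x0))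 (.node 1 (.leaf 0x0) (.leaf 0x0)))) (.node 4 (.node 2 (.node 1 (.leaf 0x0) (.leaf 0x0)) (.node 1 (.leaf 0x0) (.leaf 0x0))) (.node 2 (.node 1 (.leaf 0x0) (.leaf 0x0)) (.node 1 (.leaf 0x0) (.leaf 0x0)))))))

def moves5_36 : Tree :=
  .node 64 (.node 32 (.node 16 (.node 8 (.node 4 (.node 2 (.node 1 (.leaf 0x0) (.leaf 0x0)) (.node 1 (.leaf 0x0) (.leaf 0x0))) (.node 2 (.node 1 (.leaf 0x0) (.leaf 0x0)) (.node 1 (.leaf 0x0) (.leaf 0x0)))) (.node 4 (.node 2 (.node 1 (.leaf 0x0) (.leaf 0x0)) (.node 1 (.leaf 0x0) (.leaf 0x0))) (.node 2 (.node 1 (.leaf 0x0) (.leaf 0x0)) (.node 1 (.leaf 0x0) (.leaf 0x0))))) (.node 8 (.node 4 (.node 2 (.node 1 (.leaf 0x0) (.leaf 0x0)) (.node 1 (.leaf 0x0) (.leaf 0x0))) (.node 2 (.node 1 (.leaf 0x0) (.leaf 0x0)) (.node 1 (.leaf 0x0) (.leaf 0x0)))) (.node 4 (.node 2 (.node 1 (.leaf 0x0) (.leaf 0x0)) (.node 1 (.leaf 0x0) (.leaf 0x0))) (.node 2 (.node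 1 (.leaf 0x0) (.leaf 0x0)) (.node 1 (.leaf 0x0) (.leaf 0x0)))))) (.node 16 (.node 8 (.node 4 (.node 2 (.node 1 (.leaf 0x0) (.leaf 0x0)) (.node 1 (.leaf 0x0) (.leaf 0x0))) (.node 2 (.node 1 (.leaf 0x0) (.leaf 0x0)) (.node 1 (.leaf 0x0) (.leaf 0x0)))) (.node 4 (.node 2 (.node 1 (.leaf 0x0) (.leaf 0x0)) (.node 1 (.leaf 0x0) (.leaf 0x0))) (.node 2 (.node 1 (.leaf 0x0) (.leaf 0x0)) (.node 1 (.leaf 0x0) (.leaf 0x0))))) (.node 8 (.node 4 (.node 2 (.node 1 (.leaf 0x0) (.leaf 0x0)) (.node 1 (.leaf 0x0) (.leaf 0x0))) (.node 2 (.node 1 (.leaf 0x0) (.leaf 0x0)) (.node 1 (.leaf 0x0) (.leaf 0x0)))) (.node 4 (.node 2 (.node 1 (.leaf 0x0) (.leaf 0x0)) (.node 1 (.leaf 0x0) (.leaf 0x0))) (.node 2 (.node 1 (.leaf 0x0) (.leaf 0x0)) (.node 1 (.leaf 0x0) (.leaf 0x0))))))) (.node 32 (.node 16 (.node 8 (.node 4 (.node 2 (.node 1 (.leaf 0x0) (.leaf 0x0)) (.node 1 (.leaf 0x0) (.leaf 0x0)))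 (.node 2 (.node 1 (.leaf 0x0) (.leaf 0x0)) (.node 1 (.leaf 0x0) (.leaf 0x0)))) (.node 4 (.node 2 (.node 1 (.leaf 0x0) (.leaf 0x0)) (.node 1 (.leaf 0x0) (.leaf 0x0))) (.node 2 (.node 1 (.leaf 0x0) (.leaf 0x0)) (.node 1 (.leaf 0x0) (.leaf 0x0))))) (.node 8 (.node 4 (.node 2 (.node 1 (.leaf 0x0) (.leaf 0x0)) (.node 1 (.leaf 0x0) (.leaf 0x0))) (.node 2 (.node 1 (.leaf 0x0) (.leaf 0x0)) (.node 1 (.leaf 0x0) (.leaf 0x0)))) (.node 4 (.node 2 (.node 1 (.leaf 0x0) (.leaf 0x0)) (.node 1 (.leaf 0x0) (.leaf 0x0))) (.node 2 (.node 1 (.leaf 0x0) (.leaf 0x0)) (.node 1 (.leaf 0x0) (.leaf 0x0)))))) (.node 16 (.node 8 (.node 4 (.node 2 (.node 1 (.leaf 0x0) (.leaf 0x0)) (.node 1 (.leaf 0x0) (.leaf 0x0))) (.node 2 (.node 1 (.leaf 0x0) (.leaf 0x0)) (.node 1 (.leaf 0x0) (.leaf 0x0)))) (.node 4 (.node 2 (.node 1 (.leaf 0x0) (.leaf 0x0)) (.node 1 (.leaf 0x0) (.leaf 0x0))) (.node 2 (.node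 1 (.leaf 0x0) (.leaf 0x0)) (.node 1 (.leaf 0x0) (.leaf 0x0))))) (.node 8 (.node 4 (.node 2 (.node 1 (.leaf 0x0) (.leaf 0x0)) (.node 1 (.leaf 0x0) (.leaf 0x0))) (.node 2 (.node 1 (.leaf 0x0) (.leaf 0x0)) (.node 1 (.leaf 0x0) (.leaf 0x0)))) (.node 4 (.node 2 (.node 1 (.leaf 0x0) (.leaf 0x0)) (.node 1 (.leaf 0x0) (.leaf 0x0))) (.node 2 (.node 1 (.leaf 0x0) (.leaf 0x0)) (.node 1 (.leaf 0x0) (.leaf 0x0)))))))

def moves5_37 : Tree :=
  .node 64 (.node 32 (.node 16 (.node 8 (.node 4 (.node 2 (.node 1 (.leaf 0x0) (.leaf 0x0)) (.node 1 (.leaf 0x0) (.leaf 0x0))) (.node 2 (.node 1 (.leaf 0x0) (.leaf 0x0)) (.node 1 (.leaf 0x0) (.leaf 0x0)))) (.node 4 (.node 2 (.node 1 (.leaf 0x0) (.leaf 0x0)) (.node 1 (.leaf 0x0) (.leaf 0x0))) (.node 2 (.node 1 (.leaf 0x0) (.leaf 0x0)) (.node 1 (.leaf 0x0) (.leaf 0x0))))) (.node 8 (.node 4 (.node 2 (.node 1 (.leaf 0x0) (.leaf 0x0)) (.node 1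 (.leaf 0x0) (.leaf 0x0))) (.node 2 (.node 1 (.leaf 0x0) (.leaf 0x0)) (.node 1 (.leaf 0x0) (.leaf 0x0)))) (.node 4 (.node 2 (.node 1 (.leaf 0x0) (.leaf 0x0)) (.node 1 (.leaf 0x0) (.leaf 0x0))) (.node 2 (.node 1 (.leaf 0x0) (.leaf 0x0)) (.node 1 (.leaf 0x0) (.leaf 0x0)))))) (.node 16 (.node 8 (.node 4 (.node 2 (.node 1 (.leaf 0x0) (.leaf 0x0)) (.node 1 (.leaf 0x0) (.leaf 0x0))) (.node 2 (.node 1 (.leaf 0x0) (.leaf 0x0)) (.node 1 (.leaf 0x0) (.leaf 0x0)))) (.node 4 (.node 2 (.node 1 (.leaf 0x0) (.leaf 0x0)) (.node 1 (.leaf 0x0) (.leaf 0x0))) (.node 2 (.node 1 (.leaf 0x0) (.leaf 0x0)) (.node 1 (.leaf 0x0) (.leaf 0x0))))) (.node 8 (.node 4 (.node 2 (.node 1 (.leaf 0x0) (.leaf 0x0)) (.node 1 (.leaf 0x0) (.leaf 0x0))) (.node 2 (.node 1 (.leaf 0x0) (.leaf 0x0)) (.node 1 (.leaf 0x0) (.leaf 0x0)))) (.node 4 (.node 2 (.node 1 (.leaf 0x0) (.leaf 0x0)) (.node 1 (.leaf 0x0) (.leaf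 0x0))) (.node 2 (.node 1 (.leaf 0x0) (.leaf 0x0)) (.node 1 (.leaf 0x0) (.leaf 0x0))))))) (.node 32 (.node 16 (.node 8 (.node 4 (.node 2 (.node 1 (.leaf 0x0) (.leaf 0x0)) (.node 1 (.leaf 0x0) (.leaf 0x0))) (.node 2 (.node 1 (.leaf 0x0) (.leaf 0x0)) (.node 1 (.leaf 0x0) (.leaf 0x0)))) (.node 4 (.node 2 (.node 1 (.leaf 0x0) (.leaf 0x0)) (.node 1 (.leaf 0x0) (.leaf 0x0))) (.node 2 (.node 1 (.leaf 0x0) (.leaf 0x0)) (.node 1 (.leaf 0x0) (.leaf 0x0))))) (.node 8 (.node 4 (.node 2 (.node 1 (.leaf 0x0) (.leaf 0x0)) (.node 1 (.leaf 0x0) (.leaf 0x0))) (.node 2 (.node 1 (.leaf 0x0) (.leaf 0x0)) (.node 1 (.leaf 0x0) (.leaf 0x0)))) (.node 4 (.node 2 (.node 1 (.leaf 0x0) (.leaf 0x0)) (.node 1 (.leaf 0x0) (.leaf 0x0))) (.node 2 (.node 1 (.leaf 0x0) (.leaf 0x0)) (.node 1 (.leaf 0x0) (.leaf 0x0)))))) (.node 16 (.node 8 (.node 4 (.node 2 (.node 1 (.leaf 0x0) (.leaf 0x0)) (.node 1 (.leaf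 0x0) (.leaf 0x0))) (.node 2 (.node 1 (.leaf 0x0) (.leaf 0x0)) (.node 1 (.leaf 0x0) (.leaf 0x0)))) (.node 4 (.node 2 (.node 1 (.leaf 0x0) (.leaf 0x0)) (.node 1 (.leaf 0x0) (.leaf 0x0))) (.node 2 (.node 1 (.leaf 0x0) (.leaf 0x0)) (.node 1 (.leaf 0x0) (.leaf 0x0))))) (.node 8 (.node 4 (.node 2 (.node 1 (.leaf 0x0) (.leaf 0x0)) (.node 1 (.leaf 0x0) (.leaf 0x0))) (.node 2 (.node 1 (.leaf 0x0) (.leaf 0x0)) (.node 1 (.leaf 0x0) (.leaf 0x0)))) (.node 4 (.node 2 (.node 1 (.leaf 0x0) (.leaf 0x0)) (.node 1 (.leaf 0x0) (.leaf 0x0))) (.node 2 (.node 1 (.leaf 0x0) (.leaf 0x0)) (.node 1 (.leaf 0x0) (.leaf 0x0)))))))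

def moves5_38 : Tree :=
  .node 64 (.node 32 (.node 16 (.node 8 (.node 4 (.node 2 (.node 1 (.leaf 0x0) (.leaf 0x0)) (.node 1 (.leaf 0x0) (.leaf 0x0))) (.node 2 (.node 1 (.leaf 0x0) (.leaf 0x0)) (.node 1 (.leaf 0x0) (.leaf 0x0)))) (.node 4 (.node 2 (.node 1 (.leaf 0x0) (.leaf 0x0)) (.node 1 (.leaf 0x0) (.leaf 0x0))) (.node 2 (.node 1 (.leaf 0x0) (.leaf 0x0)) (.node 1 (.leaf 0x0) (.leaf 0x0))))) (.node 8 (.node 4 (.node 2 (.node 1 (.leaf 0x0) (.leaf 0x0)) (.node 1 (.leaf 0x0) (.leaf 0x0))) (.node 2 (.node 1 (.leaf 0x0) (.leaf 0x0)) (.node 1 (.leaf 0x0) (.leaf 0x0)))) (.node 4 (.node 2 (.node 1 (.leaf 0x0) (.leaf 0x0)) (.node 1 (.leaf 0x0) (.leaf 0x0))) (.node 2 (.node 1 (.leaf 0x0) (.leaf 0x0)) (.node 1 (.leaf 0x0) (.leaf 0x0)))))) (.node 16 (.node 8 (.node 4 (.node 2 (.node 1 (.leaf 0x0) (.leaf 0x0)) (.node 1 (.leaf 0x0) (.leaf 0x0))) (.node 2 (.node 1 (.leaf 0x0)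 (.leaf 0x0)) (.node 1 (.leaf 0x0) (.leaf 0x0)))) (.node 4 (.node 2 (.node 1 (.leaf 0x0) (.leaf 0x0)) (.node 1 (.leaf 0x0) (.leaf 0x0))) (.node 2 (.node 1 (.leaf 0x0) (.leaf 0x0)) (.node 1 (.leaf 0x0) (.leaf 0x0))))) (.node 8 (.node 4 (.node 2 (.node 1 (.leaf 0x0) (.leaf 0x0)) (.node 1 (.leaf 0x0) (.leaf 0x0))) (.node 2 (.node 1 (.leaf 0x0) (.leaf 0x0)) (.node 1 (.leaf 0x0) (.leaf 0x0)))) (.node 4 (.node 2 (.node 1 (.leaf 0x0) (.leaf 0x0)) (.node 1 (.leaf 0x0) (.leaf 0x0))) (.node 2 (.node 1 (.leaf 0x0) (.leaf 0x0)) (.node 1 (.leaf 0x0) (.leaf 0x0))))))) (.node 32 (.node 16 (.node 8 (.node 4 (.node 2 (.node 1 (.leaf 0x0) (.leaf 0x0)) (.node 1 (.leaf 0x0) (.leaf 0x0))) (.node 2 (.node 1 (.leaf 0x0) (.leaf 0x0)) (.node 1 (.leaf 0x0) (.leaf 0x0)))) (.node 4 (.node 2 (.node 1 (.leaf 0x0) (.leaf 0x0)) (.node 1 (.leaf 0x0) (.leaf 0x0))) (.node 2 (.node 1 (.leaf 0x0) (.leaf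 0x0)) (.node 1 (.leaf 0x0) (.leaf 0x0))))) (.node 8 (.node 4 (.node 2 (.node 1 (.leaf 0x0) (.leaf 0x0)) (.node 1 (.leaf 0x0) (.leaf 0x0))) (.node 2 (.node 1 (.leaf 0x0) (.leaf 0x0)) (.node 1 (.leaf 0x0) (.leaf 0x0)))) (.node 4 (.node 2 (.node 1 (.leaf 0x0) (.leaf 0x0)) (.node 1 (.leaf 0x0) (.leaf 0x0))) (.node 2 (.node 1 (.leaf 0x0) (.leaf 0x0)) (.node 1 (.leaf 0x0) (.leaf 0x0)))))) (.node 16 (.node 8 (.node 4 (.node 2 (.node 1 (.leaf 0x0) (.leaf 0x0)) (.node 1 (.leaf 0x0) (.leaf 0x0))) (.node 2 (.node 1 (.leaf 0x0) (.leaf 0x0)) (.node 1 (.leaf 0x0) (.leaf 0x0)))) (.node 4 (.node 2 (.node 1 (.leaf 0x0) (.leaf 0x0)) (.node 1 (.leaf 0x0) (.leaf 0x0))) (.node 2 (.node 1 (.leaf 0x0) (.leaf 0x0)) (.node 1 (.leaf 0x0) (.leaf 0x0))))) (.node 8 (.node 4 (.node 2 (.node 1 (.leaf 0x0) (.leaf 0x0)) (.node 1 (.leaf 0x0) (.leaf 0x0))) (.node 2 (.node 1 (.leaf 0x0) (.leaf 0x0))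 (.node 1 (.leaf 0x0) (.leaf 0x0)))) (.node 4 (.node 2 (.node 1 (.leaf 0x0) (.leaf 0x0)) (.node 1 (.leaf 0x0) (.leaf 0x0))) (.node 2 (.node 1 (.leaf 0x0) (.leaf 0x0)) (.node 1 (.leaf 0x0) (.leaf 0x0)))))))

def moves5_39 : Tree :=
  .node 64 (.node 32 (.node 16 (.node 8 (.node 4 (.node 2 (.node 1 (.leaf 0x0) (.leaf 0x0)) (.node 1 (.leaf 0x0) (.leaf 0x0))) (.node 2 (.node 1 (.leaf 0x0) (.leaf 0x0)) (.node 1 (.leaf 0x0) (.leaf 0x0)))) (.node 4 (.node 2 (.node 1 (.leaf 0x0) (.leaf 0x0)) (.node 1 (.leaf 0x0) (.leaf 0x0))) (.node 2 (.node 1 (.leaf 0x0) (.leaf 0x0)) (.node 1 (.leaf 0x0) (.leaf 0x0))))) (.node 8 (.node 4 (.node 2 (.node 1 (.leaf 0x0) (.leaf 0x0)) (.node 1 (.leaf 0x0) (.leaf 0x0))) (.node 2 (.node 1 (.leaf 0x0) (.leaf 0x0)) (.node 1 (.leaf 0x0) (.leaf 0x0)))) (.node 4 (.node 2 (.node 1 (.leaf 0x0) (.leaf 0x0)) (.node 1 (.leaf 0x0) (.leaf 0x0))) (.node 2 (.node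 1 (.leaf 0x0) (.leaf 0x0)) (.node 1 (.leaf 0x0) (.leaf 0x0)))))) (.node 16 (.node 8 (.node 4 (.node 2 (.node 1 (.leaf 0x0) (.leaf 0x0)) (.node 1 (.leaf 0x0) (.leaf 0x0))) (.node 2 (.node 1 (.leaf 0x0) (.leaf 0x0)) (.node 1 (.leaf 0x0) (.leaf 0x0)))) (.node 4 (.node 2 (.node 1 (.leaf 0x0) (.leaf 0x0)) (.node 1 (.leaf 0x0) (.leaf 0x0))) (.node 2 (.node 1 (.leaf 0x0) (.leaf 0x0)) (.node 1 (.leaf 0x0) (.leaf 0x0))))) (.node 8 (.node 4 (.node 2 (.node 1 (.leaf 0x0) (.leaf 0x0)) (.node 1 (.leaf 0x0) (.leaf 0x0))) (.node 2 (.node 1 (.leaf 0x0) (.leaf 0x0)) (.node 1 (.leaf 0x0) (.leaf 0x0)))) (.node 4 (.node 2 (.node 1 (.leaf 0x0) (.leaf 0x0)) (.node 1 (.leaf 0x0) (.leaf 0x0))) (.node 2 (.node 1 (.leaf 0x0) (.leaf 0x0)) (.node 1 (.leaf 0x0) (.leaf 0x0))))))) (.node 32 (.node 16 (.node 8 (.node 4 (.node 2 (.node 1 (.leaf 0x0) (.leaf 0x0)) (.node 1 (.leaf 0x0) (.leaf 0x0)))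 (.node 2 (.node 1 (.leaf 0x0) (.leaf 0x0)) (.node 1 (.leaf 0x0) (.leaf 0x0)))) (.node 4 (.node 2 (.node 1 (.leaf 0x0) (.leaf 0x0)) (.node 1 (.leaf 0x0) (.leaf 0x0))) (.node 2 (.node 1 (.leaf 0x0) (.leaf 0x0)) (.node 1 (.leaf 0x0) (.leaf 0x0))))) (.node 8 (.node 4 (.node 2 (.node 1 (.leaf 0x0) (.leaf 0x0)) (.node 1 (.leaf 0x0) (.leaf 0x0))) (.node 2 (.node 1 (.leaf 0x0) (.leaf 0x0)) (.node 1 (.leaf 0x0) (.leaf 0x0)))) (.node 4 (.node 2 (.node 1 (.leaf 0x0) (.leaf 0x0)) (.node 1 (.leaf 0x0) (.leaf 0x0))) (.node 2 (.node 1 (.leaf 0x0) (.leaf 0x0)) (.node 1 (.leaf 0x0) (.leaf 0x0)))))) (.node 16 (.node 8 (.node 4 (.node 2 (.node 1 (.leaf 0x0) (.leaf 0x0)) (.node 1 (.leaf 0x0) (.leaf 0x0))) (.node 2 (.node 1 (.leaf 0x0) (.leaf 0x0)) (.node 1 (.leaf 0x0) (.leaf 0x0)))) (.node 4 (.node 2 (.node 1 (.leaf 0x0) (.leaf 0x0)) (.node 1 (.leaf 0x0) (.leaf 0x0))) (.node 2 (.node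 1 (.leaf 0x0) (.leaf 0x0)) (.node 1 (.leaf 0x0) (.leaf 0x0))))) (.node 8 (.node 4 (.node 2 (.node 1 (.leaf 0x0) (.leaf 0x0)) (.node 1 (.leaf 0x0) (.leaf 0x0))) (.node 2 (.node 1 (.leaf 0x0) (.leaf 0x0)) (.node 1 (.leaf 0x0) (.leaf 0x0)))) (.node 4 (.node 2 (.node 1 (.leaf 0x0) (.leaf 0x0)) (.node 1 (.leaf 0x0) (.leaf 0x0))) (.node 2 (.node 1 (.leaf 0x0) (.leaf 0x0)) (.node 1 (.leaf 0x0) (.leaf 0x0)))))))

def moves5_40 : Tree :=
  .node 64 (.node 32 (.node 16 (.node 8 (.node 4 (.node 2 (.node 1 (.leaf 0x0) (.leaf 0x0)) (.node 1 (.leaf 0x0) (.leaf 0x0))) (.node 2 (.node 1 (.leaf 0x0) (.leaf 0x0)) (.node 1 (.leaf 0x0) (.leaf 0x0)))) (.node 4 (.node 2 (.node 1 (.leaf 0x0) (.leaf 0x0)) (.node 1 (.leaf 0x0) (.leaf 0x0))) (.node 2 (.node 1 (.leaf 0x0) (.leaf 0x0)) (.node 1 (.leaf 0x0) (.leaf 0x0))))) (.node 8 (.node 4 (.node 2 (.node 1 (.leaf 0x0) (.leaf 0x0)) (.node 1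 (.leaf 0x0) (.leaf 0x0))) (.node 2 (.node 1 (.leaf 0x0) (.leaf 0x0)) (.node 1 (.leaf 0x0) (.leaf 0x0)))) (.node 4 (.node 2 (.node 1 (.leaf 0x0) (.leaf 0x0)) (.node 1 (.leaf 0x0) (.leaf 0x0))) (.node 2 (.node 1 (.leaf 0x0) (.leaf 0x0)) (.node 1 (.leaf 0x0) (.leaf 0x0)))))) (.node 16 (.node 8 (.node 4 (.node 2 (.node 1 (.leaf 0x0) (.leaf 0x0)) (.node 1 (.leaf 0x0) (.leaf 0x0))) (.node 2 (.node 1 (.leaf 0x0) (.leaf 0x0)) (.node 1 (.leaf 0x0) (.leaf 0x0)))) (.node 4 (.node 2 (.node 1 (.leaf 0x0) (.leaf 0x0)) (.node 1 (.leaf 0x0) (.leaf 0x0))) (.node 2 (.node 1 (.leaf 0x0) (.leaf 0x0)) (.node 1 (.leaf 0x0) (.leaf 0x0))))) (.node 8 (.node 4 (.node 2 (.node 1 (.leaf 0x0) (.leaf 0x0)) (.node 1 (.leaf 0x0) (.leaf 0x0))) (.node 2 (.node 1 (.leaf 0x0) (.leaf 0x0)) (.node 1 (.leaf 0x0) (.leaf 0x0)))) (.node 4 (.node 2 (.node 1 (.leaf 0x0) (.leaf 0x0)) (.node 1 (.leaf 0x0) (.leaf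 0x0))) (.node 2 (.node 1 (.leaf 0x0) (.leaf 0x0)) (.node 1 (.leaf 0x0) (.leaf 0x0))))))) (.node 32 (.node 16 (.node 8 (.node 4 (.node 2 (.node 1 (.leaf 0x0) (.leaf 0x0)) (.node 1 (.leaf 0x0) (.leaf 0x0))) (.node 2 (.node 1 (.leaf 0x0) (.leaf 0x0)) (.node 1 (.leaf 0x0) (.leaf 0x0)))) (.node 4 (.node 2 (.node 1 (.leaf 0x0) (.leaf 0x0)) (.node 1 (.leaf 0x0) (.leaf 0x0))) (.node 2 (.node 1 (.leaf 0x0) (.leaf 0x0)) (.node 1 (.leaf 0x0) (.leaf 0x0))))) (.node 8 (.node 4 (.node 2 (.node 1 (.leaf 0x0) (.leaf 0x0)) (.node 1 (.leaf 0x0) (.leaf 0x0))) (.node 2 (.node 1 (.leaf 0x0) (.leaf 0x0)) (.node 1 (.leaf 0x0) (.leaf 0x0)))) (.node 4 (.node 2 (.node 1 (.leaf 0x0) (.leaf 0x0)) (.node 1 (.leaf 0x0) (.leaf 0x0))) (.node 2 (.node 1 (.leaf 0x0) (.leaf 0x0)) (.node 1 (.leaf 0x0) (.leaf 0x0)))))) (.node 16 (.node 8 (.node 4 (.node 2 (.node 1 (.leaf 0x0) (.leaf 0x0)) (.node 1 (.leaf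 0x0) (.leaf 0x0))) (.node 2 (.node 1 (.leaf 0x0) (.leaf 0x0)) (.node 1 (.leaf 0x0) (.leaf 0x0)))) (.node 4 (.node 2 (.node 1 (.leaf 0x0) (.leaf 0x0)) (.node 1 (.leaf 0x0) (.leaf 0x0))) (.node 2 (.node 1 (.leaf 0x0) (.leaf 0x0)) (.node 1 (.leaf 0x0) (.leaf 0x0))))) (.node 8 (.node 4 (.node 2 (.node 1 (.leaf 0x0) (.leaf 0x0)) (.node 1 (.leaf 0x0) (.leaf 0x0))) (.node 2 (.node 1 (.leaf 0x0) (.leaf 0x0)) (.node 1 (.leaf 0x0) (.leaf 0x0)))) (.node 4 (.node 2 (.node 1 (.leaf 0x0) (.leaf 0x0)) (.node 1 (.leaf 0x0) (.leaf 0x0))) (.node 2 (.node 1 (.leaf 0x0) (.leaf 0x0)) (.node 1 (.leaf 0x0) (.leaf 0x0)))))))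

def moves5_41 : Tree :=
  .node 64 (.node 32 (.node 16 (.node 8 (.node 4 (.node 2 (.node 1 (.leaf 0x0) (.leaf 0x0)) (.node 1 (.leaf 0x0) (.leaf 0x0))) (.node 2 (.node 1 (.leaf 0x0) (.leaf 0x0)) (.node 1 (.leaf 0x0) (.leaf 0x0)))) (.node 4 (.node 2 (.node 1 (.leaf 0x0) (.leaf 0x0)) (.node 1 (.leaf 0x0) (.leaf 0x0))) (.node 2 (.node 1 (.leaf 0x0) (.leaf 0x0)) (.node 1 (.leaf 0x0) (.leaf 0x0))))) (.node 8 (.node 4 (.node 2 (.node 1 (.leaf 0x0) (.leaf 0x0)) (.node 1 (.leaf 0x0) (.leaf 0x0))) (.node 2 (.node 1 (.leaf 0x0) (.leaf 0x0)) (.node 1 (.leaf 0x0) (.leaf 0x0)))) (.node 4 (.node 2 (.node 1 (.leaf 0x0) (.leaf 0x0)) (.node 1 (.leaf 0x0) (.leaf 0x0))) (.node 2 (.node 1 (.leaf 0x0) (.leaf 0x0)) (.node 1 (.leaf 0x0) (.leaf 0x0)))))) (.node 16 (.node 8 (.node 4 (.node 2 (.node 1 (.leaf 0x0) (.leaf 0x0)) (.node 1 (.leaf 0x0) (.leaf 0x0))) (.node 2 (.node 1 (.leaf 0x0)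 (.leaf 0x0)) (.node 1 (.leaf 0x0) (.leaf 0x0)))) (.node 4 (.node 2 (.node 1 (.leaf 0x0) (.leaf 0x0)) (.node 1 (.leaf 0x0) (.leaf 0x0))) (.node 2 (.node 1 (.leaf 0x0) (.leaf 0x0)) (.node 1 (.leaf 0x0) (.leaf 0x0))))) (.node 8 (.node 4 (.node 2 (.node 1 (.leaf 0x0) (.leaf 0x0)) (.node 1 (.leaf 0x0) (.leaf 0x0))) (.node 2 (.node 1 (.leaf 0x0) (.leaf 0x0)) (.node 1 (.leaf 0x0) (.leaf 0x0)))) (.node 4 (.node 2 (.node 1 (.leaf 0x0) (.leaf 0x0)) (.node 1 (.leaf 0x0) (.leaf 0x0))) (.node 2 (.node 1 (.leaf 0x0) (.leaf 0x0)) (.node 1 (.leaf 0x0) (.leaf 0x0))))))) (.node 32 (.node 16 (.node 8 (.node 4 (.node 2 (.node 1 (.leaf 0x0) (.leaf 0x0)) (.node 1 (.leaf 0x0) (.leaf 0x0))) (.node 2 (.node 1 (.leaf 0x0) (.leaf 0x0)) (.node 1 (.leaf 0x0) (.leaf 0x0)))) (.node 4 (.node 2 (.node 1 (.leaf 0x0) (.leaf 0x0)) (.node 1 (.leaf 0x0) (.leaf 0x0))) (.node 2 (.node 1 (.leaf 0x0) (.leaf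 0x0)) (.node 1 (.leaf 0x0) (.leaf 0x0))))) (.node 8 (.node 4 (.node 2 (.node 1 (.leaf 0x0) (.leaf 0x0)) (.node 1 (.leaf 0x0) (.leaf 0x0))) (.node 2 (.node 1 (.leaf 0x0) (.leaf 0x0)) (.node 1 (.leaf 0x0) (.leaf 0x0)))) (.node 4 (.node 2 (.node 1 (.leaf 0x0) (.leaf 0x0)) (.node 1 (.leaf 0x0) (.leaf 0x0))) (.node 2 (.node 1 (.leaf 0x0) (.leaf 0x0)) (.node 1 (.leaf 0x0) (.leaf 0x0)))))) (.node 16 (.node 8 (.node 4 (.node 2 (.node 1 (.leaf 0x0) (.leaf 0x0)) (.node 1 (.leaf 0x0) (.leaf 0x0))) (.node 2 (.node 1 (.leaf 0x0) (.leaf 0x0)) (.node 1 (.leaf 0x0) (.leaf 0x0)))) (.node 4 (.node 2 (.node 1 (.leaf 0x0) (.leaf 0x0)) (.node 1 (.leaf 0x0) (.leaf 0x0))) (.node 2 (.node 1 (.leaf 0x0) (.leaf 0x0)) (.node 1 (.leaf 0x0) (.leaf 0x0))))) (.node 8 (.node 4 (.node 2 (.node 1 (.leaf 0x0) (.leaf 0x0)) (.node 1 (.leaf 0x0) (.leaf 0x0))) (.node 2 (.node 1 (.leaf 0x0) (.leaf 0x0))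 (.node 1 (.leaf 0x0) (.leaf 0x0)))) (.node 4 (.node 2 (.node 1 (.leaf 0x0) (.leaf 0x0)) (.node 1 (.leaf 0x0) (.leaf 0x0))) (.node 2 (.node 1 (.leaf 0x0) (.leaf 0x0)) (.node 1 (.leaf 0x0) (.leaf 0x0)))))))

def moves5_42 : Tree :=
  .node 64 (.node 32 (.node 16 (.node 8 (.node 4 (.node 2 (.node 1 (.leaf 0x0) (.leaf 0x0)) (.node 1 (.leaf 0x0) (.leaf 0x0))) (.node 2 (.node 1 (.leaf 0x0) (.leaf 0x0)) (.node 1 (.leaf 0x0) (.leaf 0x0)))) (.node 4 (.node 2 (.node 1 (.leaf 0x0) (.leaf 0x0)) (.node 1 (.leaf 0x0) (.leaf 0x0))) (.node 2 (.node 1 (.leaf 0x0) (.leaf 0x0)) (.node 1 (.leaf 0x0) (.leaf 0x0))))) (.node 8 (.node 4 (.node 2 (.node 1 (.leaf 0x0) (.leaf 0x0)) (.node 1 (.leaf 0x0) (.leaf 0x0))) (.node 2 (.node 1 (.leaf 0x0) (.leaf 0x0)) (.node 1 (.leaf 0x0) (.leaf 0x0)))) (.node 4 (.node 2 (.node 1 (.leaf 0x0) (.leaf 0x0)) (.node 1 (.leaf 0x0) (.leaf 0x0))) (.node 2 (.node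 1 (.leaf 0x0) (.leaf 0x0)) (.node 1 (.leaf 0x0) (.leaf 0x0)))))) (.node 16 (.node 8 (.node 4 (.node 2 (.node 1 (.leaf 0x0) (.leaf 0x0)) (.node 1 (.leaf 0x0) (.leaf 0x0))) (.node 2 (.node 1 (.leaf 0x0) (.leaf 0x0)) (.node 1 (.leaf 0x0) (.leaf 0x0)))) (.node 4 (.node 2 (.node 1 (.leaf 0x0) (.leaf 0x0)) (.node 1 (.leaf 0x0) (.leaf 0x0))) (.node 2 (.node 1 (.leaf 0x0) (.leaf 0x0)) (.node 1 (.leaf 0x0) (.leaf 0x0))))) (.node 8 (.node 4 (.node 2 (.node 1 (.leaf 0x0) (.leaf 0x0)) (.node 1 (.leaf 0x0) (.leaf 0x0))) (.node 2 (.node 1 (.leaf 0x0) (.leaf 0x0)) (.node 1 (.leaf 0x0) (.leaf 0x0)))) (.node 4 (.node 2 (.node 1 (.leaf 0x0) (.leaf 0x0)) (.node 1 (.leaf 0x0) (.leaf 0x0))) (.node 2 (.node 1 (.leaf 0x0) (.leaf 0x0)) (.node 1 (.leaf 0x0) (.leaf 0x0))))))) (.node 32 (.node 16 (.node 8 (.node 4 (.node 2 (.node 1 (.leaf 0x0) (.leaf 0x0)) (.node 1 (.leaf 0x0) (.leaf 0x0)))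 (.node 2 (.node 1 (.leaf 0x0) (.leaf 0x0)) (.node 1 (.leaf 0x0) (.leaf 0x0)))) (.node 4 (.node 2 (.node 1 (.leaf 0x0) (.leaf 0x0)) (.node 1 (.leaf 0x0) (.leaf 0x0))) (.node 2 (.node 1 (.leaf 0x0) (.leaf 0x0)) (.node 1 (.leaf 0x0) (.leaf 0x0))))) (.node 8 (.node 4 (.node 2 (.node 1 (.leaf 0x0) (.leaf 0x0)) (.node 1 (.leaf 0x0) (.leaf 0x0))) (.node 2 (.node 1 (.leaf 0x0) (.leaf 0x0)) (.node 1 (.leaf 0x0) (.leaf 0x0)))) (.node 4 (.node 2 (.node 1 (.leaf 0x0) (.leaf 0x0)) (.node 1 (.leaf 0x0) (.leaf 0x0))) (.node 2 (.node 1 (.leaf 0x0) (.leaf 0x0)) (.node 1 (.leaf 0x0) (.leaf 0x0)))))) (.node 16 (.node 8 (.node 4 (.node 2 (.node 1 (.leaf 0x0) (.leaf 0x0)) (.node 1 (.leaf 0x0) (.leaf 0x0))) (.node 2 (.node 1 (.leaf 0x0) (.leaf 0x0)) (.node 1 (.leaf 0x0) (.leaf 0x0)))) (.node 4 (.node 2 (.node 1 (.leaf 0x0) (.leaf 0x0)) (.node 1 (.leaf 0x0) (.leaf 0x0))) (.node 2 (.node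 1 (.leaf 0x0) (.leaf 0x0)) (.node 1 (.leaf 0x0) (.leaf 0x0))))) (.node 8 (.node 4 (.node 2 (.node 1 (.leaf 0x0) (.leaf 0x0)) (.node 1 (.leaf 0x0) (.leaf 0x0))) (.node 2 (.node 1 (.leaf 0x0) (.leaf 0x0)) (.node 1 (.leaf 0x0) (.leaf 0x0)))) (.node 4 (.node 2 (.node 1 (.leaf 0x0) (.leaf 0x0)) (.node 1 (.leaf 0x0) (.leaf 0x0))) (.node 2 (.node 1 (.leaf 0x0) (.leaf 0x0)) (.node 1 (.leaf 0x0) (.leaf 0x0)))))))

def moves5_43 : Tree :=
  .node 64 (.node 32 (.node 16 (.node 8 (.node 4 (.node 2 (.node 1 (.leaf 0x0) (.leaf 0x0)) (.node 1 (.leaf 0x0) (.leaf 0x0))) (.node 2 (.node 1 (.leaf 0x0) (.leaf 0x0)) (.node 1 (.leaf 0x0) (.leaf 0x0)))) (.node 4 (.node 2 (.node 1 (.leaf 0x0) (.leaf 0x0)) (.node 1 (.leaf 0x0) (.leaf 0x0))) (.node 2 (.node 1 (.leaf 0x0) (.leaf 0x0)) (.node 1 (.leaf 0x0) (.leaf 0x0))))) (.node 8 (.node 4 (.node 2 (.node 1 (.leaf 0x0) (.leaf 0x0)) (.node 1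 (.leaf 0x0) (.leaf 0x0))) (.node 2 (.node 1 (.leaf 0x0) (.leaf 0x0)) (.node 1 (.leaf 0x0) (.leaf 0x0)))) (.node 4 (.node 2 (.node 1 (.leaf 0x0) (.leaf 0x0)) (.node 1 (.leaf 0x0) (.leaf 0x0))) (.node 2 (.node 1 (.leaf 0x0) (.leaf 0x0)) (.node 1 (.leaf 0x0) (.leaf 0x0)))))) (.node 16 (.node 8 (.node 4 (.node 2 (.node 1 (.leaf 0x0) (.leaf 0x0)) (.node 1 (.leaf 0x0) (.leaf 0x0))) (.node 2 (.node 1 (.leaf 0x0) (.leaf 0x0)) (.node 1 (.leaf 0x0) (.leaf 0x0)))) (.node 4 (.node 2 (.node 1 (.leaf 0x0) (.leaf 0x0)) (.node 1 (.leaf 0x0) (.leaf 0x0))) (.node 2 (.node 1 (.leaf 0x0) (.leaf 0x0)) (.node 1 (.leaf 0x0) (.leaf 0x0))))) (.node 8 (.node 4 (.node 2 (.node 1 (.leaf 0x0) (.leaf 0x0)) (.node 1 (.leaf 0x0) (.leaf 0x0))) (.node 2 (.node 1 (.leaf 0x0) (.leaf 0x0)) (.node 1 (.leaf 0x0) (.leaf 0x0)))) (.node 4 (.node 2 (.node 1 (.leaf 0x0) (.leaf 0x0)) (.node 1 (.leaf 0x0) (.leaf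 0x0))) (.node 2 (.node 1 (.leaf 0x0) (.leaf 0x0)) (.node 1 (.leaf 0x0) (.leaf 0x0))))))) (.node 32 (.node 16 (.node 8 (.node 4 (.node 2 (.node 1 (.leaf 0x0) (.leaf 0x0)) (.node 1 (.leaf 0x0) (.leaf 0x0))) (.node 2 (.node 1 (.leaf 0x0) (.leaf 0x0)) (.node 1 (.leaf 0x0) (.leaf 0x0)))) (.node 4 (.node 2 (.node 1 (.leaf 0x0) (.leaf 0x0)) (.node 1 (.leaf 0x0) (.leaf 0x0))) (.node 2 (.node 1 (.leaf 0x0) (.leaf 0x0)) (.node 1 (.leaf 0x0) (.leaf 0x0))))) (.node 8 (.node 4 (.node 2 (.node 1 (.leaf 0x0) (.leaf 0x0)) (.node 1 (.leaf 0x0) (.leaf 0x0))) (.node 2 (.node 1 (.leaf 0x0) (.leaf 0x0)) (.node 1 (.leaf 0x0) (.leaf 0x0)))) (.node 4 (.node 2 (.node 1 (.leaf 0x0) (.leaf 0x0)) (.node 1 (.leaf 0x0) (.leaf 0x0))) (.node 2 (.node 1 (.leaf 0x0) (.leaf 0x0)) (.node 1 (.leaf 0x0) (.leaf 0x0)))))) (.node 16 (.node 8 (.node 4 (.node 2 (.node 1 (.leaf 0x0) (.leaf 0x0)) (.node 1 (.leaf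 0x0) (.leaf 0x0))) (.node 2 (.node 1 (.leaf 0x0) (.leaf 0x0)) (.node 1 (.leaf 0x0) (.leaf 0x0)))) (.node 4 (.node 2 (.node 1 (.leaf 0x0) (.leaf 0x0)) (.node 1 (.leaf 0x0) (.leaf 0x0))) (.node 2 (.node 1 (.leaf 0x0) (.leaf 0x0)) (.node 1 (.leaf 0x0) (.leaf 0x0))))) (.node 8 (.node 4 (.node 2 (.node 1 (.leaf 0x0) (.leaf 0x0)) (.node 1 (.leaf 0x0) (.leaf 0x0))) (.node 2 (.node 1 (.leaf 0x0) (.leaf 0x0)) (.node 1 (.leaf 0x0) (.leaf 0x0)))) (.node 4 (.node 2 (.node 1 (.leaf 0x0) (.leaf 0x0)) (.node 1 (.leaf 0x0) (.leaf 0x0))) (.node 2 (.node 1 (.leaf 0x0) (.leaf 0x0)) (.node 1 (.leaf 0x0) (.leaf 0x0)))))))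

def moves5_44 : Tree :=
  .node 64 (.node 32 (.node 16 (.node 8 (.node 4 (.node 2 (.node 1 (.leaf 0x0) (.leaf 0x0)) (.node 1 (.leaf 0x0) (.leaf 0x0))) (.node 2 (.node 1 (.leaf 0x0) (.leaf 0x0)) (.node 1 (.leaf 0x0) (.leaf 0x0)))) (.node 4 (.node 2 (.node 1 (.leaf 0x0) (.leaf 0x0)) (.node 1 (.leaf 0x0) (.leaf 0x0))) (.node 2 (.node 1 (.leaf 0x0) (.leaf 0x0)) (.node 1 (.leaf 0x0) (.leaf 0x0))))) (.node 8 (.node 4 (.node 2 (.node 1 (.leaf 0x0) (.leaf 0x0)) (.node 1 (.leaf 0x0) (.leaf 0x0))) (.node 2 (.node 1 (.leaf 0x0) (.leaf 0x0)) (.node 1 (.leaf 0x0) (.leaf 0x0)))) (.node 4 (.node 2 (.node 1 (.leaf 0x0) (.leaf 0x0)) (.node 1 (.leaf 0x0) (.leaf 0x0))) (.node 2 (.node 1 (.leaf 0x0) (.leaf 0x0)) (.node 1 (.leaf 0x0) (.leaf 0x0)))))) (.node 16 (.node 8 (.node 4 (.node 2 (.node 1 (.leaf 0x0) (.leaf 0x0)) (.node 1 (.leaf 0x0) (.leaf 0x0))) (.node 2 (.node 1 (.leaf 0x0)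 (.leaf 0x0)) (.node 1 (.leaf 0x0) (.leaf 0x0)))) (.node 4 (.node 2 (.node 1 (.leaf 0x0) (.leaf 0x0)) (.node 1 (.leaf 0x0) (.leaf 0x0))) (.node 2 (.node 1 (.leaf 0x0) (.leaf 0x0)) (.node 1 (.leaf 0x0) (.leaf 0x0))))) (.node 8 (.node 4 (.node 2 (.node 1 (.leaf 0x0) (.leaf 0x0)) (.node 1 (.leaf 0x0) (.leaf 0x0))) (.node 2 (.node 1 (.leaf 0x0) (.leaf 0x0)) (.node 1 (.leaf 0x0) (.leaf 0x0)))) (.node 4 (.node 2 (.node 1 (.leaf 0x0) (.leaf 0x0)) (.node 1 (.leaf 0x0) (.leaf 0x0))) (.node 2 (.node 1 (.leaf 0x0) (.leaf 0x0)) (.node 1 (.leaf 0x0) (.leaf 0x0))))))) (.node 32 (.node 16 (.node 8 (.node 4 (.node 2 (.node 1 (.leaf 0x0) (.leaf 0x0)) (.node 1 (.leaf 0x0) (.leaf 0x0))) (.node 2 (.node 1 (.leaf 0x0) (.leaf 0x0)) (.node 1 (.leaf 0x0) (.leaf 0x0)))) (.node 4 (.node 2 (.node 1 (.leaf 0x0) (.leaf 0x0)) (.node 1 (.leaf 0x0) (.leaf 0x0))) (.node 2 (.node 1 (.leaf 0x0) (.leaf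 0x0)) (.node 1 (.leaf 0x0) (.leaf 0x0))))) (.node 8 (.node 4 (.node 2 (.node 1 (.leaf 0x0) (.leaf 0x0)) (.node 1 (.leaf 0x0) (.leaf 0x0))) (.node 2 (.node 1 (.leaf 0x0) (.leaf 0x0)) (.node 1 (.leaf 0x0) (.leaf 0x0)))) (.node 4 (.node 2 (.node 1 (.leaf 0x0) (.leaf 0x0)) (.node 1 (.leaf 0x0) (.leaf 0x0))) (.node 2 (.node 1 (.leaf 0x0) (.leaf 0x0)) (.node 1 (.leaf 0x0) (.leaf 0x0)))))) (.node 16 (.node 8 (.node 4 (.node 2 (.node 1 (.leaf 0x0) (.leaf 0x0)) (.node 1 (.leaf 0x0) (.leaf 0x0))) (.node 2 (.node 1 (.leaf 0x0) (.leaf 0x0)) (.node 1 (.leaf 0x0) (.leaf 0x0)))) (.node 4 (.node 2 (.node 1 (.leaf 0x0) (.leaf 0x0)) (.node 1 (.leaf 0x0) (.leaf 0x0))) (.node 2 (.node 1 (.leaf 0x0) (.leaf 0x0)) (.node 1 (.leaf 0x0) (.leaf 0x0))))) (.node 8 (.node 4 (.node 2 (.node 1 (.leaf 0x0) (.leaf 0x0)) (.node 1 (.leaf 0x0) (.leaf 0x0))) (.node 2 (.node 1 (.leaf 0x0) (.leaf 0x0))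 (.node 1 (.leaf 0x0) (.leaf 0x0)))) (.node 4 (.node 2 (.node 1 (.leaf 0x0) (.leaf 0x0)) (.node 1 (.leaf 0x0) (.leaf 0x0))) (.node 2 (.node 1 (.leaf 0x0) (.leaf 0x0)) (.node 1 (.leaf 0x0) (.leaf 0x0)))))))

def moves5_45 : Tree :=
  .node 64 (.node 32 (.node 16 (.node 8 (.node 4 (.node 2 (.node 1 (.leaf 0x0) (.leaf 0x0)) (.node 1 (.leaf 0x0) (.leaf 0x0))) (.node 2 (.node 1 (.leaf 0x0) (.leaf 0x0)) (.node 1 (.leaf 0x0) (.leaf 0x0)))) (.node 4 (.node 2 (.node 1 (.leaf 0x0) (.leaf 0x0)) (.node 1 (.leaf 0x0) (.leaf 0x0))) (.node 2 (.node 1 (.leaf 0x0) (.leaf 0x0)) (.node 1 (.leaf 0x0) (.leaf 0x0))))) (.node 8 (.node 4 (.node 2 (.node 1 (.leaf 0x0) (.leaf 0x0)) (.node 1 (.leaf 0x0) (.leaf 0x0))) (.node 2 (.node 1 (.leaf 0x0) (.leaf 0x0)) (.node 1 (.leaf 0x0) (.leaf 0x0)))) (.node 4 (.node 2 (.node 1 (.leaf 0x0) (.leaf 0x0)) (.node 1 (.leaf 0x0) (.leaf 0x0))) (.node 2 (.node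 1 (.leaf 0x0) (.leaf 0x0)) (.node 1 (.leaf 0x0) (.leaf 0x0)))))) (.node 16 (.node 8 (.node 4 (.node 2 (.node 1 (.leaf 0x0) (.leaf 0x0)) (.node 1 (.leaf 0x0) (.leaf 0x0))) (.node 2 (.node 1 (.leaf 0x0) (.leaf 0x0)) (.node 1 (.leaf 0x0) (.leaf 0x0)))) (.node 4 (.node 2 (.node 1 (.leaf 0x0) (.leaf 0x0)) (.node 1 (.leaf 0x0) (.leaf 0x0))) (.node 2 (.node 1 (.leaf 0x0) (.leaf 0x0)) (.node 1 (.leaf 0x0) (.leaf 0x0))))) (.node 8 (.node 4 (.node 2 (.node 1 (.leaf 0x0) (.leaf 0x0)) (.node 1 (.leaf 0x0) (.leaf 0x0))) (.node 2 (.node 1 (.leaf 0x0) (.leaf 0x0)) (.node 1 (.leaf 0x0) (.leaf 0x0)))) (.node 4 (.node 2 (.node 1 (.leaf 0x0) (.leaf 0x0)) (.node 1 (.leaf 0x0) (.leaf 0x0))) (.node 2 (.node 1 (.leaf 0x0) (.leaf 0x0)) (.node 1 (.leaf 0x0) (.leaf 0x0))))))) (.node 32 (.node 16 (.node 8 (.node 4 (.node 2 (.node 1 (.leaf 0x0) (.leaf 0x0)) (.node 1 (.leaf 0x0) (.leaf 0x0)))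 (.node 2 (.node 1 (.leaf 0x0) (.leaf 0x0)) (.node 1 (.leaf 0x0) (.leaf 0x0)))) (.node 4 (.node 2 (.node 1 (.leaf 0x0) (.leaf 0x0)) (.node 1 (.leaf 0x0) (.leaf 0x0))) (.node 2 (.node 1 (.leaf 0x0) (.leaf 0x0)) (.node 1 (.leaf 0x0) (.leaf 0x0))))) (.node 8 (.node 4 (.node 2 (.node 1 (.leaf 0x0) (.leaf 0x0)) (.node 1 (.leaf 0x0) (.leaf 0x0))) (.node 2 (.node 1 (.leaf 0x0) (.leaf 0x0)) (.node 1 (.leaf 0x0) (.leaf 0x0)))) (.node 4 (.node 2 (.node 1 (.leaf 0x0) (.leaf 0x0)) (.node 1 (.leaf 0x0) (.leaf 0x0))) (.node 2 (.node 1 (.leaf 0x0) (.leaf 0x0)) (.node 1 (.leaf 0x0) (.leaf 0x0)))))) (.node 16 (.node 8 (.node 4 (.node 2 (.node 1 (.leaf 0x0) (.leaf 0x0)) (.node 1 (.leaf 0x0) (.leaf 0x0))) (.node 2 (.node 1 (.leaf 0x0) (.leaf 0x0)) (.node 1 (.leaf 0x0) (.leaf 0x0)))) (.node 4 (.node 2 (.node 1 (.leaf 0x0) (.leaf 0x0)) (.node 1 (.leaf 0x0) (.leaf 0x0))) (.node 2 (.node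 1 (.leaf 0x0) (.leaf 0x0)) (.node 1 (.leaf 0x0) (.leaf 0x0))))) (.node 8 (.node 4 (.node 2 (.node 1 (.leaf 0x0) (.leaf 0x0)) (.node 1 (.leaf 0x0) (.leaf 0x0))) (.node 2 (.node 1 (.leaf 0x0) (.leaf 0x0)) (.node 1 (.leaf 0x0) (.leaf 0x0)))) (.node 4 (.node 2 (.node 1 (.leaf 0x0) (.leaf 0x0)) (.node 1 (.leaf 0x0) (.leaf 0x0))) (.node 2 (.node 1 (.leaf 0x0) (.leaf 0x0)) (.node 1 (.leaf 0x0) (.leaf 0x0)))))))

def moves5_46 : Tree :=
  .node 64 (.node 32 (.node 16 (.node 8 (.node 4 (.node 2 (.node 1 (.leaf 0x0) (.leaf 0x0)) (.node 1 (.leaf 0x0) (.leaf 0x0))) (.node 2 (.node 1 (.leaf 0x0) (.leaf 0x0)) (.node 1 (.leaf 0x0) (.leaf 0x0)))) (.node 4 (.node 2 (.node 1 (.leaf 0x0) (.leaf 0x0)) (.node 1 (.leaf 0x0) (.leaf 0x0))) (.node 2 (.node 1 (.leaf 0x0) (.leaf 0x0)) (.node 1 (.leaf 0x0) (.leaf 0x0))))) (.node 8 (.node 4 (.node 2 (.node 1 (.leaf 0x0) (.leaf 0x0)) (.node 1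 (.leaf 0x0) (.leaf 0x0))) (.node 2 (.node 1 (.leaf 0x0) (.leaf 0x0)) (.node 1 (.leaf 0x0) (.leaf 0x0)))) (.node 4 (.node 2 (.node 1 (.leaf 0x0) (.leaf 0x0)) (.node 1 (.leaf 0x0) (.leaf 0x0))) (.node 2 (.node 1 (.leaf 0x0) (.leaf 0x0)) (.node 1 (.leaf 0x0) (.leaf 0x0)))))) (.node 16 (.node 8 (.node 4 (.node 2 (.node 1 (.leaf 0x0) (.leaf 0x0)) (.node 1 (.leaf 0x0) (.leaf 0x0))) (.node 2 (.node 1 (.leaf 0x0) (.leaf 0x0)) (.node 1 (.leaf 0x0) (.leaf 0x0)))) (.node 4 (.node 2 (.node 1 (.leaf 0x0) (.leaf 0x0)) (.node 1 (.leaf 0x0) (.leaf 0x0))) (.node 2 (.node 1 (.leaf 0x0) (.leaf 0x0)) (.node 1 (.leaf 0x0) (.leaf 0x0))))) (.node 8 (.node 4 (.node 2 (.node 1 (.leaf 0x0) (.leaf 0x0)) (.node 1 (.leaf 0x0) (.leaf 0x0))) (.node 2 (.node 1 (.leaf 0x0) (.leaf 0x0)) (.node 1 (.leaf 0x0) (.leaf 0x0)))) (.node 4 (.node 2 (.node 1 (.leaf 0x0) (.leaf 0x0)) (.node 1 (.leaf 0x0) (.leaf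 0x0))) (.node 2 (.node 1 (.leaf 0x0) (.leaf 0x0)) (.node 1 (.leaf 0x0) (.leaf 0x0))))))) (.node 32 (.node 16 (.node 8 (.node 4 (.node 2 (.node 1 (.leaf 0x0) (.leaf 0x0)) (.node 1 (.leaf 0x0) (.leaf 0x0))) (.node 2 (.node 1 (.leaf 0x0) (.leaf 0x0)) (.node 1 (.leaf 0x0) (.leaf 0x0)))) (.node 4 (.node 2 (.node 1 (.leaf 0x0) (.leaf 0x0)) (.node 1 (.leaf 0x0) (.leaf 0x0))) (.node 2 (.node 1 (.leaf 0x0) (.leaf 0x0)) (.node 1 (.leaf 0x0) (.leaf 0x0))))) (.node 8 (.node 4 (.node 2 (.node 1 (.leaf 0x0) (.leaf 0x0)) (.node 1 (.leaf 0x0) (.leaf 0x0))) (.node 2 (.node 1 (.leaf 0x0) (.leaf 0x0)) (.node 1 (.leaf 0x0) (.leaf 0x0)))) (.node 4 (.node 2 (.node 1 (.leaf 0x0) (.leaf 0x0)) (.node 1 (.leaf 0x0) (.leaf 0x0))) (.node 2 (.node 1 (.leaf 0x0) (.leaf 0x0)) (.node 1 (.leaf 0x0) (.leaf 0x0)))))) (.node 16 (.node 8 (.node 4 (.node 2 (.node 1 (.leaf 0x0) (.leaf 0x0)) (.node 1 (.leaf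 0x0) (.leaf 0x0))) (.node 2 (.node 1 (.leaf 0x0) (.leaf 0x0)) (.node 1 (.leaf 0x0) (.leaf 0x0)))) (.node 4 (.node 2 (.node 1 (.leaf 0x0) (.leaf 0x0)) (.node 1 (.leaf 0x0) (.leaf 0x0))) (.node 2 (.node 1 (.leaf 0x0) (.leaf 0x0)) (.node 1 (.leaf 0x0) (.leaf 0x0))))) (.node 8 (.node 4 (.node 2 (.node 1 (.leaf 0x0) (.leaf 0x0)) (.node 1 (.leaf 0x0) (.leaf 0x0))) (.node 2 (.node 1 (.leaf 0x0) (.leaf 0x0)) (.node 1 (.leaf 0x0) (.leaf 0x0)))) (.node 4 (.node 2 (.node 1 (.leaf 0x0) (.leaf 0x0)) (.node 1 (.leaf 0x0) (.leaf 0x0))) (.node 2 (.node 1 (.leaf 0x0) (.leaf 0x0)) (.node 1 (.leaf 0x0) (.leaf 0x0)))))))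

def moves5_47 : Tree :=
  .node 64 (.node 32 (.node 16 (.node 8 (.node 4 (.node 2 (.node 1 (.leaf 0x0) (.leaf 0x0)) (.node 1 (.leaf 0x0) (.leaf 0x0))) (.node 2 (.node 1 (.leaf 0x0) (.leaf 0x0)) (.node 1 (.leaf 0x0) (.leaf 0x0)))) (.node 4 (.node 2 (.node 1 (.leaf 0x0) (.leaf 0x0)) (.node 1 (.leaf 0x0) (.leaf 0x0))) (.node 2 (.node 1 (.leaf 0x0) (.leaf 0x0)) (.node 1 (.leaf 0x0) (.leaf 0x0))))) (.node 8 (.node 4 (.node 2 (.node 1 (.leaf 0x0) (.leaf 0x0)) (.node 1 (.leaf 0x0) (.leaf 0x0))) (.node 2 (.node 1 (.leaf 0x0) (.leaf 0x0)) (.node 1 (.leaf 0x0) (.leaf 0x0)))) (.node 4 (.node 2 (.node 1 (.leaf 0x0) (.leaf 0x0)) (.node 1 (.leaf 0x0) (.leaf 0x0))) (.node 2 (.node 1 (.leaf 0x0) (.leaf 0x0)) (.node 1 (.leaf 0x0) (.leaf 0x0)))))) (.node 16 (.node 8 (.node 4 (.node 2 (.node 1 (.leaf 0x0) (.leaf 0x0)) (.node 1 (.leaf 0x0) (.leaf 0x0))) (.node 2 (.node 1 (.leaf 0x0)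 (.leaf 0x0)) (.node 1 (.leaf 0x0) (.leaf 0x0)))) (.node 4 (.node 2 (.node 1 (.leaf 0x0) (.leaf 0x0)) (.node 1 (.leaf 0x0) (.leaf 0x0))) (.node 2 (.node 1 (.leaf 0x0) (.leaf 0x0)) (.node 1 (.leaf 0x0) (.leaf 0x0))))) (.node 8 (.node 4 (.node 2 (.node 1 (.leaf 0x0) (.leaf 0x0)) (.node 1 (.leaf 0x0) (.leaf 0x0))) (.node 2 (.node 1 (.leaf 0x0) (.leaf 0x0)) (.node 1 (.leaf 0x0) (.leaf 0x0)))) (.node 4 (.node 2 (.node 1 (.leaf 0x0) (.leaf 0x0)) (.node 1 (.leaf 0x0) (.leaf 0x0))) (.node 2 (.node 1 (.leaf 0x0) (.leaf 0x0)) (.node 1 (.leaf 0x0) (.leaf 0x0))))))) (.node 32 (.node 16 (.node 8 (.node 4 (.node 2 (.node 1 (.leaf 0x0) (.leaf 0x0)) (.node 1 (.leaf 0x0) (.leaf 0x0))) (.node 2 (.node 1 (.leaf 0x0) (.leaf 0x0)) (.node 1 (.leaf 0x0) (.leaf 0x0)))) (.node 4 (.node 2 (.node 1 (.leaf 0x0) (.leaf 0x0)) (.node 1 (.leaf 0x0) (.leaf 0x0))) (.node 2 (.node 1 (.leaf 0x0) (.leaf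 0x0)) (.node 1 (.leaf 0x0) (.leaf 0x0))))) (.node 8 (.node 4 (.node 2 (.node 1 (.leaf 0x0) (.leaf 0x0)) (.node 1 (.leaf 0x0) (.leaf 0x0))) (.node 2 (.node 1 (.leaf 0x0) (.leaf 0x0)) (.node 1 (.leaf 0x0) (.leaf 0x0)))) (.node 4 (.node 2 (.node 1 (.leaf 0x0) (.leaf 0x0)) (.node 1 (.leaf 0x0) (.leaf 0x0))) (.node 2 (.node 1 (.leaf 0x0) (.leaf 0x0)) (.node 1 (.leaf 0x0) (.leaf 0x0)))))) (.node 16 (.node 8 (.node 4 (.node 2 (.node 1 (.leaf 0x0) (.leaf 0x0)) (.node 1 (.leaf 0x0) (.leaf 0x0))) (.node 2 (.node 1 (.leaf 0x0) (.leaf 0x0)) (.node 1 (.leaf 0x0) (.leaf 0x0)))) (.node 4 (.node 2 (.node 1 (.leaf 0x0) (.leaf 0x0)) (.node 1 (.leaf 0x0) (.leaf 0x0))) (.node 2 (.node 1 (.leaf 0x0) (.leaf 0x0)) (.node 1 (.leaf 0x0) (.leaf 0x0))))) (.node 8 (.node 4 (.node 2 (.node 1 (.leaf 0x0) (.leaf 0x0)) (.node 1 (.leaf 0x0) (.leaf 0x0))) (.node 2 (.node 1 (.leaf 0x0) (.leaf 0x0))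 (.node 1 (.leaf 0x0) (.leaf 0x0)))) (.node 4 (.node 2 (.node 1 (.leaf 0x0) (.leaf 0x0)) (.node 1 (.leaf 0x0) (.leaf 0x0))) (.node 2 (.node 1 (.leaf 0x0) (.leaf 0x0)) (.node 1 (.leaf 0x0) (.leaf 0x0)))))))

def moves5_48 : Tree :=
  .node 64 (.node 32 (.node 16 (.node 8 (.node 4 (.node 2 (.node 1 (.leaf 0x0) (.leaf 0x0)) (.node 1 (.leaf 0x0) (.leaf 0x0))) (.node 2 (.node 1 (.leaf 0x0) (.leaf 0x0)) (.node 1 (.leaf 0x0) (.leaf 0x0)))) (.node 4 (.node 2 (.node 1 (.leaf 0x0) (.leaf 0x0)) (.node 1 (.leaf 0x0) (.leaf 0x0))) (.node 2 (.node 1 (.leaf 0x0) (.leaf 0x0)) (.node 1 (.leaf 0x0) (.leaf 0x0))))) (.node 8 (.node 4 (.node 2 (.node 1 (.leaf 0x0) (.leaf 0x0)) (.node 1 (.leaf 0x0) (.leaf 0x0))) (.node 2 (.node 1 (.leaf 0x0) (.leaf 0x0)) (.node 1 (.leaf 0x0) (.leaf 0x0)))) (.node 4 (.node 2 (.node 1 (.leaf 0x0) (.leaf 0x0)) (.node 1 (.leaf 0x0) (.leaf 0x0))) (.node 2 (.node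 1 (.leaf 0x0) (.leaf 0x0)) (.node 1 (.leaf 0x0) (.leaf 0x0)))))) (.node 16 (.node 8 (.node 4 (.node 2 (.node 1 (.leaf 0x0) (.leaf 0x0)) (.node 1 (.leaf 0x0) (.leaf 0x0))) (.node 2 (.node 1 (.leaf 0x0) (.leaf 0x0)) (.node 1 (.leaf 0x0) (.leaf 0x0)))) (.node 4 (.node 2 (.node 1 (.leaf 0x0) (.leaf 0x0)) (.node 1 (.leaf 0x0) (.leaf 0x0))) (.node 2 (.node 1 (.leaf 0x0) (.leaf 0x0)) (.node 1 (.leaf 0x0) (.leaf 0x0))))) (.node 8 (.node 4 (.node 2 (.node 1 (.leaf 0x0) (.leaf 0x0)) (.node 1 (.leaf 0x0) (.leaf 0x0))) (.node 2 (.node 1 (.leaf 0x0) (.leaf 0x0)) (.node 1 (.leaf 0x0) (.leaf 0x0)))) (.node 4 (.node 2 (.node 1 (.leaf 0x0) (.leaf 0x0)) (.node 1 (.leaf 0x0) (.leaf 0x0))) (.node 2 (.node 1 (.leaf 0x0) (.leaf 0x0)) (.node 1 (.leaf 0x0) (.leaf 0x0))))))) (.node 32 (.node 16 (.node 8 (.node 4 (.node 2 (.node 1 (.leaf 0x0) (.leaf 0x0)) (.node 1 (.leaf 0x0) (.leaf 0x0)))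 (.node 2 (.node 1 (.leaf 0x0) (.leaf 0x0)) (.node 1 (.leaf 0x0) (.leaf 0x0)))) (.node 4 (.node 2 (.node 1 (.leaf 0x0) (.leaf 0x0)) (.node 1 (.leaf 0x0) (.leaf 0x0))) (.node 2 (.node 1 (.leaf 0x0) (.leaf 0x0)) (.node 1 (.leaf 0x0) (.leaf 0x0))))) (.node 8 (.node 4 (.node 2 (.node 1 (.leaf 0x0) (.leaf 0x0)) (.node 1 (.leaf 0x0) (.leaf 0x0))) (.node 2 (.node 1 (.leaf 0x0) (.leaf 0x0)) (.node 1 (.leaf 0x0) (.leaf 0x0)))) (.node 4 (.node 2 (.node 1 (.leaf 0x0) (.leaf 0x0)) (.node 1 (.leaf 0x0) (.leaf 0x0))) (.node 2 (.node 1 (.leaf 0x0) (.leaf 0x0)) (.node 1 (.leaf 0x0) (.leaf 0x0)))))) (.node 16 (.node 8 (.node 4 (.node 2 (.node 1 (.leaf 0x0) (.leaf 0x0)) (.node 1 (.leaf 0x0) (.leaf 0x0))) (.node 2 (.node 1 (.leaf 0x0) (.leaf 0x0)) (.node 1 (.leaf 0x0) (.leaf 0x0)))) (.node 4 (.node 2 (.node 1 (.leaf 0x0) (.leaf 0x0)) (.node 1 (.leaf 0x0) (.leaf 0x0))) (.node 2 (.node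 1 (.leaf 0x0) (.leaf 0x0)) (.node 1 (.leaf 0x0) (.leaf 0x0))))) (.node 8 (.node 4 (.node 2 (.node 1 (.leaf 0x0) (.leaf 0x0)) (.node 1 (.leaf 0x0) (.leaf 0x0))) (.node 2 (.node 1 (.leaf 0x0) (.leaf 0x0)) (.node 1 (.leaf 0x0) (.leaf 0x0)))) (.node 4 (.node 2 (.node 1 (.leaf 0x0) (.leaf 0x0)) (.node 1 (.leaf 0x0) (.leaf 0x0))) (.node 2 (.node 1 (.leaf 0x0) (.leaf 0x0)) (.node 1 (.leaf 0x0) (.leaf 0x0)))))))

def moves5_49 : Tree :=
  .node 64 (.node 32 (.node 16 (.node 8 (.node 4 (.node 2 (.node 1 (.leaf 0x0) (.leaf 0x0)) (.node 1 (.leaf 0x0) (.leaf 0x0))) (.node 2 (.node 1 (.leaf 0x0) (.leaf 0x0)) (.node 1 (.leaf 0x0) (.leaf 0x0)))) (.node 4 (.node 2 (.node 1 (.leaf 0x0) (.leaf 0x0)) (.node 1 (.leaf 0x0) (.leaf 0x0))) (.node 2 (.node 1 (.leaf 0x0) (.leaf 0x0)) (.node 1 (.leaf 0x0) (.leaf 0x0))))) (.node 8 (.node 4 (.node 2 (.node 1 (.leaf 0x0) (.leaf 0x0)) (.node 1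 (.leaf 0x0) (.leaf 0x0))) (.node 2 (.node 1 (.leaf 0x0) (.leaf 0x0)) (.node 1 (.leaf 0x0) (.leaf 0x0)))) (.node 4 (.node 2 (.node 1 (.leaf 0x0) (.leaf 0x0)) (.node 1 (.leaf 0x0) (.leaf 0x0))) (.node 2 (.node 1 (.leaf 0x0) (.leaf 0x0)) (.node 1 (.leaf 0x0) (.leaf 0x0)))))) (.node 16 (.node 8 (.node 4 (.node 2 (.node 1 (.leaf 0x0) (.leaf 0x0)) (.node 1 (.leaf 0x0) (.leaf 0x0))) (.node 2 (.node 1 (.leaf 0x0) (.leaf 0x0)) (.node 1 (.leaf 0x0) (.leaf 0x0)))) (.node 4 (.node 2 (.node 1 (.leaf 0x0) (.leaf 0x0)) (.node 1 (.leaf 0x0) (.leaf 0x0))) (.node 2 (.node 1 (.leaf 0x0) (.leaf 0x0)) (.node 1 (.leaf 0x0) (.leaf 0x0))))) (.node 8 (.node 4 (.node 2 (.node 1 (.leaf 0x0) (.leaf 0x0)) (.node 1 (.leaf 0x0) (.leaf 0x0))) (.node 2 (.node 1 (.leaf 0x0) (.leaf 0x0)) (.node 1 (.leaf 0x0) (.leaf 0x0)))) (.node 4 (.node 2 (.node 1 (.leaf 0x0) (.leaf 0x0)) (.node 1 (.leaf 0x0) (.leaf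 0x0))) (.node 2 (.node 1 (.leaf 0x0) (.leaf 0x0)) (.node 1 (.leaf 0x0) (.leaf 0x0))))))) (.node 32 (.node 16 (.node 8 (.node 4 (.node 2 (.node 1 (.leaf 0x0) (.leaf 0x0)) (.node 1 (.leaf 0x0) (.leaf 0x0))) (.node 2 (.node 1 (.leaf 0x0) (.leaf 0x0)) (.node 1 (.leaf 0x0) (.leaf 0x0)))) (.node 4 (.node 2 (.node 1 (.leaf 0x0) (.leaf 0x0)) (.node 1 (.leaf 0x0) (.leaf 0x0))) (.node 2 (.node 1 (.leaf 0x0) (.leaf 0x0)) (.node 1 (.leaf 0x0) (.leaf 0x0))))) (.node 8 (.node 4 (.node 2 (.node 1 (.leaf 0x0) (.leaf 0x0)) (.node 1 (.leaf 0x0) (.leaf 0x0))) (.node 2 (.node 1 (.leaf 0x0) (.leaf 0x0)) (.node 1 (.leaf 0x0) (.leaf 0x0)))) (.node 4 (.node 2 (.node 1 (.leaf 0x0) (.leaf 0x0)) (.node 1 (.leaf 0x0) (.leaf 0x0))) (.node 2 (.node 1 (.leaf 0x0) (.leaf 0x0)) (.node 1 (.leaf 0x0) (.leaf 0x0)))))) (.node 16 (.node 8 (.node 4 (.node 2 (.node 1 (.leaf 0x0) (.leaf 0x0)) (.node 1 (.leaf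 0x0) (.leaf 0x0))) (.node 2 (.node 1 (.leaf 0x0) (.leaf 0x0)) (.node 1 (.leaf 0x0) (.leaf 0x0)))) (.node 4 (.node 2 (.node 1 (.leaf 0x0) (.leaf 0x0)) (.node 1 (.leaf 0x0) (.leaf 0x0))) (.node 2 (.node 1 (.leaf 0x0) (.leaf 0x0)) (.node 1 (.leaf 0x0) (.leaf 0x0))))) (.node 8 (.node 4 (.node 2 (.node 1 (.leaf 0x0) (.leaf 0x0)) (.node 1 (.leaf 0x0) (.leaf 0x0))) (.node 2 (.node 1 (.leaf 0x0) (.leaf 0x0)) (.node 1 (.leaf 0x0) (.leaf 0x0)))) (.node 4 (.node 2 (.node 1 (.leaf 0x0) (.leaf 0x0)) (.node 1 (.leaf 0x0) (.leaf 0x0))) (.node 2 (.node 1 (.leaf 0x0) (.leaf 0x0)) (.node 1 (.leaf 0x0) (.leaf 0x0)))))))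

def moves5_50 : Tree :=
  .node 64 (.node 32 (.node 16 (.node 8 (.node 4 (.node 2 (.node 1 (.leaf 0x0) (.leaf 0x0)) (.node 1 (.leaf 0x0) (.leaf 0x0))) (.node 2 (.node 1 (.leaf 0x0) (.leaf 0x0)) (.node 1 (.leaf 0x0) (.leaf 0x0)))) (.node 4 (.node 2 (.node 1 (.leaf 0x0) (.leaf 0x0)) (.node 1 (.leaf 0x0) (.leaf 0x0))) (.node 2 (.node 1 (.leaf 0x0) (.leaf 0x0)) (.node 1 (.leaf 0x0) (.leaf 0x0))))) (.node 8 (.node 4 (.node 2 (.node 1 (.leaf 0x0) (.leaf 0x0)) (.node 1 (.leaf 0x0) (.leaf 0x0))) (.node 2 (.node 1 (.leaf 0x0) (.leaf 0x0)) (.node 1 (.leaf 0x0) (.leaf 0x0)))) (.node 4 (.node 2 (.node 1 (.leaf 0x0) (.leaf 0x0)) (.node 1 (.leaf 0x0) (.leaf 0x0))) (.node 2 (.node 1 (.leaf 0x0) (.leaf 0x0)) (.node 1 (.leaf 0x0) (.leaf 0x0)))))) (.node 16 (.node 8 (.node 4 (.node 2 (.node 1 (.leaf 0x0) (.leaf 0x0)) (.node 1 (.leaf 0x0) (.leaf 0x0))) (.node 2 (.node 1 (.leaf 0x0)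 (.leaf 0x0)) (.node 1 (.leaf 0x0) (.leaf 0x0)))) (.node 4 (.node 2 (.node 1 (.leaf 0x0) (.leaf 0x0)) (.node 1 (.leaf 0x0) (.leaf 0x0))) (.node 2 (.node 1 (.leaf 0x0) (.leaf 0x0)) (.node 1 (.leaf 0x0) (.leaf 0x0))))) (.node 8 (.node 4 (.node 2 (.node 1 (.leaf 0x0) (.leaf 0x0)) (.node 1 (.leaf 0x0) (.leaf 0x0))) (.node 2 (.node 1 (.leaf 0x0) (.leaf 0x0)) (.node 1 (.leaf 0x0) (.leaf 0x0)))) (.node 4 (.node 2 (.node 1 (.leaf 0x0) (.leaf 0x0)) (.node 1 (.leaf 0x0) (.leaf 0x0))) (.node 2 (.node 1 (.leaf 0x0) (.leaf 0x0)) (.node 1 (.leaf 0x0) (.leaf 0x0))))))) (.node 32 (.node 16 (.node 8 (.node 4 (.node 2 (.node 1 (.leaf 0x0) (.leaf 0x0)) (.node 1 (.leaf 0x0) (.leaf 0x0))) (.node 2 (.node 1 (.leaf 0x0) (.leaf 0x0)) (.node 1 (.leaf 0x0) (.leaf 0x0)))) (.node 4 (.node 2 (.node 1 (.leaf 0x0) (.leaf 0x0)) (.node 1 (.leaf 0x0) (.leaf 0x0))) (.node 2 (.node 1 (.leaf 0x0) (.leaf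 0x0)) (.node 1 (.leaf 0x0) (.leaf 0x0))))) (.node 8 (.node 4 (.node 2 (.node 1 (.leaf 0x0) (.leaf 0x0)) (.node 1 (.leaf 0x0) (.leaf 0x0))) (.node 2 (.node 1 (.leaf 0x0) (.leaf 0x0)) (.node 1 (.leaf 0x0) (.leaf 0x0)))) (.node 4 (.node 2 (.node 1 (.leaf 0x0) (.leaf 0x0)) (.node 1 (.leaf 0x0) (.leaf 0x0))) (.node 2 (.node 1 (.leaf 0x0) (.leaf 0x0)) (.node 1 (.leaf 0x0) (.leaf 0x0)))))) (.node 16 (.node 8 (.node 4 (.node 2 (.node 1 (.leaf 0x0) (.leaf 0x0)) (.node 1 (.leaf 0x0) (.leaf 0x0))) (.node 2 (.node 1 (.leaf 0x0) (.leaf 0x0)) (.node 1 (.leaf 0x0) (.leaf 0x0)))) (.node 4 (.node 2 (.node 1 (.leaf 0x0) (.leaf 0x0)) (.node 1 (.leaf 0x0) (.leaf 0x0))) (.node 2 (.node 1 (.leaf 0x0) (.leaf 0x0)) (.node 1 (.leaf 0x0) (.leaf 0x0))))) (.node 8 (.node 4 (.node 2 (.node 1 (.leaf 0x0) (.leaf 0x0)) (.node 1 (.leaf 0x0) (.leaf 0x0))) (.node 2 (.node 1 (.leaf 0x0) (.leaf 0x0))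 (.node 1 (.leaf 0x0) (.leaf 0x0)))) (.node 4 (.node 2 (.node 1 (.leaf 0x0) (.leaf 0x0)) (.node 1 (.leaf 0x0) (.leaf 0x0))) (.node 2 (.node 1 (.leaf 0x0) (.leaf 0x0)) (.node 1 (.leaf 0x0) (.leaf 0x0)))))))

def moves5_51 : Tree :=
  .node 64 (.node 32 (.node 16 (.node 8 (.node 4 (.node 2 (.node 1 (.leaf 0x0) (.leaf 0x0)) (.node 1 (.leaf 0x0) (.leaf 0x0))) (.node 2 (.node 1 (.leaf 0x0) (.leaf 0x0)) (.node 1 (.leaf 0x0) (.leaf 0x0)))) (.node 4 (.node 2 (.node 1 (.leaf 0x0) (.leaf 0x0)) (.node 1 (.leaf 0x0) (.leaf 0x0))) (.node 2 (.node 1 (.leaf 0x0) (.leaf 0x0)) (.node 1 (.leaf 0x0) (.leaf 0x0))))) (.node 8 (.node 4 (.node 2 (.node 1 (.leaf 0x0) (.leaf 0x0)) (.node 1 (.leaf 0x0) (.leaf 0x0))) (.node 2 (.node 1 (.leaf 0x0) (.leaf 0x0)) (.node 1 (.leaf 0x0) (.leaf 0x0)))) (.node 4 (.node 2 (.node 1 (.leaf 0x0) (.leaf 0x0)) (.node 1 (.leaf 0x0) (.leaf 0x0))) (.node 2 (.node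 1 (.leaf 0x0) (.leaf 0x0)) (.node 1 (.leaf 0x0) (.leaf 0x0)))))) (.node 16 (.node 8 (.node 4 (.node 2 (.node 1 (.leaf 0x0) (.leaf 0x0)) (.node 1 (.leaf 0x0) (.leaf 0x0))) (.node 2 (.node 1 (.leaf 0x0) (.leaf 0x0)) (.node 1 (.leaf 0x0) (.leaf 0x0)))) (.node 4 (.node 2 (.node 1 (.leaf 0x0) (.leaf 0x0)) (.node 1 (.leaf 0x0) (.leaf 0x0))) (.node 2 (.node 1 (.leaf 0x0) (.leaf 0x0)) (.node 1 (.leaf 0x0) (.leaf 0x0))))) (.node 8 (.node 4 (.node 2 (.node 1 (.leaf 0x0) (.leaf 0x0)) (.node 1 (.leaf 0x0) (.leaf 0x0))) (.node 2 (.node 1 (.leaf 0x0) (.leaf 0x0)) (.node 1 (.leaf 0x0) (.leaf 0x0)))) (.node 4 (.node 2 (.node 1 (.leaf 0x0) (.leaf 0x0)) (.node 1 (.leaf 0x0) (.leaf 0x0))) (.node 2 (.node 1 (.leaf 0x0) (.leaf 0x0)) (.node 1 (.leaf 0x0) (.leaf 0x0))))))) (.node 32 (.node 16 (.node 8 (.node 4 (.node 2 (.node 1 (.leaf 0x0) (.leaf 0x0)) (.node 1 (.leaf 0x0) (.leaf 0x0)))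 (.node 2 (.node 1 (.leaf 0x0) (.leaf 0x0)) (.node 1 (.leaf 0x0) (.leaf 0x0)))) (.node 4 (.node 2 (.node 1 (.leaf 0x0) (.leaf 0x0)) (.node 1 (.leaf 0x0) (.leaf 0x0))) (.node 2 (.node 1 (.leaf 0x0) (.leaf 0x0)) (.node 1 (.leaf 0x0) (.leaf 0x0))))) (.node 8 (.node 4 (.node 2 (.node 1 (.leaf 0x0) (.leaf 0x0)) (.node 1 (.leaf 0x0) (.leaf 0x0))) (.node 2 (.node 1 (.leaf 0x0) (.leaf 0x0)) (.node 1 (.leaf 0x0) (.leaf 0x0)))) (.node 4 (.node 2 (.node 1 (.leaf 0x0) (.leaf 0x0)) (.node 1 (.leaf 0x0) (.leaf 0x0))) (.node 2 (.node 1 (.leaf 0x0) (.leaf 0x0)) (.node 1 (.leaf 0x0) (.leaf 0x0)))))) (.node 16 (.node 8 (.node 4 (.node 2 (.node 1 (.leaf 0x0) (.leaf 0x0)) (.node 1 (.leaf 0x0) (.leaf 0x0))) (.node 2 (.node 1 (.leaf 0x0) (.leaf 0x0)) (.node 1 (.leaf 0x0) (.leaf 0x0)))) (.node 4 (.node 2 (.node 1 (.leaf 0x0) (.leaf 0x0)) (.node 1 (.leaf 0x0) (.leaf 0x0))) (.node 2 (.node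 1 (.leaf 0x0) (.leaf 0x0)) (.node 1 (.leaf 0x0) (.leaf 0x0))))) (.node 8 (.node 4 (.node 2 (.node 1 (.leaf 0x0) (.leaf 0x0)) (.node 1 (.leaf 0x0) (.leaf 0x0))) (.node 2 (.node 1 (.leaf 0x0) (.leaf 0x0)) (.node 1 (.leaf 0x0) (.leaf 0x0)))) (.node 4 (.node 2 (.node 1 (.leaf 0x0) (.leaf 0x0)) (.node 1 (.leaf 0x0) (.leaf 0x0))) (.node 2 (.node 1 (.leaf 0x0) (.leaf 0x0)) (.node 1 (.leaf 0x0) (.leaf 0x0)))))))

def moves5_52 : Tree :=
  .node 64 (.node 32 (.node 16 (.node 8 (.node 4 (.node 2 (.node 1 (.leaf 0x0) (.leaf 0x0)) (.node 1 (.leaf 0x0) (.leaf 0x0))) (.node 2 (.node 1 (.leaf 0x0) (.leaf 0x0)) (.node 1 (.leaf 0x0) (.leaf 0x0)))) (.node 4 (.node 2 (.node 1 (.leaf 0x0) (.leaf 0x0)) (.node 1 (.leaf 0x0) (.leaf 0x0))) (.node 2 (.node 1 (.leaf 0x0) (.leaf 0x0)) (.node 1 (.leaf 0x0) (.leaf 0x0))))) (.node 8 (.node 4 (.node 2 (.node 1 (.leaf 0x0) (.leaf 0x0)) (.node 1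 (.leaf 0x0) (.leaf 0x0))) (.node 2 (.node 1 (.leaf 0x0) (.leaf 0x0)) (.node 1 (.leaf 0x0) (.leaf 0x0)))) (.node 4 (.node 2 (.node 1 (.leaf 0x0) (.leaf 0x0)) (.node 1 (.leaf 0x0) (.leaf 0x0))) (.node 2 (.node 1 (.leaf 0x0) (.leaf 0x0)) (.node 1 (.leaf 0x0) (.leaf 0x0)))))) (.node 16 (.node 8 (.node 4 (.node 2 (.node 1 (.leaf 0x0) (.leaf 0x0)) (.node 1 (.leaf 0x0) (.leaf 0x0))) (.node 2 (.node 1 (.leaf 0x0) (.leaf 0x0)) (.node 1 (.leaf 0x0) (.leaf 0x0)))) (.node 4 (.node 2 (.node 1 (.leaf 0x0) (.leaf 0x0)) (.node 1 (.leaf 0x0) (.leaf 0x0))) (.node 2 (.node 1 (.leaf 0x0) (.leaf 0x0)) (.node 1 (.leaf 0x0) (.leaf 0x0))))) (.node 8 (.node 4 (.node 2 (.node 1 (.leaf 0x0) (.leaf 0x0)) (.node 1 (.leaf 0x0) (.leaf 0x0))) (.node 2 (.node 1 (.leaf 0x0) (.leaf 0x0)) (.node 1 (.leaf 0x0) (.leaf 0x0)))) (.node 4 (.node 2 (.node 1 (.leaf 0x0) (.leaf 0x0)) (.node 1 (.leaf 0x0) (.leaf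 0x0))) (.node 2 (.node 1 (.leaf 0x0) (.leaf 0x0)) (.node 1 (.leaf 0x0) (.leaf 0x0))))))) (.node 32 (.node 16 (.node 8 (.node 4 (.node 2 (.node 1 (.leaf 0x0) (.leaf 0x0)) (.node 1 (.leaf 0x0) (.leaf 0x0))) (.node 2 (.node 1 (.leaf 0x0) (.leaf 0x0)) (.node 1 (.leaf 0x0) (.leaf 0x0)))) (.node 4 (.node 2 (.node 1 (.leaf 0x0) (.leaf 0x0)) (.node 1 (.leaf 0x0) (.leaf 0x0))) (.node 2 (.node 1 (.leaf 0x0) (.leaf 0x0)) (.node 1 (.leaf 0x0) (.leaf 0x0))))) (.node 8 (.node 4 (.node 2 (.node 1 (.leaf 0x0) (.leaf 0x0)) (.node 1 (.leaf 0x0) (.leaf 0x0))) (.node 2 (.node 1 (.leaf 0x0) (.leaf 0x0)) (.node 1 (.leaf 0x0) (.leaf 0x0)))) (.node 4 (.node 2 (.node 1 (.leaf 0x0) (.leaf 0x0)) (.node 1 (.leaf 0x0) (.leaf 0x0))) (.node 2 (.node 1 (.leaf 0x0) (.leaf 0x0)) (.node 1 (.leaf 0x0) (.leaf 0x0)))))) (.node 16 (.node 8 (.node 4 (.node 2 (.node 1 (.leaf 0x0) (.leaf 0x0)) (.node 1 (.leaf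 0x0) (.leaf 0x0))) (.node 2 (.node 1 (.leaf 0x0) (.leaf 0x0)) (.node 1 (.leaf 0x0) (.leaf 0x0)))) (.node 4 (.node 2 (.node 1 (.leaf 0x0) (.leaf 0x0)) (.node 1 (.leaf 0x0) (.leaf 0x0))) (.node 2 (.node 1 (.leaf 0x0) (.leaf 0x0)) (.node 1 (.leaf 0x0) (.leaf 0x0))))) (.node 8 (.node 4 (.node 2 (.node 1 (.leaf 0x0) (.leaf 0x0)) (.node 1 (.leaf 0x0) (.leaf 0x0))) (.node 2 (.node 1 (.leaf 0x0) (.leaf 0x0)) (.node 1 (.leaf 0x0) (.leaf 0x0)))) (.node 4 (.node 2 (.node 1 (.leaf 0x0) (.leaf 0x0)) (.node 1 (.leaf 0x0) (.leaf 0x0))) (.node 2 (.node 1 (.leaf 0x0) (.leaf 0x0)) (.node 1 (.leaf 0x0) (.leaf 0x0)))))))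

def moves5_53 : Tree :=
  .node 64 (.node 32 (.node 16 (.node 8 (.node 4 (.node 2 (.node 1 (.leaf 0x0) (.leaf 0x0)) (.node 1 (.leaf 0x0) (.leaf 0x0))) (.node 2 (.node 1 (.leaf 0x0) (.leaf 0x0)) (.node 1 (.leaf 0x0) (.leaf 0x0)))) (.node 4 (.node 2 (.node 1 (.leaf 0x0) (.leaf 0x0)) (.node 1 (.leaf 0x0) (.leaf 0x0))) (.node 2 (.node 1 (.leaf 0x0) (.leaf 0x0)) (.node 1 (.leaf 0x0) (.leaf 0x0))))) (.node 8 (.node 4 (.node 2 (.node 1 (.leaf 0x0) (.leaf 0x0)) (.node 1 (.leaf 0x0) (.leaf 0x0))) (.node 2 (.node 1 (.leaf 0x0) (.leaf 0x0)) (.node 1 (.leaf 0x0) (.leaf 0x0)))) (.node 4 (.node 2 (.node 1 (.leaf 0x0) (.leaf 0x0)) (.node 1 (.leaf 0x0) (.leaf 0x0))) (.node 2 (.node 1 (.leaf 0x0) (.leaf 0x0)) (.node 1 (.leaf 0x0) (.leaf 0x0)))))) (.node 16 (.node 8 (.node 4 (.node 2 (.node 1 (.leaf 0x0) (.leaf 0x0)) (.node 1 (.leaf 0x0) (.leaf 0x0))) (.node 2 (.node 1 (.leaf 0x0)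 (.leaf 0x0)) (.node 1 (.leaf 0x0) (.leaf 0x0)))) (.node 4 (.node 2 (.node 1 (.leaf 0x0) (.leaf 0x0)) (.node 1 (.leaf 0x0) (.leaf 0x0))) (.node 2 (.node 1 (.leaf 0x0) (.leaf 0x0)) (.node 1 (.leaf 0x0) (.leaf 0x0))))) (.node 8 (.node 4 (.node 2 (.node 1 (.leaf 0x0) (.leaf 0x0)) (.node 1 (.leaf 0x0) (.leaf 0x0))) (.node 2 (.node 1 (.leaf 0x0) (.leaf 0x0)) (.node 1 (.leaf 0x0) (.leaf 0x0)))) (.node 4 (.node 2 (.node 1 (.leaf 0x0) (.leaf 0x0)) (.node 1 (.leaf 0x0) (.leaf 0x0))) (.node 2 (.node 1 (.leaf 0x0) (.leaf 0x0)) (.node 1 (.leaf 0x0) (.leaf 0x0))))))) (.node 32 (.node 16 (.node 8 (.node 4 (.node 2 (.node 1 (.leaf 0x0) (.leaf 0x0)) (.node 1 (.leaf 0x0) (.leaf 0x0))) (.node 2 (.node 1 (.leaf 0x0) (.leaf 0x0)) (.node 1 (.leaf 0x0) (.leaf 0x0)))) (.node 4 (.node 2 (.node 1 (.leaf 0x0) (.leaf 0x0)) (.node 1 (.leaf 0x0) (.leaf 0x0))) (.node 2 (.node 1 (.leaf 0x0) (.leaf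 0x0)) (.node 1 (.leaf 0x0) (.leaf 0x0))))) (.node 8 (.node 4 (.node 2 (.node 1 (.leaf 0x0) (.leaf 0x0)) (.node 1 (.leaf 0x0) (.leaf 0x0))) (.node 2 (.node 1 (.leaf 0x0) (.leaf 0x0)) (.node 1 (.leaf 0x0) (.leaf 0x0)))) (.node 4 (.node 2 (.node 1 (.leaf 0x0) (.leaf 0x0)) (.node 1 (.leaf 0x0) (.leaf 0x0))) (.node 2 (.node 1 (.leaf 0x0) (.leaf 0x0)) (.node 1 (.leaf 0x0) (.leaf 0x0)))))) (.node 16 (.node 8 (.node 4 (.node 2 (.node 1 (.leaf 0x0) (.leaf 0x0)) (.node 1 (.leaf 0x0) (.leaf 0x0))) (.node 2 (.node 1 (.leaf 0x0) (.leaf 0x0)) (.node 1 (.leaf 0x0) (.leaf 0x0)))) (.node 4 (.node 2 (.node 1 (.leaf 0x0) (.leaf 0x0)) (.node 1 (.leaf 0x0) (.leaf 0x0))) (.node 2 (.node 1 (.leaf 0x0) (.leaf 0x0)) (.node 1 (.leaf 0x0) (.leaf 0x0))))) (.node 8 (.node 4 (.node 2 (.node 1 (.leaf 0x0) (.leaf 0x0)) (.node 1 (.leaf 0x0) (.leaf 0x0))) (.node 2 (.node 1 (.leaf 0x0) (.leaf 0x0))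 (.node 1 (.leaf 0x0) (.leaf 0x0)))) (.node 4 (.node 2 (.node 1 (.leaf 0x0) (.leaf 0x0)) (.node 1 (.leaf 0x0) (.leaf 0x0))) (.node 2 (.node 1 (.leaf 0x0) (.leaf 0x0)) (.node 1 (.leaf 0x0) (.leaf 0x0)))))))

def moves5_54 : Tree :=
  .node 64 (.node 32 (.node 16 (.node 8 (.node 4 (.node 2 (.node 1 (.leaf 0x0) (.leaf 0x0)) (.node 1 (.leaf 0x0) (.leaf 0x0))) (.node 2 (.node 1 (.leaf 0x0) (.leaf 0x0)) (.node 1 (.leaf 0x0) (.leaf 0x0)))) (.node 4 (.node 2 (.node 1 (.leaf 0x0) (.leaf 0x0)) (.node 1 (.leaf 0x0) (.leaf 0x0))) (.node 2 (.node 1 (.leaf 0x0) (.leaf 0x0)) (.node 1 (.leaf 0x0) (.leaf 0x0))))) (.node 8 (.node 4 (.node 2 (.node 1 (.leaf 0x0) (.leaf 0x0)) (.node 1 (.leaf 0x0) (.leaf 0x0))) (.node 2 (.node 1 (.leaf 0x0) (.leaf 0x0)) (.node 1 (.leaf 0x0) (.leaf 0x0)))) (.node 4 (.node 2 (.node 1 (.leaf 0x0) (.leaf 0x0)) (.node 1 (.leaf 0x0) (.leaf 0x0))) (.node 2 (.node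 1 (.leaf 0x0) (.leaf 0x0)) (.node 1 (.leaf 0x0) (.leaf 0x0)))))) (.node 16 (.node 8 (.node 4 (.node 2 (.node 1 (.leaf 0x0) (.leaf 0x0)) (.node 1 (.leaf 0x0) (.leaf 0x0))) (.node 2 (.node 1 (.leaf 0x0) (.leaf 0x0)) (.node 1 (.leaf 0x0) (.leaf 0x0)))) (.node 4 (.node 2 (.node 1 (.leaf 0x0) (.leaf 0x0)) (.node 1 (.leaf 0x0) (.leaf 0x0))) (.node 2 (.node 1 (.leaf 0x0) (.leaf 0x0)) (.node 1 (.leaf 0x0) (.leaf 0x0))))) (.node 8 (.node 4 (.node 2 (.node 1 (.leaf 0x0) (.leaf 0x0)) (.node 1 (.leaf 0x0) (.leaf 0x0))) (.node 2 (.node 1 (.leaf 0x0) (.leaf 0x0)) (.node 1 (.leaf 0x0) (.leaf 0x0)))) (.node 4 (.node 2 (.node 1 (.leaf 0x0) (.leaf 0x0)) (.node 1 (.leaf 0x0) (.leaf 0x0))) (.node 2 (.node 1 (.leaf 0x0) (.leaf 0x0)) (.node 1 (.leaf 0x0) (.leaf 0x0))))))) (.node 32 (.node 16 (.node 8 (.node 4 (.node 2 (.node 1 (.leaf 0x0) (.leaf 0x0)) (.node 1 (.leaf 0x0) (.leaf 0x0)))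 (.node 2 (.node 1 (.leaf 0x0) (.leaf 0x0)) (.node 1 (.leaf 0x0) (.leaf 0x0)))) (.node 4 (.node 2 (.node 1 (.leaf 0x0) (.leaf 0x0)) (.node 1 (.leaf 0x0) (.leaf 0x0))) (.node 2 (.node 1 (.leaf 0x0) (.leaf 0x0)) (.node 1 (.leaf 0x0) (.leaf 0x0))))) (.node 8 (.node 4 (.node 2 (.node 1 (.leaf 0x0) (.leaf 0x0)) (.node 1 (.leaf 0x0) (.leaf 0x0))) (.node 2 (.node 1 (.leaf 0x0) (.leaf 0x0)) (.node 1 (.leaf 0x0) (.leaf 0x0)))) (.node 4 (.node 2 (.node 1 (.leaf 0x0) (.leaf 0x0)) (.node 1 (.leaf 0x0) (.leaf 0x0))) (.node 2 (.node 1 (.leaf 0x0) (.leaf 0x0)) (.node 1 (.leaf 0x0) (.leaf 0x0)))))) (.node 16 (.node 8 (.node 4 (.node 2 (.node 1 (.leaf 0x0) (.leaf 0x0)) (.node 1 (.leaf 0x0) (.leaf 0x0))) (.node 2 (.node 1 (.leaf 0x0) (.leaf 0x0)) (.node 1 (.leaf 0x0) (.leaf 0x0)))) (.node 4 (.node 2 (.node 1 (.leaf 0x0) (.leaf 0x0)) (.node 1 (.leaf 0x0) (.leaf 0x0))) (.node 2 (.node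 1 (.leaf 0x0) (.leaf 0x0)) (.node 1 (.leaf 0x0) (.leaf 0x0))))) (.node 8 (.node 4 (.node 2 (.node 1 (.leaf 0x0) (.leaf 0x0)) (.node 1 (.leaf 0x0) (.leaf 0x0))) (.node 2 (.node 1 (.leaf 0x0) (.leaf 0x0)) (.node 1 (.leaf 0x0) (.leaf 0x0)))) (.node 4 (.node 2 (.node 1 (.leaf 0x0) (.leaf 0x0)) (.node 1 (.leaf 0x0) (.leaf 0x0))) (.node 2 (.node 1 (.leaf 0x0) (.leaf 0x0)) (.node 1 (.leaf 0x0) (.leaf 0x0)))))))

def moves5_55 : Tree :=
  .node 64 (.node 32 (.node 16 (.node 8 (.node 4 (.node 2 (.node 1 (.leaf 0x0) (.leaf 0x0)) (.node 1 (.leaf 0x0) (.leaf 0x0))) (.node 2 (.node 1 (.leaf 0x0) (.leaf 0x0)) (.node 1 (.leaf 0x0) (.leaf 0x0)))) (.node 4 (.node 2 (.node 1 (.leaf 0x0) (.leaf 0x0)) (.node 1 (.leaf 0x0) (.leaf 0x0))) (.node 2 (.node 1 (.leaf 0x0) (.leaf 0x0)) (.node 1 (.leaf 0x0) (.leaf 0x0))))) (.node 8 (.node 4 (.node 2 (.node 1 (.leaf 0x0) (.leaf 0x0)) (.node 1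 (.leaf 0x0) (.leaf 0x0))) (.node 2 (.node 1 (.leaf 0x0) (.leaf 0x0)) (.node 1 (.leaf 0x0) (.leaf 0x0)))) (.node 4 (.node 2 (.node 1 (.leaf 0x0) (.leaf 0x0)) (.node 1 (.leaf 0x0) (.leaf 0x0))) (.node 2 (.node 1 (.leaf 0x0) (.leaf 0x0)) (.node 1 (.leaf 0x0) (.leaf 0x0)))))) (.node 16 (.node 8 (.node 4 (.node 2 (.node 1 (.leaf 0x0) (.leaf 0x0)) (.node 1 (.leaf 0x0) (.leaf 0x0))) (.node 2 (.node 1 (.leaf 0x0) (.leaf 0x0)) (.node 1 (.leaf 0x0) (.leaf 0x0)))) (.node 4 (.node 2 (.node 1 (.leaf 0x0) (.leaf 0x0)) (.node 1 (.leaf 0x0) (.leaf 0x0))) (.node 2 (.node 1 (.leaf 0x0) (.leaf 0x0)) (.node 1 (.leaf 0x0) (.leaf 0x0))))) (.node 8 (.node 4 (.node 2 (.node 1 (.leaf 0x0) (.leaf 0x0)) (.node 1 (.leaf 0x0) (.leaf 0x0))) (.node 2 (.node 1 (.leaf 0x0) (.leaf 0x0)) (.node 1 (.leaf 0x0) (.leaf 0x0)))) (.node 4 (.node 2 (.node 1 (.leaf 0x0) (.leaf 0x0)) (.node 1 (.leaf 0x0) (.leaf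 0x0))) (.node 2 (.node 1 (.leaf 0x0) (.leaf 0x0)) (.node 1 (.leaf 0x0) (.leaf 0x0))))))) (.node 32 (.node 16 (.node 8 (.node 4 (.node 2 (.node 1 (.leaf 0x0) (.leaf 0x0)) (.node 1 (.leaf 0x0) (.leaf 0x0))) (.node 2 (.node 1 (.leaf 0x0) (.leaf 0x0)) (.node 1 (.leaf 0x0) (.leaf 0x0)))) (.node 4 (.node 2 (.node 1 (.leaf 0x0) (.leaf 0x0)) (.node 1 (.leaf 0x0) (.leaf 0x0))) (.node 2 (.node 1 (.leaf 0x0) (.leaf 0x0)) (.node 1 (.leaf 0x0) (.leaf 0x0))))) (.node 8 (.node 4 (.node 2 (.node 1 (.leaf 0x0) (.leaf 0x0)) (.node 1 (.leaf 0x0) (.leaf 0x0))) (.node 2 (.node 1 (.leaf 0x0) (.leaf 0x0)) (.node 1 (.leaf 0x0) (.leaf 0x0)))) (.node 4 (.node 2 (.node 1 (.leaf 0x0) (.leaf 0x0)) (.node 1 (.leaf 0x0) (.leaf 0x0))) (.node 2 (.node 1 (.leaf 0x0) (.leaf 0x0)) (.node 1 (.leaf 0x0) (.leaf 0x0)))))) (.node 16 (.node 8 (.node 4 (.node 2 (.node 1 (.leaf 0x0) (.leaf 0x0)) (.node 1 (.leaf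 0x0) (.leaf 0x0))) (.node 2 (.node 1 (.leaf 0x0) (.leaf 0x0)) (.node 1 (.leaf 0x0) (.leaf 0x0)))) (.node 4 (.node 2 (.node 1 (.leaf 0x0) (.leaf 0x0)) (.node 1 (.leaf 0x0) (.leaf 0x0))) (.node 2 (.node 1 (.leaf 0x0) (.leaf 0x0)) (.node 1 (.leaf 0x0) (.leaf 0x0))))) (.node 8 (.node 4 (.node 2 (.node 1 (.leaf 0x0) (.leaf 0x0)) (.node 1 (.leaf 0x0) (.leaf 0x0))) (.node 2 (.node 1 (.leaf 0x0) (.leaf 0x0)) (.node 1 (.leaf 0x0) (.leaf 0x0)))) (.node 4 (.node 2 (.node 1 (.leaf 0x0) (.leaf 0x0)) (.node 1 (.leaf 0x0) (.leaf 0x0))) (.node 2 (.node 1 (.leaf 0x0) (.leaf 0x0)) (.node 1 (.leaf 0x0) (.leaf 0x0)))))))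

def moves5_56 : Tree :=
  .node 64 (.node 32 (.node 16 (.node 8 (.node 4 (.node 2 (.node 1 (.leaf 0x0) (.leaf 0x0)) (.node 1 (.leaf 0x0) (.leaf 0x0))) (.node 2 (.node 1 (.leaf 0x0) (.leaf 0x0)) (.node 1 (.leaf 0x0) (.leaf 0x0)))) (.node 4 (.node 2 (.node 1 (.leaf 0x0) (.leaf 0x0)) (.node 1 (.leaf 0x0) (.leaf 0x0))) (.node 2 (.node 1 (.leaf 0x0) (.leaf 0x0)) (.node 1 (.leaf 0x0) (.leaf 0x0))))) (.node 8 (.node 4 (.node 2 (.node 1 (.leaf 0x0) (.leaf 0x0)) (.node 1 (.leaf 0x0) (.leaf 0x0))) (.node 2 (.node 1 (.leaf 0x0) (.leaf 0x0)) (.node 1 (.leaf 0x0) (.leaf 0x0)))) (.node 4 (.node 2 (.node 1 (.leaf 0x0) (.leaf 0x0)) (.node 1 (.leaf 0x0) (.leaf 0x0))) (.node 2 (.node 1 (.leaf 0x0) (.leaf 0x0)) (.node 1 (.leaf 0x0) (.leaf 0x0)))))) (.node 16 (.node 8 (.node 4 (.node 2 (.node 1 (.leaf 0x0) (.leaf 0x0)) (.node 1 (.leaf 0x0) (.leaf 0x0))) (.node 2 (.node 1 (.leaf 0x0)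 (.leaf 0x0)) (.node 1 (.leaf 0x0) (.leaf 0x0)))) (.node 4 (.node 2 (.node 1 (.leaf 0x0) (.leaf 0x0)) (.node 1 (.leaf 0x0) (.leaf 0x0))) (.node 2 (.node 1 (.leaf 0x0) (.leaf 0x0)) (.node 1 (.leaf 0x0) (.leaf 0x0))))) (.node 8 (.node 4 (.node 2 (.node 1 (.leaf 0x0) (.leaf 0x0)) (.node 1 (.leaf 0x0) (.leaf 0x0))) (.node 2 (.node 1 (.leaf 0x0) (.leaf 0x0)) (.node 1 (.leaf 0x0) (.leaf 0x0)))) (.node 4 (.node 2 (.node 1 (.leaf 0x0) (.leaf 0x0)) (.node 1 (.leaf 0x0) (.leaf 0x0))) (.node 2 (.node 1 (.leaf 0x0) (.leaf 0x0)) (.node 1 (.leaf 0x0) (.leaf 0x0))))))) (.node 32 (.node 16 (.node 8 (.node 4 (.node 2 (.node 1 (.leaf 0x0) (.leaf 0x0)) (.node 1 (.leaf 0x0) (.leaf 0x0))) (.node 2 (.node 1 (.leaf 0x0) (.leaf 0x0)) (.node 1 (.leaf 0x0) (.leaf 0x0)))) (.node 4 (.node 2 (.node 1 (.leaf 0x0) (.leaf 0x0)) (.node 1 (.leaf 0x0) (.leaf 0x0))) (.node 2 (.node 1 (.leaf 0x0) (.leaf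 0x0)) (.node 1 (.leaf 0x0) (.leaf 0x0))))) (.node 8 (.node 4 (.node 2 (.node 1 (.leaf 0x0) (.leaf 0x0)) (.node 1 (.leaf 0x0) (.leaf 0x0))) (.node 2 (.node 1 (.leaf 0x0) (.leaf 0x0)) (.node 1 (.leaf 0x0) (.leaf 0x0)))) (.node 4 (.node 2 (.node 1 (.leaf 0x0) (.leaf 0x0)) (.node 1 (.leaf 0x0) (.leaf 0x0))) (.node 2 (.node 1 (.leaf 0x0) (.leaf 0x0)) (.node 1 (.leaf 0x0) (.leaf 0x0)))))) (.node 16 (.node 8 (.node 4 (.node 2 (.node 1 (.leaf 0x0) (.leaf 0x0)) (.node 1 (.leaf 0x0) (.leaf 0x0))) (.node 2 (.node 1 (.leaf 0x0) (.leaf 0x0)) (.node 1 (.leaf 0x0) (.leaf 0x0)))) (.node 4 (.node 2 (.node 1 (.leaf 0x0) (.leaf 0x0)) (.node 1 (.leaf 0x0) (.leaf 0x0))) (.node 2 (.node 1 (.leaf 0x0) (.leaf 0x0)) (.node 1 (.leaf 0x0) (.leaf 0x0))))) (.node 8 (.node 4 (.node 2 (.node 1 (.leaf 0x0) (.leaf 0x0)) (.node 1 (.leaf 0x0) (.leaf 0x0))) (.node 2 (.node 1 (.leaf 0x0) (.leaf 0x0))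 (.node 1 (.leaf 0x0) (.leaf 0x0)))) (.node 4 (.node 2 (.node 1 (.leaf 0x0) (.leaf 0x0)) (.node 1 (.leaf 0x0) (.leaf 0x0))) (.node 2 (.node 1 (.leaf 0x0) (.leaf 0x0)) (.node 1 (.leaf 0x0) (.leaf 0x0)))))))

def moves5_57 : Tree :=
  .node 64 (.node 32 (.node 16 (.node 8 (.node 4 (.node 2 (.node 1 (.leaf 0x0) (.leaf 0x0)) (.node 1 (.leaf 0x0) (.leaf 0x0))) (.node 2 (.node 1 (.leaf 0x0) (.leaf 0x0)) (.node 1 (.leaf 0x0) (.leaf 0x0)))) (.node 4 (.node 2 (.node 1 (.leaf 0x0) (.leaf 0x0)) (.node 1 (.leaf 0x0) (.leaf 0x0))) (.node 2 (.node 1 (.leaf 0x0) (.leaf 0x0)) (.node 1 (.leaf 0x0) (.leaf 0x0))))) (.node 8 (.node 4 (.node 2 (.node 1 (.leaf 0x0) (.leaf 0x0)) (.node 1 (.leaf 0x0) (.leaf 0x0))) (.node 2 (.node 1 (.leaf 0x0) (.leaf 0x0)) (.node 1 (.leaf 0x0) (.leaf 0x0)))) (.node 4 (.node 2 (.node 1 (.leaf 0x0) (.leaf 0x0)) (.node 1 (.leaf 0x0) (.leaf 0x0))) (.node 2 (.node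 1 (.leaf 0x0) (.leaf 0x0)) (.node 1 (.leaf 0x0) (.leaf 0x0)))))) (.node 16 (.node 8 (.node 4 (.node 2 (.node 1 (.leaf 0x0) (.leaf 0x0)) (.node 1 (.leaf 0x0) (.leaf 0x0))) (.node 2 (.node 1 (.leaf 0x0) (.leaf 0x0)) (.node 1 (.leaf 0x0) (.leaf 0x0)))) (.node 4 (.node 2 (.node 1 (.leaf 0x0) (.leaf 0x0)) (.node 1 (.leaf 0x0) (.leaf 0x0))) (.node 2 (.node 1 (.leaf 0x0) (.leaf 0x0)) (.node 1 (.leaf 0x0) (.leaf 0x0))))) (.node 8 (.node 4 (.node 2 (.node 1 (.leaf 0x0) (.leaf 0x0)) (.node 1 (.leaf 0x0) (.leaf 0x0))) (.node 2 (.node 1 (.leaf 0x0) (.leaf 0x0)) (.node 1 (.leaf 0x0) (.leaf 0x0)))) (.node 4 (.node 2 (.node 1 (.leaf 0x0) (.leaf 0x0)) (.node 1 (.leaf 0x0) (.leaf 0x0))) (.node 2 (.node 1 (.leaf 0x0) (.leaf 0x0)) (.node 1 (.leaf 0x0) (.leaf 0x0))))))) (.node 32 (.node 16 (.node 8 (.node 4 (.node 2 (.node 1 (.leaf 0x0) (.leaf 0x0)) (.node 1 (.leaf 0x0) (.leaf 0x0)))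 (.node 2 (.node 1 (.leaf 0x0) (.leaf 0x0)) (.node 1 (.leaf 0x0) (.leaf 0x0)))) (.node 4 (.node 2 (.node 1 (.leaf 0x0) (.leaf 0x0)) (.node 1 (.leaf 0x0) (.leaf 0x0))) (.node 2 (.node 1 (.leaf 0x0) (.leaf 0x0)) (.node 1 (.leaf 0x0) (.leaf 0x0))))) (.node 8 (.node 4 (.node 2 (.node 1 (.leaf 0x0) (.leaf 0x0)) (.node 1 (.leaf 0x0) (.leaf 0x0))) (.node 2 (.node 1 (.leaf 0x0) (.leaf 0x0)) (.node 1 (.leaf 0x0) (.leaf 0x0)))) (.node 4 (.node 2 (.node 1 (.leaf 0x0) (.leaf 0x0)) (.node 1 (.leaf 0x0) (.leaf 0x0))) (.node 2 (.node 1 (.leaf 0x0) (.leaf 0x0)) (.node 1 (.leaf 0x0) (.leaf 0x0)))))) (.node 16 (.node 8 (.node 4 (.node 2 (.node 1 (.leaf 0x0) (.leaf 0x0)) (.node 1 (.leaf 0x0) (.leaf 0x0))) (.node 2 (.node 1 (.leaf 0x0) (.leaf 0x0)) (.node 1 (.leaf 0x0) (.leaf 0x0)))) (.node 4 (.node 2 (.node 1 (.leaf 0x0) (.leaf 0x0)) (.node 1 (.leaf 0x0) (.leaf 0x0))) (.node 2 (.node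 1 (.leaf 0x0) (.leaf 0x0)) (.node 1 (.leaf 0x0) (.leaf 0x0))))) (.node 8 (.node 4 (.node 2 (.node 1 (.leaf 0x0) (.leaf 0x0)) (.node 1 (.leaf 0x0) (.leaf 0x0))) (.node 2 (.node 1 (.leaf 0x0) (.leaf 0x0)) (.node 1 (.leaf 0x0) (.leaf 0x0)))) (.node 4 (.node 2 (.node 1 (.leaf 0x0) (.leaf 0x0)) (.node 1 (.leaf 0x0) (.leaf 0x0))) (.node 2 (.node 1 (.leaf 0x0) (.leaf 0x0)) (.node 1 (.leaf 0x0) (.leaf 0x0)))))))

def moves5_58 : Tree :=
  .node 64 (.node 32 (.node 16 (.node 8 (.node 4 (.node 2 (.node 1 (.leaf 0x0) (.leaf 0x0)) (.node 1 (.leaf 0x0) (.leaf 0x0))) (.node 2 (.node 1 (.leaf 0x0) (.leaf 0x0)) (.node 1 (.leaf 0x0) (.leaf 0x0)))) (.node 4 (.node 2 (.node 1 (.leaf 0x0) (.leaf 0x0)) (.node 1 (.leaf 0x0) (.leaf 0x0))) (.node 2 (.node 1 (.leaf 0x0) (.leaf 0x0)) (.node 1 (.leaf 0x0) (.leaf 0x0))))) (.node 8 (.node 4 (.node 2 (.node 1 (.leaf 0x0) (.leaf 0x0)) (.node 1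 (.leaf 0x0) (.leaf 0x0))) (.node 2 (.node 1 (.leaf 0x0) (.leaf 0x0)) (.node 1 (.leaf 0x0) (.leaf 0x0)))) (.node 4 (.node 2 (.node 1 (.leaf 0x0) (.leaf 0x0)) (.node 1 (.leaf 0x0) (.leaf 0x0))) (.node 2 (.node 1 (.leaf 0x0) (.leaf 0x0)) (.node 1 (.leaf 0x0) (.leaf 0x0)))))) (.node 16 (.node 8 (.node 4 (.node 2 (.node 1 (.leaf 0x0) (.leaf 0x0)) (.node 1 (.leaf 0x0) (.leaf 0x0))) (.node 2 (.node 1 (.leaf 0x0) (.leaf 0x0)) (.node 1 (.leaf 0x0) (.leaf 0x0)))) (.node 4 (.node 2 (.node 1 (.leaf 0x0) (.leaf 0x0)) (.node 1 (.leaf 0x0) (.leaf 0x0))) (.node 2 (.node 1 (.leaf 0x0) (.leaf 0x0)) (.node 1 (.leaf 0x0) (.leaf 0x0))))) (.node 8 (.node 4 (.node 2 (.node 1 (.leaf 0x0) (.leaf 0x0)) (.node 1 (.leaf 0x0) (.leaf 0x0))) (.node 2 (.node 1 (.leaf 0x0) (.leaf 0x0)) (.node 1 (.leaf 0x0) (.leaf 0x0)))) (.node 4 (.node 2 (.node 1 (.leaf 0x0) (.leaf 0x0)) (.node 1 (.leaf 0x0) (.leaf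 0x0))) (.node 2 (.node 1 (.leaf 0x0) (.leaf 0x0)) (.node 1 (.leaf 0x0) (.leaf 0x0))))))) (.node 32 (.node 16 (.node 8 (.node 4 (.node 2 (.node 1 (.leaf 0x0) (.leaf 0x0)) (.node 1 (.leaf 0x0) (.leaf 0x0))) (.node 2 (.node 1 (.leaf 0x0) (.leaf 0x0)) (.node 1 (.leaf 0x0) (.leaf 0x0)))) (.node 4 (.node 2 (.node 1 (.leaf 0x0) (.leaf 0x0)) (.node 1 (.leaf 0x0) (.leaf 0x0))) (.node 2 (.node 1 (.leaf 0x0) (.leaf 0x0)) (.node 1 (.leaf 0x0) (.leaf 0x0))))) (.node 8 (.node 4 (.node 2 (.node 1 (.leaf 0x0) (.leaf 0x0)) (.node 1 (.leaf 0x0) (.leaf 0x0))) (.node 2 (.node 1 (.leaf 0x0) (.leaf 0x0)) (.node 1 (.leaf 0x0) (.leaf 0x0)))) (.node 4 (.node 2 (.node 1 (.leaf 0x0) (.leaf 0x0)) (.node 1 (.leaf 0x0) (.leaf 0x0))) (.node 2 (.node 1 (.leaf 0x0) (.leaf 0x0)) (.node 1 (.leaf 0x0) (.leaf 0x0)))))) (.node 16 (.node 8 (.node 4 (.node 2 (.node 1 (.leaf 0x0) (.leaf 0x0)) (.node 1 (.leaf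 0x0) (.leaf 0x0))) (.node 2 (.node 1 (.leaf 0x0) (.leaf 0x0)) (.node 1 (.leaf 0x0) (.leaf 0x0)))) (.node 4 (.node 2 (.node 1 (.leaf 0x0) (.leaf 0x0)) (.node 1 (.leaf 0x0) (.leaf 0x0))) (.node 2 (.node 1 (.leaf 0x0) (.leaf 0x0)) (.node 1 (.leaf 0x0) (.leaf 0x0))))) (.node 8 (.node 4 (.node 2 (.node 1 (.leaf 0x0) (.leaf 0x0)) (.node 1 (.leaf 0x0) (.leaf 0x0))) (.node 2 (.node 1 (.leaf 0x0) (.leaf 0x0)) (.node 1 (.leaf 0x0) (.leaf 0x0)))) (.node 4 (.node 2 (.node 1 (.leaf 0x0) (.leaf 0x0)) (.node 1 (.leaf 0x0) (.leaf 0x0))) (.node 2 (.node 1 (.leaf 0x0) (.leaf 0x0)) (.node 1 (.leaf 0x0) (.leaf 0x0)))))))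

def moves5_59 : Tree :=
  .node 4 (.node 2 (.node 1 (.leaf 0x0) (.leaf 0x0)) (.node 1 (.leaf 0x0) (.leaf 0x0))) (.node 2 (.node 1 (.leaf 0x0) (.leaf 0x0)) (.node 1 (.leaf 0x0) (.leaf 0x0)))

def moves5 : Tree :=
  .node 3840 (.node 1920 (.node 896 (.node 384 (.node 128 (moves5_0) (.node 128 (moves5_1) (moves5_2))) (.node 256 (.node 128 (moves5_3) (moves5_4)) (.node 128 (moves5_5) (moves5_6)))) (.node 512 (.node 256 (.node 128 (moves5_7) (moves5_8)) (.node 128 (moves5_9) (moves5_10))) (.node 256 (.node 128 (moves5_11) (moves5_12)) (.node 128 (moves5_13) (moves5_14))))) (.node 896 (.node 384 (.node 128 (moves5_15) (.node 128 (moves5_16) (moves5_17))) (.node 256 (.node 128 (moves5_18) (moves5_19)) (.node 128 (moves5_20) (moves5_21)))) (.node 512 (.node 256 (.node 128 (moves5_22) (moves5_23)) (.node 128 (moves5_24) (moves5_25))) (.node 256 (.node 128 (moves5_26) (moves5_27))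 (.node 128 (moves5_28) (moves5_29)))))) (.node 1920 (.node 896 (.node 384 (.node 128 (moves5_30) (.node 128 (moves5_31) (moves5_32))) (.node 256 (.node 128 (moves5_33) (moves5_34)) (.node 128 (moves5_35) (moves5_36)))) (.node 512 (.node 256 (.node 128 (moves5_37) (moves5_38)) (.node 128 (moves5_39) (moves5_40))) (.node 256 (.node 128 (moves5_41) (moves5_42)) (.node 128 (moves5_43) (moves5_44))))) (.node 896 (.node 384 (.node 128 (moves5_45) (.node 128 (moves5_46) (moves5_47))) (.node 256 (.node 128 (moves5_48) (moves5_49)) (.node 128 (moves5_50) (moves5_51)))) (.node 512 (.node 256 (.node 128 (moves5_52) (moves5_53)) (.node 128 (moves5_54) (moves5_55))) (.node 256 (.node 128 (moves5_56) (moves5_57)) (.node 128 (moves5_58) (moves5_59))))))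

def reps5 : List (List (List ℕ)) := [[[4], [0], [1], [2], [5], [6]], [[4], [0], [1], [2], [5, 1, 6, 2, 1, 0, 1, 2, 6, 1, 5], [3, 2, 1, 5, 3, 2, 1, 0, 1, 2, 3, 5, 1, 2, 3]], [[4], [0], [1], [2], [6, 1, 5, 2, 1, 0, 1, 2, 5, 1, 6], [3, 2, 1, 6, 3, 2, 1, 0, 1, 2, 3, 6, 1, 2, 3]], [[4], [0], [1], [2], [1, 6, 0, 1, 0, 1, 0, 1, 0, 1, 0, 6, 1], [1, 5, 0, 1, 0, 1, 0, 1, 0, 1, 0, 5, 1]], [[4], [0], [1], [2], [3, 2, 1, 5, 3, 2, 1, 0, 1, 2, 3, 5, 1, 2, 3], [5, 1, 6, 2, 1, 0, 1, 2, 6, 1, 5]], [[4], [0], [1], [2], [3, 2, 1, 6, 3, 2, 1, 0, 1, 2, 3, 6, 1, 2, 3], [6, 1, 5, 2, 1, 0, 1, 2, 5, 1, 6]]]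

def level5 : AutCert.Level := ⟨candsA, [[5, 1, 5, 1], [5, 2, 5, 2, 5, 2], [5, 3, 5, 3], [5, 4, 5, 4, 5, 4, 5, 4], [1, 4, 5, 4, 5], [5, 4, 2, 5, 4, 2, 5, 4, 2, 5, 4, 2, 5, 4, 2]], [[5, 1], [5, 2], [5, 3], [5, 4], [5, 4, 5, 4]], reps5, moves5⟩

def moves6_0 : Tree :=
  .node 64 (.node 32 (.node 16 (.node 8 (.node 4 (.node 2 (.node 1 (.leaf 0x0) (.leaf 0x0)) (.node 1 (.leaf 0x140) (.leaf 0x0))) (.node 2 (.node 1 (.leaf 0x0) (.leaf 0x0)) (.node 1 (.leaf 0x0) (.leaf 0x0)))) (.node 4 (.node 2 (.node 1 (.leaf 0x0) (.leaf 0x0)) (.node 1 (.leaf 0x0) (.leaf 0x849d9c84d0dc84c90c498d0c9d9150d0dc84c90c498d184c849c40))) (.node 2 (.node 1 (.leaf 0x0) (.leaf 0x849d9c84d0dc84c90c498d0c9d9150d0dc84c90c498d184c849c540)) (.node 1 (.leaf 0x0) (.leaf 0x0))))) (.node 8 (.node 4 (.node 2 (.node 1 (.leaf 0x0) (.leaf 0x0)) (.node 1 (.leaf 0x0) (.leaf 0x0))) (.node 2 (.node 1 (.leaf 0x0) (.leaf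 0x0)) (.node 1 (.leaf 0x0) (.leaf 0x0)))) (.node 4 (.node 2 (.node 1 (.leaf 0x0) (.leaf 0x0)) (.node 1 (.leaf 0x0) (.leaf 0x0))) (.node 2 (.node 1 (.leaf 0x0) (.leaf 0x0)) (.node 1 (.leaf 0x0) (.leaf 0x0)))))) (.node 16 (.node 8 (.node 4 (.node 2 (.node 1 (.leaf 0x0) (.leaf 0x0)) (.node 1 (.leaf 0x0) (.leaf 0x0))) (.node 2 (.node 1 (.leaf 0x0) (.leaf 0x0)) (.node 1 (.leaf 0x0) (.leaf 0x0)))) (.node 4 (.node 2 (.node 1 (.leaf 0x0) (.leaf 0x0)) (.node 1 (.leaf 0x0) (.leaf 0x0))) (.node 2 (.node 1 (.leaf 0x0) (.leaf 0x0)) (.node 1 (.leaf 0x0) (.leaf 0x0))))) (.node 8 (.node 4 (.node 2 (.node 1 (.leaf 0x0) (.leaf 0x0)) (.node 1 (.leaf 0x0) (.leaf 0x0))) (.node 2 (.node 1 (.leaf 0x0) (.leaf 0x0)) (.node 1 (.leaf 0x0) (.leaf 0x0)))) (.node 4 (.node 2 (.node 1 (.leaf 0x0) (.leaf 0x0)) (.node 1 (.leaf 0x0) (.leaf 0x0))) (.node 2 (.node 1 (.leaf 0x0) (.leaf 0x0)) (.node 1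 (.leaf 0x0) (.leaf 0x0))))))) (.node 32 (.node 16 (.node 8 (.node 4 (.node 2 (.node 1 (.leaf 0x0) (.leaf 0x0)) (.node 1 (.leaf 0x0) (.leaf 0x0))) (.node 2 (.node 1 (.leaf 0x0) (.leaf 0x0)) (.node 1 (.leaf 0x0) (.leaf 0x0)))) (.node 4 (.node 2 (.node 1 (.leaf 0x0) (.leaf 0x0)) (.node 1 (.leaf 0x0) (.leaf 0x0))) (.node 2 (.node 1 (.leaf 0x0) (.leaf 0x0)) (.node 1 (.leaf 0x0) (.leaf 0x0))))) (.node 8 (.node 4 (.node 2 (.node 1 (.leaf 0x0) (.leaf 0x0)) (.node 1 (.leaf 0x0) (.leaf 0x0))) (.node 2 (.node 1 (.leaf 0x0) (.leaf 0x0)) (.node 1 (.leaf 0x0) (.leaf 0x0)))) (.node 4 (.node 2 (.node 1 (.leaf 0x0) (.leaf 0x0)) (.node 1 (.leaf 0x0) (.leaf 0x0))) (.node 2 (.node 1 (.leaf 0x0) (.leaf 0x0)) (.node 1 (.leaf 0x0) (.leaf 0x0)))))) (.node 16 (.node 8 (.node 4 (.node 2 (.node 1 (.leaf 0x0) (.leaf 0x0)) (.node 1 (.leaf 0x0) (.leaf 0x0))) (.node 2 (.node 1 (.leaf 0x0) (.leaf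 0x0)) (.node 1 (.leaf 0x0) (.leaf 0x0)))) (.node 4 (.node 2 (.node 1 (.leaf 0x0) (.leaf 0x0)) (.node 1 (.leaf 0x0) (.leaf 0x0))) (.node 2 (.node 1 (.leaf 0x0) (.leaf 0x0)) (.node 1 (.leaf 0x0) (.leaf 0x0))))) (.node 8 (.node 4 (.node 2 (.node 1 (.leaf 0x0) (.leaf 0x0)) (.node 1 (.leaf 0x0) (.leaf 0x0))) (.node 2 (.node 1 (.leaf 0x0) (.leaf 0x0)) (.node 1 (.leaf 0x0) (.leaf 0x141)))) (.node 4 (.node 2 (.node 1 (.leaf 0x0) (.leaf 0x1)) (.node 1 (.leaf 0x0) (.leaf 0x0))) (.node 2 (.node 1 (.leaf 0x0) (.leaf 0x0)) (.node 1 (.leaf 0x0) (.leaf 0x0)))))))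

def moves6_1 : Tree :=
  .node 53 (.node 26 (.node 13 (.node 6 (.node 3 (.node 1 (.leaf 0x849d9c84d0dc84c90c498d0c9d9150d0dc84c90c498d184c849c41) (.node 1 (.leaf 0x0) (.leaf 0x849d9c84d0dc84c90c498d0c9d9150d0dc84c90c498d184c849c541))) (.node 1 (.leaf 0x0) (.node 1 (.leaf 0x0) (.leaf 0x0)))) (.node 3 (.node 1 (.leaf 0x0) (.node 1 (.leaf 0x0) (.leaf 0x0))) (.node 2 (.node 1 (.leaf 0x0) (.leaf 0x0)) (.node 1 (.leaf 0x0) (.leaf 0x0))))) (.node 6 (.node 3 (.node 1 (.leaf 0x0) (.node 1 (.leaf 0x0) (.leaf 0x0))) (.node 1 (.leaf 0x0) (.node 1 (.leaf 0x0) (.leaf 0x0)))) (.node 3 (.node 1 (.leaf 0x0) (.node 1 (.leaf 0x0) (.leaf 0x0))) (.node 2 (.node 1 (.leaf 0x0) (.leaf 0x0)) (.node 1 (.leaf 0x0) (.leaf 0x0)))))) (.node 13 (.node 6 (.node 3 (.node 1 (.leaf 0x0) (.node 1 (.leaf 0x0) (.leaf 0x0))) (.node 1 (.leaf 0x0) (.node 1 (.leaf 0x0) (.leaf 0x0)))) (.node 3 (.node 1 (.leaf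 0x0) (.node 1 (.leaf 0x0) (.leaf 0x0))) (.node 2 (.node 1 (.leaf 0x0) (.leaf 0x0)) (.node 1 (.leaf 0x0) (.leaf 0x0))))) (.node 7 (.node 3 (.node 1 (.leaf 0x0) (.node 1 (.leaf 0x0) (.leaf 0x0))) (.node 2 (.node 1 (.leaf 0x0) (.leaf 0x0)) (.node 1 (.leaf 0x0) (.leaf 0x0)))) (.node 3 (.node 1 (.leaf 0x0) (.node 1 (.leaf 0x0) (.leaf 0x0))) (.node 2 (.node 1 (.leaf 0x0) (.leaf 0x0)) (.node 1 (.leaf 0x0) (.leaf 0x0))))))) (.node 26 (.node 13 (.node 6 (.node 3 (.node 1 (.leaf 0x0) (.node 1 (.leaf 0x0) (.leaf 0x0))) (.node 1 (.leaf 0x0) (.node 1 (.leaf 0x0) (.leaf 0x0)))) (.node 3 (.node 1 (.leaf 0x0) (.node 1 (.leaf 0x0) (.leaf 0x0))) (.node 2 (.node 1 (.leaf 0x0) (.leaf 0x0)) (.node 1 (.leaf 0x0) (.leaf 0x0))))) (.node 6 (.node 3 (.node 1 (.leaf 0x0) (.node 1 (.leaf 0x0) (.leaf 0x0))) (.node 1 (.leaf 0x0) (.node 1 (.leaf 0x0) (.leaf 0x0)))) (.node 3 (.node 1 (.leaf 0x0)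 (.node 1 (.leaf 0x0) (.leaf 0x0))) (.node 2 (.node 1 (.leaf 0x0) (.leaf 0x0)) (.node 1 (.leaf 0x0) (.leaf 0x0)))))) (.node 13 (.node 6 (.node 3 (.node 1 (.leaf 0x0) (.node 1 (.leaf 0x0) (.leaf 0x0))) (.node 1 (.leaf 0x0) (.node 1 (.leaf 0x0) (.leaf 0x0)))) (.node 3 (.node 1 (.leaf 0x0) (.node 1 (.leaf 0x0) (.leaf 0x0))) (.node 2 (.node 1 (.leaf 0x0) (.leaf 0x0)) (.node 1 (.leaf 0x0) (.leaf 0x0))))) (.node 7 (.node 3 (.node 1 (.leaf 0x0) (.node 1 (.leaf 0x0) (.leaf 0x0))) (.node 2 (.node 1 (.leaf 0x0) (.leaf 0x0)) (.node 1 (.leaf 0x0) (.leaf 0x0)))) (.node 3 (.node 1 (.leaf 0x0) (.node 1 (.leaf 0x0) (.leaf 0x0))) (.node 2 (.node 1 (.leaf 0x0) (.leaf 0x0)) (.node 1 (.leaf 0x0) (.leaf 0x0)))))))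

def moves6 : Tree :=
  .node 128 (moves6_0) (moves6_1)

def reps6 : List (List (List ℕ)) := [[[4], [0], [1], [2], [5], [6], [3]], [[4], [0], [1], [2], [1, 6, 0, 1, 0, 1, 0, 1, 0, 1, 0, 6, 1], [1, 5, 0, 1, 0, 1, 0, 1, 0, 1, 0, 5, 1], [3]]]

def level6 : AutCert.Level := ⟨candsD, [[6, 0, 6, 0, 6, 0], [6, 1, 6, 1], [6, 2, 6, 2], [6, 3, 6, 3, 6, 3, 6, 3, 6, 3, 6, 3, 6, 3, 6, 3], [6, 4, 6, 4], [6, 5, 6, 5], [1, 6, 3, 6, 3, 6, 3, 6, 3], [0, 6, 3, 6, 3, 2, 6, 3, 6, 3, 2, 6, 3, 6, 3, 2, 6, 3, 6, 3, 2, 6, 3, 6, 3, 2, 0, 6, 3, 6, 3, 2, 6, 3, 6, 3, 2, 6, 3, 6, 3, 2, 6, 3, 6, 3, 2, 6, 3, 6, 3, 2, 0, 6, 3, 6, 3, 2, 6, 3, 6, 3, 2, 6, 3, 6, 3, 2, 6, 3, 6, 3, 2, 6, 3, 6, 3, 2]], [], reps6, moves6⟩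

def slotWords : List (List ℕ) := [[4], [0], [1], [2], [5], [6], [3]]

def otherWords : List (List ℕ) := [[0], [1], [2], [3], [4], [1, 6, 0, 1, 0, 1, 0, 1, 0, 1, 0, 6, 1], [1, 5, 0, 1, 0, 1, 0, 1, 0, 1, 0, 5, 1]]

def swapWord : List ℕ := [1, 6, 5, 1, 0, 1, 2, 1, 0, 6, 1, 2, 0, 1, 5, 6, 1, 6, 1, 0, 2, 1, 0, 3, 1, 2, 1, 5, 3, 2, 1, 6, 1, 6, 5, 1, 2, 3, 2, 1, 0, 1, 6, 2, 3, 1, 2, 0, 2, 3, 2, 5, 3, 2, 3, 2, 1, 0, 2, 3, 2, 1, 6, 5, 1, 2, 3, 2, 1, 5]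

end Cfsg.Agent.InvChar.Coset.SuzOut
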