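import Cfsg.Agent.InvChar.Coset.SuzCheck
import Cfsg.Agent.InvChar.Coset.AutChain
import Cfsg.Agent.InvChar.Coset.SuzOutData

/-!
# Functions for the computations for the automorphisms of the presented Suzuki group
-/

set_option autoImplicit false
set_option linter.all false
set_option maxRecDepth 100000

noncomputable section

namespace Cfsg.Agent.InvChar.Coset.SuzOut

open Cfsg.Agent.CosetCert Cfsg.Agent.InvChar.Coset.AutCert

abbrev T : Table := Suz.table

def eFix : List ℕ := [0, 1, 2, 3, 4, 5, 6, 7, 9, 10, 11, 16, 17, 19, 21, 22, 30, 32, 36, 41, 68, 260, 293, 315, 317, 388, 415, 437, 438, 470, 471, 472, 473, 569, 614, 615, 644, 688, 689, 690, 901, 995]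

def sevenFix : List ℕ := [165, 252, 672, 974]

/-- The listed points are exactly the fixed points. -/
def fixExact (F w : List ℕ) : Bool :=
  allB (fun c => Nat.blt c T.n && Nat.beq (T.run w c) c) F &&
    AutCert.scan (fun c => cond (Nat.beq (T.run w c) c) (F.any (Nat.beq c)) true) T.n

def leadsE : List (List ℕ) :=
  leads T eFix ((chain.drop 1).take 3) [chainPos 1, chainPos 2, chainPos 3] []

def leadsSeven : List (List ℕ) :=
  leads T sevenFix (chainF.take 4) [chainFPos 0, chainFPos 1, chainFPos 2, chainFPos 3] []

def restE : List (List ℕ) := (prodWords (chain.drop 4)).filter (commWith T baseL [4])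

def chainIn : List (ℕ × List (List ℕ)) := chainE.map fun p => (p.1, p.2.map (subW gensE))

def elP (i : ℕ) : List ℕ := subW gensP (wordsP i)

/-- The elements in a range are in increasing order. -/
def ascRange (f : ℕ → List ℕ) (a m : ℕ) : Bool :=
  AutCert.scan (fun i => lettersOK 7 (f (a + i)) && (lettersOK 7 (f (a + i + 1)) &&
    Nat.blt (AutCert.code T (f (a + i)) baseL) (AutCert.code T (f (a + i + 1)) baseL))) m

def witOne (i : ℕ) : Bool :=
  let v := witP.get i
  let w := elP i
  cond (Nat.beq v 0) (fixW T baseL w || movW T baseL (w ++ w))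
    (cond (Nat.beq (Nat.land v 1) 1) (eqW T baseL w (conjW (decode 1000 (Nat.shiftRight v 1)) [4]))
      (Nat.blt (Nat.sub (Nat.shiftRight v 1) 1) 315 && eqW T baseL w (candA (Nat.sub (Nat.shiftRight v 1) 1))))

/-- An element commuting with the chosen element of order seven is no involution outside the class of the fifth generator. -/
def sevenOne (w : List ℕ) : Bool :=
  lettersOK 7 w && cond (commWith T baseL sevenWord w)
    (fixW T baseL w || (movW T baseL (w ++ w) || witSeven.any fun t => eqW T baseL w (conjW t [4]))) true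

def sevenSlice (a m : ℕ) : Bool :=
  allB (fun b => allB (fun u => sevenOne (u ++ b)) (prodWords (chainF.drop 4))) ((leadsSeven.drop a).take m)

def subsOK (gens idx : List (List ℕ)) : Bool :=
  Nat.beq idx.length gens.length && AutCert.scan (fun k => allB (fun y => Nat.blt y gensE.length) (getWord idx k) &&
    eqW T baseL (subW gensE (getWord idx k)) (getWord gens k)) gens.length

def commutesWith (c : ℕ) (gens : List (List ℕ)) : Bool := allB (fun w => eqW T baseL ([c] ++ w) (w ++ [c])) gens

def shape (R : List (List (List ℕ))) (m : ℕ) : Bool :=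
  allB (fun P => Nat.beq P.length m && (allB (lettersOK 7) P && prefixB [[4]] P)) R

def relsTrue (L : AutCert.Level) (m : ℕ) : Bool :=
  allB (fun r => allB (fun y => Nat.ble y m) r && fixW T baseL (subW slotWords r)) L.rels &&
    allB (fun r => allB (fun y => Nat.ble y m) r && movW T baseL (subW slotWords r)) L.nons

def wSlot (i : ℕ) : Bool := Nat.beq i 1 || (Nat.beq i 2 || (Nat.beq i 4 || Nat.beq i 5))

/-- A point is the only one fixed by the given products. -/
def onlyFix (P : List (List ℕ)) (use : List (List ℕ)) (p : ℕ) : Bool :=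
  allB (fun r => lettersOK 7 (subW P r)) use &&
    AutCert.scan (fun z => cond (allB (fun r => Nat.beq (T.run (subW P r) z) z) use) (Nat.beq z p) true) T.n

def dOne (P : List (List ℕ)) (d : List (List ℕ) × List ℕ × List ℕ × ℕ) : Bool :=
  onlyFix P d.1 0 && (allB (fun r => allB wSlot r && Nat.beq (T.run (subW P r) 0) 0) d.1 &&
    (allB wSlot d.2.1 && (lettersOK 7 (subW P d.2.1) && (allB wSlot d.2.2.1 && (lettersOK 7 (subW P d.2.2.1) &&
      (Nat.blt d.2.2.2 dTrans.length &&
      let h := getWord dTrans d.2.2.2
      lettersOK 7 h && (Nat.beq (T.run h 0) 0 && (Nat.beq (T.run h 1) (T.run (subW P d.2.1) 0) &&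
        Nat.beq (T.run h 2) (T.run (subW P d.2.2.1) 0)))))))))

def dAll : List (List (List ℕ)) → List (List (List ℕ) × List ℕ × List ℕ × ℕ) → Bool
  | [], [] => true
  | P :: l, d :: m => dOne P d && dAll l m
  | _, _ => false

def coverOne (i : ℕ) : Bool :=
  let j := dIdx.get i
  Nat.blt j candsD.length &&
    eqW T baseL (conjW (conjW (getWord dTrans (i / 180)) (getWord (prodWords (chain.drop 3)) (i % 180))) [4])
      (getWord candsD j)

/-- The element does not carry the first configuration to the second. -/
def apart (s : List ℕ) : Bool :=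
  lettersOK 7 (s ++ swapWord) &&
    !(allB (fun i => eqW T baseL (conjW (s ++ swapWord) (getWord (getRep reps5 0) i)) (getWord (getRep reps5 3) i))
      [0, 1, 2, 3, 4, 5])

end Cfsg.Agent.InvChar.Coset.SuzOut
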