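import Cfsg.Agent.InvChar.Coset.BlockCert

/-!
# Certificates of primitivity for suborbits of the presented Suzuki group
-/

set_option autoImplicit false
set_option linter.all false
set_option maxRecDepth 100000

namespace Cfsg.Agent.InvChar.Coset.SuzPrim

def bigPts_0 : List ℕ := [47, 72, 76, 79, 81, 82, 99, 112, 115, 116, 117, 121, 125, 127, 128, 129, 130, 146, 149, 152, 154, 155, 172, 176, 177, 178, 179, 180, 184, 188, 192, 194, 195, 196, 197, 198, 199, 200, 201, 202, 205, 223, 226, 228, 231, 233, 234, 237, 239, 240, 263, 267, 271, 272, 273, 274, 275, 276, 277, 278, 279, 282, 286, 290, 294, 298, 301, 303, 304, 305, 307, 308, 309, 310, 311, 312, 313, 314, 315,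 316, 317, 318, 321, 323, 324, 346, 347, 350, 352, 355, 357, 358, 362, 364, 365, 392, 396, 400, 404, 406]

def bigPts_1 : List ℕ := [407, 408, 409, 410, 411, 412, 413, 414, 415, 416, 419, 420, 421, 428, 430, 433, 436, 438, 439, 443, 447, 449, 450, 451, 453, 455, 456, 457, 461, 462, 463, 464, 465, 466, 467, 468, 469, 470, 471, 472, 473, 474, 478, 481, 512, 513, 516, 518, 522, 524, 525, 532, 534, 535, 536, 576, 578, 581, 586, 590, 592, 593, 594, 598, 600, 602, 603, 604, 607, 608, 609, 610, 611, 612, 613, 614, 615, 618, 619, 632, 634, 638, 639, 642, 643, 644, 653, 654, 658, 660, 661, 662, 666, 668, 669, 670, 674, 681, 682, 683]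

def bigPts_2 : List ℕ := [684, 685, 686, 687, 688, 689, 690, 695, 696, 697, 698, 701, 702, 703, 749, 750, 761, 763, 764, 765, 775, 776, 779, 780, 781, 782, 847, 849, 853, 854, 857, 868, 870, 871, 874, 880, 883, 884, 885, 889, 894, 895, 896, 897, 898, 899, 900, 901, 904, 905, 906, 907, 908, 909, 926, 930, 931, 938, 940, 953, 954, 955, 958, 960, 961, 962, 966, 970, 971, 972, 976, 981, 982, 989, 990, 991, 992, 993, 994, 995, 1002, 1003, 1004, 1005, 1012, 1013, 1014, 1073, 1084, 1097, 1098, 1101, 1102, 1103, 1104, 1111, 1114, 1115, 1116, 1119]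

def bigPts_3 : List ℕ := [1120, 1121, 1122, 1214, 1215, 1222, 1225, 1226, 1231, 1232, 1234, 1237, 1241, 1247, 1248, 1249, 1253, 1254, 1255, 1256, 1257, 1258, 1259, 1260, 1261, 1265, 1266, 1267, 1282, 1283, 1287, 1290, 1303, 1305, 1307, 1311, 1313, 1314, 1315, 1318, 1319, 1320, 1321, 1327, 1328, 1330, 1331, 1338, 1339, 1340, 1341, 1342, 1343, 1344, 1351, 1352, 1363, 1422, 1441, 1444, 1445, 1446, 1449, 1450, 1451, 1452, 1459, 1460, 1461, 1462, 1465, 1466, 1573, 1583, 1584, 1588, 1589, 1592, 1594, 1595, 1605, 1615, 1616, 1617, 1619, 1621, 1622, 1623, 1625, 1626, 1627, 1630, 1639, 1655, 1696, 1697, 1698, 1699, 1700, 1701]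

def bigPts_4 : List ℕ := [1702, 1746, 1747, 1753, 1756, 1757, 1758, 1759, 1760, 1761, 1762, 1775, 1776, 1777, 1780, 1781]

def bigPts : List ℕ := bigPts_0 ++ bigPts_1 ++ bigPts_2 ++ bigPts_3 ++ bigPts_4

def bigMoves_0 : List (ℕ × ℕ × List ℕ) := [(688, 688, []), (472, 688, [1]), (614, 688, [1, 0]), (317, 688, [1, 2]), (901, 688, [1, 0, 1]), (415, 688, [1, 0, 2]), (201, 688, [1, 2, 3]), (689, 688, [1, 0, 1, 0]), (615, 688, [1, 0, 1, 2]), (471, 688, [1, 0, 2, 1]), (278, 688, [1, 0, 2, 3]), (130, 688, [1, 2, 3, 2]), (312, 688, [1, 2, 3, 4]), (473, 688, [1, 0, 1, 0, 2]), (470, 688, [1, 0, 1, 2, 1]), (416, 688, [1, 0, 1, 2, 3]), (438, 688, [1, 0, 2, 1, 0]), (316, 688,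 [1, 0, 2, 1, 3]), (180, 688, [1, 0, 2, 3, 2]), (413, 688, [1, 0, 2, 3, 4]), (82, 688, [1, 2, 3, 2, 1]), (197, 688, [1, 2, 3, 2, 4]), (690, 688, [1, 0, 1, 0, 2, 1]), (318, 688, [1, 0, 1, 0, 2, 3]), (315, 688, [1, 0, 1, 2, 1, 0]), (314, 688, [1, 0, 1, 2, 1, 3]), (279, 688, [1, 0, 1, 2, 3, 2]), (613, 688, [1, 0, 1, 2, 3, 4]), (644, 688, [1, 0, 2, 1, 0, 1]), (294, 688, [1, 0, 2, 1, 0, 3]), (200, 688, [1, 0, 2, 1, 3, 2]), (468, 688, [1, 0, 2, 1, 3, 4]), (117, 688, [1, 0, 2, 3, 2, 1]), (275, 688, [1, 0, 2, 3, 2, 4]), (81, 688, [1, 2, 3, 2, 1, 0]), (128, 688, [1, 2, 3, 2, 1, 4]), (308, 688, [1, 2, 3, 2, 4, 3]), (474, 688, [1, 0, 1, 0, 2, 1, 3]), (202, 688, [1, 0, 1, 0,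 2, 3, 2]), (469, 688, [1, 0, 1, 0, 2, 3, 4]), (199, 688, [1, 0, 1, 2, 1, 0, 3]), (198, 688, [1, 0, 1, 2, 1, 3, 2]), (467, 688, [1, 0, 1, 2, 1, 3, 4]), (267, 688, [1, 0, 1, 2, 3, 2, 1]), (414, 688, [1, 0, 1, 2, 3, 2, 4]), (439, 688, [1, 0, 2, 1, 0, 1, 3]), (188, 688, [1, 0, 2, 1, 0, 3, 2]), (436, 688, [1, 0, 2, 1, 0, 3, 4]), (155, 688, [1, 0, 2, 1, 3, 2, 1]), (277, 688, [1, 0, 2, 1, 3, 2, 3]), (311, 688, [1, 0, 2, 1, 3, 2, 4]), (116, 688, [1, 0, 2, 3, 2, 1, 0]), (178, 688, [1, 0, 2, 3, 2, 1, 4]), (410, 688, [1, 0, 2, 3, 2, 4, 3]), (129, 688, [1, 2, 3, 2, 1, 0, 1]), (127, 688, [1, 2, 3, 2, 1, 0, 4]), (195, 688, [1, 2, 3, 2, 1, 4, 3]), (465, 688, [1, 2, 3, 2, 4, 3,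 2]), (687, 688, [1, 0, 1, 0, 2, 1, 3, 4]), (313, 688, [1, 0, 1, 0, 2, 3, 2, 4])]

def bigMoves_1 : List (ℕ × ℕ × List ℕ) := [(310, 688, [1, 0, 1, 2, 1, 0, 3, 4]), (276, 688, [1, 0, 1, 2, 1, 3, 2, 1]), (309, 688, [1, 0, 1, 2, 1, 3, 2, 4]), (396, 688, [1, 0, 1, 2, 3, 2, 1, 4]), (612, 688, [1, 0, 1, 2, 3, 2, 4, 3]), (643, 688, [1, 0, 2, 1, 0, 1, 3, 4]), (290, 688, [1, 0, 2, 1, 0, 3, 2, 4]), (154, 688, [1, 0, 2, 1, 3, 2, 1, 0]), (234, 688, [1, 0, 2, 1, 3, 2, 1, 3]), (240, 688, [1, 0, 2, 1, 3, 2, 1, 4]), (179, 688, [1, 0, 2, 1, 3, 2, 3, 2]), (412, 688, [1, 0, 2, 1, 3, 2, 3, 4]), (464, 688, [1, 0, 2, 1, 3, 2, 4, 3]), (177, 688, [1, 0, 2, 3, 2, 1, 0, 4]), (273, 688, [1,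 0, 2, 3, 2, 1, 4, 3]), (611, 688, [1, 0, 2, 3, 2, 4, 3, 2]), (196, 688, [1, 2, 3, 2, 1, 0, 1, 4]), (194, 688, [1, 2, 3, 2, 1, 0, 4, 3]), (305, 688, [1, 2, 3, 2, 1, 4, 3, 2]), (324, 688, [1, 2, 3, 2, 4, 3, 2, 1]), (466, 688, [1, 0, 1, 0, 2, 3, 2, 4, 3]), (411, 688, [1, 0, 1, 2, 1, 3, 2, 1, 4]), (462, 688, [1, 0, 1, 2, 1, 3, 2, 4, 3]), (581, 688, [1, 0, 1, 2, 3, 2, 1, 4, 3]), (900, 688, [1, 0, 1, 2, 3, 2, 4, 3, 2]), (433, 688, [1, 0, 2, 1, 0, 3, 2, 4, 3]), (233, 688, [1, 0, 2, 1, 3, 2, 1, 0, 1]), (239, 688, [1, 0, 2, 1, 3, 2, 1, 0, 4]), (358, 688, [1, 0, 2, 1, 3, 2, 1, 3, 4]), (365, 688, [1, 0, 2, 1, 3, 2, 1, 4, 3]), (274, 688, [1, 0, 2, 1, 3, 2, 3, 2, 4]), (610,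 688, [1, 0, 2, 1, 3, 2, 3, 4, 3]), (685, 688, [1, 0, 2, 1, 3, 2, 4, 3, 2]), (272, 688, [1, 0, 2, 3, 2, 1, 0, 4, 3]), (408, 688, [1, 0, 2, 3, 2, 1, 4, 3, 2]), (421, 688, [1, 0, 2, 3, 2, 4, 3, 2, 1]), (307, 688, [1, 2, 3, 2, 1, 0, 1, 4, 3]), (303, 688, [1, 2, 3, 2, 1, 0, 4, 3, 2]), (451, 688, [1, 2, 3, 2, 1, 4, 3, 2, 1]), (457, 688, [1, 2, 3, 2, 1, 4, 3, 2, 3]), (323, 688, [1, 2, 3, 2, 4, 3, 2, 1, 0]), (686, 688, [1, 0, 1, 0, 2, 3, 2, 4, 3, 2]), (608, 688, [1, 0, 1, 2, 1, 3, 2, 1, 4, 3]), (684, 688, [1, 0, 1, 2, 1, 3, 2, 4, 3, 2]), (857, 688, [1, 0, 1, 2, 3, 2, 1, 4, 3, 2]), (904, 688, [1, 0, 1, 2, 3, 2, 4, 3, 2, 1]), (642, 688, [1, 0, 2, 1, 0, 3, 2, 4, 3, 2]), (357,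 688, [1, 0, 2, 1, 3, 2, 1, 0, 1, 4]), (364, 688, [1, 0, 2, 1, 3, 2, 1, 0, 4, 3]), (525, 688, [1, 0, 2, 1, 3, 2, 1, 3, 4, 3]), (536, 688, [1, 0, 2, 1, 3, 2, 1, 4, 3, 2]), (409, 688, [1, 0, 2, 1, 3, 2, 3, 2, 4, 3]), (899, 688, [1, 0, 2, 1, 3, 2, 3, 4, 3, 2]), (994, 688, [1, 0, 2, 1, 3, 2, 4, 3, 2, 1]), (406, 688, [1, 0, 2, 3, 2, 1, 0, 4, 3, 2]), (594, 688, [1, 0, 2, 3, 2, 1, 4, 3, 2, 1]), (604, 688, [1, 0, 2, 3, 2, 1, 4, 3, 2, 3]), (420, 688, [1, 0, 2, 3, 2, 4, 3, 2, 1, 0]), (463, 688, [1, 2, 3, 2, 1, 0, 1, 4, 3, 2]), (461, 688, [1, 2, 3, 2, 1, 0, 4, 3, 2, 1])]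

def bigMoves_2 : List (ℕ × ℕ × List ℕ) := [(455, 688, [1, 2, 3, 2, 1, 0, 4, 3, 2, 3]), (449, 688, [1, 2, 3, 2, 1, 4, 3, 2, 1, 0]), (662, 688, [1, 2, 3, 2, 1, 4, 3, 2, 1, 3]), (670, 688, [1, 2, 3, 2, 1, 4, 3, 2, 3, 4]), (481, 688, [1, 2, 3, 2, 4, 3, 2, 1, 0, 1]), (695, 688, [1, 0, 1, 0, 2, 3, 2, 4, 3, 2, 1]), (897, 688, [1, 0, 1, 2, 1, 3, 2, 1, 4, 3, 2]), (992, 688, [1, 0, 1, 2, 1, 3, 2, 4, 3, 2, 1]), (1226, 688, [1, 0, 1, 2, 3, 2, 1, 4, 3, 2, 1]), (1225, 688, [1, 0, 1, 2, 3, 2, 1, 4, 3, 2, 3]), (909, 688, [1, 0, 1, 2, 3, 2, 4, 3, 2, 1, 0]), (940, 688, [1, 0, 2, 1, 0, 3, 2, 4, 3, 2, 1]), (524, 688, [1, 0, 2, 1, 3, 2, 1, 0, 1, 4, 3]), (534, 688, [1, 0, 2, 1, 3,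 2, 1, 0, 4, 3, 2]), (765, 688, [1, 0, 2, 1, 3, 2, 1, 3, 4, 3, 2]), (782, 688, [1, 0, 2, 1, 3, 2, 1, 4, 3, 2, 1]), (776, 688, [1, 0, 2, 1, 3, 2, 1, 4, 3, 2, 3]), (609, 688, [1, 0, 2, 1, 3, 2, 3, 2, 4, 3, 2]), (1261, 688, [1, 0, 2, 1, 3, 2, 3, 4, 3, 2, 1]), (1260, 688, [1, 0, 2, 1, 3, 2, 3, 4, 3, 2, 3]), (1344, 688, [1, 0, 2, 1, 3, 2, 4, 3, 2, 1, 0]), (607, 688, [1, 0, 2, 3, 2, 1, 0, 4, 3, 2, 1]), (602, 688, [1, 0, 2, 3, 2, 1, 0, 4, 3, 2, 3]), (592, 688, [1, 0, 2, 3, 2, 1, 4, 3, 2, 1, 0]), (871, 688, [1, 0, 2, 3, 2, 1, 4, 3, 2, 1, 3]), (775, 688, [1, 0, 2, 3, 2, 1, 4, 3, 2, 3, 2]), (885, 688, [1, 0, 2, 3, 2, 1, 4, 3, 2, 3, 4]), (619, 688, [1, 0, 2, 3, 2, 4, 3, 2,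 1, 0, 1]), (682, 688, [1, 2, 3, 2, 1, 0, 1, 4, 3, 2, 1]), (681, 688, [1, 2, 3, 2, 1, 0, 4, 3, 2, 1, 0]), (674, 688, [1, 2, 3, 2, 1, 0, 4, 3, 2, 1, 3]), (668, 688, [1, 2, 3, 2, 1, 0, 4, 3, 2, 3, 4]), (666, 688, [1, 2, 3, 2, 1, 4, 3, 2, 1, 0, 1]), (660, 688, [1, 2, 3, 2, 1, 4, 3, 2, 1, 0, 3]), (931, 688, [1, 2, 3, 2, 1, 4, 3, 2, 1, 3, 2]), (962, 688, [1, 2, 3, 2, 1, 4, 3, 2, 1, 3, 4]), (701, 688, [1, 2, 3, 2, 4, 3, 2, 1, 0, 1, 0]), (702, 688, [1, 2, 3, 2, 4, 3, 2, 1, 0, 1, 2]), (703, 688, [1, 0, 1, 0, 2, 3, 2, 4, 3, 2, 1, 0]), (1258, 688, [1, 0, 1, 2, 1, 3, 2, 1, 4, 3, 2, 1]), (1259, 688, [1, 0, 1, 2, 1, 3, 2, 1, 4, 3, 2, 3]), (1340, 688, [1, 0, 1, 2, 1, 3, 2, 4,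 3, 2, 1, 0]), (1267, 688, [1, 0, 1, 2, 3, 2, 1, 4, 3, 2, 1, 0]), (1573, 688, [1, 0, 1, 2, 3, 2, 1, 4, 3, 2, 1, 3]), (898, 688, [1, 0, 1, 2, 3, 2, 1, 4, 3, 2, 3, 2]), (906, 688, [1, 0, 1, 2, 3, 2, 4, 3, 2, 1, 0, 1]), (1014, 688, [1, 0, 2, 1, 0, 3, 2, 4, 3, 2, 1, 0]), (763, 688, [1, 0, 2, 1, 3, 2, 1, 0, 1, 4, 3, 2]), (780, 688, [1, 0, 2, 1, 3, 2, 1, 0, 4, 3, 2, 1]), (1104, 688, [1, 0, 2, 1, 3, 2, 1, 3, 4, 3, 2, 1]), (1098, 688, [1, 0, 2, 1, 3, 2, 1, 3, 4, 3, 2, 3]), (1121, 688, [1, 0, 2, 1, 3, 2, 1, 4, 3, 2, 1, 0]), (1116, 688, [1, 0, 2, 1, 3, 2, 1, 4, 3, 2, 1, 3]), (955, 688, [1, 0, 2, 1, 3, 2, 1, 4, 3, 2, 3, 4]), (895, 688, [1, 0, 2, 1, 3, 2, 3, 2, 4, 3, 2, 1]),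 (1595, 688, [1, 0, 2, 1, 3, 2, 3, 4, 3, 2, 1, 0]), (1594, 688, [1, 0, 2, 1, 3, 2, 3, 4, 3, 2, 1, 3]), (1630, 688, [1, 0, 2, 1, 3, 2, 4, 3, 2, 1, 0, 1]), (894, 688, [1, 0, 2, 3, 2, 1, 0, 4, 3, 2, 1, 0]), (889, 688, [1, 0, 2, 3, 2, 1, 0, 4, 3, 2, 1, 3])]

def bigMoves_3 : List (ℕ × ℕ × List ℕ) := [(883, 688, [1, 0, 2, 3, 2, 1, 0, 4, 3, 2, 3, 4]), (874, 688, [1, 0, 2, 3, 2, 1, 4, 3, 2, 1, 0, 1]), (781, 688, [1, 0, 2, 3, 2, 1, 4, 3, 2, 1, 0, 3]), (938, 688, [1, 0, 2, 3, 2, 1, 4, 3, 2, 1, 3, 2]), (1232, 688, [1, 0, 2, 3, 2, 1, 4, 3, 2, 1, 3, 4]), (1115, 688, [1, 0, 2, 3, 2, 1, 4, 3, 2, 3, 2, 1]), (1111, 688, [1, 0, 2, 3, 2, 1, 4, 3, 2, 3, 2, 4]), (907, 688, [1, 0, 2,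 3, 2, 4, 3, 2, 1, 0, 1, 0]), (908, 688, [1, 0, 2, 3, 2, 4, 3, 2, 1, 0, 1, 2]), (990, 688, [1, 2, 3, 2, 1, 0, 1, 4, 3, 2, 1, 0]), (989, 688, [1, 2, 3, 2, 1, 0, 4, 3, 2, 1, 0, 1]), (981, 688, [1, 2, 3, 2, 1, 0, 4, 3, 2, 1, 0, 3]), (982, 688, [1, 2, 3, 2, 1, 0, 4, 3, 2, 1, 3, 2]), (976, 688, [1, 2, 3, 2, 1, 0, 4, 3, 2, 1, 3, 4]), (970, 688, [1, 2, 3, 2, 1, 4, 3, 2, 1, 0, 1, 0]), (971, 688, [1, 2, 3, 2, 1, 4, 3, 2, 1, 0, 1, 2]), (966, 688, [1, 2, 3, 2, 1, 4, 3, 2, 1, 0, 1, 3]), (958, 688, [1, 2, 3, 2, 1, 4, 3, 2, 1, 0, 3, 2]), (960, 688, [1, 2, 3, 2, 1, 4, 3, 2, 1, 0, 3, 4]), (639, 688, [1, 2, 3, 2, 1, 4, 3, 2, 1, 3, 2, 3]), (1283, 688, [1, 2, 3, 2, 1, 4, 3, 2, 1,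 3, 2, 4]), (1012, 688, [1, 2, 3, 2, 4, 3, 2, 1, 0, 1, 0, 2]), (1013, 688, [1, 2, 3, 2, 4, 3, 2, 1, 0, 1, 2, 3]), (698, 688, [1, 0, 1, 0, 2, 3, 2, 4, 3, 2, 1, 0, 1]), (1342, 688, [1, 0, 1, 2, 1, 3, 2, 1, 4, 3, 2, 1, 0]), (1341, 688, [1, 0, 1, 2, 1, 3, 2, 1, 4, 3, 2, 1, 3]), (1266, 688, [1, 0, 1, 2, 1, 3, 2, 4, 3, 2, 1, 0, 1]), (1589, 688, [1, 0, 1, 2, 3, 2, 1, 4, 3, 2, 1, 0, 1]), (1462, 688, [1, 0, 1, 2, 3, 2, 1, 4, 3, 2, 1, 0, 3]), (1460, 688, [1, 0, 1, 2, 3, 2, 1, 4, 3, 2, 1, 3, 2]), (1256, 688, [1, 0, 1, 2, 3, 2, 1, 4, 3, 2, 3, 2, 1]), (1073, 688, [1, 0, 1, 2, 3, 2, 4, 3, 2, 1, 0, 1, 0]), (1215, 688, [1, 0, 1, 2, 3, 2, 4, 3, 2, 1, 0, 1, 2]), (1363, 688, [1, 0,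 2, 1, 0, 3, 2, 4, 3, 2, 1, 0, 1]), (1102, 688, [1, 0, 2, 1, 3, 2, 1, 0, 1, 4, 3, 2, 1]), (1097, 688, [1, 0, 2, 1, 3, 2, 1, 0, 1, 4, 3, 2, 3]), (1122, 688, [1, 0, 2, 1, 3, 2, 1, 0, 4, 3, 2, 1, 0]), (1451, 688, [1, 0, 2, 1, 3, 2, 1, 3, 4, 3, 2, 1, 0]), (1446, 688, [1, 0, 2, 1, 3, 2, 1, 3, 4, 3, 2, 1, 3]), (1303, 688, [1, 0, 2, 1, 3, 2, 1, 3, 4, 3, 2, 3, 4]), (1466, 688, [1, 0, 2, 1, 3, 2, 1, 4, 3, 2, 1, 0, 1]), (972, 688, [1, 0, 2, 1, 3, 2, 1, 4, 3, 2, 1, 3, 4]), (1254, 688, [1, 0, 2, 1, 3, 2, 3, 2, 4, 3, 2, 1, 0]), (1747, 688, [1, 0, 2, 1, 3, 2, 3, 4, 3, 2, 1, 0, 1]), (1321, 688, [1, 0, 2, 1, 3, 2, 3, 4, 3, 2, 1, 0, 3]), (1287, 688, [1, 0, 2, 1, 3, 2, 3, 4, 3, 2,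 1, 3, 2]), (1761, 688, [1, 0, 2, 1, 3, 2, 4, 3, 2, 1, 0, 1, 0]), (1762, 688, [1, 0, 2, 1, 3, 2, 4, 3, 2, 1, 0, 1, 2]), (1253, 688, [1, 0, 2, 3, 2, 1, 0, 4, 3, 2, 1, 0, 1]), (1247, 688, [1, 0, 2, 3, 2, 1, 0, 4, 3, 2, 1, 0, 3]), (1248, 688, [1, 0, 2, 3, 2, 1, 0, 4, 3, 2, 1, 3, 2]), (1241, 688, [1, 0, 2, 3, 2, 1, 0, 4, 3, 2, 1, 3, 4]), (1114, 688, [1, 0, 2, 3, 2, 1, 4, 3, 2, 1, 0, 1, 0]), (1234, 688, [1, 0, 2, 3, 2, 1, 4, 3, 2, 1, 0, 1, 2]), (1119, 688, [1, 0, 2, 3, 2, 1, 4, 3, 2, 1, 0, 1, 3]), (1103, 688, [1, 0, 2, 3, 2, 1, 4, 3, 2, 1, 0, 3, 4]), (1290, 688, [1, 0, 2, 3, 2, 1, 4, 3, 2, 1, 3, 2, 1]), (1222, 688, [1, 0, 2, 3, 2, 1, 4, 3, 2, 1, 3, 2, 4]), (1461, 688,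 [1, 0, 2, 3, 2, 1, 4, 3, 2, 3, 2, 1, 0]), (1459, 688, [1, 0, 2, 3, 2, 1, 4, 3, 2, 3, 2, 1, 4])]

def bigMoves_4 : List (ℕ × ℕ × List ℕ) := [(1441, 688, [1, 0, 2, 3, 2, 1, 4, 3, 2, 3, 2, 4, 3]), (1339, 688, [1, 2, 3, 2, 1, 0, 1, 4, 3, 2, 1, 0, 1]), (1318, 688, [1, 2, 3, 2, 1, 0, 4, 3, 2, 1, 0, 1, 0]), (1338, 688, [1, 2, 3, 2, 1, 0, 4, 3, 2, 1, 0, 1, 2]), (1330, 688, [1, 2, 3, 2, 1, 0, 4, 3, 2, 1, 0, 1, 3]), (1331, 688, [1, 2, 3, 2, 1, 0, 4, 3, 2, 1, 0, 3, 2]), (1327, 688, [1, 2, 3, 2, 1, 0, 4, 3, 2, 1, 0, 3, 4]), (683, 688, [1, 2, 3, 2, 1, 0, 4, 3, 2, 1, 3, 2, 3]), (1328, 688, [1, 2, 3, 2, 1, 0, 4, 3, 2, 1, 3, 2, 4]), (1319, 688, [1, 2, 3, 2, 1, 4, 3, 2, 1, 0, 1,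 0, 2]), (1313, 688, [1, 2, 3, 2, 1, 4, 3, 2, 1, 0, 1, 0, 3]), (1320, 688, [1, 2, 3, 2, 1, 4, 3, 2, 1, 0, 1, 2, 3]), (1314, 688, [1, 2, 3, 2, 1, 4, 3, 2, 1, 0, 1, 3, 2]), (1311, 688, [1, 2, 3, 2, 1, 4, 3, 2, 1, 0, 1, 3, 4]), (1307, 688, [1, 2, 3, 2, 1, 4, 3, 2, 1, 0, 3, 2, 1]), (1305, 688, [1, 2, 3, 2, 1, 4, 3, 2, 1, 0, 3, 2, 4]), (854, 688, [1, 2, 3, 2, 1, 4, 3, 2, 1, 3, 2, 3, 4]), (1005, 688, [1, 2, 3, 2, 1, 4, 3, 2, 1, 3, 2, 4, 3]), (1343, 688, [1, 2, 3, 2, 4, 3, 2, 1, 0, 1, 0, 2, 3]), (779, 688, [1, 2, 3, 2, 4, 3, 2, 1, 0, 1, 2, 3, 2]), (1004, 688, [1, 0, 1, 0, 2, 3, 2, 4, 3, 2, 1, 0, 1, 0]), (993, 688, [1, 0, 1, 2, 1, 3, 2, 1, 4, 3, 2, 1, 0, 3]), (991, 688,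 [1, 0, 1, 2, 1, 3, 2, 1, 4, 3, 2, 1, 3, 2]), (1702, 688, [1, 0, 1, 2, 3, 2, 1, 4, 3, 2, 1, 0, 1, 0]), (1249, 688, [1, 0, 1, 2, 3, 2, 1, 4, 3, 2, 1, 0, 1, 2]), (1255, 688, [1, 0, 1, 2, 3, 2, 1, 4, 3, 2, 1, 3, 2, 1]), (1257, 688, [1, 0, 1, 2, 3, 2, 1, 4, 3, 2, 3, 2, 1, 0]), (1422, 688, [1, 0, 1, 2, 3, 2, 4, 3, 2, 1, 0, 1, 0, 2]), (1655, 688, [1, 0, 2, 1, 0, 3, 2, 4, 3, 2, 1, 0, 1, 0]), (1352, 688, [1, 0, 2, 1, 0, 3, 2, 4, 3, 2, 1, 0, 1, 2]), (1452, 688, [1, 0, 2, 1, 3, 2, 1, 0, 1, 4, 3, 2, 1, 0]), (1445, 688, [1, 0, 2, 1, 3, 2, 1, 0, 1, 4, 3, 2, 1, 3]), (1639, 688, [1, 0, 2, 1, 3, 2, 1, 3, 4, 3, 2, 1, 0, 1]), (1698, 688, [1, 0, 2, 1, 3, 2, 1, 3, 4, 3, 2, 1, 0, 3]),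 (1700, 688, [1, 0, 2, 1, 3, 2, 1, 3, 4, 3, 2, 1, 3, 2]), (1315, 688, [1, 0, 2, 1, 3, 2, 1, 3, 4, 3, 2, 1, 3, 4]), (1584, 688, [1, 0, 2, 1, 3, 2, 3, 4, 3, 2, 1, 0, 1, 3]), (1605, 688, [1, 0, 2, 1, 3, 2, 3, 4, 3, 2, 1, 3, 2, 3]), (1746, 688, [1, 0, 2, 1, 3, 2, 4, 3, 2, 1, 0, 1, 2, 3]), (1465, 688, [1, 0, 2, 3, 2, 1, 0, 4, 3, 2, 1, 0, 1, 3]), (1588, 688, [1, 0, 2, 3, 2, 1, 0, 4, 3, 2, 1, 0, 3, 2]), (1583, 688, [1, 0, 2, 3, 2, 1, 0, 4, 3, 2, 1, 0, 3, 4]), (1449, 688, [1, 0, 2, 3, 2, 1, 4, 3, 2, 1, 0, 1, 3, 4]), (1616, 688, [1, 0, 2, 3, 2, 1, 4, 3, 2, 3, 2, 1, 4, 3]), (1621, 688, [1, 2, 3, 2, 1, 0, 4, 3, 2, 1, 0, 1, 0, 3]), (1120, 688, [1, 2, 3, 2, 1, 0, 4, 3, 2, 1,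 0, 1, 2, 3]), (1627, 688, [1, 2, 3, 2, 1, 0, 4, 3, 2, 1, 0, 1, 3, 2]), (1625, 688, [1, 2, 3, 2, 1, 0, 4, 3, 2, 1, 0, 1, 3, 4]), (1626, 688, [1, 2, 3, 2, 1, 0, 4, 3, 2, 1, 0, 3, 2, 4]), (896, 688, [1, 2, 3, 2, 1, 0, 4, 3, 2, 1, 3, 2, 3, 4]), (1592, 688, [1, 2, 3, 2, 1, 4, 3, 2, 1, 0, 1, 0, 2, 3]), (1622, 688, [1, 2, 3, 2, 1, 4, 3, 2, 1, 0, 1, 0, 3, 2]), (1444, 688, [1, 2, 3, 2, 1, 4, 3, 2, 1, 0, 1, 0, 3, 4]), (1101, 688, [1, 2, 3, 2, 1, 4, 3, 2, 1, 0, 1, 2, 3, 2]), (1617, 688, [1, 2, 3, 2, 1, 4, 3, 2, 1, 0, 1, 3, 2, 1]), (1619, 688, [1, 2, 3, 2, 1, 4, 3, 2, 1, 0, 1, 3, 2, 3]), (1615, 688, [1, 2, 3, 2, 1, 4, 3, 2, 1, 0, 3, 2, 1, 4]), (1351, 688, [1, 2, 3, 2, 1, 4,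 3, 2, 1, 0, 3, 2, 4, 3]), (1699, 688, [1, 0, 2, 1, 3, 2, 1, 0, 1, 4, 3, 2, 1, 3, 2]), (1776, 688, [1, 0, 2, 1, 3, 2, 1, 3, 4, 3, 2, 1, 0, 3, 2])]

def bigMoves_5 : List (ℕ × ℕ × List ℕ) := [(1623, 688, [1, 0, 2, 1, 3, 2, 1, 3, 4, 3, 2, 1, 3, 2, 3]), (1753, 688, [1, 0, 2, 1, 3, 2, 3, 4, 3, 2, 1, 3, 2, 3, 2]), (1701, 688, [1, 0, 2, 3, 2, 1, 0, 4, 3, 2, 1, 0, 1, 3, 2]), (1757, 688, [1, 0, 2, 3, 2, 1, 4, 3, 2, 3, 2, 1, 4, 3, 2]), (1758, 688, [1, 2, 3, 2, 1, 0, 4, 3, 2, 1, 0, 1, 0, 3, 2]), (1697, 688, [1, 2, 3, 2, 1, 0, 4, 3, 2, 1, 0, 1, 0, 3, 4]), (1450, 688, [1, 2, 3, 2, 1, 0, 4, 3, 2, 1, 0, 1, 2, 3, 2]), (1760, 688, [1, 2, 3, 2, 1, 0, 4, 3, 2, 1, 0, 1, 3, 2, 3]),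 (1759, 688, [1, 2, 3, 2, 1, 4, 3, 2, 1, 0, 1, 0, 3, 2, 1]), (1696, 688, [1, 2, 3, 2, 1, 4, 3, 2, 1, 0, 1, 0, 3, 2, 3]), (1756, 688, [1, 2, 3, 2, 1, 4, 3, 2, 1, 0, 1, 3, 2, 1, 3]), (1780, 688, [1, 2, 3, 2, 1, 0, 4, 3, 2, 1, 0, 1, 0, 3, 2, 1]), (1777, 688, [1, 2, 3, 2, 1, 0, 4, 3, 2, 1, 0, 1, 0, 3, 2, 3]), (1775, 688, [1, 2, 3, 2, 1, 4, 3, 2, 1, 0, 1, 0, 3, 2, 1, 3]), (1781, 688, [1, 2, 3, 2, 1, 0, 4, 3, 2, 1, 0, 1, 0, 3, 2, 1, 3]), (47, 47, []), (76, 47, [0]), (72, 47, [3]), (79, 47, [4]), (99, 47, [0, 1]), (112, 47, [0, 3]), (121, 47, [0, 4]), (115, 47, [3, 4]), (125, 47, [4, 3]), (146, 47, [0, 1, 0]), (149, 47, [0, 1, 3]), (152, 47, [0, 1, 4]), (172, 47, [0, 3,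 4]), (184, 47, [0, 4, 3]), (176, 47, [3, 4, 3]), (192, 47, [4, 3, 2]), (228, 47, [0, 1, 0, 1]), (223, 47, [0, 1, 0, 3]), (226, 47, [0, 1, 0, 4]), (231, 47, [0, 1, 3, 4]), (237, 47, [0, 1, 4, 3]), (263, 47, [0, 3, 4, 3]), (286, 47, [0, 4, 3, 2]), (271, 47, [3, 4, 3, 2]), (304, 47, [4, 3, 2, 1]), (301, 47, [4, 3, 2, 3]), (347, 47, [0, 1, 0, 1, 2]), (352, 47, [0, 1, 0, 1, 4]), (346, 47, [0, 1, 0, 3, 4]), (350, 47, [0, 1, 0, 4, 3]), (355, 47, [0, 1, 3, 4, 3]), (362, 47, [0, 1, 4, 3, 2]), (392, 47, [0, 3, 4, 3, 2]), (430, 47, [0, 4, 3, 2, 1]), (428, 47, [0, 4, 3, 2, 3]), (407, 47, [3, 4, 3, 2, 1]), (404, 47, [3, 4, 3, 2, 3]), (456, 47, [4, 3, 2, 1, 3]), (453, 47, [4,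 3, 2, 3, 4]), (513, 47, [0, 1, 0, 1, 2, 4]), (518, 47, [0, 1, 0, 1, 4, 3]), (512, 47, [0, 1, 0, 3, 4, 3]), (516, 47, [0, 1, 0, 4, 3, 2]), (522, 47, [0, 1, 3, 4, 3, 2]), (535, 47, [0, 1, 4, 3, 2, 1])]

def bigMoves_6 : List (ℕ × ℕ × List ℕ) := [(532, 47, [0, 1, 4, 3, 2, 3]), (578, 47, [0, 3, 4, 3, 2, 1]), (576, 47, [0, 3, 4, 3, 2, 3]), (638, 47, [0, 4, 3, 2, 1, 0]), (634, 47, [0, 4, 3, 2, 1, 3]), (632, 47, [0, 4, 3, 2, 3, 4]), (603, 47, [3, 4, 3, 2, 1, 3]), (598, 47, [3, 4, 3, 2, 3, 2]), (600, 47, [3, 4, 3, 2, 3, 4]), (661, 47, [4, 3, 2, 1, 3, 2]), (669, 47, [4, 3, 2, 1, 3, 4]), (750, 47, [0, 1, 0, 1, 2, 4, 3]), (749, 47, [0, 1, 0, 3, 4, 3, 2]), (764, 47, [0, 1,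 3, 4, 3, 2, 1]), (761, 47, [0, 1, 3, 4, 3, 2, 3]), (590, 47, [0, 1, 4, 3, 2, 1, 0]), (586, 47, [0, 1, 4, 3, 2, 1, 3]), (654, 47, [0, 1, 4, 3, 2, 3, 4]), (853, 47, [0, 3, 4, 3, 2, 1, 0]), (849, 47, [0, 3, 4, 3, 2, 1, 3]), (847, 47, [0, 3, 4, 3, 2, 3, 4]), (930, 47, [0, 4, 3, 2, 1, 0, 3]), (447, 47, [0, 4, 3, 2, 1, 3, 2]), (926, 47, [0, 4, 3, 2, 1, 3, 4]), (884, 47, [3, 4, 3, 2, 1, 3, 4]), (880, 47, [3, 4, 3, 2, 3, 2, 4]), (450, 47, [4, 3, 2, 1, 3, 2, 3]), (961, 47, [4, 3, 2, 1, 3, 2, 4]), (1084, 47, [0, 1, 0, 3, 4, 3, 2, 3]), (868, 47, [0, 1, 3, 4, 3, 2, 1, 0]), (953, 47, [0, 1, 3, 4, 3, 2, 1, 3]), (954, 47, [0, 1, 3, 4, 3, 2, 3, 4]), (870, 47, [0, 1, 4, 3, 2, 1,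 0, 1]), (400, 47, [0, 1, 4, 3, 2, 1, 0, 3]), (419, 47, [0, 1, 4, 3, 2, 1, 3, 2]), (443, 47, [0, 1, 4, 3, 2, 1, 3, 4]), (1214, 47, [0, 3, 4, 3, 2, 1, 0, 3]), (618, 47, [0, 3, 4, 3, 2, 1, 3, 2]), (697, 47, [0, 3, 4, 3, 2, 1, 3, 4]), (653, 47, [0, 4, 3, 2, 1, 0, 3, 2]), (1282, 47, [0, 4, 3, 2, 1, 0, 3, 4]), (298, 47, [0, 4, 3, 2, 1, 3, 2, 3]), (658, 47, [0, 4, 3, 2, 1, 3, 2, 4]), (1237, 47, [3, 4, 3, 2, 3, 2, 4, 3]), (593, 47, [4, 3, 2, 1, 3, 2, 3, 4]), (1231, 47, [4, 3, 2, 1, 3, 2, 4, 3]), (282, 47, [0, 1, 4, 3, 2, 1, 0, 3, 2]), (321, 47, [0, 1, 4, 3, 2, 1, 3, 2, 3]), (905, 47, [0, 3, 4, 3, 2, 1, 0, 3, 2]), (1003, 47, [0, 3, 4, 3, 2, 1, 0, 3, 4]), (478, 47, [0, 3,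 4, 3, 2, 1, 3, 2, 3]), (205, 47, [0, 4, 3, 2, 1, 3, 2, 3, 2]), (1265, 47, [0, 3, 4, 3, 2, 1, 0, 3, 2, 1]), (696, 47, [0, 3, 4, 3, 2, 1, 0, 3, 2, 3]), (1002, 47, [0, 3, 4, 3, 2, 1, 0, 3, 2, 1, 3])]

def bigMoves : List (ℕ × ℕ × List ℕ) := bigMoves_0 ++ bigMoves_1 ++ bigMoves_2 ++ bigMoves_3 ++ bigMoves_4 ++ bigMoves_5 ++ bigMoves_6

def bigTree0_0 : List (ℕ × ℕ × List ℕ) := [(995, 688, []), (995, 472, [1]), (995, 614, [1, 0]), (995, 317, [1, 2]), (995, 901, [1, 0, 1]), (995, 415, [1, 0, 2]), (995, 201, [1, 2, 3]), (995, 689, [1, 0, 1, 0]), (995, 615, [1, 0, 1, 2]), (995, 471, [1, 0, 2, 1]), (995, 278, [1, 0, 2, 3]), (995, 130, [1, 2, 3, 2]), (995, 312, [1, 2, 3,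 4]), (995, 473, [1, 0, 1, 0, 2]), (995, 470, [1, 0, 1, 2, 1]), (995, 416, [1, 0, 1, 2, 3]), (995, 438, [1, 0, 2, 1, 0]), (995, 316, [1, 0, 2, 1, 3]), (995, 180, [1, 0, 2, 3, 2]), (995, 413, [1, 0, 2, 3, 4]), (995, 82, [1, 2, 3, 2, 1]), (995, 197, [1, 2, 3, 2, 4]), (995, 690, [1, 0, 1, 0, 2, 1]), (995, 318, [1, 0, 1, 0, 2, 3]), (995, 315, [1, 0, 1, 2, 1, 0]), (995, 314, [1, 0, 1, 2, 1, 3]), (995, 279, [1, 0, 1, 2, 3, 2]), (995, 613, [1, 0, 1, 2, 3, 4]), (995, 644, [1, 0, 2, 1, 0, 1]), (995, 294, [1, 0, 2, 1, 0, 3]), (995, 200, [1, 0, 2, 1, 3, 2]), (995, 468, [1, 0, 2, 1, 3, 4]), (995, 117, [1, 0, 2, 3, 2, 1]), (995, 275, [1, 0, 2, 3, 2, 4]), (995, 81, [1, 2, 3,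 2, 1, 0]), (995, 128, [1, 2, 3, 2, 1, 4]), (995, 308, [1, 2, 3, 2, 4, 3]), (995, 474, [1, 0, 1, 0, 2, 1, 3]), (995, 202, [1, 0, 1, 0, 2, 3, 2]), (995, 469, [1, 0, 1, 0, 2, 3, 4]), (995, 199, [1, 0, 1, 2, 1, 0, 3]), (995, 198, [1, 0, 1, 2, 1, 3, 2]), (995, 467, [1, 0, 1, 2, 1, 3, 4]), (995, 267, [1, 0, 1, 2, 3, 2, 1]), (995, 414, [1, 0, 1, 2, 3, 2, 4]), (995, 439, [1, 0, 2, 1, 0, 1, 3]), (995, 188, [1, 0, 2, 1, 0, 3, 2]), (995, 436, [1, 0, 2, 1, 0, 3, 4]), (995, 155, [1, 0, 2, 1, 3, 2, 1]), (995, 277, [1, 0, 2, 1, 3, 2, 3]), (995, 311, [1, 0, 2, 1, 3, 2, 4]), (995, 116, [1, 0, 2, 3, 2, 1, 0]), (995, 178, [1, 0, 2, 3, 2, 1, 4]), (995, 410, [1, 0, 2, 3, 2, 4, 3]),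 (995, 129, [1, 2, 3, 2, 1, 0, 1]), (995, 127, [1, 2, 3, 2, 1, 0, 4]), (995, 195, [1, 2, 3, 2, 1, 4, 3]), (995, 465, [1, 2, 3, 2, 4, 3, 2]), (995, 687, [1, 0, 1, 0, 2, 1, 3, 4]), (995, 313, [1, 0, 1, 0, 2, 3, 2, 4])]

def bigTree0_1 : List (ℕ × ℕ × List ℕ) := [(995, 310, [1, 0, 1, 2, 1, 0, 3, 4]), (995, 276, [1, 0, 1, 2, 1, 3, 2, 1]), (995, 309, [1, 0, 1, 2, 1, 3, 2, 4]), (995, 396, [1, 0, 1, 2, 3, 2, 1, 4]), (995, 612, [1, 0, 1, 2, 3, 2, 4, 3]), (995, 643, [1, 0, 2, 1, 0, 1, 3, 4]), (995, 290, [1, 0, 2, 1, 0, 3, 2, 4]), (995, 154, [1, 0, 2, 1, 3, 2, 1, 0]), (995, 234, [1, 0, 2, 1, 3, 2, 1, 3]), (995, 240, [1, 0, 2, 1, 3, 2, 1, 4]), (995, 179, [1, 0, 2, 1, 3, 2,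 3, 2]), (995, 412, [1, 0, 2, 1, 3, 2, 3, 4]), (995, 464, [1, 0, 2, 1, 3, 2, 4, 3]), (995, 177, [1, 0, 2, 3, 2, 1, 0, 4]), (995, 273, [1, 0, 2, 3, 2, 1, 4, 3]), (995, 611, [1, 0, 2, 3, 2, 4, 3, 2]), (995, 196, [1, 2, 3, 2, 1, 0, 1, 4]), (995, 194, [1, 2, 3, 2, 1, 0, 4, 3]), (995, 305, [1, 2, 3, 2, 1, 4, 3, 2]), (995, 324, [1, 2, 3, 2, 4, 3, 2, 1]), (995, 466, [1, 0, 1, 0, 2, 3, 2, 4, 3]), (995, 411, [1, 0, 1, 2, 1, 3, 2, 1, 4]), (995, 462, [1, 0, 1, 2, 1, 3, 2, 4, 3]), (995, 581, [1, 0, 1, 2, 3, 2, 1, 4, 3]), (995, 900, [1, 0, 1, 2, 3, 2, 4, 3, 2]), (995, 433, [1, 0, 2, 1, 0, 3, 2, 4, 3]), (995, 233, [1, 0, 2, 1, 3, 2, 1, 0, 1]), (995, 239, [1, 0, 2, 1, 3, 2, 1,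 0, 4]), (995, 358, [1, 0, 2, 1, 3, 2, 1, 3, 4]), (995, 365, [1, 0, 2, 1, 3, 2, 1, 4, 3]), (995, 274, [1, 0, 2, 1, 3, 2, 3, 2, 4]), (995, 610, [1, 0, 2, 1, 3, 2, 3, 4, 3]), (995, 685, [1, 0, 2, 1, 3, 2, 4, 3, 2]), (995, 272, [1, 0, 2, 3, 2, 1, 0, 4, 3]), (995, 408, [1, 0, 2, 3, 2, 1, 4, 3, 2]), (995, 421, [1, 0, 2, 3, 2, 4, 3, 2, 1]), (995, 307, [1, 2, 3, 2, 1, 0, 1, 4, 3]), (995, 303, [1, 2, 3, 2, 1, 0, 4, 3, 2]), (995, 451, [1, 2, 3, 2, 1, 4, 3, 2, 1]), (995, 457, [1, 2, 3, 2, 1, 4, 3, 2, 3]), (995, 323, [1, 2, 3, 2, 4, 3, 2, 1, 0]), (995, 686, [1, 0, 1, 0, 2, 3, 2, 4, 3, 2]), (995, 608, [1, 0, 1, 2, 1, 3, 2, 1, 4, 3]), (995, 684, [1, 0, 1, 2, 1, 3, 2, 4, 3, 2]),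 (995, 857, [1, 0, 1, 2, 3, 2, 1, 4, 3, 2]), (995, 904, [1, 0, 1, 2, 3, 2, 4, 3, 2, 1]), (995, 642, [1, 0, 2, 1, 0, 3, 2, 4, 3, 2]), (995, 357, [1, 0, 2, 1, 3, 2, 1, 0, 1, 4]), (995, 364, [1, 0, 2, 1, 3, 2, 1, 0, 4, 3]), (995, 525, [1, 0, 2, 1, 3, 2, 1, 3, 4, 3]), (995, 536, [1, 0, 2, 1, 3, 2, 1, 4, 3, 2]), (995, 409, [1, 0, 2, 1, 3, 2, 3, 2, 4, 3]), (995, 899, [1, 0, 2, 1, 3, 2, 3, 4, 3, 2]), (995, 994, [1, 0, 2, 1, 3, 2, 4, 3, 2, 1]), (995, 406, [1, 0, 2, 3, 2, 1, 0, 4, 3, 2]), (995, 594, [1, 0, 2, 3, 2, 1, 4, 3, 2, 1]), (995, 604, [1, 0, 2, 3, 2, 1, 4, 3, 2, 3]), (995, 420, [1, 0, 2, 3, 2, 4, 3, 2, 1, 0]), (995, 463, [1, 2, 3, 2, 1, 0, 1, 4, 3, 2]), (995, 461,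 [1, 2, 3, 2, 1, 0, 4, 3, 2, 1])]

def bigTree0_2 : List (ℕ × ℕ × List ℕ) := [(995, 455, [1, 2, 3, 2, 1, 0, 4, 3, 2, 3]), (995, 449, [1, 2, 3, 2, 1, 4, 3, 2, 1, 0]), (995, 662, [1, 2, 3, 2, 1, 4, 3, 2, 1, 3]), (995, 670, [1, 2, 3, 2, 1, 4, 3, 2, 3, 4]), (995, 481, [1, 2, 3, 2, 4, 3, 2, 1, 0, 1]), (995, 695, [1, 0, 1, 0, 2, 3, 2, 4, 3, 2, 1]), (995, 897, [1, 0, 1, 2, 1, 3, 2, 1, 4, 3, 2]), (995, 992, [1, 0, 1, 2, 1, 3, 2, 4, 3, 2, 1]), (995, 1226, [1, 0, 1, 2, 3, 2, 1, 4, 3, 2, 1]), (995, 1225, [1, 0, 1, 2, 3, 2, 1, 4, 3, 2, 3]), (995, 909, [1, 0, 1, 2, 3, 2, 4, 3, 2, 1, 0]), (995, 940, [1, 0, 2, 1, 0, 3, 2, 4, 3, 2, 1]), (995, 524, [1, 0, 2, 1, 3, 2, 1, 0, 1, 4,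 3]), (995, 534, [1, 0, 2, 1, 3, 2, 1, 0, 4, 3, 2]), (995, 765, [1, 0, 2, 1, 3, 2, 1, 3, 4, 3, 2]), (995, 782, [1, 0, 2, 1, 3, 2, 1, 4, 3, 2, 1]), (995, 776, [1, 0, 2, 1, 3, 2, 1, 4, 3, 2, 3]), (995, 609, [1, 0, 2, 1, 3, 2, 3, 2, 4, 3, 2]), (995, 1261, [1, 0, 2, 1, 3, 2, 3, 4, 3, 2, 1]), (995, 1260, [1, 0, 2, 1, 3, 2, 3, 4, 3, 2, 3]), (995, 1344, [1, 0, 2, 1, 3, 2, 4, 3, 2, 1, 0]), (995, 607, [1, 0, 2, 3, 2, 1, 0, 4, 3, 2, 1]), (995, 602, [1, 0, 2, 3, 2, 1, 0, 4, 3, 2, 3]), (995, 592, [1, 0, 2, 3, 2, 1, 4, 3, 2, 1, 0]), (995, 871, [1, 0, 2, 3, 2, 1, 4, 3, 2, 1, 3]), (995, 775, [1, 0, 2, 3, 2, 1, 4, 3, 2, 3, 2]), (995, 885, [1, 0, 2, 3, 2, 1, 4, 3, 2, 3, 4]), (995,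 619, [1, 0, 2, 3, 2, 4, 3, 2, 1, 0, 1]), (995, 682, [1, 2, 3, 2, 1, 0, 1, 4, 3, 2, 1]), (995, 681, [1, 2, 3, 2, 1, 0, 4, 3, 2, 1, 0]), (995, 674, [1, 2, 3, 2, 1, 0, 4, 3, 2, 1, 3]), (995, 668, [1, 2, 3, 2, 1, 0, 4, 3, 2, 3, 4]), (995, 666, [1, 2, 3, 2, 1, 4, 3, 2, 1, 0, 1]), (995, 660, [1, 2, 3, 2, 1, 4, 3, 2, 1, 0, 3]), (995, 931, [1, 2, 3, 2, 1, 4, 3, 2, 1, 3, 2]), (995, 962, [1, 2, 3, 2, 1, 4, 3, 2, 1, 3, 4]), (995, 701, [1, 2, 3, 2, 4, 3, 2, 1, 0, 1, 0]), (995, 702, [1, 2, 3, 2, 4, 3, 2, 1, 0, 1, 2]), (995, 703, [1, 0, 1, 0, 2, 3, 2, 4, 3, 2, 1, 0]), (995, 1258, [1, 0, 1, 2, 1, 3, 2, 1, 4, 3, 2, 1]), (995, 1259, [1, 0, 1, 2, 1, 3, 2, 1, 4, 3, 2, 3]), (995,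 1340, [1, 0, 1, 2, 1, 3, 2, 4, 3, 2, 1, 0]), (995, 1267, [1, 0, 1, 2, 3, 2, 1, 4, 3, 2, 1, 0]), (995, 1573, [1, 0, 1, 2, 3, 2, 1, 4, 3, 2, 1, 3]), (995, 898, [1, 0, 1, 2, 3, 2, 1, 4, 3, 2, 3, 2]), (995, 906, [1, 0, 1, 2, 3, 2, 4, 3, 2, 1, 0, 1]), (995, 1014, [1, 0, 2, 1, 0, 3, 2, 4, 3, 2, 1, 0]), (995, 763, [1, 0, 2, 1, 3, 2, 1, 0, 1, 4, 3, 2]), (995, 780, [1, 0, 2, 1, 3, 2, 1, 0, 4, 3, 2, 1]), (995, 1104, [1, 0, 2, 1, 3, 2, 1, 3, 4, 3, 2, 1]), (995, 1098, [1, 0, 2, 1, 3, 2, 1, 3, 4, 3, 2, 3]), (995, 1121, [1, 0, 2, 1, 3, 2, 1, 4, 3, 2, 1, 0]), (995, 1116, [1, 0, 2, 1, 3, 2, 1, 4, 3, 2, 1, 3]), (995, 955, [1, 0, 2, 1, 3, 2, 1, 4, 3, 2, 3, 4]), (995, 895, [1, 0,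 2, 1, 3, 2, 3, 2, 4, 3, 2, 1]), (995, 1595, [1, 0, 2, 1, 3, 2, 3, 4, 3, 2, 1, 0]), (995, 1594, [1, 0, 2, 1, 3, 2, 3, 4, 3, 2, 1, 3]), (995, 1630, [1, 0, 2, 1, 3, 2, 4, 3, 2, 1, 0, 1]), (995, 894, [1, 0, 2, 3, 2, 1, 0, 4, 3, 2, 1, 0]), (995, 889, [1, 0, 2, 3, 2, 1, 0, 4, 3, 2, 1, 3])]

def bigTree0_3 : List (ℕ × ℕ × List ℕ) := [(995, 883, [1, 0, 2, 3, 2, 1, 0, 4, 3, 2, 3, 4]), (995, 874, [1, 0, 2, 3, 2, 1, 4, 3, 2, 1, 0, 1]), (995, 781, [1, 0, 2, 3, 2, 1, 4, 3, 2, 1, 0, 3]), (995, 938, [1, 0, 2, 3, 2, 1, 4, 3, 2, 1, 3, 2]), (995, 1232, [1, 0, 2, 3, 2, 1, 4, 3, 2, 1, 3, 4]), (995, 1115, [1, 0, 2, 3, 2, 1, 4, 3, 2, 3, 2, 1]), (995, 1111, [1, 0, 2, 3, 2, 1, 4, 3, 2,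 3, 2, 4]), (995, 907, [1, 0, 2, 3, 2, 4, 3, 2, 1, 0, 1, 0]), (995, 908, [1, 0, 2, 3, 2, 4, 3, 2, 1, 0, 1, 2]), (995, 990, [1, 2, 3, 2, 1, 0, 1, 4, 3, 2, 1, 0]), (995, 989, [1, 2, 3, 2, 1, 0, 4, 3, 2, 1, 0, 1]), (995, 981, [1, 2, 3, 2, 1, 0, 4, 3, 2, 1, 0, 3]), (995, 982, [1, 2, 3, 2, 1, 0, 4, 3, 2, 1, 3, 2]), (995, 976, [1, 2, 3, 2, 1, 0, 4, 3, 2, 1, 3, 4]), (995, 970, [1, 2, 3, 2, 1, 4, 3, 2, 1, 0, 1, 0]), (995, 971, [1, 2, 3, 2, 1, 4, 3, 2, 1, 0, 1, 2]), (995, 966, [1, 2, 3, 2, 1, 4, 3, 2, 1, 0, 1, 3]), (995, 958, [1, 2, 3, 2, 1, 4, 3, 2, 1, 0, 3, 2]), (995, 960, [1, 2, 3, 2, 1, 4, 3, 2, 1, 0, 3, 4]), (995, 639, [1, 2, 3, 2, 1, 4, 3, 2, 1, 3, 2, 3]), (995, 1283,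 [1, 2, 3, 2, 1, 4, 3, 2, 1, 3, 2, 4]), (995, 1012, [1, 2, 3, 2, 4, 3, 2, 1, 0, 1, 0, 2]), (995, 1013, [1, 2, 3, 2, 4, 3, 2, 1, 0, 1, 2, 3]), (995, 698, [1, 0, 1, 0, 2, 3, 2, 4, 3, 2, 1, 0, 1]), (995, 1342, [1, 0, 1, 2, 1, 3, 2, 1, 4, 3, 2, 1, 0]), (995, 1341, [1, 0, 1, 2, 1, 3, 2, 1, 4, 3, 2, 1, 3]), (995, 1266, [1, 0, 1, 2, 1, 3, 2, 4, 3, 2, 1, 0, 1]), (995, 1589, [1, 0, 1, 2, 3, 2, 1, 4, 3, 2, 1, 0, 1]), (995, 1462, [1, 0, 1, 2, 3, 2, 1, 4, 3, 2, 1, 0, 3]), (995, 1460, [1, 0, 1, 2, 3, 2, 1, 4, 3, 2, 1, 3, 2]), (995, 1256, [1, 0, 1, 2, 3, 2, 1, 4, 3, 2, 3, 2, 1]), (995, 1073, [1, 0, 1, 2, 3, 2, 4, 3, 2, 1, 0, 1, 0]), (995, 1215, [1, 0, 1, 2, 3, 2, 4, 3, 2, 1,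 0, 1, 2]), (995, 1363, [1, 0, 2, 1, 0, 3, 2, 4, 3, 2, 1, 0, 1]), (995, 1102, [1, 0, 2, 1, 3, 2, 1, 0, 1, 4, 3, 2, 1]), (995, 1097, [1, 0, 2, 1, 3, 2, 1, 0, 1, 4, 3, 2, 3]), (995, 1122, [1, 0, 2, 1, 3, 2, 1, 0, 4, 3, 2, 1, 0]), (995, 1451, [1, 0, 2, 1, 3, 2, 1, 3, 4, 3, 2, 1, 0]), (995, 1446, [1, 0, 2, 1, 3, 2, 1, 3, 4, 3, 2, 1, 3]), (995, 1303, [1, 0, 2, 1, 3, 2, 1, 3, 4, 3, 2, 3, 4]), (995, 1466, [1, 0, 2, 1, 3, 2, 1, 4, 3, 2, 1, 0, 1]), (995, 972, [1, 0, 2, 1, 3, 2, 1, 4, 3, 2, 1, 3, 4]), (995, 1254, [1, 0, 2, 1, 3, 2, 3, 2, 4, 3, 2, 1, 0]), (995, 1747, [1, 0, 2, 1, 3, 2, 3, 4, 3, 2, 1, 0, 1]), (995, 1321, [1, 0, 2, 1, 3, 2, 3, 4, 3, 2, 1, 0, 3]), (995, 1287,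 [1, 0, 2, 1, 3, 2, 3, 4, 3, 2, 1, 3, 2]), (995, 1761, [1, 0, 2, 1, 3, 2, 4, 3, 2, 1, 0, 1, 0]), (995, 1762, [1, 0, 2, 1, 3, 2, 4, 3, 2, 1, 0, 1, 2]), (995, 1253, [1, 0, 2, 3, 2, 1, 0, 4, 3, 2, 1, 0, 1]), (995, 1247, [1, 0, 2, 3, 2, 1, 0, 4, 3, 2, 1, 0, 3]), (995, 1248, [1, 0, 2, 3, 2, 1, 0, 4, 3, 2, 1, 3, 2]), (995, 1241, [1, 0, 2, 3, 2, 1, 0, 4, 3, 2, 1, 3, 4]), (995, 1114, [1, 0, 2, 3, 2, 1, 4, 3, 2, 1, 0, 1, 0]), (995, 1234, [1, 0, 2, 3, 2, 1, 4, 3, 2, 1, 0, 1, 2]), (995, 1119, [1, 0, 2, 3, 2, 1, 4, 3, 2, 1, 0, 1, 3]), (995, 1103, [1, 0, 2, 3, 2, 1, 4, 3, 2, 1, 0, 3, 4]), (995, 1290, [1, 0, 2, 3, 2, 1, 4, 3, 2, 1, 3, 2, 1]), (995, 1222, [1, 0, 2, 3, 2, 1, 4,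 3, 2, 1, 3, 2, 4]), (995, 1461, [1, 0, 2, 3, 2, 1, 4, 3, 2, 3, 2, 1, 0]), (995, 1459, [1, 0, 2, 3, 2, 1, 4, 3, 2, 3, 2, 1, 4])]

def bigTree0_4 : List (ℕ × ℕ × List ℕ) := [(995, 1441, [1, 0, 2, 3, 2, 1, 4, 3, 2, 3, 2, 4, 3]), (995, 1339, [1, 2, 3, 2, 1, 0, 1, 4, 3, 2, 1, 0, 1]), (995, 1318, [1, 2, 3, 2, 1, 0, 4, 3, 2, 1, 0, 1, 0]), (995, 1338, [1, 2, 3, 2, 1, 0, 4, 3, 2, 1, 0, 1, 2]), (995, 1330, [1, 2, 3, 2, 1, 0, 4, 3, 2, 1, 0, 1, 3]), (995, 1331, [1, 2, 3, 2, 1, 0, 4, 3, 2, 1, 0, 3, 2]), (995, 1327, [1, 2, 3, 2, 1, 0, 4, 3, 2, 1, 0, 3, 4]), (995, 683, [1, 2, 3, 2, 1, 0, 4, 3, 2, 1, 3, 2, 3]), (995, 1328, [1, 2, 3, 2, 1, 0, 4, 3, 2, 1, 3, 2, 4]), (995, 1319,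 [1, 2, 3, 2, 1, 4, 3, 2, 1, 0, 1, 0, 2]), (995, 1313, [1, 2, 3, 2, 1, 4, 3, 2, 1, 0, 1, 0, 3]), (995, 1320, [1, 2, 3, 2, 1, 4, 3, 2, 1, 0, 1, 2, 3]), (995, 1314, [1, 2, 3, 2, 1, 4, 3, 2, 1, 0, 1, 3, 2]), (995, 1311, [1, 2, 3, 2, 1, 4, 3, 2, 1, 0, 1, 3, 4]), (995, 1307, [1, 2, 3, 2, 1, 4, 3, 2, 1, 0, 3, 2, 1]), (995, 1305, [1, 2, 3, 2, 1, 4, 3, 2, 1, 0, 3, 2, 4]), (995, 854, [1, 2, 3, 2, 1, 4, 3, 2, 1, 3, 2, 3, 4]), (995, 1005, [1, 2, 3, 2, 1, 4, 3, 2, 1, 3, 2, 4, 3]), (995, 1343, [1, 2, 3, 2, 4, 3, 2, 1, 0, 1, 0, 2, 3]), (995, 779, [1, 2, 3, 2, 4, 3, 2, 1, 0, 1, 2, 3, 2]), (995, 1004, [1, 0, 1, 0, 2, 3, 2, 4, 3, 2, 1, 0, 1, 0]), (995, 993, [1, 0, 1, 2, 1, 3, 2,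 1, 4, 3, 2, 1, 0, 3]), (995, 991, [1, 0, 1, 2, 1, 3, 2, 1, 4, 3, 2, 1, 3, 2]), (995, 1702, [1, 0, 1, 2, 3, 2, 1, 4, 3, 2, 1, 0, 1, 0]), (995, 1249, [1, 0, 1, 2, 3, 2, 1, 4, 3, 2, 1, 0, 1, 2]), (995, 1255, [1, 0, 1, 2, 3, 2, 1, 4, 3, 2, 1, 3, 2, 1]), (995, 1257, [1, 0, 1, 2, 3, 2, 1, 4, 3, 2, 3, 2, 1, 0]), (995, 1422, [1, 0, 1, 2, 3, 2, 4, 3, 2, 1, 0, 1, 0, 2]), (995, 1655, [1, 0, 2, 1, 0, 3, 2, 4, 3, 2, 1, 0, 1, 0]), (995, 1352, [1, 0, 2, 1, 0, 3, 2, 4, 3, 2, 1, 0, 1, 2]), (995, 1452, [1, 0, 2, 1, 3, 2, 1, 0, 1, 4, 3, 2, 1, 0]), (995, 1445, [1, 0, 2, 1, 3, 2, 1, 0, 1, 4, 3, 2, 1, 3]), (995, 1639, [1, 0, 2, 1, 3, 2, 1, 3, 4, 3, 2, 1, 0, 1]), (995, 1698, [1, 0, 2,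 1, 3, 2, 1, 3, 4, 3, 2, 1, 0, 3]), (995, 1700, [1, 0, 2, 1, 3, 2, 1, 3, 4, 3, 2, 1, 3, 2]), (995, 1315, [1, 0, 2, 1, 3, 2, 1, 3, 4, 3, 2, 1, 3, 4]), (995, 1584, [1, 0, 2, 1, 3, 2, 3, 4, 3, 2, 1, 0, 1, 3]), (995, 1605, [1, 0, 2, 1, 3, 2, 3, 4, 3, 2, 1, 3, 2, 3]), (995, 1746, [1, 0, 2, 1, 3, 2, 4, 3, 2, 1, 0, 1, 2, 3]), (995, 1465, [1, 0, 2, 3, 2, 1, 0, 4, 3, 2, 1, 0, 1, 3]), (995, 1588, [1, 0, 2, 3, 2, 1, 0, 4, 3, 2, 1, 0, 3, 2]), (995, 1583, [1, 0, 2, 3, 2, 1, 0, 4, 3, 2, 1, 0, 3, 4]), (995, 1449, [1, 0, 2, 3, 2, 1, 4, 3, 2, 1, 0, 1, 3, 4]), (995, 1616, [1, 0, 2, 3, 2, 1, 4, 3, 2, 3, 2, 1, 4, 3]), (995, 1621, [1, 2, 3, 2, 1, 0, 4, 3, 2, 1, 0, 1, 0, 3]), (995, 1120,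 [1, 2, 3, 2, 1, 0, 4, 3, 2, 1, 0, 1, 2, 3]), (995, 1627, [1, 2, 3, 2, 1, 0, 4, 3, 2, 1, 0, 1, 3, 2]), (995, 1625, [1, 2, 3, 2, 1, 0, 4, 3, 2, 1, 0, 1, 3, 4]), (995, 1626, [1, 2, 3, 2, 1, 0, 4, 3, 2, 1, 0, 3, 2, 4]), (995, 896, [1, 2, 3, 2, 1, 0, 4, 3, 2, 1, 3, 2, 3, 4]), (995, 1592, [1, 2, 3, 2, 1, 4, 3, 2, 1, 0, 1, 0, 2, 3]), (995, 1622, [1, 2, 3, 2, 1, 4, 3, 2, 1, 0, 1, 0, 3, 2]), (995, 1444, [1, 2, 3, 2, 1, 4, 3, 2, 1, 0, 1, 0, 3, 4]), (995, 1101, [1, 2, 3, 2, 1, 4, 3, 2, 1, 0, 1, 2, 3, 2]), (995, 1617, [1, 2, 3, 2, 1, 4, 3, 2, 1, 0, 1, 3, 2, 1]), (995, 1619, [1, 2, 3, 2, 1, 4, 3, 2, 1, 0, 1, 3, 2, 3]), (995, 1615, [1, 2, 3, 2, 1, 4, 3, 2, 1, 0, 3, 2, 1, 4]),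 (995, 1351, [1, 2, 3, 2, 1, 4, 3, 2, 1, 0, 3, 2, 4, 3]), (995, 1699, [1, 0, 2, 1, 3, 2, 1, 0, 1, 4, 3, 2, 1, 3, 2]), (995, 1776, [1, 0, 2, 1, 3, 2, 1, 3, 4, 3, 2, 1, 0, 3, 2])]

def bigTree0_5 : List (ℕ × ℕ × List ℕ) := [(995, 1623, [1, 0, 2, 1, 3, 2, 1, 3, 4, 3, 2, 1, 3, 2, 3]), (995, 1753, [1, 0, 2, 1, 3, 2, 3, 4, 3, 2, 1, 3, 2, 3, 2]), (995, 1701, [1, 0, 2, 3, 2, 1, 0, 4, 3, 2, 1, 0, 1, 3, 2]), (995, 1757, [1, 0, 2, 3, 2, 1, 4, 3, 2, 3, 2, 1, 4, 3, 2]), (995, 1758, [1, 2, 3, 2, 1, 0, 4, 3, 2, 1, 0, 1, 0, 3, 2]), (995, 1697, [1, 2, 3, 2, 1, 0, 4, 3, 2, 1, 0, 1, 0, 3, 4]), (995, 1450, [1, 2, 3, 2, 1, 0, 4, 3, 2, 1, 0, 1, 2, 3, 2]), (995, 1760, [1, 2, 3, 2, 1,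 0, 4, 3, 2, 1, 0, 1, 3, 2, 3]), (995, 1759, [1, 2, 3, 2, 1, 4, 3, 2, 1, 0, 1, 0, 3, 2, 1]), (995, 1696, [1, 2, 3, 2, 1, 4, 3, 2, 1, 0, 1, 0, 3, 2, 3]), (995, 1756, [1, 2, 3, 2, 1, 4, 3, 2, 1, 0, 1, 3, 2, 1, 3]), (995, 1780, [1, 2, 3, 2, 1, 0, 4, 3, 2, 1, 0, 1, 0, 3, 2, 1]), (995, 1777, [1, 2, 3, 2, 1, 0, 4, 3, 2, 1, 0, 1, 0, 3, 2, 3]), (995, 1775, [1, 2, 3, 2, 1, 4, 3, 2, 1, 0, 1, 0, 3, 2, 1, 3]), (995, 1781, [1, 2, 3, 2, 1, 0, 4, 3, 2, 1, 0, 1, 0, 3, 2, 1, 3]), (688, 47, [1, 2, 3, 2, 1, 5]), (688, 72, [1, 0, 2, 3, 2, 1, 5]), (688, 76, [1, 2, 3, 2, 1, 0, 5]), (688, 79, [1, 2, 3, 2, 1, 4, 5]), (688, 99, [1, 0, 2, 1, 3, 2, 1, 5]), (688, 112, [1, 0, 2, 3, 2, 1, 0,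 5]), (688, 115, [1, 0, 2, 3, 2, 1, 4, 5]), (688, 121, [1, 2, 3, 2, 1, 0, 4, 5]), (688, 125, [1, 2, 3, 2, 1, 4, 3, 5]), (688, 146, [1, 0, 2, 1, 3, 2, 1, 0, 5]), (688, 149, [1, 0, 2, 1, 3, 2, 1, 3, 5]), (688, 152, [1, 0, 2, 1, 3, 2, 1, 4, 5]), (688, 172, [1, 0, 2, 3, 2, 1, 0, 4, 5]), (688, 176, [1, 0, 2, 3, 2, 1, 4, 3, 5]), (688, 184, [1, 2, 3, 2, 1, 0, 4, 3, 5]), (688, 192, [1, 2, 3, 2, 1, 4, 3, 2, 5]), (688, 205, [1, 2, 3, 2, 4, 3, 2, 1, 5]), (688, 223, [1, 0, 2, 1, 3, 2, 1, 0, 1, 5]), (688, 226, [1, 0, 2, 1, 3, 2, 1, 0, 4, 5]), (688, 231, [1, 0, 2, 1, 3, 2, 1, 3, 4, 5]), (688, 237, [1, 0, 2, 1, 3, 2, 1, 4, 3, 5]), (688, 263, [1, 0, 2, 3, 2, 1, 0, 4, 3, 5]), (688,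 271, [1, 0, 2, 3, 2, 1, 4, 3, 2, 5]), (688, 282, [1, 0, 2, 3, 2, 4, 3, 2, 1, 5]), (688, 286, [1, 2, 3, 2, 1, 0, 4, 3, 2, 5]), (688, 298, [1, 2, 3, 2, 1, 4, 3, 2, 1, 5]), (688, 301, [1, 2, 3, 2, 1, 4, 3, 2, 3, 5]), (688, 321, [1, 2, 3, 2, 4, 3, 2, 1, 0, 5]), (688, 346, [1, 0, 2, 1, 3, 2, 1, 0, 1, 4, 5]), (688, 350, [1, 0, 2, 1, 3, 2, 1, 0, 4, 3, 5]), (688, 355, [1, 0, 2, 1, 3, 2, 1, 3, 4, 3, 5]), (688, 362, [1, 0, 2, 1, 3, 2, 1, 4, 3, 2, 5]), (688, 392, [1, 0, 2, 3, 2, 1, 0, 4, 3, 2, 5]), (688, 400, [1, 0, 2, 3, 2, 1, 4, 3, 2, 1, 5]), (688, 404, [1, 0, 2, 3, 2, 1, 4, 3, 2, 3, 5]), (688, 419, [1, 0, 2, 3, 2, 4, 3, 2, 1, 0, 5]), (688, 428, [1, 2, 3, 2, 1, 0, 4, 3,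 2, 3, 5]), (688, 443, [1, 2, 3, 2, 1, 4, 3, 2, 1, 0, 5]), (688, 447, [1, 2, 3, 2, 1, 4, 3, 2, 1, 3, 5]), (688, 453, [1, 2, 3, 2, 1, 4, 3, 2, 3, 4, 5]), (688, 512, [1, 0, 2, 1, 3, 2, 1, 0, 1, 4, 3, 5]), (688, 516, [1, 0, 2, 1, 3, 2, 1, 0, 4, 3, 2, 5]), (688, 522, [1, 0, 2, 1, 3, 2, 1, 3, 4, 3, 2, 5]), (688, 532, [1, 0, 2, 1, 3, 2, 1, 4, 3, 2, 3, 5]), (688, 576, [1, 0, 2, 3, 2, 1, 0, 4, 3, 2, 3, 5])]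

def bigTree0_6 : List (ℕ × ℕ × List ℕ) := [(688, 586, [1, 0, 2, 3, 2, 1, 4, 3, 2, 1, 0, 5]), (688, 590, [1, 0, 2, 3, 2, 1, 4, 3, 2, 1, 3, 5]), (688, 598, [1, 0, 2, 3, 2, 1, 4, 3, 2, 3, 2, 5]), (688, 600, [1, 0, 2, 3, 2, 1, 4, 3, 2, 3, 4, 5]), (688, 632, [1, 2, 3, 2, 1, 0, 4, 3, 2, 3, 4, 5]), (688, 653, [1, 2, 3, 2, 1, 4, 3, 2, 1, 0, 3, 5]), (688, 634, [1, 2, 3, 2, 1, 4, 3, 2, 1, 3, 2, 5]), (688, 658, [1, 2, 3, 2, 1, 4, 3, 2, 1, 3, 4, 5]), (688, 618, [1, 0, 1, 2, 3, 2, 4, 3, 2, 1, 0, 1, 5]), (688, 749, [1, 0, 2, 1, 3, 2, 1, 0, 1, 4, 3, 2, 5]), (688, 761, [1, 0, 2, 1, 3, 2, 1, 3, 4, 3, 2, 3, 5]), (688, 654, [1, 0, 2, 1, 3, 2, 1, 4, 3, 2, 3, 4, 5]), (688, 847, [1,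 0, 2, 3, 2, 1, 0, 4, 3, 2, 3, 4, 5]), (688, 535, [1, 0, 2, 3, 2, 1, 4, 3, 2, 1, 0, 3, 5]), (688, 638, [1, 0, 2, 3, 2, 1, 4, 3, 2, 1, 3, 2, 5]), (688, 868, [1, 0, 2, 3, 2, 1, 4, 3, 2, 1, 3, 4, 5]), (688, 880, [1, 0, 2, 3, 2, 1, 4, 3, 2, 3, 2, 4, 5]), (688, 930, [1, 2, 3, 2, 1, 4, 3, 2, 1, 0, 3, 2, 5]), (688, 953, [1, 2, 3, 2, 1, 4, 3, 2, 1, 0, 3, 4, 5]), (688, 430, [1, 2, 3, 2, 1, 4, 3, 2, 1, 3, 2, 3, 5]), (688, 926, [1, 2, 3, 2, 1, 4, 3, 2, 1, 3, 2, 4, 5]), (688, 478, [1, 0, 1, 0, 2, 3, 2, 4, 3, 2, 1, 0, 1, 5]), (688, 905, [1, 0, 1, 2, 3, 2, 4, 3, 2, 1, 0, 1, 0, 5]), (688, 849, [1, 0, 1, 2, 3, 2, 4, 3, 2, 1, 0, 1, 2, 5]), (688, 1084, [1, 0, 2, 1, 3, 2, 1, 0, 1,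 4, 3, 2, 3, 5]), (688, 954, [1, 0, 2, 1, 3, 2, 1, 3, 4, 3, 2, 3, 4, 5]), (688, 764, [1, 0, 2, 3, 2, 1, 4, 3, 2, 1, 0, 3, 4, 5]), (688, 853, [1, 0, 2, 3, 2, 1, 4, 3, 2, 1, 3, 2, 4, 5]), (688, 1237, [1, 0, 2, 3, 2, 1, 4, 3, 2, 3, 2, 4, 3, 5]), (688, 1282, [1, 2, 3, 2, 1, 4, 3, 2, 1, 0, 3, 2, 4, 5]), (688, 578, [1, 2, 3, 2, 1, 4, 3, 2, 1, 3, 2, 3, 4, 5]), (688, 697, [1, 2, 3, 2, 1, 4, 3, 2, 1, 3, 2, 4, 3, 5]), (688, 696, [1, 0, 1, 0, 2, 3, 2, 4, 3, 2, 1, 0, 1, 0, 5]), (688, 1214, [1, 0, 1, 2, 3, 2, 4, 3, 2, 1, 0, 1, 0, 2, 5]), (688, 1003, [1, 2, 3, 2, 1, 4, 3, 2, 1, 0, 3, 2, 4, 3, 5]), (472, 228, [1, 0, 2, 1, 3, 2, 1, 0, 5, 1]), (472, 304, [1, 2, 3, 2, 1, 4, 3, 2,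 5, 1]), (472, 347, [1, 0, 2, 1, 3, 2, 1, 0, 1, 5, 1]), (472, 352, [1, 0, 2, 1, 3, 2, 1, 0, 4, 5, 1]), (472, 407, [1, 0, 2, 3, 2, 1, 4, 3, 2, 5, 1]), (472, 450, [1, 2, 3, 2, 1, 4, 3, 2, 1, 5, 1]), (472, 456, [1, 2, 3, 2, 1, 4, 3, 2, 3, 5, 1]), (472, 513, [1, 0, 2, 1, 3, 2, 1, 0, 1, 4, 5, 1]), (472, 518, [1, 0, 2, 1, 3, 2, 1, 0, 4, 3, 5, 1]), (472, 593, [1, 0, 2, 3, 2, 1, 4, 3, 2, 1, 5, 1]), (472, 603, [1, 0, 2, 3, 2, 1, 4, 3, 2, 3, 5, 1]), (472, 661, [1, 2, 3, 2, 1, 4, 3, 2, 1, 3, 5, 1]), (472, 669, [1, 2, 3, 2, 1, 4, 3, 2, 3, 4, 5, 1]), (472, 750, [1, 0, 2, 1, 3, 2, 1, 0, 1, 4, 3, 5, 1]), (472, 870, [1, 0, 2, 3, 2, 1, 4, 3, 2, 1, 3, 5, 1]), (472, 884, [1, 0, 2,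 3, 2, 1, 4, 3, 2, 3, 4, 5, 1]), (472, 961, [1, 2, 3, 2, 1, 4, 3, 2, 1, 3, 4, 5, 1]), (472, 1231, [1, 0, 2, 3, 2, 1, 4, 3, 2, 1, 3, 4, 5, 1]), (472, 1265, [1, 0, 1, 2, 3, 2, 4, 3, 2, 1, 0, 1, 0, 5, 1]), (472, 1002, [1, 0, 1, 0, 2, 3, 2, 4, 3, 2, 1, 0, 1, 0, 5, 1])]

def bigTree0 : List (ℕ × ℕ × List ℕ) := bigTree0_0 ++ bigTree0_1 ++ bigTree0_2 ++ bigTree0_3 ++ bigTree0_4 ++ bigTree0_5 ++ bigTree0_6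

def bigTree1_0 : List (ℕ × ℕ × List ℕ) := [(995, 47, []), (995, 76, [0]), (995, 72, [3]), (995, 79, [4]), (995, 99, [0, 1]), (995, 112, [0, 3]), (995, 121, [0, 4]), (995, 115, [3, 4]), (995, 125, [4, 3]), (995, 146, [0, 1, 0]), (995, 149, [0, 1, 3]), (995, 152, [0, 1, 4]), (995, 172, [0, 3, 4]), (995, 184, [0, 4, 3]), (995, 176, [3, 4, 3]), (995, 192, [4, 3, 2]), (995, 228, [0, 1, 0, 1]), (995, 223, [0, 1, 0, 3]), (995, 226, [0, 1, 0, 4]), (995, 231, [0, 1, 3, 4]), (995, 237, [0, 1, 4, 3]), (995, 263, [0, 3, 4, 3]), (995, 286, [0, 4, 3, 2]), (995, 271, [3, 4, 3, 2]), (995, 304, [4, 3, 2, 1]), (995, 301, [4, 3, 2, 3]), (995, 347, [0, 1, 0, 1, 2]), (995, 352, [0,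 1, 0, 1, 4]), (995, 346, [0, 1, 0, 3, 4]), (995, 350, [0, 1, 0, 4, 3]), (995, 355, [0, 1, 3, 4, 3]), (995, 362, [0, 1, 4, 3, 2]), (995, 392, [0, 3, 4, 3, 2]), (995, 430, [0, 4, 3, 2, 1]), (995, 428, [0, 4, 3, 2, 3]), (995, 407, [3, 4, 3, 2, 1]), (995, 404, [3, 4, 3, 2, 3]), (995, 456, [4, 3, 2, 1, 3]), (995, 453, [4, 3, 2, 3, 4]), (995, 513, [0, 1, 0, 1, 2, 4]), (995, 518, [0, 1, 0, 1, 4, 3]), (995, 512, [0, 1, 0, 3, 4, 3]), (995, 516, [0, 1, 0, 4, 3, 2]), (995, 522, [0, 1, 3, 4, 3, 2]), (995, 535, [0, 1, 4, 3, 2, 1]), (995, 532, [0, 1, 4, 3, 2, 3]), (995, 578, [0, 3, 4, 3, 2, 1]), (995, 576, [0, 3, 4, 3, 2, 3]), (995, 638, [0, 4, 3, 2, 1, 0]), (995, 634, [0, 4,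 3, 2, 1, 3]), (995, 632, [0, 4, 3, 2, 3, 4]), (995, 603, [3, 4, 3, 2, 1, 3]), (995, 598, [3, 4, 3, 2, 3, 2]), (995, 600, [3, 4, 3, 2, 3, 4]), (995, 661, [4, 3, 2, 1, 3, 2]), (995, 669, [4, 3, 2, 1, 3, 4]), (995, 750, [0, 1, 0, 1, 2, 4, 3]), (995, 749, [0, 1, 0, 3, 4, 3, 2]), (995, 764, [0, 1, 3, 4, 3, 2, 1]), (995, 761, [0, 1, 3, 4, 3, 2, 3])]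

def bigTree1_1 : List (ℕ × ℕ × List ℕ) := [(995, 590, [0, 1, 4, 3, 2, 1, 0]), (995, 586, [0, 1, 4, 3, 2, 1, 3]), (995, 654, [0, 1, 4, 3, 2, 3, 4]), (995, 853, [0, 3, 4, 3, 2, 1, 0]), (995, 849, [0, 3, 4, 3, 2, 1, 3]), (995, 847, [0, 3, 4, 3, 2, 3, 4]), (995, 930, [0, 4, 3, 2, 1, 0, 3]), (995, 447, [0, 4, 3, 2, 1, 3, 2]), (995, 926, [0, 4, 3, 2, 1, 3, 4]), (995, 884, [3, 4, 3, 2, 1, 3, 4]), (995, 880, [3, 4, 3, 2, 3, 2, 4]), (995, 450, [4, 3, 2, 1, 3, 2, 3]), (995, 961, [4, 3, 2, 1, 3, 2, 4]), (995, 1084, [0, 1, 0, 3, 4, 3, 2, 3]), (995, 868, [0, 1, 3, 4, 3, 2, 1, 0]), (995, 953, [0, 1, 3, 4, 3, 2, 1, 3]), (995, 954, [0, 1, 3, 4, 3, 2, 3, 4]), (995, 870, [0, 1,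 4, 3, 2, 1, 0, 1]), (995, 400, [0, 1, 4, 3, 2, 1, 0, 3]), (995, 419, [0, 1, 4, 3, 2, 1, 3, 2]), (995, 443, [0, 1, 4, 3, 2, 1, 3, 4]), (995, 1214, [0, 3, 4, 3, 2, 1, 0, 3]), (995, 618, [0, 3, 4, 3, 2, 1, 3, 2]), (995, 697, [0, 3, 4, 3, 2, 1, 3, 4]), (995, 653, [0, 4, 3, 2, 1, 0, 3, 2]), (995, 1282, [0, 4, 3, 2, 1, 0, 3, 4]), (995, 298, [0, 4, 3, 2, 1, 3, 2, 3]), (995, 658, [0, 4, 3, 2, 1, 3, 2, 4]), (995, 1237, [3, 4, 3, 2, 3, 2, 4, 3]), (995, 593, [4, 3, 2, 1, 3, 2, 3, 4]), (995, 1231, [4, 3, 2, 1, 3, 2, 4, 3]), (995, 282, [0, 1, 4, 3, 2, 1, 0, 3, 2]), (995, 321, [0, 1, 4, 3, 2, 1, 3, 2, 3]), (995, 905, [0, 3, 4, 3, 2, 1, 0, 3, 2]), (995, 1003, [0, 3, 4, 3, 2,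 1, 0, 3, 4]), (995, 478, [0, 3, 4, 3, 2, 1, 3, 2, 3]), (995, 205, [0, 4, 3, 2, 1, 3, 2, 3, 2]), (995, 1265, [0, 3, 4, 3, 2, 1, 0, 3, 2, 1]), (995, 696, [0, 3, 4, 3, 2, 1, 0, 3, 2, 3]), (995, 1002, [0, 3, 4, 3, 2, 1, 0, 3, 2, 1, 3]), (47, 690, [0, 5, 1, 2, 3, 2, 1, 5]), (47, 689, [3, 5, 1, 2, 3, 2, 1, 5]), (47, 473, [0, 1, 5, 1, 2, 3, 2, 1, 5]), (47, 278, [0, 3, 5, 1, 2, 3, 2, 1, 5]), (47, 180, [0, 1, 0, 5, 1, 2, 3, 2, 1, 5]), (47, 316, [0, 1, 3, 5, 1, 2, 3, 2, 1, 5]), (47, 1592, [0, 3, 4, 5, 1, 2, 3, 2, 1, 5]), (47, 581, [0, 4, 3, 5, 1, 2, 3, 2, 1, 5]), (47, 117, [0, 1, 0, 1, 5, 1, 2, 3, 2, 1, 5]), (47, 200, [0, 1, 0, 3, 5, 1, 2, 3, 2, 1, 5]), (47, 1449, [0, 1,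 0, 4, 5, 1, 2, 3, 2, 1, 5]), (47, 1257, [0, 1, 3, 4, 5, 1, 2, 3, 2, 1, 5]), (47, 612, [0, 1, 4, 3, 5, 1, 2, 3, 2, 1, 5]), (47, 1339, [0, 3, 4, 3, 5, 1, 2, 3, 2, 1, 5]), (47, 857, [0, 4, 3, 2, 5, 1, 2, 3, 2, 1, 5]), (47, 782, [4, 3, 2, 3, 5, 1, 2, 3, 2, 1, 5]), (47, 155, [0, 1, 0, 1, 2, 5, 1, 2, 3, 2, 1, 5]), (47, 1103, [0, 1, 0, 1, 4, 5, 1, 2, 3, 2, 1, 5]), (47, 896, [0, 1, 0, 3, 4, 5, 1, 2, 3, 2, 1, 5]), (47, 1445, [0, 1, 0, 4, 3, 5, 1, 2, 3, 2, 1, 5])]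

def bigTree1_2 : List (ℕ × ℕ × List ℕ) := [(47, 990, [0, 1, 3, 4, 3, 5, 1, 2, 3, 2, 1, 5]), (47, 900, [0, 1, 4, 3, 2, 5, 1, 2, 3, 2, 1, 5]), (47, 1114, [0, 3, 4, 3, 2, 5, 1, 2, 3, 2, 1, 5]), (47, 1226, [0, 4, 3, 2, 1, 5, 1, 2, 3, 2, 1, 5]), (47, 994, [0, 4, 3, 2, 3, 5, 1, 2, 3, 2, 1, 5]), (47, 1315, [3, 4, 3, 2, 3, 5, 1, 2, 3, 2, 1, 5]), (47, 536, [4, 3, 2, 1, 3, 5, 1, 2, 3, 2, 1, 5]), (47, 481, [4, 3, 2, 3, 4, 5, 1, 2, 3, 2, 1, 5]), (47, 854, [0, 1, 0, 1, 2, 4, 5, 1, 2, 3, 2, 1, 5]), (47, 1097, [0, 1, 0, 1, 4, 3, 5, 1, 2, 3, 2, 1, 5]), (47, 1699, [0, 1, 0, 4, 3, 2, 5, 1, 2, 3, 2, 1, 5]), (47, 681, [0, 1, 3, 4, 3, 2, 5, 1, 2, 3, 2, 1, 5]), (47, 904, [0, 1, 4,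 3, 2, 1, 5, 1, 2, 3, 2, 1, 5]), (47, 1338, [0, 3, 4, 3, 2, 1, 5, 1, 2, 3, 2, 1, 5]), (47, 685, [0, 4, 3, 2, 1, 3, 5, 1, 2, 3, 2, 1, 5]), (47, 702, [0, 4, 3, 2, 3, 4, 5, 1, 2, 3, 2, 1, 5]), (47, 1303, [3, 4, 3, 2, 1, 3, 5, 1, 2, 3, 2, 1, 5]), (47, 1623, [3, 4, 3, 2, 3, 2, 5, 1, 2, 3, 2, 1, 5]), (47, 365, [4, 3, 2, 1, 3, 2, 5, 1, 2, 3, 2, 1, 5]), (47, 323, [4, 3, 2, 1, 3, 4, 5, 1, 2, 3, 2, 1, 5]), (47, 989, [0, 1, 3, 4, 3, 2, 1, 5, 1, 2, 3, 2, 1, 5]), (47, 1583, [0, 1, 4, 3, 2, 3, 4, 5, 1, 2, 3, 2, 1, 5]), (47, 1757, [0, 3, 4, 3, 2, 1, 0, 5, 1, 2, 3, 2, 1, 5]), (47, 1746, [0, 3, 4, 3, 2, 3, 4, 5, 1, 2, 3, 2, 1, 5]), (47, 464, [0, 4, 3, 2, 1, 3, 2, 5, 1, 2, 3, 2,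 1, 5]), (47, 971, [0, 4, 3, 2, 1, 3, 4, 5, 1, 2, 3, 2, 1, 5]), (47, 128, [4, 3, 2, 1, 3, 2, 3, 5, 1, 2, 3, 2, 1, 5]), (47, 449, [4, 3, 2, 1, 3, 2, 4, 5, 1, 2, 3, 2, 1, 5]), (47, 1616, [0, 1, 3, 4, 3, 2, 1, 0, 5, 1, 2, 3, 2, 1, 5]), (47, 196, [0, 1, 4, 3, 2, 1, 0, 3, 5, 1, 2, 3, 2, 1, 5]), (47, 1701, [0, 1, 4, 3, 2, 1, 3, 4, 5, 1, 2, 3, 2, 1, 5]), (47, 1700, [0, 3, 4, 3, 2, 1, 0, 3, 5, 1, 2, 3, 2, 1, 5]), (47, 1588, [0, 3, 4, 3, 2, 1, 3, 4, 5, 1, 2, 3, 2, 1, 5]), (47, 197, [0, 4, 3, 2, 1, 3, 2, 3, 5, 1, 2, 3, 2, 1, 5]), (47, 666, [0, 4, 3, 2, 1, 3, 2, 4, 5, 1, 2, 3, 2, 1, 5]), (47, 127, [4, 3, 2, 1, 3, 2, 3, 4, 5, 1, 2, 3, 2, 1, 5]), (47, 1441, [4, 3, 2, 1, 3, 2,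 4, 3, 5, 1, 2, 3, 2, 1, 5]), (47, 310, [0, 1, 4, 3, 2, 1, 0, 3, 2, 5, 1, 2, 3, 2, 1, 5]), (47, 1465, [0, 1, 4, 3, 2, 1, 3, 2, 3, 5, 1, 2, 3, 2, 1, 5]), (47, 1446, [0, 3, 4, 3, 2, 1, 0, 3, 2, 5, 1, 2, 3, 2, 1, 5]), (47, 1247, [0, 3, 4, 3, 2, 1, 3, 2, 3, 5, 1, 2, 3, 2, 1, 5]), (47, 312, [0, 4, 3, 2, 1, 3, 2, 3, 2, 5, 1, 2, 3, 2, 1, 5]), (47, 1098, [0, 3, 4, 3, 2, 1, 0, 3, 2, 1, 5, 1, 2, 3, 2, 1, 5]), (76, 901, [3, 5, 1, 2, 3, 2, 1, 0, 5]), (76, 615, [0, 1, 5, 1, 2, 3, 2, 1, 0, 5]), (76, 201, [0, 3, 5, 1, 2, 3, 2, 1, 0, 5]), (76, 130, [0, 1, 0, 5, 1, 2, 3, 2, 1, 0, 5]), (76, 294, [0, 1, 3, 5, 1, 2, 3, 2, 1, 0, 5]), (76, 1320, [0, 3, 4, 5, 1, 2, 3, 2, 1, 0, 5]), (76,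 610, [0, 4, 3, 5, 1, 2, 3, 2, 1, 0, 5]), (76, 116, [0, 1, 0, 1, 5, 1, 2, 3, 2, 1, 0, 5]), (76, 188, [0, 1, 0, 3, 5, 1, 2, 3, 2, 1, 0, 5]), (76, 1101, [0, 1, 0, 4, 5, 1, 2, 3, 2, 1, 0, 5]), (76, 1256, [0, 1, 3, 4, 5, 1, 2, 3, 2, 1, 0, 5]), (76, 466, [0, 1, 4, 3, 5, 1, 2, 3, 2, 1, 0, 5]), (76, 1234, [0, 3, 4, 3, 5, 1, 2, 3, 2, 1, 0, 5]), (76, 899, [0, 4, 3, 2, 5, 1, 2, 3, 2, 1, 0, 5]), (76, 1121, [4, 3, 2, 3, 5, 1, 2, 3, 2, 1, 0, 5]), (76, 154, [0, 1, 0, 1, 2, 5, 1, 2, 3, 2, 1, 0, 5]), (76, 1232, [0, 1, 0, 1, 4, 5, 1, 2, 3, 2, 1, 0, 5])]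

def bigTree1_3 : List (ℕ × ℕ × List ℕ) := [(76, 1255, [0, 1, 0, 3, 4, 5, 1, 2, 3, 2, 1, 0, 5]), (76, 1615, [0, 1, 0, 4, 3, 5, 1, 2, 3, 2, 1, 0, 5]), (76, 682, [0, 1, 3, 4, 3, 5, 1, 2, 3, 2, 1, 0, 5]), (76, 686, [0, 1, 4, 3, 2, 5, 1, 2, 3, 2, 1, 0, 5]), (76, 874, [0, 3, 4, 3, 2, 5, 1, 2, 3, 2, 1, 0, 5]), (76, 1267, [0, 4, 3, 2, 1, 5, 1, 2, 3, 2, 1, 0, 5]), (76, 1344, [0, 4, 3, 2, 3, 5, 1, 2, 3, 2, 1, 0, 5]), (76, 1605, [3, 4, 3, 2, 3, 5, 1, 2, 3, 2, 1, 0, 5]), (76, 534, [4, 3, 2, 1, 3, 5, 1, 2, 3, 2, 1, 0, 5]), (76, 701, [4, 3, 2, 3, 4, 5, 1, 2, 3, 2, 1, 0, 5]), (76, 1222, [0, 1, 0, 1, 2, 4, 5, 1, 2, 3, 2, 1, 0, 5]), (76, 1756, [0, 1, 0, 4, 3, 2, 5, 1, 2, 3, 2,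 1, 0, 5]), (76, 461, [0, 1, 3, 4, 3, 2, 5, 1, 2, 3, 2, 1, 0, 5]), (76, 909, [0, 1, 4, 3, 2, 1, 5, 1, 2, 3, 2, 1, 0, 5]), (76, 1253, [0, 3, 4, 3, 2, 1, 5, 1, 2, 3, 2, 1, 0, 5]), (76, 642, [0, 4, 3, 2, 1, 3, 5, 1, 2, 3, 2, 1, 0, 5]), (76, 1012, [0, 4, 3, 2, 3, 4, 5, 1, 2, 3, 2, 1, 0, 5]), (76, 1753, [3, 4, 3, 2, 3, 2, 5, 1, 2, 3, 2, 1, 0, 5]), (76, 364, [4, 3, 2, 1, 3, 2, 5, 1, 2, 3, 2, 1, 0, 5]), (76, 324, [4, 3, 2, 1, 3, 4, 5, 1, 2, 3, 2, 1, 0, 5]), (76, 1318, [0, 1, 3, 4, 3, 2, 1, 5, 1, 2, 3, 2, 1, 0, 5]), (76, 1241, [0, 1, 4, 3, 2, 3, 4, 5, 1, 2, 3, 2, 1, 0, 5]), (76, 1617, [0, 3, 4, 3, 2, 1, 0, 5, 1, 2, 3, 2, 1, 0, 5]), (76, 1584, [0, 3, 4, 3, 2, 3, 4, 5, 1,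 2, 3, 2, 1, 0, 5]), (76, 433, [0, 4, 3, 2, 1, 3, 2, 5, 1, 2, 3, 2, 1, 0, 5]), (76, 1319, [0, 4, 3, 2, 1, 3, 4, 5, 1, 2, 3, 2, 1, 0, 5]), (76, 451, [4, 3, 2, 1, 3, 2, 4, 5, 1, 2, 3, 2, 1, 0, 5]), (76, 1307, [0, 1, 3, 4, 3, 2, 1, 0, 5, 1, 2, 3, 2, 1, 0, 5]), (76, 309, [0, 1, 4, 3, 2, 1, 0, 3, 5, 1, 2, 3, 2, 1, 0, 5]), (76, 1450, [0, 1, 4, 3, 2, 1, 3, 4, 5, 1, 2, 3, 2, 1, 0, 5]), (76, 1776, [0, 3, 4, 3, 2, 1, 0, 3, 5, 1, 2, 3, 2, 1, 0, 5]), (76, 1248, [0, 3, 4, 3, 2, 1, 3, 4, 5, 1, 2, 3, 2, 1, 0, 5]), (76, 275, [0, 4, 3, 2, 1, 3, 2, 3, 5, 1, 2, 3, 2, 1, 0, 5]), (76, 970, [0, 4, 3, 2, 1, 3, 2, 4, 5, 1, 2, 3, 2, 1, 0, 5]), (76, 467, [0, 1, 4, 3, 2, 1, 0, 3, 2, 5, 1,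 2, 3, 2, 1, 0, 5]), (76, 1120, [0, 1, 4, 3, 2, 1, 3, 2, 3, 5, 1, 2, 3, 2, 1, 0, 5]), (76, 1698, [0, 3, 4, 3, 2, 1, 0, 3, 2, 5, 1, 2, 3, 2, 1, 0, 5]), (76, 889, [0, 3, 4, 3, 2, 1, 3, 2, 3, 5, 1, 2, 3, 2, 1, 0, 5]), (76, 413, [0, 4, 3, 2, 1, 3, 2, 3, 2, 5, 1, 2, 3, 2, 1, 0, 5]), (72, 415, [0, 5, 1, 0, 2, 3, 2, 1, 5]), (72, 471, [0, 1, 5, 1, 0, 2, 3, 2, 1, 5]), (72, 474, [0, 3, 5, 1, 0, 2, 3, 2, 1, 5]), (72, 396, [0, 4, 5, 1, 0, 2, 3, 2, 1, 5]), (72, 277, [0, 1, 0, 5, 1, 0, 2, 3, 2, 1, 5]), (72, 318, [0, 1, 3, 5, 1, 0, 2, 3, 2, 1, 5]), (72, 414, [0, 1, 4, 5, 1, 0, 2, 3, 2, 1, 5]), (72, 1266, [0, 3, 4, 5, 1, 0, 2, 3, 2, 1, 5]), (72, 1116, [4, 3, 2, 5, 1, 0, 2, 3, 2,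 1, 5]), (72, 234, [0, 1, 0, 1, 5, 1, 0, 2, 3, 2, 1, 5]), (72, 1102, [0, 1, 0, 4, 5, 1, 0, 2, 3, 2, 1, 5]), (72, 1340, [0, 1, 3, 4, 5, 1, 0, 2, 3, 2, 1, 5]), (72, 940, [0, 4, 3, 2, 5, 1, 0, 2, 3, 2, 1, 5]), (72, 972, [3, 4, 3, 2, 5, 1, 0, 2, 3, 2, 1, 5]), (72, 776, [4, 3, 2, 1, 5, 1, 0, 2, 3, 2, 1, 5]), (72, 82, [0, 1, 0, 1, 2, 5, 1, 0, 2, 3, 2, 1, 5]), (72, 763, [0, 1, 0, 1, 4, 5, 1, 0, 2, 3, 2, 1, 5]), (72, 1311, [0, 1, 0, 4, 3, 5, 1, 0, 2, 3, 2, 1, 5]), (72, 1254, [0, 1, 3, 4, 3, 5, 1, 0, 2, 3, 2, 1, 5]), (72, 1225, [0, 4, 3, 2, 3, 5, 1, 0, 2, 3, 2, 1, 5]), (72, 955, [3, 4, 3, 2, 1, 5, 1, 0, 2, 3, 2, 1, 5])]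

def bigTree1_4 : List (ℕ × ℕ × List ℕ) := [(72, 960, [0, 1, 0, 1, 4, 3, 5, 1, 0, 2, 3, 2, 1, 5]), (72, 1249, [0, 1, 0, 3, 4, 3, 5, 1, 0, 2, 3, 2, 1, 5]), (72, 779, [0, 3, 4, 3, 2, 3, 5, 1, 0, 2, 3, 2, 1, 5]), (72, 1573, [0, 4, 3, 2, 1, 3, 5, 1, 0, 2, 3, 2, 1, 5]), (72, 1762, [0, 4, 3, 2, 3, 4, 5, 1, 0, 2, 3, 2, 1, 5]), (72, 619, [3, 4, 3, 2, 3, 4, 5, 1, 0, 2, 3, 2, 1, 5]), (72, 195, [4, 3, 2, 1, 3, 2, 5, 1, 0, 2, 3, 2, 1, 5]), (72, 1215, [0, 1, 0, 1, 2, 4, 3, 5, 1, 0, 2, 3, 2, 1, 5]), (72, 981, [0, 1, 3, 4, 3, 2, 3, 5, 1, 0, 2, 3, 2, 1, 5]), (72, 307, [0, 1, 4, 3, 2, 1, 0, 5, 1, 0, 2, 3, 2, 1, 5]), (72, 695, [0, 1, 4, 3, 2, 1, 3, 5, 1, 0, 2, 3, 2, 1, 5]), (72,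 1013, [0, 3, 4, 3, 2, 3, 4, 5, 1, 0, 2, 3, 2, 1, 5]), (72, 308, [0, 4, 3, 2, 1, 3, 2, 5, 1, 0, 2, 3, 2, 1, 5]), (72, 1702, [0, 4, 3, 2, 1, 3, 4, 5, 1, 0, 2, 3, 2, 1, 5]), (72, 420, [3, 4, 3, 2, 1, 3, 4, 5, 1, 0, 2, 3, 2, 1, 5]), (72, 240, [4, 3, 2, 1, 3, 2, 3, 5, 1, 0, 2, 3, 2, 1, 5]), (72, 1111, [4, 3, 2, 1, 3, 2, 4, 5, 1, 0, 2, 3, 2, 1, 5]), (72, 966, [0, 1, 3, 4, 3, 2, 1, 0, 5, 1, 0, 2, 3, 2, 1, 5]), (72, 1330, [0, 1, 3, 4, 3, 2, 1, 3, 5, 1, 0, 2, 3, 2, 1, 5]), (72, 1327, [0, 1, 3, 4, 3, 2, 3, 4, 5, 1, 0, 2, 3, 2, 1, 5]), (72, 194, [0, 1, 4, 3, 2, 1, 0, 1, 5, 1, 0, 2, 3, 2, 1, 5]), (72, 894, [0, 3, 4, 3, 2, 1, 3, 2, 5, 1, 0, 2, 3, 2, 1, 5]), (72, 1625, [0, 4,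 3, 2, 1, 0, 3, 2, 5, 1, 0, 2, 3, 2, 1, 5]), (72, 311, [0, 4, 3, 2, 1, 3, 2, 3, 5, 1, 0, 2, 3, 2, 1, 5]), (72, 1459, [0, 4, 3, 2, 1, 3, 2, 4, 5, 1, 0, 2, 3, 2, 1, 5]), (72, 660, [4, 3, 2, 1, 3, 2, 4, 3, 5, 1, 0, 2, 3, 2, 1, 5]), (72, 1104, [0, 3, 4, 3, 2, 1, 0, 3, 2, 3, 5, 1, 0, 2, 3, 2, 1, 5]), (72, 765, [0, 3, 4, 3, 2, 1, 0, 3, 2, 1, 3, 5, 1, 0, 2, 3, 2, 1, 5]), (79, 468, [0, 1, 3, 5, 1, 2, 3, 2, 1, 4, 5]), (79, 1343, [0, 3, 4, 5, 1, 2, 3, 2, 1, 4, 5]), (79, 178, [0, 1, 0, 1, 5, 1, 2, 3, 2, 1, 4, 5]), (79, 1119, [0, 1, 0, 4, 5, 1, 2, 3, 2, 1, 4, 5]), (79, 993, [0, 1, 3, 4, 5, 1, 2, 3, 2, 1, 4, 5]), (79, 781, [0, 1, 0, 1, 4, 5, 1, 2, 3, 2, 1, 4, 5]), (79, 683,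 [0, 1, 0, 3, 4, 5, 1, 2, 3, 2, 1, 4, 5]), (79, 1261, [0, 4, 3, 2, 3, 5, 1, 2, 3, 2, 1, 4, 5]), (79, 639, [0, 1, 0, 1, 2, 4, 5, 1, 2, 3, 2, 1, 4, 5]), (79, 908, [0, 4, 3, 2, 3, 4, 5, 1, 2, 3, 2, 1, 4, 5]), (79, 525, [4, 3, 2, 1, 3, 2, 5, 1, 2, 3, 2, 1, 4, 5]), (79, 592, [4, 3, 2, 1, 3, 2, 4, 5, 1, 2, 3, 2, 1, 4, 5]), (79, 129, [0, 1, 4, 3, 2, 1, 0, 3, 5, 1, 2, 3, 2, 1, 4, 5]), (79, 81, [4, 3, 2, 1, 3, 2, 3, 4, 5, 1, 2, 3, 2, 1, 4, 5]), (79, 199, [0, 1, 4, 3, 2, 1, 0, 3, 2, 5, 1, 2, 3, 2, 1, 4, 5]), (99, 614, [0, 5, 1, 0, 2, 1, 3, 2, 1, 5]), (99, 470, [0, 1, 5, 1, 0, 2, 1, 3, 2, 1, 5]), (99, 439, [0, 3, 5, 1, 0, 2, 1, 3, 2, 1, 5]), (99, 411, [0, 4, 5, 1, 0, 2, 1,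 3, 2, 1, 5]), (99, 179, [0, 1, 0, 5, 1, 0, 2, 1, 3, 2, 1, 5]), (99, 202, [0, 1, 3, 5, 1, 0, 2, 1, 3, 2, 1, 5]), (99, 613, [0, 1, 4, 5, 1, 0, 2, 1, 3, 2, 1, 5]), (99, 907, [0, 3, 4, 5, 1, 0, 2, 1, 3, 2, 1, 5]), (99, 1462, [4, 3, 2, 5, 1, 0, 2, 1, 3, 2, 1, 5]), (99, 233, [0, 1, 0, 1, 5, 1, 0, 2, 1, 3, 2, 1, 5]), (99, 780, [0, 1, 0, 4, 5, 1, 0, 2, 1, 3, 2, 1, 5]), (99, 1342, [0, 1, 3, 4, 5, 1, 0, 2, 1, 3, 2, 1, 5]), (99, 1321, [3, 4, 3, 2, 5, 1, 0, 2, 1, 3, 2, 1, 5]), (99, 602, [4, 3, 2, 1, 5, 1, 0, 2, 1, 3, 2, 1, 5]), (99, 524, [0, 1, 0, 1, 4, 5, 1, 0, 2, 1, 3, 2, 1, 5]), (99, 1619, [0, 1, 0, 4, 3, 5, 1, 0, 2, 1, 3, 2, 1, 5]), (99, 898, [0, 4, 3, 2, 3, 5, 1, 0, 2,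 1, 3, 2, 1, 5])]

def bigTree1_5 : List (ℕ × ℕ × List ℕ) := [(99, 883, [3, 4, 3, 2, 1, 5, 1, 0, 2, 1, 3, 2, 1, 5]), (99, 1305, [0, 1, 0, 1, 4, 3, 5, 1, 0, 2, 1, 3, 2, 1, 5]), (99, 1589, [0, 1, 0, 3, 4, 3, 5, 1, 0, 2, 1, 3, 2, 1, 5]), (99, 1460, [0, 4, 3, 2, 1, 3, 5, 1, 0, 2, 1, 3, 2, 1, 5]), (99, 1630, [0, 4, 3, 2, 3, 4, 5, 1, 0, 2, 1, 3, 2, 1, 5]), (99, 305, [4, 3, 2, 1, 3, 2, 5, 1, 0, 2, 1, 3, 2, 1, 5]), (99, 906, [0, 1, 0, 1, 2, 4, 3, 5, 1, 0, 2, 1, 3, 2, 1, 5]), (99, 1331, [0, 1, 3, 4, 3, 2, 3, 5, 1, 0, 2, 1, 3, 2, 1, 5]), (99, 463, [0, 1, 4, 3, 2, 1, 0, 5, 1, 0, 2, 1, 3, 2, 1, 5]), (99, 465, [0, 4, 3, 2, 1, 3, 2, 5, 1, 0, 2, 1, 3, 2, 1, 5]), (99, 1466, [0,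 4, 3, 2, 1, 3, 4, 5, 1, 0, 2, 1, 3, 2, 1, 5]), (99, 885, [4, 3, 2, 1, 3, 2, 4, 5, 1, 0, 2, 1, 3, 2, 1, 5]), (99, 1314, [0, 1, 3, 4, 3, 2, 1, 0, 5, 1, 0, 2, 1, 3, 2, 1, 5]), (99, 1627, [0, 1, 3, 4, 3, 2, 1, 3, 5, 1, 0, 2, 1, 3, 2, 1, 5]), (99, 1626, [0, 1, 3, 4, 3, 2, 3, 4, 5, 1, 0, 2, 1, 3, 2, 1, 5]), (99, 303, [0, 1, 4, 3, 2, 1, 0, 1, 5, 1, 0, 2, 1, 3, 2, 1, 5]), (99, 1760, [0, 4, 3, 2, 1, 0, 3, 2, 5, 1, 0, 2, 1, 3, 2, 1, 5]), (99, 1461, [0, 4, 3, 2, 1, 3, 2, 4, 5, 1, 0, 2, 1, 3, 2, 1, 5]), (99, 958, [4, 3, 2, 1, 3, 2, 4, 3, 5, 1, 0, 2, 1, 3, 2, 1, 5]), (112, 317, [0, 5, 1, 0, 2, 3, 2, 1, 0, 5]), (112, 438, [0, 1, 5, 1, 0, 2, 3, 2, 1, 0, 5]), (112, 412, [0, 4,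 5, 1, 0, 2, 3, 2, 1, 0, 5]), (112, 267, [0, 1, 0, 5, 1, 0, 2, 3, 2, 1, 0, 5]), (112, 416, [0, 1, 3, 5, 1, 0, 2, 3, 2, 1, 0, 5]), (112, 313, [0, 1, 4, 5, 1, 0, 2, 3, 2, 1, 0, 5]), (112, 1452, [0, 1, 0, 4, 5, 1, 0, 2, 3, 2, 1, 0, 5]), (112, 992, [0, 1, 3, 4, 5, 1, 0, 2, 3, 2, 1, 0, 5]), (112, 1014, [0, 4, 3, 2, 5, 1, 0, 2, 3, 2, 1, 0, 5]), (112, 1287, [3, 4, 3, 2, 5, 1, 0, 2, 3, 2, 1, 0, 5]), (112, 775, [4, 3, 2, 1, 5, 1, 0, 2, 3, 2, 1, 0, 5]), (112, 1444, [0, 1, 0, 4, 3, 5, 1, 0, 2, 3, 2, 1, 0, 5]), (112, 895, [0, 1, 3, 4, 3, 5, 1, 0, 2, 3, 2, 1, 0, 5]), (112, 1260, [0, 4, 3, 2, 3, 5, 1, 0, 2, 3, 2, 1, 0, 5]), (112, 962, [0, 1, 0, 1, 4, 3, 5, 1, 0, 2, 3, 2, 1, 0,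 5]), (112, 1747, [0, 4, 3, 2, 3, 4, 5, 1, 0, 2, 3, 2, 1, 0, 5]), (112, 1422, [0, 1, 0, 1, 2, 4, 3, 5, 1, 0, 2, 3, 2, 1, 0, 5]), (112, 674, [0, 1, 3, 4, 3, 2, 3, 5, 1, 0, 2, 3, 2, 1, 0, 5]), (112, 462, [0, 1, 4, 3, 2, 1, 0, 5, 1, 0, 2, 3, 2, 1, 0, 5]), (112, 703, [0, 1, 4, 3, 2, 1, 3, 5, 1, 0, 2, 3, 2, 1, 0, 5]), (112, 410, [0, 4, 3, 2, 1, 3, 2, 5, 1, 0, 2, 3, 2, 1, 0, 5]), (112, 421, [3, 4, 3, 2, 1, 3, 4, 5, 1, 0, 2, 3, 2, 1, 0, 5]), (112, 239, [4, 3, 2, 1, 3, 2, 3, 5, 1, 0, 2, 3, 2, 1, 0, 5]), (112, 1313, [0, 1, 3, 4, 3, 2, 1, 0, 5, 1, 0, 2, 3, 2, 1, 0, 5]), (112, 1621, [0, 1, 3, 4, 3, 2, 1, 3, 5, 1, 0, 2, 3, 2, 1, 0, 5]), (112, 976, [0, 1, 3, 4, 3, 2, 3, 4, 5,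 1, 0, 2, 3, 2, 1, 0, 5]), (112, 607, [0, 3, 4, 3, 2, 1, 3, 2, 5, 1, 0, 2, 3, 2, 1, 0, 5]), (112, 1697, [0, 4, 3, 2, 1, 0, 3, 2, 5, 1, 0, 2, 3, 2, 1, 0, 5]), (112, 290, [0, 4, 3, 2, 1, 3, 2, 3, 5, 1, 0, 2, 3, 2, 1, 0, 5]), (112, 1290, [0, 4, 3, 2, 1, 3, 2, 4, 5, 1, 0, 2, 3, 2, 1, 0, 5]), (112, 662, [4, 3, 2, 1, 3, 2, 4, 3, 5, 1, 0, 2, 3, 2, 1, 0, 5]), (112, 1451, [0, 3, 4, 3, 2, 1, 0, 3, 2, 3, 5, 1, 0, 2, 3, 2, 1, 0, 5]), (121, 436, [0, 1, 3, 5, 1, 2, 3, 2, 1, 0, 4, 5]), (121, 177, [0, 1, 0, 1, 5, 1, 2, 3, 2, 1, 0, 4, 5]), (121, 1341, [0, 1, 3, 4, 5, 1, 2, 3, 2, 1, 0, 4, 5]), (121, 871, [0, 1, 0, 1, 4, 5, 1, 2, 3, 2, 1, 0, 4, 5]), (121, 991, [0, 1, 0, 3, 4, 5, 1,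 2, 3, 2, 1, 0, 4, 5]), (121, 1595, [0, 4, 3, 2, 3, 5, 1, 2, 3, 2, 1, 0, 4, 5]), (121, 938, [0, 1, 0, 1, 2, 4, 5, 1, 2, 3, 2, 1, 0, 4, 5]), (121, 594, [4, 3, 2, 1, 3, 2, 4, 5, 1, 2, 3, 2, 1, 0, 4, 5]), (121, 198, [0, 1, 4, 3, 2, 1, 0, 3, 5, 1, 2, 3, 2, 1, 0, 4, 5])]

def bigTree1_6 : List (ℕ × ℕ × List ℕ) := [(121, 314, [0, 1, 4, 3, 2, 1, 0, 3, 2, 5, 1, 2, 3, 2, 1, 0, 4, 5]), (115, 687, [0, 3, 5, 1, 0, 2, 3, 2, 1, 4, 5]), (115, 469, [0, 1, 3, 5, 1, 0, 2, 3, 2, 1, 4, 5]), (115, 279, [0, 1, 4, 5, 1, 0, 2, 3, 2, 1, 4, 5]), (115, 358, [0, 1, 0, 1, 5, 1, 0, 2, 3, 2, 1, 4, 5]), (115, 1352, [0, 1, 0, 3, 4, 3, 5, 1, 0, 2, 3, 2, 1, 4, 5]), (115, 1594, [0, 4, 3, 2, 1, 3,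 5, 1, 0, 2, 3, 2, 1, 4, 5]), (115, 1761, [0, 4, 3, 2, 3, 4, 5, 1, 0, 2, 3, 2, 1, 4, 5]), (115, 273, [4, 3, 2, 1, 3, 2, 5, 1, 0, 2, 3, 2, 1, 4, 5]), (115, 1005, [0, 1, 0, 1, 2, 4, 3, 5, 1, 0, 2, 3, 2, 1, 4, 5]), (115, 409, [0, 1, 4, 3, 2, 1, 0, 5, 1, 0, 2, 3, 2, 1, 4, 5]), (115, 1655, [0, 4, 3, 2, 1, 3, 4, 5, 1, 0, 2, 3, 2, 1, 4, 5]), (115, 272, [0, 1, 4, 3, 2, 1, 0, 1, 5, 1, 0, 2, 3, 2, 1, 4, 5]), (115, 1115, [0, 4, 3, 2, 1, 3, 2, 4, 5, 1, 0, 2, 3, 2, 1, 4, 5]), (125, 982, [0, 1, 0, 3, 4, 5, 1, 2, 3, 2, 1, 4, 3, 5]), (125, 931, [0, 1, 0, 1, 2, 4, 5, 1, 2, 3, 2, 1, 4, 3, 5]), (125, 315, [0, 1, 4, 3, 2, 1, 0, 3, 2, 5, 1, 2, 3, 2, 1, 4, 3, 5]), (146, 472, [0, 5, 1,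 0, 2, 1, 3, 2, 1, 0, 5]), (146, 274, [0, 4, 5, 1, 0, 2, 1, 3, 2, 1, 0, 5]), (146, 276, [0, 1, 0, 5, 1, 0, 2, 1, 3, 2, 1, 0, 5]), (146, 1122, [0, 1, 0, 4, 5, 1, 0, 2, 1, 3, 2, 1, 0, 5]), (146, 1258, [0, 1, 3, 4, 5, 1, 0, 2, 1, 3, 2, 1, 0, 5]), (146, 604, [4, 3, 2, 1, 5, 1, 0, 2, 1, 3, 2, 1, 0, 5]), (146, 1696, [0, 1, 0, 4, 3, 5, 1, 0, 2, 1, 3, 2, 1, 0, 5]), (146, 1259, [0, 4, 3, 2, 3, 5, 1, 0, 2, 1, 3, 2, 1, 0, 5]), (146, 1283, [0, 1, 0, 1, 4, 3, 5, 1, 0, 2, 1, 3, 2, 1, 0, 5]), (146, 1073, [0, 1, 0, 1, 2, 4, 3, 5, 1, 0, 2, 1, 3, 2, 1, 0, 5]), (146, 684, [0, 1, 4, 3, 2, 1, 0, 5, 1, 0, 2, 1, 3, 2, 1, 0, 5]), (146, 611, [0, 4, 3, 2, 1, 3, 2, 5, 1, 0, 2, 1, 3, 2, 1,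 0, 5]), (146, 1622, [0, 1, 3, 4, 3, 2, 1, 0, 5, 1, 0, 2, 1, 3, 2, 1, 0, 5]), (146, 1758, [0, 1, 3, 4, 3, 2, 1, 3, 5, 1, 0, 2, 1, 3, 2, 1, 0, 5]), (146, 1328, [0, 1, 3, 4, 3, 2, 3, 4, 5, 1, 0, 2, 1, 3, 2, 1, 0, 5]), (146, 1777, [0, 4, 3, 2, 1, 0, 3, 2, 5, 1, 0, 2, 1, 3, 2, 1, 0, 5]), (149, 644, [0, 3, 5, 1, 0, 2, 1, 3, 2, 1, 3, 5]), (149, 608, [0, 4, 5, 1, 0, 2, 1, 3, 2, 1, 3, 5]), (149, 406, [4, 3, 2, 1, 5, 1, 0, 2, 1, 3, 2, 1, 3, 5]), (149, 357, [0, 1, 0, 1, 4, 5, 1, 0, 2, 1, 3, 2, 1, 3, 5]), (149, 609, [0, 4, 3, 2, 3, 5, 1, 0, 2, 1, 3, 2, 1, 3, 5]), (149, 668, [3, 4, 3, 2, 1, 5, 1, 0, 2, 1, 3, 2, 1, 3, 5]), (149, 1351, [0, 1, 0, 1, 4, 3, 5, 1, 0, 2, 1, 3, 2,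 1, 3, 5]), (149, 1363, [0, 4, 3, 2, 3, 4, 5, 1, 0, 2, 1, 3, 2, 1, 3, 5]), (149, 457, [4, 3, 2, 1, 3, 2, 5, 1, 0, 2, 1, 3, 2, 1, 3, 5]), (149, 698, [0, 1, 0, 1, 2, 4, 3, 5, 1, 0, 2, 1, 3, 2, 1, 3, 5]), (149, 670, [4, 3, 2, 1, 3, 2, 4, 5, 1, 0, 2, 1, 3, 2, 1, 3, 5]), (149, 1639, [0, 1, 3, 4, 3, 2, 3, 4, 5, 1, 0, 2, 1, 3, 2, 1, 3, 5]), (149, 455, [0, 1, 4, 3, 2, 1, 0, 1, 5, 1, 0, 2, 1, 3, 2, 1, 3, 5]), (152, 643, [0, 3, 5, 1, 0, 2, 1, 3, 2, 1, 4, 5]), (152, 408, [4, 3, 2, 1, 3, 2, 5, 1, 0, 2, 1, 3, 2, 1, 4, 5]), (228, 688, [0, 5, 1, 0, 2, 1, 3, 2, 1, 0, 5, 1]), (228, 897, [0, 1, 3, 4, 5, 1, 0, 2, 1, 3, 2, 1, 0, 5, 1]), (228, 1775, [0, 1, 0, 4, 3, 5, 1, 0, 2, 1, 3,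 2, 1, 0, 5, 1]), (228, 1004, [0, 1, 0, 1, 2, 4, 3, 5, 1, 0, 2, 1, 3, 2, 1, 0, 5, 1]), (228, 1759, [0, 1, 3, 4, 3, 2, 1, 0, 5, 1, 0, 2, 1, 3, 2, 1, 0, 5, 1]), (228, 1780, [0, 1, 3, 4, 3, 2, 1, 3, 5, 1, 0, 2, 1, 3, 2, 1, 0, 5, 1]), (228, 1781, [0, 4, 3, 2, 1, 0, 3, 2, 5, 1, 0, 2, 1, 3, 2, 1, 0, 5, 1])]

def bigTree1 : List (ℕ × ℕ × List ℕ) := bigTree1_0 ++ bigTree1_1 ++ bigTree1_2 ++ bigTree1_3 ++ bigTree1_4 ++ bigTree1_5 ++ bigTree1_6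

def bigCert : BlockCert := ⟨995, bigPts, bigMoves, [(688, [5], bigTree0), (47, [5, 1, 2, 3, 2, 1, 5], bigTree1)]⟩

def lowPts_0 : List ℕ := [81, 82, 116, 117, 127, 128, 129, 130, 154, 155, 177, 178, 179, 180, 188, 194, 195, 196, 197, 198, 199, 200, 201, 202, 233, 234, 239, 240, 267, 272, 273, 274, 275, 276, 277, 278, 279, 290, 294, 303, 305, 307, 308, 309, 310, 311, 312, 313, 314, 315, 316, 317, 318, 323, 324, 357, 358, 364, 365, 396, 406, 408, 409, 410, 411, 412, 413, 414, 415, 416, 420, 421, 433, 436, 438, 439, 449, 451, 455, 457, 461, 462, 463, 464, 465, 466, 467, 468, 469, 470, 471, 472, 473, 474, 481, 524, 525, 534, 536, 581]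

def lowPts_1 : List ℕ := [592, 594, 602, 604, 607, 608, 609, 610, 611, 612, 613, 614, 615, 619, 639, 642, 643, 644, 660, 662, 666, 668, 670, 674, 681, 682, 683, 684, 685, 686, 687, 688, 689, 690, 695, 698, 701, 702, 703, 763, 765, 775, 776, 779, 780, 781, 782, 854, 857, 871, 874, 883, 885, 889, 894, 895, 896, 897, 898, 899, 900, 901, 904, 906, 907, 908, 909, 931, 938, 940, 955, 958, 960, 962, 966, 970, 971, 972, 976, 981, 982, 989, 990, 991, 992, 993, 994, 1004, 1005, 1012, 1013, 1014, 1073, 1097, 1098, 1101, 1102, 1103, 1104, 1111]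

def lowPts_2 : List ℕ := [1114, 1115, 1116, 1119, 1120, 1121, 1122, 1215, 1222, 1225, 1226, 1232, 1234, 1241, 1247, 1248, 1249, 1253, 1254, 1255, 1256, 1257, 1258, 1259, 1260, 1261, 1266, 1267, 1283, 1287, 1290, 1303, 1305, 1307, 1311, 1313, 1314, 1315, 1318, 1319, 1320, 1321, 1327, 1328, 1330, 1331, 1338, 1339, 1340, 1341, 1342, 1343, 1344, 1351, 1352, 1363, 1422, 1441, 1444, 1445, 1446, 1449, 1450, 1451, 1452, 1459, 1460, 1461, 1462, 1465, 1466, 1573, 1583, 1584, 1588, 1589, 1592, 1594, 1595, 1605, 1615, 1616, 1617, 1619, 1621, 1622, 1623, 1625, 1626, 1627, 1630, 1639, 1655, 1696, 1697, 1698, 1699, 1700, 1701, 1702]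

def lowPts_3 : List ℕ := [1746, 1747, 1753, 1756, 1757, 1758, 1759, 1760, 1761, 1762, 1775, 1776, 1777, 1780, 1781]

def lowPts : List ℕ := lowPts_0 ++ lowPts_1 ++ lowPts_2 ++ lowPts_3

def lowMoves_0 : List (ℕ × ℕ × List ℕ) := [(472, 472, []), (614, 472, [0]), (317, 472, [2]), (415, 472, [1, 0, 1, 0, 2, 1, 0, 1, 2, 0, 1, 0, 1]), (180, 472, [1, 0, 1, 0, 2, 1, 3, 2, 3, 1, 0, 1, 2, 0, 1]), (130, 472, [0, 1, 0, 1, 0, 2, 1, 3, 2, 3, 1, 0, 1, 2, 0, 1]), (201, 472, [2, 3]), (278, 472, [1, 0, 1, 0, 2, 1, 0, 1, 2, 0, 1, 0, 1, 3]), (275, 472, [1, 0, 1, 0, 2, 1, 3, 2, 3, 1, 0, 1, 2, 0, 1, 4]), (197, 472, [0, 1, 0, 1, 0, 2, 1, 3, 2, 3, 1, 0, 1, 2, 0, 1, 4]), (312, 472, [2,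 3, 4]), (413, 472, [1, 0, 1, 0, 2, 1, 0, 1, 2, 0, 1, 0, 1, 3, 4]), (410, 472, [1, 0, 1, 0, 2, 1, 3, 2, 3, 1, 0, 1, 2, 0, 1, 4, 3]), (1452, 472, [1, 0, 1, 0, 2, 1, 3, 2, 3, 1, 0, 1, 2, 0, 1, 4, 1, 0, 1, 0, 2, 1, 3, 2, 3, 1, 0, 1, 2, 0, 1]), (308, 472, [0, 1, 0, 1, 0, 2, 1, 3, 2, 3, 1, 0, 1, 2, 0, 1, 4, 3]), (1102, 472, [0, 1, 0, 1, 0, 2, 1, 3, 2, 3, 1, 0, 1, 2, 0, 1, 4, 1, 0, 1, 0, 2, 1, 3, 2, 3, 1, 0, 1, 2, 0, 1]), (1122, 472, [2, 3, 4, 1, 0, 1, 0, 2, 1, 3, 2, 3, 1, 0, 1, 2, 0, 1]), (780, 472, [1, 0, 1, 0, 2, 1, 0, 1, 2, 0, 1, 0, 1, 3, 4, 1, 0, 1, 0, 2, 1, 3, 2, 3, 1, 0, 1, 2, 0, 1]), (611, 472, [1, 0, 1, 0, 2, 1, 3, 2, 3, 1, 0, 1, 2, 0, 1, 4, 3, 2]), (465, 472,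 [1, 0, 1, 0, 2, 1, 3, 2, 3, 1, 0, 1, 2, 0, 1, 4, 3, 1, 0, 1, 0, 2, 1, 0, 1, 2, 0, 1, 0, 1]), (1616, 472, [1, 0, 1, 0, 2, 1, 3, 2, 3, 1, 0, 1, 2, 0, 1, 4, 3, 1, 0, 1, 0, 2, 1, 3, 2, 3, 1, 0, 1, 2, 0, 1]), (1615, 472, [1, 0, 1, 0, 2, 1, 3, 2, 3, 1, 0, 1, 2, 0, 1, 4, 1, 0, 1, 0, 2, 1, 3, 2, 3, 1, 0, 1, 2, 0, 1, 3]), (1445, 472, [1, 0, 1, 0, 2, 1, 3, 2, 3, 1, 0, 1, 2, 0, 1, 4, 1, 0, 1, 0, 2, 1, 3, 2, 3, 1, 0, 1, 2, 0, 1, 1, 0, 1, 0, 2, 1, 3, 2, 3, 1, 0, 1, 2, 0, 1]), (1307, 472, [0, 1, 0, 1, 0, 2, 1, 3, 2, 3, 1, 0, 1, 2, 0, 1, 4, 3, 1, 0, 1, 0, 2, 1, 3, 2, 3, 1, 0, 1, 2, 0, 1]), (1461, 472, [2, 3, 4, 1, 0, 1, 0, 2, 1, 3, 2, 3, 1, 0, 1, 2, 0, 1, 3]), (1756, 472, [2,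 3, 4, 1, 0, 1, 0, 2, 1, 3, 2, 3, 1, 0, 1, 2, 0, 1, 1, 0, 1, 0, 2, 1, 3, 2, 3, 1, 0, 1, 2, 0, 1]), (1115, 472, [1, 0, 1, 0, 2, 1, 0, 1, 2, 0, 1, 0, 1, 3, 4, 1, 0, 1, 0, 2, 1, 3, 2, 3, 1, 0, 1, 2, 0, 1, 3]), (1699, 472, [1, 0, 1, 0, 2, 1, 0, 1, 2, 0, 1, 0, 1, 3, 4, 1, 0, 1, 0, 2, 1, 3, 2, 3, 1, 0, 1, 2, 0, 1, 1, 0, 1, 0, 2, 1, 3, 2, 3, 1, 0, 1, 2, 0, 1]), (1617, 472, [1, 0, 1, 0, 2, 1, 3, 2, 3, 1, 0, 1, 2, 0, 1, 4, 3, 2, 1, 0, 1, 0, 2, 1, 3, 2, 3, 1, 0, 1, 2, 0, 1]), (1757, 472, [1, 0, 1, 0, 2, 1, 3, 2, 3, 1, 0, 1, 2, 0, 1, 4, 3, 1, 0, 1, 0, 2, 1, 0, 1, 2, 0, 1, 0, 1, 1, 0, 1, 0, 2, 1, 3, 2, 3, 1, 0, 1, 2, 0, 1]), (1459, 472, [1, 0, 1, 0, 2, 1, 3, 2, 3, 1, 0, 1,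 2, 0, 1, 4, 3, 1, 0, 1, 0, 2, 1, 3, 2, 3, 1, 0, 1, 2, 0, 1, 3]), (1290, 472, [0, 1, 0, 1, 0, 2, 1, 3, 2, 3, 1, 0, 1, 2, 0, 1, 4, 3, 1, 0, 1, 0, 2, 1, 3, 2, 3, 1, 0, 1, 2, 0, 1, 3]), (901, 901, []), (689, 901, [0]), (615, 901, [2]), (473, 901, [1, 0, 1, 0, 2, 1, 0, 1, 2, 0, 1, 0, 1]), (202, 901, [1, 0, 1, 0, 2, 1, 3, 2, 3, 1, 0, 1, 2, 0, 1]), (279, 901, [0, 1, 0, 1, 0, 2, 1, 3, 2, 3, 1, 0, 1, 2, 0, 1]), (416, 901, [2, 3]), (318, 901, [1, 0, 1, 0, 2, 1, 0, 1, 2, 0, 1, 0, 1, 3]), (313, 901, [1, 0, 1, 0, 2, 1, 3, 2, 3, 1, 0, 1, 2, 0, 1, 4]), (414, 901, [0, 1, 0, 1, 0, 2, 1, 3, 2, 3, 1, 0, 1, 2, 0, 1, 4]), (613, 901, [2, 3, 4]), (469, 901, [1, 0, 1, 0, 2, 1, 0, 1, 2,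 0, 1, 0, 1, 3, 4]), (466, 901, [1, 0, 1, 0, 2, 1, 3, 2, 3, 1, 0, 1, 2, 0, 1, 4, 3]), (1450, 901, [1, 0, 1, 0, 2, 1, 3, 2, 3, 1, 0, 1, 2, 0, 1, 4, 1, 0, 1, 0, 2, 1, 3, 2, 3, 1, 0, 1, 2, 0, 1]), (612, 901, [0, 1, 0, 1, 0, 2, 1, 3, 2, 3, 1, 0, 1, 2, 0, 1, 4, 3]), (1701, 901, [0, 1, 0, 1, 0, 2, 1, 3, 2, 3, 1, 0, 1, 2, 0, 1, 4, 1, 0, 1, 0, 2, 1, 3, 2, 3, 1, 0, 1, 2, 0, 1]), (1120, 901, [2, 3, 4, 1, 0, 1, 0, 2, 1, 3, 2, 3, 1, 0, 1, 2, 0, 1]), (1465, 901, [1, 0, 1, 0, 2, 1, 0, 1, 2, 0, 1, 0, 1, 3, 4, 1, 0, 1, 0, 2, 1, 3, 2, 3, 1, 0, 1, 2, 0, 1]), (686, 901, [1, 0, 1, 0, 2, 1, 3, 2, 3, 1, 0, 1, 2, 0, 1, 4, 3, 2]), (900, 901, [1, 0, 1, 0, 2, 1, 3, 2, 3, 1, 0, 1, 2, 0, 1,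 4, 3, 1, 0, 1, 0, 2, 1, 0, 1, 2, 0, 1, 0, 1]), (1330, 901, [1, 0, 1, 0, 2, 1, 3, 2, 3, 1, 0, 1, 2, 0, 1, 4, 3, 1, 0, 1, 0, 2, 1, 3, 2, 3, 1, 0, 1, 2, 0, 1]), (1697, 901, [1, 0, 1, 0, 2, 1, 3, 2, 3, 1, 0, 1, 2, 0, 1, 4, 1, 0, 1, 0, 2, 1, 3, 2, 3, 1, 0, 1, 2, 0, 1, 3]), (1625, 901, [1, 0, 1, 0, 2, 1, 3, 2, 3, 1, 0, 1, 2, 0, 1, 4, 1, 0, 1, 0, 2, 1, 3, 2, 3, 1, 0, 1, 2, 0, 1, 1, 0, 1, 0, 2, 1, 3, 2, 3, 1, 0, 1, 2, 0, 1]), (1621, 901, [0, 1, 0, 1, 0, 2, 1, 3, 2, 3, 1, 0, 1, 2, 0, 1, 4, 3, 1, 0, 1, 0, 2, 1, 3, 2, 3, 1, 0, 1, 2, 0, 1]), (1338, 901, [2, 3, 4, 1, 0, 1, 0, 2, 1, 3, 2, 3, 1, 0, 1, 2, 0, 1, 3]), (1777, 901, [2, 3, 4, 1, 0, 1, 0, 2, 1, 3, 2, 3, 1, 0, 1, 2,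 0, 1, 1, 0, 1, 0, 2, 1, 3, 2, 3, 1, 0, 1, 2, 0, 1]), (1253, 901, [1, 0, 1, 0, 2, 1, 0, 1, 2, 0, 1, 0, 1, 3, 4, 1, 0, 1, 0, 2, 1, 3, 2, 3, 1, 0, 1, 2, 0, 1, 3]), (1760, 901, [1, 0, 1, 0, 2, 1, 0, 1, 2, 0, 1, 0, 1, 3, 4, 1, 0, 1, 0, 2, 1, 3, 2, 3, 1, 0, 1, 2, 0, 1, 1, 0, 1, 0, 2, 1, 3, 2, 3, 1, 0, 1, 2, 0, 1])]

def lowMoves_1 : List (ℕ × ℕ × List ℕ) := [(1758, 901, [1, 0, 1, 0, 2, 1, 3, 2, 3, 1, 0, 1, 2, 0, 1, 4, 3, 2, 1, 0, 1, 0, 2, 1, 3, 2, 3, 1, 0, 1, 2, 0, 1]), (1627, 901, [1, 0, 1, 0, 2, 1, 3, 2, 3, 1, 0, 1, 2, 0, 1, 4, 3, 1, 0, 1, 0, 2, 1, 0, 1, 2, 0, 1, 0, 1, 1, 0, 1, 0, 2, 1, 3, 2, 3, 1, 0, 1, 2, 0, 1]), (989, 901, [1, 0, 1, 0, 2, 1, 3, 2, 3, 1, 0, 1, 2,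 0, 1, 4, 3, 1, 0, 1, 0, 2, 1, 3, 2, 3, 1, 0, 1, 2, 0, 1, 3]), (1318, 901, [0, 1, 0, 1, 0, 2, 1, 3, 2, 3, 1, 0, 1, 2, 0, 1, 4, 3, 1, 0, 1, 0, 2, 1, 3, 2, 3, 1, 0, 1, 2, 0, 1, 3]), (471, 471, []), (438, 471, [0]), (470, 471, [2]), (316, 471, [3]), (315, 471, [1, 0, 1, 0, 2, 1, 0, 1, 2, 0, 1, 0, 1]), (276, 471, [1, 0, 1, 0, 2, 1, 3, 2, 3, 1, 0, 1, 2, 0, 1]), (294, 471, [0, 3]), (179, 471, [0, 1, 0, 1, 0, 2, 1, 3, 2, 3, 1, 0, 1, 2, 0, 1]), (314, 471, [2, 3]), (277, 471, [2, 1, 0, 1, 0, 2, 1, 3, 2, 3, 1, 0, 1, 2, 0, 1]), (200, 471, [3, 2]), (468, 471, [3, 4]), (188, 471, [3, 1, 0, 1, 0, 2, 1, 0, 1, 2, 0, 1, 0, 1]), (129, 471, [3, 1, 0, 1, 0, 2, 1, 3, 2, 3, 1, 0, 1,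 2, 0, 1]), (199, 471, [1, 0, 1, 0, 2, 1, 0, 1, 2, 0, 1, 0, 1, 3]), (267, 471, [1, 0, 1, 0, 2, 1, 0, 1, 2, 0, 1, 0, 1, 1, 0, 1, 0, 2, 1, 3, 2, 3, 1, 0, 1, 2, 0, 1]), (198, 471, [1, 0, 1, 0, 2, 1, 3, 2, 3, 1, 0, 1, 2, 0, 1, 3]), (411, 471, [1, 0, 1, 0, 2, 1, 3, 2, 3, 1, 0, 1, 2, 0, 1, 4]), (436, 471, [0, 3, 4]), (274, 471, [0, 1, 0, 1, 0, 2, 1, 3, 2, 3, 1, 0, 1, 2, 0, 1, 4]), (467, 471, [2, 3, 4]), (412, 471, [2, 1, 0, 1, 0, 2, 1, 3, 2, 3, 1, 0, 1, 2, 0, 1, 4]), (311, 471, [3, 2, 4]), (290, 471, [3, 4, 1, 0, 1, 0, 2, 1, 0, 1, 2, 0, 1, 0, 1]), (1320, 471, [3, 4, 1, 0, 1, 0, 2, 1, 3, 2, 3, 1, 0, 1, 2, 0, 1]), (196, 471, [3, 1, 0, 1, 0, 2, 1, 3, 2, 3, 1, 0, 1, 2, 0,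 1, 4]), (310, 471, [1, 0, 1, 0, 2, 1, 0, 1, 2, 0, 1, 0, 1, 3, 4]), (396, 471, [1, 0, 1, 0, 2, 1, 0, 1, 2, 0, 1, 0, 1, 1, 0, 1, 0, 2, 1, 3, 2, 3, 1, 0, 1, 2, 0, 1, 4]), (309, 471, [1, 0, 1, 0, 2, 1, 3, 2, 3, 1, 0, 1, 2, 0, 1, 3, 4]), (608, 471, [1, 0, 1, 0, 2, 1, 3, 2, 3, 1, 0, 1, 2, 0, 1, 4, 3]), (1340, 471, [1, 0, 1, 0, 2, 1, 3, 2, 3, 1, 0, 1, 2, 0, 1, 4, 1, 0, 1, 0, 2, 1, 3, 2, 3, 1, 0, 1, 2, 0, 1]), (1592, 471, [0, 3, 4, 1, 0, 1, 0, 2, 1, 3, 2, 3, 1, 0, 1, 2, 0, 1]), (409, 471, [0, 1, 0, 1, 0, 2, 1, 3, 2, 3, 1, 0, 1, 2, 0, 1, 4, 3]), (992, 471, [0, 1, 0, 1, 0, 2, 1, 3, 2, 3, 1, 0, 1, 2, 0, 1, 4, 1, 0, 1, 0, 2, 1, 3, 2, 3, 1, 0, 1, 2, 0, 1]), (1261, 471, [2,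 3, 4, 1, 0, 1, 0, 2, 1, 3, 2, 3, 1, 0, 1, 2, 0, 1]), (610, 471, [2, 1, 0, 1, 0, 2, 1, 3, 2, 3, 1, 0, 1, 2, 0, 1, 4, 3]), (1342, 471, [2, 1, 0, 1, 0, 2, 1, 3, 2, 3, 1, 0, 1, 2, 0, 1, 4, 1, 0, 1, 0, 2, 1, 3, 2, 3, 1, 0, 1, 2, 0, 1]), (464, 471, [3, 2, 4, 3]), (1449, 471, [3, 2, 4, 1, 0, 1, 0, 2, 1, 3, 2, 3, 1, 0, 1, 2, 0, 1]), (433, 471, [3, 4, 1, 0, 1, 0, 2, 1, 0, 1, 2, 0, 1, 0, 1, 3]), (1101, 471, [3, 4, 1, 0, 1, 0, 2, 1, 0, 1, 2, 0, 1, 0, 1, 1, 0, 1, 0, 2, 1, 3, 2, 3, 1, 0, 1, 2, 0, 1]), (971, 471, [3, 4, 1, 0, 1, 0, 2, 1, 3, 2, 3, 1, 0, 1, 2, 0, 1, 3]), (1013, 471, [3, 4, 1, 0, 1, 0, 2, 1, 3, 2, 3, 1, 0, 1, 2, 0, 1, 4]), (1696, 471, [3, 4, 1, 0, 1, 0, 2, 1, 3,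 2, 3, 1, 0, 1, 2, 0, 1, 1, 0, 1, 0, 2, 1, 3, 2, 3, 1, 0, 1, 2, 0, 1]), (307, 471, [3, 1, 0, 1, 0, 2, 1, 3, 2, 3, 1, 0, 1, 2, 0, 1, 4, 3]), (1104, 471, [3, 1, 0, 1, 0, 2, 1, 3, 2, 3, 1, 0, 1, 2, 0, 1, 4, 1, 0, 1, 0, 2, 1, 3, 2, 3, 1, 0, 1, 2, 0, 1]), (1595, 471, [1, 0, 1, 0, 2, 1, 0, 1, 2, 0, 1, 0, 1, 3, 4, 1, 0, 1, 0, 2, 1, 3, 2, 3, 1, 0, 1, 2, 0, 1]), (581, 471, [1, 0, 1, 0, 2, 1, 0, 1, 2, 0, 1, 0, 1, 1, 0, 1, 0, 2, 1, 3, 2, 3, 1, 0, 1, 2, 0, 1, 4, 3]), (1258, 471, [1, 0, 1, 0, 2, 1, 0, 1, 2, 0, 1, 0, 1, 1, 0, 1, 0, 2, 1, 3, 2, 3, 1, 0, 1, 2, 0, 1, 4, 1, 0, 1, 0, 2, 1, 3, 2, 3, 1, 0, 1, 2, 0, 1]), (462, 471, [1, 0, 1, 0, 2, 1, 3, 2, 3, 1, 0, 1, 2, 0, 1, 3, 4,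 3]), (1451, 471, [1, 0, 1, 0, 2, 1, 3, 2, 3, 1, 0, 1, 2, 0, 1, 3, 4, 1, 0, 1, 0, 2, 1, 3, 2, 3, 1, 0, 1, 2, 0, 1]), (897, 471, [1, 0, 1, 0, 2, 1, 3, 2, 3, 1, 0, 1, 2, 0, 1, 4, 3, 2]), (609, 471, [1, 0, 1, 0, 2, 1, 3, 2, 3, 1, 0, 1, 2, 0, 1, 4, 3, 1, 0, 1, 0, 2, 1, 0, 1, 2, 0, 1, 0, 1]), (1584, 471, [1, 0, 1, 0, 2, 1, 3, 2, 3, 1, 0, 1, 2, 0, 1, 4, 3, 1, 0, 1, 0, 2, 1, 3, 2, 3, 1, 0, 1, 2, 0, 1]), (990, 471, [1, 0, 1, 0, 2, 1, 3, 2, 3, 1, 0, 1, 2, 0, 1, 4, 1, 0, 1, 0, 2, 1, 3, 2, 3, 1, 0, 1, 2, 0, 1, 3]), (1328, 471, [1, 0, 1, 0, 2, 1, 3, 2, 3, 1, 0, 1, 2, 0, 1, 4, 1, 0, 1, 0, 2, 1, 3, 2, 3, 1, 0, 1, 2, 0, 1, 1, 0, 1, 0, 2, 1, 3, 2, 3, 1, 0, 1, 2, 0, 1])]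

def lowMoves_2 : List (ℕ × ℕ × List ℕ) := [(1319, 471, [0, 3, 4, 1, 0, 1, 0, 2, 1, 3, 2, 3, 1, 0, 1, 2, 0, 1, 3]), (1343, 471, [0, 3, 4, 1, 0, 1, 0, 2, 1, 3, 2, 3, 1, 0, 1, 2, 0, 1, 4]), (1619, 471, [0, 3, 4, 1, 0, 1, 0, 2, 1, 3, 2, 3, 1, 0, 1, 2, 0, 1, 1, 0, 1, 0, 2, 1, 3, 2, 3, 1, 0, 1, 2, 0, 1]), (1746, 471, [0, 1, 0, 1, 0, 2, 1, 3, 2, 3, 1, 0, 1, 2, 0, 1, 4, 3, 1, 0, 1, 0, 2, 1, 3, 2, 3, 1, 0, 1, 2, 0, 1]), (682, 471, [0, 1, 0, 1, 0, 2, 1, 3, 2, 3, 1, 0, 1, 2, 0, 1, 4, 1, 0, 1, 0, 2, 1, 3, 2, 3, 1, 0, 1, 2, 0, 1, 3]), (1626, 471, [0, 1, 0, 1, 0, 2, 1, 3, 2, 3, 1, 0, 1, 2, 0, 1, 4, 1, 0, 1, 0, 2, 1, 3, 2, 3, 1, 0, 1, 2, 0, 1, 1, 0, 1, 0, 2, 1, 3, 2, 3, 1, 0,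 1, 2, 0, 1]), (1594, 471, [2, 3, 4, 1, 0, 1, 0, 2, 1, 3, 2, 3, 1, 0, 1, 2, 0, 1, 3]), (994, 471, [2, 3, 4, 1, 0, 1, 0, 2, 1, 3, 2, 3, 1, 0, 1, 2, 0, 1, 4]), (1700, 471, [2, 3, 4, 1, 0, 1, 0, 2, 1, 3, 2, 3, 1, 0, 1, 2, 0, 1, 1, 0, 1, 0, 2, 1, 3, 2, 3, 1, 0, 1, 2, 0, 1]), (899, 471, [2, 1, 0, 1, 0, 2, 1, 3, 2, 3, 1, 0, 1, 2, 0, 1, 4, 3, 2]), (857, 471, [2, 1, 0, 1, 0, 2, 1, 3, 2, 3, 1, 0, 1, 2, 0, 1, 4, 3, 1, 0, 1, 0, 2, 1, 0, 1, 2, 0, 1, 0, 1]), (1655, 471, [2, 1, 0, 1, 0, 2, 1, 3, 2, 3, 1, 0, 1, 2, 0, 1, 4, 3, 1, 0, 1, 0, 2, 1, 3, 2, 3, 1, 0, 1, 2, 0, 1]), (993, 471, [2, 1, 0, 1, 0, 2, 1, 3, 2, 3, 1, 0, 1, 2, 0, 1, 4, 1, 0, 1, 0, 2, 1, 3, 2, 3, 1, 0, 1, 2, 0, 1,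 3]), (1327, 471, [2, 1, 0, 1, 0, 2, 1, 3, 2, 3, 1, 0, 1, 2, 0, 1, 4, 1, 0, 1, 0, 2, 1, 3, 2, 3, 1, 0, 1, 2, 0, 1, 1, 0, 1, 0, 2, 1, 3, 2, 3, 1, 0, 1, 2, 0, 1]), (685, 471, [3, 2, 4, 3, 2]), (642, 471, [3, 2, 4, 3, 1, 0, 1, 0, 2, 1, 0, 1, 2, 0, 1, 0, 1]), (1313, 471, [3, 2, 4, 3, 1, 0, 1, 0, 2, 1, 3, 2, 3, 1, 0, 1, 2, 0, 1]), (1311, 471, [3, 2, 4, 1, 0, 1, 0, 2, 1, 3, 2, 3, 1, 0, 1, 2, 0, 1, 3]), (1119, 471, [3, 2, 4, 1, 0, 1, 0, 2, 1, 3, 2, 3, 1, 0, 1, 2, 0, 1, 4]), (1444, 471, [3, 2, 4, 1, 0, 1, 0, 2, 1, 3, 2, 3, 1, 0, 1, 2, 0, 1, 1, 0, 1, 0, 2, 1, 3, 2, 3, 1, 0, 1, 2, 0, 1]), (966, 471, [3, 4, 1, 0, 1, 0, 2, 1, 0, 1, 2, 0, 1, 0, 1, 3, 1, 0, 1, 0, 2, 1, 3, 2,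 3, 1, 0, 1, 2, 0, 1]), (779, 471, [3, 4, 1, 0, 1, 0, 2, 1, 0, 1, 2, 0, 1, 0, 1, 1, 0, 1, 0, 2, 1, 3, 2, 3, 1, 0, 1, 2, 0, 1, 4]), (666, 471, [3, 4, 1, 0, 1, 0, 2, 1, 3, 2, 3, 1, 0, 1, 2, 0, 1, 3, 2]), (1234, 471, [3, 4, 1, 0, 1, 0, 2, 1, 3, 2, 3, 1, 0, 1, 2, 0, 1, 3, 4]), (970, 471, [3, 4, 1, 0, 1, 0, 2, 1, 3, 2, 3, 1, 0, 1, 2, 0, 1, 3, 1, 0, 1, 0, 2, 1, 0, 1, 2, 0, 1, 0, 1]), (702, 471, [3, 4, 1, 0, 1, 0, 2, 1, 3, 2, 3, 1, 0, 1, 2, 0, 1, 4, 3]), (1702, 471, [3, 4, 1, 0, 1, 0, 2, 1, 3, 2, 3, 1, 0, 1, 2, 0, 1, 4, 1, 0, 1, 0, 2, 1, 3, 2, 3, 1, 0, 1, 2, 0, 1]), (1622, 471, [3, 4, 1, 0, 1, 0, 2, 1, 3, 2, 3, 1, 0, 1, 2, 0, 1, 1, 0, 1, 0, 2, 1, 3, 2, 3, 1, 0, 1, 2, 0,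 1, 3]), (463, 471, [3, 1, 0, 1, 0, 2, 1, 3, 2, 3, 1, 0, 1, 2, 0, 1, 4, 3, 2]), (684, 471, [3, 1, 0, 1, 0, 2, 1, 3, 2, 3, 1, 0, 1, 2, 0, 1, 4, 3, 1, 0, 1, 0, 2, 1, 0, 1, 2, 0, 1, 0, 1]), (1605, 471, [3, 1, 0, 1, 0, 2, 1, 3, 2, 3, 1, 0, 1, 2, 0, 1, 4, 3, 1, 0, 1, 0, 2, 1, 3, 2, 3, 1, 0, 1, 2, 0, 1]), (1446, 471, [3, 1, 0, 1, 0, 2, 1, 3, 2, 3, 1, 0, 1, 2, 0, 1, 4, 1, 0, 1, 0, 2, 1, 3, 2, 3, 1, 0, 1, 2, 0, 1, 3]), (782, 471, [3, 1, 0, 1, 0, 2, 1, 3, 2, 3, 1, 0, 1, 2, 0, 1, 4, 1, 0, 1, 0, 2, 1, 3, 2, 3, 1, 0, 1, 2, 0, 1, 4]), (1698, 471, [3, 1, 0, 1, 0, 2, 1, 3, 2, 3, 1, 0, 1, 2, 0, 1, 4, 1, 0, 1, 0, 2, 1, 3, 2, 3, 1, 0, 1, 2, 0, 1, 1, 0, 1, 0, 2, 1, 3, 2, 3, 1, 0,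 1, 2, 0, 1]), (1321, 471, [1, 0, 1, 0, 2, 1, 0, 1, 2, 0, 1, 0, 1, 3, 4, 1, 0, 1, 0, 2, 1, 3, 2, 3, 1, 0, 1, 2, 0, 1, 3]), (1344, 471, [1, 0, 1, 0, 2, 1, 0, 1, 2, 0, 1, 0, 1, 3, 4, 1, 0, 1, 0, 2, 1, 3, 2, 3, 1, 0, 1, 2, 0, 1, 4]), (1776, 471, [1, 0, 1, 0, 2, 1, 0, 1, 2, 0, 1, 0, 1, 3, 4, 1, 0, 1, 0, 2, 1, 3, 2, 3, 1, 0, 1, 2, 0, 1, 1, 0, 1, 0, 2, 1, 3, 2, 3, 1, 0, 1, 2, 0, 1]), (1363, 471, [1, 0, 1, 0, 2, 1, 0, 1, 2, 0, 1, 0, 1, 1, 0, 1, 0, 2, 1, 3, 2, 3, 1, 0, 1, 2, 0, 1, 4, 3, 1, 0, 1, 0, 2, 1, 3, 2, 3, 1, 0, 1, 2, 0, 1]), (1341, 471, [1, 0, 1, 0, 2, 1, 0, 1, 2, 0, 1, 0, 1, 1, 0, 1, 0, 2, 1, 3, 2, 3, 1, 0, 1, 2, 0, 1, 4, 1, 0, 1, 0, 2, 1, 3, 2, 3, 1, 0, 1, 2,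 0, 1, 3]), (976, 471, [1, 0, 1, 0, 2, 1, 0, 1, 2, 0, 1, 0, 1, 1, 0, 1, 0, 2, 1, 3, 2, 3, 1, 0, 1, 2, 0, 1, 4, 1, 0, 1, 0, 2, 1, 3, 2, 3, 1, 0, 1, 2, 0, 1, 1, 0, 1, 0, 2, 1, 3, 2, 3, 1, 0, 1, 2, 0, 1]), (1315, 471, [1, 0, 1, 0, 2, 1, 3, 2, 3, 1, 0, 1, 2, 0, 1, 3, 4, 3, 1, 0, 1, 0, 2, 1, 3, 2, 3, 1, 0, 1, 2, 0, 1]), (1121, 471, [1, 0, 1, 0, 2, 1, 3, 2, 3, 1, 0, 1, 2, 0, 1, 3, 4, 1, 0, 1, 0, 2, 1, 3, 2, 3, 1, 0, 1, 2, 0, 1, 4]), (1259, 471, [1, 0, 1, 0, 2, 1, 3, 2, 3, 1, 0, 1, 2, 0, 1, 4, 3, 2, 3]), (1583, 471, [1, 0, 1, 0, 2, 1, 3, 2, 3, 1, 0, 1, 2, 0, 1, 4, 3, 2, 1, 0, 1, 0, 2, 1, 3, 2, 3, 1, 0, 1, 2, 0, 1]), (898, 471, [1, 0, 1, 0, 2, 1, 3, 2, 3, 1, 0, 1, 2, 0,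 1, 4, 3, 1, 0, 1, 0, 2, 1, 0, 1, 2, 0, 1, 0, 1, 3]), (1241, 471, [1, 0, 1, 0, 2, 1, 3, 2, 3, 1, 0, 1, 2, 0, 1, 4, 3, 1, 0, 1, 0, 2, 1, 0, 1, 2, 0, 1, 0, 1, 1, 0, 1, 0, 2, 1, 3, 2, 3, 1, 0, 1, 2, 0, 1]), (1747, 471, [1, 0, 1, 0, 2, 1, 3, 2, 3, 1, 0, 1, 2, 0, 1, 4, 3, 1, 0, 1, 0, 2, 1, 3, 2, 3, 1, 0, 1, 2, 0, 1, 3]), (1248, 471, [1, 0, 1, 0, 2, 1, 3, 2, 3, 1, 0, 1, 2, 0, 1, 4, 3, 1, 0, 1, 0, 2, 1, 3, 2, 3, 1, 0, 1, 2, 0, 1, 4]), (683, 471, [1, 0, 1, 0, 2, 1, 3, 2, 3, 1, 0, 1, 2, 0, 1, 4, 3, 1, 0, 1, 0, 2, 1, 3, 2, 3, 1, 0, 1, 2, 0, 1, 1, 0, 1, 0, 2, 1, 3, 2, 3, 1, 0, 1, 2, 0, 1]), (681, 471, [1, 0, 1, 0, 2, 1, 3, 2, 3, 1, 0, 1, 2, 0, 1, 4, 1, 0, 1, 0, 2, 1, 3, 2,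 3, 1, 0, 1, 2, 0, 1, 3, 2]), (1254, 471, [1, 0, 1, 0, 2, 1, 3, 2, 3, 1, 0, 1, 2, 0, 1, 4, 1, 0, 1, 0, 2, 1, 3, 2, 3, 1, 0, 1, 2, 0, 1, 3, 4]), (461, 471, [1, 0, 1, 0, 2, 1, 3, 2, 3, 1, 0, 1, 2, 0, 1, 4, 1, 0, 1, 0, 2, 1, 3, 2, 3, 1, 0, 1, 2, 0, 1, 3, 1, 0, 1, 0, 2, 1, 0, 1, 2, 0, 1, 0, 1]), (1352, 471, [1, 0, 1, 0, 2, 1, 3, 2, 3, 1, 0, 1, 2, 0, 1, 4, 1, 0, 1, 0, 2, 1, 3, 2, 3, 1, 0, 1, 2, 0, 1, 1, 0, 1, 0, 2, 1, 3, 2, 3, 1, 0, 1, 2, 0, 1, 3]), (982, 471, [1, 0, 1, 0, 2, 1, 3, 2, 3, 1, 0, 1, 2, 0, 1, 4, 1, 0, 1, 0, 2, 1, 3, 2, 3, 1, 0, 1, 2, 0, 1, 1, 0, 1, 0, 2, 1, 3, 2, 3, 1, 0, 1, 2, 0, 1, 4]), (1260, 471, [1, 0, 1, 0, 2, 1, 3, 2, 3, 1, 0, 1, 2, 0, 1, 4, 1, 0,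 1, 0, 2, 1, 3, 2, 3, 1, 0, 1, 2, 0, 1, 1, 0, 1, 0, 2, 1, 3, 2, 3, 1, 0, 1, 2, 0, 1, 1, 0, 1, 0, 2, 1, 3, 2, 3, 1, 0, 1, 2, 0, 1]), (1339, 471, [0, 3, 4, 1, 0, 1, 0, 2, 1, 3, 2, 3, 1, 0, 1, 2, 0, 1, 3, 4]), (1012, 471, [0, 3, 4, 1, 0, 1, 0, 2, 1, 3, 2, 3, 1, 0, 1, 2, 0, 1, 4, 3]), (1589, 471, [0, 3, 4, 1, 0, 1, 0, 2, 1, 3, 2, 3, 1, 0, 1, 2, 0, 1, 4, 1, 0, 1, 0, 2, 1, 3, 2, 3, 1, 0, 1, 2, 0, 1]), (1314, 471, [0, 3, 4, 1, 0, 1, 0, 2, 1, 3, 2, 3, 1, 0, 1, 2, 0, 1, 1, 0, 1, 0, 2, 1, 3, 2, 3, 1, 0, 1, 2, 0, 1, 3]), (1762, 471, [0, 1, 0, 1, 0, 2, 1, 3, 2, 3, 1, 0, 1, 2, 0, 1, 4, 3, 1, 0, 1, 0, 2, 1, 3, 2, 3, 1, 0, 1, 2, 0, 1, 3])]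

def lowMoves_3 : List (ℕ × ℕ × List ℕ) := [(1588, 471, [0, 1, 0, 1, 0, 2, 1, 3, 2, 3, 1, 0, 1, 2, 0, 1, 4, 3, 1, 0, 1, 0, 2, 1, 3, 2, 3, 1, 0, 1, 2, 0, 1, 4]), (991, 471, [0, 1, 0, 1, 0, 2, 1, 3, 2, 3, 1, 0, 1, 2, 0, 1, 4, 3, 1, 0, 1, 0, 2, 1, 3, 2, 3, 1, 0, 1, 2, 0, 1, 1, 0, 1, 0, 2, 1, 3, 2, 3, 1, 0, 1, 2, 0, 1]), (895, 471, [0, 1, 0, 1, 0, 2, 1, 3, 2, 3, 1, 0, 1, 2, 0, 1, 4, 1, 0, 1, 0, 2, 1, 3, 2, 3, 1, 0, 1, 2, 0, 1, 3, 4]), (1639, 471, [0, 1, 0, 1, 0, 2, 1, 3, 2, 3, 1, 0, 1, 2, 0, 1, 4, 1, 0, 1, 0, 2, 1, 3, 2, 3, 1, 0, 1, 2, 0, 1, 1, 0, 1, 0, 2, 1, 3, 2, 3, 1, 0, 1, 2, 0, 1, 3]), (1331, 471, [0, 1, 0, 1, 0, 2, 1, 3, 2, 3, 1, 0, 1, 2, 0, 1, 4, 1, 0, 1, 0,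 2, 1, 3, 2, 3, 1, 0, 1, 2, 0, 1, 1, 0, 1, 0, 2, 1, 3, 2, 3, 1, 0, 1, 2, 0, 1, 4]), (1225, 471, [0, 1, 0, 1, 0, 2, 1, 3, 2, 3, 1, 0, 1, 2, 0, 1, 4, 1, 0, 1, 0, 2, 1, 3, 2, 3, 1, 0, 1, 2, 0, 1, 1, 0, 1, 0, 2, 1, 3, 2, 3, 1, 0, 1, 2, 0, 1, 1, 0, 1, 0, 2, 1, 3, 2, 3, 1, 0, 1, 2, 0, 1]), (1287, 471, [2, 3, 4, 1, 0, 1, 0, 2, 1, 3, 2, 3, 1, 0, 1, 2, 0, 1, 3, 2]), (1573, 471, [2, 3, 4, 1, 0, 1, 0, 2, 1, 3, 2, 3, 1, 0, 1, 2, 0, 1, 3, 4]), (972, 471, [2, 3, 4, 1, 0, 1, 0, 2, 1, 3, 2, 3, 1, 0, 1, 2, 0, 1, 3, 1, 0, 1, 0, 2, 1, 0, 1, 2, 0, 1, 0, 1]), (940, 471, [2, 3, 4, 1, 0, 1, 0, 2, 1, 3, 2, 3, 1, 0, 1, 2, 0, 1, 4, 3]), (1623, 471, [2, 3, 4, 1, 0, 1, 0, 2, 1, 3, 2, 3, 1,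 0, 1, 2, 0, 1, 1, 0, 1, 0, 2, 1, 3, 2, 3, 1, 0, 1, 2, 0, 1, 3]), (1761, 471, [2, 1, 0, 1, 0, 2, 1, 3, 2, 3, 1, 0, 1, 2, 0, 1, 4, 3, 1, 0, 1, 0, 2, 1, 3, 2, 3, 1, 0, 1, 2, 0, 1, 3]), (1257, 471, [2, 1, 0, 1, 0, 2, 1, 3, 2, 3, 1, 0, 1, 2, 0, 1, 4, 1, 0, 1, 0, 2, 1, 3, 2, 3, 1, 0, 1, 2, 0, 1, 3, 4]), (981, 471, [2, 1, 0, 1, 0, 2, 1, 3, 2, 3, 1, 0, 1, 2, 0, 1, 4, 1, 0, 1, 0, 2, 1, 3, 2, 3, 1, 0, 1, 2, 0, 1, 1, 0, 1, 0, 2, 1, 3, 2, 3, 1, 0, 1, 2, 0, 1, 4]), (874, 471, [3, 2, 4, 1, 0, 1, 0, 2, 1, 3, 2, 3, 1, 0, 1, 2, 0, 1, 4, 3]), (1466, 471, [3, 2, 4, 1, 0, 1, 0, 2, 1, 3, 2, 3, 1, 0, 1, 2, 0, 1, 4, 1, 0, 1, 0, 2, 1, 3, 2, 3, 1, 0, 1, 2, 0, 1]), (1114, 471, [3, 4, 1,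 0, 1, 0, 2, 1, 0, 1, 2, 0, 1, 0, 1, 1, 0, 1, 0, 2, 1, 3, 2, 3, 1, 0, 1, 2, 0, 1, 4, 3]), (1249, 471, [3, 4, 1, 0, 1, 0, 2, 1, 0, 1, 2, 0, 1, 0, 1, 1, 0, 1, 0, 2, 1, 3, 2, 3, 1, 0, 1, 2, 0, 1, 4, 1, 0, 1, 0, 2, 1, 3, 2, 3, 1, 0, 1, 2, 0, 1]), (908, 471, [3, 4, 1, 0, 1, 0, 2, 1, 3, 2, 3, 1, 0, 1, 2, 0, 1, 3, 4, 3]), (481, 471, [3, 4, 1, 0, 1, 0, 2, 1, 3, 2, 3, 1, 0, 1, 2, 0, 1, 4, 3, 2]), (701, 471, [3, 4, 1, 0, 1, 0, 2, 1, 3, 2, 3, 1, 0, 1, 2, 0, 1, 4, 3, 1, 0, 1, 0, 2, 1, 0, 1, 2, 0, 1, 0, 1]), (1267, 471, [3, 4, 1, 0, 1, 0, 2, 1, 3, 2, 3, 1, 0, 1, 2, 0, 1, 4, 3, 1, 0, 1, 0, 2, 1, 3, 2, 3, 1, 0, 1, 2, 0, 1]), (1014, 471, [3, 4, 1, 0, 1, 0, 2, 1, 3, 2, 3, 1, 0,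 1, 2, 0, 1, 4, 1, 0, 1, 0, 2, 1, 3, 2, 3, 1, 0, 1, 2, 0, 1, 1, 0, 1, 0, 2, 1, 3, 2, 3, 1, 0, 1, 2, 0, 1]), (1753, 471, [3, 1, 0, 1, 0, 2, 1, 3, 2, 3, 1, 0, 1, 2, 0, 1, 4, 3, 1, 0, 1, 0, 2, 1, 0, 1, 2, 0, 1, 0, 1, 1, 0, 1, 0, 2, 1, 3, 2, 3, 1, 0, 1, 2, 0, 1]), (1116, 471, [3, 1, 0, 1, 0, 2, 1, 3, 2, 3, 1, 0, 1, 2, 0, 1, 4, 1, 0, 1, 0, 2, 1, 3, 2, 3, 1, 0, 1, 2, 0, 1, 4, 3]), (1247, 471, [3, 1, 0, 1, 0, 2, 1, 3, 2, 3, 1, 0, 1, 2, 0, 1, 4, 1, 0, 1, 0, 2, 1, 3, 2, 3, 1, 0, 1, 2, 0, 1, 4, 1, 0, 1, 0, 2, 1, 3, 2, 3, 1, 0, 1, 2, 0, 1]), (1462, 471, [1, 0, 1, 0, 2, 1, 0, 1, 2, 0, 1, 0, 1, 3, 4, 1, 0, 1, 0, 2, 1, 3, 2, 3, 1, 0, 1, 2, 0, 1, 3, 4]), (1630, 471, [1, 0, 1,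 0, 2, 1, 0, 1, 2, 0, 1, 0, 1, 1, 0, 1, 0, 2, 1, 3, 2, 3, 1, 0, 1, 2, 0, 1, 4, 3, 1, 0, 1, 0, 2, 1, 3, 2, 3, 1, 0, 1, 2, 0, 1, 3]), (1256, 471, [1, 0, 1, 0, 2, 1, 0, 1, 2, 0, 1, 0, 1, 1, 0, 1, 0, 2, 1, 3, 2, 3, 1, 0, 1, 2, 0, 1, 4, 1, 0, 1, 0, 2, 1, 3, 2, 3, 1, 0, 1, 2, 0, 1, 3, 4]), (674, 471, [1, 0, 1, 0, 2, 1, 0, 1, 2, 0, 1, 0, 1, 1, 0, 1, 0, 2, 1, 3, 2, 3, 1, 0, 1, 2, 0, 1, 4, 1, 0, 1, 0, 2, 1, 3, 2, 3, 1, 0, 1, 2, 0, 1, 1, 0, 1, 0, 2, 1, 3, 2, 3, 1, 0, 1, 2, 0, 1, 4]), (1460, 471, [1, 0, 1, 0, 2, 1, 3, 2, 3, 1, 0, 1, 2, 0, 1, 3, 4, 1, 0, 1, 0, 2, 1, 3, 2, 3, 1, 0, 1, 2, 0, 1, 4, 3]), (889, 471, [1, 0, 1, 0, 2, 1, 3, 2, 3, 1, 0, 1, 2, 0, 1, 3, 4, 1, 0, 1, 0,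 2, 1, 3, 2, 3, 1, 0, 1, 2, 0, 1, 4, 1, 0, 1, 0, 2, 1, 3, 2, 3, 1, 0, 1, 2, 0, 1]), (896, 471, [1, 0, 1, 0, 2, 1, 3, 2, 3, 1, 0, 1, 2, 0, 1, 4, 3, 1, 0, 1, 0, 2, 1, 3, 2, 3, 1, 0, 1, 2, 0, 1, 1, 0, 1, 0, 2, 1, 3, 2, 3, 1, 0, 1, 2, 0, 1, 4]), (894, 471, [1, 0, 1, 0, 2, 1, 3, 2, 3, 1, 0, 1, 2, 0, 1, 4, 1, 0, 1, 0, 2, 1, 3, 2, 3, 1, 0, 1, 2, 0, 1, 3, 2, 4]), (607, 471, [1, 0, 1, 0, 2, 1, 3, 2, 3, 1, 0, 1, 2, 0, 1, 4, 1, 0, 1, 0, 2, 1, 3, 2, 3, 1, 0, 1, 2, 0, 1, 3, 4, 1, 0, 1, 0, 2, 1, 0, 1, 2, 0, 1, 0, 1]), (1266, 471, [0, 3, 4, 1, 0, 1, 0, 2, 1, 3, 2, 3, 1, 0, 1, 2, 0, 1, 3, 4, 3]), (1226, 471, [0, 3, 4, 1, 0, 1, 0, 2, 1, 3, 2, 3, 1, 0, 1, 2, 0, 1, 4, 3, 1, 0, 1,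 0, 2, 1, 3, 2, 3, 1, 0, 1, 2, 0, 1]), (1255, 471, [0, 1, 0, 1, 0, 2, 1, 3, 2, 3, 1, 0, 1, 2, 0, 1, 4, 3, 1, 0, 1, 0, 2, 1, 3, 2, 3, 1, 0, 1, 2, 0, 1, 1, 0, 1, 0, 2, 1, 3, 2, 3, 1, 0, 1, 2, 0, 1, 4]), (695, 471, [2, 3, 4, 1, 0, 1, 0, 2, 1, 3, 2, 3, 1, 0, 1, 2, 0, 1, 4, 3, 2]), (703, 471, [2, 3, 4, 1, 0, 1, 0, 2, 1, 3, 2, 3, 1, 0, 1, 2, 0, 1, 4, 3, 1, 0, 1, 0, 2, 1, 0, 1, 2, 0, 1, 0, 1]), (619, 471, [3, 4, 1, 0, 1, 0, 2, 1, 3, 2, 3, 1, 0, 1, 2, 0, 1, 3, 4, 3, 2]), (907, 471, [3, 4, 1, 0, 1, 0, 2, 1, 3, 2, 3, 1, 0, 1, 2, 0, 1, 3, 4, 3, 1, 0, 1, 0, 2, 1, 0, 1, 2, 0, 1, 0, 1]), (904, 471, [3, 4, 1, 0, 1, 0, 2, 1, 3, 2, 3, 1, 0, 1, 2, 0, 1, 4, 3, 2, 1, 0, 1, 0, 2, 1,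 3, 2, 3, 1, 0, 1, 2, 0, 1]), (909, 471, [3, 4, 1, 0, 1, 0, 2, 1, 3, 2, 3, 1, 0, 1, 2, 0, 1, 4, 3, 1, 0, 1, 0, 2, 1, 0, 1, 2, 0, 1, 0, 1, 1, 0, 1, 0, 2, 1, 3, 2, 3, 1, 0, 1, 2, 0, 1]), (82, 82, []), (81, 82, [0]), (117, 82, [3]), (128, 82, [4]), (234, 82, [1, 0, 1, 0, 2, 1, 3, 2, 3, 1, 0, 1, 2, 0, 1]), (116, 82, [0, 3]), (127, 82, [0, 4]), (233, 82, [0, 1, 0, 1, 0, 2, 1, 3, 2, 3, 1, 0, 1, 2, 0, 1]), (155, 82, [3, 2]), (178, 82, [3, 4]), (154, 82, [3, 1, 0, 1, 0, 2, 1, 0, 1, 2, 0, 1, 0, 1]), (195, 82, [4, 3]), (670, 82, [4, 1, 0, 1, 0, 2, 1, 3, 2, 3, 1, 0, 1, 2, 0, 1]), (358, 82, [1, 0, 1, 0, 2, 1, 3, 2, 3, 1, 0, 1, 2, 0, 1, 4]), (177, 82, [0, 3, 4]), (194, 82, [0,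 4, 3])]

def lowMoves_4 : List (ℕ × ℕ × List ℕ) := [(668, 82, [0, 4, 1, 0, 1, 0, 2, 1, 3, 2, 3, 1, 0, 1, 2, 0, 1]), (357, 82, [0, 1, 0, 1, 0, 2, 1, 3, 2, 3, 1, 0, 1, 2, 0, 1, 4]), (240, 82, [3, 2, 4]), (273, 82, [3, 4, 3]), (239, 82, [3, 4, 1, 0, 1, 0, 2, 1, 0, 1, 2, 0, 1, 0, 1]), (420, 82, [3, 4, 1, 0, 1, 0, 2, 1, 3, 2, 3, 1, 0, 1, 2, 0, 1]), (305, 82, [4, 3, 2]), (303, 82, [4, 3, 1, 0, 1, 0, 2, 1, 0, 1, 2, 0, 1, 0, 1]), (525, 82, [4, 3, 1, 0, 1, 0, 2, 1, 3, 2, 3, 1, 0, 1, 2, 0, 1]), (885, 82, [4, 1, 0, 1, 0, 2, 1, 3, 2, 3, 1, 0, 1, 2, 0, 1, 3]), (457, 82, [4, 1, 0, 1, 0, 2, 1, 3, 2, 3, 1, 0, 1, 2, 0, 1, 4]), (1098, 82, [4, 1, 0, 1, 0, 2, 1, 3, 2, 3, 1, 0, 1,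 2, 0, 1, 1, 0, 1, 0, 2, 1, 3, 2, 3, 1, 0, 1, 2, 0, 1]), (272, 82, [0, 3, 4, 3]), (421, 82, [0, 3, 4, 1, 0, 1, 0, 2, 1, 3, 2, 3, 1, 0, 1, 2, 0, 1]), (524, 82, [0, 4, 3, 1, 0, 1, 0, 2, 1, 3, 2, 3, 1, 0, 1, 2, 0, 1]), (883, 82, [0, 4, 1, 0, 1, 0, 2, 1, 3, 2, 3, 1, 0, 1, 2, 0, 1, 3]), (455, 82, [0, 4, 1, 0, 1, 0, 2, 1, 3, 2, 3, 1, 0, 1, 2, 0, 1, 4]), (1097, 82, [0, 4, 1, 0, 1, 0, 2, 1, 3, 2, 3, 1, 0, 1, 2, 0, 1, 1, 0, 1, 0, 2, 1, 3, 2, 3, 1, 0, 1, 2, 0, 1]), (365, 82, [3, 2, 4, 3]), (594, 82, [3, 2, 4, 1, 0, 1, 0, 2, 1, 3, 2, 3, 1, 0, 1, 2, 0, 1]), (408, 82, [3, 4, 3, 2]), (406, 82, [3, 4, 3, 1, 0, 1, 0, 2, 1, 0, 1, 2, 0, 1, 0, 1]), (1222, 82, [3, 4, 3, 1, 0, 1, 0,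 2, 1, 3, 2, 3, 1, 0, 1, 2, 0, 1]), (364, 82, [3, 4, 1, 0, 1, 0, 2, 1, 0, 1, 2, 0, 1, 0, 1, 3]), (592, 82, [3, 4, 1, 0, 1, 0, 2, 1, 0, 1, 2, 0, 1, 0, 1, 1, 0, 1, 0, 2, 1, 3, 2, 3, 1, 0, 1, 2, 0, 1]), (323, 82, [3, 4, 1, 0, 1, 0, 2, 1, 3, 2, 3, 1, 0, 1, 2, 0, 1, 3]), (1283, 82, [3, 4, 1, 0, 1, 0, 2, 1, 3, 2, 3, 1, 0, 1, 2, 0, 1, 1, 0, 1, 0, 2, 1, 3, 2, 3, 1, 0, 1, 2, 0, 1]), (763, 82, [4, 3, 2, 1, 0, 1, 0, 2, 1, 3, 2, 3, 1, 0, 1, 2, 0, 1]), (765, 82, [4, 3, 1, 0, 1, 0, 2, 1, 0, 1, 2, 0, 1, 0, 1, 1, 0, 1, 0, 2, 1, 3, 2, 3, 1, 0, 1, 2, 0, 1]), (955, 82, [4, 3, 1, 0, 1, 0, 2, 1, 3, 2, 3, 1, 0, 1, 2, 0, 1, 1, 0, 1, 0, 2, 1, 3, 2, 3, 1, 0, 1, 2, 0, 1]), (1111, 82, [4,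 1, 0, 1, 0, 2, 1, 3, 2, 3, 1, 0, 1, 2, 0, 1, 3, 2]), (604, 82, [4, 1, 0, 1, 0, 2, 1, 3, 2, 3, 1, 0, 1, 2, 0, 1, 3, 4]), (1303, 82, [4, 1, 0, 1, 0, 2, 1, 3, 2, 3, 1, 0, 1, 2, 0, 1, 4, 1, 0, 1, 0, 2, 1, 3, 2, 3, 1, 0, 1, 2, 0, 1]), (854, 82, [0, 3, 4, 3, 1, 0, 1, 0, 2, 1, 3, 2, 3, 1, 0, 1, 2, 0, 1]), (324, 82, [0, 3, 4, 1, 0, 1, 0, 2, 1, 3, 2, 3, 1, 0, 1, 2, 0, 1, 3]), (1305, 82, [0, 3, 4, 1, 0, 1, 0, 2, 1, 3, 2, 3, 1, 0, 1, 2, 0, 1, 1, 0, 1, 0, 2, 1, 3, 2, 3, 1, 0, 1, 2, 0, 1]), (602, 82, [0, 4, 1, 0, 1, 0, 2, 1, 3, 2, 3, 1, 0, 1, 2, 0, 1, 3, 4]), (1441, 82, [0, 4, 1, 0, 1, 0, 2, 1, 3, 2, 3, 1, 0, 1, 2, 0, 1, 4, 1, 0, 1, 0, 2, 1, 3, 2, 3, 1, 0, 1, 2, 0, 1]), (536,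 82, [3, 2, 4, 3, 2]), (534, 82, [3, 2, 4, 3, 1, 0, 1, 0, 2, 1, 0, 1, 2, 0, 1, 0, 1]), (698, 82, [3, 2, 4, 3, 1, 0, 1, 0, 2, 1, 3, 2, 3, 1, 0, 1, 2, 0, 1]), (871, 82, [3, 2, 4, 1, 0, 1, 0, 2, 1, 3, 2, 3, 1, 0, 1, 2, 0, 1, 3]), (451, 82, [3, 2, 4, 1, 0, 1, 0, 2, 1, 3, 2, 3, 1, 0, 1, 2, 0, 1, 4]), (962, 82, [3, 2, 4, 1, 0, 1, 0, 2, 1, 3, 2, 3, 1, 0, 1, 2, 0, 1, 1, 0, 1, 0, 2, 1, 3, 2, 3, 1, 0, 1, 2, 0, 1]), (1103, 82, [3, 4, 3, 2, 1, 0, 1, 0, 2, 1, 3, 2, 3, 1, 0, 1, 2, 0, 1]), (1232, 82, [3, 4, 3, 1, 0, 1, 0, 2, 1, 0, 1, 2, 0, 1, 0, 1, 1, 0, 1, 0, 2, 1, 3, 2, 3, 1, 0, 1, 2, 0, 1]), (1422, 82, [3, 4, 3, 1, 0, 1, 0, 2, 1, 3, 2, 3, 1, 0, 1, 2, 0, 1, 3]), (938, 82, [3,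 4, 3, 1, 0, 1, 0, 2, 1, 3, 2, 3, 1, 0, 1, 2, 0, 1, 4]), (639, 82, [3, 4, 3, 1, 0, 1, 0, 2, 1, 3, 2, 3, 1, 0, 1, 2, 0, 1, 1, 0, 1, 0, 2, 1, 3, 2, 3, 1, 0, 1, 2, 0, 1]), (1004, 82, [3, 4, 1, 0, 1, 0, 2, 1, 0, 1, 2, 0, 1, 0, 1, 3, 1, 0, 1, 0, 2, 1, 3, 2, 3, 1, 0, 1, 2, 0, 1]), (781, 82, [3, 4, 1, 0, 1, 0, 2, 1, 0, 1, 2, 0, 1, 0, 1, 1, 0, 1, 0, 2, 1, 3, 2, 3, 1, 0, 1, 2, 0, 1, 3]), (449, 82, [3, 4, 1, 0, 1, 0, 2, 1, 0, 1, 2, 0, 1, 0, 1, 1, 0, 1, 0, 2, 1, 3, 2, 3, 1, 0, 1, 2, 0, 1, 4]), (960, 82, [3, 4, 1, 0, 1, 0, 2, 1, 0, 1, 2, 0, 1, 0, 1, 1, 0, 1, 0, 2, 1, 3, 2, 3, 1, 0, 1, 2, 0, 1, 1, 0, 1, 0, 2, 1, 3, 2, 3, 1, 0, 1, 2, 0, 1]), (1005, 82, [3, 4, 1, 0, 1, 0, 2, 1,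 3, 2, 3, 1, 0, 1, 2, 0, 1, 1, 0, 1, 0, 2, 1, 3, 2, 3, 1, 0, 1, 2, 0, 1, 3]), (931, 82, [3, 4, 1, 0, 1, 0, 2, 1, 3, 2, 3, 1, 0, 1, 2, 0, 1, 1, 0, 1, 0, 2, 1, 3, 2, 3, 1, 0, 1, 2, 0, 1, 4]), (775, 82, [3, 4, 1, 0, 1, 0, 2, 1, 3, 2, 3, 1, 0, 1, 2, 0, 1, 1, 0, 1, 0, 2, 1, 3, 2, 3, 1, 0, 1, 2, 0, 1, 1, 0, 1, 0, 2, 1, 3, 2, 3, 1, 0, 1, 2, 0, 1]), (776, 82, [4, 3, 1, 0, 1, 0, 2, 1, 3, 2, 3, 1, 0, 1, 2, 0, 1, 1, 0, 1, 0, 2, 1, 3, 2, 3, 1, 0, 1, 2, 0, 1, 4]), (662, 82, [4, 1, 0, 1, 0, 2, 1, 3, 2, 3, 1, 0, 1, 2, 0, 1, 3, 4, 1, 0, 1, 0, 2, 1, 3, 2, 3, 1, 0, 1, 2, 0, 1]), (1215, 82, [0, 3, 4, 3, 1, 0, 1, 0, 2, 1, 3, 2, 3, 1, 0, 1, 2, 0, 1, 3]), (1351, 82, [0, 3, 4, 1, 0, 1,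 0, 2, 1, 3, 2, 3, 1, 0, 1, 2, 0, 1, 1, 0, 1, 0, 2, 1, 3, 2, 3, 1, 0, 1, 2, 0, 1, 3])]

def lowMoves_5 : List (ℕ × ℕ × List ℕ) := [(958, 82, [0, 3, 4, 1, 0, 1, 0, 2, 1, 3, 2, 3, 1, 0, 1, 2, 0, 1, 1, 0, 1, 0, 2, 1, 3, 2, 3, 1, 0, 1, 2, 0, 1, 4]), (660, 82, [0, 4, 1, 0, 1, 0, 2, 1, 3, 2, 3, 1, 0, 1, 2, 0, 1, 3, 4, 1, 0, 1, 0, 2, 1, 3, 2, 3, 1, 0, 1, 2, 0, 1]), (906, 82, [3, 2, 4, 3, 1, 0, 1, 0, 2, 1, 3, 2, 3, 1, 0, 1, 2, 0, 1, 3]), (1073, 82, [3, 4, 3, 1, 0, 1, 0, 2, 1, 3, 2, 3, 1, 0, 1, 2, 0, 1, 3, 2]), (690, 690, []), (474, 690, [3]), (644, 690, [1, 0, 1, 0, 2, 1, 3, 2, 3, 1, 0, 1, 2, 0, 1]), (439, 690, [3, 2]), (687, 690, [3, 4]), (643, 690, [3, 2, 4]), (1780,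 690, [3, 4, 1, 0, 1, 0, 2, 1, 3, 2, 3, 1, 0, 1, 2, 0, 1]), (1759, 690, [3, 2, 4, 1, 0, 1, 0, 2, 1, 3, 2, 3, 1, 0, 1, 2, 0, 1]), (1781, 690, [3, 4, 1, 0, 1, 0, 2, 1, 3, 2, 3, 1, 0, 1, 2, 0, 1, 3]), (1775, 690, [3, 2, 4, 1, 0, 1, 0, 2, 1, 3, 2, 3, 1, 0, 1, 2, 0, 1, 3])]

def lowMoves : List (ℕ × ℕ × List ℕ) := lowMoves_0 ++ lowMoves_1 ++ lowMoves_2 ++ lowMoves_3 ++ lowMoves_4 ++ lowMoves_5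

def lowTree0_0 : List (ℕ × ℕ × List ℕ) := [(688, 472, []), (688, 614, [0]), (688, 317, [2]), (688, 201, [2, 3]), (688, 312, [2, 3, 4]), (688, 415, [1, 0, 1, 0, 2, 1, 0, 1, 2, 0, 1, 0, 1]), (688, 278, [1, 0, 1, 0, 2, 1, 0, 1, 2, 0, 1, 0, 1, 3]), (688, 180, [1, 0, 1, 0, 2, 1, 3, 2, 3, 1, 0, 1, 2, 0, 1]), (688, 413, [1, 0, 1, 0, 2, 1, 0, 1, 2, 0, 1, 0, 1, 3, 4]), (688, 130, [0, 1, 0, 1, 0, 2, 1, 3, 2, 3, 1, 0, 1, 2, 0, 1]), (688, 275, [1, 0, 1, 0, 2, 1, 3, 2, 3, 1, 0, 1, 2, 0, 1, 4]), (688, 197, [0, 1, 0, 1, 0, 2, 1, 3, 2, 3, 1, 0, 1, 2, 0, 1, 4]), (688, 410, [1, 0, 1, 0, 2, 1, 3, 2, 3, 1, 0, 1, 2, 0, 1, 4, 3]), (688, 308, [0, 1, 0, 1, 0, 2, 1, 3, 2, 3, 1, 0, 1,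 2, 0, 1, 4, 3]), (688, 1122, [2, 3, 4, 1, 0, 1, 0, 2, 1, 3, 2, 3, 1, 0, 1, 2, 0, 1]), (688, 611, [1, 0, 1, 0, 2, 1, 3, 2, 3, 1, 0, 1, 2, 0, 1, 4, 3, 2]), (688, 1461, [2, 3, 4, 1, 0, 1, 0, 2, 1, 3, 2, 3, 1, 0, 1, 2, 0, 1, 3]), (688, 780, [1, 0, 1, 0, 2, 1, 0, 1, 2, 0, 1, 0, 1, 3, 4, 1, 0, 1, 0, 2, 1, 3, 2, 3, 1, 0, 1, 2, 0, 1]), (688, 465, [1, 0, 1, 0, 2, 1, 3, 2, 3, 1, 0, 1, 2, 0, 1, 4, 3, 1, 0, 1, 0, 2, 1, 0, 1, 2, 0, 1, 0, 1]), (688, 1452, [1, 0, 1, 0, 2, 1, 3, 2, 3, 1, 0, 1, 2, 0, 1, 4, 1, 0, 1, 0, 2, 1, 3, 2, 3, 1, 0, 1, 2, 0, 1]), (688, 1115, [1, 0, 1, 0, 2, 1, 0, 1, 2, 0, 1, 0, 1, 3, 4, 1, 0, 1, 0, 2, 1, 3, 2, 3, 1, 0, 1, 2, 0, 1, 3]), (688, 1102, [0, 1,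 0, 1, 0, 2, 1, 3, 2, 3, 1, 0, 1, 2, 0, 1, 4, 1, 0, 1, 0, 2, 1, 3, 2, 3, 1, 0, 1, 2, 0, 1]), (688, 1616, [1, 0, 1, 0, 2, 1, 3, 2, 3, 1, 0, 1, 2, 0, 1, 4, 3, 1, 0, 1, 0, 2, 1, 3, 2, 3, 1, 0, 1, 2, 0, 1]), (688, 1615, [1, 0, 1, 0, 2, 1, 3, 2, 3, 1, 0, 1, 2, 0, 1, 4, 1, 0, 1, 0, 2, 1, 3, 2, 3, 1, 0, 1, 2, 0, 1, 3]), (688, 1307, [0, 1, 0, 1, 0, 2, 1, 3, 2, 3, 1, 0, 1, 2, 0, 1, 4, 3, 1, 0, 1, 0, 2, 1, 3, 2, 3, 1, 0, 1, 2, 0, 1]), (688, 1756, [2, 3, 4, 1, 0, 1, 0, 2, 1, 3, 2, 3, 1, 0, 1, 2, 0, 1, 1, 0, 1, 0, 2, 1, 3, 2, 3, 1, 0, 1, 2, 0, 1]), (688, 1617, [1, 0, 1, 0, 2, 1, 3, 2, 3, 1, 0, 1, 2, 0, 1, 4, 3, 2, 1, 0, 1, 0, 2, 1, 3, 2, 3, 1, 0, 1, 2, 0, 1]), (688, 1459, [1,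 0, 1, 0, 2, 1, 3, 2, 3, 1, 0, 1, 2, 0, 1, 4, 3, 1, 0, 1, 0, 2, 1, 3, 2, 3, 1, 0, 1, 2, 0, 1, 3]), (688, 1290, [0, 1, 0, 1, 0, 2, 1, 3, 2, 3, 1, 0, 1, 2, 0, 1, 4, 3, 1, 0, 1, 0, 2, 1, 3, 2, 3, 1, 0, 1, 2, 0, 1, 3]), (688, 1699, [1, 0, 1, 0, 2, 1, 0, 1, 2, 0, 1, 0, 1, 3, 4, 1, 0, 1, 0, 2, 1, 3, 2, 3, 1, 0, 1, 2, 0, 1, 1, 0, 1, 0, 2, 1, 3, 2, 3, 1, 0, 1, 2, 0, 1]), (688, 1757, [1, 0, 1, 0, 2, 1, 3, 2, 3, 1, 0, 1, 2, 0, 1, 4, 3, 1, 0, 1, 0, 2, 1, 0, 1, 2, 0, 1, 0, 1, 1, 0, 1, 0, 2, 1, 3, 2, 3, 1, 0, 1, 2, 0, 1]), (688, 1445, [1, 0, 1, 0, 2, 1, 3, 2, 3, 1, 0, 1, 2, 0, 1, 4, 1, 0, 1, 0, 2, 1, 3, 2, 3, 1, 0, 1, 2, 0, 1, 1, 0, 1, 0, 2, 1, 3, 2, 3, 1, 0, 1, 2, 0, 1]), (472,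 901, [0, 1]), (472, 471, [1, 0, 1, 0, 2, 1, 0, 1, 2, 0, 1, 0, 1, 1]), (472, 316, [1, 0, 1, 0, 2, 1, 0, 1, 2, 0, 1, 0, 1, 3, 1]), (472, 117, [1, 0, 1, 0, 2, 1, 3, 2, 3, 1, 0, 1, 2, 0, 1, 1]), (472, 468, [1, 0, 1, 0, 2, 1, 0, 1, 2, 0, 1, 0, 1, 3, 4, 1]), (472, 82, [0, 1, 0, 1, 0, 2, 1, 3, 2, 3, 1, 0, 1, 2, 0, 1, 1]), (472, 178, [1, 0, 1, 0, 2, 1, 3, 2, 3, 1, 0, 1, 2, 0, 1, 4, 1]), (472, 128, [0, 1, 0, 1, 0, 2, 1, 3, 2, 3, 1, 0, 1, 2, 0, 1, 4, 1]), (472, 273, [1, 0, 1, 0, 2, 1, 3, 2, 3, 1, 0, 1, 2, 0, 1, 4, 3, 1]), (472, 195, [0, 1, 0, 1, 0, 2, 1, 3, 2, 3, 1, 0, 1, 2, 0, 1, 4, 3, 1]), (472, 1422, [2, 3, 4, 1, 0, 1, 0, 2, 1, 3, 2, 3, 1, 0, 1, 2, 0, 1, 1]), (472, 421,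 [1, 0, 1, 0, 2, 1, 3, 2, 3, 1, 0, 1, 2, 0, 1, 4, 3, 2, 1]), (472, 1222, [2, 3, 4, 1, 0, 1, 0, 2, 1, 3, 2, 3, 1, 0, 1, 2, 0, 1, 3, 1]), (472, 534, [1, 0, 1, 0, 2, 1, 0, 1, 2, 0, 1, 0, 1, 3, 4, 1, 0, 1, 0, 2, 1, 3, 2, 3, 1, 0, 1, 2, 0, 1, 1]), (472, 324, [1, 0, 1, 0, 2, 1, 3, 2, 3, 1, 0, 1, 2, 0, 1, 4, 3, 1, 0, 1, 0, 2, 1, 0, 1, 2, 0, 1, 0, 1, 1]), (472, 1351, [1, 0, 1, 0, 2, 1, 3, 2, 3, 1, 0, 1, 2, 0, 1, 4, 1, 0, 1, 0, 2, 1, 3, 2, 3, 1, 0, 1, 2, 0, 1, 1]), (472, 775, [1, 0, 1, 0, 2, 1, 0, 1, 2, 0, 1, 0, 1, 3, 4, 1, 0, 1, 0, 2, 1, 3, 2, 3, 1, 0, 1, 2, 0, 1, 3, 1]), (472, 763, [0, 1, 0, 1, 0, 2, 1, 3, 2, 3, 1, 0, 1, 2, 0, 1, 4, 1, 0, 1, 0, 2, 1, 3, 2, 3, 1, 0, 1,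 2, 0, 1, 1]), (472, 1441, [1, 0, 1, 0, 2, 1, 3, 2, 3, 1, 0, 1, 2, 0, 1, 4, 3, 1, 0, 1, 0, 2, 1, 3, 2, 3, 1, 0, 1, 2, 0, 1, 1]), (472, 1305, [1, 0, 1, 0, 2, 1, 3, 2, 3, 1, 0, 1, 2, 0, 1, 4, 1, 0, 1, 0, 2, 1, 3, 2, 3, 1, 0, 1, 2, 0, 1, 3, 1]), (472, 958, [0, 1, 0, 1, 0, 2, 1, 3, 2, 3, 1, 0, 1, 2, 0, 1, 4, 3, 1, 0, 1, 0, 2, 1, 3, 2, 3, 1, 0, 1, 2, 0, 1, 1]), (472, 1619, [2, 3, 4, 1, 0, 1, 0, 2, 1, 3, 2, 3, 1, 0, 1, 2, 0, 1, 1, 0, 1, 0, 2, 1, 3, 2, 3, 1, 0, 1, 2, 0, 1, 1]), (472, 1314, [1, 0, 1, 0, 2, 1, 3, 2, 3, 1, 0, 1, 2, 0, 1, 4, 3, 2, 1, 0, 1, 0, 2, 1, 3, 2, 3, 1, 0, 1, 2, 0, 1, 1]), (472, 1111, [1, 0, 1, 0, 2, 1, 3, 2, 3, 1, 0, 1, 2, 0, 1, 4, 3, 1, 0, 1, 0, 2,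 1, 3, 2, 3, 1, 0, 1, 2, 0, 1, 3, 1]), (472, 938, [0, 1, 0, 1, 0, 2, 1, 3, 2, 3, 1, 0, 1, 2, 0, 1, 4, 3, 1, 0, 1, 0, 2, 1, 3, 2, 3, 1, 0, 1, 2, 0, 1, 3, 1]), (472, 1097, [1, 0, 1, 0, 2, 1, 3, 2, 3, 1, 0, 1, 2, 0, 1, 4, 1, 0, 1, 0, 2, 1, 3, 2, 3, 1, 0, 1, 2, 0, 1, 1, 0, 1, 0, 2, 1, 3, 2, 3, 1, 0, 1, 2, 0, 1, 1]), (614, 689, [0, 1, 0]), (614, 438, [1, 0, 1, 0, 2, 1, 0, 1, 2, 0, 1, 0, 1, 1, 0])]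

def lowTree0_1 : List (ℕ × ℕ × List ℕ) := [(614, 294, [1, 0, 1, 0, 2, 1, 0, 1, 2, 0, 1, 0, 1, 3, 1, 0]), (614, 116, [1, 0, 1, 0, 2, 1, 3, 2, 3, 1, 0, 1, 2, 0, 1, 1, 0]), (614, 436, [1, 0, 1, 0, 2, 1, 0, 1, 2, 0, 1, 0, 1, 3, 4, 1, 0]), (614, 81, [0, 1, 0, 1, 0, 2, 1, 3, 2, 3, 1, 0, 1, 2, 0, 1, 1, 0]), (614, 177, [1, 0, 1, 0, 2, 1, 3, 2, 3, 1, 0, 1, 2, 0, 1, 4, 1, 0]), (614, 127, [0, 1, 0, 1, 0, 2, 1, 3, 2, 3, 1, 0, 1, 2, 0, 1, 4, 1, 0]), (614, 272, [1, 0, 1, 0, 2, 1, 3, 2, 3, 1, 0, 1, 2, 0, 1, 4, 3, 1, 0]), (614, 194, [0, 1, 0, 1, 0, 2, 1, 3, 2, 3, 1, 0, 1, 2, 0, 1, 4, 3, 1, 0]), (614, 1215, [2, 3, 4, 1, 0, 1, 0, 2, 1, 3, 2, 3, 1, 0, 1, 2, 0, 1, 1, 0]), (614, 420,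 [1, 0, 1, 0, 2, 1, 3, 2, 3, 1, 0, 1, 2, 0, 1, 4, 3, 2, 1, 0]), (614, 854, [2, 3, 4, 1, 0, 1, 0, 2, 1, 3, 2, 3, 1, 0, 1, 2, 0, 1, 3, 1, 0]), (614, 536, [1, 0, 1, 0, 2, 1, 0, 1, 2, 0, 1, 0, 1, 3, 4, 1, 0, 1, 0, 2, 1, 3, 2, 3, 1, 0, 1, 2, 0, 1, 1, 0]), (614, 323, [1, 0, 1, 0, 2, 1, 3, 2, 3, 1, 0, 1, 2, 0, 1, 4, 3, 1, 0, 1, 0, 2, 1, 0, 1, 2, 0, 1, 0, 1, 1, 0]), (614, 1005, [1, 0, 1, 0, 2, 1, 3, 2, 3, 1, 0, 1, 2, 0, 1, 4, 1, 0, 1, 0, 2, 1, 3, 2, 3, 1, 0, 1, 2, 0, 1, 1, 0]), (614, 776, [1, 0, 1, 0, 2, 1, 0, 1, 2, 0, 1, 0, 1, 3, 4, 1, 0, 1, 0, 2, 1, 3, 2, 3, 1, 0, 1, 2, 0, 1, 3, 1, 0]), (614, 765, [0, 1, 0, 1, 0, 2, 1, 3, 2, 3, 1, 0, 1, 2, 0, 1, 4, 1, 0, 1, 0, 2, 1, 3,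 2, 3, 1, 0, 1, 2, 0, 1, 1, 0]), (614, 1303, [1, 0, 1, 0, 2, 1, 3, 2, 3, 1, 0, 1, 2, 0, 1, 4, 3, 1, 0, 1, 0, 2, 1, 3, 2, 3, 1, 0, 1, 2, 0, 1, 1, 0]), (614, 1283, [1, 0, 1, 0, 2, 1, 3, 2, 3, 1, 0, 1, 2, 0, 1, 4, 1, 0, 1, 0, 2, 1, 3, 2, 3, 1, 0, 1, 2, 0, 1, 3, 1, 0]), (614, 931, [0, 1, 0, 1, 0, 2, 1, 3, 2, 3, 1, 0, 1, 2, 0, 1, 4, 3, 1, 0, 1, 0, 2, 1, 3, 2, 3, 1, 0, 1, 2, 0, 1, 1, 0]), (614, 1696, [2, 3, 4, 1, 0, 1, 0, 2, 1, 3, 2, 3, 1, 0, 1, 2, 0, 1, 1, 0, 1, 0, 2, 1, 3, 2, 3, 1, 0, 1, 2, 0, 1, 1, 0]), (614, 1622, [1, 0, 1, 0, 2, 1, 3, 2, 3, 1, 0, 1, 2, 0, 1, 4, 3, 2, 1, 0, 1, 0, 2, 1, 3, 2, 3, 1, 0, 1, 2, 0, 1, 1, 0]), (614, 955, [1, 0, 1, 0, 2, 1, 3, 2, 3, 1, 0,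 1, 2, 0, 1, 4, 3, 1, 0, 1, 0, 2, 1, 3, 2, 3, 1, 0, 1, 2, 0, 1, 3, 1, 0]), (614, 639, [0, 1, 0, 1, 0, 2, 1, 3, 2, 3, 1, 0, 1, 2, 0, 1, 4, 3, 1, 0, 1, 0, 2, 1, 3, 2, 3, 1, 0, 1, 2, 0, 1, 3, 1, 0]), (614, 1098, [1, 0, 1, 0, 2, 1, 3, 2, 3, 1, 0, 1, 2, 0, 1, 4, 1, 0, 1, 0, 2, 1, 3, 2, 3, 1, 0, 1, 2, 0, 1, 1, 0, 1, 0, 2, 1, 3, 2, 3, 1, 0, 1, 2, 0, 1, 1, 0]), (317, 615, [0, 1, 2]), (317, 470, [1, 0, 1, 0, 2, 1, 0, 1, 2, 0, 1, 0, 1, 1, 2]), (317, 200, [1, 0, 1, 0, 2, 1, 0, 1, 2, 0, 1, 0, 1, 3, 1, 2]), (317, 155, [1, 0, 1, 0, 2, 1, 3, 2, 3, 1, 0, 1, 2, 0, 1, 1, 2]), (317, 311, [1, 0, 1, 0, 2, 1, 0, 1, 2, 0, 1, 0, 1, 3, 4, 1, 2]), (317, 240, [1, 0, 1, 0, 2, 1, 3, 2, 3, 1,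 0, 1, 2, 0, 1, 4, 1, 2]), (317, 408, [1, 0, 1, 0, 2, 1, 3, 2, 3, 1, 0, 1, 2, 0, 1, 4, 3, 1, 2]), (317, 305, [0, 1, 0, 1, 0, 2, 1, 3, 2, 3, 1, 0, 1, 2, 0, 1, 4, 3, 1, 2]), (317, 1073, [2, 3, 4, 1, 0, 1, 0, 2, 1, 3, 2, 3, 1, 0, 1, 2, 0, 1, 1, 2]), (317, 594, [1, 0, 1, 0, 2, 1, 3, 2, 3, 1, 0, 1, 2, 0, 1, 4, 3, 2, 1, 2]), (317, 1232, [2, 3, 4, 1, 0, 1, 0, 2, 1, 3, 2, 3, 1, 0, 1, 2, 0, 1, 3, 1, 2]), (317, 364, [1, 0, 1, 0, 2, 1, 0, 1, 2, 0, 1, 0, 1, 3, 4, 1, 0, 1, 0, 2, 1, 3, 2, 3, 1, 0, 1, 2, 0, 1, 1, 2]), (317, 451, [1, 0, 1, 0, 2, 1, 3, 2, 3, 1, 0, 1, 2, 0, 1, 4, 3, 1, 0, 1, 0, 2, 1, 0, 1, 2, 0, 1, 0, 1, 1, 2]), (317, 1004, [1, 0, 1, 0, 2, 1, 3, 2, 3, 1, 0, 1, 2,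 0, 1, 4, 1, 0, 1, 0, 2, 1, 3, 2, 3, 1, 0, 1, 2, 0, 1, 1, 2]), (317, 604, [1, 0, 1, 0, 2, 1, 0, 1, 2, 0, 1, 0, 1, 3, 4, 1, 0, 1, 0, 2, 1, 3, 2, 3, 1, 0, 1, 2, 0, 1, 3, 1, 2]), (317, 524, [0, 1, 0, 1, 0, 2, 1, 3, 2, 3, 1, 0, 1, 2, 0, 1, 4, 1, 0, 1, 0, 2, 1, 3, 2, 3, 1, 0, 1, 2, 0, 1, 1, 2]), (317, 960, [1, 0, 1, 0, 2, 1, 3, 2, 3, 1, 0, 1, 2, 0, 1, 4, 1, 0, 1, 0, 2, 1, 3, 2, 3, 1, 0, 1, 2, 0, 1, 3, 1, 2]), (317, 660, [0, 1, 0, 1, 0, 2, 1, 3, 2, 3, 1, 0, 1, 2, 0, 1, 4, 3, 1, 0, 1, 0, 2, 1, 3, 2, 3, 1, 0, 1, 2, 0, 1, 1, 2]), (317, 1311, [2, 3, 4, 1, 0, 1, 0, 2, 1, 3, 2, 3, 1, 0, 1, 2, 0, 1, 1, 0, 1, 0, 2, 1, 3, 2, 3, 1, 0, 1, 2, 0, 1, 1, 2]), (317, 966, [1, 0, 1, 0,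 2, 1, 3, 2, 3, 1, 0, 1, 2, 0, 1, 4, 3, 2, 1, 0, 1, 0, 2, 1, 3, 2, 3, 1, 0, 1, 2, 0, 1, 1, 2]), (317, 885, [1, 0, 1, 0, 2, 1, 3, 2, 3, 1, 0, 1, 2, 0, 1, 4, 3, 1, 0, 1, 0, 2, 1, 3, 2, 3, 1, 0, 1, 2, 0, 1, 3, 1, 2]), (317, 871, [0, 1, 0, 1, 0, 2, 1, 3, 2, 3, 1, 0, 1, 2, 0, 1, 4, 3, 1, 0, 1, 0, 2, 1, 3, 2, 3, 1, 0, 1, 2, 0, 1, 3, 1, 2]), (201, 416, [0, 1, 2, 3]), (201, 314, [1, 0, 1, 0, 2, 1, 0, 1, 2, 0, 1, 0, 1, 1, 2, 3]), (201, 277, [1, 0, 1, 0, 2, 1, 0, 1, 2, 0, 1, 0, 1, 3, 1, 2, 3]), (201, 234, [1, 0, 1, 0, 2, 1, 3, 2, 3, 1, 0, 1, 2, 0, 1, 1, 2, 3]), (201, 464, [1, 0, 1, 0, 2, 1, 0, 1, 2, 0, 1, 0, 1, 3, 4, 1, 2, 3]), (201, 365, [1, 0, 1, 0, 2, 1, 3, 2, 3, 1, 0,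 1, 2, 0, 1, 4, 1, 2, 3]), (201, 457, [0, 1, 0, 1, 0, 2, 1, 3, 2, 3, 1, 0, 1, 2, 0, 1, 4, 3, 1, 2, 3]), (201, 962, [2, 3, 4, 1, 0, 1, 0, 2, 1, 3, 2, 3, 1, 0, 1, 2, 0, 1, 3, 1, 2, 3]), (201, 239, [1, 0, 1, 0, 2, 1, 0, 1, 2, 0, 1, 0, 1, 3, 4, 1, 0, 1, 0, 2, 1, 3, 2, 3, 1, 0, 1, 2, 0, 1, 1, 2, 3]), (201, 662, [1, 0, 1, 0, 2, 1, 3, 2, 3, 1, 0, 1, 2, 0, 1, 4, 3, 1, 0, 1, 0, 2, 1, 0, 1, 2, 0, 1, 0, 1, 1, 2, 3]), (201, 357, [0, 1, 0, 1, 0, 2, 1, 3, 2, 3, 1, 0, 1, 2, 0, 1, 4, 1, 0, 1, 0, 2, 1, 3, 2, 3, 1, 0, 1, 2, 0, 1, 1, 2, 3]), (201, 1103, [1, 0, 1, 0, 2, 1, 3, 2, 3, 1, 0, 1, 2, 0, 1, 4, 1, 0, 1, 0, 2, 1, 3, 2, 3, 1, 0, 1, 2, 0, 1, 3, 1, 2, 3]), (201, 449, [0, 1, 0,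 1, 0, 2, 1, 3, 2, 3, 1, 0, 1, 2, 0, 1, 4, 3, 1, 0, 1, 0, 2, 1, 3, 2, 3, 1, 0, 1, 2, 0, 1, 1, 2, 3]), (201, 1449, [2, 3, 4, 1, 0, 1, 0, 2, 1, 3, 2, 3, 1, 0, 1, 2, 0, 1, 1, 0, 1, 0, 2, 1, 3, 2, 3, 1, 0, 1, 2, 0, 1, 1, 2, 3])]

def lowTree0_2 : List (ℕ × ℕ × List ℕ) := [(201, 666, [1, 0, 1, 0, 2, 1, 3, 2, 3, 1, 0, 1, 2, 0, 1, 4, 3, 2, 1, 0, 1, 0, 2, 1, 3, 2, 3, 1, 0, 1, 2, 0, 1, 1, 2, 3]), (201, 670, [1, 0, 1, 0, 2, 1, 3, 2, 3, 1, 0, 1, 2, 0, 1, 4, 3, 1, 0, 1, 0, 2, 1, 3, 2, 3, 1, 0, 1, 2, 0, 1, 3, 1, 2, 3]), (312, 613, [0, 1, 2, 3, 4]), (312, 467, [1, 0, 1, 0, 2, 1, 0, 1, 2, 0, 1, 0, 1, 1, 2, 3, 4]), (312, 412, [1, 0, 1, 0, 2, 1, 0, 1, 2, 0, 1, 0, 1, 3, 1, 2, 3,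 4]), (312, 358, [1, 0, 1, 0, 2, 1, 3, 2, 3, 1, 0, 1, 2, 0, 1, 1, 2, 3, 4]), (312, 610, [1, 0, 1, 0, 2, 1, 0, 1, 2, 0, 1, 0, 1, 3, 4, 1, 2, 3, 4]), (312, 525, [1, 0, 1, 0, 2, 1, 3, 2, 3, 1, 0, 1, 2, 0, 1, 4, 1, 2, 3, 4]), (312, 154, [1, 0, 1, 0, 2, 1, 0, 1, 2, 0, 1, 0, 1, 3, 4, 1, 0, 1, 0, 2, 1, 3, 2, 3, 1, 0, 1, 2, 0, 1, 1, 2, 3, 4]), (312, 233, [0, 1, 0, 1, 0, 2, 1, 3, 2, 3, 1, 0, 1, 2, 0, 1, 4, 1, 0, 1, 0, 2, 1, 3, 2, 3, 1, 0, 1, 2, 0, 1, 1, 2, 3, 4]), (312, 781, [1, 0, 1, 0, 2, 1, 3, 2, 3, 1, 0, 1, 2, 0, 1, 4, 1, 0, 1, 0, 2, 1, 3, 2, 3, 1, 0, 1, 2, 0, 1, 3, 1, 2, 3, 4]), (312, 592, [0, 1, 0, 1, 0, 2, 1, 3, 2, 3, 1, 0, 1, 2, 0, 1, 4, 3, 1, 0, 1, 0, 2, 1, 3, 2,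 3, 1, 0, 1, 2, 0, 1, 1, 2, 3, 4]), (312, 1119, [2, 3, 4, 1, 0, 1, 0, 2, 1, 3, 2, 3, 1, 0, 1, 2, 0, 1, 1, 0, 1, 0, 2, 1, 3, 2, 3, 1, 0, 1, 2, 0, 1, 1, 2, 3, 4]), (312, 874, [1, 0, 1, 0, 2, 1, 3, 2, 3, 1, 0, 1, 2, 0, 1, 4, 3, 2, 1, 0, 1, 0, 2, 1, 3, 2, 3, 1, 0, 1, 2, 0, 1, 1, 2, 3, 4]), (415, 473, [0, 1, 0, 2]), (415, 315, [1, 0, 1, 0, 2, 1, 0, 1, 2, 0, 1, 0, 1, 1, 0, 2]), (415, 188, [1, 0, 1, 0, 2, 1, 0, 1, 2, 0, 1, 0, 1, 3, 1, 0, 2]), (415, 290, [1, 0, 1, 0, 2, 1, 0, 1, 2, 0, 1, 0, 1, 3, 4, 1, 0, 2]), (415, 406, [1, 0, 1, 0, 2, 1, 3, 2, 3, 1, 0, 1, 2, 0, 1, 4, 3, 1, 0, 2]), (415, 303, [0, 1, 0, 1, 0, 2, 1, 3, 2, 3, 1, 0, 1, 2, 0, 1, 4, 3, 1, 0, 2]), (415, 906,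 [2, 3, 4, 1, 0, 1, 0, 2, 1, 3, 2, 3, 1, 0, 1, 2, 0, 1, 1, 0, 2]), (415, 698, [1, 0, 1, 0, 2, 1, 3, 2, 3, 1, 0, 1, 2, 0, 1, 4, 1, 0, 1, 0, 2, 1, 3, 2, 3, 1, 0, 1, 2, 0, 1, 1, 0, 2]), (415, 602, [1, 0, 1, 0, 2, 1, 0, 1, 2, 0, 1, 0, 1, 3, 4, 1, 0, 1, 0, 2, 1, 3, 2, 3, 1, 0, 1, 2, 0, 1, 3, 1, 0, 2]), (415, 1444, [2, 3, 4, 1, 0, 1, 0, 2, 1, 3, 2, 3, 1, 0, 1, 2, 0, 1, 1, 0, 1, 0, 2, 1, 3, 2, 3, 1, 0, 1, 2, 0, 1, 1, 0, 2]), (415, 1313, [1, 0, 1, 0, 2, 1, 3, 2, 3, 1, 0, 1, 2, 0, 1, 4, 3, 2, 1, 0, 1, 0, 2, 1, 3, 2, 3, 1, 0, 1, 2, 0, 1, 1, 0, 2]), (415, 883, [1, 0, 1, 0, 2, 1, 3, 2, 3, 1, 0, 1, 2, 0, 1, 4, 3, 1, 0, 1, 0, 2, 1, 3, 2, 3, 1, 0, 1, 2, 0, 1, 3, 1, 0, 2]), (278,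 318, [0, 1, 0, 2, 3]), (278, 199, [1, 0, 1, 0, 2, 1, 0, 1, 2, 0, 1, 0, 1, 1, 0, 2, 3]), (278, 267, [1, 0, 1, 0, 2, 1, 0, 1, 2, 0, 1, 0, 1, 3, 1, 0, 2, 3]), (278, 433, [1, 0, 1, 0, 2, 1, 0, 1, 2, 0, 1, 0, 1, 3, 4, 1, 0, 2, 3]), (278, 455, [0, 1, 0, 1, 0, 2, 1, 3, 2, 3, 1, 0, 1, 2, 0, 1, 4, 3, 1, 0, 2, 3]), (278, 1101, [2, 3, 4, 1, 0, 1, 0, 2, 1, 3, 2, 3, 1, 0, 1, 2, 0, 1, 1, 0, 1, 0, 2, 1, 3, 2, 3, 1, 0, 1, 2, 0, 1, 1, 0, 2, 3]), (278, 970, [1, 0, 1, 0, 2, 1, 3, 2, 3, 1, 0, 1, 2, 0, 1, 4, 3, 2, 1, 0, 1, 0, 2, 1, 3, 2, 3, 1, 0, 1, 2, 0, 1, 1, 0, 2, 3]), (278, 668, [1, 0, 1, 0, 2, 1, 3, 2, 3, 1, 0, 1, 2, 0, 1, 4, 3, 1, 0, 1, 0, 2, 1, 3, 2, 3, 1, 0, 1, 2, 0, 1, 3,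 1, 0, 2, 3]), (180, 202, [0, 1, 0, 2, 3, 2]), (180, 129, [1, 0, 1, 0, 2, 1, 0, 1, 2, 0, 1, 0, 1, 1, 0, 2, 3, 2]), (180, 276, [1, 0, 1, 0, 2, 1, 0, 1, 2, 0, 1, 0, 1, 3, 1, 0, 2, 3, 2]), (180, 642, [1, 0, 1, 0, 2, 1, 0, 1, 2, 0, 1, 0, 1, 3, 4, 1, 0, 2, 3, 2]), (180, 1320, [2, 3, 4, 1, 0, 1, 0, 2, 1, 3, 2, 3, 1, 0, 1, 2, 0, 1, 1, 0, 1, 0, 2, 1, 3, 2, 3, 1, 0, 1, 2, 0, 1, 1, 0, 2, 3, 2]), (180, 1319, [1, 0, 1, 0, 2, 1, 3, 2, 3, 1, 0, 1, 2, 0, 1, 4, 3, 2, 1, 0, 1, 0, 2, 1, 3, 2, 3, 1, 0, 1, 2, 0, 1, 1, 0, 2, 3, 2]), (413, 469, [0, 1, 0, 2, 3, 4]), (413, 310, [1, 0, 1, 0, 2, 1, 0, 1, 2, 0, 1, 0, 1, 1, 0, 2, 3, 4]), (413, 396, [1, 0, 1, 0, 2, 1, 0, 1, 2, 0, 1, 0, 1, 3,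 1, 0, 2, 3, 4]), (413, 581, [1, 0, 1, 0, 2, 1, 0, 1, 2, 0, 1, 0, 1, 3, 4, 1, 0, 2, 3, 4]), (413, 779, [2, 3, 4, 1, 0, 1, 0, 2, 1, 3, 2, 3, 1, 0, 1, 2, 0, 1, 1, 0, 1, 0, 2, 1, 3, 2, 3, 1, 0, 1, 2, 0, 1, 1, 0, 2, 3, 4]), (413, 1114, [1, 0, 1, 0, 2, 1, 3, 2, 3, 1, 0, 1, 2, 0, 1, 4, 3, 2, 1, 0, 1, 0, 2, 1, 3, 2, 3, 1, 0, 1, 2, 0, 1, 1, 0, 2, 3, 4]), (130, 279, [0, 1, 2, 3, 2]), (130, 198, [1, 0, 1, 0, 2, 1, 0, 1, 2, 0, 1, 0, 1, 1, 2, 3, 2]), (130, 179, [1, 0, 1, 0, 2, 1, 0, 1, 2, 0, 1, 0, 1, 3, 1, 2, 3, 2]), (130, 685, [1, 0, 1, 0, 2, 1, 0, 1, 2, 0, 1, 0, 1, 3, 4, 1, 2, 3, 2]), (130, 1592, [2, 3, 4, 1, 0, 1, 0, 2, 1, 3, 2, 3, 1, 0, 1, 2, 0, 1, 1, 0, 1, 0, 2, 1, 3,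 2, 3, 1, 0, 1, 2, 0, 1, 1, 2, 3, 2]), (130, 971, [1, 0, 1, 0, 2, 1, 3, 2, 3, 1, 0, 1, 2, 0, 1, 4, 3, 2, 1, 0, 1, 0, 2, 1, 3, 2, 3, 1, 0, 1, 2, 0, 1, 1, 2, 3, 2]), (275, 313, [0, 1, 0, 2, 3, 2, 4]), (275, 196, [1, 0, 1, 0, 2, 1, 0, 1, 2, 0, 1, 0, 1, 1, 0, 2, 3, 2, 4]), (275, 411, [1, 0, 1, 0, 2, 1, 0, 1, 2, 0, 1, 0, 1, 3, 1, 0, 2, 3, 2, 4]), (275, 857, [1, 0, 1, 0, 2, 1, 0, 1, 2, 0, 1, 0, 1, 3, 4, 1, 0, 2, 3, 2, 4]), (275, 1013, [2, 3, 4, 1, 0, 1, 0, 2, 1, 3, 2, 3, 1, 0, 1, 2, 0, 1, 1, 0, 1, 0, 2, 1, 3, 2, 3, 1, 0, 1, 2, 0, 1, 1, 0, 2, 3, 2, 4]), (275, 1339, [1, 0, 1, 0, 2, 1, 3, 2, 3, 1, 0, 1, 2, 0, 1, 4, 3, 2, 1, 0, 1, 0, 2, 1, 3, 2, 3, 1, 0, 1, 2, 0, 1, 1, 0,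 2, 3, 2, 4]), (197, 414, [0, 1, 2, 3, 2, 4]), (197, 309, [1, 0, 1, 0, 2, 1, 0, 1, 2, 0, 1, 0, 1, 1, 2, 3, 2, 4])]

def lowTree0_3 : List (ℕ × ℕ × List ℕ) := [(197, 274, [1, 0, 1, 0, 2, 1, 0, 1, 2, 0, 1, 0, 1, 3, 1, 2, 3, 2, 4]), (197, 899, [1, 0, 1, 0, 2, 1, 0, 1, 2, 0, 1, 0, 1, 3, 4, 1, 2, 3, 2, 4]), (197, 1343, [2, 3, 4, 1, 0, 1, 0, 2, 1, 3, 2, 3, 1, 0, 1, 2, 0, 1, 1, 0, 1, 0, 2, 1, 3, 2, 3, 1, 0, 1, 2, 0, 1, 1, 2, 3, 2, 4]), (197, 1234, [1, 0, 1, 0, 2, 1, 3, 2, 3, 1, 0, 1, 2, 0, 1, 4, 3, 2, 1, 0, 1, 0, 2, 1, 3, 2, 3, 1, 0, 1, 2, 0, 1, 1, 2, 3, 2, 4]), (410, 466, [0, 1, 0, 2, 3, 2, 4, 3]), (410, 307, [1, 0, 1, 0, 2, 1, 0, 1, 2, 0, 1, 0, 1, 1, 0, 2, 3, 2, 4, 3]),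 (410, 608, [1, 0, 1, 0, 2, 1, 0, 1, 2, 0, 1, 0, 1, 3, 1, 0, 2, 3, 2, 4, 3]), (410, 1225, [1, 0, 1, 0, 2, 1, 0, 1, 2, 0, 1, 0, 1, 3, 4, 1, 0, 2, 3, 2, 4, 3]), (410, 702, [2, 3, 4, 1, 0, 1, 0, 2, 1, 3, 2, 3, 1, 0, 1, 2, 0, 1, 1, 0, 1, 0, 2, 1, 3, 2, 3, 1, 0, 1, 2, 0, 1, 1, 0, 2, 3, 2, 4, 3]), (410, 1266, [1, 0, 1, 0, 2, 1, 3, 2, 3, 1, 0, 1, 2, 0, 1, 4, 3, 2, 1, 0, 1, 0, 2, 1, 3, 2, 3, 1, 0, 1, 2, 0, 1, 1, 0, 2, 3, 2, 4, 3]), (308, 612, [0, 1, 2, 3, 2, 4, 3]), (308, 462, [1, 0, 1, 0, 2, 1, 0, 1, 2, 0, 1, 0, 1, 1, 2, 3, 2, 4, 3]), (308, 409, [1, 0, 1, 0, 2, 1, 0, 1, 2, 0, 1, 0, 1, 3, 1, 2, 3, 2, 4, 3]), (308, 1260, [1, 0, 1, 0, 2, 1, 0, 1, 2, 0, 1, 0, 1, 3, 4, 1, 2,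 3, 2, 4, 3]), (308, 1012, [2, 3, 4, 1, 0, 1, 0, 2, 1, 3, 2, 3, 1, 0, 1, 2, 0, 1, 1, 0, 1, 0, 2, 1, 3, 2, 3, 1, 0, 1, 2, 0, 1, 1, 2, 3, 2, 4, 3]), (308, 908, [1, 0, 1, 0, 2, 1, 3, 2, 3, 1, 0, 1, 2, 0, 1, 4, 3, 2, 1, 0, 1, 0, 2, 1, 3, 2, 3, 1, 0, 1, 2, 0, 1, 1, 2, 3, 2, 4, 3]), (1122, 1342, [1, 0, 1, 0, 2, 1, 3, 2, 3, 1, 0, 1, 2, 0, 1, 1, 0, 2, 1, 3, 2, 1, 0, 4, 3, 2, 1, 0]), (1122, 1655, [1, 0, 1, 0, 2, 1, 0, 1, 2, 0, 1, 0, 1, 3, 4, 1, 0, 2, 1, 3, 2, 1, 0, 4, 3, 2, 1, 0]), (1122, 1120, [2, 3, 4, 1, 0, 1, 0, 2, 1, 3, 2, 3, 1, 0, 1, 2, 0, 1, 1, 0, 2, 1, 3, 2, 1, 0, 4, 3, 2, 1, 0]), (1122, 1261, [1, 0, 1, 0, 2, 1, 3, 2, 3, 1, 0, 1, 2, 0, 1, 4, 1, 0, 1, 0, 2, 1, 3,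 2, 3, 1, 0, 1, 2, 0, 1, 1, 0, 2, 1, 3, 2, 1, 0, 4, 3, 2, 1, 0]), (1122, 782, [1, 0, 1, 0, 2, 1, 3, 2, 3, 1, 0, 1, 2, 0, 1, 4, 3, 1, 0, 1, 0, 2, 1, 3, 2, 3, 1, 0, 1, 2, 0, 1, 1, 0, 2, 1, 3, 2, 1, 0, 4, 3, 2, 1, 0]), (1122, 1466, [1, 0, 1, 0, 2, 1, 0, 1, 2, 0, 1, 0, 1, 3, 4, 1, 0, 1, 0, 2, 1, 3, 2, 3, 1, 0, 1, 2, 0, 1, 1, 0, 1, 0, 2, 1, 3, 2, 3, 1, 0, 1, 2, 0, 1, 1, 0, 2, 1, 3, 2, 1, 0, 4, 3, 2, 1, 0]), (611, 686, [0, 1, 0, 2, 3, 2, 4, 3, 2]), (611, 463, [1, 0, 1, 0, 2, 1, 0, 1, 2, 0, 1, 0, 1, 1, 0, 2, 3, 2, 4, 3, 2]), (611, 897, [1, 0, 1, 0, 2, 1, 0, 1, 2, 0, 1, 0, 1, 3, 1, 0, 2, 3, 2, 4, 3, 2]), (611, 898, [1, 0, 1, 0, 2, 1, 0, 1, 2, 0, 1, 0, 1, 3, 4, 1, 0, 2,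 3, 2, 4, 3, 2]), (611, 481, [2, 3, 4, 1, 0, 1, 0, 2, 1, 3, 2, 3, 1, 0, 1, 2, 0, 1, 1, 0, 1, 0, 2, 1, 3, 2, 3, 1, 0, 1, 2, 0, 1, 1, 0, 2, 3, 2, 4, 3, 2]), (611, 907, [1, 0, 1, 0, 2, 1, 3, 2, 3, 1, 0, 1, 2, 0, 1, 4, 3, 2, 1, 0, 1, 0, 2, 1, 3, 2, 3, 1, 0, 1, 2, 0, 1, 1, 0, 2, 3, 2, 4, 3, 2]), (1461, 993, [1, 0, 1, 0, 2, 1, 3, 2, 3, 1, 0, 1, 2, 0, 1, 1, 0, 2, 3, 2, 1, 4, 3, 2, 3, 2, 1, 0]), (1461, 1761, [1, 0, 1, 0, 2, 1, 0, 1, 2, 0, 1, 0, 1, 3, 4, 1, 0, 2, 3, 2, 1, 4, 3, 2, 3, 2, 1, 0]), (1461, 1338, [2, 3, 4, 1, 0, 1, 0, 2, 1, 3, 2, 3, 1, 0, 1, 2, 0, 1, 1, 0, 2, 3, 2, 1, 4, 3, 2, 3, 2, 1, 0]), (1461, 1594, [1, 0, 1, 0, 2, 1, 3, 2, 3, 1, 0, 1, 2, 0, 1, 4, 1, 0, 1,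 0, 2, 1, 3, 2, 3, 1, 0, 1, 2, 0, 1, 1, 0, 2, 3, 2, 1, 4, 3, 2, 3, 2, 1, 0]), (1461, 1116, [1, 0, 1, 0, 2, 1, 3, 2, 3, 1, 0, 1, 2, 0, 1, 4, 3, 1, 0, 1, 0, 2, 1, 3, 2, 3, 1, 0, 1, 2, 0, 1, 1, 0, 2, 3, 2, 1, 4, 3, 2, 3, 2, 1, 0]), (1461, 1255, [1, 0, 1, 0, 2, 1, 0, 1, 2, 0, 1, 0, 1, 3, 4, 1, 0, 1, 0, 2, 1, 3, 2, 3, 1, 0, 1, 2, 0, 1, 1, 0, 1, 0, 2, 1, 3, 2, 3, 1, 0, 1, 2, 0, 1, 1, 0, 2, 3, 2, 1, 4, 3, 2, 3, 2, 1, 0]), (780, 1258, [1, 0, 1, 0, 2, 1, 3, 2, 3, 1, 0, 1, 2, 0, 1, 1, 0, 2, 1, 3, 2, 1, 0, 4, 3, 2, 1]), (780, 1363, [1, 0, 1, 0, 2, 1, 0, 1, 2, 0, 1, 0, 1, 3, 4, 1, 0, 2, 1, 3, 2, 1, 0, 4, 3, 2, 1]), (780, 1465, [2, 3, 4, 1, 0, 1, 0, 2, 1, 3, 2, 3, 1, 0, 1, 2,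 0, 1, 1, 0, 2, 1, 3, 2, 1, 0, 4, 3, 2, 1]), (780, 1595, [1, 0, 1, 0, 2, 1, 3, 2, 3, 1, 0, 1, 2, 0, 1, 4, 1, 0, 1, 0, 2, 1, 3, 2, 3, 1, 0, 1, 2, 0, 1, 1, 0, 2, 1, 3, 2, 1, 0, 4, 3, 2, 1]), (780, 1121, [1, 0, 1, 0, 2, 1, 3, 2, 3, 1, 0, 1, 2, 0, 1, 4, 3, 1, 0, 1, 0, 2, 1, 3, 2, 3, 1, 0, 1, 2, 0, 1, 1, 0, 2, 1, 3, 2, 1, 0, 4, 3, 2, 1]), (780, 1249, [1, 0, 1, 0, 2, 1, 0, 1, 2, 0, 1, 0, 1, 3, 4, 1, 0, 1, 0, 2, 1, 3, 2, 3, 1, 0, 1, 2, 0, 1, 1, 0, 1, 0, 2, 1, 3, 2, 3, 1, 0, 1, 2, 0, 1, 1, 0, 2, 1, 3, 2, 1, 0, 4, 3, 2, 1]), (465, 900, [0, 1, 2, 3, 2, 4, 3, 2]), (465, 684, [1, 0, 1, 0, 2, 1, 0, 1, 2, 0, 1, 0, 1, 1, 2, 3, 2, 4, 3, 2]), (465, 609, [1, 0, 1, 0, 2, 1, 0, 1,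 2, 0, 1, 0, 1, 3, 1, 2, 3, 2, 4, 3, 2]), (465, 1259, [1, 0, 1, 0, 2, 1, 0, 1, 2, 0, 1, 0, 1, 3, 4, 1, 2, 3, 2, 4, 3, 2]), (465, 701, [2, 3, 4, 1, 0, 1, 0, 2, 1, 3, 2, 3, 1, 0, 1, 2, 0, 1, 1, 0, 1, 0, 2, 1, 3, 2, 3, 1, 0, 1, 2, 0, 1, 1, 2, 3, 2, 4, 3, 2]), (465, 619, [1, 0, 1, 0, 2, 1, 3, 2, 3, 1, 0, 1, 2, 0, 1, 4, 3, 2, 1, 0, 1, 0, 2, 1, 3, 2, 3, 1, 0, 1, 2, 0, 1, 1, 2, 3, 2, 4, 3, 2]), (1452, 1340, [1, 0, 1, 0, 2, 1, 3, 2, 3, 1, 0, 1, 2, 0, 1, 1, 0, 2, 1, 3, 2, 1, 0, 1, 4, 3, 2, 1, 0]), (1452, 1639, [1, 0, 1, 0, 2, 1, 0, 1, 2, 0, 1, 0, 1, 3, 4, 1, 0, 2, 1, 3, 2, 1, 0, 1, 4, 3, 2, 1, 0]), (1452, 1450, [2, 3, 4, 1, 0, 1, 0, 2, 1, 3, 2, 3, 1, 0, 1, 2, 0, 1, 1, 0,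 2, 1, 3, 2, 1, 0, 1, 4, 3, 2, 1, 0]), (1452, 1104, [1, 0, 1, 0, 2, 1, 3, 2, 3, 1, 0, 1, 2, 0, 1, 4, 1, 0, 1, 0, 2, 1, 3, 2, 3, 1, 0, 1, 2, 0, 1, 1, 0, 2, 1, 3, 2, 1, 0, 1, 4, 3, 2, 1, 0]), (1452, 994, [1, 0, 1, 0, 2, 1, 3, 2, 3, 1, 0, 1, 2, 0, 1, 4, 3, 1, 0, 1, 0, 2, 1, 3, 2, 3, 1, 0, 1, 2, 0, 1, 1, 0, 2, 1, 3, 2, 1, 0, 1, 4, 3, 2, 1, 0]), (1452, 1702, [1, 0, 1, 0, 2, 1, 0, 1, 2, 0, 1, 0, 1, 3, 4, 1, 0, 1, 0, 2, 1, 3, 2, 3, 1, 0, 1, 2, 0, 1, 1, 0, 1, 0, 2, 1, 3, 2, 3, 1, 0, 1, 2, 0, 1, 1, 0, 2, 1, 3, 2, 1, 0, 1, 4, 3, 2, 1, 0]), (1115, 1341, [1, 0, 1, 0, 2, 1, 3, 2, 3, 1, 0, 1, 2, 0, 1, 1, 0, 2, 3, 2, 1, 4, 3, 2, 3, 2, 1]), (1115, 1630, [1, 0, 1, 0, 2, 1, 0, 1,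 2, 0, 1, 0, 1, 3, 4, 1, 0, 2, 3, 2, 1, 4, 3, 2, 3, 2, 1]), (1115, 1253, [2, 3, 4, 1, 0, 1, 0, 2, 1, 3, 2, 3, 1, 0, 1, 2, 0, 1, 1, 0, 2, 3, 2, 1, 4, 3, 2, 3, 2, 1]), (1115, 1321, [1, 0, 1, 0, 2, 1, 3, 2, 3, 1, 0, 1, 2, 0, 1, 4, 1, 0, 1, 0, 2, 1, 3, 2, 3, 1, 0, 1, 2, 0, 1, 1, 0, 2, 3, 2, 1, 4, 3, 2, 3, 2, 1]), (1115, 1460, [1, 0, 1, 0, 2, 1, 3, 2, 3, 1, 0, 1, 2, 0, 1, 4, 3, 1, 0, 1, 0, 2, 1, 3, 2, 3, 1, 0, 1, 2, 0, 1, 1, 0, 2, 3, 2, 1, 4, 3, 2, 3, 2, 1]), (1115, 896, [1, 0, 1, 0, 2, 1, 0, 1, 2, 0, 1, 0, 1, 3, 4, 1, 0, 1, 0, 2, 1, 3, 2, 3, 1, 0, 1, 2, 0, 1, 1, 0, 1, 0, 2, 1, 3, 2, 3, 1, 0, 1, 2, 0, 1, 1, 0, 2, 3, 2, 1, 4, 3, 2, 3, 2, 1]), (1102, 992, [1, 0, 1, 0,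 2, 1, 3, 2, 3, 1, 0, 1, 2, 0, 1, 1, 0, 2, 1, 3, 2, 1, 0, 1, 4, 3, 2, 1]), (1102, 1352, [1, 0, 1, 0, 2, 1, 0, 1, 2, 0, 1, 0, 1, 3, 4, 1, 0, 2, 1, 3, 2, 1, 0, 1, 4, 3, 2, 1])]

def lowTree0_4 : List (ℕ × ℕ × List ℕ) := [(1102, 1701, [2, 3, 4, 1, 0, 1, 0, 2, 1, 3, 2, 3, 1, 0, 1, 2, 0, 1, 1, 0, 2, 1, 3, 2, 1, 0, 1, 4, 3, 2, 1]), (1102, 1451, [1, 0, 1, 0, 2, 1, 3, 2, 3, 1, 0, 1, 2, 0, 1, 4, 1, 0, 1, 0, 2, 1, 3, 2, 3, 1, 0, 1, 2, 0, 1, 1, 0, 2, 1, 3, 2, 1, 0, 1, 4, 3, 2, 1]), (1102, 1344, [1, 0, 1, 0, 2, 1, 3, 2, 3, 1, 0, 1, 2, 0, 1, 4, 3, 1, 0, 1, 0, 2, 1, 3, 2, 3, 1, 0, 1, 2, 0, 1, 1, 0, 2, 1, 3, 2, 1, 0, 1, 4, 3, 2, 1]), (1102, 1589, [1, 0, 1, 0, 2, 1, 0, 1, 2, 0,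 1, 0, 1, 3, 4, 1, 0, 1, 0, 2, 1, 3, 2, 3, 1, 0, 1, 2, 0, 1, 1, 0, 1, 0, 2, 1, 3, 2, 3, 1, 0, 1, 2, 0, 1, 1, 0, 2, 1, 3, 2, 1, 0, 1, 4, 3, 2, 1]), (1616, 895, [1, 0, 1, 0, 2, 1, 3, 2, 3, 1, 0, 1, 2, 0, 1, 1, 0, 2, 3, 2, 1, 4, 3, 2, 3, 2, 1, 4, 3]), (1616, 1584, [1, 0, 1, 0, 2, 1, 0, 1, 2, 0, 1, 0, 1, 3, 4, 1, 0, 2, 3, 2, 1, 4, 3, 2, 3, 2, 1, 4, 3]), (1616, 1330, [2, 3, 4, 1, 0, 1, 0, 2, 1, 3, 2, 3, 1, 0, 1, 2, 0, 1, 1, 0, 2, 3, 2, 1, 4, 3, 2, 3, 2, 1, 4, 3]), (1616, 1267, [1, 0, 1, 0, 2, 1, 3, 2, 3, 1, 0, 1, 2, 0, 1, 4, 1, 0, 1, 0, 2, 1, 3, 2, 3, 1, 0, 1, 2, 0, 1, 1, 0, 2, 3, 2, 1, 4, 3, 2, 3, 2, 1, 4, 3]), (1616, 1605, [1, 0, 1, 0, 2, 1, 3, 2, 3, 1, 0, 1, 2, 0,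 1, 4, 3, 1, 0, 1, 0, 2, 1, 3, 2, 3, 1, 0, 1, 2, 0, 1, 1, 0, 2, 3, 2, 1, 4, 3, 2, 3, 2, 1, 4, 3]), (1616, 982, [1, 0, 1, 0, 2, 1, 0, 1, 2, 0, 1, 0, 1, 3, 4, 1, 0, 1, 0, 2, 1, 3, 2, 3, 1, 0, 1, 2, 0, 1, 1, 0, 1, 0, 2, 1, 3, 2, 3, 1, 0, 1, 2, 0, 1, 1, 0, 2, 3, 2, 1, 4, 3, 2, 3, 2, 1, 4, 3]), (1615, 1588, [1, 0, 1, 0, 2, 1, 0, 1, 2, 0, 1, 0, 1, 3, 1, 2, 3, 2, 1, 4, 3, 2, 1, 0, 3, 2, 1, 4]), (1615, 1626, [1, 0, 1, 0, 2, 1, 3, 2, 3, 1, 0, 1, 2, 0, 1, 4, 1, 2, 3, 2, 1, 4, 3, 2, 1, 0, 3, 2, 1, 4]), (1615, 1446, [2, 3, 4, 1, 0, 1, 0, 2, 1, 3, 2, 3, 1, 0, 1, 2, 0, 1, 1, 2, 3, 2, 1, 4, 3, 2, 1, 0, 3, 2, 1, 4]), (1615, 1697, [1, 0, 1, 0, 2, 1, 3, 2, 3, 1, 0, 1, 2, 0, 1, 4,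 1, 0, 1, 0, 2, 1, 3, 2, 3, 1, 0, 1, 2, 0, 1, 1, 2, 3, 2, 1, 4, 3, 2, 1, 0, 3, 2, 1, 4]), (1615, 990, [1, 0, 1, 0, 2, 1, 3, 2, 3, 1, 0, 1, 2, 0, 1, 4, 3, 1, 0, 1, 0, 2, 1, 0, 1, 2, 0, 1, 0, 1, 1, 0, 1, 0, 2, 1, 3, 2, 3, 1, 0, 1, 2, 0, 1, 1, 2, 3, 2, 1, 4, 3, 2, 1, 0, 3, 2, 1, 4]), (1615, 940, [1, 0, 1, 0, 2, 1, 3, 2, 3, 1, 0, 1, 2, 0, 1, 4, 1, 0, 1, 0, 2, 1, 3, 2, 3, 1, 0, 1, 2, 0, 1, 1, 0, 1, 0, 2, 1, 3, 2, 3, 1, 0, 1, 2, 0, 1, 1, 2, 3, 2, 1, 4, 3, 2, 1, 0, 3, 2, 1, 4]), (1307, 1746, [1, 0, 1, 0, 2, 1, 0, 1, 2, 0, 1, 0, 1, 3, 1, 2, 3, 2, 1, 4, 3, 2, 1, 0, 3, 2, 1]), (1307, 1331, [1, 0, 1, 0, 2, 1, 3, 2, 3, 1, 0, 1, 2, 0, 1, 4, 1, 2, 3, 2, 1, 4, 3, 2, 1, 0, 3, 2,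 1]), (1307, 1315, [2, 3, 4, 1, 0, 1, 0, 2, 1, 3, 2, 3, 1, 0, 1, 2, 0, 1, 1, 2, 3, 2, 1, 4, 3, 2, 1, 0, 3, 2, 1]), (1307, 1621, [1, 0, 1, 0, 2, 1, 3, 2, 3, 1, 0, 1, 2, 0, 1, 4, 1, 0, 1, 0, 2, 1, 3, 2, 3, 1, 0, 1, 2, 0, 1, 1, 2, 3, 2, 1, 4, 3, 2, 1, 0, 3, 2, 1]), (1307, 1254, [1, 0, 1, 0, 2, 1, 3, 2, 3, 1, 0, 1, 2, 0, 1, 4, 3, 1, 0, 1, 0, 2, 1, 0, 1, 2, 0, 1, 0, 1, 1, 0, 1, 0, 2, 1, 3, 2, 3, 1, 0, 1, 2, 0, 1, 1, 2, 3, 2, 1, 4, 3, 2, 1, 0, 3, 2, 1]), (1307, 1226, [1, 0, 1, 0, 2, 1, 3, 2, 3, 1, 0, 1, 2, 0, 1, 4, 1, 0, 1, 0, 2, 1, 3, 2, 3, 1, 0, 1, 2, 0, 1, 1, 0, 1, 0, 2, 1, 3, 2, 3, 1, 0, 1, 2, 0, 1, 1, 2, 3, 2, 1, 4, 3, 2, 1, 0, 3, 2, 1]), (1756, 1327, [1, 0, 1, 0,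 2, 1, 0, 1, 2, 0, 1, 0, 1, 3, 1, 2, 3, 2, 1, 4, 3, 2, 1, 0, 1, 3, 2, 1, 3]), (1756, 681, [1, 0, 1, 0, 2, 1, 3, 2, 3, 1, 0, 1, 2, 0, 1, 4, 1, 2, 3, 2, 1, 4, 3, 2, 1, 0, 1, 3, 2, 1, 3]), (1756, 1700, [2, 3, 4, 1, 0, 1, 0, 2, 1, 3, 2, 3, 1, 0, 1, 2, 0, 1, 1, 2, 3, 2, 1, 4, 3, 2, 1, 0, 1, 3, 2, 1, 3]), (1756, 1777, [1, 0, 1, 0, 2, 1, 3, 2, 3, 1, 0, 1, 2, 0, 1, 4, 1, 0, 1, 0, 2, 1, 3, 2, 3, 1, 0, 1, 2, 0, 1, 1, 2, 3, 2, 1, 4, 3, 2, 1, 0, 1, 3, 2, 1, 3]), (1756, 1247, [1, 0, 1, 0, 2, 1, 3, 2, 3, 1, 0, 1, 2, 0, 1, 4, 3, 1, 0, 1, 0, 2, 1, 0, 1, 2, 0, 1, 0, 1, 1, 0, 1, 0, 2, 1, 3, 2, 3, 1, 0, 1, 2, 0, 1, 1, 2, 3, 2, 1, 4, 3, 2, 1, 0, 1, 3, 2, 1, 3]), (1756, 695, [1, 0,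 1, 0, 2, 1, 3, 2, 3, 1, 0, 1, 2, 0, 1, 4, 1, 0, 1, 0, 2, 1, 3, 2, 3, 1, 0, 1, 2, 0, 1, 1, 0, 1, 0, 2, 1, 3, 2, 3, 1, 0, 1, 2, 0, 1, 1, 2, 3, 2, 1, 4, 3, 2, 1, 0, 1, 3, 2, 1, 3]), (1617, 1583, [1, 0, 1, 0, 2, 1, 0, 1, 2, 0, 1, 0, 1, 3, 1, 2, 3, 2, 1, 4, 3, 2, 1, 0, 1, 3, 2, 1]), (1617, 981, [1, 0, 1, 0, 2, 1, 3, 2, 3, 1, 0, 1, 2, 0, 1, 4, 1, 2, 3, 2, 1, 4, 3, 2, 1, 0, 1, 3, 2, 1]), (1617, 1623, [2, 3, 4, 1, 0, 1, 0, 2, 1, 3, 2, 3, 1, 0, 1, 2, 0, 1, 1, 2, 3, 2, 1, 4, 3, 2, 1, 0, 1, 3, 2, 1]), (1617, 1758, [1, 0, 1, 0, 2, 1, 3, 2, 3, 1, 0, 1, 2, 0, 1, 4, 1, 0, 1, 0, 2, 1, 3, 2, 3, 1, 0, 1, 2, 0, 1, 1, 2, 3, 2, 1, 4, 3, 2, 1, 0, 1, 3, 2, 1]), (1617, 894, [1, 0, 1,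 0, 2, 1, 3, 2, 3, 1, 0, 1, 2, 0, 1, 4, 3, 1, 0, 1, 0, 2, 1, 0, 1, 2, 0, 1, 0, 1, 1, 0, 1, 0, 2, 1, 3, 2, 3, 1, 0, 1, 2, 0, 1, 1, 2, 3, 2, 1, 4, 3, 2, 1, 0, 1, 3, 2, 1]), (1617, 904, [1, 0, 1, 0, 2, 1, 3, 2, 3, 1, 0, 1, 2, 0, 1, 4, 1, 0, 1, 0, 2, 1, 3, 2, 3, 1, 0, 1, 2, 0, 1, 1, 0, 1, 0, 2, 1, 3, 2, 3, 1, 0, 1, 2, 0, 1, 1, 2, 3, 2, 1, 4, 3, 2, 1, 0, 1, 3, 2, 1]), (1459, 1256, [1, 0, 1, 0, 2, 1, 3, 2, 3, 1, 0, 1, 2, 0, 1, 1, 0, 2, 3, 2, 1, 4, 3, 2, 3, 2, 1, 4]), (1459, 1747, [1, 0, 1, 0, 2, 1, 0, 1, 2, 0, 1, 0, 1, 3, 4, 1, 0, 2, 3, 2, 1, 4, 3, 2, 3, 2, 1, 4]), (1459, 989, [2, 3, 4, 1, 0, 1, 0, 2, 1, 3, 2, 3, 1, 0, 1, 2, 0, 1, 1, 0, 2, 3, 2, 1, 4, 3, 2, 3, 2, 1, 4]),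 (1459, 1462, [1, 0, 1, 0, 2, 1, 3, 2, 3, 1, 0, 1, 2, 0, 1, 4, 1, 0, 1, 0, 2, 1, 3, 2, 3, 1, 0, 1, 2, 0, 1, 1, 0, 2, 3, 2, 1, 4, 3, 2, 3, 2, 1, 4]), (1459, 1287, [1, 0, 1, 0, 2, 1, 3, 2, 3, 1, 0, 1, 2, 0, 1, 4, 3, 1, 0, 1, 0, 2, 1, 3, 2, 3, 1, 0, 1, 2, 0, 1, 1, 0, 2, 3, 2, 1, 4, 3, 2, 3, 2, 1, 4]), (1459, 683, [1, 0, 1, 0, 2, 1, 0, 1, 2, 0, 1, 0, 1, 3, 4, 1, 0, 1, 0, 2, 1, 3, 2, 3, 1, 0, 1, 2, 0, 1, 1, 0, 1, 0, 2, 1, 3, 2, 3, 1, 0, 1, 2, 0, 1, 1, 0, 2, 3, 2, 1, 4, 3, 2, 3, 2, 1, 4]), (1290, 991, [1, 0, 1, 0, 2, 1, 3, 2, 3, 1, 0, 1, 2, 0, 1, 1, 0, 2, 3, 2, 1, 4, 3, 2, 1, 3, 2, 1]), (1290, 1762, [1, 0, 1, 0, 2, 1, 0, 1, 2, 0, 1, 0, 1, 3, 4, 1, 0, 2, 3, 2, 1, 4, 3,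 2, 1, 3, 2, 1]), (1290, 1318, [2, 3, 4, 1, 0, 1, 0, 2, 1, 3, 2, 3, 1, 0, 1, 2, 0, 1, 1, 0, 2, 3, 2, 1, 4, 3, 2, 1, 3, 2, 1]), (1290, 972, [1, 0, 1, 0, 2, 1, 3, 2, 3, 1, 0, 1, 2, 0, 1, 4, 1, 0, 1, 0, 2, 1, 3, 2, 3, 1, 0, 1, 2, 0, 1, 1, 0, 2, 3, 2, 1, 4, 3, 2, 1, 3, 2, 1]), (1290, 1573, [1, 0, 1, 0, 2, 1, 3, 2, 3, 1, 0, 1, 2, 0, 1, 4, 3, 1, 0, 1, 0, 2, 1, 3, 2, 3, 1, 0, 1, 2, 0, 1, 1, 0, 2, 3, 2, 1, 4, 3, 2, 1, 3, 2, 1]), (1290, 1257, [1, 0, 1, 0, 2, 1, 0, 1, 2, 0, 1, 0, 1, 3, 4, 1, 0, 1, 0, 2, 1, 3, 2, 3, 1, 0, 1, 2, 0, 1, 1, 0, 1, 0, 2, 1, 3, 2, 3, 1, 0, 1, 2, 0, 1, 1, 0, 2, 3, 2, 1, 4, 3, 2, 1, 3, 2, 1]), (1699, 461, [1, 0, 1, 0, 2, 1, 3, 2, 3, 1, 0, 1, 2, 0,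 1, 1, 0, 2, 1, 3, 2, 1, 0, 1, 4, 3, 2, 1, 3, 2]), (1699, 976, [1, 0, 1, 0, 2, 1, 0, 1, 2, 0, 1, 0, 1, 3, 4, 1, 0, 2, 1, 3, 2, 1, 0, 1, 4, 3, 2, 1, 3, 2]), (1699, 1760, [2, 3, 4, 1, 0, 1, 0, 2, 1, 3, 2, 3, 1, 0, 1, 2, 0, 1, 1, 0, 2, 1, 3, 2, 1, 0, 1, 4, 3, 2, 1, 3, 2]), (1699, 1776, [1, 0, 1, 0, 2, 1, 3, 2, 3, 1, 0, 1, 2, 0, 1, 4, 1, 0, 1, 0, 2, 1, 3, 2, 3, 1, 0, 1, 2, 0, 1, 1, 0, 2, 1, 3, 2, 1, 0, 1, 4, 3, 2, 1, 3, 2]), (1699, 703, [1, 0, 1, 0, 2, 1, 3, 2, 3, 1, 0, 1, 2, 0, 1, 4, 3, 1, 0, 1, 0, 2, 1, 3, 2, 3, 1, 0, 1, 2, 0, 1, 1, 0, 2, 1, 3, 2, 1, 0, 1, 4, 3, 2, 1, 3, 2]), (1699, 889, [1, 0, 1, 0, 2, 1, 0, 1, 2, 0, 1, 0, 1, 3, 4, 1, 0, 1, 0, 2, 1, 3, 2, 3, 1, 0,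 1, 2, 0, 1, 1, 0, 1, 0, 2, 1, 3, 2, 3, 1, 0, 1, 2, 0, 1, 1, 0, 2, 1, 3, 2, 1, 0, 1, 4, 3, 2, 1, 3, 2]), (1757, 607, [1, 0, 1, 0, 2, 1, 3, 2, 3, 1, 0, 1, 2, 0, 1, 1, 0, 2, 3, 2, 1, 4, 3, 2, 3, 2, 1, 4, 3, 2]), (1757, 1241, [1, 0, 1, 0, 2, 1, 0, 1, 2, 0, 1, 0, 1, 3, 4, 1, 0, 2, 3, 2, 1, 4, 3, 2, 3, 2, 1, 4, 3, 2]), (1757, 1627, [2, 3, 4, 1, 0, 1, 0, 2, 1, 3, 2, 3, 1, 0, 1, 2, 0, 1, 1, 0, 2, 3, 2, 1, 4, 3, 2, 3, 2, 1, 4, 3, 2]), (1757, 909, [1, 0, 1, 0, 2, 1, 3, 2, 3, 1, 0, 1, 2, 0, 1, 4, 1, 0, 1, 0, 2, 1, 3, 2, 3, 1, 0, 1, 2, 0, 1, 1, 0, 2, 3, 2, 1, 4, 3, 2, 3, 2, 1, 4, 3, 2]), (1757, 1753, [1, 0, 1, 0, 2, 1, 3, 2, 3, 1, 0, 1, 2, 0, 1, 4, 3, 1, 0, 1, 0, 2, 1, 3,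 2, 3, 1, 0, 1, 2, 0, 1, 1, 0, 2, 3, 2, 1, 4, 3, 2, 3, 2, 1, 4, 3, 2]), (1757, 674, [1, 0, 1, 0, 2, 1, 0, 1, 2, 0, 1, 0, 1, 3, 4, 1, 0, 1, 0, 2, 1, 3, 2, 3, 1, 0, 1, 2, 0, 1, 1, 0, 1, 0, 2, 1, 3, 2, 3, 1, 0, 1, 2, 0, 1, 1, 0, 2, 3, 2, 1, 4, 3, 2, 3, 2, 1, 4, 3, 2]), (1445, 682, [1, 0, 1, 0, 2, 1, 3, 2, 3, 1, 0, 1, 2, 0, 1, 1, 0, 2, 1, 3, 2, 1, 0, 1, 4, 3, 2, 1, 3]), (1445, 1328, [1, 0, 1, 0, 2, 1, 0, 1, 2, 0, 1, 0, 1, 3, 4, 1, 0, 2, 1, 3, 2, 1, 0, 1, 4, 3, 2, 1, 3])]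

def lowTree0_5 : List (ℕ × ℕ × List ℕ) := [(1445, 1625, [2, 3, 4, 1, 0, 1, 0, 2, 1, 3, 2, 3, 1, 0, 1, 2, 0, 1, 1, 0, 2, 1, 3, 2, 1, 0, 1, 4, 3, 2, 1, 3]), (1445, 1698, [1, 0, 1, 0, 2, 1, 3, 2, 3, 1, 0, 1, 2, 0, 1, 4, 1, 0, 1, 0, 2, 1, 3, 2, 3, 1, 0, 1, 2, 0, 1, 1, 0, 2, 1, 3, 2, 1, 0, 1, 4, 3, 2, 1, 3]), (1445, 1014, [1, 0, 1, 0, 2, 1, 3, 2, 3, 1, 0, 1, 2, 0, 1, 4, 3, 1, 0, 1, 0, 2, 1, 3, 2, 3, 1, 0, 1, 2, 0, 1, 1, 0, 2, 1, 3, 2, 1, 0, 1, 4, 3, 2, 1, 3]), (1445, 1248, [1, 0, 1, 0, 2, 1, 0, 1, 2, 0, 1, 0, 1, 3, 4, 1, 0, 1, 0, 2, 1, 3, 2, 3, 1, 0, 1, 2, 0, 1, 1, 0, 1, 0, 2, 1, 3, 2, 3, 1, 0, 1, 2, 0, 1, 1, 0, 2, 1, 3, 2, 1, 0, 1, 4, 3, 2, 1, 3]), (901, 644, [1,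 0, 1, 0, 2, 1, 0, 1, 2, 0, 1, 0, 1, 1, 0, 1]), (901, 439, [1, 0, 1, 0, 2, 1, 0, 1, 2, 0, 1, 0, 1, 3, 1, 0, 1]), (901, 643, [1, 0, 1, 0, 2, 1, 0, 1, 2, 0, 1, 0, 1, 3, 4, 1, 0, 1]), (901, 1775, [2, 3, 4, 1, 0, 1, 0, 2, 1, 3, 2, 3, 1, 0, 1, 2, 0, 1, 1, 0, 1, 0, 2, 1, 3, 2, 3, 1, 0, 1, 2, 0, 1, 1, 0, 1]), (901, 1759, [1, 0, 1, 0, 2, 1, 3, 2, 3, 1, 0, 1, 2, 0, 1, 4, 3, 2, 1, 0, 1, 0, 2, 1, 3, 2, 3, 1, 0, 1, 2, 0, 1, 1, 0, 1]), (471, 690, [0, 1, 0, 2, 1]), (316, 474, [0, 1, 0, 2, 1, 3]), (468, 687, [0, 1, 0, 2, 1, 3, 4]), (1619, 1781, [1, 0, 1, 0, 2, 1, 3, 2, 3, 1, 0, 1, 2, 0, 1, 4, 1, 0, 1, 0, 2, 1, 3, 2, 3, 1, 0, 1, 2, 0, 1, 1, 2, 3, 2, 1, 4, 3, 2, 1, 0, 1, 3, 2, 3]),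 (1314, 1780, [1, 0, 1, 0, 2, 1, 3, 2, 3, 1, 0, 1, 2, 0, 1, 4, 1, 0, 1, 0, 2, 1, 3, 2, 3, 1, 0, 1, 2, 0, 1, 1, 2, 3, 2, 1, 4, 3, 2, 1, 0, 1, 3, 2])]

def lowTree0 : List (ℕ × ℕ × List ℕ) := lowTree0_0 ++ lowTree0_1 ++ lowTree0_2 ++ lowTree0_3 ++ lowTree0_4 ++ lowTree0_5

def lowTree1_0 : List (ℕ × ℕ × List ℕ) := [(688, 901, []), (688, 689, [0]), (688, 615, [2]), (688, 416, [2, 3]), (688, 613, [2, 3, 4]), (688, 473, [1, 0, 1, 0, 2, 1, 0, 1, 2, 0, 1, 0, 1]), (688, 318, [1, 0, 1, 0, 2, 1, 0, 1, 2, 0, 1, 0, 1, 3]), (688, 202, [1, 0, 1, 0, 2, 1, 3, 2, 3, 1, 0, 1, 2, 0, 1]), (688, 469, [1, 0, 1, 0, 2, 1, 0, 1, 2, 0, 1, 0, 1, 3, 4]), (688, 279, [0, 1, 0, 1, 0, 2, 1, 3,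 2, 3, 1, 0, 1, 2, 0, 1]), (688, 313, [1, 0, 1, 0, 2, 1, 3, 2, 3, 1, 0, 1, 2, 0, 1, 4]), (688, 414, [0, 1, 0, 1, 0, 2, 1, 3, 2, 3, 1, 0, 1, 2, 0, 1, 4]), (688, 466, [1, 0, 1, 0, 2, 1, 3, 2, 3, 1, 0, 1, 2, 0, 1, 4, 3]), (688, 612, [0, 1, 0, 1, 0, 2, 1, 3, 2, 3, 1, 0, 1, 2, 0, 1, 4, 3]), (688, 1120, [2, 3, 4, 1, 0, 1, 0, 2, 1, 3, 2, 3, 1, 0, 1, 2, 0, 1]), (688, 686, [1, 0, 1, 0, 2, 1, 3, 2, 3, 1, 0, 1, 2, 0, 1, 4, 3, 2]), (688, 1338, [2, 3, 4, 1, 0, 1, 0, 2, 1, 3, 2, 3, 1, 0, 1, 2, 0, 1, 3]), (688, 1465, [1, 0, 1, 0, 2, 1, 0, 1, 2, 0, 1, 0, 1, 3, 4, 1, 0, 1, 0, 2, 1, 3, 2, 3, 1, 0, 1, 2, 0, 1]), (688, 900, [1, 0, 1, 0, 2, 1, 3, 2, 3, 1, 0, 1, 2, 0, 1, 4, 3, 1, 0,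 1, 0, 2, 1, 0, 1, 2, 0, 1, 0, 1]), (688, 1450, [1, 0, 1, 0, 2, 1, 3, 2, 3, 1, 0, 1, 2, 0, 1, 4, 1, 0, 1, 0, 2, 1, 3, 2, 3, 1, 0, 1, 2, 0, 1]), (688, 1253, [1, 0, 1, 0, 2, 1, 0, 1, 2, 0, 1, 0, 1, 3, 4, 1, 0, 1, 0, 2, 1, 3, 2, 3, 1, 0, 1, 2, 0, 1, 3]), (688, 1701, [0, 1, 0, 1, 0, 2, 1, 3, 2, 3, 1, 0, 1, 2, 0, 1, 4, 1, 0, 1, 0, 2, 1, 3, 2, 3, 1, 0, 1, 2, 0, 1]), (688, 1330, [1, 0, 1, 0, 2, 1, 3, 2, 3, 1, 0, 1, 2, 0, 1, 4, 3, 1, 0, 1, 0, 2, 1, 3, 2, 3, 1, 0, 1, 2, 0, 1]), (688, 1697, [1, 0, 1, 0, 2, 1, 3, 2, 3, 1, 0, 1, 2, 0, 1, 4, 1, 0, 1, 0, 2, 1, 3, 2, 3, 1, 0, 1, 2, 0, 1, 3]), (688, 1621, [0, 1, 0, 1, 0, 2, 1, 3, 2, 3, 1, 0, 1, 2, 0, 1, 4, 3, 1, 0, 1, 0, 2, 1,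 3, 2, 3, 1, 0, 1, 2, 0, 1]), (688, 1777, [2, 3, 4, 1, 0, 1, 0, 2, 1, 3, 2, 3, 1, 0, 1, 2, 0, 1, 1, 0, 1, 0, 2, 1, 3, 2, 3, 1, 0, 1, 2, 0, 1]), (688, 1758, [1, 0, 1, 0, 2, 1, 3, 2, 3, 1, 0, 1, 2, 0, 1, 4, 3, 2, 1, 0, 1, 0, 2, 1, 3, 2, 3, 1, 0, 1, 2, 0, 1]), (688, 989, [1, 0, 1, 0, 2, 1, 3, 2, 3, 1, 0, 1, 2, 0, 1, 4, 3, 1, 0, 1, 0, 2, 1, 3, 2, 3, 1, 0, 1, 2, 0, 1, 3]), (688, 1318, [0, 1, 0, 1, 0, 2, 1, 3, 2, 3, 1, 0, 1, 2, 0, 1, 4, 3, 1, 0, 1, 0, 2, 1, 3, 2, 3, 1, 0, 1, 2, 0, 1, 3]), (688, 1760, [1, 0, 1, 0, 2, 1, 0, 1, 2, 0, 1, 0, 1, 3, 4, 1, 0, 1, 0, 2, 1, 3, 2, 3, 1, 0, 1, 2, 0, 1, 1, 0, 1, 0, 2, 1, 3, 2, 3, 1, 0, 1, 2, 0, 1]), (688, 1627, [1, 0, 1, 0, 2, 1, 3,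 2, 3, 1, 0, 1, 2, 0, 1, 4, 3, 1, 0, 1, 0, 2, 1, 0, 1, 2, 0, 1, 0, 1, 1, 0, 1, 0, 2, 1, 3, 2, 3, 1, 0, 1, 2, 0, 1]), (688, 1625, [1, 0, 1, 0, 2, 1, 3, 2, 3, 1, 0, 1, 2, 0, 1, 4, 1, 0, 1, 0, 2, 1, 3, 2, 3, 1, 0, 1, 2, 0, 1, 1, 0, 1, 0, 2, 1, 3, 2, 3, 1, 0, 1, 2, 0, 1]), (901, 614, [0, 1, 0, 1]), (901, 315, [2, 1, 0, 1]), (901, 199, [2, 3, 1, 0, 1]), (901, 310, [2, 3, 4, 1, 0, 1]), (901, 155, [1, 0, 1, 0, 2, 1, 3, 2, 3, 1, 0, 1, 2, 0, 1, 1, 0, 1]), (901, 234, [0, 1, 0, 1, 0, 2, 1, 3, 2, 3, 1, 0, 1, 2, 0, 1, 1, 0, 1]), (901, 240, [1, 0, 1, 0, 2, 1, 3, 2, 3, 1, 0, 1, 2, 0, 1, 4, 1, 0, 1]), (901, 358, [0, 1, 0, 1, 0, 2, 1, 3, 2, 3, 1, 0, 1, 2, 0, 1, 4, 1, 0, 1]), (901,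 365, [1, 0, 1, 0, 2, 1, 3, 2, 3, 1, 0, 1, 2, 0, 1, 4, 3, 1, 0, 1]), (901, 525, [0, 1, 0, 1, 0, 2, 1, 3, 2, 3, 1, 0, 1, 2, 0, 1, 4, 3, 1, 0, 1]), (901, 781, [2, 3, 4, 1, 0, 1, 0, 2, 1, 3, 2, 3, 1, 0, 1, 2, 0, 1, 1, 0, 1]), (901, 698, [1, 0, 1, 0, 2, 1, 3, 2, 3, 1, 0, 1, 2, 0, 1, 4, 3, 2, 1, 0, 1]), (901, 592, [2, 3, 4, 1, 0, 1, 0, 2, 1, 3, 2, 3, 1, 0, 1, 2, 0, 1, 3, 1, 0, 1]), (901, 602, [1, 0, 1, 0, 2, 1, 0, 1, 2, 0, 1, 0, 1, 3, 4, 1, 0, 1, 0, 2, 1, 3, 2, 3, 1, 0, 1, 2, 0, 1, 1, 0, 1]), (901, 906, [1, 0, 1, 0, 2, 1, 3, 2, 3, 1, 0, 1, 2, 0, 1, 4, 3, 1, 0, 1, 0, 2, 1, 0, 1, 2, 0, 1, 0, 1, 1, 0, 1]), (901, 1103, [1, 0, 1, 0, 2, 1, 3, 2, 3, 1, 0, 1, 2, 0, 1, 4, 1,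 0, 1, 0, 2, 1, 3, 2, 3, 1, 0, 1, 2, 0, 1, 1, 0, 1]), (901, 406, [1, 0, 1, 0, 2, 1, 0, 1, 2, 0, 1, 0, 1, 3, 4, 1, 0, 1, 0, 2, 1, 3, 2, 3, 1, 0, 1, 2, 0, 1, 3, 1, 0, 1]), (901, 883, [0, 1, 0, 1, 0, 2, 1, 3, 2, 3, 1, 0, 1, 2, 0, 1, 4, 1, 0, 1, 0, 2, 1, 3, 2, 3, 1, 0, 1, 2, 0, 1, 1, 0, 1]), (901, 455, [1, 0, 1, 0, 2, 1, 3, 2, 3, 1, 0, 1, 2, 0, 1, 4, 3, 1, 0, 1, 0, 2, 1, 3, 2, 3, 1, 0, 1, 2, 0, 1, 1, 0, 1]), (901, 960, [1, 0, 1, 0, 2, 1, 3, 2, 3, 1, 0, 1, 2, 0, 1, 4, 1, 0, 1, 0, 2, 1, 3, 2, 3, 1, 0, 1, 2, 0, 1, 3, 1, 0, 1]), (901, 660, [0, 1, 0, 1, 0, 2, 1, 3, 2, 3, 1, 0, 1, 2, 0, 1, 4, 3, 1, 0, 1, 0, 2, 1, 3, 2, 3, 1, 0, 1, 2, 0, 1, 1, 0, 1]), (901, 303, [1, 0, 1,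 0, 2, 1, 3, 2, 3, 1, 0, 1, 2, 0, 1, 4, 3, 1, 0, 1, 0, 2, 1, 3, 2, 3, 1, 0, 1, 2, 0, 1, 3, 1, 0, 1]), (901, 449, [0, 1, 0, 1, 0, 2, 1, 3, 2, 3, 1, 0, 1, 2, 0, 1, 4, 3, 1, 0, 1, 0, 2, 1, 3, 2, 3, 1, 0, 1, 2, 0, 1, 3, 1, 0, 1]), (901, 1700, [1, 0, 1, 0, 2, 1, 0, 1, 2, 0, 1, 0, 1, 3, 4, 1, 0, 1, 0, 2, 1, 3, 2, 3, 1, 0, 1, 2, 0, 1, 1, 0, 1, 0, 2, 1, 3, 2, 3, 1, 0, 1, 2, 0, 1, 1, 0, 1]), (901, 1623, [1, 0, 1, 0, 2, 1, 3, 2, 3, 1, 0, 1, 2, 0, 1, 4, 3, 1, 0, 1, 0, 2, 1, 0, 1, 2, 0, 1, 0, 1, 1, 0, 1, 0, 2, 1, 3, 2, 3, 1, 0, 1, 2, 0, 1, 1, 0, 1]), (901, 668, [1, 0, 1, 0, 2, 1, 3, 2, 3, 1, 0, 1, 2, 0, 1, 4, 1, 0, 1, 0, 2, 1, 3, 2, 3, 1, 0, 1, 2, 0, 1, 1, 0, 1, 0, 2, 1, 3,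 2, 3, 1, 0, 1, 2, 0, 1, 1, 0, 1]), (689, 472, [0, 1, 0, 1, 0]), (689, 470, [2, 1, 0, 1, 0])]

def lowTree1_1 : List (ℕ × ℕ × List ℕ) := [(689, 314, [2, 3, 1, 0, 1, 0]), (689, 467, [2, 3, 4, 1, 0, 1, 0]), (689, 154, [1, 0, 1, 0, 2, 1, 3, 2, 3, 1, 0, 1, 2, 0, 1, 1, 0, 1, 0]), (689, 233, [0, 1, 0, 1, 0, 2, 1, 3, 2, 3, 1, 0, 1, 2, 0, 1, 1, 0, 1, 0]), (689, 239, [1, 0, 1, 0, 2, 1, 3, 2, 3, 1, 0, 1, 2, 0, 1, 4, 1, 0, 1, 0]), (689, 357, [0, 1, 0, 1, 0, 2, 1, 3, 2, 3, 1, 0, 1, 2, 0, 1, 4, 1, 0, 1, 0]), (689, 364, [1, 0, 1, 0, 2, 1, 3, 2, 3, 1, 0, 1, 2, 0, 1, 4, 3, 1, 0, 1, 0]), (689, 524, [0, 1, 0, 1, 0, 2, 1, 3, 2, 3, 1, 0, 1, 2, 0, 1, 4, 3, 1, 0, 1, 0]), (689, 871, [2,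 3, 4, 1, 0, 1, 0, 2, 1, 3, 2, 3, 1, 0, 1, 2, 0, 1, 1, 0, 1, 0]), (689, 1004, [1, 0, 1, 0, 2, 1, 3, 2, 3, 1, 0, 1, 2, 0, 1, 4, 3, 2, 1, 0, 1, 0]), (689, 594, [2, 3, 4, 1, 0, 1, 0, 2, 1, 3, 2, 3, 1, 0, 1, 2, 0, 1, 3, 1, 0, 1, 0]), (689, 604, [1, 0, 1, 0, 2, 1, 0, 1, 2, 0, 1, 0, 1, 3, 4, 1, 0, 1, 0, 2, 1, 3, 2, 3, 1, 0, 1, 2, 0, 1, 1, 0, 1, 0]), (689, 1073, [1, 0, 1, 0, 2, 1, 3, 2, 3, 1, 0, 1, 2, 0, 1, 4, 3, 1, 0, 1, 0, 2, 1, 0, 1, 2, 0, 1, 0, 1, 1, 0, 1, 0]), (689, 1232, [1, 0, 1, 0, 2, 1, 3, 2, 3, 1, 0, 1, 2, 0, 1, 4, 1, 0, 1, 0, 2, 1, 3, 2, 3, 1, 0, 1, 2, 0, 1, 1, 0, 1, 0]), (689, 408, [1, 0, 1, 0, 2, 1, 0, 1, 2, 0, 1, 0, 1, 3, 4, 1, 0, 1, 0, 2, 1, 3, 2, 3, 1,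 0, 1, 2, 0, 1, 3, 1, 0, 1, 0]), (689, 885, [0, 1, 0, 1, 0, 2, 1, 3, 2, 3, 1, 0, 1, 2, 0, 1, 4, 1, 0, 1, 0, 2, 1, 3, 2, 3, 1, 0, 1, 2, 0, 1, 1, 0, 1, 0]), (689, 457, [1, 0, 1, 0, 2, 1, 3, 2, 3, 1, 0, 1, 2, 0, 1, 4, 3, 1, 0, 1, 0, 2, 1, 3, 2, 3, 1, 0, 1, 2, 0, 1, 1, 0, 1, 0]), (689, 962, [1, 0, 1, 0, 2, 1, 3, 2, 3, 1, 0, 1, 2, 0, 1, 4, 1, 0, 1, 0, 2, 1, 3, 2, 3, 1, 0, 1, 2, 0, 1, 3, 1, 0, 1, 0]), (689, 662, [0, 1, 0, 1, 0, 2, 1, 3, 2, 3, 1, 0, 1, 2, 0, 1, 4, 3, 1, 0, 1, 0, 2, 1, 3, 2, 3, 1, 0, 1, 2, 0, 1, 1, 0, 1, 0]), (689, 305, [1, 0, 1, 0, 2, 1, 3, 2, 3, 1, 0, 1, 2, 0, 1, 4, 3, 1, 0, 1, 0, 2, 1, 3, 2, 3, 1, 0, 1, 2, 0, 1, 3, 1, 0, 1, 0]), (689, 451, [0, 1, 0,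 1, 0, 2, 1, 3, 2, 3, 1, 0, 1, 2, 0, 1, 4, 3, 1, 0, 1, 0, 2, 1, 3, 2, 3, 1, 0, 1, 2, 0, 1, 3, 1, 0, 1, 0]), (689, 1776, [1, 0, 1, 0, 2, 1, 0, 1, 2, 0, 1, 0, 1, 3, 4, 1, 0, 1, 0, 2, 1, 3, 2, 3, 1, 0, 1, 2, 0, 1, 1, 0, 1, 0, 2, 1, 3, 2, 3, 1, 0, 1, 2, 0, 1, 1, 0, 1, 0]), (689, 1753, [1, 0, 1, 0, 2, 1, 3, 2, 3, 1, 0, 1, 2, 0, 1, 4, 3, 1, 0, 1, 0, 2, 1, 0, 1, 2, 0, 1, 0, 1, 1, 0, 1, 0, 2, 1, 3, 2, 3, 1, 0, 1, 2, 0, 1, 1, 0, 1, 0]), (689, 670, [1, 0, 1, 0, 2, 1, 3, 2, 3, 1, 0, 1, 2, 0, 1, 4, 1, 0, 1, 0, 2, 1, 3, 2, 3, 1, 0, 1, 2, 0, 1, 1, 0, 1, 0, 2, 1, 3, 2, 3, 1, 0, 1, 2, 0, 1, 1, 0, 1, 0]), (615, 415, [0, 1, 0, 1, 2]), (615, 438, [2, 1, 0, 1, 2]), (615, 129, [2, 3,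 1, 0, 1, 2]), (615, 196, [2, 3, 4, 1, 0, 1, 2]), (615, 117, [1, 0, 1, 0, 2, 1, 3, 2, 3, 1, 0, 1, 2, 0, 1, 1, 0, 1, 2]), (615, 178, [1, 0, 1, 0, 2, 1, 3, 2, 3, 1, 0, 1, 2, 0, 1, 4, 1, 0, 1, 2]), (615, 536, [1, 0, 1, 0, 2, 1, 3, 2, 3, 1, 0, 1, 2, 0, 1, 4, 3, 1, 0, 1, 2]), (615, 765, [0, 1, 0, 1, 0, 2, 1, 3, 2, 3, 1, 0, 1, 2, 0, 1, 4, 3, 1, 0, 1, 2]), (615, 639, [2, 3, 4, 1, 0, 1, 0, 2, 1, 3, 2, 3, 1, 0, 1, 2, 0, 1, 1, 0, 1, 2]), (615, 1005, [1, 0, 1, 0, 2, 1, 3, 2, 3, 1, 0, 1, 2, 0, 1, 4, 3, 2, 1, 0, 1, 2]), (615, 420, [2, 3, 4, 1, 0, 1, 0, 2, 1, 3, 2, 3, 1, 0, 1, 2, 0, 1, 3, 1, 0, 1, 2]), (615, 776, [1, 0, 1, 0, 2, 1, 0, 1, 2, 0, 1, 0, 1, 3, 4, 1, 0, 1, 0, 2, 1,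 3, 2, 3, 1, 0, 1, 2, 0, 1, 1, 0, 1, 2]), (615, 1215, [1, 0, 1, 0, 2, 1, 3, 2, 3, 1, 0, 1, 2, 0, 1, 4, 3, 1, 0, 1, 0, 2, 1, 0, 1, 2, 0, 1, 0, 1, 1, 0, 1, 2]), (615, 854, [1, 0, 1, 0, 2, 1, 3, 2, 3, 1, 0, 1, 2, 0, 1, 4, 1, 0, 1, 0, 2, 1, 3, 2, 3, 1, 0, 1, 2, 0, 1, 1, 0, 1, 2]), (615, 272, [1, 0, 1, 0, 2, 1, 0, 1, 2, 0, 1, 0, 1, 3, 4, 1, 0, 1, 0, 2, 1, 3, 2, 3, 1, 0, 1, 2, 0, 1, 3, 1, 0, 1, 2]), (615, 955, [0, 1, 0, 1, 0, 2, 1, 3, 2, 3, 1, 0, 1, 2, 0, 1, 4, 1, 0, 1, 0, 2, 1, 3, 2, 3, 1, 0, 1, 2, 0, 1, 1, 0, 1, 2]), (615, 1305, [1, 0, 1, 0, 2, 1, 3, 2, 3, 1, 0, 1, 2, 0, 1, 4, 1, 0, 1, 0, 2, 1, 3, 2, 3, 1, 0, 1, 2, 0, 1, 3, 1, 0, 1, 2]), (615, 958, [0, 1, 0, 1, 0, 2,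 1, 3, 2, 3, 1, 0, 1, 2, 0, 1, 4, 3, 1, 0, 1, 0, 2, 1, 3, 2, 3, 1, 0, 1, 2, 0, 1, 1, 0, 1, 2]), (615, 194, [1, 0, 1, 0, 2, 1, 3, 2, 3, 1, 0, 1, 2, 0, 1, 4, 3, 1, 0, 1, 0, 2, 1, 3, 2, 3, 1, 0, 1, 2, 0, 1, 3, 1, 0, 1, 2]), (615, 323, [0, 1, 0, 1, 0, 2, 1, 3, 2, 3, 1, 0, 1, 2, 0, 1, 4, 3, 1, 0, 1, 0, 2, 1, 3, 2, 3, 1, 0, 1, 2, 0, 1, 3, 1, 0, 1, 2]), (615, 1446, [1, 0, 1, 0, 2, 1, 0, 1, 2, 0, 1, 0, 1, 3, 4, 1, 0, 1, 0, 2, 1, 3, 2, 3, 1, 0, 1, 2, 0, 1, 1, 0, 1, 0, 2, 1, 3, 2, 3, 1, 0, 1, 2, 0, 1, 1, 0, 1, 2]), (615, 1315, [1, 0, 1, 0, 2, 1, 3, 2, 3, 1, 0, 1, 2, 0, 1, 4, 3, 1, 0, 1, 0, 2, 1, 0, 1, 2, 0, 1, 0, 1, 1, 0, 1, 0, 2, 1, 3, 2, 3, 1, 0, 1, 2, 0, 1, 1, 0, 1, 2]),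 (416, 278, [0, 1, 0, 1, 2, 3]), (416, 294, [2, 1, 0, 1, 2, 3]), (416, 179, [2, 3, 1, 0, 1, 2, 3]), (416, 307, [2, 3, 4, 1, 0, 1, 2, 3]), (416, 82, [1, 0, 1, 0, 2, 1, 3, 2, 3, 1, 0, 1, 2, 0, 1, 1, 0, 1, 2, 3]), (416, 273, [1, 0, 1, 0, 2, 1, 3, 2, 3, 1, 0, 1, 2, 0, 1, 4, 1, 0, 1, 2, 3]), (416, 1098, [0, 1, 0, 1, 0, 2, 1, 3, 2, 3, 1, 0, 1, 2, 0, 1, 4, 3, 1, 0, 1, 2, 3]), (416, 931, [2, 3, 4, 1, 0, 1, 0, 2, 1, 3, 2, 3, 1, 0, 1, 2, 0, 1, 1, 0, 1, 2, 3]), (416, 1283, [1, 0, 1, 0, 2, 1, 3, 2, 3, 1, 0, 1, 2, 0, 1, 4, 3, 2, 1, 0, 1, 2, 3]), (416, 177, [1, 0, 1, 0, 2, 1, 0, 1, 2, 0, 1, 0, 1, 3, 4, 1, 0, 1, 0, 2, 1, 3, 2, 3, 1, 0, 1, 2, 0, 1, 3, 1, 0, 1, 2, 3]), (416, 1303,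 [0, 1, 0, 1, 0, 2, 1, 3, 2, 3, 1, 0, 1, 2, 0, 1, 4, 1, 0, 1, 0, 2, 1, 3, 2, 3, 1, 0, 1, 2, 0, 1, 1, 0, 1, 2, 3]), (416, 1351, [1, 0, 1, 0, 2, 1, 3, 2, 3, 1, 0, 1, 2, 0, 1, 4, 1, 0, 1, 0, 2, 1, 3, 2, 3, 1, 0, 1, 2, 0, 1, 3, 1, 0, 1, 2, 3]), (416, 938, [0, 1, 0, 1, 0, 2, 1, 3, 2, 3, 1, 0, 1, 2, 0, 1, 4, 3, 1, 0, 1, 0, 2, 1, 3, 2, 3, 1, 0, 1, 2, 0, 1, 1, 0, 1, 2, 3]), (416, 127, [1, 0, 1, 0, 2, 1, 3, 2, 3, 1, 0, 1, 2, 0, 1, 4, 3, 1, 0, 1, 0, 2, 1, 3, 2, 3, 1, 0, 1, 2, 0, 1, 3, 1, 0, 1, 2, 3])]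

def lowTree1_2 : List (ℕ × ℕ × List ℕ) := [(416, 1104, [1, 0, 1, 0, 2, 1, 0, 1, 2, 0, 1, 0, 1, 3, 4, 1, 0, 1, 0, 2, 1, 3, 2, 3, 1, 0, 1, 2, 0, 1, 1, 0, 1, 0, 2, 1, 3, 2, 3, 1, 0, 1, 2, 0, 1, 1, 0, 1, 2, 3]), (416, 972, [1, 0, 1, 0, 2, 1, 3, 2, 3, 1, 0, 1, 2, 0, 1, 4, 3, 1, 0, 1, 0, 2, 1, 0, 1, 2, 0, 1, 0, 1, 1, 0, 1, 0, 2, 1, 3, 2, 3, 1, 0, 1, 2, 0, 1, 1, 0, 1, 2, 3]), (613, 413, [0, 1, 0, 1, 2, 3, 4]), (613, 436, [2, 1, 0, 1, 2, 3, 4]), (613, 274, [2, 3, 1, 0, 1, 2, 3, 4]), (613, 409, [2, 3, 4, 1, 0, 1, 2, 3, 4]), (613, 128, [1, 0, 1, 0, 2, 1, 3, 2, 3, 1, 0, 1, 2, 0, 1, 1, 0, 1, 2, 3, 4]), (613, 195, [1, 0, 1, 0, 2, 1, 3, 2, 3, 1, 0, 1, 2, 0, 1, 4, 1, 0, 1, 2,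 3, 4]), (613, 116, [1, 0, 1, 0, 2, 1, 0, 1, 2, 0, 1, 0, 1, 3, 4, 1, 0, 1, 0, 2, 1, 3, 2, 3, 1, 0, 1, 2, 0, 1, 3, 1, 0, 1, 2, 3, 4]), (613, 1422, [1, 0, 1, 0, 2, 1, 3, 2, 3, 1, 0, 1, 2, 0, 1, 4, 1, 0, 1, 0, 2, 1, 3, 2, 3, 1, 0, 1, 2, 0, 1, 3, 1, 0, 1, 2, 3, 4]), (613, 1222, [0, 1, 0, 1, 0, 2, 1, 3, 2, 3, 1, 0, 1, 2, 0, 1, 4, 3, 1, 0, 1, 0, 2, 1, 3, 2, 3, 1, 0, 1, 2, 0, 1, 1, 0, 1, 2, 3, 4]), (613, 81, [1, 0, 1, 0, 2, 1, 3, 2, 3, 1, 0, 1, 2, 0, 1, 4, 3, 1, 0, 1, 0, 2, 1, 3, 2, 3, 1, 0, 1, 2, 0, 1, 3, 1, 0, 1, 2, 3, 4]), (613, 782, [1, 0, 1, 0, 2, 1, 0, 1, 2, 0, 1, 0, 1, 3, 4, 1, 0, 1, 0, 2, 1, 3, 2, 3, 1, 0, 1, 2, 0, 1, 1, 0, 1, 0, 2, 1, 3, 2, 3, 1, 0, 1, 2, 0, 1,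 1, 0, 1, 2, 3, 4]), (613, 1116, [1, 0, 1, 0, 2, 1, 3, 2, 3, 1, 0, 1, 2, 0, 1, 4, 3, 1, 0, 1, 0, 2, 1, 0, 1, 2, 0, 1, 0, 1, 1, 0, 1, 0, 2, 1, 3, 2, 3, 1, 0, 1, 2, 0, 1, 1, 0, 1, 2, 3, 4]), (473, 317, [0, 1, 0, 1, 0, 2]), (473, 471, [2, 1, 0, 1, 0, 2]), (473, 198, [2, 3, 1, 0, 1, 0, 2]), (473, 309, [2, 3, 4, 1, 0, 1, 0, 2]), (473, 534, [1, 0, 1, 0, 2, 1, 3, 2, 3, 1, 0, 1, 2, 0, 1, 4, 3, 1, 0, 1, 0, 2]), (473, 763, [0, 1, 0, 1, 0, 2, 1, 3, 2, 3, 1, 0, 1, 2, 0, 1, 4, 3, 1, 0, 1, 0, 2]), (473, 421, [2, 3, 4, 1, 0, 1, 0, 2, 1, 3, 2, 3, 1, 0, 1, 2, 0, 1, 3, 1, 0, 1, 0, 2]), (473, 775, [1, 0, 1, 0, 2, 1, 0, 1, 2, 0, 1, 0, 1, 3, 4, 1, 0, 1, 0, 2, 1, 3, 2, 3, 1, 0, 1, 2,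 0, 1, 1, 0, 1, 0, 2]), (473, 1111, [0, 1, 0, 1, 0, 2, 1, 3, 2, 3, 1, 0, 1, 2, 0, 1, 4, 1, 0, 1, 0, 2, 1, 3, 2, 3, 1, 0, 1, 2, 0, 1, 1, 0, 1, 0, 2]), (473, 324, [0, 1, 0, 1, 0, 2, 1, 3, 2, 3, 1, 0, 1, 2, 0, 1, 4, 3, 1, 0, 1, 0, 2, 1, 3, 2, 3, 1, 0, 1, 2, 0, 1, 3, 1, 0, 1, 0, 2]), (473, 1698, [1, 0, 1, 0, 2, 1, 0, 1, 2, 0, 1, 0, 1, 3, 4, 1, 0, 1, 0, 2, 1, 3, 2, 3, 1, 0, 1, 2, 0, 1, 1, 0, 1, 0, 2, 1, 3, 2, 3, 1, 0, 1, 2, 0, 1, 1, 0, 1, 0, 2]), (473, 1605, [1, 0, 1, 0, 2, 1, 3, 2, 3, 1, 0, 1, 2, 0, 1, 4, 3, 1, 0, 1, 0, 2, 1, 0, 1, 2, 0, 1, 0, 1, 1, 0, 1, 0, 2, 1, 3, 2, 3, 1, 0, 1, 2, 0, 1, 1, 0, 1, 0, 2]), (318, 201, [0, 1, 0, 1, 0, 2, 3]), (318, 316, [2, 1, 0, 1,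 0, 2, 3]), (318, 276, [2, 3, 1, 0, 1, 0, 2, 3]), (318, 462, [2, 3, 4, 1, 0, 1, 0, 2, 3]), (318, 1097, [0, 1, 0, 1, 0, 2, 1, 3, 2, 3, 1, 0, 1, 2, 0, 1, 4, 3, 1, 0, 1, 0, 2, 3]), (318, 1441, [0, 1, 0, 1, 0, 2, 1, 3, 2, 3, 1, 0, 1, 2, 0, 1, 4, 1, 0, 1, 0, 2, 1, 3, 2, 3, 1, 0, 1, 2, 0, 1, 1, 0, 1, 0, 2, 3]), (318, 1451, [1, 0, 1, 0, 2, 1, 0, 1, 2, 0, 1, 0, 1, 3, 4, 1, 0, 1, 0, 2, 1, 3, 2, 3, 1, 0, 1, 2, 0, 1, 1, 0, 1, 0, 2, 1, 3, 2, 3, 1, 0, 1, 2, 0, 1, 1, 0, 1, 0, 2, 3]), (318, 1287, [1, 0, 1, 0, 2, 1, 3, 2, 3, 1, 0, 1, 2, 0, 1, 4, 3, 1, 0, 1, 0, 2, 1, 0, 1, 2, 0, 1, 0, 1, 1, 0, 1, 0, 2, 1, 3, 2, 3, 1, 0, 1, 2, 0, 1, 1, 0, 1, 0, 2, 3]), (202, 130, [0, 1, 0, 1, 0,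 2, 3, 2]), (202, 200, [2, 1, 0, 1, 0, 2, 3, 2]), (202, 267, [2, 3, 1, 0, 1, 0, 2, 3, 2]), (202, 684, [2, 3, 4, 1, 0, 1, 0, 2, 3, 2]), (202, 1595, [1, 0, 1, 0, 2, 1, 0, 1, 2, 0, 1, 0, 1, 3, 4, 1, 0, 1, 0, 2, 1, 3, 2, 3, 1, 0, 1, 2, 0, 1, 1, 0, 1, 0, 2, 1, 3, 2, 3, 1, 0, 1, 2, 0, 1, 1, 0, 1, 0, 2, 3, 2]), (202, 1594, [1, 0, 1, 0, 2, 1, 3, 2, 3, 1, 0, 1, 2, 0, 1, 4, 3, 1, 0, 1, 0, 2, 1, 0, 1, 2, 0, 1, 0, 1, 1, 0, 1, 0, 2, 1, 3, 2, 3, 1, 0, 1, 2, 0, 1, 1, 0, 1, 0, 2, 3, 2]), (469, 312, [0, 1, 0, 1, 0, 2, 3, 4]), (469, 468, [2, 1, 0, 1, 0, 2, 3, 4]), (469, 411, [2, 3, 1, 0, 1, 0, 2, 3, 4]), (469, 608, [2, 3, 4, 1, 0, 1, 0, 2, 3, 4]), (469, 1121, [1, 0, 1, 0, 2, 1, 0,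 1, 2, 0, 1, 0, 1, 3, 4, 1, 0, 1, 0, 2, 1, 3, 2, 3, 1, 0, 1, 2, 0, 1, 1, 0, 1, 0, 2, 1, 3, 2, 3, 1, 0, 1, 2, 0, 1, 1, 0, 1, 0, 2, 3, 4]), (469, 1460, [1, 0, 1, 0, 2, 1, 3, 2, 3, 1, 0, 1, 2, 0, 1, 4, 3, 1, 0, 1, 0, 2, 1, 0, 1, 2, 0, 1, 0, 1, 1, 0, 1, 0, 2, 1, 3, 2, 3, 1, 0, 1, 2, 0, 1, 1, 0, 1, 0, 2, 3, 4]), (279, 180, [0, 1, 0, 1, 2, 3, 2]), (279, 188, [2, 1, 0, 1, 2, 3, 2]), (279, 277, [2, 3, 1, 0, 1, 2, 3, 2]), (279, 463, [2, 3, 4, 1, 0, 1, 2, 3, 2]), (279, 1261, [1, 0, 1, 0, 2, 1, 0, 1, 2, 0, 1, 0, 1, 3, 4, 1, 0, 1, 0, 2, 1, 3, 2, 3, 1, 0, 1, 2, 0, 1, 1, 0, 1, 0, 2, 1, 3, 2, 3, 1, 0, 1, 2, 0, 1, 1, 0, 1, 2, 3, 2]), (279, 1321, [1, 0, 1, 0, 2, 1, 3, 2, 3, 1, 0,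 1, 2, 0, 1, 4, 3, 1, 0, 1, 0, 2, 1, 0, 1, 2, 0, 1, 0, 1, 1, 0, 1, 0, 2, 1, 3, 2, 3, 1, 0, 1, 2, 0, 1, 1, 0, 1, 2, 3, 2]), (313, 197, [0, 1, 0, 1, 0, 2, 3, 2, 4]), (313, 311, [2, 1, 0, 1, 0, 2, 3, 2, 4]), (313, 396, [2, 3, 1, 0, 1, 0, 2, 3, 2, 4]), (313, 897, [2, 3, 4, 1, 0, 1, 0, 2, 3, 2, 4]), (313, 1344, [1, 0, 1, 0, 2, 1, 0, 1, 2, 0, 1, 0, 1, 3, 4, 1, 0, 1, 0, 2, 1, 3, 2, 3, 1, 0, 1, 2, 0, 1, 1, 0, 1, 0, 2, 1, 3, 2, 3, 1, 0, 1, 2, 0, 1, 1, 0, 1, 0, 2, 3, 2, 4]), (313, 1573, [1, 0, 1, 0, 2, 1, 3, 2, 3, 1, 0, 1, 2, 0, 1, 4, 3, 1, 0, 1, 0, 2, 1, 0, 1, 2, 0, 1, 0, 1, 1, 0, 1, 0, 2, 1, 3, 2, 3, 1, 0, 1, 2, 0, 1, 1, 0, 1, 0, 2, 3, 2, 4]), (414, 275, [0, 1, 0, 1, 2,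 3, 2, 4]), (414, 290, [2, 1, 0, 1, 2, 3, 2, 4])]

def lowTree1_3 : List (ℕ × ℕ × List ℕ) := [(414, 412, [2, 3, 1, 0, 1, 2, 3, 2, 4]), (414, 609, [2, 3, 4, 1, 0, 1, 2, 3, 2, 4]), (414, 994, [1, 0, 1, 0, 2, 1, 0, 1, 2, 0, 1, 0, 1, 3, 4, 1, 0, 1, 0, 2, 1, 3, 2, 3, 1, 0, 1, 2, 0, 1, 1, 0, 1, 0, 2, 1, 3, 2, 3, 1, 0, 1, 2, 0, 1, 1, 0, 1, 2, 3, 2, 4]), (414, 1462, [1, 0, 1, 0, 2, 1, 3, 2, 3, 1, 0, 1, 2, 0, 1, 4, 3, 1, 0, 1, 0, 2, 1, 0, 1, 2, 0, 1, 0, 1, 1, 0, 1, 0, 2, 1, 3, 2, 3, 1, 0, 1, 2, 0, 1, 1, 0, 1, 2, 3, 2, 4]), (466, 308, [0, 1, 0, 1, 0, 2, 3, 2, 4, 3]), (466, 464, [2, 1, 0, 1, 0, 2, 3, 2, 4, 3]), (466, 581, [2, 3, 1, 0, 1, 0, 2, 3, 2, 4, 3]), (466, 1259, [2,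 3, 4, 1, 0, 1, 0, 2, 3, 2, 4, 3]), (466, 1014, [1, 0, 1, 0, 2, 1, 0, 1, 2, 0, 1, 0, 1, 3, 4, 1, 0, 1, 0, 2, 1, 3, 2, 3, 1, 0, 1, 2, 0, 1, 1, 0, 1, 0, 2, 1, 3, 2, 3, 1, 0, 1, 2, 0, 1, 1, 0, 1, 0, 2, 3, 2, 4, 3]), (466, 1226, [1, 0, 1, 0, 2, 1, 3, 2, 3, 1, 0, 1, 2, 0, 1, 4, 3, 1, 0, 1, 0, 2, 1, 0, 1, 2, 0, 1, 0, 1, 1, 0, 1, 0, 2, 1, 3, 2, 3, 1, 0, 1, 2, 0, 1, 1, 0, 1, 0, 2, 3, 2, 4, 3]), (612, 410, [0, 1, 0, 1, 2, 3, 2, 4, 3]), (612, 433, [2, 1, 0, 1, 2, 3, 2, 4, 3]), (612, 610, [2, 3, 1, 0, 1, 2, 3, 2, 4, 3]), (612, 898, [2, 3, 4, 1, 0, 1, 2, 3, 2, 4, 3]), (612, 940, [1, 0, 1, 0, 2, 1, 0, 1, 2, 0, 1, 0, 1, 3, 4, 1, 0, 1, 0, 2, 1, 3, 2, 3, 1, 0, 1, 2, 0, 1, 1, 0,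 1, 0, 2, 1, 3, 2, 3, 1, 0, 1, 2, 0, 1, 1, 0, 1, 2, 3, 2, 4, 3]), (612, 1267, [1, 0, 1, 0, 2, 1, 3, 2, 3, 1, 0, 1, 2, 0, 1, 4, 3, 1, 0, 1, 0, 2, 1, 0, 1, 2, 0, 1, 0, 1, 1, 0, 1, 0, 2, 1, 3, 2, 3, 1, 0, 1, 2, 0, 1, 1, 0, 1, 2, 3, 2, 4, 3]), (1120, 1746, [0, 1, 2, 3, 2, 1, 0, 4, 3, 2, 1, 0, 1, 2, 3]), (1120, 780, [2, 3, 4, 1, 2, 3, 2, 1, 0, 4, 3, 2, 1, 0, 1, 2, 3]), (1120, 1592, [0, 1, 0, 1, 0, 2, 1, 3, 2, 3, 1, 0, 1, 2, 0, 1, 4, 1, 2, 3, 2, 1, 0, 4, 3, 2, 1, 0, 1, 2, 3]), (1120, 1119, [0, 1, 0, 1, 0, 2, 1, 3, 2, 3, 1, 0, 1, 2, 0, 1, 4, 3, 1, 2, 3, 2, 1, 0, 4, 3, 2, 1, 0, 1, 2, 3]), (1120, 992, [2, 3, 4, 1, 0, 1, 0, 2, 1, 3, 2, 3, 1, 0, 1, 2, 0, 1, 1, 2, 3, 2, 1,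 0, 4, 3, 2, 1, 0, 1, 2, 3]), (1120, 1247, [2, 3, 4, 1, 0, 1, 0, 2, 1, 3, 2, 3, 1, 0, 1, 2, 0, 1, 3, 1, 2, 3, 2, 1, 0, 4, 3, 2, 1, 0, 1, 2, 3]), (686, 465, [0, 1, 0, 1, 0, 2, 3, 2, 4, 3, 2]), (686, 685, [2, 1, 0, 1, 0, 2, 3, 2, 4, 3, 2]), (686, 857, [2, 3, 1, 0, 1, 0, 2, 3, 2, 4, 3, 2]), (686, 1260, [2, 3, 4, 1, 0, 1, 0, 2, 3, 2, 4, 3, 2]), (686, 703, [1, 0, 1, 0, 2, 1, 0, 1, 2, 0, 1, 0, 1, 3, 4, 1, 0, 1, 0, 2, 1, 3, 2, 3, 1, 0, 1, 2, 0, 1, 1, 0, 1, 0, 2, 1, 3, 2, 3, 1, 0, 1, 2, 0, 1, 1, 0, 1, 0, 2, 3, 2, 4, 3, 2]), (686, 904, [1, 0, 1, 0, 2, 1, 3, 2, 3, 1, 0, 1, 2, 0, 1, 4, 3, 1, 0, 1, 0, 2, 1, 0, 1, 2, 0, 1, 0, 1, 1, 0, 1, 0, 2, 1, 3, 2, 3, 1, 0, 1, 2, 0, 1, 1,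 0, 1, 0, 2, 3, 2, 4, 3, 2]), (1338, 1762, [0, 1, 2, 3, 2, 1, 0, 4, 3, 2, 1, 0, 1, 2]), (1338, 1115, [2, 3, 4, 1, 2, 3, 2, 1, 0, 4, 3, 2, 1, 0, 1, 2]), (1338, 1319, [0, 1, 0, 1, 0, 2, 1, 3, 2, 3, 1, 0, 1, 2, 0, 1, 4, 1, 2, 3, 2, 1, 0, 4, 3, 2, 1, 0, 1, 2]), (1338, 874, [0, 1, 0, 1, 0, 2, 1, 3, 2, 3, 1, 0, 1, 2, 0, 1, 4, 3, 1, 2, 3, 2, 1, 0, 4, 3, 2, 1, 0, 1, 2]), (1338, 682, [2, 3, 4, 1, 0, 1, 0, 2, 1, 3, 2, 3, 1, 0, 1, 2, 0, 1, 1, 2, 3, 2, 1, 0, 4, 3, 2, 1, 0, 1, 2]), (1338, 894, [2, 3, 4, 1, 0, 1, 0, 2, 1, 3, 2, 3, 1, 0, 1, 2, 0, 1, 3, 1, 2, 3, 2, 1, 0, 4, 3, 2, 1, 0, 1, 2]), (1465, 1584, [0, 1, 0, 2, 3, 2, 1, 0, 4, 3, 2, 1, 0, 1, 3]), (1465, 1122, [2, 3, 4, 1,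 0, 2, 3, 2, 1, 0, 4, 3, 2, 1, 0, 1, 3]), (1465, 1320, [0, 1, 0, 1, 0, 2, 1, 3, 2, 3, 1, 0, 1, 2, 0, 1, 4, 1, 0, 2, 3, 2, 1, 0, 4, 3, 2, 1, 0, 1, 3]), (1465, 779, [0, 1, 0, 1, 0, 2, 1, 3, 2, 3, 1, 0, 1, 2, 0, 1, 4, 3, 1, 0, 2, 3, 2, 1, 0, 4, 3, 2, 1, 0, 1, 3]), (1465, 1340, [2, 3, 4, 1, 0, 1, 0, 2, 1, 3, 2, 3, 1, 0, 1, 2, 0, 1, 1, 0, 2, 3, 2, 1, 0, 4, 3, 2, 1, 0, 1, 3]), (1465, 889, [2, 3, 4, 1, 0, 1, 0, 2, 1, 3, 2, 3, 1, 0, 1, 2, 0, 1, 3, 1, 0, 2, 3, 2, 1, 0, 4, 3, 2, 1, 0, 1, 3]), (900, 611, [0, 1, 0, 1, 2, 3, 2, 4, 3, 2]), (900, 642, [2, 1, 0, 1, 2, 3, 2, 4, 3, 2]), (900, 899, [2, 3, 1, 0, 1, 2, 3, 2, 4, 3, 2]), (900, 1225, [2, 3, 4, 1, 0, 1, 2, 3, 2, 4, 3, 2]),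 (900, 695, [1, 0, 1, 0, 2, 1, 0, 1, 2, 0, 1, 0, 1, 3, 4, 1, 0, 1, 0, 2, 1, 3, 2, 3, 1, 0, 1, 2, 0, 1, 1, 0, 1, 0, 2, 1, 3, 2, 3, 1, 0, 1, 2, 0, 1, 1, 0, 1, 2, 3, 2, 4, 3, 2]), (900, 909, [1, 0, 1, 0, 2, 1, 3, 2, 3, 1, 0, 1, 2, 0, 1, 4, 3, 1, 0, 1, 0, 2, 1, 0, 1, 2, 0, 1, 0, 1, 1, 0, 1, 0, 2, 1, 3, 2, 3, 1, 0, 1, 2, 0, 1, 1, 0, 1, 2, 3, 2, 4, 3, 2]), (1450, 1583, [0, 1, 2, 3, 2, 1, 0, 4, 3, 2, 1, 0, 1, 2, 3, 2]), (1450, 1102, [2, 3, 4, 1, 2, 3, 2, 1, 0, 4, 3, 2, 1, 0, 1, 2, 3, 2]), (1450, 1449, [0, 1, 0, 1, 0, 2, 1, 3, 2, 3, 1, 0, 1, 2, 0, 1, 4, 1, 2, 3, 2, 1, 0, 4, 3, 2, 1, 0, 1, 2, 3, 2]), (1450, 1343, [0, 1, 0, 1, 0, 2, 1, 3, 2, 3, 1, 0, 1, 2, 0, 1, 4, 3, 1,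 2, 3, 2, 1, 0, 4, 3, 2, 1, 0, 1, 2, 3, 2]), (1450, 1258, [2, 3, 4, 1, 0, 1, 0, 2, 1, 3, 2, 3, 1, 0, 1, 2, 0, 1, 1, 2, 3, 2, 1, 0, 4, 3, 2, 1, 0, 1, 2, 3, 2]), (1450, 1588, [2, 3, 4, 1, 0, 1, 0, 2, 1, 3, 2, 3, 1, 0, 1, 2, 0, 1, 3, 1, 2, 3, 2, 1, 0, 4, 3, 2, 1, 0, 1, 2, 3, 2]), (1253, 1747, [0, 1, 0, 2, 3, 2, 1, 0, 4, 3, 2, 1, 0, 1]), (1253, 1461, [2, 3, 4, 1, 0, 2, 3, 2, 1, 0, 4, 3, 2, 1, 0, 1]), (1253, 971, [0, 1, 0, 1, 0, 2, 1, 3, 2, 3, 1, 0, 1, 2, 0, 1, 4, 1, 0, 2, 3, 2, 1, 0, 4, 3, 2, 1, 0, 1]), (1253, 1114, [0, 1, 0, 1, 0, 2, 1, 3, 2, 3, 1, 0, 1, 2, 0, 1, 4, 3, 1, 0, 2, 3, 2, 1, 0, 4, 3, 2, 1, 0, 1]), (1253, 990, [2, 3, 4, 1, 0, 1, 0, 2, 1, 3, 2, 3, 1, 0, 1,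 2, 0, 1, 1, 0, 2, 3, 2, 1, 0, 4, 3, 2, 1, 0, 1]), (1253, 607, [2, 3, 4, 1, 0, 1, 0, 2, 1, 3, 2, 3, 1, 0, 1, 2, 0, 1, 3, 1, 0, 2, 3, 2, 1, 0, 4, 3, 2, 1, 0, 1]), (1701, 1241, [0, 1, 0, 2, 3, 2, 1, 0, 4, 3, 2, 1, 0, 1, 3, 2]), (1701, 1452, [2, 3, 4, 1, 0, 2, 3, 2, 1, 0, 4, 3, 2, 1, 0, 1, 3, 2])]

def lowTree1_4 : List (ℕ × ℕ × List ℕ) := [(1701, 1101, [0, 1, 0, 1, 0, 2, 1, 3, 2, 3, 1, 0, 1, 2, 0, 1, 4, 1, 0, 2, 3, 2, 1, 0, 4, 3, 2, 1, 0, 1, 3, 2]), (1701, 1013, [0, 1, 0, 1, 0, 2, 1, 3, 2, 3, 1, 0, 1, 2, 0, 1, 4, 3, 1, 0, 2, 3, 2, 1, 0, 4, 3, 2, 1, 0, 1, 3, 2]), (1701, 1342, [2, 3, 4, 1, 0, 1, 0, 2, 1, 3, 2, 3, 1, 0, 1, 2, 0, 1, 1, 0, 2, 3, 2, 1, 0, 4, 3, 2, 1, 0,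 1, 3, 2]), (1701, 1248, [2, 3, 4, 1, 0, 1, 0, 2, 1, 3, 2, 3, 1, 0, 1, 2, 0, 1, 3, 1, 0, 2, 3, 2, 1, 0, 4, 3, 2, 1, 0, 1, 3, 2]), (1330, 1363, [0, 1, 2, 3, 2, 1, 0, 4, 3, 2, 1, 0, 1, 3]), (1330, 1307, [2, 3, 4, 1, 2, 3, 2, 1, 0, 4, 3, 2, 1, 0, 1, 3]), (1330, 1313, [0, 1, 0, 1, 0, 2, 1, 3, 2, 3, 1, 0, 1, 2, 0, 1, 4, 1, 2, 3, 2, 1, 0, 4, 3, 2, 1, 0, 1, 3]), (1330, 908, [0, 1, 0, 1, 0, 2, 1, 3, 2, 3, 1, 0, 1, 2, 0, 1, 4, 3, 1, 2, 3, 2, 1, 0, 4, 3, 2, 1, 0, 1, 3]), (1330, 674, [2, 3, 4, 1, 0, 1, 0, 2, 1, 3, 2, 3, 1, 0, 1, 2, 0, 1, 1, 2, 3, 2, 1, 0, 4, 3, 2, 1, 0, 1, 3]), (1330, 1257, [2, 3, 4, 1, 0, 1, 0, 2, 1, 3, 2, 3, 1, 0, 1, 2, 0, 1, 3, 1, 2, 3, 2, 1, 0, 4, 3, 2,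 1, 0, 1, 3]), (1697, 1702, [0, 1, 2, 3, 2, 1, 0, 4, 3, 2, 1, 0, 1, 0, 3, 4]), (1697, 1445, [2, 3, 4, 1, 2, 3, 2, 1, 0, 4, 3, 2, 1, 0, 1, 0, 3, 4]), (1697, 1311, [0, 1, 0, 1, 0, 2, 1, 3, 2, 3, 1, 0, 1, 2, 0, 1, 4, 1, 2, 3, 2, 1, 0, 4, 3, 2, 1, 0, 1, 0, 3, 4]), (1697, 1012, [0, 1, 0, 1, 0, 2, 1, 3, 2, 3, 1, 0, 1, 2, 0, 1, 4, 3, 1, 2, 3, 2, 1, 0, 4, 3, 2, 1, 0, 1, 0, 3, 4]), (1697, 1327, [2, 3, 4, 1, 0, 1, 0, 2, 1, 3, 2, 3, 1, 0, 1, 2, 0, 1, 1, 2, 3, 2, 1, 0, 4, 3, 2, 1, 0, 1, 0, 3, 4]), (1697, 1341, [2, 3, 4, 1, 0, 1, 0, 2, 1, 3, 2, 3, 1, 0, 1, 2, 0, 1, 3, 1, 2, 3, 2, 1, 0, 4, 3, 2, 1, 0, 1, 0, 3, 4]), (1621, 1655, [0, 1, 2, 3, 2, 1, 0, 4, 3, 2, 1, 0, 1, 0, 3]),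 (1621, 1616, [2, 3, 4, 1, 2, 3, 2, 1, 0, 4, 3, 2, 1, 0, 1, 0, 3]), (1621, 966, [0, 1, 0, 1, 0, 2, 1, 3, 2, 3, 1, 0, 1, 2, 0, 1, 4, 1, 2, 3, 2, 1, 0, 4, 3, 2, 1, 0, 1, 0, 3]), (1621, 1266, [0, 1, 0, 1, 0, 2, 1, 3, 2, 3, 1, 0, 1, 2, 0, 1, 4, 3, 1, 2, 3, 2, 1, 0, 4, 3, 2, 1, 0, 1, 0, 3]), (1621, 981, [2, 3, 4, 1, 0, 1, 0, 2, 1, 3, 2, 3, 1, 0, 1, 2, 0, 1, 1, 2, 3, 2, 1, 0, 4, 3, 2, 1, 0, 1, 0, 3]), (1621, 1256, [2, 3, 4, 1, 0, 1, 0, 2, 1, 3, 2, 3, 1, 0, 1, 2, 0, 1, 3, 1, 2, 3, 2, 1, 0, 4, 3, 2, 1, 0, 1, 0, 3]), (1777, 1626, [0, 1, 2, 3, 2, 1, 0, 4, 3, 2, 1, 0, 1, 0, 3, 2, 3]), (1777, 1699, [2, 3, 4, 1, 2, 3, 2, 1, 0, 4, 3, 2, 1, 0, 1, 0, 3, 2, 3]), (1777, 1619, [0,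 1, 0, 1, 0, 2, 1, 3, 2, 3, 1, 0, 1, 2, 0, 1, 4, 1, 2, 3, 2, 1, 0, 4, 3, 2, 1, 0, 1, 0, 3, 2, 3]), (1777, 701, [0, 1, 0, 1, 0, 2, 1, 3, 2, 3, 1, 0, 1, 2, 0, 1, 4, 3, 1, 2, 3, 2, 1, 0, 4, 3, 2, 1, 0, 1, 0, 3, 2, 3]), (1777, 991, [2, 3, 4, 1, 0, 1, 0, 2, 1, 3, 2, 3, 1, 0, 1, 2, 0, 1, 1, 2, 3, 2, 1, 0, 4, 3, 2, 1, 0, 1, 0, 3, 2, 3]), (1777, 1466, [2, 3, 4, 1, 0, 1, 0, 2, 1, 3, 2, 3, 1, 0, 1, 2, 0, 1, 3, 1, 2, 3, 2, 1, 0, 4, 3, 2, 1, 0, 1, 0, 3, 2, 3]), (1758, 1639, [0, 1, 2, 3, 2, 1, 0, 4, 3, 2, 1, 0, 1, 0, 3, 2]), (1758, 1757, [2, 3, 4, 1, 2, 3, 2, 1, 0, 4, 3, 2, 1, 0, 1, 0, 3, 2]), (1758, 1314, [0, 1, 0, 1, 0, 2, 1, 3, 2, 3, 1, 0, 1, 2, 0, 1, 4, 1, 2, 3, 2, 1, 0,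 4, 3, 2, 1, 0, 1, 0, 3, 2]), (1758, 907, [0, 1, 0, 1, 0, 2, 1, 3, 2, 3, 1, 0, 1, 2, 0, 1, 4, 3, 1, 2, 3, 2, 1, 0, 4, 3, 2, 1, 0, 1, 0, 3, 2]), (1758, 1331, [2, 3, 4, 1, 0, 1, 0, 2, 1, 3, 2, 3, 1, 0, 1, 2, 0, 1, 1, 2, 3, 2, 1, 0, 4, 3, 2, 1, 0, 1, 0, 3, 2]), (1758, 1255, [2, 3, 4, 1, 0, 1, 0, 2, 1, 3, 2, 3, 1, 0, 1, 2, 0, 1, 3, 1, 2, 3, 2, 1, 0, 4, 3, 2, 1, 0, 1, 0, 3, 2]), (989, 1630, [0, 1, 2, 3, 2, 1, 0, 4, 3, 2, 1, 0, 1]), (989, 1290, [2, 3, 4, 1, 2, 3, 2, 1, 0, 4, 3, 2, 1, 0, 1]), (989, 970, [0, 1, 0, 1, 0, 2, 1, 3, 2, 3, 1, 0, 1, 2, 0, 1, 4, 1, 2, 3, 2, 1, 0, 4, 3, 2, 1, 0, 1]), (989, 1234, [0, 1, 0, 1, 0, 2, 1, 3, 2, 3, 1, 0, 1, 2, 0, 1, 4, 3, 1, 2, 3, 2,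 1, 0, 4, 3, 2, 1, 0, 1]), (989, 461, [2, 3, 4, 1, 0, 1, 0, 2, 1, 3, 2, 3, 1, 0, 1, 2, 0, 1, 1, 2, 3, 2, 1, 0, 4, 3, 2, 1, 0, 1]), (989, 1254, [2, 3, 4, 1, 0, 1, 0, 2, 1, 3, 2, 3, 1, 0, 1, 2, 0, 1, 3, 1, 2, 3, 2, 1, 0, 4, 3, 2, 1, 0, 1]), (1318, 1761, [0, 1, 2, 3, 2, 1, 0, 4, 3, 2, 1, 0, 1, 0]), (1318, 1459, [2, 3, 4, 1, 2, 3, 2, 1, 0, 4, 3, 2, 1, 0, 1, 0]), (1318, 666, [0, 1, 0, 1, 0, 2, 1, 3, 2, 3, 1, 0, 1, 2, 0, 1, 4, 1, 2, 3, 2, 1, 0, 4, 3, 2, 1, 0, 1, 0]), (1318, 1339, [0, 1, 0, 1, 0, 2, 1, 3, 2, 3, 1, 0, 1, 2, 0, 1, 4, 3, 1, 2, 3, 2, 1, 0, 4, 3, 2, 1, 0, 1, 0]), (1318, 681, [2, 3, 4, 1, 0, 1, 0, 2, 1, 3, 2, 3, 1, 0, 1, 2, 0, 1, 1, 2, 3, 2, 1, 0, 4, 3, 2, 1,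 0, 1, 0]), (1318, 895, [2, 3, 4, 1, 0, 1, 0, 2, 1, 3, 2, 3, 1, 0, 1, 2, 0, 1, 3, 1, 2, 3, 2, 1, 0, 4, 3, 2, 1, 0, 1, 0]), (1760, 1328, [0, 1, 2, 3, 2, 1, 0, 4, 3, 2, 1, 0, 1, 3, 2, 3]), (1760, 1756, [2, 3, 4, 1, 2, 3, 2, 1, 0, 4, 3, 2, 1, 0, 1, 3, 2, 3]), (1760, 1696, [0, 1, 0, 1, 0, 2, 1, 3, 2, 3, 1, 0, 1, 2, 0, 1, 4, 1, 2, 3, 2, 1, 0, 4, 3, 2, 1, 0, 1, 3, 2, 3]), (1760, 481, [0, 1, 0, 1, 0, 2, 1, 3, 2, 3, 1, 0, 1, 2, 0, 1, 4, 3, 1, 2, 3, 2, 1, 0, 4, 3, 2, 1, 0, 1, 3, 2, 3]), (1760, 683, [2, 3, 4, 1, 0, 1, 0, 2, 1, 3, 2, 3, 1, 0, 1, 2, 0, 1, 1, 2, 3, 2, 1, 0, 4, 3, 2, 1, 0, 1, 3, 2, 3]), (1760, 1249, [2, 3, 4, 1, 0, 1, 0, 2, 1, 3, 2, 3, 1, 0, 1, 2, 0, 1, 3, 1,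 2, 3, 2, 1, 0, 4, 3, 2, 1, 0, 1, 3, 2, 3]), (1627, 1352, [0, 1, 2, 3, 2, 1, 0, 4, 3, 2, 1, 0, 1, 3, 2]), (1627, 1617, [2, 3, 4, 1, 2, 3, 2, 1, 0, 4, 3, 2, 1, 0, 1, 3, 2]), (1627, 1622, [0, 1, 0, 1, 0, 2, 1, 3, 2, 3, 1, 0, 1, 2, 0, 1, 4, 1, 2, 3, 2, 1, 0, 4, 3, 2, 1, 0, 1, 3, 2]), (1627, 619, [0, 1, 0, 1, 0, 2, 1, 3, 2, 3, 1, 0, 1, 2, 0, 1, 4, 3, 1, 2, 3, 2, 1, 0, 4, 3, 2, 1, 0, 1, 3, 2]), (1627, 982, [2, 3, 4, 1, 0, 1, 0, 2, 1, 3, 2, 3, 1, 0, 1, 2, 0, 1, 1, 2, 3, 2, 1, 0, 4, 3, 2, 1, 0, 1, 3, 2]), (1627, 896, [2, 3, 4, 1, 0, 1, 0, 2, 1, 3, 2, 3, 1, 0, 1, 2, 0, 1, 3, 1, 2, 3, 2, 1, 0, 4, 3, 2, 1, 0, 1, 3, 2]), (1625, 1589, [0, 1, 2, 3, 2, 1, 0, 4, 3, 2, 1, 0, 1,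 3, 4]), (1625, 1615, [2, 3, 4, 1, 2, 3, 2, 1, 0, 4, 3, 2, 1, 0, 1, 3, 4])]

def lowTree1_5 : List (ℕ × ℕ × List ℕ) := [(1625, 1444, [0, 1, 0, 1, 0, 2, 1, 3, 2, 3, 1, 0, 1, 2, 0, 1, 4, 1, 2, 3, 2, 1, 0, 4, 3, 2, 1, 0, 1, 3, 4]), (1625, 702, [0, 1, 0, 1, 0, 2, 1, 3, 2, 3, 1, 0, 1, 2, 0, 1, 4, 3, 1, 2, 3, 2, 1, 0, 4, 3, 2, 1, 0, 1, 3, 4]), (1625, 976, [2, 3, 4, 1, 0, 1, 0, 2, 1, 3, 2, 3, 1, 0, 1, 2, 0, 1, 1, 2, 3, 2, 1, 0, 4, 3, 2, 1, 0, 1, 3, 4]), (1625, 993, [2, 3, 4, 1, 0, 1, 0, 2, 1, 3, 2, 3, 1, 0, 1, 2, 0, 1, 3, 1, 2, 3, 2, 1, 0, 4, 3, 2, 1, 0, 1, 3, 4]), (614, 690, [1, 0, 1, 0, 2, 1, 0, 1, 2, 0, 1, 0, 1, 1, 0]), (614, 474, [1, 0, 1, 0, 2, 1, 0, 1, 2, 0, 1, 0,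 1, 3, 1, 0]), (614, 687, [1, 0, 1, 0, 2, 1, 0, 1, 2, 0, 1, 0, 1, 3, 4, 1, 0]), (614, 1781, [2, 3, 4, 1, 0, 1, 0, 2, 1, 3, 2, 3, 1, 0, 1, 2, 0, 1, 1, 0, 1, 0, 2, 1, 3, 2, 3, 1, 0, 1, 2, 0, 1, 1, 0]), (614, 1780, [1, 0, 1, 0, 2, 1, 3, 2, 3, 1, 0, 1, 2, 0, 1, 4, 3, 2, 1, 0, 1, 0, 2, 1, 3, 2, 3, 1, 0, 1, 2, 0, 1, 1, 0]), (315, 644, [2, 1, 0, 1, 2, 1, 0]), (199, 439, [2, 1, 0, 1, 2, 1, 0, 3]), (310, 643, [2, 1, 0, 1, 2, 1, 0, 3, 4]), (1700, 1775, [0, 1, 0, 1, 0, 2, 1, 3, 2, 3, 1, 0, 1, 2, 0, 1, 4, 3, 1, 0, 1, 0, 2, 1, 3, 2, 3, 1, 0, 1, 2, 0, 1, 3, 1, 0, 2, 1, 3, 2, 1, 3, 4, 3, 2, 1, 3, 2]), (1623, 1759, [0, 1, 0, 1, 0, 2, 1, 3, 2, 3, 1, 0, 1, 2, 0, 1, 4, 3, 1, 0, 1,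 0, 2, 1, 3, 2, 3, 1, 0, 1, 2, 0, 1, 3, 1, 0, 2, 1, 3, 2, 1, 3, 4, 3, 2, 1, 3, 2, 3])]

def lowTree1 : List (ℕ × ℕ × List ℕ) := lowTree1_0 ++ lowTree1_1 ++ lowTree1_2 ++ lowTree1_3 ++ lowTree1_4 ++ lowTree1_5

def lowTree2_0 : List (ℕ × ℕ × List ℕ) := [(688, 471, []), (688, 438, [0]), (688, 470, [2]), (688, 316, [3]), (688, 294, [0, 3]), (688, 314, [2, 3]), (688, 200, [3, 2]), (688, 468, [3, 4]), (688, 436, [0, 3, 4]), (688, 467, [2, 3, 4]), (688, 311, [3, 2, 4]), (688, 464, [3, 2, 4, 3]), (688, 685, [3, 2, 4, 3, 2]), (688, 315, [1, 0, 1, 0, 2, 1, 0, 1, 2, 0, 1, 0, 1]), (688, 188, [3, 1, 0, 1, 0, 2, 1, 0, 1, 2, 0, 1, 0, 1]), (688, 199, [1, 0, 1, 0, 2, 1, 0, 1, 2,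 0, 1, 0, 1, 3]), (688, 276, [1, 0, 1, 0, 2, 1, 3, 2, 3, 1, 0, 1, 2, 0, 1]), (688, 290, [3, 4, 1, 0, 1, 0, 2, 1, 0, 1, 2, 0, 1, 0, 1]), (688, 310, [1, 0, 1, 0, 2, 1, 0, 1, 2, 0, 1, 0, 1, 3, 4]), (688, 179, [0, 1, 0, 1, 0, 2, 1, 3, 2, 3, 1, 0, 1, 2, 0, 1]), (688, 277, [2, 1, 0, 1, 0, 2, 1, 3, 2, 3, 1, 0, 1, 2, 0, 1]), (688, 129, [3, 1, 0, 1, 0, 2, 1, 3, 2, 3, 1, 0, 1, 2, 0, 1]), (688, 198, [1, 0, 1, 0, 2, 1, 3, 2, 3, 1, 0, 1, 2, 0, 1, 3]), (688, 411, [1, 0, 1, 0, 2, 1, 3, 2, 3, 1, 0, 1, 2, 0, 1, 4]), (688, 433, [3, 4, 1, 0, 1, 0, 2, 1, 0, 1, 2, 0, 1, 0, 1, 3]), (688, 274, [0, 1, 0, 1, 0, 2, 1, 3, 2, 3, 1, 0, 1, 2, 0, 1, 4]), (688, 412, [2, 1, 0, 1, 0, 2, 1, 3, 2,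 3, 1, 0, 1, 2, 0, 1, 4]), (688, 1320, [3, 4, 1, 0, 1, 0, 2, 1, 3, 2, 3, 1, 0, 1, 2, 0, 1]), (688, 196, [3, 1, 0, 1, 0, 2, 1, 3, 2, 3, 1, 0, 1, 2, 0, 1, 4]), (688, 309, [1, 0, 1, 0, 2, 1, 3, 2, 3, 1, 0, 1, 2, 0, 1, 3, 4]), (688, 608, [1, 0, 1, 0, 2, 1, 3, 2, 3, 1, 0, 1, 2, 0, 1, 4, 3]), (688, 642, [3, 2, 4, 3, 1, 0, 1, 0, 2, 1, 0, 1, 2, 0, 1, 0, 1]), (688, 1592, [0, 3, 4, 1, 0, 1, 0, 2, 1, 3, 2, 3, 1, 0, 1, 2, 0, 1]), (688, 409, [0, 1, 0, 1, 0, 2, 1, 3, 2, 3, 1, 0, 1, 2, 0, 1, 4, 3]), (688, 1261, [2, 3, 4, 1, 0, 1, 0, 2, 1, 3, 2, 3, 1, 0, 1, 2, 0, 1]), (688, 610, [2, 1, 0, 1, 0, 2, 1, 3, 2, 3, 1, 0, 1, 2, 0, 1, 4, 3]), (688, 1449, [3, 2, 4, 1, 0, 1, 0, 2, 1, 3,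 2, 3, 1, 0, 1, 2, 0, 1]), (688, 971, [3, 4, 1, 0, 1, 0, 2, 1, 3, 2, 3, 1, 0, 1, 2, 0, 1, 3]), (688, 1013, [3, 4, 1, 0, 1, 0, 2, 1, 3, 2, 3, 1, 0, 1, 2, 0, 1, 4]), (688, 307, [3, 1, 0, 1, 0, 2, 1, 3, 2, 3, 1, 0, 1, 2, 0, 1, 4, 3]), (688, 462, [1, 0, 1, 0, 2, 1, 3, 2, 3, 1, 0, 1, 2, 0, 1, 3, 4, 3]), (688, 897, [1, 0, 1, 0, 2, 1, 3, 2, 3, 1, 0, 1, 2, 0, 1, 4, 3, 2]), (688, 1319, [0, 3, 4, 1, 0, 1, 0, 2, 1, 3, 2, 3, 1, 0, 1, 2, 0, 1, 3]), (688, 1343, [0, 3, 4, 1, 0, 1, 0, 2, 1, 3, 2, 3, 1, 0, 1, 2, 0, 1, 4]), (688, 1594, [2, 3, 4, 1, 0, 1, 0, 2, 1, 3, 2, 3, 1, 0, 1, 2, 0, 1, 3]), (688, 994, [2, 3, 4, 1, 0, 1, 0, 2, 1, 3, 2, 3, 1, 0, 1, 2, 0, 1, 4]), (688, 899, [2,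 1, 0, 1, 0, 2, 1, 3, 2, 3, 1, 0, 1, 2, 0, 1, 4, 3, 2]), (688, 1313, [3, 2, 4, 3, 1, 0, 1, 0, 2, 1, 3, 2, 3, 1, 0, 1, 2, 0, 1]), (688, 1311, [3, 2, 4, 1, 0, 1, 0, 2, 1, 3, 2, 3, 1, 0, 1, 2, 0, 1, 3]), (688, 1119, [3, 2, 4, 1, 0, 1, 0, 2, 1, 3, 2, 3, 1, 0, 1, 2, 0, 1, 4]), (688, 666, [3, 4, 1, 0, 1, 0, 2, 1, 3, 2, 3, 1, 0, 1, 2, 0, 1, 3, 2]), (688, 1234, [3, 4, 1, 0, 1, 0, 2, 1, 3, 2, 3, 1, 0, 1, 2, 0, 1, 3, 4]), (688, 702, [3, 4, 1, 0, 1, 0, 2, 1, 3, 2, 3, 1, 0, 1, 2, 0, 1, 4, 3]), (688, 463, [3, 1, 0, 1, 0, 2, 1, 3, 2, 3, 1, 0, 1, 2, 0, 1, 4, 3, 2]), (688, 1259, [1, 0, 1, 0, 2, 1, 3, 2, 3, 1, 0, 1, 2, 0, 1, 4, 3, 2, 3]), (688, 1339, [0, 3, 4, 1, 0, 1, 0, 2, 1,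 3, 2, 3, 1, 0, 1, 2, 0, 1, 3, 4]), (688, 1012, [0, 3, 4, 1, 0, 1, 0, 2, 1, 3, 2, 3, 1, 0, 1, 2, 0, 1, 4, 3]), (688, 1287, [2, 3, 4, 1, 0, 1, 0, 2, 1, 3, 2, 3, 1, 0, 1, 2, 0, 1, 3, 2]), (688, 1573, [2, 3, 4, 1, 0, 1, 0, 2, 1, 3, 2, 3, 1, 0, 1, 2, 0, 1, 3, 4]), (688, 940, [2, 3, 4, 1, 0, 1, 0, 2, 1, 3, 2, 3, 1, 0, 1, 2, 0, 1, 4, 3])]

def lowTree2_1 : List (ℕ × ℕ × List ℕ) := [(688, 874, [3, 2, 4, 1, 0, 1, 0, 2, 1, 3, 2, 3, 1, 0, 1, 2, 0, 1, 4, 3]), (688, 908, [3, 4, 1, 0, 1, 0, 2, 1, 3, 2, 3, 1, 0, 1, 2, 0, 1, 3, 4, 3]), (688, 481, [3, 4, 1, 0, 1, 0, 2, 1, 3, 2, 3, 1, 0, 1, 2, 0, 1, 4, 3, 2]), (688, 1266, [0, 3, 4, 1, 0, 1, 0, 2, 1, 3, 2, 3, 1, 0, 1, 2, 0, 1, 3,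 4, 3]), (688, 695, [2, 3, 4, 1, 0, 1, 0, 2, 1, 3, 2, 3, 1, 0, 1, 2, 0, 1, 4, 3, 2]), (688, 619, [3, 4, 1, 0, 1, 0, 2, 1, 3, 2, 3, 1, 0, 1, 2, 0, 1, 3, 4, 3, 2]), (688, 267, [1, 0, 1, 0, 2, 1, 0, 1, 2, 0, 1, 0, 1, 1, 0, 1, 0, 2, 1, 3, 2, 3, 1, 0, 1, 2, 0, 1]), (688, 396, [1, 0, 1, 0, 2, 1, 0, 1, 2, 0, 1, 0, 1, 1, 0, 1, 0, 2, 1, 3, 2, 3, 1, 0, 1, 2, 0, 1, 4]), (688, 1101, [3, 4, 1, 0, 1, 0, 2, 1, 0, 1, 2, 0, 1, 0, 1, 1, 0, 1, 0, 2, 1, 3, 2, 3, 1, 0, 1, 2, 0, 1]), (688, 1595, [1, 0, 1, 0, 2, 1, 0, 1, 2, 0, 1, 0, 1, 3, 4, 1, 0, 1, 0, 2, 1, 3, 2, 3, 1, 0, 1, 2, 0, 1]), (688, 581, [1, 0, 1, 0, 2, 1, 0, 1, 2, 0, 1, 0, 1, 1, 0, 1, 0, 2, 1, 3, 2, 3, 1, 0, 1, 2, 0, 1, 4,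 3]), (688, 609, [1, 0, 1, 0, 2, 1, 3, 2, 3, 1, 0, 1, 2, 0, 1, 4, 3, 1, 0, 1, 0, 2, 1, 0, 1, 2, 0, 1, 0, 1]), (688, 1340, [1, 0, 1, 0, 2, 1, 3, 2, 3, 1, 0, 1, 2, 0, 1, 4, 1, 0, 1, 0, 2, 1, 3, 2, 3, 1, 0, 1, 2, 0, 1]), (688, 857, [2, 1, 0, 1, 0, 2, 1, 3, 2, 3, 1, 0, 1, 2, 0, 1, 4, 3, 1, 0, 1, 0, 2, 1, 0, 1, 2, 0, 1, 0, 1]), (688, 966, [3, 4, 1, 0, 1, 0, 2, 1, 0, 1, 2, 0, 1, 0, 1, 3, 1, 0, 1, 0, 2, 1, 3, 2, 3, 1, 0, 1, 2, 0, 1]), (688, 779, [3, 4, 1, 0, 1, 0, 2, 1, 0, 1, 2, 0, 1, 0, 1, 1, 0, 1, 0, 2, 1, 3, 2, 3, 1, 0, 1, 2, 0, 1, 4]), (688, 970, [3, 4, 1, 0, 1, 0, 2, 1, 3, 2, 3, 1, 0, 1, 2, 0, 1, 3, 1, 0, 1, 0, 2, 1, 0, 1, 2, 0, 1, 0, 1]), (688, 684, [3, 1, 0, 1,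 0, 2, 1, 3, 2, 3, 1, 0, 1, 2, 0, 1, 4, 3, 1, 0, 1, 0, 2, 1, 0, 1, 2, 0, 1, 0, 1]), (688, 1321, [1, 0, 1, 0, 2, 1, 0, 1, 2, 0, 1, 0, 1, 3, 4, 1, 0, 1, 0, 2, 1, 3, 2, 3, 1, 0, 1, 2, 0, 1, 3]), (688, 1344, [1, 0, 1, 0, 2, 1, 0, 1, 2, 0, 1, 0, 1, 3, 4, 1, 0, 1, 0, 2, 1, 3, 2, 3, 1, 0, 1, 2, 0, 1, 4]), (688, 898, [1, 0, 1, 0, 2, 1, 3, 2, 3, 1, 0, 1, 2, 0, 1, 4, 3, 1, 0, 1, 0, 2, 1, 0, 1, 2, 0, 1, 0, 1, 3]), (688, 992, [0, 1, 0, 1, 0, 2, 1, 3, 2, 3, 1, 0, 1, 2, 0, 1, 4, 1, 0, 1, 0, 2, 1, 3, 2, 3, 1, 0, 1, 2, 0, 1]), (688, 1342, [2, 1, 0, 1, 0, 2, 1, 3, 2, 3, 1, 0, 1, 2, 0, 1, 4, 1, 0, 1, 0, 2, 1, 3, 2, 3, 1, 0, 1, 2, 0, 1]), (688, 1696, [3, 4, 1, 0, 1, 0, 2, 1, 3, 2,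 3, 1, 0, 1, 2, 0, 1, 1, 0, 1, 0, 2, 1, 3, 2, 3, 1, 0, 1, 2, 0, 1]), (688, 1104, [3, 1, 0, 1, 0, 2, 1, 3, 2, 3, 1, 0, 1, 2, 0, 1, 4, 1, 0, 1, 0, 2, 1, 3, 2, 3, 1, 0, 1, 2, 0, 1]), (688, 1451, [1, 0, 1, 0, 2, 1, 3, 2, 3, 1, 0, 1, 2, 0, 1, 3, 4, 1, 0, 1, 0, 2, 1, 3, 2, 3, 1, 0, 1, 2, 0, 1]), (688, 1584, [1, 0, 1, 0, 2, 1, 3, 2, 3, 1, 0, 1, 2, 0, 1, 4, 3, 1, 0, 1, 0, 2, 1, 3, 2, 3, 1, 0, 1, 2, 0, 1]), (688, 990, [1, 0, 1, 0, 2, 1, 3, 2, 3, 1, 0, 1, 2, 0, 1, 4, 1, 0, 1, 0, 2, 1, 3, 2, 3, 1, 0, 1, 2, 0, 1, 3]), (688, 972, [2, 3, 4, 1, 0, 1, 0, 2, 1, 3, 2, 3, 1, 0, 1, 2, 0, 1, 3, 1, 0, 1, 0, 2, 1, 0, 1, 2, 0, 1, 0, 1]), (688, 1114, [3, 4, 1, 0, 1, 0, 2, 1, 0, 1, 2, 0,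 1, 0, 1, 1, 0, 1, 0, 2, 1, 3, 2, 3, 1, 0, 1, 2, 0, 1, 4, 3]), (688, 701, [3, 4, 1, 0, 1, 0, 2, 1, 3, 2, 3, 1, 0, 1, 2, 0, 1, 4, 3, 1, 0, 1, 0, 2, 1, 0, 1, 2, 0, 1, 0, 1]), (688, 1462, [1, 0, 1, 0, 2, 1, 0, 1, 2, 0, 1, 0, 1, 3, 4, 1, 0, 1, 0, 2, 1, 3, 2, 3, 1, 0, 1, 2, 0, 1, 3, 4]), (688, 1619, [0, 3, 4, 1, 0, 1, 0, 2, 1, 3, 2, 3, 1, 0, 1, 2, 0, 1, 1, 0, 1, 0, 2, 1, 3, 2, 3, 1, 0, 1, 2, 0, 1]), (688, 1746, [0, 1, 0, 1, 0, 2, 1, 3, 2, 3, 1, 0, 1, 2, 0, 1, 4, 3, 1, 0, 1, 0, 2, 1, 3, 2, 3, 1, 0, 1, 2, 0, 1]), (688, 682, [0, 1, 0, 1, 0, 2, 1, 3, 2, 3, 1, 0, 1, 2, 0, 1, 4, 1, 0, 1, 0, 2, 1, 3, 2, 3, 1, 0, 1, 2, 0, 1, 3]), (688, 1700, [2, 3, 4, 1, 0, 1, 0, 2, 1, 3, 2,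 3, 1, 0, 1, 2, 0, 1, 1, 0, 1, 0, 2, 1, 3, 2, 3, 1, 0, 1, 2, 0, 1]), (688, 1655, [2, 1, 0, 1, 0, 2, 1, 3, 2, 3, 1, 0, 1, 2, 0, 1, 4, 3, 1, 0, 1, 0, 2, 1, 3, 2, 3, 1, 0, 1, 2, 0, 1]), (688, 993, [2, 1, 0, 1, 0, 2, 1, 3, 2, 3, 1, 0, 1, 2, 0, 1, 4, 1, 0, 1, 0, 2, 1, 3, 2, 3, 1, 0, 1, 2, 0, 1, 3]), (688, 1444, [3, 2, 4, 1, 0, 1, 0, 2, 1, 3, 2, 3, 1, 0, 1, 2, 0, 1, 1, 0, 1, 0, 2, 1, 3, 2, 3, 1, 0, 1, 2, 0, 1]), (688, 1702, [3, 4, 1, 0, 1, 0, 2, 1, 3, 2, 3, 1, 0, 1, 2, 0, 1, 4, 1, 0, 1, 0, 2, 1, 3, 2, 3, 1, 0, 1, 2, 0, 1]), (688, 1622, [3, 4, 1, 0, 1, 0, 2, 1, 3, 2, 3, 1, 0, 1, 2, 0, 1, 1, 0, 1, 0, 2, 1, 3, 2, 3, 1, 0, 1, 2, 0, 1, 3]), (688, 1605, [3, 1, 0, 1, 0, 2, 1,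 3, 2, 3, 1, 0, 1, 2, 0, 1, 4, 3, 1, 0, 1, 0, 2, 1, 3, 2, 3, 1, 0, 1, 2, 0, 1]), (688, 1446, [3, 1, 0, 1, 0, 2, 1, 3, 2, 3, 1, 0, 1, 2, 0, 1, 4, 1, 0, 1, 0, 2, 1, 3, 2, 3, 1, 0, 1, 2, 0, 1, 3]), (688, 782, [3, 1, 0, 1, 0, 2, 1, 3, 2, 3, 1, 0, 1, 2, 0, 1, 4, 1, 0, 1, 0, 2, 1, 3, 2, 3, 1, 0, 1, 2, 0, 1, 4]), (688, 1315, [1, 0, 1, 0, 2, 1, 3, 2, 3, 1, 0, 1, 2, 0, 1, 3, 4, 3, 1, 0, 1, 0, 2, 1, 3, 2, 3, 1, 0, 1, 2, 0, 1]), (688, 1121, [1, 0, 1, 0, 2, 1, 3, 2, 3, 1, 0, 1, 2, 0, 1, 3, 4, 1, 0, 1, 0, 2, 1, 3, 2, 3, 1, 0, 1, 2, 0, 1, 4]), (688, 1583, [1, 0, 1, 0, 2, 1, 3, 2, 3, 1, 0, 1, 2, 0, 1, 4, 3, 2, 1, 0, 1, 0, 2, 1, 3, 2, 3, 1, 0, 1, 2, 0, 1]), (688, 1747, [1, 0, 1,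 0, 2, 1, 3, 2, 3, 1, 0, 1, 2, 0, 1, 4, 3, 1, 0, 1, 0, 2, 1, 3, 2, 3, 1, 0, 1, 2, 0, 1, 3]), (688, 1248, [1, 0, 1, 0, 2, 1, 3, 2, 3, 1, 0, 1, 2, 0, 1, 4, 3, 1, 0, 1, 0, 2, 1, 3, 2, 3, 1, 0, 1, 2, 0, 1, 4]), (688, 681, [1, 0, 1, 0, 2, 1, 3, 2, 3, 1, 0, 1, 2, 0, 1, 4, 1, 0, 1, 0, 2, 1, 3, 2, 3, 1, 0, 1, 2, 0, 1, 3, 2]), (688, 1254, [1, 0, 1, 0, 2, 1, 3, 2, 3, 1, 0, 1, 2, 0, 1, 4, 1, 0, 1, 0, 2, 1, 3, 2, 3, 1, 0, 1, 2, 0, 1, 3, 4]), (688, 703, [2, 3, 4, 1, 0, 1, 0, 2, 1, 3, 2, 3, 1, 0, 1, 2, 0, 1, 4, 3, 1, 0, 1, 0, 2, 1, 0, 1, 2, 0, 1, 0, 1]), (688, 907, [3, 4, 1, 0, 1, 0, 2, 1, 3, 2, 3, 1, 0, 1, 2, 0, 1, 3, 4, 3, 1, 0, 1, 0, 2, 1, 0, 1, 2, 0, 1, 0, 1]), (688, 1589,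 [0, 3, 4, 1, 0, 1, 0, 2, 1, 3, 2, 3, 1, 0, 1, 2, 0, 1, 4, 1, 0, 1, 0, 2, 1, 3, 2, 3, 1, 0, 1, 2, 0, 1]), (688, 1314, [0, 3, 4, 1, 0, 1, 0, 2, 1, 3, 2, 3, 1, 0, 1, 2, 0, 1, 1, 0, 1, 0, 2, 1, 3, 2, 3, 1, 0, 1, 2, 0, 1, 3]), (688, 1762, [0, 1, 0, 1, 0, 2, 1, 3, 2, 3, 1, 0, 1, 2, 0, 1, 4, 3, 1, 0, 1, 0, 2, 1, 3, 2, 3, 1, 0, 1, 2, 0, 1, 3]), (688, 1588, [0, 1, 0, 1, 0, 2, 1, 3, 2, 3, 1, 0, 1, 2, 0, 1, 4, 3, 1, 0, 1, 0, 2, 1, 3, 2, 3, 1, 0, 1, 2, 0, 1, 4]), (688, 895, [0, 1, 0, 1, 0, 2, 1, 3, 2, 3, 1, 0, 1, 2, 0, 1, 4, 1, 0, 1, 0, 2, 1, 3, 2, 3, 1, 0, 1, 2, 0, 1, 3, 4]), (688, 1623, [2, 3, 4, 1, 0, 1, 0, 2, 1, 3, 2, 3, 1, 0, 1, 2, 0, 1, 1, 0, 1, 0, 2, 1, 3, 2, 3, 1,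 0, 1, 2, 0, 1, 3]), (688, 1761, [2, 1, 0, 1, 0, 2, 1, 3, 2, 3, 1, 0, 1, 2, 0, 1, 4, 3, 1, 0, 1, 0, 2, 1, 3, 2, 3, 1, 0, 1, 2, 0, 1, 3])]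

def lowTree2_2 : List (ℕ × ℕ × List ℕ) := [(688, 1257, [2, 1, 0, 1, 0, 2, 1, 3, 2, 3, 1, 0, 1, 2, 0, 1, 4, 1, 0, 1, 0, 2, 1, 3, 2, 3, 1, 0, 1, 2, 0, 1, 3, 4]), (688, 1466, [3, 2, 4, 1, 0, 1, 0, 2, 1, 3, 2, 3, 1, 0, 1, 2, 0, 1, 4, 1, 0, 1, 0, 2, 1, 3, 2, 3, 1, 0, 1, 2, 0, 1]), (688, 1267, [3, 4, 1, 0, 1, 0, 2, 1, 3, 2, 3, 1, 0, 1, 2, 0, 1, 4, 3, 1, 0, 1, 0, 2, 1, 3, 2, 3, 1, 0, 1, 2, 0, 1]), (688, 1116, [3, 1, 0, 1, 0, 2, 1, 3, 2, 3, 1, 0, 1, 2, 0, 1, 4, 1, 0, 1, 0, 2, 1, 3, 2, 3, 1, 0, 1, 2, 0, 1, 4, 3]), (688, 1460, [1, 0, 1, 0, 2, 1, 3, 2, 3, 1, 0, 1, 2, 0, 1, 3, 4, 1, 0, 1, 0, 2, 1, 3, 2, 3, 1, 0, 1, 2, 0, 1, 4, 3]), (688, 894, [1, 0, 1, 0, 2, 1, 3, 2, 3, 1,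 0, 1, 2, 0, 1, 4, 1, 0, 1, 0, 2, 1, 3, 2, 3, 1, 0, 1, 2, 0, 1, 3, 2, 4]), (688, 1226, [0, 3, 4, 1, 0, 1, 0, 2, 1, 3, 2, 3, 1, 0, 1, 2, 0, 1, 4, 3, 1, 0, 1, 0, 2, 1, 3, 2, 3, 1, 0, 1, 2, 0, 1]), (688, 904, [3, 4, 1, 0, 1, 0, 2, 1, 3, 2, 3, 1, 0, 1, 2, 0, 1, 4, 3, 2, 1, 0, 1, 0, 2, 1, 3, 2, 3, 1, 0, 1, 2, 0, 1]), (688, 1258, [1, 0, 1, 0, 2, 1, 0, 1, 2, 0, 1, 0, 1, 1, 0, 1, 0, 2, 1, 3, 2, 3, 1, 0, 1, 2, 0, 1, 4, 1, 0, 1, 0, 2, 1, 3, 2, 3, 1, 0, 1, 2, 0, 1]), (688, 1776, [1, 0, 1, 0, 2, 1, 0, 1, 2, 0, 1, 0, 1, 3, 4, 1, 0, 1, 0, 2, 1, 3, 2, 3, 1, 0, 1, 2, 0, 1, 1, 0, 1, 0, 2, 1, 3, 2, 3, 1, 0, 1, 2, 0, 1]), (688, 1363, [1, 0, 1, 0, 2, 1, 0, 1, 2, 0, 1, 0, 1, 1, 0, 1,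 0, 2, 1, 3, 2, 3, 1, 0, 1, 2, 0, 1, 4, 3, 1, 0, 1, 0, 2, 1, 3, 2, 3, 1, 0, 1, 2, 0, 1]), (688, 1341, [1, 0, 1, 0, 2, 1, 0, 1, 2, 0, 1, 0, 1, 1, 0, 1, 0, 2, 1, 3, 2, 3, 1, 0, 1, 2, 0, 1, 4, 1, 0, 1, 0, 2, 1, 3, 2, 3, 1, 0, 1, 2, 0, 1, 3]), (688, 1241, [1, 0, 1, 0, 2, 1, 3, 2, 3, 1, 0, 1, 2, 0, 1, 4, 3, 1, 0, 1, 0, 2, 1, 0, 1, 2, 0, 1, 0, 1, 1, 0, 1, 0, 2, 1, 3, 2, 3, 1, 0, 1, 2, 0, 1]), (688, 461, [1, 0, 1, 0, 2, 1, 3, 2, 3, 1, 0, 1, 2, 0, 1, 4, 1, 0, 1, 0, 2, 1, 3, 2, 3, 1, 0, 1, 2, 0, 1, 3, 1, 0, 1, 0, 2, 1, 0, 1, 2, 0, 1, 0, 1]), (688, 1328, [1, 0, 1, 0, 2, 1, 3, 2, 3, 1, 0, 1, 2, 0, 1, 4, 1, 0, 1, 0, 2, 1, 3, 2, 3, 1, 0, 1, 2, 0, 1, 1, 0, 1, 0, 2, 1, 3, 2, 3,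 1, 0, 1, 2, 0, 1]), (688, 1249, [3, 4, 1, 0, 1, 0, 2, 1, 0, 1, 2, 0, 1, 0, 1, 1, 0, 1, 0, 2, 1, 3, 2, 3, 1, 0, 1, 2, 0, 1, 4, 1, 0, 1, 0, 2, 1, 3, 2, 3, 1, 0, 1, 2, 0, 1]), (688, 1753, [3, 1, 0, 1, 0, 2, 1, 3, 2, 3, 1, 0, 1, 2, 0, 1, 4, 3, 1, 0, 1, 0, 2, 1, 0, 1, 2, 0, 1, 0, 1, 1, 0, 1, 0, 2, 1, 3, 2, 3, 1, 0, 1, 2, 0, 1]), (688, 1630, [1, 0, 1, 0, 2, 1, 0, 1, 2, 0, 1, 0, 1, 1, 0, 1, 0, 2, 1, 3, 2, 3, 1, 0, 1, 2, 0, 1, 4, 3, 1, 0, 1, 0, 2, 1, 3, 2, 3, 1, 0, 1, 2, 0, 1, 3]), (688, 1256, [1, 0, 1, 0, 2, 1, 0, 1, 2, 0, 1, 0, 1, 1, 0, 1, 0, 2, 1, 3, 2, 3, 1, 0, 1, 2, 0, 1, 4, 1, 0, 1, 0, 2, 1, 3, 2, 3, 1, 0, 1, 2, 0, 1, 3, 4]), (688, 607, [1, 0, 1, 0, 2, 1, 3, 2, 3,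 1, 0, 1, 2, 0, 1, 4, 1, 0, 1, 0, 2, 1, 3, 2, 3, 1, 0, 1, 2, 0, 1, 3, 4, 1, 0, 1, 0, 2, 1, 0, 1, 2, 0, 1, 0, 1]), (688, 1626, [0, 1, 0, 1, 0, 2, 1, 3, 2, 3, 1, 0, 1, 2, 0, 1, 4, 1, 0, 1, 0, 2, 1, 3, 2, 3, 1, 0, 1, 2, 0, 1, 1, 0, 1, 0, 2, 1, 3, 2, 3, 1, 0, 1, 2, 0, 1]), (688, 1327, [2, 1, 0, 1, 0, 2, 1, 3, 2, 3, 1, 0, 1, 2, 0, 1, 4, 1, 0, 1, 0, 2, 1, 3, 2, 3, 1, 0, 1, 2, 0, 1, 1, 0, 1, 0, 2, 1, 3, 2, 3, 1, 0, 1, 2, 0, 1]), (688, 1698, [3, 1, 0, 1, 0, 2, 1, 3, 2, 3, 1, 0, 1, 2, 0, 1, 4, 1, 0, 1, 0, 2, 1, 3, 2, 3, 1, 0, 1, 2, 0, 1, 1, 0, 1, 0, 2, 1, 3, 2, 3, 1, 0, 1, 2, 0, 1]), (688, 683, [1, 0, 1, 0, 2, 1, 3, 2, 3, 1, 0, 1, 2, 0, 1, 4, 3, 1, 0, 1, 0, 2, 1, 3, 2, 3,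 1, 0, 1, 2, 0, 1, 1, 0, 1, 0, 2, 1, 3, 2, 3, 1, 0, 1, 2, 0, 1]), (688, 1352, [1, 0, 1, 0, 2, 1, 3, 2, 3, 1, 0, 1, 2, 0, 1, 4, 1, 0, 1, 0, 2, 1, 3, 2, 3, 1, 0, 1, 2, 0, 1, 1, 0, 1, 0, 2, 1, 3, 2, 3, 1, 0, 1, 2, 0, 1, 3]), (688, 982, [1, 0, 1, 0, 2, 1, 3, 2, 3, 1, 0, 1, 2, 0, 1, 4, 1, 0, 1, 0, 2, 1, 3, 2, 3, 1, 0, 1, 2, 0, 1, 1, 0, 1, 0, 2, 1, 3, 2, 3, 1, 0, 1, 2, 0, 1, 4]), (688, 909, [3, 4, 1, 0, 1, 0, 2, 1, 3, 2, 3, 1, 0, 1, 2, 0, 1, 4, 3, 1, 0, 1, 0, 2, 1, 0, 1, 2, 0, 1, 0, 1, 1, 0, 1, 0, 2, 1, 3, 2, 3, 1, 0, 1, 2, 0, 1]), (688, 991, [0, 1, 0, 1, 0, 2, 1, 3, 2, 3, 1, 0, 1, 2, 0, 1, 4, 3, 1, 0, 1, 0, 2, 1, 3, 2, 3, 1, 0, 1, 2, 0, 1, 1, 0, 1, 0, 2, 1, 3, 2, 3,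 1, 0, 1, 2, 0, 1]), (688, 1639, [0, 1, 0, 1, 0, 2, 1, 3, 2, 3, 1, 0, 1, 2, 0, 1, 4, 1, 0, 1, 0, 2, 1, 3, 2, 3, 1, 0, 1, 2, 0, 1, 1, 0, 1, 0, 2, 1, 3, 2, 3, 1, 0, 1, 2, 0, 1, 3]), (688, 1331, [0, 1, 0, 1, 0, 2, 1, 3, 2, 3, 1, 0, 1, 2, 0, 1, 4, 1, 0, 1, 0, 2, 1, 3, 2, 3, 1, 0, 1, 2, 0, 1, 1, 0, 1, 0, 2, 1, 3, 2, 3, 1, 0, 1, 2, 0, 1, 4]), (688, 981, [2, 1, 0, 1, 0, 2, 1, 3, 2, 3, 1, 0, 1, 2, 0, 1, 4, 1, 0, 1, 0, 2, 1, 3, 2, 3, 1, 0, 1, 2, 0, 1, 1, 0, 1, 0, 2, 1, 3, 2, 3, 1, 0, 1, 2, 0, 1, 4]), (688, 1014, [3, 4, 1, 0, 1, 0, 2, 1, 3, 2, 3, 1, 0, 1, 2, 0, 1, 4, 1, 0, 1, 0, 2, 1, 3, 2, 3, 1, 0, 1, 2, 0, 1, 1, 0, 1, 0, 2, 1, 3, 2, 3, 1, 0, 1, 2, 0, 1]), (688, 1247, [3,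 1, 0, 1, 0, 2, 1, 3, 2, 3, 1, 0, 1, 2, 0, 1, 4, 1, 0, 1, 0, 2, 1, 3, 2, 3, 1, 0, 1, 2, 0, 1, 4, 1, 0, 1, 0, 2, 1, 3, 2, 3, 1, 0, 1, 2, 0, 1]), (688, 889, [1, 0, 1, 0, 2, 1, 3, 2, 3, 1, 0, 1, 2, 0, 1, 3, 4, 1, 0, 1, 0, 2, 1, 3, 2, 3, 1, 0, 1, 2, 0, 1, 4, 1, 0, 1, 0, 2, 1, 3, 2, 3, 1, 0, 1, 2, 0, 1]), (688, 896, [1, 0, 1, 0, 2, 1, 3, 2, 3, 1, 0, 1, 2, 0, 1, 4, 3, 1, 0, 1, 0, 2, 1, 3, 2, 3, 1, 0, 1, 2, 0, 1, 1, 0, 1, 0, 2, 1, 3, 2, 3, 1, 0, 1, 2, 0, 1, 4]), (688, 1255, [0, 1, 0, 1, 0, 2, 1, 3, 2, 3, 1, 0, 1, 2, 0, 1, 4, 3, 1, 0, 1, 0, 2, 1, 3, 2, 3, 1, 0, 1, 2, 0, 1, 1, 0, 1, 0, 2, 1, 3, 2, 3, 1, 0, 1, 2, 0, 1, 4]), (688, 976, [1, 0, 1, 0, 2, 1, 0, 1, 2, 0, 1, 0,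 1, 1, 0, 1, 0, 2, 1, 3, 2, 3, 1, 0, 1, 2, 0, 1, 4, 1, 0, 1, 0, 2, 1, 3, 2, 3, 1, 0, 1, 2, 0, 1, 1, 0, 1, 0, 2, 1, 3, 2, 3, 1, 0, 1, 2, 0, 1]), (688, 674, [1, 0, 1, 0, 2, 1, 0, 1, 2, 0, 1, 0, 1, 1, 0, 1, 0, 2, 1, 3, 2, 3, 1, 0, 1, 2, 0, 1, 4, 1, 0, 1, 0, 2, 1, 3, 2, 3, 1, 0, 1, 2, 0, 1, 1, 0, 1, 0, 2, 1, 3, 2, 3, 1, 0, 1, 2, 0, 1, 4]), (688, 1260, [1, 0, 1, 0, 2, 1, 3, 2, 3, 1, 0, 1, 2, 0, 1, 4, 1, 0, 1, 0, 2, 1, 3, 2, 3, 1, 0, 1, 2, 0, 1, 1, 0, 1, 0, 2, 1, 3, 2, 3, 1, 0, 1, 2, 0, 1, 1, 0, 1, 0, 2, 1, 3, 2, 3, 1, 0, 1, 2, 0, 1]), (688, 1225, [0, 1, 0, 1, 0, 2, 1, 3, 2, 3, 1, 0, 1, 2, 0, 1, 4, 1, 0, 1, 0, 2, 1, 3, 2, 3, 1, 0, 1, 2, 0, 1, 1, 0, 1, 0, 2, 1, 3, 2, 3,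 1, 0, 1, 2, 0, 1, 1, 0, 1, 0, 2, 1, 3, 2, 3, 1, 0, 1, 2, 0, 1]), (471, 689, [2, 1, 0, 2, 1]), (471, 82, [3, 1, 0, 2, 1]), (471, 318, [0, 3, 1, 0, 2, 1]), (471, 128, [3, 4, 1, 0, 2, 1]), (471, 469, [0, 3, 4, 1, 0, 2, 1]), (471, 780, [3, 2, 4, 3, 1, 0, 2, 1]), (471, 415, [1, 0, 1, 0, 2, 1, 0, 1, 2, 0, 1, 0, 1, 1, 0, 2, 1]), (471, 130, [3, 1, 0, 1, 0, 2, 1, 3, 2, 3, 1, 0, 1, 2, 0, 1, 1, 0, 2, 1]), (471, 234, [1, 0, 1, 0, 2, 1, 3, 2, 3, 1, 0, 1, 2, 0, 1, 3, 1, 0, 2, 1]), (471, 781, [3, 4, 1, 0, 1, 0, 2, 1, 3, 2, 3, 1, 0, 1, 2, 0, 1, 1, 0, 2, 1]), (471, 197, [3, 1, 0, 1, 0, 2, 1, 3, 2, 3, 1, 0, 1, 2, 0, 1, 4, 1, 0, 2, 1]), (471, 358, [1, 0, 1, 0, 2, 1, 3, 2, 3, 1, 0,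 1, 2, 0, 1, 3, 4, 1, 0, 2, 1]), (471, 698, [3, 2, 4, 3, 1, 0, 1, 0, 2, 1, 0, 1, 2, 0, 1, 0, 1, 1, 0, 2, 1]), (471, 594, [0, 1, 0, 1, 0, 2, 1, 3, 2, 3, 1, 0, 1, 2, 0, 1, 4, 3, 1, 0, 2, 1]), (471, 612, [2, 3, 4, 1, 0, 1, 0, 2, 1, 3, 2, 3, 1, 0, 1, 2, 0, 1, 1, 0, 2, 1]), (471, 1102, [2, 1, 0, 1, 0, 2, 1, 3, 2, 3, 1, 0, 1, 2, 0, 1, 4, 3, 1, 0, 2, 1]), (471, 1461, [3, 2, 4, 1, 0, 1, 0, 2, 1, 3, 2, 3, 1, 0, 1, 2, 0, 1, 1, 0, 2, 1]), (471, 1103, [3, 4, 1, 0, 1, 0, 2, 1, 3, 2, 3, 1, 0, 1, 2, 0, 1, 4, 1, 0, 2, 1]), (471, 451, [3, 1, 0, 1, 0, 2, 1, 3, 2, 3, 1, 0, 1, 2, 0, 1, 4, 3, 1, 0, 2, 1]), (471, 406, [0, 3, 4, 1, 0, 1, 0, 2, 1, 3, 2, 3, 1, 0, 1, 2, 0, 1, 3, 1, 0, 2,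 1])]

def lowTree2_3 : List (ℕ × ℕ × List ℕ) := [(471, 466, [2, 3, 4, 1, 0, 1, 0, 2, 1, 3, 2, 3, 1, 0, 1, 2, 0, 1, 4, 1, 0, 2, 1]), (471, 1290, [3, 2, 4, 1, 0, 1, 0, 2, 1, 3, 2, 3, 1, 0, 1, 2, 0, 1, 4, 1, 0, 2, 1]), (471, 465, [3, 4, 1, 0, 1, 0, 2, 1, 3, 2, 3, 1, 0, 1, 2, 0, 1, 3, 2, 1, 0, 2, 1]), (471, 1318, [3, 4, 1, 0, 1, 0, 2, 1, 3, 2, 3, 1, 0, 1, 2, 0, 1, 4, 3, 1, 0, 2, 1]), (471, 989, [3, 1, 0, 1, 0, 2, 1, 3, 2, 3, 1, 0, 1, 2, 0, 1, 4, 3, 2, 1, 0, 2, 1]), (471, 639, [1, 0, 1, 0, 2, 1, 3, 2, 3, 1, 0, 1, 2, 0, 1, 4, 3, 2, 3, 1, 0, 2, 1]), (471, 303, [0, 3, 4, 1, 0, 1, 0, 2, 1, 3, 2, 3, 1, 0, 1, 2, 0, 1, 3, 4, 1, 0, 2, 1]), (471, 365, [2, 3, 4, 1, 0, 1, 0, 2,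 1, 3, 2, 3, 1, 0, 1, 2, 0, 1, 4, 3, 1, 0, 2, 1]), (471, 611, [3, 2, 4, 1, 0, 1, 0, 2, 1, 3, 2, 3, 1, 0, 1, 2, 0, 1, 4, 3, 1, 0, 2, 1]), (471, 1338, [3, 4, 1, 0, 1, 0, 2, 1, 3, 2, 3, 1, 0, 1, 2, 0, 1, 3, 4, 3, 1, 0, 2, 1]), (471, 305, [3, 4, 1, 0, 1, 0, 2, 1, 3, 2, 3, 1, 0, 1, 2, 0, 1, 4, 3, 2, 1, 0, 2, 1]), (471, 408, [3, 4, 1, 0, 1, 0, 2, 1, 3, 2, 3, 1, 0, 1, 2, 0, 1, 3, 4, 3, 2, 1, 0, 2, 1]), (471, 474, [1, 0, 1, 0, 2, 1, 0, 1, 2, 0, 1, 0, 1, 1, 0, 1, 0, 2, 1, 3, 2, 3, 1, 0, 1, 2, 0, 1, 1, 0, 2, 1]), (471, 687, [1, 0, 1, 0, 2, 1, 0, 1, 2, 0, 1, 0, 1, 1, 0, 1, 0, 2, 1, 3, 2, 3, 1, 0, 1, 2, 0, 1, 4, 1, 0, 2, 1]), (471, 1253, [1, 0, 1, 0, 2, 1, 3, 2, 3, 1, 0, 1,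 2, 0, 1, 4, 3, 1, 0, 1, 0, 2, 1, 0, 1, 2, 0, 1, 0, 1, 1, 0, 2, 1]), (471, 420, [1, 0, 1, 0, 2, 1, 3, 2, 3, 1, 0, 1, 2, 0, 1, 4, 1, 0, 1, 0, 2, 1, 3, 2, 3, 1, 0, 1, 2, 0, 1, 1, 0, 2, 1]), (471, 906, [2, 1, 0, 1, 0, 2, 1, 3, 2, 3, 1, 0, 1, 2, 0, 1, 4, 3, 1, 0, 1, 0, 2, 1, 0, 1, 2, 0, 1, 0, 1, 1, 0, 2, 1]), (471, 1701, [1, 0, 1, 0, 2, 1, 0, 1, 2, 0, 1, 0, 1, 3, 4, 1, 0, 1, 0, 2, 1, 3, 2, 3, 1, 0, 1, 2, 0, 1, 3, 1, 0, 2, 1]), (471, 854, [1, 0, 1, 0, 2, 1, 3, 2, 3, 1, 0, 1, 2, 0, 1, 4, 3, 1, 0, 1, 0, 2, 1, 0, 1, 2, 0, 1, 0, 1, 3, 1, 0, 2, 1]), (471, 194, [0, 1, 0, 1, 0, 2, 1, 3, 2, 3, 1, 0, 1, 2, 0, 1, 4, 1, 0, 1, 0, 2, 1, 3, 2, 3, 1, 0, 1, 2, 0, 1, 1, 0, 2, 1]), (471,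 323, [2, 1, 0, 1, 0, 2, 1, 3, 2, 3, 1, 0, 1, 2, 0, 1, 4, 1, 0, 1, 0, 2, 1, 3, 2, 3, 1, 0, 1, 2, 0, 1, 1, 0, 2, 1]), (471, 1777, [3, 4, 1, 0, 1, 0, 2, 1, 3, 2, 3, 1, 0, 1, 2, 0, 1, 1, 0, 1, 0, 2, 1, 3, 2, 3, 1, 0, 1, 2, 0, 1, 1, 0, 2, 1]), (471, 364, [3, 1, 0, 1, 0, 2, 1, 3, 2, 3, 1, 0, 1, 2, 0, 1, 4, 1, 0, 1, 0, 2, 1, 3, 2, 3, 1, 0, 1, 2, 0, 1, 1, 0, 2, 1]), (471, 592, [1, 0, 1, 0, 2, 1, 3, 2, 3, 1, 0, 1, 2, 0, 1, 4, 1, 0, 1, 0, 2, 1, 3, 2, 3, 1, 0, 1, 2, 0, 1, 3, 1, 0, 2, 1]), (471, 1232, [2, 3, 4, 1, 0, 1, 0, 2, 1, 3, 2, 3, 1, 0, 1, 2, 0, 1, 3, 1, 0, 1, 0, 2, 1, 0, 1, 2, 0, 1, 0, 1, 1, 0, 2, 1]), (471, 1465, [1, 0, 1, 0, 2, 1, 0, 1, 2, 0, 1, 0, 1, 3, 4, 1, 0,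 1, 0, 2, 1, 3, 2, 3, 1, 0, 1, 2, 0, 1, 3, 4, 1, 0, 2, 1]), (471, 1097, [0, 3, 4, 1, 0, 1, 0, 2, 1, 3, 2, 3, 1, 0, 1, 2, 0, 1, 1, 0, 1, 0, 2, 1, 3, 2, 3, 1, 0, 1, 2, 0, 1, 1, 0, 2, 1]), (471, 602, [0, 1, 0, 1, 0, 2, 1, 3, 2, 3, 1, 0, 1, 2, 0, 1, 4, 3, 1, 0, 1, 0, 2, 1, 3, 2, 3, 1, 0, 1, 2, 0, 1, 1, 0, 2, 1]), (471, 1120, [2, 1, 0, 1, 0, 2, 1, 3, 2, 3, 1, 0, 1, 2, 0, 1, 4, 1, 0, 1, 0, 2, 1, 3, 2, 3, 1, 0, 1, 2, 0, 1, 3, 1, 0, 2, 1]), (471, 1758, [3, 4, 1, 0, 1, 0, 2, 1, 3, 2, 3, 1, 0, 1, 2, 0, 1, 1, 0, 1, 0, 2, 1, 3, 2, 3, 1, 0, 1, 2, 0, 1, 3, 1, 0, 2, 1]), (471, 455, [3, 1, 0, 1, 0, 2, 1, 3, 2, 3, 1, 0, 1, 2, 0, 1, 4, 3, 1, 0, 1, 0, 2, 1, 3, 2, 3, 1, 0, 1, 2, 0,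 1, 1, 0, 2, 1]), (471, 1445, [3, 1, 0, 1, 0, 2, 1, 3, 2, 3, 1, 0, 1, 2, 0, 1, 4, 1, 0, 1, 0, 2, 1, 3, 2, 3, 1, 0, 1, 2, 0, 1, 3, 1, 0, 2, 1]), (471, 524, [3, 1, 0, 1, 0, 2, 1, 3, 2, 3, 1, 0, 1, 2, 0, 1, 4, 1, 0, 1, 0, 2, 1, 3, 2, 3, 1, 0, 1, 2, 0, 1, 4, 1, 0, 2, 1]), (471, 1616, [1, 0, 1, 0, 2, 1, 3, 2, 3, 1, 0, 1, 2, 0, 1, 3, 4, 3, 1, 0, 1, 0, 2, 1, 3, 2, 3, 1, 0, 1, 2, 0, 1, 1, 0, 2, 1]), (471, 765, [1, 0, 1, 0, 2, 1, 3, 2, 3, 1, 0, 1, 2, 0, 1, 4, 3, 1, 0, 1, 0, 2, 1, 3, 2, 3, 1, 0, 1, 2, 0, 1, 3, 1, 0, 2, 1]), (471, 449, [1, 0, 1, 0, 2, 1, 3, 2, 3, 1, 0, 1, 2, 0, 1, 4, 1, 0, 1, 0, 2, 1, 3, 2, 3, 1, 0, 1, 2, 0, 1, 3, 4, 1, 0, 2, 1]), (471, 1452, [2, 3, 4, 1,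 0, 1, 0, 2, 1, 3, 2, 3, 1, 0, 1, 2, 0, 1, 4, 3, 1, 0, 1, 0, 2, 1, 0, 1, 2, 0, 1, 0, 1, 1, 0, 2, 1]), (471, 900, [0, 3, 4, 1, 0, 1, 0, 2, 1, 3, 2, 3, 1, 0, 1, 2, 0, 1, 4, 1, 0, 1, 0, 2, 1, 3, 2, 3, 1, 0, 1, 2, 0, 1, 1, 0, 2, 1]), (471, 1441, [0, 3, 4, 1, 0, 1, 0, 2, 1, 3, 2, 3, 1, 0, 1, 2, 0, 1, 1, 0, 1, 0, 2, 1, 3, 2, 3, 1, 0, 1, 2, 0, 1, 3, 1, 0, 2, 1]), (471, 1215, [0, 1, 0, 1, 0, 2, 1, 3, 2, 3, 1, 0, 1, 2, 0, 1, 4, 3, 1, 0, 1, 0, 2, 1, 3, 2, 3, 1, 0, 1, 2, 0, 1, 3, 1, 0, 2, 1]), (471, 883, [0, 1, 0, 1, 0, 2, 1, 3, 2, 3, 1, 0, 1, 2, 0, 1, 4, 3, 1, 0, 1, 0, 2, 1, 3, 2, 3, 1, 0, 1, 2, 0, 1, 4, 1, 0, 2, 1]), (471, 1005, [2, 1, 0, 1, 0, 2, 1, 3, 2, 3, 1, 0, 1, 2,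 0, 1, 4, 3, 1, 0, 1, 0, 2, 1, 3, 2, 3, 1, 0, 1, 2, 0, 1, 3, 1, 0, 2, 1]), (471, 1450, [2, 1, 0, 1, 0, 2, 1, 3, 2, 3, 1, 0, 1, 2, 0, 1, 4, 1, 0, 1, 0, 2, 1, 3, 2, 3, 1, 0, 1, 2, 0, 1, 3, 4, 1, 0, 2, 1]), (471, 871, [3, 1, 0, 1, 0, 2, 1, 3, 2, 3, 1, 0, 1, 2, 0, 1, 4, 1, 0, 1, 0, 2, 1, 3, 2, 3, 1, 0, 1, 2, 0, 1, 4, 3, 1, 0, 2, 1]), (471, 525, [0, 3, 4, 1, 0, 1, 0, 2, 1, 3, 2, 3, 1, 0, 1, 2, 0, 1, 4, 3, 1, 0, 1, 0, 2, 1, 3, 2, 3, 1, 0, 1, 2, 0, 1, 1, 0, 2, 1]), (471, 272, [1, 0, 1, 0, 2, 1, 0, 1, 2, 0, 1, 0, 1, 1, 0, 1, 0, 2, 1, 3, 2, 3, 1, 0, 1, 2, 0, 1, 4, 1, 0, 1, 0, 2, 1, 3, 2, 3, 1, 0, 1, 2, 0, 1, 1, 0, 2, 1]), (471, 686, [1, 0, 1, 0, 2, 1, 0, 1, 2, 0, 1, 0, 1,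 1, 0, 1, 0, 2, 1, 3, 2, 3, 1, 0, 1, 2, 0, 1, 4, 3, 1, 0, 1, 0, 2, 1, 3, 2, 3, 1, 0, 1, 2, 0, 1, 1, 0, 2, 1]), (471, 1459, [1, 0, 1, 0, 2, 1, 3, 2, 3, 1, 0, 1, 2, 0, 1, 4, 3, 1, 0, 1, 0, 2, 1, 0, 1, 2, 0, 1, 0, 1, 1, 0, 1, 0, 2, 1, 3, 2, 3, 1, 0, 1, 2, 0, 1, 1, 0, 2, 1]), (471, 308, [1, 0, 1, 0, 2, 1, 3, 2, 3, 1, 0, 1, 2, 0, 1, 4, 1, 0, 1, 0, 2, 1, 3, 2, 3, 1, 0, 1, 2, 0, 1, 3, 1, 0, 1, 0, 2, 1, 0, 1, 2, 0, 1, 0, 1, 1, 0, 2, 1]), (471, 1004, [3, 4, 1, 0, 1, 0, 2, 1, 0, 1, 2, 0, 1, 0, 1, 1, 0, 1, 0, 2, 1, 3, 2, 3, 1, 0, 1, 2, 0, 1, 4, 1, 0, 1, 0, 2, 1, 3, 2, 3, 1, 0, 1, 2, 0, 1, 1, 0, 2, 1]), (471, 536, [1, 0, 1, 0, 2, 1, 0, 1, 2, 0, 1, 0, 1, 1, 0, 1, 0, 2, 1, 3,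 2, 3, 1, 0, 1, 2, 0, 1, 4, 3, 1, 0, 1, 0, 2, 1, 3, 2, 3, 1, 0, 1, 2, 0, 1, 3, 1, 0, 2, 1]), (471, 410, [1, 0, 1, 0, 2, 1, 3, 2, 3, 1, 0, 1, 2, 0, 1, 4, 1, 0, 1, 0, 2, 1, 3, 2, 3, 1, 0, 1, 2, 0, 1, 3, 4, 1, 0, 1, 0, 2, 1, 0, 1, 2, 0, 1, 0, 1, 1, 0, 2, 1]), (471, 1781, [2, 1, 0, 1, 0, 2, 1, 3, 2, 3, 1, 0, 1, 2, 0, 1, 4, 1, 0, 1, 0, 2, 1, 3, 2, 3, 1, 0, 1, 2, 0, 1, 1, 0, 1, 0, 2, 1, 3, 2, 3, 1, 0, 1, 2, 0, 1, 1, 0, 2, 1]), (471, 668, [3, 1, 0, 1, 0, 2, 1, 3, 2, 3, 1, 0, 1, 2, 0, 1, 4, 1, 0, 1, 0, 2, 1, 3, 2, 3, 1, 0, 1, 2, 0, 1, 1, 0, 1, 0, 2, 1, 3, 2, 3, 1, 0, 1, 2, 0, 1, 1, 0, 2, 1]), (471, 604, [1, 0, 1, 0, 2, 1, 3, 2, 3, 1, 0, 1, 2, 0, 1, 4, 3, 1, 0, 1, 0, 2,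 1, 3, 2, 3, 1, 0, 1, 2, 0, 1, 1, 0, 1, 0, 2, 1, 3, 2, 3, 1, 0, 1, 2, 0, 1, 1, 0, 2, 1]), (471, 1073, [1, 0, 1, 0, 2, 1, 3, 2, 3, 1, 0, 1, 2, 0, 1, 4, 1, 0, 1, 0, 2, 1, 3, 2, 3, 1, 0, 1, 2, 0, 1, 1, 0, 1, 0, 2, 1, 3, 2, 3, 1, 0, 1, 2, 0, 1, 3, 1, 0, 2, 1]), (471, 1122, [3, 4, 1, 0, 1, 0, 2, 1, 3, 2, 3, 1, 0, 1, 2, 0, 1, 4, 3, 1, 0, 1, 0, 2, 1, 0, 1, 2, 0, 1, 0, 1, 1, 0, 1, 0, 2, 1, 3, 2, 3, 1, 0, 1, 2, 0, 1, 1, 0, 2, 1]), (471, 1780, [2, 1, 0, 1, 0, 2, 1, 3, 2, 3, 1, 0, 1, 2, 0, 1, 4, 1, 0, 1, 0, 2, 1, 3, 2, 3, 1, 0, 1, 2, 0, 1, 1, 0, 1, 0, 2, 1, 3, 2, 3, 1, 0, 1, 2, 0, 1, 4, 1, 0, 2, 1]), (471, 1115, [1, 0, 1, 0, 2, 1, 3, 2, 3, 1, 0, 1, 2, 0, 1, 3, 4, 1, 0, 1,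 0, 2, 1, 3, 2, 3, 1, 0, 1, 2, 0, 1, 4, 1, 0, 1, 0, 2, 1, 3, 2, 3, 1, 0, 1, 2, 0, 1, 1, 0, 2, 1]), (471, 885, [1, 0, 1, 0, 2, 1, 3, 2, 3, 1, 0, 1, 2, 0, 1, 4, 3, 1, 0, 1, 0, 2, 1, 3, 2, 3, 1, 0, 1, 2, 0, 1, 1, 0, 1, 0, 2, 1, 3, 2, 3, 1, 0, 1, 2, 0, 1, 4, 1, 0, 2, 1])]

def lowTree2_4 : List (ℕ × ℕ × List ℕ) := [(471, 955, [1, 0, 1, 0, 2, 1, 3, 2, 3, 1, 0, 1, 2, 0, 1, 4, 1, 0, 1, 0, 2, 1, 3, 2, 3, 1, 0, 1, 2, 0, 1, 1, 0, 1, 0, 2, 1, 3, 2, 3, 1, 0, 1, 2, 0, 1, 1, 0, 1, 0, 2, 1, 3, 2, 3, 1, 0, 1, 2, 0, 1, 1, 0, 2, 1]), (471, 776, [0, 1, 0, 1, 0, 2, 1, 3, 2, 3, 1, 0, 1, 2, 0, 1, 4, 1, 0, 1, 0, 2, 1, 3, 2, 3, 1, 0, 1, 2, 0, 1, 1, 0, 1, 0, 2, 1, 3, 2, 3, 1, 0, 1, 2, 0,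 1, 1, 0, 1, 0, 2, 1, 3, 2, 3, 1, 0, 1, 2, 0, 1, 1, 0, 2, 1]), (438, 901, [2, 1, 0, 2, 1, 0]), (438, 81, [3, 1, 0, 2, 1, 0]), (438, 416, [0, 3, 1, 0, 2, 1, 0]), (438, 127, [3, 4, 1, 0, 2, 1, 0]), (438, 613, [0, 3, 4, 1, 0, 2, 1, 0]), (438, 317, [1, 0, 1, 0, 2, 1, 0, 1, 2, 0, 1, 0, 1, 1, 0, 2, 1, 0]), (438, 180, [3, 1, 0, 1, 0, 2, 1, 3, 2, 3, 1, 0, 1, 2, 0, 1, 1, 0, 2, 1, 0]), (438, 233, [1, 0, 1, 0, 2, 1, 3, 2, 3, 1, 0, 1, 2, 0, 1, 3, 1, 0, 2, 1, 0]), (438, 275, [3, 1, 0, 1, 0, 2, 1, 3, 2, 3, 1, 0, 1, 2, 0, 1, 4, 1, 0, 2, 1, 0]), (438, 357, [1, 0, 1, 0, 2, 1, 3, 2, 3, 1, 0, 1, 2, 0, 1, 3, 4, 1, 0, 2, 1, 0]), (438, 938, [1, 0, 1, 0, 2, 1, 3, 2, 3, 1, 0, 1, 2, 0,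 1, 4, 3, 2, 3, 1, 0, 2, 1, 0]), (438, 421, [1, 0, 1, 0, 2, 1, 3, 2, 3, 1, 0, 1, 2, 0, 1, 4, 1, 0, 1, 0, 2, 1, 3, 2, 3, 1, 0, 1, 2, 0, 1, 1, 0, 2, 1, 0]), (438, 1222, [1, 0, 1, 0, 2, 1, 3, 2, 3, 1, 0, 1, 2, 0, 1, 4, 3, 1, 0, 1, 0, 2, 1, 0, 1, 2, 0, 1, 0, 1, 3, 1, 0, 2, 1, 0]), (438, 195, [0, 1, 0, 1, 0, 2, 1, 3, 2, 3, 1, 0, 1, 2, 0, 1, 4, 1, 0, 1, 0, 2, 1, 3, 2, 3, 1, 0, 1, 2, 0, 1, 1, 0, 2, 1, 0]), (438, 324, [2, 1, 0, 1, 0, 2, 1, 3, 2, 3, 1, 0, 1, 2, 0, 1, 4, 1, 0, 1, 0, 2, 1, 3, 2, 3, 1, 0, 1, 2, 0, 1, 1, 0, 2, 1, 0]), (438, 1760, [3, 4, 1, 0, 1, 0, 2, 1, 3, 2, 3, 1, 0, 1, 2, 0, 1, 1, 0, 1, 0, 2, 1, 3, 2, 3, 1, 0, 1, 2, 0, 1, 1, 0, 2, 1, 0]), (438, 1098, [0,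 3, 4, 1, 0, 1, 0, 2, 1, 3, 2, 3, 1, 0, 1, 2, 0, 1, 1, 0, 1, 0, 2, 1, 3, 2, 3, 1, 0, 1, 2, 0, 1, 1, 0, 2, 1, 0]), (438, 1627, [3, 4, 1, 0, 1, 0, 2, 1, 3, 2, 3, 1, 0, 1, 2, 0, 1, 1, 0, 1, 0, 2, 1, 3, 2, 3, 1, 0, 1, 2, 0, 1, 3, 1, 0, 2, 1, 0]), (438, 457, [3, 1, 0, 1, 0, 2, 1, 3, 2, 3, 1, 0, 1, 2, 0, 1, 4, 3, 1, 0, 1, 0, 2, 1, 3, 2, 3, 1, 0, 1, 2, 0, 1, 1, 0, 2, 1, 0]), (438, 1615, [3, 1, 0, 1, 0, 2, 1, 3, 2, 3, 1, 0, 1, 2, 0, 1, 4, 1, 0, 1, 0, 2, 1, 3, 2, 3, 1, 0, 1, 2, 0, 1, 3, 1, 0, 2, 1, 0]), (438, 1307, [1, 0, 1, 0, 2, 1, 3, 2, 3, 1, 0, 1, 2, 0, 1, 3, 4, 3, 1, 0, 1, 0, 2, 1, 3, 2, 3, 1, 0, 1, 2, 0, 1, 1, 0, 2, 1, 0]), (438, 763, [1, 0, 1, 0, 2, 1, 3, 2, 3, 1,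 0, 1, 2, 0, 1, 4, 3, 1, 0, 1, 0, 2, 1, 3, 2, 3, 1, 0, 1, 2, 0, 1, 3, 1, 0, 2, 1, 0]), (438, 1303, [0, 3, 4, 1, 0, 1, 0, 2, 1, 3, 2, 3, 1, 0, 1, 2, 0, 1, 1, 0, 1, 0, 2, 1, 3, 2, 3, 1, 0, 1, 2, 0, 1, 3, 1, 0, 2, 1, 0]), (438, 1422, [0, 1, 0, 1, 0, 2, 1, 3, 2, 3, 1, 0, 1, 2, 0, 1, 4, 3, 1, 0, 1, 0, 2, 1, 3, 2, 3, 1, 0, 1, 2, 0, 1, 3, 1, 0, 2, 1, 0]), (438, 1351, [2, 1, 0, 1, 0, 2, 1, 3, 2, 3, 1, 0, 1, 2, 0, 1, 4, 3, 1, 0, 1, 0, 2, 1, 3, 2, 3, 1, 0, 1, 2, 0, 1, 3, 1, 0, 2, 1, 0]), (438, 273, [1, 0, 1, 0, 2, 1, 0, 1, 2, 0, 1, 0, 1, 1, 0, 1, 0, 2, 1, 3, 2, 3, 1, 0, 1, 2, 0, 1, 4, 1, 0, 1, 0, 2, 1, 3, 2, 3, 1, 0, 1, 2, 0, 1, 1, 0, 2, 1, 0]), (438, 534, [1, 0, 1, 0, 2,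 1, 0, 1, 2, 0, 1, 0, 1, 1, 0, 1, 0, 2, 1, 3, 2, 3, 1, 0, 1, 2, 0, 1, 4, 3, 1, 0, 1, 0, 2, 1, 3, 2, 3, 1, 0, 1, 2, 0, 1, 3, 1, 0, 2, 1, 0]), (438, 670, [3, 1, 0, 1, 0, 2, 1, 3, 2, 3, 1, 0, 1, 2, 0, 1, 4, 1, 0, 1, 0, 2, 1, 3, 2, 3, 1, 0, 1, 2, 0, 1, 1, 0, 1, 0, 2, 1, 3, 2, 3, 1, 0, 1, 2, 0, 1, 1, 0, 2, 1, 0]), (438, 1111, [1, 0, 1, 0, 2, 1, 3, 2, 3, 1, 0, 1, 2, 0, 1, 4, 1, 0, 1, 0, 2, 1, 3, 2, 3, 1, 0, 1, 2, 0, 1, 1, 0, 1, 0, 2, 1, 3, 2, 3, 1, 0, 1, 2, 0, 1, 1, 0, 1, 0, 2, 1, 3, 2, 3, 1, 0, 1, 2, 0, 1, 1, 0, 2, 1, 0]), (438, 775, [0, 1, 0, 1, 0, 2, 1, 3, 2, 3, 1, 0, 1, 2, 0, 1, 4, 1, 0, 1, 0, 2, 1, 3, 2, 3, 1, 0, 1, 2, 0, 1, 1, 0, 1, 0, 2, 1, 3, 2, 3, 1, 0, 1, 2,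 0, 1, 1, 0, 1, 0, 2, 1, 3, 2, 3, 1, 0, 1, 2, 0, 1, 1, 0, 2, 1, 0]), (470, 473, [2, 1, 0, 1, 2, 1]), (470, 202, [0, 3, 1, 0, 1, 2, 1]), (470, 313, [0, 3, 4, 1, 0, 1, 2, 1]), (470, 614, [1, 0, 1, 0, 2, 1, 0, 1, 2, 0, 1, 0, 1, 1, 0, 1, 2, 1]), (470, 201, [3, 1, 0, 1, 0, 2, 1, 3, 2, 3, 1, 0, 1, 2, 0, 1, 1, 0, 1, 2, 1]), (470, 312, [3, 1, 0, 1, 0, 2, 1, 3, 2, 3, 1, 0, 1, 2, 0, 1, 4, 1, 0, 1, 2, 1]), (470, 439, [1, 0, 1, 0, 2, 1, 0, 1, 2, 0, 1, 0, 1, 1, 0, 1, 0, 2, 1, 3, 2, 3, 1, 0, 1, 2, 0, 1, 1, 0, 1, 2, 1]), (470, 643, [1, 0, 1, 0, 2, 1, 0, 1, 2, 0, 1, 0, 1, 1, 0, 1, 0, 2, 1, 3, 2, 3, 1, 0, 1, 2, 0, 1, 4, 1, 0, 1, 2, 1]), (470, 1697, [3, 4, 1, 0, 1, 0, 2, 1, 3, 2,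 3, 1, 0, 1, 2, 0, 1, 1, 0, 1, 0, 2, 1, 3, 2, 3, 1, 0, 1, 2, 0, 1, 1, 0, 1, 2, 1]), (470, 1621, [3, 4, 1, 0, 1, 0, 2, 1, 3, 2, 3, 1, 0, 1, 2, 0, 1, 1, 0, 1, 0, 2, 1, 3, 2, 3, 1, 0, 1, 2, 0, 1, 3, 1, 0, 1, 2, 1]), (470, 1699, [3, 1, 0, 1, 0, 2, 1, 3, 2, 3, 1, 0, 1, 2, 0, 1, 4, 1, 0, 1, 0, 2, 1, 3, 2, 3, 1, 0, 1, 2, 0, 1, 3, 1, 0, 1, 2, 1]), (470, 1757, [1, 0, 1, 0, 2, 1, 3, 2, 3, 1, 0, 1, 2, 0, 1, 3, 4, 3, 1, 0, 1, 0, 2, 1, 3, 2, 3, 1, 0, 1, 2, 0, 1, 1, 0, 1, 2, 1]), (470, 1775, [2, 1, 0, 1, 0, 2, 1, 3, 2, 3, 1, 0, 1, 2, 0, 1, 4, 1, 0, 1, 0, 2, 1, 3, 2, 3, 1, 0, 1, 2, 0, 1, 1, 0, 1, 0, 2, 1, 3, 2, 3, 1, 0, 1, 2, 0, 1, 1, 0, 1, 2, 1]), (470, 1759, [2, 1, 0, 1, 0,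 2, 1, 3, 2, 3, 1, 0, 1, 2, 0, 1, 4, 1, 0, 1, 0, 2, 1, 3, 2, 3, 1, 0, 1, 2, 0, 1, 1, 0, 1, 0, 2, 1, 3, 2, 3, 1, 0, 1, 2, 0, 1, 4, 1, 0, 1, 2, 1]), (316, 117, [3, 1, 0, 2, 1, 3]), (316, 278, [1, 0, 1, 0, 2, 1, 0, 1, 2, 0, 1, 0, 1, 1, 0, 2, 1, 3]), (316, 155, [1, 0, 1, 0, 2, 1, 3, 2, 3, 1, 0, 1, 2, 0, 1, 3, 1, 0, 2, 1, 3]), (316, 414, [2, 3, 4, 1, 0, 1, 0, 2, 1, 3, 2, 3, 1, 0, 1, 2, 0, 1, 1, 0, 2, 1, 3]), (316, 960, [3, 4, 1, 0, 1, 0, 2, 1, 3, 2, 3, 1, 0, 1, 2, 0, 1, 4, 1, 0, 2, 1, 3]), (316, 662, [3, 1, 0, 1, 0, 2, 1, 3, 2, 3, 1, 0, 1, 2, 0, 1, 4, 3, 1, 0, 2, 1, 3]), (316, 1330, [3, 1, 0, 1, 0, 2, 1, 3, 2, 3, 1, 0, 1, 2, 0, 1, 4, 3, 2, 1, 0, 2, 1, 3]), (316, 931,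 [1, 0, 1, 0, 2, 1, 3, 2, 3, 1, 0, 1, 2, 0, 1, 4, 3, 2, 3, 1, 0, 2, 1, 3]), (316, 240, [2, 3, 4, 1, 0, 1, 0, 2, 1, 3, 2, 3, 1, 0, 1, 2, 0, 1, 4, 3, 1, 0, 2, 1, 3]), (316, 690, [1, 0, 1, 0, 2, 1, 0, 1, 2, 0, 1, 0, 1, 1, 0, 1, 0, 2, 1, 3, 2, 3, 1, 0, 1, 2, 0, 1, 1, 0, 2, 1, 3]), (316, 1625, [1, 0, 1, 0, 2, 1, 0, 1, 2, 0, 1, 0, 1, 3, 4, 1, 0, 1, 0, 2, 1, 3, 2, 3, 1, 0, 1, 2, 0, 1, 3, 1, 0, 2, 1, 3]), (316, 239, [3, 1, 0, 1, 0, 2, 1, 3, 2, 3, 1, 0, 1, 2, 0, 1, 4, 1, 0, 1, 0, 2, 1, 3, 2, 3, 1, 0, 1, 2, 0, 1, 1, 0, 2, 1, 3]), (316, 962, [2, 3, 4, 1, 0, 1, 0, 2, 1, 3, 2, 3, 1, 0, 1, 2, 0, 1, 3, 1, 0, 1, 0, 2, 1, 0, 1, 2, 0, 1, 0, 1, 1, 0, 2, 1, 3]), (316, 660, [1, 0, 1,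 0, 2, 1, 3, 2, 3, 1, 0, 1, 2, 0, 1, 4, 1, 0, 1, 0, 2, 1, 3, 2, 3, 1, 0, 1, 2, 0, 1, 3, 4, 1, 0, 2, 1, 3])]

def lowTree2_5 : List (ℕ × ℕ × List ℕ) := [(316, 1283, [2, 1, 0, 1, 0, 2, 1, 3, 2, 3, 1, 0, 1, 2, 0, 1, 4, 3, 1, 0, 1, 0, 2, 1, 3, 2, 3, 1, 0, 1, 2, 0, 1, 3, 1, 0, 2, 1, 3]), (316, 177, [1, 0, 1, 0, 2, 1, 0, 1, 2, 0, 1, 0, 1, 1, 0, 1, 0, 2, 1, 3, 2, 3, 1, 0, 1, 2, 0, 1, 4, 1, 0, 1, 0, 2, 1, 3, 2, 3, 1, 0, 1, 2, 0, 1, 1, 0, 2, 1, 3]), (294, 116, [3, 1, 0, 2, 1, 0, 3]), (294, 615, [0, 3, 1, 0, 2, 1, 0, 3]), (294, 154, [1, 0, 1, 0, 2, 1, 3, 2, 3, 1, 0, 1, 2, 0, 1, 3, 1, 0, 2, 1, 0, 3]), (294, 958, [1, 0, 1, 0, 2, 1, 3, 2, 3, 1, 0, 1, 2, 0, 1, 4, 3, 2, 3, 1,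 0, 2, 1, 0, 3]), (294, 1305, [2, 1, 0, 1, 0, 2, 1, 3, 2, 3, 1, 0, 1, 2, 0, 1, 4, 3, 1, 0, 1, 0, 2, 1, 3, 2, 3, 1, 0, 1, 2, 0, 1, 3, 1, 0, 2, 1, 0, 3]), (294, 178, [1, 0, 1, 0, 2, 1, 0, 1, 2, 0, 1, 0, 1, 1, 0, 1, 0, 2, 1, 3, 2, 3, 1, 0, 1, 2, 0, 1, 4, 1, 0, 1, 0, 2, 1, 3, 2, 3, 1, 0, 1, 2, 0, 1, 1, 0, 2, 1, 0, 3]), (314, 279, [0, 3, 1, 0, 1, 2, 1, 3]), (314, 644, [1, 0, 1, 0, 2, 1, 0, 1, 2, 0, 1, 0, 1, 1, 0, 1, 0, 2, 1, 3, 2, 3, 1, 0, 1, 2, 0, 1, 1, 0, 1, 2, 1, 3]), (200, 1617, [3, 2, 4, 1, 0, 1, 0, 2, 1, 3, 2, 3, 1, 0, 1, 2, 0, 1, 4, 1, 0, 2, 1, 3, 2]), (200, 1756, [2, 3, 4, 1, 0, 1, 0, 2, 1, 3, 2, 3, 1, 0, 1, 2, 0, 1, 4, 3, 1, 0, 1, 0, 2, 1, 0, 1, 2, 0, 1, 0,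 1, 1, 0, 2, 1, 3, 2]), (200, 413, [1, 0, 1, 0, 2, 1, 3, 2, 3, 1, 0, 1, 2, 0, 1, 4, 1, 0, 1, 0, 2, 1, 3, 2, 3, 1, 0, 1, 2, 0, 1, 3, 4, 1, 0, 1, 0, 2, 1, 0, 1, 2, 0, 1, 0, 1, 1, 0, 2, 1, 3, 2]), (685, 472, [1, 0, 1, 0, 2, 1, 3, 2, 3, 1, 0, 1, 2, 0, 1, 4, 1, 0, 1, 0, 2, 1, 3, 2, 3, 1, 0, 1, 2, 0, 1, 3, 1, 0, 1, 0, 2, 1, 0, 1, 2, 0, 1, 0, 1, 1, 0, 2, 1, 3, 2, 4, 3, 2])]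

def lowTree2 : List (ℕ × ℕ × List ℕ) := lowTree2_0 ++ lowTree2_1 ++ lowTree2_2 ++ lowTree2_3 ++ lowTree2_4 ++ lowTree2_5

def lowTree3_0 : List (ℕ × ℕ × List ℕ) := [(688, 82, []), (688, 81, [0]), (688, 117, [3]), (688, 128, [4]), (688, 116, [0, 3]), (688, 127, [0, 4]), (688, 155, [3, 2]), (688, 178, [3, 4]), (688, 195, [4, 3]), (688, 177, [0, 3, 4]), (688, 194, [0, 4, 3]), (688, 240, [3, 2, 4]), (688, 273, [3, 4, 3]), (688, 305, [4, 3, 2]), (688, 272, [0, 3, 4, 3]), (688, 365, [3, 2, 4, 3]), (688, 408, [3, 4, 3, 2]), (688, 536, [3, 2, 4, 3, 2]), (688, 154, [3, 1, 0, 1, 0, 2, 1, 0, 1, 2, 0, 1, 0, 1]), (688, 234, [1, 0, 1, 0, 2, 1, 3, 2, 3, 1, 0, 1, 2, 0, 1]), (688,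 239, [3, 4, 1, 0, 1, 0, 2, 1, 0, 1, 2, 0, 1, 0, 1]), (688, 303, [4, 3, 1, 0, 1, 0, 2, 1, 0, 1, 2, 0, 1, 0, 1]), (688, 233, [0, 1, 0, 1, 0, 2, 1, 3, 2, 3, 1, 0, 1, 2, 0, 1]), (688, 670, [4, 1, 0, 1, 0, 2, 1, 3, 2, 3, 1, 0, 1, 2, 0, 1]), (688, 358, [1, 0, 1, 0, 2, 1, 3, 2, 3, 1, 0, 1, 2, 0, 1, 4]), (688, 406, [3, 4, 3, 1, 0, 1, 0, 2, 1, 0, 1, 2, 0, 1, 0, 1]), (688, 364, [3, 4, 1, 0, 1, 0, 2, 1, 0, 1, 2, 0, 1, 0, 1, 3]), (688, 668, [0, 4, 1, 0, 1, 0, 2, 1, 3, 2, 3, 1, 0, 1, 2, 0, 1]), (688, 357, [0, 1, 0, 1, 0, 2, 1, 3, 2, 3, 1, 0, 1, 2, 0, 1, 4]), (688, 420, [3, 4, 1, 0, 1, 0, 2, 1, 3, 2, 3, 1, 0, 1, 2, 0, 1]), (688, 525, [4, 3, 1, 0, 1, 0, 2, 1, 3, 2, 3, 1, 0, 1,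 2, 0, 1]), (688, 885, [4, 1, 0, 1, 0, 2, 1, 3, 2, 3, 1, 0, 1, 2, 0, 1, 3]), (688, 457, [4, 1, 0, 1, 0, 2, 1, 3, 2, 3, 1, 0, 1, 2, 0, 1, 4]), (688, 534, [3, 2, 4, 3, 1, 0, 1, 0, 2, 1, 0, 1, 2, 0, 1, 0, 1]), (688, 421, [0, 3, 4, 1, 0, 1, 0, 2, 1, 3, 2, 3, 1, 0, 1, 2, 0, 1]), (688, 524, [0, 4, 3, 1, 0, 1, 0, 2, 1, 3, 2, 3, 1, 0, 1, 2, 0, 1]), (688, 883, [0, 4, 1, 0, 1, 0, 2, 1, 3, 2, 3, 1, 0, 1, 2, 0, 1, 3]), (688, 455, [0, 4, 1, 0, 1, 0, 2, 1, 3, 2, 3, 1, 0, 1, 2, 0, 1, 4]), (688, 594, [3, 2, 4, 1, 0, 1, 0, 2, 1, 3, 2, 3, 1, 0, 1, 2, 0, 1]), (688, 1222, [3, 4, 3, 1, 0, 1, 0, 2, 1, 3, 2, 3, 1, 0, 1, 2, 0, 1]), (688, 323, [3, 4, 1, 0, 1, 0, 2, 1, 3, 2, 3, 1, 0, 1,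 2, 0, 1, 3]), (688, 763, [4, 3, 2, 1, 0, 1, 0, 2, 1, 3, 2, 3, 1, 0, 1, 2, 0, 1]), (688, 1111, [4, 1, 0, 1, 0, 2, 1, 3, 2, 3, 1, 0, 1, 2, 0, 1, 3, 2]), (688, 604, [4, 1, 0, 1, 0, 2, 1, 3, 2, 3, 1, 0, 1, 2, 0, 1, 3, 4]), (688, 854, [0, 3, 4, 3, 1, 0, 1, 0, 2, 1, 3, 2, 3, 1, 0, 1, 2, 0, 1]), (688, 324, [0, 3, 4, 1, 0, 1, 0, 2, 1, 3, 2, 3, 1, 0, 1, 2, 0, 1, 3]), (688, 602, [0, 4, 1, 0, 1, 0, 2, 1, 3, 2, 3, 1, 0, 1, 2, 0, 1, 3, 4]), (688, 698, [3, 2, 4, 3, 1, 0, 1, 0, 2, 1, 3, 2, 3, 1, 0, 1, 2, 0, 1]), (688, 871, [3, 2, 4, 1, 0, 1, 0, 2, 1, 3, 2, 3, 1, 0, 1, 2, 0, 1, 3]), (688, 451, [3, 2, 4, 1, 0, 1, 0, 2, 1, 3, 2, 3, 1, 0, 1, 2, 0, 1, 4]), (688, 1103, [3, 4, 3, 2,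 1, 0, 1, 0, 2, 1, 3, 2, 3, 1, 0, 1, 2, 0, 1]), (688, 1422, [3, 4, 3, 1, 0, 1, 0, 2, 1, 3, 2, 3, 1, 0, 1, 2, 0, 1, 3]), (688, 938, [3, 4, 3, 1, 0, 1, 0, 2, 1, 3, 2, 3, 1, 0, 1, 2, 0, 1, 4]), (688, 1215, [0, 3, 4, 3, 1, 0, 1, 0, 2, 1, 3, 2, 3, 1, 0, 1, 2, 0, 1, 3]), (688, 906, [3, 2, 4, 3, 1, 0, 1, 0, 2, 1, 3, 2, 3, 1, 0, 1, 2, 0, 1, 3]), (688, 1073, [3, 4, 3, 1, 0, 1, 0, 2, 1, 3, 2, 3, 1, 0, 1, 2, 0, 1, 3, 2]), (688, 592, [3, 4, 1, 0, 1, 0, 2, 1, 0, 1, 2, 0, 1, 0, 1, 1, 0, 1, 0, 2, 1, 3, 2, 3, 1, 0, 1, 2, 0, 1]), (688, 765, [4, 3, 1, 0, 1, 0, 2, 1, 0, 1, 2, 0, 1, 0, 1, 1, 0, 1, 0, 2, 1, 3, 2, 3, 1, 0, 1, 2, 0, 1]), (688, 1098, [4, 1, 0, 1, 0, 2, 1, 3, 2, 3, 1, 0,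 1, 2, 0, 1, 1, 0, 1, 0, 2, 1, 3, 2, 3, 1, 0, 1, 2, 0, 1]), (688, 1232, [3, 4, 3, 1, 0, 1, 0, 2, 1, 0, 1, 2, 0, 1, 0, 1, 1, 0, 1, 0, 2, 1, 3, 2, 3, 1, 0, 1, 2, 0, 1])]

def lowTree3_1 : List (ℕ × ℕ × List ℕ) := [(688, 1004, [3, 4, 1, 0, 1, 0, 2, 1, 0, 1, 2, 0, 1, 0, 1, 3, 1, 0, 1, 0, 2, 1, 3, 2, 3, 1, 0, 1, 2, 0, 1]), (688, 781, [3, 4, 1, 0, 1, 0, 2, 1, 0, 1, 2, 0, 1, 0, 1, 1, 0, 1, 0, 2, 1, 3, 2, 3, 1, 0, 1, 2, 0, 1, 3]), (688, 449, [3, 4, 1, 0, 1, 0, 2, 1, 0, 1, 2, 0, 1, 0, 1, 1, 0, 1, 0, 2, 1, 3, 2, 3, 1, 0, 1, 2, 0, 1, 4]), (688, 1097, [0, 4, 1, 0, 1, 0, 2, 1, 3, 2, 3, 1, 0, 1, 2, 0, 1, 1, 0, 1, 0, 2, 1, 3, 2, 3, 1, 0, 1, 2, 0, 1]), (688, 1283, [3, 4, 1, 0,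 1, 0, 2, 1, 3, 2, 3, 1, 0, 1, 2, 0, 1, 1, 0, 1, 0, 2, 1, 3, 2, 3, 1, 0, 1, 2, 0, 1]), (688, 955, [4, 3, 1, 0, 1, 0, 2, 1, 3, 2, 3, 1, 0, 1, 2, 0, 1, 1, 0, 1, 0, 2, 1, 3, 2, 3, 1, 0, 1, 2, 0, 1]), (688, 1303, [4, 1, 0, 1, 0, 2, 1, 3, 2, 3, 1, 0, 1, 2, 0, 1, 4, 1, 0, 1, 0, 2, 1, 3, 2, 3, 1, 0, 1, 2, 0, 1]), (688, 1305, [0, 3, 4, 1, 0, 1, 0, 2, 1, 3, 2, 3, 1, 0, 1, 2, 0, 1, 1, 0, 1, 0, 2, 1, 3, 2, 3, 1, 0, 1, 2, 0, 1]), (688, 1441, [0, 4, 1, 0, 1, 0, 2, 1, 3, 2, 3, 1, 0, 1, 2, 0, 1, 4, 1, 0, 1, 0, 2, 1, 3, 2, 3, 1, 0, 1, 2, 0, 1]), (688, 962, [3, 2, 4, 1, 0, 1, 0, 2, 1, 3, 2, 3, 1, 0, 1, 2, 0, 1, 1, 0, 1, 0, 2, 1, 3, 2, 3, 1, 0, 1, 2, 0, 1]), (688, 639, [3, 4, 3,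 1, 0, 1, 0, 2, 1, 3, 2, 3, 1, 0, 1, 2, 0, 1, 1, 0, 1, 0, 2, 1, 3, 2, 3, 1, 0, 1, 2, 0, 1]), (688, 1005, [3, 4, 1, 0, 1, 0, 2, 1, 3, 2, 3, 1, 0, 1, 2, 0, 1, 1, 0, 1, 0, 2, 1, 3, 2, 3, 1, 0, 1, 2, 0, 1, 3]), (688, 931, [3, 4, 1, 0, 1, 0, 2, 1, 3, 2, 3, 1, 0, 1, 2, 0, 1, 1, 0, 1, 0, 2, 1, 3, 2, 3, 1, 0, 1, 2, 0, 1, 4]), (688, 776, [4, 3, 1, 0, 1, 0, 2, 1, 3, 2, 3, 1, 0, 1, 2, 0, 1, 1, 0, 1, 0, 2, 1, 3, 2, 3, 1, 0, 1, 2, 0, 1, 4]), (688, 662, [4, 1, 0, 1, 0, 2, 1, 3, 2, 3, 1, 0, 1, 2, 0, 1, 3, 4, 1, 0, 1, 0, 2, 1, 3, 2, 3, 1, 0, 1, 2, 0, 1]), (688, 1351, [0, 3, 4, 1, 0, 1, 0, 2, 1, 3, 2, 3, 1, 0, 1, 2, 0, 1, 1, 0, 1, 0, 2, 1, 3, 2, 3, 1, 0, 1, 2, 0, 1, 3]), (688, 958,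 [0, 3, 4, 1, 0, 1, 0, 2, 1, 3, 2, 3, 1, 0, 1, 2, 0, 1, 1, 0, 1, 0, 2, 1, 3, 2, 3, 1, 0, 1, 2, 0, 1, 4]), (688, 660, [0, 4, 1, 0, 1, 0, 2, 1, 3, 2, 3, 1, 0, 1, 2, 0, 1, 3, 4, 1, 0, 1, 0, 2, 1, 3, 2, 3, 1, 0, 1, 2, 0, 1]), (688, 960, [3, 4, 1, 0, 1, 0, 2, 1, 0, 1, 2, 0, 1, 0, 1, 1, 0, 1, 0, 2, 1, 3, 2, 3, 1, 0, 1, 2, 0, 1, 1, 0, 1, 0, 2, 1, 3, 2, 3, 1, 0, 1, 2, 0, 1]), (688, 775, [3, 4, 1, 0, 1, 0, 2, 1, 3, 2, 3, 1, 0, 1, 2, 0, 1, 1, 0, 1, 0, 2, 1, 3, 2, 3, 1, 0, 1, 2, 0, 1, 1, 0, 1, 0, 2, 1, 3, 2, 3, 1, 0, 1, 2, 0, 1]), (82, 644, [0, 1, 2, 3, 2, 1]), (82, 901, [3, 1, 2, 3, 2, 1]), (82, 278, [0, 3, 1, 2, 3, 2, 1]), (82, 615, [3, 2, 1, 2, 3, 2, 1]), (82, 1261, [0,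 3, 4, 1, 2, 3, 2, 1]), (82, 608, [0, 4, 3, 1, 2, 3, 2, 1]), (82, 1573, [0, 3, 4, 3, 1, 2, 3, 2, 1]), (82, 466, [3, 2, 4, 3, 1, 2, 3, 2, 1]), (82, 686, [3, 2, 4, 3, 2, 1, 2, 3, 2, 1]), (82, 180, [3, 1, 0, 1, 0, 2, 1, 0, 1, 2, 0, 1, 0, 1, 1, 2, 3, 2, 1]), (82, 199, [1, 0, 1, 0, 2, 1, 3, 2, 3, 1, 0, 1, 2, 0, 1, 1, 2, 3, 2, 1]), (82, 1104, [3, 4, 1, 0, 1, 0, 2, 1, 0, 1, 2, 0, 1, 0, 1, 1, 2, 3, 2, 1]), (82, 897, [4, 3, 1, 0, 1, 0, 2, 1, 0, 1, 2, 0, 1, 0, 1, 1, 2, 3, 2, 1]), (82, 129, [0, 1, 0, 1, 0, 2, 1, 3, 2, 3, 1, 0, 1, 2, 0, 1, 1, 2, 3, 2, 1]), (82, 703, [4, 1, 0, 1, 0, 2, 1, 3, 2, 3, 1, 0, 1, 2, 0, 1, 1, 2, 3, 2, 1]), (82, 895, [1, 0, 1, 0, 2, 1, 3, 2, 3, 1, 0,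 1, 2, 0, 1, 4, 1, 2, 3, 2, 1]), (82, 1460, [3, 4, 3, 1, 0, 1, 0, 2, 1, 0, 1, 2, 0, 1, 0, 1, 1, 2, 3, 2, 1]), (82, 1445, [3, 4, 1, 0, 1, 0, 2, 1, 0, 1, 2, 0, 1, 0, 1, 3, 1, 2, 3, 2, 1]), (82, 1014, [0, 4, 1, 0, 1, 0, 2, 1, 3, 2, 3, 1, 0, 1, 2, 0, 1, 1, 2, 3, 2, 1]), (82, 607, [0, 1, 0, 1, 0, 2, 1, 3, 2, 3, 1, 0, 1, 2, 0, 1, 4, 1, 2, 3, 2, 1]), (82, 1341, [4, 3, 1, 0, 1, 0, 2, 1, 3, 2, 3, 1, 0, 1, 2, 0, 1, 1, 2, 3, 2, 1]), (82, 1119, [4, 1, 0, 1, 0, 2, 1, 3, 2, 3, 1, 0, 1, 2, 0, 1, 4, 1, 2, 3, 2, 1]), (82, 1699, [3, 2, 4, 3, 1, 0, 1, 0, 2, 1, 0, 1, 2, 0, 1, 0, 1, 1, 2, 3, 2, 1]), (82, 468, [0, 3, 4, 1, 0, 1, 0, 2, 1, 3, 2, 3, 1, 0, 1, 2, 0, 1, 1, 2, 3, 2, 1]), (82,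 1655, [0, 4, 1, 0, 1, 0, 2, 1, 3, 2, 3, 1, 0, 1, 2, 0, 1, 3, 1, 2, 3, 2, 1]), (82, 1343, [0, 4, 1, 0, 1, 0, 2, 1, 3, 2, 3, 1, 0, 1, 2, 0, 1, 4, 1, 2, 3, 2, 1]), (82, 311, [3, 2, 4, 1, 0, 1, 0, 2, 1, 3, 2, 3, 1, 0, 1, 2, 0, 1, 1, 2, 3, 2, 1]), (82, 1757, [3, 4, 3, 1, 0, 1, 0, 2, 1, 3, 2, 3, 1, 0, 1, 2, 0, 1, 1, 2, 3, 2, 1]), (82, 1120, [3, 4, 1, 0, 1, 0, 2, 1, 3, 2, 3, 1, 0, 1, 2, 0, 1, 3, 1, 2, 3, 2, 1]), (82, 966, [4, 1, 0, 1, 0, 2, 1, 3, 2, 3, 1, 0, 1, 2, 0, 1, 3, 4, 1, 2, 3, 2, 1]), (82, 1253, [0, 3, 4, 3, 1, 0, 1, 0, 2, 1, 3, 2, 3, 1, 0, 1, 2, 0, 1, 1, 2, 3, 2, 1]), (82, 312, [0, 3, 4, 1, 0, 1, 0, 2, 1, 3, 2, 3, 1, 0, 1, 2, 0, 1, 3, 1, 2, 3, 2, 1]), (82, 1466,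 [3, 2, 4, 3, 1, 0, 1, 0, 2, 1, 3, 2, 3, 1, 0, 1, 2, 0, 1, 1, 2, 3, 2, 1]), (82, 197, [3, 2, 4, 1, 0, 1, 0, 2, 1, 3, 2, 3, 1, 0, 1, 2, 0, 1, 4, 1, 2, 3, 2, 1]), (82, 1318, [3, 4, 3, 2, 1, 0, 1, 0, 2, 1, 3, 2, 3, 1, 0, 1, 2, 0, 1, 1, 2, 3, 2, 1]), (82, 1619, [3, 4, 3, 1, 0, 1, 0, 2, 1, 3, 2, 3, 1, 0, 1, 2, 0, 1, 3, 1, 2, 3, 2, 1]), (82, 1311, [3, 4, 3, 1, 0, 1, 0, 2, 1, 3, 2, 3, 1, 0, 1, 2, 0, 1, 3, 2, 1, 2, 3, 2, 1]), (82, 991, [4, 3, 1, 0, 1, 0, 2, 1, 0, 1, 2, 0, 1, 0, 1, 1, 0, 1, 0, 2, 1, 3, 2, 3, 1, 0, 1, 2, 0, 1, 1, 2, 3, 2, 1]), (82, 1616, [3, 4, 3, 1, 0, 1, 0, 2, 1, 0, 1, 2, 0, 1, 0, 1, 1, 0, 1, 0, 2, 1, 3, 2, 3, 1, 0, 1, 2, 0, 1, 1, 2, 3, 2, 1]), (82, 907,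 [3, 4, 1, 0, 1, 0, 2, 1, 0, 1, 2, 0, 1, 0, 1, 1, 0, 1, 0, 2, 1, 3, 2, 3, 1, 0, 1, 2, 0, 1, 3, 1, 2, 3, 2, 1])]

def lowTree3_2 : List (ℕ × ℕ × List ℕ) := [(82, 1450, [3, 4, 1, 0, 1, 0, 2, 1, 0, 1, 2, 0, 1, 0, 1, 1, 0, 1, 0, 2, 1, 3, 2, 3, 1, 0, 1, 2, 0, 1, 4, 1, 2, 3, 2, 1]), (82, 1321, [3, 4, 1, 0, 1, 0, 2, 1, 3, 2, 3, 1, 0, 1, 2, 0, 1, 1, 0, 1, 0, 2, 1, 3, 2, 3, 1, 0, 1, 2, 0, 1, 1, 2, 3, 2, 1]), (82, 1639, [4, 3, 1, 0, 1, 0, 2, 1, 3, 2, 3, 1, 0, 1, 2, 0, 1, 1, 0, 1, 0, 2, 1, 3, 2, 3, 1, 0, 1, 2, 0, 1, 1, 2, 3, 2, 1]), (82, 972, [3, 2, 4, 1, 0, 1, 0, 2, 1, 3, 2, 3, 1, 0, 1, 2, 0, 1, 1, 0, 1, 0, 2, 1, 3, 2, 3, 1, 0, 1, 2, 0, 1, 1, 2, 3, 2, 1]), (82, 1266, [3,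 4, 3, 1, 0, 1, 0, 2, 1, 3, 2, 3, 1, 0, 1, 2, 0, 1, 1, 0, 1, 0, 2, 1, 3, 2, 3, 1, 0, 1, 2, 0, 1, 1, 2, 3, 2, 1]), (82, 1702, [3, 4, 1, 0, 1, 0, 2, 1, 3, 2, 3, 1, 0, 1, 2, 0, 1, 1, 0, 1, 0, 2, 1, 3, 2, 3, 1, 0, 1, 2, 0, 1, 3, 1, 2, 3, 2, 1]), (82, 463, [3, 4, 1, 0, 1, 0, 2, 1, 3, 2, 3, 1, 0, 1, 2, 0, 1, 1, 0, 1, 0, 2, 1, 3, 2, 3, 1, 0, 1, 2, 0, 1, 4, 1, 2, 3, 2, 1]), (82, 307, [4, 1, 0, 1, 0, 2, 1, 3, 2, 3, 1, 0, 1, 2, 0, 1, 3, 4, 1, 0, 1, 0, 2, 1, 3, 2, 3, 1, 0, 1, 2, 0, 1, 1, 2, 3, 2, 1]), (82, 1314, [3, 4, 1, 0, 1, 0, 2, 1, 3, 2, 3, 1, 0, 1, 2, 0, 1, 1, 0, 1, 0, 2, 1, 3, 2, 3, 1, 0, 1, 2, 0, 1, 1, 0, 1, 0, 2, 1, 3, 2, 3, 1, 0, 1, 2, 0, 1, 1, 2, 3, 2, 1]), (81,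 689, [3, 1, 2, 3, 2, 1, 0]), (81, 201, [0, 3, 1, 2, 3, 2, 1, 0]), (81, 473, [3, 2, 1, 2, 3, 2, 1, 0]), (81, 1595, [0, 3, 4, 1, 2, 3, 2, 1, 0]), (81, 409, [0, 4, 3, 1, 2, 3, 2, 1, 0]), (81, 1462, [0, 3, 4, 3, 1, 2, 3, 2, 1, 0]), (81, 612, [3, 2, 4, 3, 1, 2, 3, 2, 1, 0]), (81, 900, [3, 2, 4, 3, 2, 1, 2, 3, 2, 1, 0]), (81, 130, [3, 1, 0, 1, 0, 2, 1, 0, 1, 2, 0, 1, 0, 1, 1, 2, 3, 2, 1, 0]), (81, 314, [1, 0, 1, 0, 2, 1, 3, 2, 3, 1, 0, 1, 2, 0, 1, 1, 2, 3, 2, 1, 0]), (81, 1451, [3, 4, 1, 0, 1, 0, 2, 1, 0, 1, 2, 0, 1, 0, 1, 1, 2, 3, 2, 1, 0]), (81, 609, [4, 3, 1, 0, 1, 0, 2, 1, 0, 1, 2, 0, 1, 0, 1, 1, 2, 3, 2, 1, 0]), (81, 198, [0, 1, 0, 1, 0, 2, 1, 3, 2, 3, 1, 0, 1,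 2, 0, 1, 1, 2, 3, 2, 1, 0]), (81, 695, [4, 1, 0, 1, 0, 2, 1, 3, 2, 3, 1, 0, 1, 2, 0, 1, 1, 2, 3, 2, 1, 0]), (81, 1254, [1, 0, 1, 0, 2, 1, 3, 2, 3, 1, 0, 1, 2, 0, 1, 4, 1, 2, 3, 2, 1, 0]), (81, 1116, [3, 4, 3, 1, 0, 1, 0, 2, 1, 0, 1, 2, 0, 1, 0, 1, 1, 2, 3, 2, 1, 0]), (81, 1615, [3, 4, 1, 0, 1, 0, 2, 1, 0, 1, 2, 0, 1, 0, 1, 3, 1, 2, 3, 2, 1, 0]), (81, 940, [0, 4, 1, 0, 1, 0, 2, 1, 3, 2, 3, 1, 0, 1, 2, 0, 1, 1, 2, 3, 2, 1, 0]), (81, 894, [0, 1, 0, 1, 0, 2, 1, 3, 2, 3, 1, 0, 1, 2, 0, 1, 4, 1, 2, 3, 2, 1, 0]), (81, 993, [4, 3, 1, 0, 1, 0, 2, 1, 3, 2, 3, 1, 0, 1, 2, 0, 1, 1, 2, 3, 2, 1, 0]), (81, 779, [4, 1, 0, 1, 0, 2, 1, 3, 2, 3, 1, 0, 1, 2, 0, 1, 4, 1, 2, 3, 2, 1,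 0]), (81, 1756, [3, 2, 4, 3, 1, 0, 1, 0, 2, 1, 0, 1, 2, 0, 1, 0, 1, 1, 2, 3, 2, 1, 0]), (81, 436, [0, 3, 4, 1, 0, 1, 0, 2, 1, 3, 2, 3, 1, 0, 1, 2, 0, 1, 1, 2, 3, 2, 1, 0]), (81, 1363, [0, 4, 1, 0, 1, 0, 2, 1, 3, 2, 3, 1, 0, 1, 2, 0, 1, 3, 1, 2, 3, 2, 1, 0]), (81, 1013, [0, 4, 1, 0, 1, 0, 2, 1, 3, 2, 3, 1, 0, 1, 2, 0, 1, 4, 1, 2, 3, 2, 1, 0]), (81, 290, [3, 2, 4, 1, 0, 1, 0, 2, 1, 3, 2, 3, 1, 0, 1, 2, 0, 1, 1, 2, 3, 2, 1, 0]), (81, 1617, [3, 4, 3, 1, 0, 1, 0, 2, 1, 3, 2, 3, 1, 0, 1, 2, 0, 1, 1, 2, 3, 2, 1, 0]), (81, 1465, [3, 4, 1, 0, 1, 0, 2, 1, 3, 2, 3, 1, 0, 1, 2, 0, 1, 3, 1, 2, 3, 2, 1, 0]), (81, 1313, [4, 1, 0, 1, 0, 2, 1, 3, 2, 3, 1, 0, 1, 2, 0, 1, 3, 4, 1,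 2, 3, 2, 1, 0]), (81, 1338, [0, 3, 4, 3, 1, 0, 1, 0, 2, 1, 3, 2, 3, 1, 0, 1, 2, 0, 1, 1, 2, 3, 2, 1, 0]), (81, 413, [0, 3, 4, 1, 0, 1, 0, 2, 1, 3, 2, 3, 1, 0, 1, 2, 0, 1, 3, 1, 2, 3, 2, 1, 0]), (81, 1249, [3, 2, 4, 3, 1, 0, 1, 0, 2, 1, 3, 2, 3, 1, 0, 1, 2, 0, 1, 1, 2, 3, 2, 1, 0]), (81, 275, [3, 2, 4, 1, 0, 1, 0, 2, 1, 3, 2, 3, 1, 0, 1, 2, 0, 1, 4, 1, 2, 3, 2, 1, 0]), (81, 989, [3, 4, 3, 2, 1, 0, 1, 0, 2, 1, 3, 2, 3, 1, 0, 1, 2, 0, 1, 1, 2, 3, 2, 1, 0]), (81, 1696, [3, 4, 3, 1, 0, 1, 0, 2, 1, 3, 2, 3, 1, 0, 1, 2, 0, 1, 3, 1, 2, 3, 2, 1, 0]), (81, 1444, [3, 4, 3, 1, 0, 1, 0, 2, 1, 3, 2, 3, 1, 0, 1, 2, 0, 1, 3, 2, 1, 2, 3, 2, 1, 0]), (81, 683, [4, 3, 1, 0, 1, 0,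 2, 1, 0, 1, 2, 0, 1, 0, 1, 1, 0, 1, 0, 2, 1, 3, 2, 3, 1, 0, 1, 2, 0, 1, 1, 2, 3, 2, 1, 0]), (81, 1307, [3, 4, 3, 1, 0, 1, 0, 2, 1, 0, 1, 2, 0, 1, 0, 1, 1, 0, 1, 0, 2, 1, 3, 2, 3, 1, 0, 1, 2, 0, 1, 1, 2, 3, 2, 1, 0]), (81, 619, [3, 4, 1, 0, 1, 0, 2, 1, 0, 1, 2, 0, 1, 0, 1, 1, 0, 1, 0, 2, 1, 3, 2, 3, 1, 0, 1, 2, 0, 1, 3, 1, 2, 3, 2, 1, 0]), (81, 1701, [3, 4, 1, 0, 1, 0, 2, 1, 0, 1, 2, 0, 1, 0, 1, 1, 0, 1, 0, 2, 1, 3, 2, 3, 1, 0, 1, 2, 0, 1, 4, 1, 2, 3, 2, 1, 0]), (81, 1594, [3, 4, 1, 0, 1, 0, 2, 1, 3, 2, 3, 1, 0, 1, 2, 0, 1, 1, 0, 1, 0, 2, 1, 3, 2, 3, 1, 0, 1, 2, 0, 1, 1, 2, 3, 2, 1, 0]), (81, 1352, [4, 3, 1, 0, 1, 0, 2, 1, 3, 2, 3, 1, 0, 1, 2, 0, 1, 1, 0, 1, 0,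 2, 1, 3, 2, 3, 1, 0, 1, 2, 0, 1, 1, 2, 3, 2, 1, 0]), (81, 1287, [3, 2, 4, 1, 0, 1, 0, 2, 1, 3, 2, 3, 1, 0, 1, 2, 0, 1, 1, 0, 1, 0, 2, 1, 3, 2, 3, 1, 0, 1, 2, 0, 1, 1, 2, 3, 2, 1, 0]), (81, 908, [3, 4, 3, 1, 0, 1, 0, 2, 1, 3, 2, 3, 1, 0, 1, 2, 0, 1, 1, 0, 1, 0, 2, 1, 3, 2, 3, 1, 0, 1, 2, 0, 1, 1, 2, 3, 2, 1, 0]), (81, 1589, [3, 4, 1, 0, 1, 0, 2, 1, 3, 2, 3, 1, 0, 1, 2, 0, 1, 1, 0, 1, 0, 2, 1, 3, 2, 3, 1, 0, 1, 2, 0, 1, 3, 1, 2, 3, 2, 1, 0]), (81, 684, [3, 4, 1, 0, 1, 0, 2, 1, 3, 2, 3, 1, 0, 1, 2, 0, 1, 1, 0, 1, 0, 2, 1, 3, 2, 3, 1, 0, 1, 2, 0, 1, 4, 1, 2, 3, 2, 1, 0]), (81, 462, [4, 1, 0, 1, 0, 2, 1, 3, 2, 3, 1, 0, 1, 2, 0, 1, 3, 4, 1, 0, 1, 0, 2, 1, 3, 2, 3, 1,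 0, 1, 2, 0, 1, 1, 2, 3, 2, 1, 0]), (81, 1622, [3, 4, 1, 0, 1, 0, 2, 1, 3, 2, 3, 1, 0, 1, 2, 0, 1, 1, 0, 1, 0, 2, 1, 3, 2, 3, 1, 0, 1, 2, 0, 1, 1, 0, 1, 0, 2, 1, 3, 2, 3, 1, 0, 1, 2, 0, 1, 1, 2, 3, 2, 1, 0]), (117, 415, [0, 1, 0, 2, 3, 2, 1]), (117, 439, [0, 3, 1, 0, 2, 3, 2, 1]), (117, 411, [0, 4, 1, 0, 2, 3, 2, 1])]

def lowTree3_3 : List (ℕ × ℕ × List ℕ) := [(117, 315, [3, 2, 1, 0, 2, 3, 2, 1]), (117, 1226, [0, 3, 4, 1, 0, 2, 3, 2, 1]), (117, 313, [3, 2, 4, 1, 0, 2, 3, 2, 1]), (117, 874, [4, 3, 2, 1, 0, 2, 3, 2, 1]), (117, 666, [3, 4, 3, 2, 1, 0, 2, 3, 2, 1]), (117, 179, [3, 1, 0, 1, 0, 2, 1, 0, 1, 2, 0, 1, 0, 1, 1, 0, 2, 3, 2, 1]), (117, 416, [1, 0, 1, 0, 2,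 1, 3, 2, 3, 1, 0, 1, 2, 0, 1, 1, 0, 2, 3, 2, 1]), (117, 1102, [3, 4, 1, 0, 1, 0, 2, 1, 0, 1, 2, 0, 1, 0, 1, 1, 0, 2, 3, 2, 1]), (117, 1012, [4, 3, 1, 0, 1, 0, 2, 1, 0, 1, 2, 0, 1, 0, 1, 1, 0, 2, 3, 2, 1]), (117, 1258, [1, 0, 1, 0, 2, 1, 3, 2, 3, 1, 0, 1, 2, 0, 1, 4, 1, 0, 2, 3, 2, 1]), (117, 1446, [3, 4, 1, 0, 1, 0, 2, 1, 0, 1, 2, 0, 1, 0, 1, 3, 1, 0, 2, 3, 2, 1]), (117, 1761, [0, 4, 1, 0, 1, 0, 2, 1, 3, 2, 3, 1, 0, 1, 2, 0, 1, 1, 0, 2, 3, 2, 1]), (117, 1256, [4, 3, 1, 0, 1, 0, 2, 1, 3, 2, 3, 1, 0, 1, 2, 0, 1, 1, 0, 2, 3, 2, 1]), (117, 909, [4, 1, 0, 1, 0, 2, 1, 3, 2, 3, 1, 0, 1, 2, 0, 1, 3, 1, 0, 2, 3, 2, 1]), (117, 889, [0, 4, 3, 1, 0, 1, 0, 2, 1, 3, 2, 3, 1,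 0, 1, 2, 0, 1, 1, 0, 2, 3, 2, 1]), (117, 1344, [0, 4, 1, 0, 1, 0, 2, 1, 3, 2, 3, 1, 0, 1, 2, 0, 1, 3, 1, 0, 2, 3, 2, 1]), (117, 1259, [0, 4, 1, 0, 1, 0, 2, 1, 3, 2, 3, 1, 0, 1, 2, 0, 1, 4, 1, 0, 2, 3, 2, 1]), (117, 1121, [0, 4, 1, 0, 1, 0, 2, 1, 3, 2, 3, 1, 0, 1, 2, 0, 1, 3, 4, 1, 0, 2, 3, 2, 1]), (117, 464, [3, 2, 4, 1, 0, 1, 0, 2, 1, 3, 2, 3, 1, 0, 1, 2, 0, 1, 3, 1, 0, 2, 3, 2, 1]), (117, 196, [3, 2, 4, 1, 0, 1, 0, 2, 1, 3, 2, 3, 1, 0, 1, 2, 0, 1, 4, 1, 0, 2, 3, 2, 1]), (117, 1255, [3, 2, 4, 3, 1, 0, 1, 0, 2, 1, 3, 2, 3, 1, 0, 1, 2, 0, 1, 3, 1, 0, 2, 3, 2, 1]), (117, 701, [3, 4, 1, 0, 1, 0, 2, 1, 0, 1, 2, 0, 1, 0, 1, 1, 0, 1, 0, 2, 1, 3, 2, 3, 1, 0, 1, 2, 0,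 1, 1, 0, 2, 3, 2, 1]), (117, 1331, [4, 1, 0, 1, 0, 2, 1, 3, 2, 3, 1, 0, 1, 2, 0, 1, 1, 0, 1, 0, 2, 1, 3, 2, 3, 1, 0, 1, 2, 0, 1, 1, 0, 2, 3, 2, 1]), (117, 1315, [3, 4, 3, 1, 0, 1, 0, 2, 1, 0, 1, 2, 0, 1, 0, 1, 1, 0, 1, 0, 2, 1, 3, 2, 3, 1, 0, 1, 2, 0, 1, 1, 0, 2, 3, 2, 1]), (117, 1449, [3, 4, 1, 0, 1, 0, 2, 1, 0, 1, 2, 0, 1, 0, 1, 3, 1, 0, 1, 0, 2, 1, 3, 2, 3, 1, 0, 1, 2, 0, 1, 1, 0, 2, 3, 2, 1]), (117, 1588, [3, 4, 1, 0, 1, 0, 2, 1, 3, 2, 3, 1, 0, 1, 2, 0, 1, 1, 0, 1, 0, 2, 1, 3, 2, 3, 1, 0, 1, 2, 0, 1, 1, 0, 2, 3, 2, 1]), (117, 1626, [4, 1, 0, 1, 0, 2, 1, 3, 2, 3, 1, 0, 1, 2, 0, 1, 4, 1, 0, 1, 0, 2, 1, 3, 2, 3, 1, 0, 1, 2, 0, 1, 1, 0, 2, 3, 2, 1]), (117, 1459,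 [3, 2, 4, 1, 0, 1, 0, 2, 1, 3, 2, 3, 1, 0, 1, 2, 0, 1, 1, 0, 1, 0, 2, 1, 3, 2, 3, 1, 0, 1, 2, 0, 1, 1, 0, 2, 3, 2, 1]), (117, 1339, [3, 4, 1, 0, 1, 0, 2, 1, 3, 2, 3, 1, 0, 1, 2, 0, 1, 1, 0, 1, 0, 2, 1, 3, 2, 3, 1, 0, 1, 2, 0, 1, 4, 1, 0, 2, 3, 2, 1]), (117, 308, [4, 1, 0, 1, 0, 2, 1, 3, 2, 3, 1, 0, 1, 2, 0, 1, 3, 4, 1, 0, 1, 0, 2, 1, 3, 2, 3, 1, 0, 1, 2, 0, 1, 1, 0, 2, 3, 2, 1]), (117, 1697, [0, 4, 1, 0, 1, 0, 2, 1, 3, 2, 3, 1, 0, 1, 2, 0, 1, 3, 4, 1, 0, 1, 0, 2, 1, 3, 2, 3, 1, 0, 1, 2, 0, 1, 1, 0, 2, 3, 2, 1]), (117, 1621, [3, 4, 1, 0, 1, 0, 2, 1, 0, 1, 2, 0, 1, 0, 1, 1, 0, 1, 0, 2, 1, 3, 2, 3, 1, 0, 1, 2, 0, 1, 1, 0, 1, 0, 2, 1, 3, 2, 3, 1, 0, 1, 2, 0, 1, 1,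 0, 2, 3, 2, 1]), (128, 994, [0, 3, 4, 1, 2, 3, 2, 1, 4]), (128, 310, [1, 0, 1, 0, 2, 1, 3, 2, 3, 1, 0, 1, 2, 0, 1, 1, 2, 3, 2, 1, 4]), (128, 782, [3, 4, 1, 0, 1, 0, 2, 1, 0, 1, 2, 0, 1, 0, 1, 1, 2, 3, 2, 1, 4]), (128, 682, [1, 0, 1, 0, 2, 1, 3, 2, 3, 1, 0, 1, 2, 0, 1, 4, 1, 2, 3, 2, 1, 4]), (128, 1267, [0, 4, 1, 0, 1, 0, 2, 1, 3, 2, 3, 1, 0, 1, 2, 0, 1, 1, 2, 3, 2, 1, 4]), (128, 461, [0, 1, 0, 1, 0, 2, 1, 3, 2, 3, 1, 0, 1, 2, 0, 1, 4, 1, 2, 3, 2, 1, 4]), (128, 316, [0, 3, 4, 1, 0, 1, 0, 2, 1, 3, 2, 3, 1, 0, 1, 2, 0, 1, 1, 2, 3, 2, 1, 4]), (128, 1592, [0, 4, 1, 0, 1, 0, 2, 1, 3, 2, 3, 1, 0, 1, 2, 0, 1, 4, 1, 2, 3, 2, 1, 4]), (128, 200, [3, 2, 4, 1, 0, 1, 0, 2, 1,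 3, 2, 3, 1, 0, 1, 2, 0, 1, 1, 2, 3, 2, 1, 4]), (116, 317, [0, 1, 0, 2, 3, 2, 1, 0]), (116, 274, [0, 4, 1, 0, 2, 3, 2, 1, 0]), (116, 470, [3, 2, 1, 0, 2, 3, 2, 1, 0]), (116, 414, [3, 2, 4, 1, 0, 2, 3, 2, 1, 0]), (116, 1114, [4, 3, 2, 1, 0, 2, 3, 2, 1, 0]), (116, 970, [3, 4, 3, 2, 1, 0, 2, 3, 2, 1, 0]), (116, 276, [3, 1, 0, 1, 0, 2, 1, 0, 1, 2, 0, 1, 0, 1, 1, 0, 2, 3, 2, 1, 0]), (116, 318, [1, 0, 1, 0, 2, 1, 3, 2, 3, 1, 0, 1, 2, 0, 1, 1, 0, 2, 3, 2, 1, 0]), (116, 1452, [3, 4, 1, 0, 1, 0, 2, 1, 0, 1, 2, 0, 1, 0, 1, 1, 0, 2, 3, 2, 1, 0]), (116, 702, [4, 3, 1, 0, 1, 0, 2, 1, 0, 1, 2, 0, 1, 0, 1, 1, 0, 2, 3, 2, 1, 0]), (116, 1342, [1, 0, 1, 0, 2, 1, 3, 2, 3, 1, 0, 1,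 2, 0, 1, 4, 1, 0, 2, 3, 2, 1, 0]), (116, 1698, [3, 4, 1, 0, 1, 0, 2, 1, 0, 1, 2, 0, 1, 0, 1, 3, 1, 0, 2, 3, 2, 1, 0]), (116, 1630, [0, 4, 1, 0, 1, 0, 2, 1, 3, 2, 3, 1, 0, 1, 2, 0, 1, 1, 0, 2, 3, 2, 1, 0]), (116, 1257, [4, 3, 1, 0, 1, 0, 2, 1, 3, 2, 3, 1, 0, 1, 2, 0, 1, 1, 0, 2, 3, 2, 1, 0]), (116, 904, [4, 1, 0, 1, 0, 2, 1, 3, 2, 3, 1, 0, 1, 2, 0, 1, 3, 1, 0, 2, 3, 2, 1, 0]), (116, 1247, [0, 4, 3, 1, 0, 1, 0, 2, 1, 3, 2, 3, 1, 0, 1, 2, 0, 1, 1, 0, 2, 3, 2, 1, 0]), (116, 898, [0, 4, 1, 0, 1, 0, 2, 1, 3, 2, 3, 1, 0, 1, 2, 0, 1, 4, 1, 0, 2, 3, 2, 1, 0]), (116, 433, [3, 2, 4, 1, 0, 1, 0, 2, 1, 3, 2, 3, 1, 0, 1, 2, 0, 1, 3, 1, 0, 2, 3, 2, 1, 0]), (116, 309, [3, 2, 4,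 1, 0, 1, 0, 2, 1, 3, 2, 3, 1, 0, 1, 2, 0, 1, 4, 1, 0, 2, 3, 2, 1, 0])]

def lowTree3_4 : List (ℕ × ℕ × List ℕ) := [(116, 896, [3, 2, 4, 3, 1, 0, 1, 0, 2, 1, 3, 2, 3, 1, 0, 1, 2, 0, 1, 3, 1, 0, 2, 3, 2, 1, 0]), (116, 481, [3, 4, 1, 0, 1, 0, 2, 1, 0, 1, 2, 0, 1, 0, 1, 1, 0, 1, 0, 2, 1, 3, 2, 3, 1, 0, 1, 2, 0, 1, 1, 0, 2, 3, 2, 1, 0]), (116, 982, [4, 1, 0, 1, 0, 2, 1, 3, 2, 3, 1, 0, 1, 2, 0, 1, 1, 0, 1, 0, 2, 1, 3, 2, 3, 1, 0, 1, 2, 0, 1, 1, 0, 2, 3, 2, 1, 0]), (116, 1605, [3, 4, 3, 1, 0, 1, 0, 2, 1, 0, 1, 2, 0, 1, 0, 1, 1, 0, 1, 0, 2, 1, 3, 2, 3, 1, 0, 1, 2, 0, 1, 1, 0, 2, 3, 2, 1, 0]), (116, 1101, [3, 4, 1, 0, 1, 0, 2, 1, 0, 1, 2, 0, 1, 0, 1, 3, 1, 0, 1, 0, 2, 1,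 3, 2, 3, 1, 0, 1, 2, 0, 1, 1, 0, 2, 3, 2, 1, 0]), (116, 1248, [3, 4, 1, 0, 1, 0, 2, 1, 3, 2, 3, 1, 0, 1, 2, 0, 1, 1, 0, 1, 0, 2, 1, 3, 2, 3, 1, 0, 1, 2, 0, 1, 1, 0, 2, 3, 2, 1, 0]), (116, 1328, [4, 1, 0, 1, 0, 2, 1, 3, 2, 3, 1, 0, 1, 2, 0, 1, 4, 1, 0, 1, 0, 2, 1, 3, 2, 3, 1, 0, 1, 2, 0, 1, 1, 0, 2, 3, 2, 1, 0]), (116, 1290, [3, 2, 4, 1, 0, 1, 0, 2, 1, 3, 2, 3, 1, 0, 1, 2, 0, 1, 1, 0, 1, 0, 2, 1, 3, 2, 3, 1, 0, 1, 2, 0, 1, 1, 0, 2, 3, 2, 1, 0]), (116, 1234, [3, 4, 1, 0, 1, 0, 2, 1, 3, 2, 3, 1, 0, 1, 2, 0, 1, 1, 0, 1, 0, 2, 1, 3, 2, 3, 1, 0, 1, 2, 0, 1, 4, 1, 0, 2, 3, 2, 1, 0]), (116, 410, [4, 1, 0, 1, 0, 2, 1, 3, 2, 3, 1, 0, 1, 2, 0, 1, 3, 4, 1, 0, 1, 0, 2, 1, 3,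 2, 3, 1, 0, 1, 2, 0, 1, 1, 0, 2, 3, 2, 1, 0]), (116, 1625, [0, 4, 1, 0, 1, 0, 2, 1, 3, 2, 3, 1, 0, 1, 2, 0, 1, 3, 4, 1, 0, 1, 0, 2, 1, 3, 2, 3, 1, 0, 1, 2, 0, 1, 1, 0, 2, 3, 2, 1, 0]), (116, 1330, [3, 4, 1, 0, 1, 0, 2, 1, 0, 1, 2, 0, 1, 0, 1, 1, 0, 1, 0, 2, 1, 3, 2, 3, 1, 0, 1, 2, 0, 1, 1, 0, 1, 0, 2, 1, 3, 2, 3, 1, 0, 1, 2, 0, 1, 1, 0, 2, 3, 2, 1, 0]), (127, 467, [1, 0, 1, 0, 2, 1, 3, 2, 3, 1, 0, 1, 2, 0, 1, 1, 2, 3, 2, 1, 0, 4]), (127, 990, [1, 0, 1, 0, 2, 1, 3, 2, 3, 1, 0, 1, 2, 0, 1, 4, 1, 2, 3, 2, 1, 0, 4]), (127, 681, [0, 1, 0, 1, 0, 2, 1, 3, 2, 3, 1, 0, 1, 2, 0, 1, 4, 1, 2, 3, 2, 1, 0, 4]), (127, 294, [0, 3, 4, 1, 0, 1, 0, 2, 1, 3, 2, 3, 1, 0, 1, 2, 0, 1,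 1, 2, 3, 2, 1, 0, 4]), (127, 1320, [0, 4, 1, 0, 1, 0, 2, 1, 3, 2, 3, 1, 0, 1, 2, 0, 1, 4, 1, 2, 3, 2, 1, 0, 4]), (127, 188, [3, 2, 4, 1, 0, 1, 0, 2, 1, 3, 2, 3, 1, 0, 1, 2, 0, 1, 1, 2, 3, 2, 1, 0, 4]), (155, 614, [0, 1, 0, 2, 1, 3, 2, 1]), (155, 474, [0, 3, 1, 0, 2, 1, 3, 2, 1]), (155, 396, [0, 4, 1, 0, 2, 1, 3, 2, 1]), (155, 438, [3, 2, 1, 0, 2, 1, 3, 2, 1]), (155, 469, [3, 2, 4, 1, 0, 2, 1, 3, 2, 1]), (155, 971, [3, 4, 3, 2, 1, 0, 2, 1, 3, 2, 1]), (155, 277, [3, 1, 0, 1, 0, 2, 1, 0, 1, 2, 0, 1, 0, 1, 1, 0, 2, 1, 3, 2, 1]), (155, 279, [1, 0, 1, 0, 2, 1, 3, 2, 3, 1, 0, 1, 2, 0, 1, 1, 0, 2, 1, 3, 2, 1]), (155, 780, [3, 4, 1, 0, 1, 0, 2, 1, 0, 1, 2, 0, 1, 0, 1, 1,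 0, 2, 1, 3, 2, 1]), (155, 992, [1, 0, 1, 0, 2, 1, 3, 2, 3, 1, 0, 1, 2, 0, 1, 4, 1, 0, 2, 1, 3, 2, 1]), (155, 1700, [3, 4, 1, 0, 1, 0, 2, 1, 0, 1, 2, 0, 1, 0, 1, 3, 1, 0, 2, 1, 3, 2, 1]), (155, 1747, [0, 4, 1, 0, 1, 0, 2, 1, 3, 2, 3, 1, 0, 1, 2, 0, 1, 1, 0, 2, 1, 3, 2, 1]), (155, 1260, [0, 4, 1, 0, 1, 0, 2, 1, 3, 2, 3, 1, 0, 1, 2, 0, 1, 4, 1, 0, 2, 1, 3, 2, 1]), (155, 685, [3, 2, 4, 1, 0, 1, 0, 2, 1, 3, 2, 3, 1, 0, 1, 2, 0, 1, 3, 1, 0, 2, 1, 3, 2, 1]), (155, 981, [4, 1, 0, 1, 0, 2, 1, 3, 2, 3, 1, 0, 1, 2, 0, 1, 1, 0, 1, 0, 2, 1, 3, 2, 3, 1, 0, 1, 2, 0, 1, 1, 0, 2, 1, 3, 2, 1]), (155, 1623, [3, 4, 3, 1, 0, 1, 0, 2, 1, 0, 1, 2, 0, 1, 0, 1, 1, 0, 1, 0, 2, 1, 3, 2,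 3, 1, 0, 1, 2, 0, 1, 1, 0, 2, 1, 3, 2, 1]), (155, 1327, [4, 1, 0, 1, 0, 2, 1, 3, 2, 3, 1, 0, 1, 2, 0, 1, 4, 1, 0, 1, 0, 2, 1, 3, 2, 3, 1, 0, 1, 2, 0, 1, 1, 0, 2, 1, 3, 2, 1]), (155, 1461, [3, 2, 4, 1, 0, 1, 0, 2, 1, 3, 2, 3, 1, 0, 1, 2, 0, 1, 1, 0, 1, 0, 2, 1, 3, 2, 3, 1, 0, 1, 2, 0, 1, 1, 0, 2, 1, 3, 2, 1]), (155, 465, [4, 1, 0, 1, 0, 2, 1, 3, 2, 3, 1, 0, 1, 2, 0, 1, 3, 4, 1, 0, 1, 0, 2, 1, 3, 2, 3, 1, 0, 1, 2, 0, 1, 1, 0, 2, 1, 3, 2, 1]), (155, 1777, [0, 4, 1, 0, 1, 0, 2, 1, 3, 2, 3, 1, 0, 1, 2, 0, 1, 3, 4, 1, 0, 1, 0, 2, 1, 3, 2, 3, 1, 0, 1, 2, 0, 1, 1, 0, 2, 1, 3, 2, 1]), (155, 1758, [3, 4, 1, 0, 1, 0, 2, 1, 0, 1, 2, 0, 1, 0, 1, 1, 0, 1, 0, 2, 1, 3, 2, 3, 1,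 0, 1, 2, 0, 1, 1, 0, 1, 0, 2, 1, 3, 2, 3, 1, 0, 1, 2, 0, 1, 1, 0, 2, 1, 3, 2, 1]), (178, 643, [0, 3, 1, 0, 2, 3, 2, 1, 4]), (178, 202, [3, 2, 4, 1, 0, 2, 3, 2, 1, 4]), (178, 613, [1, 0, 1, 0, 2, 1, 3, 2, 3, 1, 0, 1, 2, 0, 1, 1, 0, 2, 3, 2, 1, 4]), (178, 1762, [0, 4, 1, 0, 1, 0, 2, 1, 3, 2, 3, 1, 0, 1, 2, 0, 1, 1, 0, 2, 3, 2, 1, 4]), (178, 1241, [0, 4, 3, 1, 0, 1, 0, 2, 1, 3, 2, 3, 1, 0, 1, 2, 0, 1, 1, 0, 2, 3, 2, 1, 4]), (178, 610, [3, 2, 4, 1, 0, 1, 0, 2, 1, 3, 2, 3, 1, 0, 1, 2, 0, 1, 3, 1, 0, 2, 3, 2, 1, 4]), (178, 1746, [3, 4, 1, 0, 1, 0, 2, 1, 3, 2, 3, 1, 0, 1, 2, 0, 1, 1, 0, 1, 0, 2, 1, 3, 2, 3, 1, 0, 1, 2, 0, 1, 1, 0, 2, 3, 2, 1, 4]), (178, 1115, [3, 2, 4,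 1, 0, 1, 0, 2, 1, 3, 2, 3, 1, 0, 1, 2, 0, 1, 1, 0, 1, 0, 2, 1, 3, 2, 3, 1, 0, 1, 2, 0, 1, 1, 0, 2, 3, 2, 1, 4]), (178, 1319, [3, 4, 1, 0, 1, 0, 2, 1, 3, 2, 3, 1, 0, 1, 2, 0, 1, 1, 0, 1, 0, 2, 1, 3, 2, 3, 1, 0, 1, 2, 0, 1, 4, 1, 0, 2, 3, 2, 1, 4]), (195, 674, [0, 1, 0, 1, 0, 2, 1, 3, 2, 3, 1, 0, 1, 2, 0, 1, 4, 1, 2, 3, 2, 1, 4, 3]), (195, 471, [0, 3, 4, 1, 0, 1, 0, 2, 1, 3, 2, 3, 1, 0, 1, 2, 0, 1, 1, 2, 3, 2, 1, 4, 3]), (177, 1122, [3, 4, 1, 0, 1, 0, 2, 1, 0, 1, 2, 0, 1, 0, 1, 1, 0, 2, 3, 2, 1, 0, 4]), (177, 1340, [1, 0, 1, 0, 2, 1, 3, 2, 3, 1, 0, 1, 2, 0, 1, 4, 1, 0, 2, 3, 2, 1, 0, 4]), (177, 1583, [0, 4, 3, 1, 0, 1, 0, 2, 1, 3, 2, 3, 1, 0, 1, 2, 0, 1, 1, 0, 2,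 3, 2, 1, 0, 4]), (177, 581, [3, 2, 4, 1, 0, 1, 0, 2, 1, 3, 2, 3, 1, 0, 1, 2, 0, 1, 3, 1, 0, 2, 3, 2, 1, 0, 4]), (177, 1584, [3, 4, 1, 0, 1, 0, 2, 1, 3, 2, 3, 1, 0, 1, 2, 0, 1, 1, 0, 1, 0, 2, 1, 3, 2, 3, 1, 0, 1, 2, 0, 1, 1, 0, 2, 3, 2, 1, 0, 4]), (194, 267, [3, 2, 4, 1, 0, 1, 0, 2, 1, 3, 2, 3, 1, 0, 1, 2, 0, 1, 1, 2, 3, 2, 1, 0, 4, 3]), (240, 687, [0, 3, 1, 0, 2, 1, 3, 2, 1, 4]), (240, 412, [3, 1, 0, 1, 0, 2, 1, 0, 1, 2, 0, 1, 0, 1, 1, 0, 2, 1, 3, 2, 1, 4]), (240, 1225, [0, 4, 1, 0, 1, 0, 2, 1, 3, 2, 3, 1, 0, 1, 2, 0, 1, 4, 1, 0, 2, 1, 3, 2, 1, 4]), (240, 899, [3, 2, 4, 1, 0, 1, 0, 2, 1, 3, 2, 3, 1, 0, 1, 2, 0, 1, 3, 1, 0, 2, 1, 3, 2, 1, 4])]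

def lowTree3_5 : List (ℕ × ℕ × List ℕ) := [(240, 611, [4, 1, 0, 1, 0, 2, 1, 3, 2, 3, 1, 0, 1, 2, 0, 1, 3, 4, 1, 0, 1, 0, 2, 1, 3, 2, 3, 1, 0, 1, 2, 0, 1, 1, 0, 2, 1, 3, 2, 1, 4]), (273, 976, [0, 4, 3, 1, 0, 1, 0, 2, 1, 3, 2, 3, 1, 0, 1, 2, 0, 1, 1, 0, 2, 3, 2, 1, 4, 3]), (305, 1753, [3, 4, 3, 1, 0, 1, 0, 2, 1, 0, 1, 2, 0, 1, 0, 1, 1, 2, 3, 2, 1, 4, 3, 2]), (305, 1627, [0, 3, 4, 3, 1, 0, 1, 0, 2, 1, 3, 2, 3, 1, 0, 1, 2, 0, 1, 1, 2, 3, 2, 1, 4, 3, 2]), (305, 472, [0, 3, 4, 1, 0, 1, 0, 2, 1, 3, 2, 3, 1, 0, 1, 2, 0, 1, 3, 1, 2, 3, 2, 1, 4, 3, 2]), (365, 857, [0, 4, 1, 0, 1, 0, 2, 1, 3, 2, 3, 1, 0, 1, 2, 0, 1, 4, 1, 0, 2, 1, 3, 2, 1, 4, 3]), (408, 1776, [0, 4, 1, 0,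 1, 0, 2, 1, 3, 2, 3, 1, 0, 1, 2, 0, 1, 3, 4, 1, 0, 2, 3, 2, 1, 4, 3, 2]), (408, 1760, [0, 3, 4, 3, 1, 0, 1, 0, 2, 1, 3, 2, 3, 1, 0, 1, 2, 0, 1, 3, 1, 0, 2, 3, 2, 1, 4, 3, 2]), (154, 642, [3, 2, 4, 1, 0, 1, 0, 2, 1, 3, 2, 3, 1, 0, 1, 2, 0, 1, 3, 1, 0, 2, 1, 3, 2, 1, 0]), (234, 690, [0, 3, 1, 0, 2, 1, 3, 2, 1, 3]), (420, 1759, [3, 4, 1, 0, 1, 0, 2, 1, 3, 2, 3, 1, 0, 1, 2, 0, 1, 1, 0, 2, 3, 2, 4, 3, 2, 1, 0]), (594, 1780, [3, 4, 1, 0, 1, 0, 2, 1, 3, 2, 3, 1, 0, 1, 2, 0, 1, 1, 0, 2, 3, 2, 1, 4, 3, 2, 1]), (323, 1775, [3, 4, 1, 0, 1, 0, 2, 1, 3, 2, 3, 1, 0, 1, 2, 0, 1, 3, 1, 2, 3, 2, 4, 3, 2, 1, 0]), (871, 1781, [3, 4, 1, 0, 1, 0, 2, 1, 3, 2, 3, 1, 0, 1, 2, 0, 1, 1,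 0, 2, 3, 2, 1, 4, 3, 2, 1, 3])]

def lowTree3 : List (ℕ × ℕ × List ℕ) := lowTree3_0 ++ lowTree3_1 ++ lowTree3_2 ++ lowTree3_3 ++ lowTree3_4 ++ lowTree3_5

def lowTree4_0 : List (ℕ × ℕ × List ℕ) := [(688, 690, []), (688, 474, [3]), (688, 439, [3, 2]), (688, 687, [3, 4]), (688, 643, [3, 2, 4]), (688, 644, [1, 0, 1, 0, 2, 1, 3, 2, 3, 1, 0, 1, 2, 0, 1]), (688, 1780, [3, 4, 1, 0, 1, 0, 2, 1, 3, 2, 3, 1, 0, 1, 2, 0, 1]), (688, 1759, [3, 2, 4, 1, 0, 1, 0, 2, 1, 3, 2, 3, 1, 0, 1, 2, 0, 1]), (688, 1781, [3, 4, 1, 0, 1, 0, 2, 1, 3, 2, 3, 1, 0, 1, 2, 0, 1, 3]), (688, 1775, [3, 2, 4, 1, 0, 1, 0, 2, 1, 3, 2, 3, 1, 0, 1, 2, 0, 1, 3]), (690, 81, [3, 1, 0, 1, 0, 2, 1]), (690,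 82, [3, 2, 1, 0, 1, 0, 2, 1]), (690, 127, [3, 4, 1, 0, 1, 0, 2, 1]), (690, 128, [3, 2, 4, 1, 0, 1, 0, 2, 1]), (690, 1303, [3, 4, 1, 0, 1, 0, 2, 1, 3, 2, 3, 1, 0, 1, 2, 0, 1, 1, 0, 1, 0, 2, 1]), (690, 1441, [3, 2, 4, 1, 0, 1, 0, 2, 1, 3, 2, 3, 1, 0, 1, 2, 0, 1, 1, 0, 1, 0, 2, 1]), (690, 1098, [3, 4, 1, 0, 1, 0, 2, 1, 3, 2, 3, 1, 0, 1, 2, 0, 1, 3, 1, 0, 1, 0, 2, 1]), (690, 1097, [3, 2, 4, 1, 0, 1, 0, 2, 1, 3, 2, 3, 1, 0, 1, 2, 0, 1, 3, 1, 0, 1, 0, 2, 1]), (474, 116, [3, 1, 0, 1, 0, 2, 1, 3]), (474, 117, [3, 2, 1, 0, 1, 0, 2, 1, 3]), (474, 194, [3, 4, 1, 0, 1, 0, 2, 1, 3]), (474, 195, [3, 2, 4, 1, 0, 1, 0, 2, 1, 3]), (474, 955, [3, 4, 1, 0, 1, 0, 2, 1, 3, 2, 3, 1,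 0, 1, 2, 0, 1, 1, 0, 1, 0, 2, 1, 3]), (474, 1111, [3, 2, 4, 1, 0, 1, 0, 2, 1, 3, 2, 3, 1, 0, 1, 2, 0, 1, 1, 0, 1, 0, 2, 1, 3]), (474, 765, [3, 4, 1, 0, 1, 0, 2, 1, 3, 2, 3, 1, 0, 1, 2, 0, 1, 3, 1, 0, 1, 0, 2, 1, 3]), (474, 763, [3, 2, 4, 1, 0, 1, 0, 2, 1, 3, 2, 3, 1, 0, 1, 2, 0, 1, 3, 1, 0, 1, 0, 2, 1, 3]), (439, 155, [3, 1, 0, 2, 1, 0, 1, 3]), (439, 154, [3, 2, 1, 0, 2, 1, 0, 1, 3]), (439, 525, [3, 4, 1, 0, 2, 1, 0, 1, 3]), (439, 524, [3, 2, 4, 1, 0, 2, 1, 0, 1, 3]), (439, 303, [3, 4, 1, 0, 1, 0, 2, 1, 3, 2, 3, 1, 0, 1, 2, 0, 1, 1, 0, 2, 1, 0, 1, 3]), (439, 305, [3, 2, 4, 1, 0, 1, 0, 2, 1, 3, 2, 3, 1, 0, 1, 2, 0, 1, 1, 0, 2, 1, 0, 1, 3]), (439, 883, [3, 4, 1,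 0, 1, 0, 2, 1, 3, 2, 3, 1, 0, 1, 2, 0, 1, 3, 1, 0, 2, 1, 0, 1, 3]), (439, 885, [3, 2, 4, 1, 0, 1, 0, 2, 1, 3, 2, 3, 1, 0, 1, 2, 0, 1, 3, 1, 0, 2, 1, 0, 1, 3]), (687, 177, [3, 1, 0, 1, 0, 2, 1, 3, 4]), (687, 178, [3, 2, 1, 0, 1, 0, 2, 1, 3, 4]), (687, 272, [3, 4, 1, 0, 1, 0, 2, 1, 3, 4]), (687, 273, [3, 2, 4, 1, 0, 1, 0, 2, 1, 3, 4]), (687, 776, [3, 4, 1, 0, 1, 0, 2, 1, 3, 2, 3, 1, 0, 1, 2, 0, 1, 1, 0, 1, 0, 2, 1, 3, 4]), (687, 775, [3, 2, 4, 1, 0, 1, 0, 2, 1, 3, 2, 3, 1, 0, 1, 2, 0, 1, 1, 0, 1, 0, 2, 1, 3, 4]), (687, 536, [3, 4, 1, 0, 1, 0, 2, 1, 3, 2, 3, 1, 0, 1, 2, 0, 1, 3, 1, 0, 1, 0, 2, 1, 3, 4]), (687, 534, [3, 2, 4, 1, 0, 1, 0, 2, 1, 3, 2, 3, 1, 0, 1, 2,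 0, 1, 3, 1, 0, 1, 0, 2, 1, 3, 4]), (643, 240, [3, 1, 0, 2, 1, 0, 1, 3, 4]), (643, 239, [3, 2, 1, 0, 2, 1, 0, 1, 3, 4]), (643, 365, [3, 4, 1, 0, 2, 1, 0, 1, 3, 4]), (643, 364, [3, 2, 4, 1, 0, 2, 1, 0, 1, 3, 4]), (643, 406, [3, 4, 1, 0, 1, 0, 2, 1, 3, 2, 3, 1, 0, 1, 2, 0, 1, 1, 0, 2, 1, 0, 1, 3, 4]), (643, 408, [3, 2, 4, 1, 0, 1, 0, 2, 1, 3, 2, 3, 1, 0, 1, 2, 0, 1, 1, 0, 2, 1, 0, 1, 3, 4]), (643, 602, [3, 4, 1, 0, 1, 0, 2, 1, 3, 2, 3, 1, 0, 1, 2, 0, 1, 3, 1, 0, 2, 1, 0, 1, 3, 4]), (643, 604, [3, 2, 4, 1, 0, 1, 0, 2, 1, 3, 2, 3, 1, 0, 1, 2, 0, 1, 3, 1, 0, 2, 1, 0, 1, 3, 4]), (644, 234, [3, 1, 0, 2, 1, 0, 1]), (644, 233, [3, 2, 1, 0, 2, 1, 0, 1]), (644, 358, [3, 4,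 1, 0, 2, 1, 0, 1]), (644, 357, [3, 2, 4, 1, 0, 2, 1, 0, 1]), (644, 455, [3, 4, 1, 0, 1, 0, 2, 1, 3, 2, 3, 1, 0, 1, 2, 0, 1, 1, 0, 2, 1, 0, 1]), (644, 457, [3, 2, 4, 1, 0, 1, 0, 2, 1, 3, 2, 3, 1, 0, 1, 2, 0, 1, 1, 0, 2, 1, 0, 1]), (644, 668, [3, 4, 1, 0, 1, 0, 2, 1, 3, 2, 3, 1, 0, 1, 2, 0, 1, 3, 1, 0, 2, 1, 0, 1]), (644, 670, [3, 2, 4, 1, 0, 1, 0, 2, 1, 3, 2, 3, 1, 0, 1, 2, 0, 1, 3, 1, 0, 2, 1, 0, 1]), (1780, 421, [3, 1, 2, 3, 2, 1, 0, 4, 3, 2, 1, 0, 1, 0, 3, 2, 1]), (1780, 420, [3, 2, 1, 2, 3, 2, 1, 0, 4, 3, 2, 1, 0, 1, 0, 3, 2, 1])]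

def lowTree4_1 : List (ℕ × ℕ × List ℕ) := [(1780, 1005, [3, 4, 1, 2, 3, 2, 1, 0, 4, 3, 2, 1, 0, 1, 0, 3, 2, 1]), (1780, 1351, [3, 2, 4, 1, 2, 3, 2, 1, 0, 4, 3, 2, 1, 0, 1, 0, 3, 2, 1]), (1780, 1222, [3, 4, 1, 0, 1, 0, 2, 1, 3, 2, 3, 1, 0, 1, 2, 0, 1, 1, 2, 3, 2, 1, 0, 4, 3, 2, 1, 0, 1, 0, 3, 2, 1]), (1780, 854, [3, 2, 4, 1, 0, 1, 0, 2, 1, 3, 2, 3, 1, 0, 1, 2, 0, 1, 1, 2, 3, 2, 1, 0, 4, 3, 2, 1, 0, 1, 0, 3, 2, 1]), (1780, 958, [3, 4, 1, 0, 1, 0, 2, 1, 3, 2, 3, 1, 0, 1, 2, 0, 1, 3, 1, 2, 3, 2, 1, 0, 4, 3, 2, 1, 0, 1, 0, 3, 2, 1]), (1780, 931, [3, 2, 4, 1, 0, 1, 0, 2, 1, 3, 2, 3, 1, 0, 1, 2, 0, 1, 3, 1, 2, 3, 2, 1, 0, 4, 3, 2, 1, 0, 1, 0, 3, 2, 1]), (1759, 594, [3,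 1, 2, 3, 2, 1, 4, 3, 2, 1, 0, 1, 0, 3, 2, 1]), (1759, 592, [3, 2, 1, 2, 3, 2, 1, 4, 3, 2, 1, 0, 1, 0, 3, 2, 1]), (1759, 698, [3, 4, 1, 2, 3, 2, 1, 4, 3, 2, 1, 0, 1, 0, 3, 2, 1]), (1759, 1004, [3, 2, 4, 1, 2, 3, 2, 1, 4, 3, 2, 1, 0, 1, 0, 3, 2, 1]), (1759, 1232, [3, 4, 1, 0, 1, 0, 2, 1, 3, 2, 3, 1, 0, 1, 2, 0, 1, 1, 2, 3, 2, 1, 4, 3, 2, 1, 0, 1, 0, 3, 2, 1]), (1759, 1103, [3, 2, 4, 1, 0, 1, 0, 2, 1, 3, 2, 3, 1, 0, 1, 2, 0, 1, 1, 2, 3, 2, 1, 4, 3, 2, 1, 0, 1, 0, 3, 2, 1]), (1759, 660, [3, 4, 1, 0, 1, 0, 2, 1, 3, 2, 3, 1, 0, 1, 2, 0, 1, 3, 1, 2, 3, 2, 1, 4, 3, 2, 1, 0, 1, 0, 3, 2, 1]), (1759, 662, [3, 2, 4, 1, 0, 1, 0, 2, 1, 3, 2, 3, 1, 0, 1, 2, 0, 1, 3, 1, 2, 3,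 2, 1, 4, 3, 2, 1, 0, 1, 0, 3, 2, 1]), (1781, 324, [3, 1, 2, 3, 2, 1, 0, 4, 3, 2, 1, 0, 1, 0, 3, 2, 1, 3]), (1781, 323, [3, 2, 1, 2, 3, 2, 1, 0, 4, 3, 2, 1, 0, 1, 0, 3, 2, 1, 3]), (1781, 1283, [3, 4, 1, 2, 3, 2, 1, 0, 4, 3, 2, 1, 0, 1, 0, 3, 2, 1, 3]), (1781, 1305, [3, 2, 4, 1, 2, 3, 2, 1, 0, 4, 3, 2, 1, 0, 1, 0, 3, 2, 1, 3]), (1781, 1422, [3, 4, 1, 0, 1, 0, 2, 1, 3, 2, 3, 1, 0, 1, 2, 0, 1, 1, 2, 3, 2, 1, 0, 4, 3, 2, 1, 0, 1, 0, 3, 2, 1, 3]), (1781, 1215, [3, 2, 4, 1, 0, 1, 0, 2, 1, 3, 2, 3, 1, 0, 1, 2, 0, 1, 1, 2, 3, 2, 1, 0, 4, 3, 2, 1, 0, 1, 0, 3, 2, 1, 3]), (1781, 938, [3, 4, 1, 0, 1, 0, 2, 1, 3, 2, 3, 1, 0, 1, 2, 0, 1, 3, 1, 2, 3, 2, 1, 0, 4, 3, 2, 1, 0, 1,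 0, 3, 2, 1, 3]), (1781, 639, [3, 2, 4, 1, 0, 1, 0, 2, 1, 3, 2, 3, 1, 0, 1, 2, 0, 1, 3, 1, 2, 3, 2, 1, 0, 4, 3, 2, 1, 0, 1, 0, 3, 2, 1, 3]), (1775, 871, [3, 1, 2, 3, 2, 1, 4, 3, 2, 1, 0, 1, 0, 3, 2, 1, 3]), (1775, 781, [3, 2, 1, 2, 3, 2, 1, 4, 3, 2, 1, 0, 1, 0, 3, 2, 1, 3]), (1775, 906, [3, 4, 1, 2, 3, 2, 1, 4, 3, 2, 1, 0, 1, 0, 3, 2, 1, 3]), (1775, 1073, [3, 2, 4, 1, 2, 3, 2, 1, 4, 3, 2, 1, 0, 1, 0, 3, 2, 1, 3]), (1775, 962, [3, 4, 1, 0, 1, 0, 2, 1, 3, 2, 3, 1, 0, 1, 2, 0, 1, 1, 2, 3, 2, 1, 4, 3, 2, 1, 0, 1, 0, 3, 2, 1, 3]), (1775, 960, [3, 2, 4, 1, 0, 1, 0, 2, 1, 3, 2, 3, 1, 0, 1, 2, 0, 1, 1, 2, 3, 2, 1, 4, 3, 2, 1, 0, 1, 0, 3, 2, 1, 3]), (1775, 449, [3, 4, 1,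 0, 1, 0, 2, 1, 3, 2, 3, 1, 0, 1, 2, 0, 1, 3, 1, 2, 3, 2, 1, 4, 3, 2, 1, 0, 1, 0, 3, 2, 1, 3]), (1775, 451, [3, 2, 4, 1, 0, 1, 0, 2, 1, 3, 2, 3, 1, 0, 1, 2, 0, 1, 3, 1, 2, 3, 2, 1, 4, 3, 2, 1, 0, 1, 0, 3, 2, 1, 3]), (81, 199, [3, 1, 2, 3, 2, 1, 0]), (81, 129, [3, 2, 1, 2, 3, 2, 1, 0]), (81, 703, [3, 4, 1, 2, 3, 2, 1, 0]), (81, 1014, [3, 2, 4, 1, 2, 3, 2, 1, 0]), (81, 607, [3, 4, 1, 0, 1, 0, 2, 1, 3, 2, 3, 1, 0, 1, 2, 0, 1, 1, 2, 3, 2, 1, 0]), (81, 895, [3, 2, 4, 1, 0, 1, 0, 2, 1, 3, 2, 3, 1, 0, 1, 2, 0, 1, 1, 2, 3, 2, 1, 0]), (81, 1119, [3, 4, 1, 0, 1, 0, 2, 1, 3, 2, 3, 1, 0, 1, 2, 0, 1, 3, 1, 2, 3, 2, 1, 0]), (81, 1343, [3, 2, 4, 1, 0, 1, 0, 2, 1, 3, 2, 3, 1, 0,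 1, 2, 0, 1, 3, 1, 2, 3, 2, 1, 0]), (82, 314, [3, 1, 2, 3, 2, 1]), (82, 198, [3, 2, 1, 2, 3, 2, 1]), (82, 695, [3, 4, 1, 2, 3, 2, 1]), (82, 940, [3, 2, 4, 1, 2, 3, 2, 1]), (82, 894, [3, 4, 1, 0, 1, 0, 2, 1, 3, 2, 3, 1, 0, 1, 2, 0, 1, 1, 2, 3, 2, 1]), (82, 1254, [3, 2, 4, 1, 0, 1, 0, 2, 1, 3, 2, 3, 1, 0, 1, 2, 0, 1, 1, 2, 3, 2, 1]), (82, 779, [3, 4, 1, 0, 1, 0, 2, 1, 3, 2, 3, 1, 0, 1, 2, 0, 1, 3, 1, 2, 3, 2, 1]), (82, 1013, [3, 2, 4, 1, 0, 1, 0, 2, 1, 3, 2, 3, 1, 0, 1, 2, 0, 1, 3, 1, 2, 3, 2, 1]), (127, 310, [3, 1, 2, 3, 2, 1, 0, 4]), (127, 196, [3, 2, 1, 2, 3, 2, 1, 0, 4]), (127, 909, [3, 4, 1, 2, 3, 2, 1, 0, 4]), (127, 1267, [3, 2, 4, 1, 2, 3, 2, 1, 0, 4]), (127,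 461, [3, 4, 1, 0, 1, 0, 2, 1, 3, 2, 3, 1, 0, 1, 2, 0, 1, 1, 2, 3, 2, 1, 0, 4]), (127, 682, [3, 2, 4, 1, 0, 1, 0, 2, 1, 3, 2, 3, 1, 0, 1, 2, 0, 1, 1, 2, 3, 2, 1, 0, 4]), (127, 1449, [3, 4, 1, 0, 1, 0, 2, 1, 3, 2, 3, 1, 0, 1, 2, 0, 1, 3, 1, 2, 3, 2, 1, 0, 4]), (127, 1592, [3, 2, 4, 1, 0, 1, 0, 2, 1, 3, 2, 3, 1, 0, 1, 2, 0, 1, 3, 1, 2, 3, 2, 1, 0, 4]), (128, 467, [3, 1, 2, 3, 2, 1, 4]), (128, 309, [3, 2, 1, 2, 3, 2, 1, 4]), (128, 904, [3, 4, 1, 2, 3, 2, 1, 4]), (128, 1226, [3, 2, 4, 1, 2, 3, 2, 1, 4]), (128, 681, [3, 4, 1, 0, 1, 0, 2, 1, 3, 2, 3, 1, 0, 1, 2, 0, 1, 1, 2, 3, 2, 1, 4]), (128, 990, [3, 2, 4, 1, 0, 1, 0, 2, 1, 3, 2, 3, 1, 0, 1, 2, 0, 1, 1, 2, 3, 2, 1,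 4])]

def lowTree4_2 : List (ℕ × ℕ × List ℕ) := [(128, 1101, [3, 4, 1, 0, 1, 0, 2, 1, 3, 2, 3, 1, 0, 1, 2, 0, 1, 3, 1, 2, 3, 2, 1, 4]), (128, 1320, [3, 2, 4, 1, 0, 1, 0, 2, 1, 3, 2, 3, 1, 0, 1, 2, 0, 1, 3, 1, 2, 3, 2, 1, 4]), (1303, 610, [1, 0, 2, 1, 3, 2, 1, 3, 4, 3, 2, 3, 4]), (1303, 1315, [3, 4, 1, 0, 2, 1, 3, 2, 1, 3, 4, 3, 2, 3, 4]), (1303, 1623, [3, 2, 4, 1, 0, 2, 1, 3, 2, 1, 3, 4, 3, 2, 3, 4]), (1303, 899, [1, 0, 1, 0, 2, 1, 3, 2, 3, 1, 0, 1, 2, 0, 1, 1, 0, 2, 1, 3, 2, 1, 3, 4, 3, 2, 3, 4]), (1303, 666, [3, 4, 1, 0, 1, 0, 2, 1, 3, 2, 3, 1, 0, 1, 2, 0, 1, 1, 0, 2, 1, 3, 2, 1, 3, 4, 3, 2, 3, 4]), (1303, 971, [3, 2, 4, 1, 0, 1, 0, 2, 1, 3, 2, 3, 1, 0, 1, 2,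 0, 1, 1, 0, 2, 1, 3, 2, 1, 3, 4, 3, 2, 3, 4]), (1303, 1248, [3, 4, 1, 0, 1, 0, 2, 1, 3, 2, 3, 1, 0, 1, 2, 0, 1, 3, 1, 0, 2, 1, 3, 2, 1, 3, 4, 3, 2, 3, 4]), (1303, 889, [3, 2, 4, 1, 0, 1, 0, 2, 1, 3, 2, 3, 1, 0, 1, 2, 0, 1, 3, 1, 0, 2, 1, 3, 2, 1, 3, 4, 3, 2, 3, 4]), (1441, 581, [1, 0, 2, 3, 2, 1, 4, 3, 2, 3, 2, 4, 3]), (1441, 1605, [3, 4, 1, 0, 2, 3, 2, 1, 4, 3, 2, 3, 2, 4, 3]), (1441, 1753, [3, 2, 4, 1, 0, 2, 3, 2, 1, 4, 3, 2, 3, 2, 4, 3]), (1441, 857, [1, 0, 1, 0, 2, 1, 3, 2, 3, 1, 0, 1, 2, 0, 1, 1, 0, 2, 3, 2, 1, 4, 3, 2, 3, 2, 4, 3]), (1441, 970, [3, 4, 1, 0, 1, 0, 2, 1, 3, 2, 3, 1, 0, 1, 2, 0, 1, 1, 0, 2, 3, 2, 1, 4, 3, 2, 3, 2, 4, 3]), (1441, 1319, [3, 2,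 4, 1, 0, 1, 0, 2, 1, 3, 2, 3, 1, 0, 1, 2, 0, 1, 1, 0, 2, 3, 2, 1, 4, 3, 2, 3, 2, 4, 3]), (1441, 1588, [3, 4, 1, 0, 1, 0, 2, 1, 3, 2, 3, 1, 0, 1, 2, 0, 1, 3, 1, 0, 2, 3, 2, 1, 4, 3, 2, 3, 2, 4, 3]), (1441, 1247, [3, 2, 4, 1, 0, 1, 0, 2, 1, 3, 2, 3, 1, 0, 1, 2, 0, 1, 3, 1, 0, 2, 3, 2, 1, 4, 3, 2, 3, 2, 4, 3]), (1098, 464, [1, 0, 2, 1, 3, 2, 1, 3, 4, 3, 2, 3]), (1098, 1446, [3, 4, 1, 0, 2, 1, 3, 2, 1, 3, 4, 3, 2, 3]), (1098, 1700, [3, 2, 4, 1, 0, 2, 1, 3, 2, 1, 3, 4, 3, 2, 3]), (1098, 685, [1, 0, 1, 0, 2, 1, 3, 2, 3, 1, 0, 1, 2, 0, 1, 1, 0, 2, 1, 3, 2, 1, 3, 4, 3, 2, 3]), (1098, 874, [3, 4, 1, 0, 1, 0, 2, 1, 3, 2, 3, 1, 0, 1, 2, 0, 1, 1, 0, 2, 1, 3, 2, 1, 3, 4, 3,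 2, 3]), (1098, 1234, [3, 2, 4, 1, 0, 1, 0, 2, 1, 3, 2, 3, 1, 0, 1, 2, 0, 1, 1, 0, 2, 1, 3, 2, 1, 3, 4, 3, 2, 3]), (1098, 1584, [3, 4, 1, 0, 1, 0, 2, 1, 3, 2, 3, 1, 0, 1, 2, 0, 1, 3, 1, 0, 2, 1, 3, 2, 1, 3, 4, 3, 2, 3]), (1098, 1241, [3, 2, 4, 1, 0, 1, 0, 2, 1, 3, 2, 3, 1, 0, 1, 2, 0, 1, 3, 1, 0, 2, 1, 3, 2, 1, 3, 4, 3, 2, 3]), (1097, 433, [3, 1, 0, 2, 1, 3, 2, 1, 0, 1, 4, 3, 2, 3]), (1097, 642, [3, 2, 1, 0, 2, 1, 3, 2, 1, 0, 1, 4, 3, 2, 3]), (1097, 1746, [3, 4, 1, 0, 2, 1, 3, 2, 1, 0, 1, 4, 3, 2, 3]), (1097, 1583, [3, 2, 4, 1, 0, 2, 1, 3, 2, 1, 0, 1, 4, 3, 2, 3]), (1097, 1114, [3, 4, 1, 0, 1, 0, 2, 1, 3, 2, 3, 1, 0, 1, 2, 0, 1, 1, 0, 2, 1, 3, 2, 1, 0, 1, 4, 3,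 2, 3]), (1097, 1339, [3, 2, 4, 1, 0, 1, 0, 2, 1, 3, 2, 3, 1, 0, 1, 2, 0, 1, 1, 0, 2, 1, 3, 2, 1, 0, 1, 4, 3, 2, 3]), (1097, 1698, [3, 4, 1, 0, 1, 0, 2, 1, 3, 2, 3, 1, 0, 1, 2, 0, 1, 3, 1, 0, 2, 1, 3, 2, 1, 0, 1, 4, 3, 2, 3]), (1097, 1776, [3, 2, 4, 1, 0, 1, 0, 2, 1, 3, 2, 3, 1, 0, 1, 2, 0, 1, 3, 1, 0, 2, 1, 3, 2, 1, 0, 1, 4, 3, 2, 3]), (116, 315, [1, 0, 2, 3, 2, 1, 0]), (116, 1344, [3, 2, 4, 1, 0, 2, 3, 2, 1, 0]), (116, 179, [1, 0, 1, 0, 2, 1, 3, 2, 3, 1, 0, 1, 2, 0, 1, 1, 0, 2, 3, 2, 1, 0]), (116, 1012, [3, 2, 4, 1, 0, 1, 0, 2, 1, 3, 2, 3, 1, 0, 1, 2, 0, 1, 1, 0, 2, 3, 2, 1, 0]), (116, 1256, [3, 2, 4, 1, 0, 1, 0, 2, 1, 3, 2, 3, 1, 0, 1, 2, 0, 1, 3, 1, 0, 2, 3,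 2, 1, 0]), (117, 470, [1, 0, 2, 3, 2, 1]), (117, 994, [3, 2, 4, 1, 0, 2, 3, 2, 1]), (117, 276, [1, 0, 1, 0, 2, 1, 3, 2, 3, 1, 0, 1, 2, 0, 1, 1, 0, 2, 3, 2, 1]), (117, 702, [3, 2, 4, 1, 0, 1, 0, 2, 1, 3, 2, 3, 1, 0, 1, 2, 0, 1, 1, 0, 2, 3, 2, 1]), (117, 1257, [3, 2, 4, 1, 0, 1, 0, 2, 1, 3, 2, 3, 1, 0, 1, 2, 0, 1, 3, 1, 0, 2, 3, 2, 1]), (194, 307, [3, 2, 1, 2, 3, 2, 1, 0, 4, 3]), (194, 1462, [3, 2, 4, 1, 2, 3, 2, 1, 0, 4, 3]), (194, 674, [3, 4, 1, 0, 1, 0, 2, 1, 3, 2, 3, 1, 0, 1, 2, 0, 1, 1, 2, 3, 2, 1, 0, 4, 3]), (194, 992, [3, 2, 4, 1, 0, 1, 0, 2, 1, 3, 2, 3, 1, 0, 1, 2, 0, 1, 1, 2, 3, 2, 1, 0, 4, 3]), (194, 1311, [3, 4, 1, 0, 1, 0, 2, 1, 3, 2, 3, 1, 0, 1, 2, 0,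 1, 3, 1, 2, 3, 2, 1, 0, 4, 3]), (195, 462, [3, 2, 1, 2, 3, 2, 1, 4, 3]), (195, 1573, [3, 2, 4, 1, 2, 3, 2, 1, 4, 3]), (195, 981, [3, 4, 1, 0, 1, 0, 2, 1, 3, 2, 3, 1, 0, 1, 2, 0, 1, 1, 2, 3, 2, 1, 4, 3]), (195, 1340, [3, 2, 4, 1, 0, 1, 0, 2, 1, 3, 2, 3, 1, 0, 1, 2, 0, 1, 1, 2, 3, 2, 1, 4, 3]), (195, 1444, [3, 4, 1, 0, 1, 0, 2, 1, 3, 2, 3, 1, 0, 1, 2, 0, 1, 3, 1, 2, 3, 2, 1, 4, 3]), (955, 412, [1, 0, 2, 1, 3, 2, 1, 4, 3, 2, 3, 4]), (955, 972, [3, 4, 1, 0, 2, 1, 3, 2, 1, 4, 3, 2, 3, 4]), (955, 1260, [1, 0, 1, 0, 2, 1, 3, 2, 3, 1, 0, 1, 2, 0, 1, 1, 0, 2, 1, 3, 2, 1, 4, 3, 2, 3, 4]), (955, 966, [3, 4, 1, 0, 1, 0, 2, 1, 3, 2, 3, 1, 0, 1, 2, 0, 1, 1, 0, 2, 1, 3, 2, 1,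 4, 3, 2, 3, 4]), (955, 1589, [3, 4, 1, 0, 1, 0, 2, 1, 3, 2, 3, 1, 0, 1, 2, 0, 1, 3, 1, 0, 2, 1, 3, 2, 1, 4, 3, 2, 3, 4]), (1111, 396, [1, 0, 2, 3, 2, 1, 4, 3, 2, 3, 2, 4])]

def lowTree4_3 : List (ℕ × ℕ × List ℕ) := [(1111, 1287, [3, 4, 1, 0, 2, 3, 2, 1, 4, 3, 2, 3, 2, 4]), (1111, 1225, [1, 0, 1, 0, 2, 1, 3, 2, 3, 1, 0, 1, 2, 0, 1, 1, 0, 2, 3, 2, 1, 4, 3, 2, 3, 2, 4]), (1111, 1313, [3, 4, 1, 0, 1, 0, 2, 1, 3, 2, 3, 1, 0, 1, 2, 0, 1, 1, 0, 2, 3, 2, 1, 4, 3, 2, 3, 2, 4]), (1111, 1702, [3, 4, 1, 0, 1, 0, 2, 1, 3, 2, 3, 1, 0, 1, 2, 0, 1, 3, 1, 0, 2, 3, 2, 1, 4, 3, 2, 3, 2, 4]), (765, 311, [1, 0, 2, 1, 3, 2, 1, 3, 4, 3, 2]), (765, 1104, [3, 4, 1, 0, 2, 1, 3, 2, 1, 3,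 4, 3, 2]), (765, 908, [3, 2, 4, 1, 0, 1, 0, 2, 1, 3, 2, 3, 1, 0, 1, 2, 0, 1, 1, 0, 2, 1, 3, 2, 1, 3, 4, 3, 2]), (765, 1747, [3, 4, 1, 0, 1, 0, 2, 1, 3, 2, 3, 1, 0, 1, 2, 0, 1, 3, 1, 0, 2, 1, 3, 2, 1, 3, 4, 3, 2]), (765, 976, [3, 2, 4, 1, 0, 1, 0, 2, 1, 3, 2, 3, 1, 0, 1, 2, 0, 1, 3, 1, 0, 2, 1, 3, 2, 1, 3, 4, 3, 2]), (763, 290, [3, 1, 0, 2, 1, 3, 2, 1, 0, 1, 4, 3, 2]), (763, 1762, [3, 4, 1, 0, 2, 1, 3, 2, 1, 0, 1, 4, 3, 2]), (763, 1327, [3, 2, 4, 1, 0, 2, 1, 3, 2, 1, 0, 1, 4, 3, 2]), (763, 1266, [3, 2, 4, 1, 0, 1, 0, 2, 1, 3, 2, 3, 1, 0, 1, 2, 0, 1, 1, 0, 2, 1, 3, 2, 1, 0, 1, 4, 3, 2]), (763, 1451, [3, 4, 1, 0, 1, 0, 2, 1, 3, 2, 3, 1, 0, 1, 2, 0, 1, 3, 1, 0, 2,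 1, 3, 2, 1, 0, 1, 4, 3, 2]), (155, 471, [1, 0, 2, 1, 3, 2, 1]), (155, 782, [3, 2, 4, 1, 0, 2, 1, 3, 2, 1]), (155, 267, [1, 0, 1, 0, 2, 1, 3, 2, 3, 1, 0, 1, 2, 0, 1, 1, 0, 2, 1, 3, 2, 1]), (155, 481, [3, 2, 4, 1, 0, 1, 0, 2, 1, 3, 2, 3, 1, 0, 1, 2, 0, 1, 1, 0, 2, 1, 3, 2, 1]), (155, 896, [3, 2, 4, 1, 0, 1, 0, 2, 1, 3, 2, 3, 1, 0, 1, 2, 0, 1, 3, 1, 0, 2, 1, 3, 2, 1]), (154, 438, [1, 0, 2, 1, 3, 2, 1, 0]), (154, 1121, [3, 2, 4, 1, 0, 2, 1, 3, 2, 1, 0]), (154, 277, [1, 0, 1, 0, 2, 1, 3, 2, 3, 1, 0, 1, 2, 0, 1, 1, 0, 2, 1, 3, 2, 1, 0]), (154, 701, [3, 2, 4, 1, 0, 1, 0, 2, 1, 3, 2, 3, 1, 0, 1, 2, 0, 1, 1, 0, 2, 1, 3, 2, 1, 0]), (154, 1255, [3, 2, 4, 1, 0, 1, 0, 2, 1,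 3, 2, 3, 1, 0, 1, 2, 0, 1, 3, 1, 0, 2, 1, 3, 2, 1, 0]), (525, 468, [1, 0, 2, 1, 3, 2, 1, 3, 4, 3]), (525, 1261, [3, 4, 1, 0, 2, 1, 3, 2, 1, 3, 4, 3]), (525, 619, [3, 2, 4, 1, 0, 1, 0, 2, 1, 3, 2, 3, 1, 0, 1, 2, 0, 1, 1, 0, 2, 1, 3, 2, 1, 3, 4, 3]), (525, 1761, [3, 4, 1, 0, 1, 0, 2, 1, 3, 2, 3, 1, 0, 1, 2, 0, 1, 3, 1, 0, 2, 1, 3, 2, 1, 3, 4, 3]), (525, 1328, [3, 2, 4, 1, 0, 1, 0, 2, 1, 3, 2, 3, 1, 0, 1, 2, 0, 1, 3, 1, 0, 2, 1, 3, 2, 1, 3, 4, 3]), (524, 436, [3, 1, 0, 2, 1, 3, 2, 1, 0, 1, 4, 3]), (524, 1630, [3, 4, 1, 0, 2, 1, 3, 2, 1, 0, 1, 4, 3]), (524, 1626, [3, 2, 4, 1, 0, 2, 1, 3, 2, 1, 0, 1, 4, 3]), (524, 907, [3, 2, 4, 1, 0, 1, 0, 2, 1, 3, 2, 3, 1, 0, 1, 2,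 0, 1, 1, 0, 2, 1, 3, 2, 1, 0, 1, 4, 3]), (524, 1595, [3, 4, 1, 0, 1, 0, 2, 1, 3, 2, 3, 1, 0, 1, 2, 0, 1, 3, 1, 0, 2, 1, 3, 2, 1, 0, 1, 4, 3]), (303, 463, [3, 2, 1, 2, 3, 2, 1, 0, 4, 3, 2]), (303, 1116, [3, 2, 4, 1, 2, 3, 2, 1, 0, 4, 3, 2]), (303, 982, [3, 4, 1, 0, 1, 0, 2, 1, 3, 2, 3, 1, 0, 1, 2, 0, 1, 1, 2, 3, 2, 1, 0, 4, 3, 2]), (303, 1258, [3, 2, 4, 1, 0, 1, 0, 2, 1, 3, 2, 3, 1, 0, 1, 2, 0, 1, 1, 2, 3, 2, 1, 0, 4, 3, 2]), (303, 1619, [3, 4, 1, 0, 1, 0, 2, 1, 3, 2, 3, 1, 0, 1, 2, 0, 1, 3, 1, 2, 3, 2, 1, 0, 4, 3, 2]), (305, 684, [3, 2, 1, 2, 3, 2, 1, 4, 3, 2]), (305, 1460, [3, 2, 4, 1, 2, 3, 2, 1, 4, 3, 2]), (305, 1331, [3, 4, 1, 0, 1, 0, 2, 1, 3, 2, 3, 1, 0,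 1, 2, 0, 1, 1, 2, 3, 2, 1, 4, 3, 2]), (305, 1342, [3, 2, 4, 1, 0, 1, 0, 2, 1, 3, 2, 3, 1, 0, 1, 2, 0, 1, 1, 2, 3, 2, 1, 4, 3, 2]), (305, 1696, [3, 4, 1, 0, 1, 0, 2, 1, 3, 2, 3, 1, 0, 1, 2, 0, 1, 3, 1, 2, 3, 2, 1, 4, 3, 2]), (883, 274, [1, 0, 2, 3, 2, 1, 0, 4, 3, 2, 3, 4]), (883, 1321, [3, 4, 1, 0, 2, 3, 2, 1, 0, 4, 3, 2, 3, 4]), (883, 1259, [1, 0, 1, 0, 2, 1, 3, 2, 3, 1, 0, 1, 2, 0, 1, 1, 0, 2, 3, 2, 1, 0, 4, 3, 2, 3, 4]), (883, 1314, [3, 4, 1, 0, 1, 0, 2, 1, 3, 2, 3, 1, 0, 1, 2, 0, 1, 1, 0, 2, 3, 2, 1, 0, 4, 3, 2, 3, 4]), (883, 1249, [3, 4, 1, 0, 1, 0, 2, 1, 3, 2, 3, 1, 0, 1, 2, 0, 1, 3, 1, 0, 2, 3, 2, 1, 0, 4, 3, 2, 3, 4]), (885, 411, [1, 0, 2, 3, 2, 1, 4, 3,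 2, 3, 4]), (885, 1594, [3, 4, 1, 0, 2, 3, 2, 1, 4, 3, 2, 3, 4]), (885, 898, [1, 0, 1, 0, 2, 1, 3, 2, 3, 1, 0, 1, 2, 0, 1, 1, 0, 2, 3, 2, 1, 4, 3, 2, 3, 4]), (885, 1622, [3, 4, 1, 0, 1, 0, 2, 1, 3, 2, 3, 1, 0, 1, 2, 0, 1, 1, 0, 2, 3, 2, 1, 4, 3, 2, 3, 4]), (885, 1466, [3, 4, 1, 0, 1, 0, 2, 1, 3, 2, 3, 1, 0, 1, 2, 0, 1, 3, 1, 0, 2, 3, 2, 1, 4, 3, 2, 3, 4]), (177, 1341, [3, 2, 4, 1, 0, 1, 0, 2, 1, 3, 2, 3, 1, 0, 1, 2, 0, 1, 3, 1, 0, 2, 3, 2, 1, 0, 4]), (178, 993, [3, 2, 4, 1, 0, 1, 0, 2, 1, 3, 2, 3, 1, 0, 1, 2, 0, 1, 3, 1, 0, 2, 3, 2, 1, 4]), (272, 409, [1, 0, 1, 0, 2, 1, 3, 2, 3, 1, 0, 1, 2, 0, 1, 1, 0, 2, 3, 2, 1, 0, 4, 3]), (273, 608, [1, 0, 1, 0, 2, 1, 3, 2, 3,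 1, 0, 1, 2, 0, 1, 1, 0, 2, 3, 2, 1, 4, 3]), (776, 1363, [3, 4, 1, 0, 1, 0, 2, 1, 3, 2, 3, 1, 0, 1, 2, 0, 1, 3, 1, 0, 2, 1, 3, 2, 1, 4, 3, 2, 3]), (775, 1655, [3, 4, 1, 0, 1, 0, 2, 1, 3, 2, 3, 1, 0, 1, 2, 0, 1, 3, 1, 0, 2, 3, 2, 1, 4, 3, 2, 3, 2])]

def lowTree4_4 : List (ℕ × ℕ × List ℕ) := [(536, 200, [1, 0, 2, 1, 3, 2, 1, 4, 3, 2]), (534, 188, [1, 0, 2, 1, 3, 2, 1, 0, 4, 3, 2]), (240, 683, [3, 2, 4, 1, 0, 1, 0, 2, 1, 3, 2, 3, 1, 0, 1, 2, 0, 1, 3, 1, 0, 2, 1, 3, 2, 1, 4]), (239, 991, [3, 2, 4, 1, 0, 1, 0, 2, 1, 3, 2, 3, 1, 0, 1, 2, 0, 1, 3, 1, 0, 2, 1, 3, 2, 1, 0, 4]), (365, 316, [1, 0, 2, 1, 3, 2, 1, 4, 3]), (364, 294, [1, 0, 2, 1, 3, 2, 1, 0, 4, 3]), (406, 609,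 [1, 0, 1, 0, 2, 1, 3, 2, 3, 1, 0, 1, 2, 0, 1, 1, 0, 2, 3, 2, 1, 0, 4, 3, 2]), (408, 897, [1, 0, 1, 0, 2, 1, 3, 2, 3, 1, 0, 1, 2, 0, 1, 1, 0, 2, 3, 2, 1, 4, 3, 2]), (602, 1352, [3, 4, 1, 0, 1, 0, 2, 1, 3, 2, 3, 1, 0, 1, 2, 0, 1, 3, 1, 0, 2, 3, 2, 1, 0, 4, 3, 2, 3]), (604, 1639, [3, 4, 1, 0, 1, 0, 2, 1, 3, 2, 3, 1, 0, 1, 2, 0, 1, 3, 1, 0, 2, 3, 2, 1, 4, 3, 2, 3]), (199, 201, [1, 0, 1, 2, 1, 0, 3]), (199, 689, [1, 0, 1, 0, 2, 1, 3, 2, 3, 1, 0, 1, 2, 0, 1, 1, 0, 1, 2, 1, 0, 3]), (129, 473, [1, 2, 3, 2, 1, 0, 1]), (129, 130, [1, 0, 1, 0, 2, 1, 3, 2, 3, 1, 0, 1, 2, 0, 1, 1, 2, 3, 2, 1, 0, 1]), (703, 900, [3, 4, 1, 0, 1, 0, 2, 1, 3, 2, 3, 1, 0, 1, 2, 0, 1, 3, 1, 0, 1,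 0, 2, 3, 2, 4, 3, 2, 1, 0]), (703, 1756, [3, 2, 4, 1, 0, 1, 0, 2, 1, 3, 2, 3, 1, 0, 1, 2, 0, 1, 3, 1, 0, 1, 0, 2, 3, 2, 4, 3, 2, 1, 0]), (1014, 612, [3, 4, 1, 0, 2, 1, 0, 3, 2, 4, 3, 2, 1, 0]), (1014, 1615, [3, 2, 4, 1, 0, 2, 1, 0, 3, 2, 4, 3, 2, 1, 0]), (607, 1617, [3, 4, 1, 0, 1, 0, 2, 1, 3, 2, 3, 1, 0, 1, 2, 0, 1, 1, 0, 2, 3, 2, 1, 0, 4, 3, 2, 1]), (607, 1338, [3, 2, 4, 1, 0, 1, 0, 2, 1, 3, 2, 3, 1, 0, 1, 2, 0, 1, 1, 0, 2, 3, 2, 1, 0, 4, 3, 2, 1]), (895, 989, [3, 4, 1, 0, 1, 0, 2, 1, 3, 2, 3, 1, 0, 1, 2, 0, 1, 1, 0, 2, 1, 3, 2, 3, 2, 4, 3, 2, 1]), (895, 1307, [3, 2, 4, 1, 0, 1, 0, 2, 1, 3, 2, 3, 1, 0, 1, 2, 0, 1, 1, 0, 2, 1, 3, 2, 3, 2, 4, 3, 2, 1]), (1119,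 413, [3, 1, 0, 2, 3, 2, 1, 4, 3, 2, 1, 0, 1, 3]), (1119, 1465, [3, 2, 1, 0, 2, 3, 2, 1, 4, 3, 2, 1, 0, 1, 3]), (1343, 1701, [3, 4, 1, 0, 1, 0, 2, 1, 3, 2, 3, 1, 0, 1, 2, 0, 1, 3, 1, 2, 3, 2, 4, 3, 2, 1, 0, 1, 0, 2, 3]), (1343, 275, [3, 2, 4, 1, 0, 1, 0, 2, 1, 3, 2, 3, 1, 0, 1, 2, 0, 1, 3, 1, 2, 3, 2, 4, 3, 2, 1, 0, 1, 0, 2, 3]), (314, 278, [1, 0, 1, 2, 1, 3]), (314, 901, [1, 0, 1, 0, 2, 1, 3, 2, 3, 1, 0, 1, 2, 0, 1, 1, 0, 1, 2, 1, 3]), (198, 180, [1, 0, 1, 2, 1, 3, 2]), (198, 615, [1, 0, 1, 0, 2, 1, 3, 2, 3, 1, 0, 1, 2, 0, 1, 1, 0, 1, 2, 1, 3, 2]), (695, 686, [3, 4, 1, 0, 1, 0, 2, 1, 3, 2, 3, 1, 0, 1, 2, 0, 1, 3, 1, 0, 1, 0, 2, 3, 2, 4, 3, 2, 1]), (695, 1699, [3,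 2, 4, 1, 0, 1, 0, 2, 1, 3, 2, 3, 1, 0, 1, 2, 0, 1, 3, 1, 0, 1, 0, 2, 3, 2, 4, 3, 2, 1]), (940, 466, [3, 4, 1, 0, 2, 1, 0, 3, 2, 4, 3, 2, 1]), (940, 1445, [3, 2, 4, 1, 0, 2, 1, 0, 3, 2, 4, 3, 2, 1]), (894, 1757, [3, 4, 1, 0, 1, 0, 2, 1, 3, 2, 3, 1, 0, 1, 2, 0, 1, 1, 0, 2, 3, 2, 1, 0, 4, 3, 2, 1, 0]), (894, 1253, [3, 2, 4, 1, 0, 1, 0, 2, 1, 3, 2, 3, 1, 0, 1, 2, 0, 1, 1, 0, 2, 3, 2, 1, 0, 4, 3, 2, 1, 0]), (1254, 1318, [3, 4, 1, 0, 1, 0, 2, 1, 3, 2, 3, 1, 0, 1, 2, 0, 1, 1, 0, 2, 1, 3, 2, 3, 2, 4, 3, 2, 1, 0]), (1254, 1616, [3, 2, 4, 1, 0, 1, 0, 2, 1, 3, 2, 3, 1, 0, 1, 2, 0, 1, 1, 0, 2, 1, 3, 2, 3, 2, 4, 3, 2, 1, 0]), (779, 1120, [3, 4, 1, 0, 1, 0, 2, 1, 3, 2, 3, 1,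 0, 1, 2, 0, 1, 3, 1, 2, 3, 2, 4, 3, 2, 1, 0, 1, 2, 3, 2]), (779, 312, [3, 2, 4, 1, 0, 1, 0, 2, 1, 3, 2, 3, 1, 0, 1, 2, 0, 1, 3, 1, 2, 3, 2, 4, 3, 2, 1, 0, 1, 2, 3, 2]), (1013, 1450, [3, 4, 1, 0, 1, 0, 2, 1, 3, 2, 3, 1, 0, 1, 2, 0, 1, 3, 1, 2, 3, 2, 4, 3, 2, 1, 0, 1, 2, 3]), (1013, 197, [3, 2, 4, 1, 0, 1, 0, 2, 1, 3, 2, 3, 1, 0, 1, 2, 0, 1, 3, 1, 2, 3, 2, 4, 3, 2, 1, 0, 1, 2, 3]), (315, 317, [1, 0, 1, 2, 1, 0]), (1344, 414, [3, 1, 0, 2, 1, 3, 2, 4, 3, 2, 1, 0]), (1344, 1452, [3, 2, 1, 0, 2, 1, 3, 2, 4, 3, 2, 1, 0]), (179, 318, [1, 0, 1, 0, 2, 1, 3, 2, 3, 1, 0, 1, 2, 0, 1, 1, 0, 2, 1, 3, 2, 3, 2]), (1012, 1625, [3, 4, 1, 0, 1, 0, 2, 1, 3, 2, 3, 1, 0, 1, 2, 0, 1,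 3, 1, 2, 3, 2, 4, 3, 2, 1, 0, 1, 0, 2]), (1012, 410, [3, 2, 4, 1, 0, 1, 0, 2, 1, 3, 2, 3, 1, 0, 1, 2, 0, 1, 3, 1, 2, 3, 2, 4, 3, 2, 1, 0, 1, 0, 2]), (1256, 1330, [3, 4, 1, 0, 1, 2, 3, 2, 1, 4, 3, 2, 3, 2, 1]), (1256, 1290, [3, 2, 4, 1, 0, 1, 2, 3, 2, 1, 4, 3, 2, 3, 2, 1]), (470, 415, [1, 0, 1, 2, 1]), (994, 313, [3, 1, 0, 2, 1, 3, 2, 4, 3, 2, 1]), (994, 1102, [3, 2, 1, 0, 2, 1, 3, 2, 4, 3, 2, 1]), (276, 416, [3, 1, 0, 1, 2, 1, 3, 2, 1]), (702, 1697, [3, 4, 1, 0, 1, 0, 2, 1, 3, 2, 3, 1, 0, 1, 2, 0, 1, 3, 1, 2, 3, 2, 4, 3, 2, 1, 0, 1, 2]), (702, 308, [3, 2, 4, 1, 0, 1, 0, 2, 1, 3, 2, 3, 1, 0, 1, 2, 0, 1, 3, 1, 2, 3, 2, 4, 3, 2, 1, 0, 1, 2]), (1257, 1621, [3, 4, 1,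 0, 1, 2, 3, 2, 1, 4, 3, 2, 3, 2, 1, 0]), (1257, 1459, [3, 2, 4, 1, 0, 1, 2, 3, 2, 1, 4, 3, 2, 3, 2, 1, 0]), (471, 614, [1, 0, 2, 1]), (782, 469, [3, 1, 0, 2, 1, 3, 2, 1, 4, 3, 2, 1])]

def lowTree4_5 : List (ℕ × ℕ × List ℕ) := [(782, 780, [3, 2, 1, 0, 2, 1, 3, 2, 1, 4, 3, 2, 1]), (267, 279, [3, 1, 0, 1, 2, 3, 2, 1]), (481, 1777, [3, 4, 1, 0, 1, 0, 2, 1, 3, 2, 3, 1, 0, 1, 2, 0, 1, 3, 1, 2, 3, 2, 4, 3, 2, 1, 0, 1]), (481, 465, [3, 2, 4, 1, 0, 1, 0, 2, 1, 3, 2, 3, 1, 0, 1, 2, 0, 1, 3, 1, 2, 3, 2, 4, 3, 2, 1, 0, 1]), (896, 1461, [3, 4, 1, 0, 1, 0, 2, 1, 3, 2, 3, 1, 0, 1, 2, 0, 1, 3, 1, 2, 3, 2, 1, 0, 4, 3, 2, 1, 3, 2, 3, 4]), (896, 1758, [3, 2, 4, 1, 0, 1, 0, 2, 1,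 3, 2, 3, 1, 0, 1, 2, 0, 1, 3, 1, 2, 3, 2, 1, 0, 4, 3, 2, 1, 3, 2, 3, 4]), (438, 472, [1, 0, 2, 1, 0]), (1121, 613, [3, 1, 0, 2, 1, 3, 2, 1, 4, 3, 2, 1, 0]), (1121, 1122, [3, 2, 1, 0, 2, 1, 3, 2, 1, 4, 3, 2, 1, 0]), (277, 202, [1, 0, 1, 0, 2, 1, 3, 2, 3, 1, 0, 1, 2, 0, 1, 1, 0, 2, 1, 3, 2, 3]), (701, 1760, [3, 4, 1, 0, 1, 0, 2, 1, 3, 2, 3, 1, 0, 1, 2, 0, 1, 3, 1, 2, 3, 2, 4, 3, 2, 1, 0, 1, 0]), (701, 611, [3, 2, 4, 1, 0, 1, 0, 2, 1, 3, 2, 3, 1, 0, 1, 2, 0, 1, 3, 1, 2, 3, 2, 4, 3, 2, 1, 0, 1, 0]), (1255, 1627, [3, 4, 1, 0, 1, 2, 3, 2, 1, 4, 3, 2, 1, 3, 2, 1]), (1255, 1115, [3, 2, 4, 1, 0, 1, 2, 3, 2, 1, 4, 3, 2, 1, 3, 2, 1])]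

def lowTree4 : List (ℕ × ℕ × List ℕ) := lowTree4_0 ++ lowTree4_1 ++ lowTree4_2 ++ lowTree4_3 ++ lowTree4_4 ++ lowTree4_5

def lowCert : BlockCert := ⟨688, lowPts, lowMoves, [(472, [1], lowTree0), (901, [1, 0, 1], lowTree1), (471, [1, 0, 2, 1], lowTree2), (82, [1, 2, 3, 2, 1], lowTree3), (690, [1, 0, 1, 0, 2, 1], lowTree4)]⟩

def highPts_0 : List ℕ := [47, 72, 76, 79, 99, 112, 115, 121, 125, 146, 149, 152, 172, 176, 184, 192, 205, 223, 226, 228, 231, 237, 263, 271, 282, 286, 298, 301, 304, 321, 346, 347, 350, 352, 355, 362, 392, 400, 404, 407, 419, 428, 430, 443, 447, 450, 453, 456, 478, 512, 513, 516, 518, 522, 532, 535, 576, 578, 586, 590, 593, 598, 600, 603,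 618, 632, 634, 638, 653, 654, 658, 661, 669, 696, 697, 749, 750, 761, 764, 847, 849, 853, 868, 870, 880, 884, 905, 926, 930, 953, 954, 961, 1002, 1003, 1084, 1214, 1231, 1237, 1265, 1282]

def highPts : List ℕ := highPts_0

def highMoves_0 : List (ℕ × ℕ × List ℕ) := [(76, 76, []), (99, 76, [1]), (228, 76, [3, 2, 1, 0]), (72, 76, [0, 1, 2, 3]), (347, 76, [0, 1, 3, 2, 3, 0, 1, 0]), (298, 76, [4, 3, 2, 1, 0, 1, 2, 3, 4]), (149, 76, [0, 1, 0, 1, 3, 2, 1, 0, 1, 0]), (450, 76, [1, 4, 3, 2, 1, 0, 1, 2, 3, 4]), (112, 76, [1, 0, 1, 0, 1, 3, 2, 1, 0, 1, 0]), (146, 76, [3, 2, 1, 0, 1]), (632, 76, [3, 2, 1, 0, 4, 3, 2, 1, 0, 1, 2, 3, 4]), (223, 76, [0, 1, 3, 2, 3, 0, 1, 0,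 1]), (847, 76, [0, 1, 3, 2, 3, 0, 1, 0, 4, 3, 2, 1, 0, 1, 2, 3, 4]), (205, 76, [4, 3, 2, 1, 0, 1, 2, 3, 4, 2]), (301, 76, [4, 3, 2, 1, 0, 1, 2, 3, 4, 3, 2, 1, 0]), (654, 76, [4, 3, 2, 1, 0, 1, 2, 3, 4, 0, 1, 3, 2, 3, 0, 1, 0]), (447, 76, [4, 3, 2, 1, 0, 1, 2, 3, 4, 0, 1, 0, 1, 3, 2, 1, 0, 1, 0]), (661, 76, [0, 1, 0, 1, 3, 2, 1, 0, 1, 0, 4, 3, 2, 1, 0, 1, 2, 3, 4]), (428, 76, [1, 4, 3, 2, 1, 0, 1, 2, 3, 4, 3, 2, 1, 0]), (282, 76, [1, 4, 3, 2, 1, 0, 1, 2, 3, 4, 0, 1, 2, 3]), (430, 76, [1, 4, 3, 2, 1, 0, 1, 2, 3, 4, 0, 1, 3, 2, 3, 0, 1, 0]), (926, 76, [3, 2, 1, 0, 1, 4, 3, 2, 1, 0, 1, 2, 3, 4]), (453, 76, [3, 2, 1, 0, 4, 3, 2, 1, 0, 1, 2, 3, 4, 2]), (1231, 76, [3,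 2, 1, 0, 4, 3, 2, 1, 0, 1, 2, 3, 4, 0, 1, 2, 3]), (697, 76, [0, 1, 3, 2, 3, 0, 1, 0, 1, 4, 3, 2, 1, 0, 1, 2, 3, 4]), (669, 76, [0, 1, 3, 2, 3, 0, 1, 0, 4, 3, 2, 1, 0, 1, 2, 3, 4, 3, 2, 1, 0]), (764, 76, [0, 1, 3, 2, 3, 0, 1, 0, 4, 3, 2, 1, 0, 1, 2, 3, 4, 0, 1, 3, 2, 3, 0, 1, 0]), (593, 76, [4, 3, 2, 1, 0, 1, 2, 3, 4, 2, 3, 2, 1, 0]), (578, 76, [4, 3, 2, 1, 0, 1, 2, 3, 4, 2, 0, 1, 3, 2, 3, 0, 1, 0]), (456, 76, [4, 3, 2, 1, 0, 1, 2, 3, 4, 3, 2, 1, 0, 1]), (184, 76, [4, 3, 2, 1, 0, 1, 2, 3, 4, 3, 2, 1, 0, 3, 2, 1, 0]), (321, 76, [4, 3, 2, 1, 0, 1, 2, 3, 4, 3, 2, 1, 0, 4, 3, 2, 1, 0, 1, 2, 3, 4]), (535, 76, [4, 3, 2, 1, 0, 1, 2, 3, 4, 3, 2, 1, 0, 0, 1, 0, 1, 3, 2,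 1, 0, 1, 0]), (443, 76, [4, 3, 2, 1, 0, 1, 2, 3, 4, 0, 1, 3, 2, 3, 0, 1, 0, 1]), (634, 76, [4, 3, 2, 1, 0, 1, 2, 3, 4, 0, 1, 0, 1, 3, 2, 1, 0, 1, 0, 2]), (905, 76, [0, 1, 0, 1, 3, 2, 1, 0, 1, 0, 4, 3, 2, 1, 0, 1, 2, 3, 4, 0, 1, 3, 2, 3, 0, 1, 0]), (350, 76, [1, 4, 3, 2, 1, 0, 1, 2, 3, 4, 3, 2, 1, 0, 3, 2, 1, 0]), (961, 76, [1, 4, 3, 2, 1, 0, 1, 2, 3, 4, 3, 2, 1, 0, 4, 3, 2, 1, 0, 1, 2, 3, 4]), (400, 76, [1, 4, 3, 2, 1, 0, 1, 2, 3, 4, 0, 1, 2, 3, 2]), (286, 76, [1, 4, 3, 2, 1, 0, 1, 2, 3, 4, 0, 1, 3, 2, 3, 0, 1, 0, 1]), (868, 76, [1, 4, 3, 2, 1, 0, 1, 2, 3, 4, 0, 1, 3, 2, 3, 0, 1, 0, 4, 3, 2, 1, 0, 1, 2, 3, 4]), (658, 76, [3, 2, 1, 0, 1, 4, 3, 2, 1, 0, 1, 2, 3,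 4, 2]), (1265, 76, [3, 2, 1, 0, 4, 3, 2, 1, 0, 1, 2, 3, 4, 2, 0, 1, 3, 2, 3, 0, 1, 0]), (478, 76, [3, 2, 1, 0, 4, 3, 2, 1, 0, 1, 2, 3, 4, 2, 0, 1, 0, 1, 3, 2, 1, 0, 1, 0]), (1214, 76, [3, 2, 1, 0, 4, 3, 2, 1, 0, 1, 2, 3, 4, 0, 1, 2, 3, 0, 1, 2, 3]), (522, 76, [0, 1, 3, 2, 3, 0, 1, 0, 4, 3, 2, 1, 0, 1, 2, 3, 4, 0, 1, 3, 2, 3, 0, 1, 0, 1]), (392, 76, [4, 3, 2, 1, 0, 1, 2, 3, 4, 2, 0, 1, 3, 2, 3, 0, 1, 0, 1]), (226, 76, [4, 3, 2, 1, 0, 1, 2, 3, 4, 3, 2, 1, 0, 1, 0, 1, 3, 2, 3, 0, 1, 0]), (362, 76, [4, 3, 2, 1, 0, 1, 2, 3, 4, 3, 2, 1, 0, 1, 0, 1, 0, 1, 3, 2, 1, 0, 1, 0]), (237, 76, [4, 3, 2, 1, 0, 1, 2, 3, 4, 3, 2, 1, 0, 3, 2, 1, 0, 1]), (346, 76, [4, 3, 2, 1, 0, 1,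 2, 3, 4, 3, 2, 1, 0, 3, 2, 1, 0, 0, 1, 0, 1, 3, 2, 1, 0, 1, 0]), (598, 76, [4, 3, 2, 1, 0, 1, 2, 3, 4, 3, 2, 1, 0, 4, 3, 2, 1, 0, 1, 2, 3, 4, 3, 2, 1, 0]), (516, 76, [4, 3, 2, 1, 0, 1, 2, 3, 4, 3, 2, 1, 0, 4, 3, 2, 1, 0, 1, 2, 3, 4, 0, 1, 3, 2, 3, 0, 1, 0]), (603, 76, [4, 3, 2, 1, 0, 1, 2, 3, 4, 3, 2, 1, 0, 4, 3, 2, 1, 0, 1, 2, 3, 4, 0, 1, 0, 1, 3, 2, 1, 0, 1, 0]), (404, 76, [4, 3, 2, 1, 0, 1, 2, 3, 4, 3, 2, 1, 0, 0, 1, 0, 1, 3, 2, 1, 0, 1, 0, 4, 3, 2, 1, 0, 1, 2, 3, 4]), (518, 76, [4, 3, 2, 1, 0, 1, 2, 3, 4, 0, 1, 0, 1, 3, 2, 1, 0, 1, 0, 2, 0, 1, 0, 1, 3, 2, 1, 0, 1, 0]), (355, 76, [1, 4, 3, 2, 1, 0, 1, 2, 3, 4, 3, 2, 1, 0, 3, 2, 1, 0, 4, 3, 2, 1, 0, 1, 2, 3,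 4]), (263, 76, [1, 4, 3, 2, 1, 0, 1, 2, 3, 4, 3, 2, 1, 0, 4, 3, 2, 1, 0, 1, 2, 3, 4, 0, 1, 0, 1, 3, 2, 1, 0, 1, 0]), (352, 76, [1, 4, 3, 2, 1, 0, 1, 2, 3, 4, 0, 1, 2, 3, 2, 0, 1, 3, 2, 3, 0, 1, 0]), (853, 76, [1, 4, 3, 2, 1, 0, 1, 2, 3, 4, 0, 1, 3, 2, 3, 0, 1, 0, 4, 3, 2, 1, 0, 1, 2, 3, 4, 2])]

def highMoves_1 : List (ℕ × ℕ × List ℕ) := [(231, 76, [1, 4, 3, 2, 1, 0, 1, 2, 3, 4, 0, 1, 3, 2, 3, 0, 1, 0, 4, 3, 2, 1, 0, 1, 2, 3, 4, 0, 1, 2, 3]), (513, 76, [3, 2, 1, 0, 1, 4, 3, 2, 1, 0, 1, 2, 3, 4, 2, 0, 1, 3, 2, 3, 0, 1, 0]), (172, 76, [3, 2, 1, 0, 4, 3, 2, 1, 0, 1, 2, 3, 4, 0, 1, 2, 3, 0, 1, 2, 3, 0, 1, 3, 2, 3, 0, 1, 0]), (79, 79, []), (304, 79, [3, 2, 1, 0]), (176,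 79, [0, 1, 2, 3]), (532, 79, [0, 1, 3, 2, 3, 0, 1, 0]), (115, 79, [4, 3, 2, 1, 0, 1, 2, 3, 4]), (125, 79, [0, 1, 0, 1, 3, 2, 1, 0, 1, 0]), (192, 79, [3, 2, 1, 0, 1]), (653, 79, [3, 2, 1, 0, 3, 2, 1, 0]), (618, 79, [3, 2, 1, 0, 4, 3, 2, 1, 0, 1, 2, 3, 4]), (271, 79, [0, 1, 2, 3, 2]), (761, 79, [0, 1, 2, 3, 0, 1, 2, 3]), (586, 79, [0, 1, 3, 2, 3, 0, 1, 0, 1]), (576, 79, [0, 1, 3, 2, 3, 0, 1, 0, 2]), (407, 79, [0, 1, 3, 2, 3, 0, 1, 0, 4, 3, 2, 1, 0, 1, 2, 3, 4]), (152, 79, [4, 3, 2, 1, 0, 1, 2, 3, 4, 2]), (512, 79, [4, 3, 2, 1, 0, 1, 2, 3, 4, 0, 1, 2, 3]), (121, 79, [0, 1, 0, 1, 3, 2, 1, 0, 1, 0, 3, 2, 1, 0]), (930, 79, [3, 2, 1, 0, 1, 3, 2, 1, 0]), (880, 79, [3,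 2, 1, 0, 1, 0, 1, 3, 2, 3, 0, 1, 0]), (419, 79, [3, 2, 1, 0, 1, 4, 3, 2, 1, 0, 1, 2, 3, 4]), (954, 79, [3, 2, 1, 0, 1, 0, 1, 0, 1, 3, 2, 1, 0, 1, 0]), (696, 79, [3, 2, 1, 0, 3, 2, 1, 0, 3, 2, 1, 0]), (884, 79, [3, 2, 1, 0, 3, 2, 1, 0, 4, 3, 2, 1, 0, 1, 2, 3, 4]), (849, 79, [3, 2, 1, 0, 4, 3, 2, 1, 0, 1, 2, 3, 4, 2]), (600, 79, [3, 2, 1, 0, 4, 3, 2, 1, 0, 1, 2, 3, 4, 3, 2, 1, 0]), (1002, 79, [3, 2, 1, 0, 4, 3, 2, 1, 0, 1, 2, 3, 4, 0, 1, 2, 3]), (953, 79, [0, 1, 2, 3, 2, 0, 1, 2, 3]), (749, 79, [0, 1, 2, 3, 0, 1, 2, 3, 0, 1, 2, 3]), (870, 79, [0, 1, 3, 2, 3, 0, 1, 0, 1, 0, 1, 2, 3]), (590, 79, [0, 1, 3, 2, 3, 0, 1, 0, 4, 3, 2, 1, 0, 1, 2, 3, 4, 0, 1, 3, 2, 3, 0,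 1, 0]), (750, 79, [4, 3, 2, 1, 0, 1, 2, 3, 4, 2, 0, 1, 2, 3]), (638, 79, [0, 1, 0, 1, 3, 2, 1, 0, 1, 0, 3, 2, 1, 0, 3, 2, 1, 0]), (1237, 79, [3, 2, 1, 0, 1, 4, 3, 2, 1, 0, 1, 2, 3, 4, 0, 1, 3, 2, 3, 0, 1, 0]), (1003, 79, [3, 2, 1, 0, 1, 0, 1, 0, 1, 3, 2, 1, 0, 1, 0, 3, 2, 1, 0]), (1282, 79, [3, 2, 1, 0, 1, 0, 1, 0, 1, 3, 2, 1, 0, 1, 0, 0, 1, 3, 2, 3, 0, 1, 0]), (1084, 79, [3, 2, 1, 0, 4, 3, 2, 1, 0, 1, 2, 3, 4, 2, 0, 1, 3, 2, 3, 0, 1, 0])]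

def highMoves : List (ℕ × ℕ × List ℕ) := highMoves_0 ++ highMoves_1

def highTree0_0 : List (ℕ × ℕ × List ℕ) := [(47, 76, []), (47, 99, [1]), (47, 228, [3, 2, 1, 0]), (47, 72, [0, 1, 2, 3]), (47, 146, [3, 2, 1, 0, 1]), (47, 347, [0, 1, 3, 2, 3, 0, 1, 0]), (47, 298, [4, 3, 2, 1, 0, 1, 2, 3, 4]), (47, 223, [0, 1, 3, 2, 3, 0, 1, 0, 1]), (47, 149, [0, 1, 0, 1, 3, 2, 1, 0, 1, 0]), (47, 450, [1, 4, 3, 2, 1, 0, 1, 2, 3, 4]), (47, 205, [4, 3, 2, 1, 0, 1, 2, 3, 4, 2]), (47, 112, [1, 0, 1, 0, 1, 3, 2, 1, 0, 1, 0]), (47, 632, [3, 2, 1, 0, 4, 3, 2, 1, 0, 1, 2, 3, 4]), (47, 301, [4, 3, 2, 1, 0, 1, 2, 3, 4, 3, 2, 1, 0]), (47, 428, [1, 4, 3, 2, 1, 0, 1, 2, 3, 4, 3, 2, 1, 0]),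 (47, 282, [1, 4, 3, 2, 1, 0, 1, 2, 3, 4, 0, 1, 2, 3]), (47, 926, [3, 2, 1, 0, 1, 4, 3, 2, 1, 0, 1, 2, 3, 4]), (47, 453, [3, 2, 1, 0, 4, 3, 2, 1, 0, 1, 2, 3, 4, 2]), (47, 593, [4, 3, 2, 1, 0, 1, 2, 3, 4, 2, 3, 2, 1, 0]), (47, 456, [4, 3, 2, 1, 0, 1, 2, 3, 4, 3, 2, 1, 0, 1]), (47, 400, [1, 4, 3, 2, 1, 0, 1, 2, 3, 4, 0, 1, 2, 3, 2]), (47, 658, [3, 2, 1, 0, 1, 4, 3, 2, 1, 0, 1, 2, 3, 4, 2]), (47, 847, [0, 1, 3, 2, 3, 0, 1, 0, 4, 3, 2, 1, 0, 1, 2, 3, 4]), (47, 654, [4, 3, 2, 1, 0, 1, 2, 3, 4, 0, 1, 3, 2, 3, 0, 1, 0]), (47, 1231, [3, 2, 1, 0, 4, 3, 2, 1, 0, 1, 2, 3, 4, 0, 1, 2, 3]), (47, 184, [4, 3, 2, 1, 0, 1, 2, 3, 4, 3, 2, 1, 0, 3, 2, 1, 0]), (47, 430, [1, 4, 3, 2,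 1, 0, 1, 2, 3, 4, 0, 1, 3, 2, 3, 0, 1, 0]), (47, 697, [0, 1, 3, 2, 3, 0, 1, 0, 1, 4, 3, 2, 1, 0, 1, 2, 3, 4]), (47, 578, [4, 3, 2, 1, 0, 1, 2, 3, 4, 2, 0, 1, 3, 2, 3, 0, 1, 0]), (47, 443, [4, 3, 2, 1, 0, 1, 2, 3, 4, 0, 1, 3, 2, 3, 0, 1, 0, 1]), (47, 350, [1, 4, 3, 2, 1, 0, 1, 2, 3, 4, 3, 2, 1, 0, 3, 2, 1, 0]), (47, 237, [4, 3, 2, 1, 0, 1, 2, 3, 4, 3, 2, 1, 0, 3, 2, 1, 0, 1]), (47, 447, [4, 3, 2, 1, 0, 1, 2, 3, 4, 0, 1, 0, 1, 3, 2, 1, 0, 1, 0]), (47, 661, [0, 1, 0, 1, 3, 2, 1, 0, 1, 0, 4, 3, 2, 1, 0, 1, 2, 3, 4]), (47, 286, [1, 4, 3, 2, 1, 0, 1, 2, 3, 4, 0, 1, 3, 2, 3, 0, 1, 0, 1]), (47, 392, [4, 3, 2, 1, 0, 1, 2, 3, 4, 2, 0, 1, 3, 2, 3, 0, 1, 0, 1]), (47, 634,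 [4, 3, 2, 1, 0, 1, 2, 3, 4, 0, 1, 0, 1, 3, 2, 1, 0, 1, 0, 2]), (47, 669, [0, 1, 3, 2, 3, 0, 1, 0, 4, 3, 2, 1, 0, 1, 2, 3, 4, 3, 2, 1, 0]), (47, 1214, [3, 2, 1, 0, 4, 3, 2, 1, 0, 1, 2, 3, 4, 0, 1, 2, 3, 0, 1, 2, 3]), (47, 321, [4, 3, 2, 1, 0, 1, 2, 3, 4, 3, 2, 1, 0, 4, 3, 2, 1, 0, 1, 2, 3, 4]), (47, 1265, [3, 2, 1, 0, 4, 3, 2, 1, 0, 1, 2, 3, 4, 2, 0, 1, 3, 2, 3, 0, 1, 0]), (47, 226, [4, 3, 2, 1, 0, 1, 2, 3, 4, 3, 2, 1, 0, 1, 0, 1, 3, 2, 3, 0, 1, 0]), (47, 535, [4, 3, 2, 1, 0, 1, 2, 3, 4, 3, 2, 1, 0, 0, 1, 0, 1, 3, 2, 1, 0, 1, 0]), (47, 961, [1, 4, 3, 2, 1, 0, 1, 2, 3, 4, 3, 2, 1, 0, 4, 3, 2, 1, 0, 1, 2, 3, 4]), (47, 352, [1, 4, 3, 2, 1, 0, 1, 2, 3, 4, 0, 1, 2, 3,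 2, 0, 1, 3, 2, 3, 0, 1, 0]), (47, 513, [3, 2, 1, 0, 1, 4, 3, 2, 1, 0, 1, 2, 3, 4, 2, 0, 1, 3, 2, 3, 0, 1, 0]), (47, 478, [3, 2, 1, 0, 4, 3, 2, 1, 0, 1, 2, 3, 4, 2, 0, 1, 0, 1, 3, 2, 1, 0, 1, 0]), (47, 362, [4, 3, 2, 1, 0, 1, 2, 3, 4, 3, 2, 1, 0, 1, 0, 1, 0, 1, 3, 2, 1, 0, 1, 0]), (47, 764, [0, 1, 3, 2, 3, 0, 1, 0, 4, 3, 2, 1, 0, 1, 2, 3, 4, 0, 1, 3, 2, 3, 0, 1, 0]), (47, 522, [0, 1, 3, 2, 3, 0, 1, 0, 4, 3, 2, 1, 0, 1, 2, 3, 4, 0, 1, 3, 2, 3, 0, 1, 0, 1]), (47, 598, [4, 3, 2, 1, 0, 1, 2, 3, 4, 3, 2, 1, 0, 4, 3, 2, 1, 0, 1, 2, 3, 4, 3, 2, 1, 0]), (47, 905, [0, 1, 0, 1, 3, 2, 1, 0, 1, 0, 4, 3, 2, 1, 0, 1, 2, 3, 4, 0, 1, 3, 2, 3, 0, 1, 0]), (47, 868, [1, 4, 3, 2, 1,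 0, 1, 2, 3, 4, 0, 1, 3, 2, 3, 0, 1, 0, 4, 3, 2, 1, 0, 1, 2, 3, 4]), (47, 346, [4, 3, 2, 1, 0, 1, 2, 3, 4, 3, 2, 1, 0, 3, 2, 1, 0, 0, 1, 0, 1, 3, 2, 1, 0, 1, 0]), (47, 355, [1, 4, 3, 2, 1, 0, 1, 2, 3, 4, 3, 2, 1, 0, 3, 2, 1, 0, 4, 3, 2, 1, 0, 1, 2, 3, 4]), (47, 853, [1, 4, 3, 2, 1, 0, 1, 2, 3, 4, 0, 1, 3, 2, 3, 0, 1, 0, 4, 3, 2, 1, 0, 1, 2, 3, 4, 2]), (47, 172, [3, 2, 1, 0, 4, 3, 2, 1, 0, 1, 2, 3, 4, 0, 1, 2, 3, 0, 1, 2, 3, 0, 1, 3, 2, 3, 0, 1, 0]), (47, 516, [4, 3, 2, 1, 0, 1, 2, 3, 4, 3, 2, 1, 0, 4, 3, 2, 1, 0, 1, 2, 3, 4, 0, 1, 3, 2, 3, 0, 1, 0]), (47, 518, [4, 3, 2, 1, 0, 1, 2, 3, 4, 0, 1, 0, 1, 3, 2, 1, 0, 1, 0, 2, 0, 1, 0, 1, 3, 2, 1, 0, 1, 0]), (47, 231,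 [1, 4, 3, 2, 1, 0, 1, 2, 3, 4, 0, 1, 3, 2, 3, 0, 1, 0, 4, 3, 2, 1, 0, 1, 2, 3, 4, 0, 1, 2, 3])]

def highTree0_1 : List (ℕ × ℕ × List ℕ) := [(47, 603, [4, 3, 2, 1, 0, 1, 2, 3, 4, 3, 2, 1, 0, 4, 3, 2, 1, 0, 1, 2, 3, 4, 0, 1, 0, 1, 3, 2, 1, 0, 1, 0]), (47, 404, [4, 3, 2, 1, 0, 1, 2, 3, 4, 3, 2, 1, 0, 0, 1, 0, 1, 3, 2, 1, 0, 1, 0, 4, 3, 2, 1, 0, 1, 2, 3, 4]), (47, 263, [1, 4, 3, 2, 1, 0, 1, 2, 3, 4, 3, 2, 1, 0, 4, 3, 2, 1, 0, 1, 2, 3, 4, 0, 1, 0, 1, 3, 2, 1, 0, 1, 0]), (76, 419, [1, 4, 3, 2, 1, 0, 1, 2, 3, 4, 0, 1, 2, 3, 0]), (76, 1282, [3, 2, 1, 0, 1, 4, 3, 2, 1, 0, 1, 2, 3, 4, 0]), (76, 586, [1, 4, 3, 2, 1, 0, 1, 2, 3, 4, 0, 1, 2, 3, 2, 0]), (76, 953, [3, 2, 1,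 0, 1, 4, 3, 2, 1, 0, 1, 2, 3, 4, 2, 0]), (76, 600, [0, 1, 3, 2, 3, 0, 1, 0, 4, 3, 2, 1, 0, 1, 2, 3, 4, 0]), (76, 880, [4, 3, 2, 1, 0, 1, 2, 3, 4, 0, 1, 3, 2, 3, 0, 1, 0, 0]), (76, 125, [4, 3, 2, 1, 0, 1, 2, 3, 4, 3, 2, 1, 0, 3, 2, 1, 0, 0]), (76, 638, [1, 4, 3, 2, 1, 0, 1, 2, 3, 4, 0, 1, 3, 2, 3, 0, 1, 0, 0]), (76, 1003, [0, 1, 3, 2, 3, 0, 1, 0, 1, 4, 3, 2, 1, 0, 1, 2, 3, 4, 0]), (76, 653, [4, 3, 2, 1, 0, 1, 2, 3, 4, 0, 1, 0, 1, 3, 2, 1, 0, 1, 0, 0]), (76, 192, [1, 4, 3, 2, 1, 0, 1, 2, 3, 4, 0, 1, 3, 2, 3, 0, 1, 0, 1, 0]), (76, 271, [4, 3, 2, 1, 0, 1, 2, 3, 4, 2, 0, 1, 3, 2, 3, 0, 1, 0, 1, 0]), (76, 930, [4, 3, 2, 1, 0, 1, 2, 3, 4, 0, 1, 0, 1, 3, 2, 1, 0, 1, 0,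 2, 0]), (76, 849, [3, 2, 1, 0, 4, 3, 2, 1, 0, 1, 2, 3, 4, 0, 1, 2, 3, 0, 1, 2, 3, 0]), (76, 152, [4, 3, 2, 1, 0, 1, 2, 3, 4, 3, 2, 1, 0, 1, 0, 1, 3, 2, 3, 0, 1, 0, 0]), (76, 590, [4, 3, 2, 1, 0, 1, 2, 3, 4, 3, 2, 1, 0, 0, 1, 0, 1, 3, 2, 1, 0, 1, 0, 0]), (76, 696, [3, 2, 1, 0, 4, 3, 2, 1, 0, 1, 2, 3, 4, 2, 0, 1, 0, 1, 3, 2, 1, 0, 1, 0, 0]), (76, 749, [0, 1, 3, 2, 3, 0, 1, 0, 4, 3, 2, 1, 0, 1, 2, 3, 4, 0, 1, 3, 2, 3, 0, 1, 0, 1, 0]), (76, 532, [4, 3, 2, 1, 0, 1, 2, 3, 4, 3, 2, 1, 0, 4, 3, 2, 1, 0, 1, 2, 3, 4, 3, 2, 1, 0, 0]), (76, 618, [0, 1, 0, 1, 3, 2, 1, 0, 1, 0, 4, 3, 2, 1, 0, 1, 2, 3, 4, 0, 1, 3, 2, 3, 0, 1, 0, 0]), (76, 512, [1, 4, 3, 2, 1, 0, 1, 2, 3, 4, 3,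 2, 1, 0, 3, 2, 1, 0, 4, 3, 2, 1, 0, 1, 2, 3, 4, 0]), (76, 115, [3, 2, 1, 0, 4, 3, 2, 1, 0, 1, 2, 3, 4, 0, 1, 2, 3, 0, 1, 2, 3, 0, 1, 3, 2, 3, 0, 1, 0, 0]), (76, 576, [4, 3, 2, 1, 0, 1, 2, 3, 4, 3, 2, 1, 0, 0, 1, 0, 1, 3, 2, 1, 0, 1, 0, 4, 3, 2, 1, 0, 1, 2, 3, 4, 0]), (76, 176, [1, 4, 3, 2, 1, 0, 1, 2, 3, 4, 3, 2, 1, 0, 4, 3, 2, 1, 0, 1, 2, 3, 4, 0, 1, 0, 1, 3, 2, 1, 0, 1, 0, 0]), (99, 761, [3, 2, 1, 0, 1, 4, 3, 2, 1, 0, 1, 2, 3, 4, 2, 0, 1]), (99, 884, [0, 1, 3, 2, 3, 0, 1, 0, 4, 3, 2, 1, 0, 1, 2, 3, 4, 0, 1]), (99, 954, [4, 3, 2, 1, 0, 1, 2, 3, 4, 0, 1, 0, 1, 3, 2, 1, 0, 1, 0, 0, 1]), (99, 304, [1, 4, 3, 2, 1, 0, 1, 2, 3, 4, 0, 1, 3, 2, 3, 0, 1, 0, 1, 0, 1]),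 (99, 407, [4, 3, 2, 1, 0, 1, 2, 3, 4, 2, 0, 1, 3, 2, 3, 0, 1, 0, 1, 0, 1]), (99, 121, [4, 3, 2, 1, 0, 1, 2, 3, 4, 3, 2, 1, 0, 1, 0, 1, 3, 2, 3, 0, 1, 0, 0, 1]), (99, 870, [4, 3, 2, 1, 0, 1, 2, 3, 4, 3, 2, 1, 0, 0, 1, 0, 1, 3, 2, 1, 0, 1, 0, 0, 1]), (99, 1002, [3, 2, 1, 0, 4, 3, 2, 1, 0, 1, 2, 3, 4, 2, 0, 1, 0, 1, 3, 2, 1, 0, 1, 0, 0, 1]), (99, 750, [1, 4, 3, 2, 1, 0, 1, 2, 3, 4, 3, 2, 1, 0, 3, 2, 1, 0, 4, 3, 2, 1, 0, 1, 2, 3, 4, 0, 1]), (228, 1084, [3, 2, 1, 0, 1, 4, 3, 2, 1, 0, 1, 2, 3, 4, 2, 0, 1, 0, 1]), (228, 1237, [4, 3, 2, 1, 0, 1, 2, 3, 4, 0, 1, 0, 1, 3, 2, 1, 0, 1, 0, 0, 1, 0, 1]), (228, 79, [4, 3, 2, 1, 0, 1, 2, 3, 4, 3, 2, 1, 0, 1, 0, 1, 3, 2, 3, 0, 1,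 0, 0, 1, 0, 1])]

def highTree0 : List (ℕ × ℕ × List ℕ) := highTree0_0 ++ highTree0_1

def highTree1_0 : List (ℕ × ℕ × List ℕ) := [(47, 79, []), (47, 304, [3, 2, 1, 0]), (47, 176, [0, 1, 2, 3]), (47, 192, [3, 2, 1, 0, 1]), (47, 271, [0, 1, 2, 3, 2]), (47, 532, [0, 1, 3, 2, 3, 0, 1, 0]), (47, 653, [3, 2, 1, 0, 3, 2, 1, 0]), (47, 761, [0, 1, 2, 3, 0, 1, 2, 3]), (47, 115, [4, 3, 2, 1, 0, 1, 2, 3, 4]), (47, 586, [0, 1, 3, 2, 3, 0, 1, 0, 1]), (47, 576, [0, 1, 3, 2, 3, 0, 1, 0, 2]), (47, 930, [3, 2, 1, 0, 1, 3, 2, 1, 0]), (47, 953, [0, 1, 2, 3, 2, 0, 1, 2, 3]), (47, 125, [0, 1, 0, 1, 3, 2, 1, 0, 1, 0]), (47, 152, [4, 3, 2, 1, 0, 1, 2, 3, 4, 2]), (47, 696, [3, 2, 1, 0,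 3, 2, 1, 0, 3, 2, 1, 0]), (47, 749, [0, 1, 2, 3, 0, 1, 2, 3, 0, 1, 2, 3]), (47, 618, [3, 2, 1, 0, 4, 3, 2, 1, 0, 1, 2, 3, 4]), (47, 512, [4, 3, 2, 1, 0, 1, 2, 3, 4, 0, 1, 2, 3]), (47, 880, [3, 2, 1, 0, 1, 0, 1, 3, 2, 3, 0, 1, 0]), (47, 870, [0, 1, 3, 2, 3, 0, 1, 0, 1, 0, 1, 2, 3]), (47, 121, [0, 1, 0, 1, 3, 2, 1, 0, 1, 0, 3, 2, 1, 0]), (47, 419, [3, 2, 1, 0, 1, 4, 3, 2, 1, 0, 1, 2, 3, 4]), (47, 849, [3, 2, 1, 0, 4, 3, 2, 1, 0, 1, 2, 3, 4, 2]), (47, 750, [4, 3, 2, 1, 0, 1, 2, 3, 4, 2, 0, 1, 2, 3]), (47, 954, [3, 2, 1, 0, 1, 0, 1, 0, 1, 3, 2, 1, 0, 1, 0]), (47, 407, [0, 1, 3, 2, 3, 0, 1, 0, 4, 3, 2, 1, 0, 1, 2, 3, 4]), (47, 884, [3, 2, 1, 0, 3, 2, 1, 0, 4, 3, 2,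 1, 0, 1, 2, 3, 4]), (47, 600, [3, 2, 1, 0, 4, 3, 2, 1, 0, 1, 2, 3, 4, 3, 2, 1, 0]), (47, 1002, [3, 2, 1, 0, 4, 3, 2, 1, 0, 1, 2, 3, 4, 0, 1, 2, 3]), (47, 638, [0, 1, 0, 1, 3, 2, 1, 0, 1, 0, 3, 2, 1, 0, 3, 2, 1, 0]), (47, 1003, [3, 2, 1, 0, 1, 0, 1, 0, 1, 3, 2, 1, 0, 1, 0, 3, 2, 1, 0]), (47, 1237, [3, 2, 1, 0, 1, 4, 3, 2, 1, 0, 1, 2, 3, 4, 0, 1, 3, 2, 3, 0, 1, 0]), (47, 1084, [3, 2, 1, 0, 4, 3, 2, 1, 0, 1, 2, 3, 4, 2, 0, 1, 3, 2, 3, 0, 1, 0]), (47, 1282, [3, 2, 1, 0, 1, 0, 1, 0, 1, 3, 2, 1, 0, 1, 0, 0, 1, 3, 2, 3, 0, 1, 0]), (47, 590, [0, 1, 3, 2, 3, 0, 1, 0, 4, 3, 2, 1, 0, 1, 2, 3, 4, 0, 1, 3, 2, 3, 0, 1, 0]), (79, 654, [0, 1, 3, 2, 3, 0, 1, 0, 4]), (79, 72, [4,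 3, 2, 1, 0, 1, 2, 3, 4, 4]), (79, 443, [0, 1, 3, 2, 3, 0, 1, 0, 1, 4]), (79, 847, [0, 1, 3, 2, 3, 0, 1, 0, 2, 4]), (79, 99, [4, 3, 2, 1, 0, 1, 2, 3, 4, 2, 4]), (79, 905, [3, 2, 1, 0, 3, 2, 1, 0, 3, 2, 1, 0, 4]), (79, 516, [0, 1, 2, 3, 0, 1, 2, 3, 0, 1, 2, 3, 4]), (79, 478, [3, 2, 1, 0, 4, 3, 2, 1, 0, 1, 2, 3, 4, 4]), (79, 350, [4, 3, 2, 1, 0, 1, 2, 3, 4, 0, 1, 2, 3, 4]), (79, 598, [3, 2, 1, 0, 1, 0, 1, 3, 2, 3, 0, 1, 0, 4]), (79, 1231, [0, 1, 3, 2, 3, 0, 1, 0, 1, 0, 1, 2, 3, 4]), (79, 76, [0, 1, 0, 1, 3, 2, 1, 0, 1, 0, 3, 2, 1, 0, 4]), (79, 321, [3, 2, 1, 0, 1, 4, 3, 2, 1, 0, 1, 2, 3, 4, 4]), (79, 697, [3, 2, 1, 0, 4, 3, 2, 1, 0, 1, 2, 3, 4, 2, 4]), (79, 518, [4,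 3, 2, 1, 0, 1, 2, 3, 4, 2, 0, 1, 2, 3, 4]), (79, 603, [3, 2, 1, 0, 3, 2, 1, 0, 4, 3, 2, 1, 0, 1, 2, 3, 4, 4]), (79, 404, [3, 2, 1, 0, 4, 3, 2, 1, 0, 1, 2, 3, 4, 3, 2, 1, 0, 4]), (79, 1265, [3, 2, 1, 0, 4, 3, 2, 1, 0, 1, 2, 3, 4, 0, 1, 2, 3, 4]), (79, 853, [0, 1, 0, 1, 3, 2, 1, 0, 1, 0, 3, 2, 1, 0, 3, 2, 1, 0, 4]), (79, 1214, [3, 2, 1, 0, 1, 0, 1, 0, 1, 3, 2, 1, 0, 1, 0, 3, 2, 1, 0, 4]), (79, 868, [0, 1, 3, 2, 3, 0, 1, 0, 4, 3, 2, 1, 0, 1, 2, 3, 4, 0, 1, 3, 2, 3, 0, 1, 0, 4]), (304, 634, [0, 1, 2, 3, 2, 4, 3, 2, 1]), (304, 392, [3, 2, 1, 0, 3, 2, 1, 0, 4, 3, 2, 1]), (304, 669, [0, 1, 3, 2, 3, 0, 1, 0, 2, 4, 3, 2, 1])]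

def highTree1_1 : List (ℕ × ℕ × List ℕ) := [(304, 347, [4, 3, 2, 1, 0, 1, 2, 3, 4, 2, 4, 3, 2, 1]), (304, 231, [4, 3, 2, 1, 0, 1, 2, 3, 4, 0, 1, 2, 3, 4, 3, 2, 1]), (304, 453, [0, 1, 3, 2, 3, 0, 1, 0, 1, 0, 1, 2, 3, 4, 3, 2, 1]), (304, 228, [0, 1, 0, 1, 3, 2, 1, 0, 1, 0, 3, 2, 1, 0, 4, 3, 2, 1]), (304, 961, [3, 2, 1, 0, 4, 3, 2, 1, 0, 1, 2, 3, 4, 2, 4, 3, 2, 1]), (304, 346, [4, 3, 2, 1, 0, 1, 2, 3, 4, 2, 0, 1, 2, 3, 4, 3, 2, 1]), (304, 263, [3, 2, 1, 0, 1, 0, 1, 0, 1, 3, 2, 1, 0, 1, 0, 4, 3, 2, 1]), (304, 447, [0, 1, 3, 2, 3, 0, 1, 0, 4, 3, 2, 1, 0, 1, 2, 3, 4, 4, 3, 2, 1]), (304, 632, [0, 1, 3, 2, 3, 0, 1, 0, 4, 3, 2, 1, 0, 1, 2, 3, 4, 0, 1, 3, 2, 3, 0, 1, 0,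 4, 3, 2, 1]), (176, 535, [3, 2, 1, 0, 3, 2, 1, 0, 3, 4, 3]), (176, 428, [0, 1, 3, 2, 3, 0, 1, 0, 2, 3, 4, 3]), (176, 146, [4, 3, 2, 1, 0, 1, 2, 3, 4, 0, 1, 2, 3, 3, 4, 3]), (176, 661, [0, 1, 3, 2, 3, 0, 1, 0, 1, 0, 1, 2, 3, 3, 4, 3]), (176, 172, [0, 1, 0, 1, 3, 2, 1, 0, 1, 0, 3, 2, 1, 0, 3, 4, 3]), (176, 362, [3, 2, 1, 0, 1, 0, 1, 0, 1, 3, 2, 1, 0, 1, 0, 3, 4, 3]), (192, 578, [3, 2, 1, 0, 3, 2, 1, 0, 4, 3, 2]), (192, 223, [4, 3, 2, 1, 0, 1, 2, 3, 4, 2, 4, 3, 2]), (192, 658, [3, 2, 1, 0, 4, 3, 2, 1, 0, 1, 2, 3, 4, 2, 4, 3, 2]), (192, 513, [4, 3, 2, 1, 0, 1, 2, 3, 4, 2, 0, 1, 2, 3, 4, 3, 2]), (192, 355, [3, 2, 1, 0, 1, 0, 1, 0, 1, 3, 2, 1, 0, 1, 0, 4, 3, 2]), (192,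 926, [0, 1, 3, 2, 3, 0, 1, 0, 4, 3, 2, 1, 0, 1, 2, 3, 4, 0, 1, 3, 2, 3, 0, 1, 0, 4, 3, 2]), (271, 430, [3, 2, 1, 0, 3, 2, 1, 0, 3, 4, 3, 2]), (271, 301, [0, 1, 3, 2, 3, 0, 1, 0, 2, 3, 4, 3, 2]), (271, 112, [4, 3, 2, 1, 0, 1, 2, 3, 4, 0, 1, 2, 3, 3, 4, 3, 2]), (271, 456, [0, 1, 3, 2, 3, 0, 1, 0, 1, 0, 1, 2, 3, 3, 4, 3, 2]), (271, 226, [0, 1, 0, 1, 3, 2, 1, 0, 1, 0, 3, 2, 1, 0, 3, 4, 3, 2]), (271, 237, [3, 2, 1, 0, 1, 0, 1, 0, 1, 3, 2, 1, 0, 1, 0, 3, 4, 3, 2]), (532, 298, [0, 1, 2, 3, 2, 0, 1, 4, 3, 2, 3]), (532, 184, [4, 3, 2, 1, 0, 1, 2, 3, 4, 0, 1, 2, 3, 0, 1, 4, 3, 2, 3]), (532, 149, [0, 1, 0, 1, 3, 2, 1, 0, 1, 0, 3, 2, 1, 0, 0, 1, 4, 3, 2, 3]), (532, 764, [3,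 2, 1, 0, 4, 3, 2, 1, 0, 1, 2, 3, 4, 2, 0, 1, 4, 3, 2, 3]), (532, 286, [0, 1, 3, 2, 3, 0, 1, 0, 4, 3, 2, 1, 0, 1, 2, 3, 4, 0, 1, 4, 3, 2, 3]), (532, 522, [0, 1, 3, 2, 3, 0, 1, 0, 4, 3, 2, 1, 0, 1, 2, 3, 4, 0, 1, 3, 2, 3, 0, 1, 0, 0, 1, 4, 3, 2, 3]), (653, 400, [3, 2, 1, 0, 1, 3, 2, 1, 0, 0, 4, 3, 2, 1, 0, 3, 2]), (653, 352, [3, 2, 1, 0, 1, 0, 1, 0, 1, 3, 2, 1, 0, 1, 0, 0, 4, 3, 2, 1, 0, 3, 2]), (761, 593, [3, 2, 1, 0, 3, 2, 1, 0, 0, 1, 3, 4, 3, 2, 3]), (761, 450, [0, 1, 3, 2, 3, 0, 1, 0, 2, 0, 1, 3, 4, 3, 2, 3]), (576, 205, [0, 1, 2, 3, 2, 0, 1, 2, 3, 0, 3, 4, 3, 2, 3]), (930, 282, [3, 2, 1, 0, 1, 3, 2, 1, 0, 0, 4, 3, 2, 1, 0, 3])]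

def highTree1 : List (ℕ × ℕ × List ℕ) := highTree1_0 ++ highTree1_1

def highCert : BlockCert := ⟨47, highPts, highMoves, [(76, [0], highTree0), (79, [4], highTree1)]⟩

end Cfsg.Agent.InvChar.Coset.SuzPrim
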