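import Cfsg.Agent.InvChar.Coset.SuzGTwoIso
import Cfsg.Agent.InvChar.Coset.SuzJTwo
import Cfsg.Agent.InvChar.Coset.SuzPrimData
import Cfsg.Agent.Lib.Chevalley.FieldAut

/-!
# An extremely primitive action of G2(4)
-/

set_option autoImplicit false
set_option linter.all false

noncomputable section

namespace Cfsg.Agent.InvChar.Coset.SuzPrim

open Cfsg.Agent.CosetCert SuzGTwo

theorem ok_big : BlockCert.ok Suz.table [0, 1, 2, 3, 4, 5] bigCert = true := by decide +kernel

theorem ok_low : BlockCert.ok Suz.table [0, 1, 2, 3, 4] lowCert = true := by decide +kernel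

theorem ok_high : BlockCert.ok Suz.table [0, 1, 2, 3, 4] highCert = true := by decide +kernel

theorem pts_cover : BlockCert.allIn bigPts (bigCert.base :: (lowPts ++ highPts)) = true := by decide +kernel

theorem base_facts : bigCert.base < Suz.table.n ∧ bigCert.base ∈ bigPts ∧ bigPts.length = 416 ∧
    (∀ y ∈ [0, 1, 2, 3, 4], Suz.table.run [y] bigCert.base = bigCert.base) ∧
    (∀ y ∈ [0, 1, 2, 3, 4, 5], y < Suz.table.C.K) := by decide +kernel

theorem gen_mem {y : ℕ} (hy : y < 6) : Suz.data.gen y ∈ H1 := by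
  have hS : ∀ y < 6, [y] ∈ Suz.table.C.S := by decide +kernel
  exact Subgroup.subset_closure ⟨[y], hS y hy, by simp [wprod]⟩

def gh (y : ℕ) : H1 := if hy : y < 6 then ⟨Suz.data.gen y, gen_mem hy⟩ else 1

theorem gh_coe {y : ℕ} (hy : y < 6) : (gh y : SuzG) = Suz.data.gen y := by rw [gh, dif_pos hy]

/-- The action on the rows. -/
def ψ : H1 →* Equiv.Perm (Fin Suz.table.n) := (Suz.data.hom Suz.checked).comp H1.subtype

theorem psi_gh {y : ℕ} (hy : y < 6) (c : Fin Suz.table.n) : (ψ (gh y) c : ℕ) = Suz.table.run [y] c := by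
  have hK : y < Suz.table.C.K := base_facts.2.2.2.2 y (by simp only [List.mem_cons, List.not_mem_nil, or_false]; omega)
  show (Suz.data.hom Suz.checked (gh y : SuzG) c : ℕ) = _
  rw [gh_coe hy, Suz.data.hom_gen, CosetCert.tau_apply Suz.checked hK]
  rfl

theorem six_of_mem : ∀ y ∈ [0, 1, 2, 3, 4, 5], y < 6 := by decide

theorem five_of_mem : ∀ y ∈ [0, 1, 2, 3, 4], y < 6 := by decide

theorem gen_H1 : Subgroup.closure (gh '' {y | y ∈ [0, 1, 2, 3, 4, 5]}) = ⊤ := by
  apply Subgroup.map_injective H1.subtype_injective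
  rw [MonoidHom.map_closure, ← MonoidHom.range_eq_map, Subgroup.range_subtype]
  conv_rhs => rw [H1]
  congr 1
  rw [← Set.image_comp]
  ext g
  constructor
  · rintro ⟨y, hy, rfl⟩
    have hS : ∀ y < 6, [y] ∈ Suz.table.C.S := by decide +kernel
    exact ⟨[y], hS y (six_of_mem y hy), by simp [wprod, gh_coe (six_of_mem y hy)]⟩
  · rintro ⟨w, hw, rfl⟩
    have hS : ∀ w ∈ Suz.table.C.S, ∃ y ∈ [0, 1, 2, 3, 4, 5], w = [y] := by decide +kernel
    obtain ⟨y, hy, rfl⟩ := hS w hw
    exact ⟨y, hy, by simp [wprod, gh_coe (six_of_mem y hy)]⟩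

/-- The subgroup generated by the first five generators. -/
def JS : Subgroup H1 := Subgroup.closure (gh '' {y | y ∈ [0, 1, 2, 3, 4]})

theorem JS_map : JS.map H1.subtype = SuzJTwo.HJ := by
  rw [JS, MonoidHom.map_closure, ← Set.image_comp, SuzJTwo.HJ, subg]
  congr 1
  exact Set.image_congr fun y hy => gh_coe (five_of_mem y hy)

def gj (y : ℕ) : JS := if hy : y ∈ [0, 1, 2, 3, 4] then ⟨gh y, Subgroup.subset_closure ⟨y, hy, rfl⟩⟩ else 1

theorem gj_coe {y : ℕ} (hy : y ∈ [0, 1, 2, 3, 4]) : (gj y : H1) = gh y := by rw [gj, dif_pos hy]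

theorem gen_JS : Subgroup.closure (gj '' {y | y ∈ [0, 1, 2, 3, 4]}) = ⊤ := by
  apply Subgroup.map_injective JS.subtype_injective
  rw [MonoidHom.map_closure, ← MonoidHom.range_eq_map, Subgroup.range_subtype]
  conv_rhs => rw [JS]
  congr 1
  rw [← Set.image_comp]
  exact Set.image_congr fun y hy => gj_coe hy

theorem nonempty_JS : Nonempty (JS ≃* Cfsg.Spor.J2) := by
  obtain ⟨i⟩ := SuzJTwo.exists_iso
  exact ⟨((JS.equivMapOfInjective H1.subtype H1.subtype_injective).trans (MulEquiv.subgroupCongr JS_map)).trans i⟩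

def c₀ : Fin Suz.table.n := ⟨bigCert.base, base_facts.1⟩

def Pt (c : Fin Suz.table.n) : Subgroup H1 := (MulAction.stabilizer (Equiv.Perm (Fin Suz.table.n)) c).comap ψ

theorem big_facts (c : Fin Suz.table.n) (hc : c.val ∈ bigPts) :
    IsCoatom (Pt c) ∧ (Pt c).index = 416 ∧ ∀ x : H1, (ψ x c).val ∈ bigPts := by
  haveI := finite_Suz
  obtain ⟨h1, h2, h3⟩ := BlockCert.facts ψ gh (fun y hy c => psi_gh (six_of_mem y hy) c) gen_H1 ok_big c hc
  exact ⟨h1, h2.trans base_facts.2.2.1, h3⟩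

theorem Pt_base : Pt c₀ = JS := by
  haveI := finite_Suz
  obtain ⟨-, hidx, -⟩ := big_facts c₀ base_facts.2.1
  have hcard := (Pt c₀).card_mul_index
  rw [hidx, card_H1] at hcard
  obtain ⟨i⟩ := nonempty_JS
  have hJ : Nat.card JS = 604800 := by rw [Nat.card_congr i.toEquiv, IcoLeech.card_J2]
  refine (Subgroup.eq_of_le_of_card_ge ?_ (by rw [hJ]; omega)).symm
  rw [JS, Subgroup.closure_le]
  rintro _ ⟨y, hy, rfl⟩
  show ψ (gh y) c₀ = c₀
  exact Fin.ext ((psi_gh (five_of_mem y hy) c₀).trans (base_facts.2.2.2.1 y hy))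

theorem two_point (x : H1) (hx : x ∉ Pt c₀) :
    IsCoatom ((Pt c₀ ⊓ (Pt c₀).map (MulAut.conj x).toMonoidHom).subgroupOf (Pt c₀)) := by
  haveI := finite_Suz
  set c := ψ x c₀ with hc
  have hmap : (Pt c₀).map (MulAut.conj x).toMonoidHom = Pt c := by
    ext y
    simp only [Subgroup.mem_map, MulEquiv.coe_toMonoidHom, MulAut.conj_apply, Pt, Subgroup.mem_comap,
      MulAction.mem_stabilizer_iff, Equiv.Perm.smul_def]
    constructor
    · rintro ⟨z, hz, rfl⟩
      rw [hc, ← Equiv.Perm.mul_apply, ← map_mul, inv_mul_cancel_right, map_mul, Equiv.Perm.mul_apply, hz]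
    · intro hy
      refine ⟨x⁻¹ * y * x, ?_, by group⟩
      rw [map_mul, map_mul, Equiv.Perm.mul_apply, Equiv.Perm.mul_apply, ← hc, hy, map_inv, hc,
        Equiv.Perm.inv_eq_iff_eq]
  rw [hmap, Subgroup.inf_subgroupOf_left]
  have hne : c.val ≠ bigCert.base := fun e => hx (show ψ x c₀ = c₀ from Fin.ext e)
  have hcb : c.val ∈ bigPts := (big_facts c₀ base_facts.2.1).2.2 x
  have hsmall : c.val ∈ lowPts ∨ c.val ∈ highPts := by
    rcases List.mem_cons.mp (BlockCert.allIn_spec pts_cover _ hcb) with e | e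
    · exact absurd e hne
    · exact List.mem_append.mp e
  have key : IsCoatom ((MulAction.stabilizer (Equiv.Perm (Fin Suz.table.n)) c).comap (ψ.comp JS.subtype)) := by
    have hψ : ∀ y ∈ [0, 1, 2, 3, 4], ∀ d : Fin Suz.table.n, ((ψ.comp JS.subtype) (gj y) d : ℕ) = Suz.table.run [y] d := by
      intro y hy d
      show (ψ (gj y : H1) d : ℕ) = _
      rw [gj_coe hy]
      exact psi_gh (five_of_mem y hy) d
    rcases hsmall with h | h
    · exact (BlockCert.facts (ψ.comp JS.subtype) gj hψ gen_JS ok_low c h).1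
    · exact (BlockCert.facts (ψ.comp JS.subtype) gj hψ gen_JS ok_high c h).1
  rw [Pt_base]
  exact key

theorem exists_group {G : Type*} [Group G] (e : H1 ≃* G) :
    ∃ H : Subgroup G, IsCoatom H ∧ Cfsg.Spor.IsoJ2 H ∧
      ∀ x : G, x ∉ H → IsCoatom ((H ⊓ H.map (MulAut.conj x).toMonoidHom).subgroupOf H) := by
  refine ⟨(Pt c₀).map e.toMonoidHom, ?_, ?_, fun x hx => ?_⟩
  · have := (OrderIso.isCoatom_iff e.mapSubgroup (Pt c₀)).mpr (big_facts c₀ base_facts.2.1).1
    exact this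
  · obtain ⟨i⟩ := nonempty_JS
    exact ⟨((Pt c₀).equivMapOfInjective e.toMonoidHom e.injective).symm.trans ((MulEquiv.subgroupCongr Pt_base).trans i)⟩
  · obtain ⟨x, rfl⟩ := e.surjective x
    have hx' : x ∉ Pt c₀ := fun h => hx (Subgroup.mem_map_of_mem _ h)
    have hconj : ((Pt c₀).map e.toMonoidHom).map (MulAut.conj (e x)).toMonoidHom =
        ((Pt c₀).map (MulAut.conj x).toMonoidHom).map e.toMonoidHom := by
      rw [Subgroup.map_map, Subgroup.map_map]
      congr 1
      ext y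
      simp
    rw [hconj, ← Subgroup.map_inf _ _ _ e.injective]
    have h := two_point x hx'
    set f := (Pt c₀).equivMapOfInjective e.toMonoidHom e.injective
    have hf : ((Pt c₀ ⊓ (Pt c₀).map (MulAut.conj x).toMonoidHom).map e.toMonoidHom).subgroupOf
        ((Pt c₀).map e.toMonoidHom) =
        ((Pt c₀ ⊓ (Pt c₀).map (MulAut.conj x).toMonoidHom).subgroupOf (Pt c₀)).map f.toMonoidHom := by
      ext ⟨y, hy⟩
      simp only [Subgroup.mem_subgroupOf, Subgroup.mem_map, MulEquiv.coe_toMonoidHom]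
      constructor
      · rintro ⟨z, hz, rfl⟩
        exact ⟨⟨z, hz.1⟩, hz, Subtype.ext rfl⟩
      · rintro ⟨z, hz, hzy⟩
        exact ⟨z, hz, congrArg Subtype.val hzy⟩
    rw [hf]
    exact (OrderIso.isCoatom_iff f.mapSubgroup _).mpr h

theorem transfer {F : Type*} [Field F] [Fintype F] (hF : Fintype.card F = 4) :
    Nonempty (H1 ≃* Cfsg.Lie.chevG2.group F) := by
  obtain ⟨i⟩ := SuzGTwo.nonempty_iso
  have f : FF ≃+* F := FiniteField.ringEquivOfCardEq (by rw [hF, FF.card])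
  refine ⟨i.trans
    { toFun := fun g => ⟨Cfsg.Agent.Chevalley.FieldAut.mapGL Cfsg.Lie.chevG2 f.toRingHom g,
        Cfsg.Agent.Chevalley.FieldAut.map_mem_group f.toRingHom g.2⟩
      invFun := fun g => ⟨Cfsg.Agent.Chevalley.FieldAut.mapGL Cfsg.Lie.chevG2 f.symm.toRingHom g,
        Cfsg.Agent.Chevalley.FieldAut.map_mem_group f.symm.toRingHom g.2⟩
      left_inv := fun g => Subtype.ext (Units.ext (Matrix.ext fun a b => f.symm_apply_apply _))
      right_inv := fun g => Subtype.ext (Units.ext (Matrix.ext fun a b => f.apply_symm_apply _))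
      map_mul' := fun g h => Subtype.ext
        (map_mul (Cfsg.Agent.Chevalley.FieldAut.mapGL Cfsg.Lie.chevG2 f.toRingHom) (g : GL Cfsg.Lie.chevG2.Idx FF) h) }⟩

theorem exists_extremely_primitive {F : Type*} [Field F] [Fintype F] (hF : Fintype.card F = 4) :
    ∃ H : Subgroup (Cfsg.Lie.chevG2.group F), IsCoatom H ∧ Cfsg.Spor.IsoJ2 H ∧
      ∀ x : Cfsg.Lie.chevG2.group F, x ∉ H → IsCoatom ((H ⊓ H.map (MulAut.conj x).toMonoidHom).subgroupOf H) := by
  obtain ⟨e⟩ := transfer hF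
  exact exists_group e

end Cfsg.Agent.InvChar.Coset.SuzPrim
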