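import Cfsg.Agent.Lib.CosetCert.Finish

/-!
# Permutations stored in trees of blocks of 128 images

A list of numbers names a product of stored permutations, first number acting first.
-/

set_option autoImplicit false
set_option linter.all false

noncomputable section

namespace Cfsg.Agent.InvChar.Coset.TreePerm

open Cfsg.Agent.CosetCert

/-- The image of a point. -/
def rd (p : Tree) (c : ℕ) : ℕ :=
  Nat.land (Nat.shiftRight (p.get (Nat.shiftRight c 7)) (Nat.mul 20 (Nat.land c 127))) 1048575

def nthT (l : List Tree) : ℕ → Tree :=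
  List.rec (motive := fun _ => ℕ → Tree) (fun _ => .leaf 0)
    (fun a _ ih i => Bool.rec (motive := fun _ => Tree) (ih (Nat.sub i 1)) a (Nat.beq i 0)) l

/-- Follow a list of numbers. -/
def seqN (ps : List Tree) (w : List ℕ) : ℕ → ℕ :=
  List.rec (motive := fun _ => ℕ → ℕ) (fun c => c) (fun y _ ih c => ih (rd (nthT ps y) c)) w

def allBlt (ps : List Tree) (n c : ℕ) : List ℕ → Bool
  | [] => true
  | y :: l => Nat.blt (rd (nthT ps y) c) n && allBlt ps n c l

def allEq (ps : List Tree) (c : ℕ) : List (List ℕ × List ℕ) → Bool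
  | [] => true
  | e :: l => Nat.beq (seqN ps e.1 c) (seqN ps e.2 c) && allEq ps c l

def scanR (f : ℕ → Bool) : ℕ → ℕ → Bool
  | _, 0 => true
  | a, m + 1 => f a && scanR f (Nat.succ a) m

theorem scanR_spec (f : ℕ → Bool) : ∀ m a, scanR f a m = true → ∀ c, a ≤ c → c < a + m → f c = true
  | 0, a, _, c, h1, h2 => absurd h2 (by omega)
  | m + 1, a, h, c, h1, h2 => by
    simp only [scanR, Bool.and_eq_true] at h
    rcases Nat.eq_or_lt_of_le h1 with e | e
    · exact e ▸ h.1
    · exact scanR_spec f m (Nat.succ a) h.2 c (by omega) (by omega)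

theorem scan_zero (f : ℕ → Bool) : ∀ c < 0, f c = true := fun c hc => absurd hc (by omega)

theorem scan_add {f : ℕ → Bool} (a m : ℕ) (h : ∀ c < a, f c = true) (h' : scanR f a m = true) :
    ∀ c < a + m, f c = true := fun c hc => (Nat.lt_or_ge c a).elim (h c) fun ha => scanR_spec f m a h' c ha hc

theorem allBlt_spec {ps : List Tree} {n c : ℕ} : ∀ {l : List ℕ}, allBlt ps n c l = true →
    ∀ y ∈ l, rd (nthT ps y) c < n
  | [], _, y, hy => by simp at hy
  | z :: l, h, y, hy => by
    simp only [allBlt, Bool.and_eq_true] at h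
    rcases List.mem_cons.mp hy with rfl | hy
    · simpa [Nat.blt] using h.1
    · exact allBlt_spec h.2 y hy

theorem allEq_spec {ps : List Tree} {c : ℕ} : ∀ {l : List (List ℕ × List ℕ)}, allEq ps c l = true →
    ∀ e ∈ l, seqN ps e.1 c = seqN ps e.2 c
  | [], _, e, he => by simp at he
  | d :: l, h, e, he => by
    simp only [allEq, Bool.and_eq_true] at h
    rcases List.mem_cons.mp he with rfl | he
    · exact Nat.eq_of_beq_eq_true h.1
    · exact allEq_spec h.2 e he

variable {ps : List Tree} {n K : ℕ}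

/-- The stored lists carry the first `n` numbers into themselves. -/
def Below (ps : List Tree) (n K : ℕ) : Prop := ∀ y < K, ∀ c < n, rd (nthT ps y) c < n

theorem seqN_cons (y : ℕ) (w : List ℕ) (c : ℕ) : seqN ps (y :: w) c = seqN ps w (rd (nthT ps y) c) := rfl

theorem seqN_nil (c : ℕ) : seqN ps [] c = c := rfl

theorem seqN_append : ∀ (u w : List ℕ) (c : ℕ), seqN ps (u ++ w) c = seqN ps w (seqN ps u c)
  | [], w, c => rfl
  | y :: u, w, c => seqN_append u w _

theorem seqN_lt (h : Below ps n K) : ∀ (w : List ℕ), (∀ y ∈ w, y < K) → ∀ c < n, seqN ps w c < n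
  | [], _, c, hc => hc
  | y :: w, hw, c, hc =>
    seqN_lt h w (fun z hz => hw z (List.mem_cons_of_mem _ hz)) _ (h y (hw y List.mem_cons_self) c hc)

/-- Two lists give the same map. -/
def Same (ps : List Tree) (n : ℕ) (a b : List ℕ) : Prop := ∀ c < n, seqN ps a c = seqN ps b c

theorem Same.app (h : Below ps n K) {a b a' b' : List ℕ} (ha : ∀ y ∈ a, y < K) (h1 : Same ps n a b)
    (h2 : Same ps n a' b') : Same ps n (a ++ a') (b ++ b') := fun c hc => by
  rw [seqN_append, seqN_append, ← h1 c hc, h2 _ (seqN_lt h a ha c hc)]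

theorem Same.trans {a b c : List ℕ} (h1 : Same ps n a b) (h2 : Same ps n b c) : Same ps n a c :=
  fun x hx => (h1 x hx).trans (h2 x hx)

theorem Same.symm {a b : List ℕ} (h1 : Same ps n a b) : Same ps n b a := fun x hx => (h1 x hx).symm

theorem Same.rep (h : Below ps n K) {a b : List ℕ} (ha : ∀ y ∈ a, y < K) (h1 : Same ps n a b) :
    ∀ k, Same ps n (List.replicate k a).flatten (List.replicate k b).flatten
  | 0 => fun _ _ => rfl
  | k + 1 => by
    rw [List.replicate_succ, List.replicate_succ, List.flatten_cons, List.flatten_cons]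
    exact Same.app h ha h1 (Same.rep h ha h1 k)

/-- The permutation of a stored involution. -/
def perm (ps : List Tree) (n : ℕ) (y : ℕ) : Equiv.Perm (Fin n) :=
  if h : (∀ c < n, rd (nthT ps y) c < n) ∧ ∀ c < n, rd (nthT ps y) (rd (nthT ps y) c) = c then
    Function.Involutive.toPerm (fun c => ⟨rd (nthT ps y) c, h.1 c c.2⟩) (fun c => Fin.ext (h.2 c c.2))
  else 1

theorem perm_sq (y : ℕ) : perm ps n y * perm ps n y = 1 := by
  unfold perm
  split
  · next h => exact Equiv.ext fun c => Fin.ext (h.2 c c.2)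
  · exact one_mul 1

theorem perm_apply (hb : Below ps n K) {k : ℕ} (hk : k ≤ K) (hi : ∀ y < k, Same ps n [y, y] []) {y : ℕ} (hy : y < k)
    (c : Fin n) : (perm ps n y c : ℕ) = rd (nthT ps y) c := by
  rw [perm, dif_pos ⟨hb y (hy.trans_le hk), fun c hc => hi y hy c hc⟩]
  rfl

theorem wprod_perm (hb : Below ps n K) {k : ℕ} (hk : k ≤ K) (hi : ∀ y < k, Same ps n [y, y] []) :
    ∀ (w : List ℕ), (∀ y ∈ w, y < k) → ∀ c : Fin n, (wprod (perm ps n) w c : ℕ) = seqN ps w c
  | [], _, c => rfl
  | y :: w, hw, c => by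
    rw [wprod, Equiv.Perm.mul_apply, wprod_perm hb hk hi w (fun z hz => hw z (List.mem_cons_of_mem _ hz)),
      perm_apply hb hk hi (hw y List.mem_cons_self), seqN_cons]

theorem wprod_of_same (hb : Below ps n K) {k : ℕ} (hk : k ≤ K) (hi : ∀ y < k, Same ps n [y, y] []) {a b : List ℕ}
    (ha : ∀ y ∈ a, y < k) (hc : ∀ y ∈ b, y < k) (h : Same ps n a b) :
    wprod (perm ps n) a = wprod (perm ps n) b :=
  Equiv.ext fun c => Fin.ext (by rw [wprod_perm hb hk hi a ha, wprod_perm hb hk hi b hc, h c c.2])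

end Cfsg.Agent.InvChar.Coset.TreePerm
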